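import Mathlib

set_option autoImplicit false

namespace Cfsg.Agent.Lib.H11

open Module LinearMap LinearMap.BilinForm

/-- A finite-dimensional vector space carrying a nondegenerate alternating bilinear form has even
dimension. -/
theorem even_finrank_of_nondegenerate_isAlt {K : Type*} [Field K] :
    ∀ (n : ℕ) {V : Type*} [AddCommGroup V] [Module K V] [FiniteDimensional K V]
      (B : LinearMap.BilinForm K V), B.IsAlt → B.Nondegenerate → finrank K V = n → Even n := by
  intro n
  induction n using Nat.strong_induction_on with
  | _ n ih =>
    intro V _ _ _ B hAlt hnd hn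
    rcases Nat.eq_zero_or_pos n with rfl | hpos
    · exact ⟨0, rfl⟩
    -- pick u ≠ 0
    have hpos' : 0 < finrank K V := hn ▸ hpos
    obtain ⟨u, hu⟩ : ∃ u : V, u ≠ 0 := by
      have := (Module.finrank_pos_iff_exists_ne_zero (R := K) (M := V)).1 hpos'
      exact this
    have hrefl : B.IsRefl := hAlt.isRefl
    obtain ⟨v, hv⟩ : ∃ v : V, B u v ≠ 0 := by
      by_contra hcon
      push Not at hcon
      exact hu (hnd.1 u hcon)
    have huu : B u u = 0 := hAlt u
    have hvv : B v v = 0 := hAlt v
    have hvu : B v u = - B u v := hAlt.neg_eq u v ▸ by simp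
    set H : Submodule K V := Submodule.span K {u, v} with hH
    have huH : u ∈ H := Submodule.subset_span (by simp)
    have hvH : v ∈ H := Submodule.subset_span (by simp)
    -- H ∩ H^⊥ = 0
    have hdisj : Disjoint H (B.orthogonal H) := by
      rw [Submodule.disjoint_def]
      intro x hxH hxO
      obtain ⟨a, b, rfl⟩ := Submodule.mem_span_pair.1 hxH
      have h1 : B u (a • u + b • v) = 0 := (mem_orthogonal_iff.1 hxO) u huH
      have h2 : B v (a • u + b • v) = 0 := (mem_orthogonal_iff.1 hxO) v hvH
      simp only [map_add, map_smul, smul_eq_mul, huu, hvv, mul_zero, zero_add, add_zero] at h1 h2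
      have hb : b = 0 := by
        rcases mul_eq_zero.1 h1 with h | h
        · exact h
        · exact absurd h hv
      have ha : a = 0 := by
        rw [hvu] at h2
        rcases mul_eq_zero.1 h2 with h | h
        · exact h
        · exact absurd (neg_eq_zero.1 h) hv
      rw [ha, hb, zero_smul, zero_smul, add_zero]
    -- finrank H = 2
    have hli : LinearIndependent K ![u, v] := by
      rw [LinearIndependent.pair_iff]
      intro a b hab
      have h1 : B u (a • u + b • v) = 0 := by rw [hab, map_zero]
      have h2 : B v (a • u + b • v) = 0 := by rw [hab, map_zero]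
      simp only [map_add, map_smul, smul_eq_mul, huu, hvv, mul_zero, zero_add, add_zero] at h1 h2
      constructor
      · rw [hvu] at h2
        rcases mul_eq_zero.1 h2 with h | h
        · exact h
        · exact absurd (neg_eq_zero.1 h) hv
      · rcases mul_eq_zero.1 h1 with h | h
        · exact h
        · exact absurd h hv
    have hfH : finrank K H = 2 := by
      have := finrank_span_eq_card hli
      rw [Fintype.card_fin] at this
      have hr : Set.range ![u, v] = {u, v} := by
        simp [Matrix.range_cons, Set.pair_comm]
      rw [hr] at this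
      rw [hH]
      exact this
    -- the orthogonal complement
    set W : Submodule K V := B.orthogonal H with hW
    have hfW : finrank K W = n - 2 := by
      rw [hW, finrank_orthogonal hnd H, hfH, hn]
    have hWW : B.orthogonal W = H := orthogonal_orthogonal hnd hrefl H
    have hdisjW : Disjoint W (B.orthogonal W) := by
      rw [hWW]
      exact hdisj.symm
    have hndW : (B.restrict W).Nondegenerate :=
      nondegenerate_restrict_of_disjoint_orthogonal B hrefl hdisjW
    have hAltW : (B.restrict W).IsAlt := by
      intro x
      exact hAlt x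
    have hle : 2 ≤ n := by
      have := Submodule.finrank_le H
      rw [hfH, hn] at this
      exact this
    have hev : Even (n - 2) := ih (n - 2) (by omega) (B.restrict W) hAltW hndW hfW
    obtain ⟨k, hk⟩ := hev
    exact ⟨k + 1, by omega⟩

/-- An alternating square matrix over a field (one with `v ⬝ᵥ T *ᵥ v = 0` for every `v`) has even rank. -/
theorem even_rank_of_alternating {K : Type*} [Field K] {ι : Type*} [Fintype ι] [DecidableEq ι]
    (T : Matrix ι ι K) (h : ∀ v : ι → K, v ⬝ᵥ (T.mulVec v) = 0) : Even T.rank := by
  set B : LinearMap.BilinForm K (ι → K) := Matrix.toBilin' T with hB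
  have hBapp : ∀ u v, B u v = u ⬝ᵥ (T.mulVec v) := fun u v => Matrix.toBilin'_apply' T u v
  have hAlt : B.IsAlt := fun v => by rw [hBapp]; exact h v
  obtain ⟨W, hW⟩ := Submodule.exists_isCompl (LinearMap.ker T.mulVecLin)
  have hfin : finrank K W = T.rank := by
    have h1 := Submodule.finrank_add_eq_of_isCompl hW
    have h2 := LinearMap.finrank_range_add_finrank_ker T.mulVecLin
    rw [Matrix.rank]
    omega
  have hAltW : (B.restrict W).IsAlt := fun x => hAlt x
  have hndW : (B.restrict W).Nondegenerate := by
    refine (LinearMap.IsRefl.nondegenerate_iff_separatingLeft hAltW.isRefl).2 ?_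
    intro x hx
    have hxv : ∀ v : ι → K, B x v = 0 := by
      intro v
      have hv : v ∈ LinearMap.ker T.mulVecLin ⊔ W := by rw [hW.sup_eq_top]; trivial
      obtain ⟨k, hk, w, hw, rfl⟩ := Submodule.mem_sup.1 hv
      have h1 : B x w = 0 := hx ⟨w, hw⟩
      have h2 : B x k = 0 := by
        rw [hBapp]
        have : T.mulVec k = 0 := hk
        rw [this, dotProduct_zero]
      rw [map_add, h1, h2, add_zero]
    have hvx : ∀ v : ι → K, B v x = 0 := fun v => hAlt.isRefl _ _ (hxv v)
    have hTx : T.mulVec (x : ι → K) = 0 := by
      apply dotProduct_eq_zero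
      intro v
      rw [dotProduct_comm]
      rw [← hBapp]
      exact hvx v
    have hxK : (x : ι → K) ∈ LinearMap.ker T.mulVecLin := hTx
    have : (x : ι → K) ∈ LinearMap.ker T.mulVecLin ⊓ W := ⟨hxK, x.2⟩
    rw [hW.inf_eq_bot] at this
    exact Subtype.ext this
  rw [← hfin]
  exact even_finrank_of_nondegenerate_isAlt _ (B.restrict W) hAltW hndW rfl

end Cfsg.Agent.Lib.H11
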