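/-
Aschbacher's theorem, SYMPLECTIC case (S5662 project): class-by-class predicates.  (helper11)
`f` is any symplectic form on `ι → F` (`IsSymplecticForm f`); the isometry group is
`{g | f (g u) (g v) = f u v}`; every predicate says `H ≤ X` for the GL-level member `X`
(the class member is `X ⊓ I`).  The index type `ι` is arbitrary: the modules of the farm-out are
proved for `ι = Fin n`, the statement S5662 lives on `ι = Fin m ⊕ Fin m`, and module ST0 transports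
every predicate along `glReindex e`.
-/
import Cfsg.Agent.Lib.Lead.AschDefs2

set_option autoImplicit false

namespace Cfsg.Agent.Lib.H11.AschS

open Cfsg Cfsg.Geo Cfsg.Agent.Lib.Lead.Asch
open scoped MatrixGroups Matrix Kronecker

variable {ι : Type} [Fintype ι] [DecidableEq ι] {F : Type*} [Field F] [Fintype F]

/-- class 1, totally singular subspace -/
def SC1a (f : (ι → F) → (ι → F) → F) (H : Subgroup (GL ι F)) : Prop :=
  ∃ W : Submodule F (ι → F), W ≠ ⊥ ∧ IsTotallySingularFor f W ∧ H ≤ subspaceStabilizer W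

/-- class 1, non-degenerate subspace of dimension less than half the dimension -/
def SC1b (f : (ι → F) → (ι → F) → F) (H : Subgroup (GL ι F)) : Prop :=
  ∃ W : Submodule F (ι → F), W ≠ ⊥ ∧ IsNondegenerateOn f W ∧
    2 * Module.finrank F W < Fintype.card ι ∧ H ≤ subspaceStabilizer W

/-- class 2, non-degenerate decomposition -/
def SC2a (f : (ι → F) → (ι → F) → F) (H : Subgroup (GL ι F)) : Prop :=
  ∃ (t k : ℕ) (D : Fin t → Submodule F (ι → F)), IsNondegenerateMDecomposition f k D ∧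
    H ≤ decompositionStabilizer D

/-- class 2, a pair of complementary totally singular subspaces, `q` odd -/
def SC2b (f : (ι → F) → (ι → F) → F) (H : Subgroup (GL ι F)) : Prop :=
  ∃ (k : ℕ) (D : Fin 2 → Submodule F (ι → F)), Odd (Fintype.card F) ∧ 2 * k = Fintype.card ι ∧
    IsMDecomposition k D ∧ (∀ i, IsTotallySingularFor f (D i)) ∧ H ≤ decompositionStabilizer D

/-- class 3, self-adjoint field of prime degree (symplectic type over the extension field) -/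
def SC3a (f : (ι → F) → (ι → F) → F) (H : Subgroup (GL ι F)) : Prop :=
  ∃ (r : ℕ) (K : Subalgebra F (Matrix ι ι F)), r.Prime ∧ IsFieldSubalgebra r K ∧
    IsSelfAdjointFor f K ∧ (∀ k ∈ K, ∀ v, f (k *ᵥ v) v = 0) ∧ H ≤ subalgebraNormalizer K

/-- class 3, degree 2, adjoint-closed and not self-adjoint (unitary type), `q` odd -/
def SC3b (f : (ι → F) → (ι → F) → F) (H : Subgroup (GL ι F)) : Prop :=
  ∃ K : Subalgebra F (Matrix ι ι F), Odd (Fintype.card F) ∧ IsFieldSubalgebra 2 K ∧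
    IsAdjointClosedFor f K ∧ ¬ IsSelfAdjointFor f K ∧ H ≤ subalgebraNormalizer K

/-- class 4: symplectic ⊗ symmetric (dimension of the symmetric factor ≥ 3), `q` odd -/
def SC4 (f : (ι → F) → (ι → F) → F) (H : Subgroup (GL ι F)) : Prop :=
  ∃ (n₁ n₂ : ℕ) (e : ι ≃ Fin n₁ × Fin n₂) (P : GL ι F)
    (f₁ : (Fin n₁ → F) → (Fin n₁ → F) → F) (f₂ : (Fin n₂ → F) → (Fin n₂ → F) → F),
    Odd (Fintype.card F) ∧ 3 ≤ n₂ ∧ IsSymplecticForm f₁ ∧ IsSymmetricForm f₂ ∧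
    IsTensorFormStructure id f f₁ f₂ e P ∧ H ≤ tensorProductSubgroup n₁ n₂ e P

/-- class 5 -/
def SC5 (f : (ι → F) → (ι → F) → F) (H : Subgroup (GL ι F)) : Prop :=
  ∃ (F₀ : Subfield F) (r : ℕ) (P : GL ι F) (ζ : F), r.Prime ∧
    Fintype.card F = Nat.card F₀ ^ r ∧ ζ ≠ 0 ∧ IsFormRationalStructure f F₀ ζ P ∧
    H ≤ subfieldSubgroup F₀ P

/-- class 6 (with the extra information that commutators of `R` are scalar) -/
def SC6 (f : (ι → F) → (ι → F) → F) (H : Subgroup (GL ι F)) : Prop :=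
  ∃ (R : Subgroup (GL ι F)) (p k : ℕ), IsSymplecticTypeGroup 2 R ∧
    ActsAbsolutelyIrreducibly (matrixSet R) ∧ R ≤ similarityGroup f ∧ p.Prime ∧ Odd p ∧
    Fintype.card F = p ∧ Nat.card R = 2 ^ (1 + 2 * k) ∧ Nat.card (Subgroup.center R) = 2 ∧
    IsOfMinusType k R ∧ (∀ x ∈ R, ∀ y ∈ R, x * y * x⁻¹ * y⁻¹ ∈ scalars ι F) ∧
    H ≤ subgroupNormalizer R

/-- class 7: odd tensor power of a symplectic form, `q` odd -/
def SC7 (f : (ι → F) → (ι → F) → F) (H : Subgroup (GL ι F)) : Prop :=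
  ∃ (k t : ℕ) (e : ι ≃ (Fin t → Fin k)) (P : GL ι F) (f₁ : (Fin k → F) → (Fin k → F) → F),
    Odd (Fintype.card F) ∧ Odd t ∧ 3 ≤ t ∧ ¬ (Fintype.card F = 3 ∧ k = 2) ∧ IsSymplecticForm f₁ ∧
    IsTensorPowerFormStructure id f f₁ e P ∧ H ≤ tensorWreathSubgroup k t e P

/-- class 8: `q` even, a quadratic form polarising to `f` -/
def SC8 (f : (ι → F) → (ι → F) → F) (H : Subgroup (GL ι F)) : Prop :=
  ∃ Q : (ι → F) → F, ¬ Odd (Fintype.card F) ∧ IsNondegenerateQuadraticForm Q ∧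
    (∀ u v, QuadraticMap.polar Q u v = f u v) ∧ H ≤ quadSimilarityGroup Q

/-- `H` lies in a member of a geometric class of the symplectic group, class by class. -/
def STameS (f : (ι → F) → (ι → F) → F) (H : Subgroup (GL ι F)) : Prop :=
  SC1a f H ∨ SC1b f H ∨ SC2a f H ∨ SC2b f H ∨ SC3a f H ∨ SC3b f H ∨ SC4 f H ∨ SC5 f H ∨ SC6 f H ∨
    SC7 f H ∨ SC8 f H

/-- On `Fin m ⊕ Fin m` with the standard form the predicates give members of `InSymplecticClass`. -/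
theorem STameS.tame {m : ℕ} {H : Subgroup (GL (Fin m ⊕ Fin m) F)} (hH : H ≤ spGL m F)
    (h : STameS (sympForm m F) H) :
    ∃ M : Subgroup (GL (Fin m ⊕ Fin m) F), InSymplecticClass m F M ∧ H ≤ M := by
  rcases h with h | h | h | h | h | h | h | h | h | h | h
  · obtain ⟨W, h1, h2, h3⟩ := h
    exact ⟨_, Or.inl (Or.inl ⟨W, h1, h2, rfl⟩), le_inf h3 hH⟩
  · obtain ⟨W, h1, h2, h3, h4⟩ := h
    refine ⟨_, Or.inl (Or.inr (Or.inl ⟨W, h1, h2, ?_, rfl⟩)), le_inf h4 hH⟩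
    rw [Fintype.card_sum, Fintype.card_fin] at h3
    omega
  · obtain ⟨t, k, D, h1, h2⟩ := h
    exact ⟨_, Or.inl (Or.inr (Or.inr (Or.inl ⟨t, k, D, h1, rfl⟩))), le_inf h2 hH⟩
  · obtain ⟨k, D, h1, h2, h3, h4, h5⟩ := h
    have hk : k = m := by
      rw [Fintype.card_sum, Fintype.card_fin] at h2
      omega
    subst hk
    exact ⟨_, Or.inl (Or.inr (Or.inr (Or.inr (Or.inl ⟨D, h1, h3, h4, rfl⟩)))), le_inf h5 hH⟩
  · obtain ⟨r, K, h1, h2, h3, h4, h5⟩ := h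
    exact ⟨_, Or.inr (Or.inl ⟨r, K, h1, h2, h3, h4, rfl⟩), le_inf h5 hH⟩
  · obtain ⟨K, h1, h2, h3, h4, h5⟩ := h
    exact ⟨_, Or.inr (Or.inr (Or.inl ⟨K, h1, h2, h3, h4, rfl⟩)), le_inf h5 hH⟩
  · obtain ⟨n₁, n₂, e, P, f₁, f₂, h1, h2, h3, h4, h5, h6⟩ := h
    exact ⟨_, Or.inr (Or.inr (Or.inr (Or.inl ⟨n₁, n₂, e, P, f₁, f₂, h1, h2, h3, h4, h5, rfl⟩))),
      le_inf h6 hH⟩
  · obtain ⟨F₀, r, P, ζ, h1, h2, h3, h4, h5⟩ := h
    exact ⟨_, Or.inl (Or.inr (Or.inr (Or.inr (Or.inr (Or.inl ⟨F₀, r, P, ζ, h1, h2, h3, h4, rfl⟩))))),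
      le_inf h5 hH⟩
  · obtain ⟨R, p, k, h1, h2, h3, h4, h5, h6, h7, h8, h9, _, h11⟩ := h
    exact ⟨_, Or.inl (Or.inr (Or.inr (Or.inr (Or.inr (Or.inr (Or.inl
      ⟨R, p, k, h1, h2, h3, h4, h5, h6, h7, h8, h9, rfl⟩)))))), le_inf h11 hH⟩
  · obtain ⟨k, t, e, P, f₁, h1, h2, h3, h4, h5, h6, h7⟩ := h
    exact ⟨_, Or.inr (Or.inr (Or.inr (Or.inr ⟨k, t, e, P, f₁, h1, h2, h3, h4, h5, h6, rfl⟩))),
      le_inf h7 hH⟩
  · obtain ⟨Q, h1, h2, h3, h4⟩ := h
    exact ⟨_, Or.inl (Or.inr (Or.inr (Or.inr (Or.inr (Or.inr (Or.inr ⟨Q, h1, h2, h3, rfl⟩)))))),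
      le_inf h4 hH⟩

/-- a form on `ι' → F` transported to `ι → F` along `e : ι' ≃ ι` -/
def reF {ι' : Type} (e : ι' ≃ ι) (f' : (ι' → F) → (ι' → F) → F) (u v : ι → F) : F :=
  f' (u ∘ e) (v ∘ e)

/-- a subgroup of `GL ι' F` transported to `GL ι F` along `e : ι' ≃ ι` -/
def reH {ι' : Type} [Fintype ι'] [DecidableEq ι'] (e : ι' ≃ ι) (H : Subgroup (GL ι' F)) :
    Subgroup (GL ι F) :=
  H.map (glReindex e).toMonoidHom

end Cfsg.Agent.Lib.H11.AschS
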