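/-
S5662 project, module ST0 (transport along a bijection of index types), part a: basics and the classes 1, 2.  (helper11)
-/
import Cfsg.Agent.Lib.H11.AschSDefs

set_option autoImplicit false
set_option linter.unusedSectionVars false

namespace Cfsg.Agent.Lib.H11.AschS

open Cfsg Cfsg.Geo Cfsg.Agent.Lib.Lead.Asch
open scoped MatrixGroups Matrix Kronecker

variable {F : Type*} [Field F]
variable {ι ι' : Type} [Fintype ι] [DecidableEq ι] [Fintype ι'] [DecidableEq ι']

theorem comp_symm_comp' (e : ι' ≃ ι) (z : ι' → F) : (z ∘ e.symm) ∘ e = z := by funext i; simp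

theorem comp_comp_symm' (e : ι' ≃ ι) (z : ι → F) : (z ∘ e) ∘ e.symm = z := by funext i; simp

theorem glReindex_val' (e : ι' ≃ ι) (g : GL ι' F) :
    ((glReindex e g : GL ι F) : Matrix ι ι F) = Matrix.reindex e e (g : Matrix ι' ι' F) := rfl

theorem glReindex_mulVec' (e : ι' ≃ ι) (g : GL ι' F) (x : ι → F) :
    ((glReindex e g : GL ι F) : Matrix ι ι F) *ᵥ x = ((g : Matrix ι' ι' F) *ᵥ (x ∘ e)) ∘ e.symm := by
  rw [glReindex_val', Matrix.reindex_apply, Matrix.submatrix_mulVec_equiv]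
  rfl

theorem glReindex_mulVec_comp (e : ι' ≃ ι) (g : GL ι' F) (x : ι → F) :
    (((glReindex e g : GL ι F) : Matrix ι ι F) *ᵥ x) ∘ e = (g : Matrix ι' ι' F) *ᵥ (x ∘ e) := by
  rw [glReindex_mulVec', comp_symm_comp']

theorem glReindex_mulVec_symm (e : ι' ≃ ι) (g : GL ι' F) (x' : ι' → F) :
    ((glReindex e g : GL ι F) : Matrix ι ι F) *ᵥ (x' ∘ e.symm) =
      ((g : Matrix ι' ι' F) *ᵥ x') ∘ e.symm := by
  rw [glReindex_mulVec', comp_symm_comp']

theorem mem_reH [Fintype F] (e : ι' ≃ ι) (H : Subgroup (GL ι' F)) (g : GL ι' F) :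
    glReindex e g ∈ reH e H ↔ g ∈ H := by
  unfold reH
  constructor
  · rintro ⟨g', hg', h⟩
    have : g' = g := (glReindex (F := F) e).injective h
    rw [← this]; exact hg'
  · intro hg
    exact ⟨g, hg, rfl⟩

theorem mem_matrixSet_reH [Fintype F] (e : ι' ≃ ι) (H : Subgroup (GL ι' F)) (s : Matrix ι ι F)
    (hs : s ∈ matrixSet (reH e H)) :
    ∃ g ∈ H, s = ((glReindex e g : GL ι F) : Matrix ι ι F) := by
  obtain ⟨h, hh, rfl⟩ := hs
  obtain ⟨g, hg, rfl⟩ := hh
  exact ⟨g, hg, rfl⟩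

/-- **ST0-c** -/
theorem isSymplecticForm_reF [Fintype F] (e : ι' ≃ ι) (f' : (ι' → F) → (ι' → F) → F)
    (hf : IsSymplecticForm f') : IsSymplecticForm (reF e f') := by
  refine ⟨⟨?_, ?_, ?_, ?_⟩, ?_, ?_, ?_⟩
  · intro x y v; exact hf.bilinear.add_left _ _ _
  · intro c x v; exact hf.bilinear.smul_left _ _ _
  · intro v x y; exact hf.bilinear.add_right _ _ _
  · intro c v x; exact hf.bilinear.smul_right _ _ _
  · intro v w; exact hf.skew _ _
  · intro v; exact hf.alternating _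
  · intro v hv
    have hv' : v ∘ e ≠ 0 := by
      intro h
      apply hv
      funext i
      have := congrFun h (e.symm i)
      simpa using this
    obtain ⟨⟨x, hx⟩, ⟨y, hy⟩⟩ := hf.nondegenerate (v ∘ e) hv'
    refine ⟨⟨x ∘ e.symm, ?_⟩, ⟨y ∘ e.symm, ?_⟩⟩
    · unfold reF; rw [comp_symm_comp']; exact hx
    · unfold reF; rw [comp_symm_comp']; exact hy

/-- **ST0-d** -/
theorem fixesForm_reH [Fintype F] (e : ι' ≃ ι) (f' : (ι' → F) → (ι' → F) → F) (H : Subgroup (GL ι' F))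
    (hH : FixesForm (matrixSet H) f') : FixesForm (matrixSet (reH e H)) (reF e f') := by
  intro s hs u v
  obtain ⟨g, hg, rfl⟩ := mem_matrixSet_reH e H s hs
  unfold reF
  rw [glReindex_mulVec_comp, glReindex_mulVec_comp]
  exact hH _ ⟨g, hg, rfl⟩ _ _

/-- the pulled back subspace `{x' | x' ∘ e.symm ∈ W}` -/
def pbW (e : ι' ≃ ι) (W : Submodule F (ι → F)) : Submodule F (ι' → F) :=
  W.comap (LinearMap.funLeft F F e.symm)

theorem mem_pbW (e : ι' ≃ ι) (W : Submodule F (ι → F)) (x' : ι' → F) :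
    x' ∈ pbW e W ↔ x' ∘ e.symm ∈ W := Iff.rfl

theorem comp_mem_pbW (e : ι' ≃ ι) (W : Submodule F (ι → F)) (x : ι → F) :
    x ∘ e ∈ pbW e W ↔ x ∈ W := by
  rw [mem_pbW, comp_comp_symm']

theorem pbW_eq_map (e : ι' ≃ ι) (W : Submodule F (ι → F)) :
    pbW e W = W.map (LinearEquiv.funCongrLeft F F e).toLinearMap := by
  ext x'
  rw [mem_pbW, Submodule.mem_map]
  constructor
  · intro h
    refine ⟨x' ∘ e.symm, h, ?_⟩
    exact comp_symm_comp' e x'
  · rintro ⟨w, hw, rfl⟩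
    have : ((LinearEquiv.funCongrLeft F F e).toLinearMap w) ∘ e.symm = w := comp_comp_symm' e w
    rw [this]; exact hw

theorem pbW_ne_bot (e : ι' ≃ ι) (W : Submodule F (ι → F)) (hW : W ≠ ⊥) : pbW e W ≠ ⊥ := by
  obtain ⟨w, hwW, hw0⟩ := Submodule.exists_mem_ne_zero_of_ne_bot hW
  intro h
  have h1 : w ∘ e ∈ pbW e W := (comp_mem_pbW e W w).2 hwW
  rw [h, Submodule.mem_bot] at h1
  apply hw0
  funext i
  have := congrFun h1 (e.symm i)
  simpa using this

theorem finrank_pbW (e : ι' ≃ ι) (W : Submodule F (ι → F)) :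
    Module.finrank F (pbW e W) = Module.finrank F W := by
  rw [pbW_eq_map]
  exact LinearEquiv.finrank_map_eq (LinearEquiv.funCongrLeft F F e) W

theorem toLin'_glReindex' (e : ι' ≃ ι) (g : GL ι' F) (x : ι → F) :
    Matrix.toLin' ((glReindex e g : GL ι F) : Matrix ι ι F) x =
      (Matrix.toLin' (g : Matrix ι' ι' F) (x ∘ e)) ∘ e.symm := by
  rw [Matrix.toLin'_apply, Matrix.toLin'_apply]
  exact glReindex_mulVec' e g x

/-- images of pulled back subspaces -/
theorem map_pbW (e : ι' ≃ ι) (g : GL ι' F) (W W' : Submodule F (ι → F))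
    (h : W.map (Matrix.toLin' ((glReindex e g : GL ι F) : Matrix ι ι F)) = W') :
    (pbW e W).map (Matrix.toLin' (g : Matrix ι' ι' F)) = pbW e W' := by
  ext y'
  constructor
  · rintro ⟨x', hx', rfl⟩
    rw [mem_pbW, ← h]
    refine ⟨x' ∘ e.symm, hx', ?_⟩
    rw [toLin'_glReindex', comp_symm_comp']
  · intro hy'
    rw [mem_pbW, ← h] at hy'
    obtain ⟨x, hx, hxy⟩ := hy'
    refine ⟨x ∘ e, (comp_mem_pbW e W x).2 hx, ?_⟩
    rw [toLin'_glReindex'] at hxy
    have := congrArg (fun z : ι → F => z ∘ e) hxy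
    simp only [comp_symm_comp'] at this
    exact this

theorem mem_subspaceStabilizer_iff' (W : Submodule F (ι → F)) (g : GL ι F) :
    g ∈ subspaceStabilizer W ↔ ∀ v, v ∈ W ↔ (g : Matrix ι ι F) *ᵥ v ∈ W := Iff.rfl

theorem le_subspaceStabilizer_pbW [Fintype F] (e : ι' ≃ ι) (H : Subgroup (GL ι' F))
    (W : Submodule F (ι → F)) (h : reH e H ≤ subspaceStabilizer W) :
    H ≤ subspaceStabilizer (pbW e W) := by
  intro g hg
  have h1 := h ((mem_reH e H g).2 hg)
  rw [mem_subspaceStabilizer_iff'] at h1 ⊢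
  intro v'
  rw [mem_pbW, mem_pbW, h1 (v' ∘ e.symm), glReindex_mulVec_symm]

theorem le_decompositionStabilizer_pbW [Fintype F] (e : ι' ≃ ι) (H : Subgroup (GL ι' F)) {t : ℕ}
    (D : Fin t → Submodule F (ι → F)) (h : reH e H ≤ decompositionStabilizer D) :
    H ≤ decompositionStabilizer (fun i => pbW e (D i)) := by
  intro g hg
  obtain ⟨σ, hσ⟩ := h ((mem_reH e H g).2 hg)
  exact ⟨σ, fun i => map_pbW e g _ _ (hσ i)⟩

theorem isTotallySingularFor_pbW (e : ι' ≃ ι) (f' : (ι' → F) → (ι' → F) → F)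
    (W : Submodule F (ι → F)) (h : IsTotallySingularFor (reF e f') W) :
    IsTotallySingularFor f' (pbW e W) := by
  intro u hu v hv
  have := h (u ∘ e.symm) hu (v ∘ e.symm) hv
  unfold reF at this
  rwa [comp_symm_comp', comp_symm_comp'] at this

theorem isNondegenerateOn_pbW (e : ι' ≃ ι) (f' : (ι' → F) → (ι' → F) → F)
    (W : Submodule F (ι → F)) (h : IsNondegenerateOn (reF e f') W) :
    IsNondegenerateOn f' (pbW e W) := by
  intro w hw hw0
  have hw0' : w ∘ e.symm ≠ 0 := by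
    intro h0
    apply hw0
    funext i
    have := congrFun h0 (e i)
    simpa using this
  obtain ⟨⟨x, hx, hx2⟩, ⟨y, hy, hy2⟩⟩ := h (w ∘ e.symm) hw hw0'
  unfold reF at hx2 hy2
  rw [comp_symm_comp'] at hx2 hy2
  exact ⟨⟨x ∘ e, (comp_mem_pbW e W x).2 hx, hx2⟩, ⟨y ∘ e, (comp_mem_pbW e W y).2 hy, hy2⟩⟩

theorem areOrthogonalFor_pbW (e : ι' ≃ ι) (f' : (ι' → F) → (ι' → F) → F)
    (W W' : Submodule F (ι → F)) (h : AreOrthogonalFor (reF e f') W W') :
    AreOrthogonalFor f' (pbW e W) (pbW e W') := by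
  intro u hu v hv
  have := h (u ∘ e.symm) hu (v ∘ e.symm) hv
  unfold reF at this
  rwa [comp_symm_comp', comp_symm_comp'] at this

theorem isMDecomposition_pbW (e : ι' ≃ ι) {t k : ℕ} (D : Fin t → Submodule F (ι → F))
    (h : IsMDecomposition k D) : IsMDecomposition k (fun i => pbW e (D i)) := by
  have hmap : (fun i => pbW e (D i)) =
      fun i => (D i).map (LinearEquiv.funCongrLeft F F e).toLinearMap := by
    funext i; exact pbW_eq_map e (D i)
  refine ⟨h.two_le, h.pos, fun i => ?_, ?_, ?_⟩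
  · rw [finrank_pbW]; exact h.finrank_eq i
  · rw [hmap]
    exact h.indep.map_orderIso (Submodule.orderIsoMapComap (LinearEquiv.funCongrLeft F F e))
  · rw [hmap, ← Submodule.map_iSup, h.iSup_eq_top, Submodule.map_top, LinearEquiv.range]

theorem SC1a_reindex [Fintype F] (e : ι' ≃ ι) (f' : (ι' → F) → (ι' → F) → F) (H : Subgroup (GL ι' F))
    (h : SC1a (reF e f') (reH e H)) : SC1a f' H := by
  obtain ⟨W, h1, h2, h3⟩ := h
  exact ⟨pbW e W, pbW_ne_bot e W h1, isTotallySingularFor_pbW e f' W h2,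
    le_subspaceStabilizer_pbW e H W h3⟩

theorem SC1b_reindex [Fintype F] (e : ι' ≃ ι) (f' : (ι' → F) → (ι' → F) → F) (H : Subgroup (GL ι' F))
    (h : SC1b (reF e f') (reH e H)) : SC1b f' H := by
  obtain ⟨W, h1, h2, h3, h4⟩ := h
  refine ⟨pbW e W, pbW_ne_bot e W h1, isNondegenerateOn_pbW e f' W h2, ?_,
    le_subspaceStabilizer_pbW e H W h4⟩
  rw [finrank_pbW, Fintype.card_congr e]
  exact h3

theorem SC2a_reindex [Fintype F] (e : ι' ≃ ι) (f' : (ι' → F) → (ι' → F) → F) (H : Subgroup (GL ι' F))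
    (h : SC2a (reF e f') (reH e H)) : SC2a f' H := by
  obtain ⟨t, k, D, h1, h2⟩ := h
  refine ⟨t, k, fun i => pbW e (D i), ⟨isMDecomposition_pbW e D h1.decomp,
    fun i => isNondegenerateOn_pbW e f' _ (h1.nondegenerate i),
    fun i j hij => areOrthogonalFor_pbW e f' _ _ (h1.orthogonal i j hij)⟩,
    le_decompositionStabilizer_pbW e H D h2⟩

theorem SC2b_reindex [Fintype F] (e : ι' ≃ ι) (f' : (ι' → F) → (ι' → F) → F) (H : Subgroup (GL ι' F))
    (h : SC2b (reF e f') (reH e H)) : SC2b f' H := by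
  obtain ⟨k, D, h1, h2, h3, h4, h5⟩ := h
  refine ⟨k, fun i => pbW e (D i), h1, ?_, isMDecomposition_pbW e D h3,
    fun i => isTotallySingularFor_pbW e f' _ (h4 i), le_decompositionStabilizer_pbW e H D h5⟩
  rw [Fintype.card_congr e]; exact h2

end Cfsg.Agent.Lib.H11.AschS
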