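/-
S5662 project, module ST0 (transport along a bijection of index types), part b: the classes 3, 5, 8.  (helper11)
-/
import Cfsg.Agent.Lib.H11.AschST0a

set_option autoImplicit false
set_option linter.unusedSectionVars false

namespace Cfsg.Agent.Lib.H11.AschS

open Cfsg Cfsg.Geo Cfsg.Agent.Lib.Lead.Asch
open scoped MatrixGroups Matrix Kronecker

variable {F : Type*} [Field F]
variable {ι ι' : Type} [Fintype ι] [DecidableEq ι] [Fintype ι'] [DecidableEq ι']

/-! ### class 8 -/

/-- the pulled back one-argument form -/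
def pbQ (e : ι' ≃ ι) (Q : (ι → F) → F) (x' : ι' → F) : F := Q (x' ∘ e.symm)

theorem polar_pbQ (e : ι' ≃ ι) (Q : (ι → F) → F) (u' v' : ι' → F) :
    QuadraticMap.polar (pbQ e Q) u' v' = QuadraticMap.polar Q (u' ∘ e.symm) (v' ∘ e.symm) := rfl

theorem ne_zero_comp_symm (e : ι' ≃ ι) (v' : ι' → F) (hv : v' ≠ 0) : v' ∘ e.symm ≠ 0 := by
  intro h0
  apply hv
  funext i
  have := congrFun h0 (e i)
  simpa using this

theorem isNondegenerateQuadraticForm_pbQ (e : ι' ≃ ι) (Q : (ι → F) → F)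
    (hQ : IsNondegenerateQuadraticForm Q) : IsNondegenerateQuadraticForm (pbQ e Q) := by
  refine ⟨?_, ⟨?_, ?_, ?_, ?_⟩, ?_⟩
  · intro c v; exact hQ.smul c _
  · intro x y v; rw [polar_pbQ, polar_pbQ, polar_pbQ]; exact hQ.polar_bilinear.add_left _ _ _
  · intro c x v; rw [polar_pbQ, polar_pbQ]; exact hQ.polar_bilinear.smul_left _ _ _
  · intro v x y; rw [polar_pbQ, polar_pbQ, polar_pbQ]; exact hQ.polar_bilinear.add_right _ _ _
  · intro c v x; rw [polar_pbQ, polar_pbQ]; exact hQ.polar_bilinear.smul_right _ _ _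
  · intro v hv
    obtain ⟨⟨x, hx⟩, ⟨y, hy⟩⟩ := hQ.nondegenerate (v ∘ e.symm) (ne_zero_comp_symm e v hv)
    refine ⟨⟨x ∘ e, ?_⟩, ⟨y ∘ e, ?_⟩⟩
    · rw [polar_pbQ, comp_comp_symm']; exact hx
    · rw [polar_pbQ, comp_comp_symm']; exact hy

theorem SC8_reindex [Fintype F] (e : ι' ≃ ι) (f' : (ι' → F) → (ι' → F) → F) (H : Subgroup (GL ι' F))
    (h : SC8 (reF e f') (reH e H)) : SC8 f' H := by
  obtain ⟨Q, h1, h2, h3, h4⟩ := h
  refine ⟨pbQ e Q, h1, isNondegenerateQuadraticForm_pbQ e Q h2, ?_, ?_⟩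
  · intro u v
    rw [polar_pbQ, h3]
    unfold reF
    rw [comp_symm_comp', comp_symm_comp']
  · intro g hg
    obtain ⟨c, hc⟩ := h4 ((mem_reH e H g).2 hg)
    refine ⟨c, fun v => ?_⟩
    unfold pbQ
    rw [← glReindex_mulVec_symm, hc]

/-! ### class 5 -/

theorem glReindex_conj (e : ι' ≃ ι) (P' : GL ι' F) :
    (glReindex (F := F) e).toMonoidHom.comp (MulAut.conj P').toMonoidHom =
      (MulAut.conj (glReindex e P')).toMonoidHom.comp (glReindex (F := F) e).toMonoidHom := by
  ext g : 1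
  simp [MulAut.conj_apply]

theorem map_scalars (e : ι' ≃ ι) :
    (scalars ι' F).map (glReindex (F := F) e).toMonoidHom = scalars ι F := by
  unfold scalars
  rw [MonoidHom.map_range]
  congr 1
  ext c : 2
  show Matrix.reindex e e (Matrix.scalar ι' (c : F)) = Matrix.scalar ι (c : F)
  ext i j
  simp [Matrix.scalar_apply, Matrix.diagonal_apply]

theorem map_range_subfield (e : ι' ≃ ι) (F₀ : Subfield F) :
    ((Matrix.GeneralLinearGroup.map (n := ι') (F₀.subtype : F₀ →+* F)).range).map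
        (glReindex (F := F) e).toMonoidHom =
      (Matrix.GeneralLinearGroup.map (n := ι) (F₀.subtype : F₀ →+* F)).range := by
  rw [MonoidHom.map_range]
  have hcomp : (glReindex (F := F) e).toMonoidHom.comp
      (Matrix.GeneralLinearGroup.map (n := ι') (F₀.subtype : F₀ →+* F)) =
      (Matrix.GeneralLinearGroup.map (n := ι) (F₀.subtype : F₀ →+* F)).comp
        (glReindex (F := F₀) e).toMonoidHom := by
    ext g : 2
    rfl
  rw [hcomp, MonoidHom.range_comp]
  have : (glReindex (F := F₀) e).toMonoidHom.range = ⊤ :=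
    MonoidHom.range_eq_top.2 (glReindex (F := F₀) e).surjective
  rw [this, ← MonoidHom.range_eq_map]

theorem map_subfieldSubgroup (e : ι' ≃ ι) (F₀ : Subfield F) (P' : GL ι' F) :
    (subfieldSubgroup F₀ P').map (glReindex (F := F) e).toMonoidHom =
      subfieldSubgroup F₀ (glReindex e P') := by
  unfold subfieldSubgroup
  rw [Subgroup.map_map, glReindex_conj, ← Subgroup.map_map, Subgroup.map_sup, map_scalars,
    map_range_subfield]

theorem SC5_reindex [Fintype F] (e : ι' ≃ ι) (f' : (ι' → F) → (ι' → F) → F) (H : Subgroup (GL ι' F))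
    (h : SC5 (reF e f') (reH e H)) : SC5 f' H := by
  obtain ⟨F₀, r, P, ζ, h1, h2, h3, h4, h5⟩ := h
  set P' : GL ι' F := (glReindex (F := F) e).symm P with hP'
  have hP : glReindex e P' = P := by rw [hP', MulEquiv.apply_symm_apply]
  refine ⟨F₀, r, P', ζ, h1, h2, h3, ?_, ?_⟩
  · intro u' v' hu hv
    have := h4 (u' ∘ e.symm) (v' ∘ e.symm) (fun i => hu _) (fun i => hv _)
    unfold reF at this
    rw [← hP, glReindex_mulVec_comp, glReindex_mulVec_comp, comp_symm_comp', comp_symm_comp'] at this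
    exact this
  · intro g hg
    have h6 := h5 ((mem_reH e H g).2 hg)
    rw [← hP, ← map_subfieldSubgroup] at h6
    obtain ⟨g', hg', hgg⟩ := h6
    have : g' = g := (glReindex (F := F) e).injective hgg
    rw [← this]; exact hg'

/-! ### class 3 -/

/-- the pulled back subalgebra -/
def pbK (e : ι' ≃ ι) (K : Subalgebra F (Matrix ι ι F)) : Subalgebra F (Matrix ι' ι' F) :=
  K.comap (Matrix.reindexAlgEquiv F F e).toAlgHom

theorem mem_pbK (e : ι' ≃ ι) (K : Subalgebra F (Matrix ι ι F)) (k' : Matrix ι' ι' F) :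
    k' ∈ pbK e K ↔ Matrix.reindexAlgEquiv F F e k' ∈ K := Iff.rfl

theorem reindex_mulVec_comp (e : ι' ≃ ι) (k' : Matrix ι' ι' F) (x : ι → F) :
    ((Matrix.reindexAlgEquiv F F e k') *ᵥ x) ∘ e = k' *ᵥ (x ∘ e) := by
  show ((Matrix.reindex e e k') *ᵥ x) ∘ e = k' *ᵥ (x ∘ e)
  rw [Matrix.reindex_apply, Matrix.submatrix_mulVec_equiv]
  funext i
  simp

/-- the linear equivalence between the pulled back subalgebra and the original one -/
noncomputable def pbKEquiv (e : ι' ≃ ι) (K : Subalgebra F (Matrix ι ι F)) : pbK e K ≃ₗ[F] K where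
  toFun k' := ⟨Matrix.reindexAlgEquiv F F e k'.1, k'.2⟩
  invFun k := ⟨(Matrix.reindexAlgEquiv F F e).symm k.1, by
    rw [mem_pbK, AlgEquiv.apply_symm_apply]; exact k.2⟩
  map_add' a b := by
    apply Subtype.ext
    exact map_add (Matrix.reindexAlgEquiv F F e) a.1 b.1
  map_smul' c a := by
    apply Subtype.ext
    exact map_smul (Matrix.reindexAlgEquiv F F e) c a.1
  left_inv a := by
    apply Subtype.ext
    simp
  right_inv a := by
    apply Subtype.ext
    simp

theorem isFieldSubalgebra_pbK (e : ι' ≃ ι) (K : Subalgebra F (Matrix ι ι F)) (r : ℕ)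
    (h : IsFieldSubalgebra r K) : IsFieldSubalgebra r (pbK e K) := by
  refine ⟨?_, ?_, ?_⟩
  · intro x hx y hy
    have := h.comm (Matrix.reindexAlgEquiv F F e x) ((mem_pbK e K x).1 hx)
      (Matrix.reindexAlgEquiv F F e y) ((mem_pbK e K y).1 hy)
    rw [← map_mul, ← map_mul] at this
    exact (Matrix.reindexAlgEquiv F F e).injective this
  · intro x hx hx0
    have hx0' : Matrix.reindexAlgEquiv F F e x ≠ 0 := by
      intro h0
      apply hx0
      apply (Matrix.reindexAlgEquiv F F e).injective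
      rw [h0, map_zero]
    obtain ⟨y, hy, hxy⟩ := h.inv (Matrix.reindexAlgEquiv F F e x) ((mem_pbK e K x).1 hx) hx0'
    refine ⟨(Matrix.reindexAlgEquiv F F e).symm y, ?_, ?_⟩
    · rw [mem_pbK, AlgEquiv.apply_symm_apply]; exact hy
    · apply (Matrix.reindexAlgEquiv F F e).injective
      rw [map_mul, AlgEquiv.apply_symm_apply, hxy, map_one]
  · rw [LinearEquiv.finrank_eq (pbKEquiv e K)]
    exact h.finrank_eq

theorem glReindex_inv_val (e : ι' ≃ ι) (g : GL ι' F) :
    (((glReindex e g)⁻¹ : GL ι F) : Matrix ι ι F) =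
      Matrix.reindexAlgEquiv F F e ((g⁻¹ : GL ι' F) : Matrix ι' ι' F) := by
  rw [← map_inv]
  rfl

theorem le_subalgebraNormalizer_pbK [Fintype F] (e : ι' ≃ ι) (H : Subgroup (GL ι' F))
    (K : Subalgebra F (Matrix ι ι F)) (h : reH e H ≤ subalgebraNormalizer K) :
    H ≤ subalgebraNormalizer (pbK e K) := by
  intro g hg k'
  have h1 := h ((mem_reH e H g).2 hg) (Matrix.reindexAlgEquiv F F e k')
  rw [mem_pbK, mem_pbK, h1, glReindex_inv_val, map_mul, map_mul]
  rfl

theorem selfAdjoint_pbK (e : ι' ≃ ι) (f' : (ι' → F) → (ι' → F) → F)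
    (K : Subalgebra F (Matrix ι ι F)) (h : IsSelfAdjointFor (reF e f') K) :
    IsSelfAdjointFor f' (pbK e K) := by
  intro k' hk' u v
  have := h (Matrix.reindexAlgEquiv F F e k') ((mem_pbK e K k').1 hk') (u ∘ e.symm) (v ∘ e.symm)
  unfold reF at this
  rwa [reindex_mulVec_comp, reindex_mulVec_comp, comp_symm_comp', comp_symm_comp'] at this

theorem adjointClosed_pbK (e : ι' ≃ ι) (f' : (ι' → F) → (ι' → F) → F)
    (K : Subalgebra F (Matrix ι ι F)) (h : IsAdjointClosedFor (reF e f') K) :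
    IsAdjointClosedFor f' (pbK e K) := by
  intro k' hk'
  obtain ⟨l, hl, hkl⟩ := h (Matrix.reindexAlgEquiv F F e k') ((mem_pbK e K k').1 hk')
  refine ⟨(Matrix.reindexAlgEquiv F F e).symm l, ?_, ?_⟩
  · rw [mem_pbK, AlgEquiv.apply_symm_apply]; exact hl
  · intro u v
    have := hkl (u ∘ e.symm) (v ∘ e.symm)
    unfold reF at this
    have hl' : l = Matrix.reindexAlgEquiv F F e ((Matrix.reindexAlgEquiv F F e).symm l) := by
      rw [AlgEquiv.apply_symm_apply]
    rw [hl', reindex_mulVec_comp, reindex_mulVec_comp, comp_symm_comp', comp_symm_comp'] at this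
    exact this

theorem selfAdjoint_of_pbK (e : ι' ≃ ι) (f' : (ι' → F) → (ι' → F) → F)
    (K : Subalgebra F (Matrix ι ι F)) (h : IsSelfAdjointFor f' (pbK e K)) :
    IsSelfAdjointFor (reF e f') K := by
  intro k hk u v
  have hk' : (Matrix.reindexAlgEquiv F F e).symm k ∈ pbK e K := by
    rw [mem_pbK, AlgEquiv.apply_symm_apply]; exact hk
  have := h _ hk' (u ∘ e) (v ∘ e)
  unfold reF
  have hl' : k = Matrix.reindexAlgEquiv F F e ((Matrix.reindexAlgEquiv F F e).symm k) := by
    rw [AlgEquiv.apply_symm_apply]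
  rw [hl', reindex_mulVec_comp, reindex_mulVec_comp]
  exact this

theorem SC3a_reindex [Fintype F] (e : ι' ≃ ι) (f' : (ι' → F) → (ι' → F) → F) (H : Subgroup (GL ι' F))
    (h : SC3a (reF e f') (reH e H)) : SC3a f' H := by
  obtain ⟨r, K, h1, h2, h3, h4, h5⟩ := h
  refine ⟨r, pbK e K, h1, isFieldSubalgebra_pbK e K r h2, selfAdjoint_pbK e f' K h3, ?_,
    le_subalgebraNormalizer_pbK e H K h5⟩
  intro k' hk' v
  have := h4 (Matrix.reindexAlgEquiv F F e k') ((mem_pbK e K k').1 hk') (v ∘ e.symm)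
  unfold reF at this
  rwa [reindex_mulVec_comp, comp_symm_comp'] at this

theorem SC3b_reindex [Fintype F] (e : ι' ≃ ι) (f' : (ι' → F) → (ι' → F) → F) (H : Subgroup (GL ι' F))
    (h : SC3b (reF e f') (reH e H)) : SC3b f' H := by
  obtain ⟨K, h1, h2, h3, h4, h5⟩ := h
  exact ⟨pbK e K, h1, isFieldSubalgebra_pbK e K 2 h2, adjointClosed_pbK e f' K h3,
    fun hs => h4 (selfAdjoint_of_pbK e f' K hs), le_subalgebraNormalizer_pbK e H K h5⟩

end Cfsg.Agent.Lib.H11.AschS
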