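/-
S5662 project, module ST0 (transport along a bijection of index types), part c: the classes 4, 7.  (helper11)
-/
import Cfsg.Agent.Lib.H11.AschST0b

set_option autoImplicit false
set_option linter.unusedSectionVars false

namespace Cfsg.Agent.Lib.H11.AschS

open Cfsg Cfsg.Geo Cfsg.Agent.Lib.Lead.Asch
open scoped MatrixGroups Matrix Kronecker

variable {F : Type*} [Field F]
variable {ι ι' : Type} [Fintype ι] [DecidableEq ι] [Fintype ι'] [DecidableEq ι']

theorem glReindex_comp_glReindex {κ : Type} [Fintype κ] [DecidableEq κ] (a : κ ≃ ι') (e : ι' ≃ ι) :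
    (glReindex (F := F) e).toMonoidHom.comp (glReindex (F := F) a).toMonoidHom =
      (glReindex (F := F) (a.trans e)).toMonoidHom := by
  ext g i j
  rfl

theorem map_map_glReindex {κ : Type} [Fintype κ] [DecidableEq κ] (S : Subgroup (GL κ F))
    (e₁ : ι ≃ κ) (e : ι' ≃ ι) :
    ((S.map (glReindex (F := F) (e.trans e₁).symm).toMonoidHom)).map (glReindex (F := F) e).toMonoidHom =
      S.map (glReindex (F := F) e₁.symm).toMonoidHom := by
  rw [Subgroup.map_map, glReindex_comp_glReindex]
  have : (e.trans e₁).symm.trans e = e₁.symm := by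
    ext x
    simp
  rw [this]

theorem map_conj_map_glReindex {κ : Type} [Fintype κ] [DecidableEq κ] (S : Subgroup (GL κ F))
    (e₁ : ι ≃ κ) (e : ι' ≃ ι) (P' : GL ι' F) :
    (((S.map (glReindex (F := F) (e.trans e₁).symm).toMonoidHom)).map
        (MulAut.conj P').toMonoidHom).map (glReindex (F := F) e).toMonoidHom =
      (S.map (glReindex (F := F) e₁.symm).toMonoidHom).map
        (MulAut.conj (glReindex e P')).toMonoidHom := by
  rw [Subgroup.map_map, glReindex_conj, ← Subgroup.map_map, map_map_glReindex]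

theorem le_of_reH_le_map [Fintype F] (e : ι' ≃ ι) (H M' : Subgroup (GL ι' F)) (M : Subgroup (GL ι F))
    (hM : M'.map (glReindex (F := F) e).toMonoidHom = M) (h : reH e H ≤ M) : H ≤ M' := by
  intro g hg
  have h6 := h ((mem_reH e H g).2 hg)
  rw [← hM] at h6
  obtain ⟨g', hg', hgg⟩ := h6
  have : g' = g := (glReindex (F := F) e).injective hgg
  rw [← this]; exact hg'

theorem SC4_reindex [Fintype F] (e : ι' ≃ ι) (f' : (ι' → F) → (ι' → F) → F) (H : Subgroup (GL ι' F))
    (h : SC4 (reF e f') (reH e H)) : SC4 f' H := by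
  obtain ⟨n₁, n₂, e₁, P, f₁, f₂, h1, h2, h3, h4, h5, h6⟩ := h
  set P' : GL ι' F := (glReindex (F := F) e).symm P with hP'
  have hP : glReindex e P' = P := by rw [hP', MulEquiv.apply_symm_apply]
  refine ⟨n₁, n₂, e.trans e₁, P', f₁, f₂, h1, h2, h3, h4, ?_, ?_⟩
  · obtain ⟨c, hc, hxy⟩ := h5
    refine ⟨c, hc, fun x y => ?_⟩
    have := hxy x y
    unfold reF at this
    rw [← hP, glReindex_mulVec_comp, glReindex_mulVec_comp] at this
    exact this
  · refine le_of_reH_le_map e H _ _ ?_ h6
    unfold tensorProductSubgroup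
    rw [map_conj_map_glReindex, hP]

theorem SC7_reindex [Fintype F] (e : ι' ≃ ι) (f' : (ι' → F) → (ι' → F) → F) (H : Subgroup (GL ι' F))
    (h : SC7 (reF e f') (reH e H)) : SC7 f' H := by
  obtain ⟨k, t, e₁, P, f₁, h1, h2, h3, h4, h5, h6, h7⟩ := h
  set P' : GL ι' F := (glReindex (F := F) e).symm P with hP'
  have hP : glReindex e P' = P := by rw [hP', MulEquiv.apply_symm_apply]
  refine ⟨k, t, e.trans e₁, P', f₁, h1, h2, h3, h4, h5, ?_, ?_⟩
  · obtain ⟨c, hc, hxy⟩ := h6
    refine ⟨c, hc, fun x y => ?_⟩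
    have := hxy x y
    unfold reF at this
    rw [← hP, glReindex_mulVec_comp, glReindex_mulVec_comp] at this
    exact this
  · refine le_of_reH_le_map e H _ _ ?_ h7
    unfold tensorWreathSubgroup
    rw [map_conj_map_glReindex, hP]

end Cfsg.Agent.Lib.H11.AschS
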