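/-
S5662 project, module ST0 (transport along a bijection of index types), part d: class 6.  (helper11)
-/
import Cfsg.Agent.Lib.H11.AschST0c
import Cfsg.Agent.Lib.H8.AschM5

set_option autoImplicit false
set_option linter.unusedSectionVars false

namespace Cfsg.Agent.Lib.H11.AschS

open Cfsg Cfsg.Geo Cfsg.Agent.Lib.Lead.Asch
open scoped MatrixGroups Matrix Kronecker

section abstract

variable {G G' : Type*} [Group G] [Group G']

/-- the isomorphism between a pulled back subgroup and the original one -/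
def comapEquiv (Θ : G' ≃* G) (R : Subgroup G) : ↥(R.comap Θ.toMonoidHom) ≃* ↥R where
  toFun x := ⟨Θ x.1, x.2⟩
  invFun y := ⟨Θ.symm y.1, by
    show Θ (Θ.symm y.1) ∈ R
    rw [MulEquiv.apply_symm_apply]; exact y.2⟩
  left_inv x := by apply Subtype.ext; simp
  right_inv y := by apply Subtype.ext; simp
  map_mul' x y := by
    apply Subtype.ext
    show Θ (x.1 * y.1) = Θ x.1 * Θ y.1
    exact map_mul Θ _ _

theorem comapEquiv_val (Θ : G' ≃* G) (R : Subgroup G) (x : ↥(R.comap Θ.toMonoidHom)) :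
    ((comapEquiv Θ R x : ↥R) : G) = Θ x.1 := rfl

theorem characteristic_map_equiv {R R' : Type*} [Group R] [Group R'] (ψ : R' ≃* R)
    (A' : Subgroup R') (hA : A'.Characteristic) : (A'.map ψ.toMonoidHom).Characteristic := by
  rw [Subgroup.characteristic_iff_map_eq]
  intro ϕ
  rw [Subgroup.map_map]
  have h1 : (ϕ.toMonoidHom.comp ψ.toMonoidHom) =
      ψ.toMonoidHom.comp ((ψ.trans ϕ).trans ψ.symm).toMonoidHom := by
    ext x
    simp
  rw [h1, ← Subgroup.map_map, (Subgroup.characteristic_iff_map_eq.1 hA) _]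

theorem isMulCommutative_map_equiv {R R' : Type*} [Group R] [Group R'] (ψ : R' ≃* R)
    (A' : Subgroup R') (hA : IsMulCommutative A') : IsMulCommutative (A'.map ψ.toMonoidHom) := by
  rw [isMulCommutative_iff]
  rintro ⟨_, ⟨a, ha, rfl⟩⟩ ⟨_, ⟨b, hb, rfl⟩⟩
  apply Subtype.ext
  have := (isMulCommutative_iff.1 hA) ⟨a, ha⟩ ⟨b, hb⟩
  have h2 : a * b = b * a := congrArg Subtype.val this
  show ψ.toMonoidHom a * ψ.toMonoidHom b = ψ.toMonoidHom b * ψ.toMonoidHom a
  rw [← map_mul, ← map_mul, h2]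

/-- the restriction of an isomorphism to a subgroup and its image -/
def mapEquiv' {R R' : Type*} [Group R] [Group R'] (ψ : R' ≃* R) (A' : Subgroup R') :
    ↥A' ≃* ↥(A'.map ψ.toMonoidHom) where
  toFun x := ⟨ψ x.1, ⟨x.1, x.2, rfl⟩⟩
  invFun y := ⟨ψ.symm y.1, by
    obtain ⟨a, ha, hay⟩ := y.2
    have : ψ.symm y.1 = a := by
      rw [← hay]; exact ψ.symm_apply_apply a
    rw [this]; exact ha⟩
  left_inv x := by apply Subtype.ext; simp
  right_inv y := by apply Subtype.ext; simp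
  map_mul' x y := by
    apply Subtype.ext
    show ψ (x.1 * y.1) = ψ x.1 * ψ y.1
    exact map_mul ψ _ _

end abstract

variable {F : Type*} [Field F]
variable {ι ι' : Type} [Fintype ι] [DecidableEq ι] [Fintype ι'] [DecidableEq ι']

theorem isSymplecticTypeGroup_of_equiv (r : ℕ) (R : Subgroup (GL ι F)) (R' : Subgroup (GL ι' F))
    (ψ : ↥R' ≃* ↥R) (h : IsSymplecticTypeGroup r R) : IsSymplecticTypeGroup r R' := by
  refine ⟨h.prime, h.pGroup.of_equiv ψ.symm, ?_, ?_⟩
  · intro A' hchar hcomm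
    have h1 := h.cyclic_of_characteristic (A'.map ψ.toMonoidHom)
      (characteristic_map_equiv ψ A' hchar) (isMulCommutative_map_equiv ψ A' hcomm)
    exact (mapEquiv' ψ A').isCyclic.2 h1
  · rw [Monoid.exponent_eq_of_mulEquiv ψ]
    exact h.exponent_eq

theorem isOfMinusType_of_equiv {G G' : Type*} [Group G] [Group G'] (k : ℕ) (R : Subgroup G)
    (R' : Subgroup G') (ψ : ↥R' ≃* ↥R) (h : IsOfMinusType k R) : IsOfMinusType k R' := by
  intro A' hcomm hsq
  have h1 := h (A'.map ψ.toMonoidHom) (isMulCommutative_map_equiv ψ A' hcomm) (by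
    rintro _ ⟨a, ha, rfl⟩
    show ψ a * ψ a = 1
    rw [← map_mul, hsq a ha, map_one])
  rw [← Nat.card_congr (mapEquiv' ψ A').toEquiv] at h1
  exact h1

theorem absIrr_comap [Fintype F] (e : ι' ≃ ι) (R : Subgroup (GL ι F))
    (h : ActsAbsolutelyIrreducibly (matrixSet R)) :
    ActsAbsolutelyIrreducibly (matrixSet (R.comap (glReindex (F := F) e).toMonoidHom)) := by
  refine Cfsg.Agent.Lib.H8.Asch.actsAbsolutelyIrreducibly_transfer
    (LinearEquiv.funCongrLeft F F e.symm) _ (matrixSet R) ?_ h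
  rintro _ ⟨g, hg, rfl⟩
  set g' : GL ι' F := (glReindex (F := F) e).symm g with hg'
  have hgg : glReindex e g' = g := by rw [hg', MulEquiv.apply_symm_apply]
  refine ⟨(g' : Matrix ι' ι' F), ⟨g', ?_, rfl⟩, ?_⟩
  · show glReindex e g' ∈ R
    rw [hgg]; exact hg
  · intro v
    show ((g' : Matrix ι' ι' F) *ᵥ v) ∘ e.symm = (g : Matrix ι ι F) *ᵥ (v ∘ e.symm)
    rw [← hgg, glReindex_mulVec_symm]

theorem mem_scalars_of_glReindex (e : ι' ≃ ι) (g : GL ι' F)
    (h : glReindex e g ∈ scalars ι F) : g ∈ scalars ι' F := by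
  rw [← map_scalars e] at h
  obtain ⟨g', hg', hgg⟩ := h
  have : g' = g := (glReindex (F := F) e).injective hgg
  rw [← this]; exact hg'

theorem SC6_reindex [Fintype F] (e : ι' ≃ ι) (f' : (ι' → F) → (ι' → F) → F) (H : Subgroup (GL ι' F))
    (h : SC6 (reF e f') (reH e H)) : SC6 f' H := by
  obtain ⟨R, p, k, h1, h2, h3, h4, h5, h6, h7, h8, h9, h10, h11⟩ := h
  set Θ := glReindex (F := F) e with hΘ
  set R' : Subgroup (GL ι' F) := R.comap Θ.toMonoidHom with hR'
  have ψ : ↥R' ≃* ↥R := comapEquiv Θ R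
  refine ⟨R', p, k, isSymplecticTypeGroup_of_equiv 2 R R' ψ h1, absIrr_comap e R h2, ?_, h4, h5, h6,
    ?_, ?_, isOfMinusType_of_equiv k R R' ψ h9, ?_, ?_⟩
  · intro g hg
    obtain ⟨c, hc⟩ := h3 (show Θ g ∈ R from hg)
    refine ⟨c, fun u v => ?_⟩
    have := hc (u ∘ e.symm) (v ∘ e.symm)
    unfold reF at this
    rw [hΘ, glReindex_mulVec_comp, glReindex_mulVec_comp, comp_symm_comp', comp_symm_comp'] at this
    exact this
  · rw [Nat.card_congr ψ.toEquiv]; exact h7
  · rw [Nat.card_congr (Subgroup.centerCongr ψ).toEquiv]; exact h8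
  · intro x hx y hy
    apply mem_scalars_of_glReindex e
    have := h10 (Θ x) hx (Θ y) hy
    rw [← map_inv, ← map_inv, ← map_mul, ← map_mul, ← map_mul] at this
    exact this
  · intro g hg
    have h12 := h11 ((mem_reH e H g).2 hg)
    unfold subgroupNormalizer at h12 ⊢
    rw [Subgroup.mem_normalizer_iff] at h12 ⊢
    intro x
    have := h12 (Θ x)
    show Θ x ∈ R ↔ Θ (g * x * g⁻¹) ∈ R
    rw [map_mul, map_mul, map_inv]
    exact this

end Cfsg.Agent.Lib.H11.AschS
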