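import Cfsg.Agent.Lib.H11.SubspMax1
import Cfsg.Agent.Lib.H2.SpPerfect
import Cfsg.Agent.S0768

/-!
Symplectic transvections inside `GL`, and the set of transvection centres of a subgroup.
-/

set_option autoImplicit false
set_option linter.unusedSimpArgs false
set_option linter.unusedSectionVars false
set_option linter.unusedVariables false

namespace Cfsg.Agent.Lib.H11.SubspMax

open Matrix Module
open Cfsg.Agent.Lib.H28
open Cfsg.Agent.Lib.H4 (sympForm_self sympForm_add_left sympForm_add_right sympForm_smul_left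
  sympForm_smul_right sympForm_swap)

section symp
variable {F : Type*} [Field F] {m : ℕ}

local notation "VV" => (Fin m ⊕ Fin m → F)
local notation "GG" => GL (Fin m ⊕ Fin m) F
local notation "MM" => Matrix (Fin m ⊕ Fin m) (Fin m ⊕ Fin m) F

/-- the inclusion of the symplectic group into `GL` -/
noncomputable def spToGL (F : Type*) [Field F] (m : ℕ) :
    Matrix.symplecticGroup (Fin m) F →* GL (Fin m ⊕ Fin m) F :=
  (Matrix.symplecticGroup (Fin m) F).subtype.toHomUnits

theorem spToGL_val (A : Matrix.symplecticGroup (Fin m) F) :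
    ((spToGL F m A : GG) : MM) = (A : MM) := rfl

/-- a symplectic transvection as an element of `GL` -/
noncomputable def stv (v : VV) (c : F) : GG := spToGL F m (Cfsg.Agent.Lib.H2.Sp.tv m v c)

theorem stv_mulVec (v : VV) (c : F) (x : VV) :
    ((stv v c : GG) : MM) *ᵥ x = x + (c * Cfsg.sympForm m F x v) • v := by
  rw [stv, spToGL_val]
  exact Cfsg.Agent.Lib.H2.Sp.tv_mulVec m v c x

theorem mem_spGL_iff (g : GG) :
    g ∈ Cfsg.spGL m F ↔ ∀ u v : VV, Cfsg.sympForm m F ((g : MM) *ᵥ u) ((g : MM) *ᵥ v) =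
      Cfsg.sympForm m F u v := Iff.rfl

theorem spToGL_mem (A : Matrix.symplecticGroup (Fin m) F) : spToGL F m A ∈ Cfsg.spGL m F := by
  rw [mem_spGL_iff]
  intro u v
  rw [spToGL_val]
  exact (Cfsg.Agent.Lib.H4.mem_symplecticGroup_iff_sympForm m _).1 A.2 u v

theorem stv_mem_spGL (v : VV) (c : F) : stv v c ∈ Cfsg.spGL m F := spToGL_mem _

/-- a subgroup containing all symplectic transvections contains the symplectic group -/
theorem sp_le_of_stv (M : Subgroup GG) (hM : ∀ (v : VV) (c : F), stv v c ∈ M) :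
    Cfsg.spGL m F ≤ M := by
  intro g hg
  have hA : (g : MM) ∈ Matrix.symplecticGroup (Fin m) F :=
    (Cfsg.Agent.Lib.H4.mem_symplecticGroup_iff_sympForm m _).2 ((mem_spGL_iff g).1 hg)
  have key : ∀ A : Matrix.symplecticGroup (Fin m) F, spToGL F m A ∈ M := by
    intro A
    have hAT : A ∈ Cfsg.Agent.Lib.H2.Sp.TS F m := by
      rw [Cfsg.Agent.Lib.H2.Sp.TS_eq_top]; exact Subgroup.mem_top _
    induction hAT using Subgroup.closure_induction with
    | mem x hx =>
      obtain ⟨v, c, rfl⟩ := hx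
      exact hM v c
    | one => rw [map_one]; exact M.one_mem
    | mul x y _ _ hx hy => rw [map_mul]; exact M.mul_mem hx hy
    | inv x _ hx => rw [map_inv]; exact M.inv_mem hx
  have := key ⟨(g : MM), hA⟩
  have h2 : spToGL F m ⟨(g : MM), hA⟩ = g := Units.ext rfl
  rw [h2] at this
  exact this

theorem conj_stv (g : GG) (hg : g ∈ Cfsg.spGL m F) (v : VV) (c : F) :
    stv ((g : MM) *ᵥ v) c = g * stv v c * g⁻¹ := by
  apply gl_ext
  intro x
  rw [gl_mul_mulVec, gl_mul_mulVec, stv_mulVec, stv_mulVec, Matrix.mulVec_add,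
    Matrix.mulVec_smul, gl_mulVec_inv]
  congr 3
  have := (mem_spGL_iff g).1 hg (((g⁻¹ : GG) : MM) *ᵥ x) v
  rw [gl_mulVec_inv] at this
  exact this

/-- the set of centres of the symplectic transvections contained in `M` -/
def Scl (M : Subgroup GG) : Set VV := {v | ∀ c : F, stv v c ∈ M}

variable {M : Subgroup (GL (Fin m ⊕ Fin m) F)}

theorem Scl_inv (hMS : M ≤ Cfsg.spGL m F) {g : GG} (hg : g ∈ M) {v : VV} (hv : v ∈ Scl M) :
    (g : MM) *ᵥ v ∈ Scl M := by
  intro c
  rw [conj_stv g (hMS hg) v c]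
  exact M.mul_mem (M.mul_mem hg (hv c)) (M.inv_mem hg)

theorem Scl_smul (a : F) {v : VV} (hv : v ∈ Scl M) : a • v ∈ Scl M := by
  intro c
  have : stv (a • v) c = stv v (a * a * c) := by
    apply gl_ext
    intro x
    rw [stv_mulVec, stv_mulVec, sympForm_smul_right, smul_smul]
    congr 2
    ring
  rw [this]
  exact hv _

theorem Scl_zero : (0 : VV) ∈ Scl M := by
  intro c
  have : stv (0 : VV) c = 1 := by
    apply gl_ext
    intro x
    rw [stv_mulVec, smul_zero, add_zero, Units.val_one, Matrix.one_mulVec]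
  rw [this]; exact M.one_mem

theorem Scl_neg {v : VV} (hv : v ∈ Scl M) : -v ∈ Scl M := by
  have := Scl_smul (-1) hv
  rwa [neg_one_smul] at this

/-- the basic closure property -/
theorem Scl_add (hMS : M ≤ Cfsg.spGL m F) {u v : VV} (hu : u ∈ Scl M) (hv : v ∈ Scl M)
    (hne : Cfsg.sympForm m F v u ≠ 0) (a : F) : v + a • u ∈ Scl M := by
  have := Scl_inv hMS (hu (a / Cfsg.sympForm m F v u)) hv
  rw [stv_mulVec, div_mul_cancel₀ _ hne] at this
  exact this

theorem Scl_add' (hMS : M ≤ Cfsg.spGL m F) {u v : VV} (hu : u ∈ Scl M) (hv : v ∈ Scl M)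
    (hne : Cfsg.sympForm m F v u ≠ 0) : v + u ∈ Scl M := by
  have := Scl_add hMS hu hv hne 1
  rwa [one_smul] at this

theorem eq_spGL_of_Scl (hMS : M ≤ Cfsg.spGL m F) (h : ∀ v : VV, v ∈ Scl M) :
    M = Cfsg.spGL m F :=
  le_antisymm hMS (sp_le_of_stv M (fun v c => h v c))

theorem exists_sympForm_ne (x : VV) (hx : x ≠ 0) : ∃ y : VV, Cfsg.sympForm m F x y ≠ 0 := by
  obtain ⟨u, hu⟩ := Cfsg.Agent.S0768.exists_nonorth x hx
  exact ⟨u, by rwa [Cfsg.Agent.S0768.B₀_apply] at hu⟩

theorem sympForm_ne_swap {x y : VV} (h : Cfsg.sympForm m F x y ≠ 0) :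
    Cfsg.sympForm m F y x ≠ 0 := by
  rw [sympForm_swap]; exact neg_ne_zero.2 h

theorem sympForm_eq_swap {x y : VV} (h : Cfsg.sympForm m F x y = 0) :
    Cfsg.sympForm m F y x = 0 := by
  rw [sympForm_swap, h, neg_zero]

theorem sympForm_sub_right (u v w : VV) :
    Cfsg.sympForm m F u (v - w) = Cfsg.sympForm m F u v - Cfsg.sympForm m F u w := by
  rw [sub_eq_add_neg, sympForm_add_right, ← neg_one_smul F w, sympForm_smul_right]; ring

theorem sympForm_sub_left (u v w : VV) :
    Cfsg.sympForm m F (u - v) w = Cfsg.sympForm m F u w - Cfsg.sympForm m F v w := by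
  rw [sub_eq_add_neg, sympForm_add_left, ← neg_one_smul F v, sympForm_smul_left]; ring

theorem sympForm_zero_right (u : VV) : Cfsg.sympForm m F u 0 = 0 := by
  have := sympForm_smul_right m (0 : F) u 0
  rw [zero_smul, zero_mul] at this; exact this

theorem sympForm_zero_left (u : VV) : Cfsg.sympForm m F 0 u = 0 := by
  have := sympForm_smul_left m (0 : F) 0 u
  rw [zero_smul, zero_mul] at this; exact this

end symp

end Cfsg.Agent.Lib.H11.SubspMax
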