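import Cfsg.Agent.Lib.H11.SimMax4
import Cfsg.Agent.Lib.H11.SubspMax2

/-!
Generic geometry of a symplectic form given as a function: duality, picking orthogonal vectors,
hyperbolic pairs.  The standard alternating form is an instance.
-/

set_option autoImplicit false
set_option linter.unusedSimpArgs false
set_option linter.unusedSectionVars false
set_option linter.unusedVariables false

namespace Cfsg.Agent.Lib.H11.SimMax

open Matrix Module
open Cfsg.Agent.Lib.H28 Cfsg.Agent.Lib.H11.SubspMax

variable {ι : Type} [Fintype ι] [DecidableEq ι] {F : Type*} [Field F]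
variable {f : (ι → F) → (ι → F) → F}

section symp
variable (hf : Cfsg.Geo.IsSymplecticForm f)
include hf

theorem f_symm_zero {x y : ι → F} (h : f x y = 0) : f y x = 0 := by
  rw [hf.skew, h, neg_zero]

theorem f_symm_ne {x y : ι → F} (h : f x y ≠ 0) : f y x ≠ 0 := fun h0 => h (f_symm_zero hf h0)

/-- duality: a vector outside a subspace is separated from it -/
theorem exists_perp_ne (U : Submodule F (ι → F)) (x : ι → F) (hx : x ∉ U) :
    ∃ p, (∀ u ∈ U, f u p = 0) ∧ f x p ≠ 0 := by
  obtain ⟨φ, hφx, hφU⟩ := Submodule.exists_le_ker_of_notMem hx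
  obtain ⟨p, rfl⟩ := exists_fr hf φ
  refine ⟨p, fun u hu => ?_, hφx⟩
  have := hφU hu
  rwa [LinearMap.mem_ker, fr_apply] at this

/-- pick a vector orthogonal to finitely many vectors and outside a small subspace -/
theorem exists_perp_notMem {k : ℕ} (vs : Fin k → ι → F) (U : Submodule F (ι → F))
    (h : finrank F U + k < Fintype.card ι) : ∃ x, (∀ i, f x (vs i) = 0) ∧ x ∉ U := by
  by_contra hcon
  push Not at hcon
  obtain ⟨L, hL⟩ : ∃ L : (ι → F) →ₗ[F] (Fin k → F),
      L = LinearMap.pi (fun i => fr hf.bilinear (vs i)) := ⟨_, rfl⟩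
  have hle : LinearMap.ker L ≤ U := by
    intro x hx
    apply hcon
    intro i
    rw [LinearMap.mem_ker, hL] at hx
    have := congrFun hx i
    simpa [fr_apply] using this
  have h1 := LinearMap.finrank_range_add_finrank_ker L
  have h2 : finrank F (LinearMap.range L) ≤ k := by
    have := Submodule.finrank_le (LinearMap.range L)
    rwa [Module.finrank_fintype_fun_eq_card, Fintype.card_fin] at this
  have h3 := Submodule.finrank_mono hle
  rw [Module.finrank_fintype_fun_eq_card] at h1
  omega

/-- a hyperbolic pair orthogonal to finitely many vectors -/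
theorem exists_hyp {k : ℕ} (vs : Fin k → ι → F) (h : 2 * k + 1 ≤ Fintype.card ι) :
    ∃ x y, f x y = 1 ∧ (∀ i, f x (vs i) = 0) ∧ (∀ i, f y (vs i) = 0) := by
  have hU : finrank F (Submodule.span F (Set.range vs)) ≤ k := by
    have := finrank_range_le_card (R := F) vs
    simpa [Set.finrank] using this
  obtain ⟨x, hxvs, hxU⟩ := exists_perp_notMem hf vs (Submodule.span F (Set.range vs)) (by omega)
  obtain ⟨p, hpU, hxp⟩ := exists_perp_ne hf _ x hxU
  have hpvs : ∀ i, f p (vs i) = 0 := fun i =>
    f_symm_zero hf (hpU (vs i) (Submodule.subset_span ⟨i, rfl⟩))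
  refine ⟨x, (f x p)⁻¹ • p, ?_, hxvs, ?_⟩
  · rw [hf.bilinear.smul_right, inv_mul_cancel₀ hxp]
  · intro i
    rw [hf.bilinear.smul_left, hpvs i, mul_zero]

end symp

open Cfsg.Agent.Lib.H4 (sympForm_self sympForm_add_left sympForm_add_right sympForm_smul_left
  sympForm_smul_right sympForm_swap) in
/-- the standard alternating form is a symplectic form -/
theorem sympForm_isSymplectic (F : Type*) [Field F] (m : ℕ) :
    Cfsg.Geo.IsSymplecticForm (Cfsg.sympForm m F) where
  bilinear :=
    { add_left := fun x y v => sympForm_add_left m x y v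
      smul_left := fun c x v => sympForm_smul_left m c x v
      add_right := fun v x y => sympForm_add_right m v x y
      smul_right := fun c v x => sympForm_smul_right m c v x }
  skew := fun v w => sympForm_swap m v w
  alternating := fun v => sympForm_self m v
  nondegenerate := by
    intro v hv
    obtain ⟨y, hy⟩ := exists_sympForm_ne v hv
    exact ⟨⟨y, sympForm_ne_swap hy⟩, ⟨y, hy⟩⟩

end Cfsg.Agent.Lib.H11.SimMax
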