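import Cfsg.Agent.Lib.H1.FG19.Defs
import Cfsg.Prelude.Def_Transfer
import Cfsg.Prelude.Def_CaseTheorems

/-!
# S4404 piece P1 (helper11): an odd-order group `J` of automorphisms with `[A, J] ≤ U` acts faithfully on `U`.
-/

set_option autoImplicit false

namespace Cfsg.Agent.Lib.H11.FG19

open Cfsg Cfsg.Agent.Lib.H1.FG19

variable {A : Type*} [CommGroup A]

/-- a subgroup containing `[A, Z]` is `Z`-stable -/
theorem p1_apply_mem {Z : MulAut A} {U : Subgroup A} (h : cm Z ≤ U) {u : A} (hu : u ∈ U) :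
    Z u ∈ U := by
  have h1 : Z u * u⁻¹ ∈ U := h (mem_cm.mpr ⟨u, rfl⟩)
  have h2 : Z u = (Z u * u⁻¹) * u := by group
  rw [h2]
  exact U.mul_mem h1 hu

/-- the restriction homomorphism `J →* MulAut U` -/
def p1Restr (J : Subgroup (MulAut A)) (U : Subgroup A) (hU : ∀ Z ∈ J, cm Z ≤ U) : J →* MulAut U where
  toFun Z :=
    { toFun := fun u => ⟨Z.1 u.1, p1_apply_mem (hU Z.1 Z.2) u.2⟩
      invFun := fun u => ⟨Z.1⁻¹ u.1, p1_apply_mem (hU Z.1⁻¹ (J.inv_mem Z.2)) u.2⟩
      left_inv := fun u => Subtype.ext (by simp)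
      right_inv := fun u => Subtype.ext (by simp)
      map_mul' := fun u v => Subtype.ext (by simp) }
  map_one' := by
    ext u
    rfl
  map_mul' := fun Z W => by
    ext u
    rfl

theorem p1Restr_apply (J : Subgroup (MulAut A)) (U : Subgroup A) (hU : ∀ Z ∈ J, cm Z ≤ U) (Z : J)
    (u : U) : ((p1Restr J U hU Z) u : A) = Z.1 u.1 := rfl

theorem card_dvd_card_mulAut [Finite A] (h2 : ∀ a : A, a * a = 1) (J : Subgroup (MulAut A))
    (hJ : Odd (Nat.card J)) (U : Subgroup A) (hU : ∀ Z ∈ J, cm Z ≤ U) :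
    Nat.card J ∣ Nat.card (MulAut U) := by
  have : Finite (MulAut A) := Finite.of_injective (fun f : MulAut A => (f : A → A))
    (fun f g h => MulEquiv.ext (fun a => congrFun h a))
  apply Subgroup.card_dvd_of_injective (p1Restr J U hU)
  rw [injective_iff_map_eq_one]
  intro Z hZ
  -- `Z` is trivial on `U`
  have hZU : ∀ u ∈ U, Z.1 u = u := by
    intro u hu
    have h1 := congrArg (fun f : MulAut U => ((f ⟨u, hu⟩ : U) : A)) hZ
    exact h1
  -- so `Z ^ 2 = 1`
  have hsq : Z.1 * Z.1 = 1 := by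
    ext a
    rw [MulAut.mul_apply, MulAut.one_apply]
    have hu : Z.1 a * a⁻¹ ∈ U := hU Z.1 Z.2 (mem_cm.mpr ⟨a, rfl⟩)
    have h4 : Z.1 (Z.1 a) = Z.1 (Z.1 a * a⁻¹) * Z.1 a := by
      rw [← map_mul, inv_mul_cancel_right]
    rw [h4, hZU _ hu]
    calc Z.1 a * a⁻¹ * Z.1 a = (Z.1 a * Z.1 a) * a⁻¹ := by
          rw [mul_comm (Z.1 a * a⁻¹), ← mul_assoc]
      _ = a⁻¹ := by rw [h2, one_mul]
      _ = a := by
          have := h2 a
          exact inv_eq_of_mul_eq_one_left this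
  -- odd order
  have hord : orderOf Z ∣ Nat.card J := orderOf_dvd_natCard Z
  have hord2 : orderOf Z ∣ 2 := by
    apply orderOf_dvd_of_pow_eq_one
    rw [pow_two]
    exact Subtype.ext hsq
  have h1 : orderOf Z = 1 := by
    rcases (Nat.dvd_prime Nat.prime_two).mp hord2 with h | h
    · exact h
    · exfalso
      rw [h] at hord
      have : ¬ Odd (Nat.card J) := by
        rw [Nat.not_odd_iff_even]
        exact even_iff_two_dvd.mpr hord
      exact this hJ
  exact orderOf_eq_one_iff.mp h1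

end Cfsg.Agent.Lib.H11.FG19
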