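import Cfsg.Agent.Lib.H1.FG19.Defs
import Cfsg.Agent.Lib.H11.FG19P1
import Cfsg.Agent.Lib.H19.FG19BAS12
import Cfsg.Agent.Lib.H15.FG19BAS4
import Cfsg.Agent.Lib.H5.FG19P2
import Cfsg.Agent.Lib.H4.FG19P3
import Cfsg.Prelude.Def_Transfer
import Cfsg.Prelude.Def_CaseTheorems

/-!
# S4404 piece PAIR (helper11): two automorphisms of order 3 with `|[A,X]| = |[A,Y]| = 4` generating a
`{3,p}`-group commute, or `p = 7` and there is an `F_8`-element.
-/

set_option autoImplicit false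

namespace Cfsg.Agent.Lib.H11.FG19

open Cfsg Cfsg.Agent.Lib.H1.FG19

open Cfsg.Agent.Lib.H19.FG19 (cm_le_of_mem_closure)
open Cfsg.Agent.Lib.H15.FG19 (card_cm_modEq)
open Cfsg.Agent.Lib.H5.FG19 (card_mulAut_eq)
open Cfsg.Agent.Lib.H4.FG19 (pair_abstract)

variable {A : Type*} [CommGroup A]

theorem pair_card_sup_le [Finite A] (H K : Subgroup A) :
    Nat.card ↥(H ⊔ K) ≤ Nat.card H * Nat.card K := by
  rw [← Nat.card_prod]
  refine Nat.card_le_card_of_surjective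
    (fun p : H × K => (⟨p.1.1 * p.2.1, Subgroup.mul_mem_sup p.1.2 p.2.2⟩ : ↥(H ⊔ K))) ?_
  rintro ⟨x, hx⟩
  obtain ⟨y, hy, z, hz, rfl⟩ := Subgroup.mem_sup.mp hx
  exact ⟨(⟨y, hy⟩, ⟨z, hz⟩), rfl⟩

theorem pair [Finite A] (h2 : ∀ a : A, a * a = 1) {p a b : ℕ} (hp : p.Prime) (hp5 : 5 ≤ p)
    (X Y : MulAut A) (hX : X ^ 3 = 1) (hY : Y ^ 3 = 1) (hcX : Nat.card (cm X) = 4)
    (hcY : Nat.card (cm Y) = 4) (hJ : Nat.card (Subgroup.closure {X, Y}) = 3 ^ a * p ^ b) :
    X * Y = Y * X ∨ (p = 7 ∧ ∃ B ∈ Subgroup.closure {X, Y}, B ^ 7 = 1 ∧ B ≠ 1 ∧ Nat.card (cm B) = 8 ∧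
      ((X * B * X⁻¹ ∈ Subgroup.zpowers B ∧ X * B * X⁻¹ ≠ B) ∨
        (Y * B * Y⁻¹ ∈ Subgroup.zpowers B ∧ Y * B * Y⁻¹ ≠ B))) := by
  classical
  have hfinAut : Finite (MulAut A) := Finite.of_injective (fun f : MulAut A => (f : A → A))
    (fun f g h => MulEquiv.ext (fun a => congrFun h a))
  set J : Subgroup (MulAut A) := Subgroup.closure {X, Y} with hJdef
  set U : Subgroup A := cm X ⊔ cm Y with hUdef
  have hXJ : X ∈ J := Subgroup.subset_closure (by simp)
  have hYJ : Y ∈ J := Subgroup.subset_closure (by simp)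
  -- `|J|` is odd
  have hp2 : Odd p := hp.odd_of_ne_two (by omega)
  have hJodd : Odd (Nat.card J) := by
    rw [hJ]
    exact (Odd.pow (by decide)).mul hp2.pow
  have hU : ∀ Z ∈ J, cm Z ≤ U := fun Z hZ => cm_le_of_mem_closure X Y Z hZ
  -- `|U| = 2 ^ d`, `2 ≤ d ≤ 4`
  have hA2 : IsPGroup 2 A := by
    intro g
    exact ⟨1, by rw [pow_one, pow_two]; exact h2 g⟩
  obtain ⟨d, hd⟩ := (hA2.to_subgroup U).exists_card_eq
  have hle1 : 4 ≤ Nat.card U := by
    rw [← hcX]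
    exact Subgroup.card_le_of_le le_sup_left
  have hle2 : Nat.card U ≤ 16 := by
    have := pair_card_sup_le (cm X) (cm Y)
    rw [hcX, hcY] at this
    exact this
  have hd24 : 2 ≤ d ∧ d ≤ 4 := by
    rw [hd] at hle1 hle2
    constructor
    · by_contra h
      have : d ≤ 1 := by omega
      have := Nat.pow_le_pow_right (show 0 < 2 by norm_num) this
      omega
    · by_contra h
      have : 5 ≤ d := by omega
      have := Nat.pow_le_pow_right (show 0 < 2 by norm_num) this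
      omega
  -- `|J|` divides `20160`
  have hU2 : ∀ u : U, u * u = 1 := fun u => Subtype.ext (h2 u.1)
  have hAutU := card_mulAut_eq hU2 d hd
  have hdvd1 := card_dvd_card_mulAut h2 J hJodd U hU
  have hdvd : Nat.card J ∣ 20160 := by
    refine hdvd1.trans ?_
    rw [hAutU]
    obtain ⟨h2d, hd4⟩ := hd24
    interval_cases d <;> decide
  -- the abstract statement in `↥J`
  have hgen : Subgroup.closure ({⟨X, hXJ⟩, ⟨Y, hYJ⟩} : Set J) = ⊤ := by
    have h1 := Subgroup.closure_closure_coe_preimage (k := ({X, Y} : Set (MulAut A)))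
    have h3 : ((↑) : ↥(Subgroup.closure ({X, Y} : Set (MulAut A))) → MulAut A) ⁻¹' {X, Y} =
        ({⟨X, hXJ⟩, ⟨Y, hYJ⟩} : Set J) := by
      ext ⟨g, hg⟩
      simp [Subtype.ext_iff]
    rw [h3] at h1
    exact h1
  have hx3 : (⟨X, hXJ⟩ : J) ^ 3 = 1 := Subtype.ext hX
  have hy3 : (⟨Y, hYJ⟩ : J) ^ 3 = 1 := Subtype.ext hY
  rcases pair_abstract hp hp5 hJ hdvd (⟨X, hXJ⟩ : J) ⟨Y, hYJ⟩ hx3 hy3 hgen with h | ⟨hp7, z, hz7, hz1, hzn, hzc⟩
  · left
    exact congrArg Subtype.val h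
  · right
    refine ⟨hp7, z.1, z.2, ?_, ?_, ?_, ?_⟩
    · exact congrArg Subtype.val hz7
    · intro h
      exact hz1 (Subtype.ext h)
    · -- `|cm B| = 8`
      have hB7 : z.1 ^ 7 = 1 := congrArg Subtype.val hz7
      have hmod := card_cm_modEq h2 z.1 (by norm_num : Nat.Prime 7) (by norm_num) hB7
      have hdv : Nat.card (cm z.1) ∣ 2 ^ 4 := by
        refine (Subgroup.card_dvd_of_le (hU z.1 z.2)).trans ?_
        rw [hd]
        exact pow_dvd_pow 2 hd24.2
      obtain ⟨m, hm4, hm⟩ := (Nat.dvd_prime_pow Nat.prime_two).mp hdv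
      have hne1 : Nat.card (cm z.1) ≠ 1 := by
        intro h1
        apply hz1
        apply Subtype.ext
        ext a
        have hmem : z.1 a * a⁻¹ ∈ cm z.1 := mem_cm.mpr ⟨a, rfl⟩
        have hbot : cm z.1 = ⊥ := Subgroup.card_eq_one.mp h1
        rw [hbot, Subgroup.mem_bot, mul_inv_eq_one] at hmem
        simpa using hmem
      rw [hm] at hmod hne1 ⊢
      unfold Nat.ModEq at hmod
      interval_cases m <;> simp_all
    · rcases hzc with h | h
      · left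
        refine ⟨?_, fun h' => h (Subtype.ext h')⟩
        obtain ⟨k, hk⟩ := Subgroup.mem_zpowers_iff.mp (hzn ⟨X, hXJ⟩)
        exact Subgroup.mem_zpowers_iff.mpr ⟨k, by
          have := congrArg Subtype.val hk
          simpa using this⟩
      · right
        refine ⟨?_, fun h' => h (Subtype.ext h')⟩
        obtain ⟨k, hk⟩ := Subgroup.mem_zpowers_iff.mp (hzn ⟨Y, hYJ⟩)
        exact Subgroup.mem_zpowers_iff.mpr ⟨k, by
          have := congrArg Subtype.val hk
          simpa using this⟩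

end Cfsg.Agent.Lib.H11.FG19
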