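import Cfsg.Prelude.Def_ClassicalGeometry
import Cfsg.Agent.Lib.H4.Orth
import Cfsg.Agent.S0784
import Cfsg.Agent.S0785

/-!
Weak Cartan–Dieudonné theorem in odd characteristic, in the matrix setting of the Prelude:
every element of `Cfsg.isometryGroup F ⇑Q` (with nondegenerate polar form, `2 ≠ 0`) lies in the
subgroup generated by the reflections `Cfsg.reflectionMatrix ⇑Q v`, `Q v ≠ 0`.
-/

set_option autoImplicit false

namespace Cfsg.Agent.Lib.H11.CD

open Matrix
open scoped MatrixGroups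

variable {F : Type*} [Field F] {n : ℕ} (Q : QuadraticForm F (Fin n → F))

/-- action of an isometry on a vector -/
def act (g : ↥(Cfsg.isometryGroup F ⇑Q)) (x : Fin n → F) : Fin n → F :=
  ((g : GL (Fin n) F) : Matrix (Fin n) (Fin n) F) *ᵥ x

theorem act_mul (g h : ↥(Cfsg.isometryGroup F ⇑Q)) (x : Fin n → F) :
    act Q (g * h) x = act Q g (act Q h x) := by
  simp only [act, Subgroup.coe_mul, Units.val_mul, Matrix.mulVec_mulVec]

theorem act_one (x : Fin n → F) : act Q 1 x = x := by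
  simp [act]

theorem act_add (g : ↥(Cfsg.isometryGroup F ⇑Q)) (x y : Fin n → F) :
    act Q g (x + y) = act Q g x + act Q g y := Matrix.mulVec_add _ _ _

theorem Q_act (g : ↥(Cfsg.isometryGroup F ⇑Q)) (x : Fin n → F) : Q (act Q g x) = Q x :=
  (Cfsg.Agent.S0785.mem_isometryGroup_iff (⇑Q) g.1).1 g.2 x

theorem polar_act (g : ↥(Cfsg.isometryGroup F ⇑Q)) (x y : Fin n → F) :
    QuadraticMap.polar (⇑Q) (act Q g x) (act Q g y) = QuadraticMap.polar (⇑Q) x y := by
  simp only [QuadraticMap.polar, ← act_add, Q_act]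

theorem eq_one_of_act (g : ↥(Cfsg.isometryGroup F ⇑Q)) (h : ∀ x, act Q g x = x) : g = 1 := by
  apply Subtype.ext
  apply Units.ext
  ext i j
  have := congrFun (h (Pi.single j 1)) i
  simp only [act, Matrix.mulVec_single_one] at this
  rw [Subgroup.coe_one, Units.val_one, Matrix.one_apply]
  rw [Matrix.col_apply] at this
  rw [this, Pi.single_apply]

/-- the reflection as an element of the isometry group -/
noncomputable def reflEl (v : Fin n → F) (hv : Q v ≠ 0) : ↥(Cfsg.isometryGroup F ⇑Q) :=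
  ⟨Matrix.GeneralLinearGroup.mkOfDetNeZero (Cfsg.reflectionMatrix (⇑Q) v)
    (by rw [(Cfsg.Agent.S0784.result Q v hv).2.2.2]; simp),
   (Cfsg.Agent.S0785.mem_isometryGroup_iff (⇑Q) _).2 (fun u => (Cfsg.Agent.S0784.result Q v hv).1 u)⟩

theorem reflEl_val (v : Fin n → F) (hv : Q v ≠ 0) :
    (((reflEl Q v hv : ↥(Cfsg.isometryGroup F ⇑Q)) : GL (Fin n) F) : Matrix (Fin n) (Fin n) F) =
      Cfsg.reflectionMatrix (⇑Q) v := rfl

theorem reflEl_act (v : Fin n → F) (hv : Q v ≠ 0) (x : Fin n → F) :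
    act Q (reflEl Q v hv) x = x - ((Q v)⁻¹ * QuadraticMap.polar (⇑Q) v x) • v := by
  rw [act, reflEl_val, Cfsg.Agent.Lib.H4.reflectionMatrix_mulVec]

theorem reflEl_act_of_polar_zero (v : Fin n → F) (hv : Q v ≠ 0) (x : Fin n → F)
    (h : QuadraticMap.polar (⇑Q) v x = 0) : act Q (reflEl Q v hv) x = x := by
  rw [reflEl_act, h, mul_zero, zero_smul, sub_zero]

theorem reflEl_act_self (v : Fin n → F) (hv : Q v ≠ 0) : act Q (reflEl Q v hv) v = -v := by
  rw [reflEl_act, Cfsg.Agent.Lib.H4.polar_self, ← mul_assoc, mul_comm _ (2:F), mul_assoc,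
    inv_mul_cancel₀ hv, mul_one, two_smul]
  abel

theorem Q_sub (w v : Fin n → F) :
    Q (w - v) = Q w + Q v - QuadraticMap.polar (⇑Q) w v := by
  rw [sub_eq_add_neg, QuadraticMap.map_add (⇑Q), QuadraticMap.map_neg, QuadraticMap.polar_neg_right]
  ring

/-- case A -/
theorem reflEl_sub_act (w v : Fin n → F) (hQ : Q w = Q v) (h : Q (w - v) ≠ 0) :
    act Q (reflEl Q (w - v) h) w = v := by
  rw [reflEl_act]
  have e : QuadraticMap.polar (⇑Q) (w - v) w = Q (w - v) := by
    rw [QuadraticMap.polar_sub_left, Cfsg.Agent.Lib.H4.polar_self, Q_sub, hQ,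
      QuadraticMap.polar_comm (⇑Q) w v]
    ring
  rw [e, inv_mul_cancel₀ h, one_smul]
  abel

/-- case B -/
theorem reflEl_add_act (w v : Fin n → F) (hQ : Q w = Q v) (h : Q (w + v) ≠ 0) :
    act Q (reflEl Q (w + v) h) w = -v := by
  rw [reflEl_act]
  have e : QuadraticMap.polar (⇑Q) (w + v) w = Q (w + v) := by
    rw [QuadraticMap.polar_add_left, Cfsg.Agent.Lib.H4.polar_self, QuadraticMap.map_add (⇑Q), hQ,
      QuadraticMap.polar_comm (⇑Q) w v]
    ring
  rw [e, inv_mul_cancel₀ h, one_smul]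
  abel

theorem act_neg (g : ↥(Cfsg.isometryGroup F ⇑Q)) (x : Fin n → F) :
    act Q g (-x) = -act Q g x := Matrix.mulVec_neg _ _

theorem act_smul (g : ↥(Cfsg.isometryGroup F ⇑Q)) (c : F) (x : Fin n → F) :
    act Q g (c • x) = c • act Q g x := Matrix.mulVec_smul _ _ _

def gens (U : Submodule F (Fin n → F)) : Set ↥(Cfsg.isometryGroup F ⇑Q) :=
  {r | ∃ v ∈ U, Q v ≠ 0 ∧
    ((r : GL (Fin n) F) : Matrix (Fin n) (Fin n) F) = Cfsg.reflectionMatrix (⇑Q) v}

theorem reflEl_mem_gens (U : Submodule F (Fin n → F)) (v : Fin n → F) (hvU : v ∈ U)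
    (hv : Q v ≠ 0) : reflEl Q v hv ∈ gens Q U := ⟨v, hvU, hv, rfl⟩

theorem gens_mono {U U' : Submodule F (Fin n → F)} (h : U' ≤ U) : gens Q U' ⊆ gens Q U := by
  rintro r ⟨v, hv, hQv, hr⟩
  exact ⟨v, h hv, hQv, hr⟩

/-- move `w` to `v` by a product of reflections in vectors of `U` -/
theorem exists_move (h2 : (2 : F) ≠ 0) (U : Submodule F (Fin n → F)) (v w : Fin n → F)
    (hvU : v ∈ U) (hwU : w ∈ U) (hv : Q v ≠ 0) (hQ : Q w = Q v) :
    ∃ s ∈ Subgroup.closure (gens Q U), act Q s w = v ∧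
      ∀ x, (∀ u ∈ U, QuadraticMap.polar (⇑Q) u x = 0) → act Q s x = x := by
  by_cases hA : Q (w - v) ≠ 0
  · refine ⟨reflEl Q (w - v) hA, Subgroup.subset_closure
      (reflEl_mem_gens Q U _ (U.sub_mem hwU hvU) hA), reflEl_sub_act Q w v hQ hA, ?_⟩
    intro x hx
    exact reflEl_act_of_polar_zero Q _ hA x (hx _ (U.sub_mem hwU hvU))
  · rw [not_not] at hA
    have hB : Q (w + v) ≠ 0 := by
      have h1 := Q_sub Q w v
      rw [hA, hQ] at h1
      have h3 : Q (w + v) = 2 * 2 * Q v := by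
        rw [QuadraticMap.map_add (⇑Q), hQ]
        linear_combination h1
      rw [h3]
      exact mul_ne_zero (mul_ne_zero h2 h2) hv
    refine ⟨reflEl Q v hv * reflEl Q (w + v) hB, ?_, ?_, ?_⟩
    · exact mul_mem (Subgroup.subset_closure (reflEl_mem_gens Q U _ hvU hv))
        (Subgroup.subset_closure (reflEl_mem_gens Q U _ (U.add_mem hwU hvU) hB))
    · rw [act_mul, reflEl_add_act Q w v hQ hB, act_neg, reflEl_act_self, neg_neg]
    · intro x hx
      rw [act_mul, reflEl_act_of_polar_zero Q _ hB x (hx _ (U.add_mem hwU hvU)),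
        reflEl_act_of_polar_zero Q _ hv x (hx _ hvU)]

theorem cd_aux (hQ : (QuadraticMap.polarBilin Q).Nondegenerate) (h2 : (2 : F) ≠ 0) :
    ∀ d : ℕ, ∀ U : Submodule F (Fin n → F), Module.finrank F U = d →
      (∀ u ∈ U, (∀ u' ∈ U, QuadraticMap.polar (⇑Q) u u' = 0) → u = 0) →
      ∀ g : ↥(Cfsg.isometryGroup F ⇑Q),
        (∀ x, (∀ u ∈ U, QuadraticMap.polar (⇑Q) u x = 0) → act Q g x = x) →
        g ∈ Subgroup.closure (gens Q U) := by
  intro d
  induction d using Nat.strong_induction_on with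
  | _ d ih =>
    intro U hd hnd g hg
    by_cases hU : U = ⊥
    · have : g = 1 := by
        apply eq_one_of_act
        intro x
        apply hg
        intro u hu
        rw [hU, Submodule.mem_bot] at hu
        rw [hu]; simp
      rw [this]; exact one_mem _
    obtain ⟨v, hvU, hv⟩ : ∃ v ∈ U, Q v ≠ 0 := by
      by_contra hcon
      push Not at hcon
      apply hU
      rw [eq_bot_iff]
      intro u hu
      rw [Submodule.mem_bot]
      apply hnd u hu
      intro u' hu'
      rw [QuadraticMap.polar, hcon _ (U.add_mem hu hu'), hcon u hu, hcon u' hu']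
      simp
    obtain ⟨B, hB⟩ : ∃ B : LinearMap.BilinForm F (Fin n → F), B = QuadraticMap.polarBilin Q :=
      ⟨_, rfl⟩
    have hBapp : ∀ x y, B x y = QuadraticMap.polar (⇑Q) x y := fun x y => by rw [hB]; rfl
    have hsymm : ∀ x y, B x y = B y x := fun x y => by
      rw [hBapp, hBapp, QuadraticMap.polar_comm]
    have hrefl : B.IsRefl := fun x y h => by rw [hsymm, h]
    have hQ' : B.Nondegenerate := hB ▸ hQ
    have hwU : act Q g v ∈ U := by
      rw [← LinearMap.BilinForm.orthogonal_orthogonal hQ' hrefl U]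
      rw [LinearMap.BilinForm.mem_orthogonal_iff]
      intro y hy
      have hy' : ∀ u ∈ U, QuadraticMap.polar (⇑Q) u y = 0 := fun u hu => by
        rw [← hBapp]; exact (LinearMap.BilinForm.mem_orthogonal_iff.1 hy) u hu
      have hgy : act Q g y = y := hg y hy'
      show B y (act Q g v) = 0
      rw [hBapp]
      nth_rewrite 1 [← hgy]
      rw [polar_act, QuadraticMap.polar_comm]
      exact hy' v hvU
    obtain ⟨s, hs, hsw, hsfix⟩ := exists_move Q h2 U v (act Q g v) hvU hwU hv (Q_act Q g v)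
    -- g' = s * g fixes v and U^⊥
    have hg'v : act Q (s * g) v = v := by rw [act_mul, hsw]
    have hg'fix : ∀ x, (∀ u ∈ U, QuadraticMap.polar (⇑Q) u x = 0) → act Q (s * g) x = x := by
      intro x hx
      rw [act_mul, hg x hx, hsfix x hx]
    have hvv : B v v ≠ 0 := by
      rw [hBapp, Cfsg.Agent.Lib.H4.polar_self]
      exact mul_ne_zero h2 hv
    obtain ⟨U', hU'⟩ : ∃ U' : Submodule F (Fin n → F), U' = U ⊓ LinearMap.ker (B v) := ⟨_, rfl⟩
    have hmemU' : ∀ u, u ∈ U' ↔ u ∈ U ∧ B v u = 0 := by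
      intro u
      rw [hU', Submodule.mem_inf, LinearMap.mem_ker]
    have hU'le : U' ≤ U := fun u hu => ((hmemU' u).1 hu).1
    have hU'lt : U' < U := by
      refine lt_of_le_of_ne hU'le ?_
      intro h
      have : v ∈ U' := h ▸ hvU
      exact hvv ((hmemU' v).1 this).2
    -- projection
    have hproj : ∀ u ∈ U, u - (B v u / B v v) • v ∈ U' := by
      intro u hu
      rw [hmemU']
      refine ⟨U.sub_mem hu (U.smul_mem _ hvU), ?_⟩
      rw [map_sub, map_smul, smul_eq_mul, div_mul_cancel₀ _ hvv, sub_self]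
    have hnd' : ∀ u ∈ U', (∀ u' ∈ U', QuadraticMap.polar (⇑Q) u u' = 0) → u = 0 := by
      intro u hu h
      apply hnd u (hU'le hu)
      intro u' hu'
      have h1 := h _ (hproj u' hu')
      rw [← hBapp] at h1 ⊢
      rw [map_sub, map_smul, smul_eq_mul, hsymm u v, ((hmemU' u).1 hu).2, mul_zero, sub_zero] at h1
      exact h1
    have hfix' : ∀ x, (∀ u ∈ U', QuadraticMap.polar (⇑Q) u x = 0) → act Q (s * g) x = x := by
      intro x hx
      obtain ⟨c, hc⟩ : ∃ c, c = B v x / B v v := ⟨_, rfl⟩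
      have hy : ∀ u ∈ U, QuadraticMap.polar (⇑Q) u (x - c • v) = 0 := by
        intro u hu
        have h1 := hx _ (hproj u hu)
        rw [← hBapp] at h1 ⊢
        rw [map_sub, LinearMap.sub_apply, map_smul, LinearMap.smul_apply, smul_eq_mul,
          sub_eq_zero] at h1
        rw [map_sub, map_smul, smul_eq_mul, h1, hc, hsymm u v]
        field_simp
        ring
      have h3 := hg'fix _ hy
      have : x = (x - c • v) + c • v := by abel
      rw [this, act_add, h3, act_smul, hg'v]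
    have hlt : Module.finrank F U' < d := by
      rw [← hd]
      exact Submodule.finrank_lt_finrank_of_lt hU'lt
    have hmem := ih _ hlt U' rfl hnd' (s * g) hfix'
    have hmem' : s * g ∈ Subgroup.closure (gens Q U) :=
      Subgroup.closure_mono (gens_mono Q hU'le) hmem
    have : g = s⁻¹ * (s * g) := by group
    rw [this]
    exact mul_mem (inv_mem hs) hmem'

theorem cartan_dieudonne (hQ : (QuadraticMap.polarBilin Q).Nondegenerate) (h2 : (2 : F) ≠ 0)
    (g : ↥(Cfsg.isometryGroup F ⇑Q)) :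
    g ∈ Subgroup.closure {r : ↥(Cfsg.isometryGroup F ⇑Q) | ∃ v, Q v ≠ 0 ∧
      ((r : GL (Fin n) F) : Matrix (Fin n) (Fin n) F) = Cfsg.reflectionMatrix (⇑Q) v} := by
  have := cd_aux Q hQ h2 _ ⊤ rfl ?_ g ?_
  · refine Subgroup.closure_mono ?_ this
    rintro r ⟨v, -, hv, hr⟩
    exact ⟨v, hv, hr⟩
  · intro u _ h
    apply hQ.1 u
    intro y
    exact h y Submodule.mem_top
  · intro x hx
    have : x = 0 := by
      apply hQ.2 x
      intro y
      exact hx y Submodule.mem_top
    rw [this]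
    simp [act]


end Cfsg.Agent.Lib.H11.CD
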