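import Cfsg.Agent.Lib.H11.OmegaOrder
import Cfsg.Agent.S0786

/-!
`PΩ(Q)` for all `q`: simplicity and order, for a form on any index type of size at least 8.
The characteristic-two case takes `[O : Ω] = 2` (for the reindexed form on `Fin n`) as a hypothesis.
-/

set_option autoImplicit false

namespace Cfsg.Agent.Lib.H11.OmegaAll

open Matrix
open scoped MatrixGroups
open Cfsg.Agent.Lib.H11.OmegaSimple Cfsg.Agent.Lib.H11.OmegaTrans Cfsg.Agent.Lib.H11.SiegelGen
  Cfsg.Agent.Lib.H11.IsoReindex Cfsg.Agent.Lib.H11.OmegaOrder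

theorem two_eq_zero_of_even {F : Type*} [Field F] [Fintype F] (h : Even (Fintype.card F)) :
    (2 : F) = 0 := by
  obtain ⟨p, hp⟩ := CharP.exists F
  have hpp : p.Prime := CharP.char_is_prime F p
  haveI : Fact p.Prime := ⟨hpp⟩
  obtain ⟨n, hpn, hcard⟩ := FiniteField.card F p
  rw [hcard] at h
  have h2p : 2 ∣ p := Nat.Prime.dvd_of_dvd_pow Nat.prime_two (even_iff_two_dvd.1 h)
  have hp2 : p = 2 := ((Nat.prime_dvd_prime_iff_eq Nat.prime_two hpp).1 h2p).symm
  subst hp2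
  exact_mod_cast CharP.cast_eq_zero F 2

theorem rGen_tr {F : Type*} [Field F] [Fintype F] {ι : Type} [Fintype ι] [DecidableEq ι]
    (Q : QuadraticForm F (ι → F)) (hQ : (QuadraticMap.polarBilin Q).Nondegenerate)
    (hcard : 5 ≤ Fintype.card ι) : RGen (trQF (Fintype.equivFin ι) Q) := by
  intro g
  rw [Cfsg.Agent.S0786.result (trQF (Fintype.equivFin ι) Q) (nondeg_trQF _ Q hQ)
    (Or.inr (by omega))]
  exact Subgroup.mem_top g

/-- simplicity of `PΩ(Q)`, all `q`, dimension at least 8 -/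
theorem simple_any {F : Type*} [Field F] [Fintype F] {ι : Type} [Fintype ι] [DecidableEq ι]
    (Q : QuadraticForm F (ι → F)) (hQ : (QuadraticMap.polarBilin Q).Nondegenerate)
    (hcard : 8 ≤ Fintype.card ι)
    (hidx : (2 : F) = 0 → (Cfsg.Omega F ⇑(trQF (Fintype.equivFin ι) Q)).index = 2) :
    IsSimpleGroup (Cfsg.POmega F ⇑Q) := by
  set e := Fintype.equivFin ι
  have hnd' := nondeg_trQF e Q hQ
  apply simple_transport Q e
  by_cases h2 : (2 : F) = 0
  · have : CharP F 2 := CharTwo.of_one_ne_zero_of_two_eq_zero one_ne_zero h2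
    exact simple_char_two (trQF e Q) hnd' (rGen_tr Q hQ (by omega)) (hidx h2) (by omega)
  · exact simple (trQF e Q) hnd' (adj_of_odd _ hnd' h2) (by omega)
      (commutator_eq_S _ hnd' h2 (by omega))

/-- characteristic two, any index type: `|PΩ| · 2 = |O|` -/
theorem card_char_two_any {F : Type*} [Field F] [Fintype F] [CharP F 2] {ι : Type} [Fintype ι]
    [DecidableEq ι] (Q : QuadraticForm F (ι → F))
    (hQ : (QuadraticMap.polarBilin Q).Nondegenerate) (hcard : 8 ≤ Fintype.card ι)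
    (hidx : (Cfsg.Omega F ⇑(trQF (Fintype.equivFin ι) Q)).index = 2) :
    Nat.card (Cfsg.POmega F ⇑Q) * 2 = Nat.card ↥(Cfsg.isometryGroup F ⇑Q) := by
  set e := Fintype.equivFin ι
  have hnd' := nondeg_trQF e Q hQ
  have := card_pomega_char_two (trQF e Q) hnd' (rGen_tr Q hQ (by omega)) hidx (by omega)
  rw [(card_transport Q e).1, (card_transport Q e).2]
  exact this

theorem gcd_four_of_mod_one (x : ℕ) (h : x % 4 = 1) : Nat.gcd 4 (x - 1) = 4 :=
  Nat.gcd_eq_left (by omega)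

theorem gcd_four_of_mod_three (x : ℕ) (h : x % 4 = 3) : Nat.gcd 4 (x - 1) = 2 := by
  obtain ⟨k, hk⟩ : ∃ k, x - 1 = 2 + k * 4 := ⟨(x - 1) / 4, by omega⟩
  rw [hk, Nat.gcd_add_mul_right_right]
  rfl

theorem gcd_four_of_even (x : ℕ) (h : Even x) (hx : 0 < x) : Nat.gcd 4 (x - 1) = 1 := by
  have hodd : Odd (x - 1) := by
    obtain ⟨k, hk⟩ := h
    exact ⟨k - 1, by omega⟩
  have : Nat.Coprime 2 (x - 1) := Nat.coprime_two_left.2 hodd
  exact Nat.Coprime.pow_left 2 this

theorem gcd_four_succ_of_mod_three (x : ℕ) (h : x % 4 = 3) : Nat.gcd 4 (x + 1) = 4 :=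
  Nat.gcd_eq_left (by omega)

theorem gcd_four_succ_of_mod_one (x : ℕ) (h : x % 4 = 1) : Nat.gcd 4 (x + 1) = 2 := by
  obtain ⟨k, hk⟩ : ∃ k, x + 1 = 2 + k * 4 := ⟨(x + 1) / 4, by omega⟩
  rw [hk, Nat.gcd_add_mul_right_right]
  rfl

theorem gcd_four_succ_of_even (x : ℕ) (h : Even x) : Nat.gcd 4 (x + 1) = 1 := by
  have hodd : Odd (x + 1) := h.add_one
  have : Nat.Coprime 2 (x + 1) := Nat.coprime_two_left.2 hodd
  exact Nat.Coprime.pow_left 2 this

end Cfsg.Agent.Lib.H11.OmegaAll
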