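import Mathlib
import Cfsg.Prelude.Def_Classical
import Cfsg.Agent.S0750

set_option autoImplicit false
set_option linter.unusedSectionVars false
set_option linter.unusedVariables false

/-!
# Recursion for the order of an orthogonal group: splitting off a hyperbolic plane

For index types `ι' ≃ ι ⊕ Bool` and quadratic forms `Q'` on `F^ι'`, `Q` on `F^ι` with
`Q' u = Q (u restricted to ι) + u_a * u_b`, we show
`|O(Q')| = |O(Q)| * ((#zeros of Q') - 1) * q^|ι|`.
-/

namespace Cfsg.Agent.Lib.H11.OrthStep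

open Matrix

variable {F : Type*} [Field F] {ι ι' : Type} [Fintype ι] [DecidableEq ι] [Fintype ι']
  [DecidableEq ι'] (σ : ι' ≃ ι ⊕ Bool)

/-- embedding of index types -/
def emb (i : ι) : ι' := σ.symm (Sum.inl i)

/-- the two new indices -/
def ia : ι' := σ.symm (Sum.inr false)
def ib : ι' := σ.symm (Sum.inr true)

/-- build a big vector -/
def build (x : ι → F) (a b : F) : ι' → F :=
  fun i' => Sum.elim x (fun c => bif c then b else a) (σ i')

@[simp] theorem build_emb (x : ι → F) (a b : F) (i : ι) : build σ x a b (emb σ i) = x i := by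
  simp [build, emb]

@[simp] theorem build_ia (x : ι → F) (a b : F) : build σ x a b (ia σ) = a := by
  simp [build, ia]

@[simp] theorem build_ib (x : ι → F) (a b : F) : build σ x a b (ib σ) = b := by
  simp [build, ib]

theorem build_comp_emb (x : ι → F) (a b : F) : build σ x a b ∘ emb σ = x :=
  funext (build_emb σ x a b)

theorem emb_ne_ia (i : ι) : emb σ i ≠ ia σ := by
  intro h
  have := σ.symm.injective h
  simp at this

theorem emb_ne_ib (i : ι) : emb σ i ≠ ib σ := by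
  intro h
  have := σ.symm.injective h
  simp at this

theorem ia_ne_ib : ia σ ≠ ib σ := by
  intro h
  have := σ.symm.injective h
  simp at this

theorem emb_injective : Function.Injective (emb σ) := by
  intro i j h
  have := σ.symm.injective h
  simpa using this

theorem vec_ext (u v : ι' → F) (h : ∀ i, u (emb σ i) = v (emb σ i)) (ha : u (ia σ) = v (ia σ))
    (hb : u (ib σ) = v (ib σ)) : u = v := by
  funext i'
  obtain ⟨s, rfl⟩ := σ.symm.surjective i'
  rcases s with i | c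
  · exact h i
  · cases c
    · exact ha
    · exact hb

theorem build_eta (u : ι' → F) : build σ (u ∘ emb σ) (u (ia σ)) (u (ib σ)) = u := by
  apply vec_ext σ <;> simp

theorem sum_split {M : Type*} [AddCommMonoid M] (f : ι' → M) :
    ∑ i', f i' = ∑ i, f (emb σ i) + f (ia σ) + f (ib σ) := by
  rw [← Equiv.sum_comp σ.symm, Fintype.sum_sum_type, Fintype.sum_bool, add_assoc]
  congr 1
  exact add_comm _ _

/-- zero extension -/
def zext (x : ι → F) : ι' → F := build σ x 0 0

theorem zext_comp_emb (x : ι → F) : zext σ x ∘ emb σ = x := build_comp_emb σ x 0 0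

theorem zext_ia (x : ι → F) : zext σ x (ia σ) = 0 := build_ia σ x 0 0

theorem zext_ib (x : ι → F) : zext σ x (ib σ) = 0 := build_ib σ x 0 0

theorem single_ia_comp_emb : (Pi.single (ia σ) (1 : F) : ι' → F) ∘ emb σ = 0 := by
  funext i
  simp [emb_ne_ia σ i]

theorem single_ib_comp_emb : (Pi.single (ib σ) (1 : F) : ι' → F) ∘ emb σ = 0 := by
  funext i
  simp [emb_ne_ib σ i]

/-- the extension of a linear map by the identity on the new coordinates -/
def L (B : Matrix ι ι F) : (ι' → F) →ₗ[F] (ι' → F) where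
  toFun u := build σ (B *ᵥ (u ∘ emb σ)) (u (ia σ)) (u (ib σ))
  map_add' u v := by
    have : (u + v) ∘ emb σ = u ∘ emb σ + v ∘ emb σ := rfl
    apply vec_ext σ <;> simp [this, Matrix.mulVec_add]
  map_smul' c u := by
    have : (c • u) ∘ emb σ = c • (u ∘ emb σ) := rfl
    apply vec_ext σ <;> simp [this, Matrix.mulVec_smul]

theorem L_emb (B : Matrix ι ι F) (u : ι' → F) (i : ι) :
    L σ B u (emb σ i) = (B *ᵥ (u ∘ emb σ)) i := by
  simp [L]

theorem L_comp_emb (B : Matrix ι ι F) (u : ι' → F) :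
    (L σ B u) ∘ emb σ = B *ᵥ (u ∘ emb σ) := funext (L_emb σ B u)

theorem L_ia (B : Matrix ι ι F) (u : ι' → F) : L σ B u (ia σ) = u (ia σ) := by
  simp [L]

theorem L_ib (B : Matrix ι ι F) (u : ι' → F) : L σ B u (ib σ) = u (ib σ) := by
  simp [L]

/-- the extended matrix -/
def ext (B : Matrix ι ι F) : Matrix ι' ι' F :=
  LinearMap.toMatrix' (L σ B)

theorem ext_mulVec (B : Matrix ι ι F) (u : ι' → F) : ext σ B *ᵥ u = L σ B u :=
  LinearMap.toMatrix'_mulVec _ _

theorem ext_mul (B C : Matrix ι ι F) : ext σ (B * C) = ext σ B * ext σ C := by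
  rw [Matrix.ext_iff_mulVec]
  intro u
  rw [← Matrix.mulVec_mulVec, ext_mulVec, ext_mulVec, ext_mulVec]
  apply vec_ext σ
  · intro i
    rw [L_emb, L_emb, L_comp_emb, Matrix.mulVec_mulVec]
  · rw [L_ia, L_ia, L_ia]
  · rw [L_ib, L_ib, L_ib]

theorem ext_one : ext σ (1 : Matrix ι ι F) = 1 := by
  rw [Matrix.ext_iff_mulVec]
  intro u
  rw [ext_mulVec, Matrix.one_mulVec]
  apply vec_ext σ
  · intro i
    rw [L_emb, Matrix.one_mulVec]; rfl
  · rw [L_ia]
  · rw [L_ib]

theorem ext_injective : Function.Injective (ext (F := F) σ) := by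
  intro B C h
  rw [Matrix.ext_iff_mulVec]
  intro x
  have h1 := congrArg (fun M => (M *ᵥ zext σ x) ∘ emb σ) h
  simp only [ext_mulVec, L_comp_emb, zext_comp_emb] at h1
  exact h1

theorem ext_mulVec_single_ia (B : Matrix ι ι F) :
    ext σ B *ᵥ (Pi.single (ia σ) 1) = Pi.single (ia σ) 1 := by
  rw [ext_mulVec]
  apply vec_ext σ
  · intro i
    rw [L_emb, single_ia_comp_emb, Matrix.mulVec_zero, Pi.single_eq_of_ne (emb_ne_ia σ i)]
    rfl
  · rw [L_ia]
  · rw [L_ib]

theorem ext_mulVec_single_ib (B : Matrix ι ι F) :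
    ext σ B *ᵥ (Pi.single (ib σ) 1) = Pi.single (ib σ) 1 := by
  rw [ext_mulVec]
  apply vec_ext σ
  · intro i
    rw [L_emb, single_ib_comp_emb, Matrix.mulVec_zero, Pi.single_eq_of_ne (emb_ne_ib σ i)]
    rfl
  · rw [L_ia]
  · rw [L_ib]

/-- the monoid hom `ext` -/
def extHom : Matrix ι ι F →* Matrix ι' ι' F where
  toFun := ext σ
  map_one' := ext_one σ
  map_mul' := ext_mul σ

/-- `GL → GL` -/
def extGL : GL ι F →* GL ι' F := Units.map (extHom σ)

theorem extGL_val (B : GL ι F) : ((extGL σ B : GL ι' F) : Matrix ι' ι' F) = ext σ B.1 := rfl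

/-! ### Isometry groups -/

theorem mem_iso_iff {κ : Type} [Fintype κ] [DecidableEq κ] (Q : (κ → F) → F) (g : GL κ F) :
    g ∈ Cfsg.isometryGroup F Q ↔ ∀ x, Q (g.1 *ᵥ x) = Q x := by
  constructor
  · intro h x; exact h x 0
  · intro h x _; exact h x

theorem polar_mulVec {κ : Type} [Fintype κ] [DecidableEq κ] (Q : (κ → F) → F)
    (M : Matrix κ κ F) (hM : ∀ x, Q (M *ᵥ x) = Q x) (x y : κ → F) :
    QuadraticMap.polar Q (M *ᵥ x) (M *ᵥ y) = QuadraticMap.polar Q x y := by
  simp only [QuadraticMap.polar, ← Matrix.mulVec_add, hM]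

/-- GL element of a linear equivalence -/
noncomputable def glOfEquiv {κ : Type} [Fintype κ] [DecidableEq κ]
    (e : (κ → F) ≃ₗ[F] (κ → F)) : GL κ F :=
  ⟨LinearMap.toMatrix' (e : (κ → F) →ₗ[F] (κ → F)),
    LinearMap.toMatrix' (e.symm : (κ → F) →ₗ[F] (κ → F)),
    by rw [← LinearMap.toMatrix'_comp]; simp,
    by rw [← LinearMap.toMatrix'_comp]; simp⟩

theorem glOfEquiv_mulVec {κ : Type} [Fintype κ] [DecidableEq κ]
    (e : (κ → F) ≃ₗ[F] (κ → F)) (v : κ → F) : (glOfEquiv e).1 *ᵥ v = e v := by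
  show (LinearMap.toMatrix' (e : (κ → F) →ₗ[F] (κ → F))) *ᵥ v = e v
  rw [LinearMap.toMatrix'_mulVec]; rfl

theorem inv_mulVec_mulVec {κ : Type} [Fintype κ] [DecidableEq κ] (g : GL κ F) (v : κ → F) :
    (g⁻¹ : GL κ F).1 *ᵥ (g.1 *ᵥ v) = v := by
  rw [Matrix.mulVec_mulVec]
  have : (g⁻¹ : GL κ F).1 * g.1 = 1 := by
    rw [← Units.val_mul, inv_mul_cancel]; rfl
  rw [this, Matrix.one_mulVec]

theorem mulVec_inv_mulVec {κ : Type} [Fintype κ] [DecidableEq κ] (g : GL κ F) (v : κ → F) :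
    g.1 *ᵥ ((g⁻¹ : GL κ F).1 *ᵥ v) = v := by
  rw [Matrix.mulVec_mulVec]
  have : g.1 * (g⁻¹ : GL κ F).1 = 1 := by
    rw [← Units.val_mul, mul_inv_cancel]; rfl
  rw [this, Matrix.one_mulVec]

/-! ### Hyperbolic pairs -/

/-- hyperbolic pairs -/
abbrev HypPair {κ : Type} [Fintype κ] [DecidableEq κ] (Q : (κ → F) → F) : Type _ :=
  {p : (κ → F) × (κ → F) // Q p.1 = 0 ∧ Q p.2 = 0 ∧ QuadraticMap.polar Q p.1 p.2 = 1}

/-- the action of the isometry group on hyperbolic pairs -/
def actHyp {κ : Type} [Fintype κ] [DecidableEq κ] (Q : (κ → F) → F) :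
    MulAction ↥(Cfsg.isometryGroup F Q) (HypPair Q) where
  smul g p := ⟨((g : GL κ F).1 *ᵥ p.1.1, (g : GL κ F).1 *ᵥ p.1.2), by
    have hg := (mem_iso_iff Q g.1).1 g.2
    refine ⟨?_, ?_, ?_⟩
    · show Q ((g : GL κ F).1 *ᵥ p.1.1) = 0
      rw [hg]; exact p.2.1
    · show Q ((g : GL κ F).1 *ᵥ p.1.2) = 0
      rw [hg]; exact p.2.2.1
    · show QuadraticMap.polar Q ((g : GL κ F).1 *ᵥ p.1.1) ((g : GL κ F).1 *ᵥ p.1.2) = 1
      rw [polar_mulVec Q _ hg]; exact p.2.2.2⟩
  one_smul p := by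
    apply Subtype.ext
    apply Prod.ext
    · show ((1 : ↥(Cfsg.isometryGroup F Q)) : GL κ F).1 *ᵥ p.1.1 = p.1.1
      rw [OneMemClass.coe_one, Units.val_one, Matrix.one_mulVec]
    · show ((1 : ↥(Cfsg.isometryGroup F Q)) : GL κ F).1 *ᵥ p.1.2 = p.1.2
      rw [OneMemClass.coe_one, Units.val_one, Matrix.one_mulVec]
  mul_smul g h p := by
    apply Subtype.ext
    apply Prod.ext
    · show ((g * h : ↥(Cfsg.isometryGroup F Q)) : GL κ F).1 *ᵥ p.1.1 =
        (g : GL κ F).1 *ᵥ ((h : GL κ F).1 *ᵥ p.1.1)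
      rw [Subgroup.coe_mul, Units.val_mul, Matrix.mulVec_mulVec]
    · show ((g * h : ↥(Cfsg.isometryGroup F Q)) : GL κ F).1 *ᵥ p.1.2 =
        (g : GL κ F).1 *ᵥ ((h : GL κ F).1 *ᵥ p.1.2)
      rw [Subgroup.coe_mul, Units.val_mul, Matrix.mulVec_mulVec]

attribute [local instance] actHyp

theorem smul_fst {κ : Type} [Fintype κ] [DecidableEq κ] (Q : (κ → F) → F)
    (g : ↥(Cfsg.isometryGroup F Q)) (p : HypPair Q) :
    (g • p).1.1 = (g : GL κ F).1 *ᵥ p.1.1 := rfl

theorem smul_snd {κ : Type} [Fintype κ] [DecidableEq κ] (Q : (κ → F) → F)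
    (g : ↥(Cfsg.isometryGroup F Q)) (p : HypPair Q) :
    (g • p).1.2 = (g : GL κ F).1 *ᵥ p.1.2 := rfl

section witt

variable {κ : Type} [Fintype κ] [DecidableEq κ] (Q : QuadraticForm F (κ → F))
  (hQ : (QuadraticMap.polarBilin Q).Nondegenerate)

theorem li_pair (x y : κ → F) (hx : Q x = 0) (hy : Q y = 0)
    (hxy : QuadraticMap.polar (⇑Q) x y = 1) : LinearIndependent F ![x, y] := by
  have hxx : QuadraticMap.polar (⇑Q) x x = 0 := by
    rw [Cfsg.Agent.S0750.polar_self', hx, mul_zero]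
  have hyy : QuadraticMap.polar (⇑Q) y y = 0 := by
    rw [Cfsg.Agent.S0750.polar_self', hy, mul_zero]
  have hyx : QuadraticMap.polar (⇑Q) y x = 1 := by rw [QuadraticMap.polar_comm]; exact hxy
  rw [LinearIndependent.pair_iff]
  intro s t hst
  have h1 : QuadraticMap.polar (⇑Q) (s • x + t • y) y = 0 := by
    rw [hst, QuadraticMap.polar_zero_left]
  have h2 : QuadraticMap.polar (⇑Q) (s • x + t • y) x = 0 := by
    rw [hst, QuadraticMap.polar_zero_left]
  rw [QuadraticMap.polar_add_left, QuadraticMap.polar_smul_left, QuadraticMap.polar_smul_left,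
    hxy, hyy] at h1
  rw [QuadraticMap.polar_add_left, QuadraticMap.polar_smul_left, QuadraticMap.polar_smul_left,
    hxx, hyx] at h2
  simp only [smul_eq_mul, mul_one, mul_zero, add_zero, zero_add] at h1 h2
  exact ⟨h1, h2⟩

include hQ

theorem isPretransitive : MulAction.IsPretransitive ↥(Cfsg.isometryGroup F ⇑Q) (HypPair ⇑Q) := by
  constructor
  intro p p'
  have hli := li_pair Q p.1.1 p.1.2 p.2.1 p.2.2.1 p.2.2.2
  have hli' := li_pair Q p'.1.1 p'.1.2 p'.2.1 p'.2.2.1 p'.2.2.2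
  obtain ⟨e, he, hexy⟩ := Cfsg.Agent.S0750.witt_family Q hQ 2 ![p.1.1, p.1.2] ![p'.1.1, p'.1.2]
    hli hli'
    (by
      intro i
      fin_cases i
      · show Q p'.1.1 = Q p.1.1
        rw [p.2.1, p'.2.1]
      · show Q p'.1.2 = Q p.1.2
        rw [p.2.2.1, p'.2.2.1])
    (by
      have h1 : ∀ x : κ → F, Q x = 0 → QuadraticMap.polar (⇑Q) x x = 0 := by
        intro x hx
        rw [Cfsg.Agent.S0750.polar_self', hx, mul_zero]
      have h2 : QuadraticMap.polar (⇑Q) p.1.2 p.1.1 = 1 := by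
        rw [QuadraticMap.polar_comm]; exact p.2.2.2
      have h2' : QuadraticMap.polar (⇑Q) p'.1.2 p'.1.1 = 1 := by
        rw [QuadraticMap.polar_comm]; exact p'.2.2.2
      intro i j
      fin_cases i <;> fin_cases j
      · show QuadraticMap.polar (⇑Q) p'.1.1 p'.1.1 = QuadraticMap.polar (⇑Q) p.1.1 p.1.1
        rw [h1 _ p.2.1, h1 _ p'.2.1]
      · show QuadraticMap.polar (⇑Q) p'.1.1 p'.1.2 = QuadraticMap.polar (⇑Q) p.1.1 p.1.2
        rw [p.2.2.2, p'.2.2.2]
      · show QuadraticMap.polar (⇑Q) p'.1.2 p'.1.1 = QuadraticMap.polar (⇑Q) p.1.2 p.1.1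
        rw [h2, h2']
      · show QuadraticMap.polar (⇑Q) p'.1.2 p'.1.2 = QuadraticMap.polar (⇑Q) p.1.2 p.1.2
        rw [h1 _ p.2.2.1, h1 _ p'.2.2.1])
  have hmem : glOfEquiv e ∈ Cfsg.isometryGroup F ⇑Q := by
    rw [mem_iso_iff]
    intro x
    rw [glOfEquiv_mulVec]
    exact he x
  refine ⟨⟨glOfEquiv e, hmem⟩, ?_⟩
  apply Subtype.ext
  apply Prod.ext
  · show (glOfEquiv e).1 *ᵥ p.1.1 = p'.1.1
    rw [glOfEquiv_mulVec]
    exact hexy 0
  · show (glOfEquiv e).1 *ᵥ p.1.2 = p'.1.2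
    rw [glOfEquiv_mulVec]
    exact hexy 1

/-- transitivity on nonzero singular vectors -/
theorem exists_map_singular (u u' : κ → F) (hu : u ≠ 0) (hu' : u' ≠ 0) (hQu : Q u = 0)
    (hQu' : Q u' = 0) :
    ∃ g : GL κ F, g ∈ Cfsg.isometryGroup F ⇑Q ∧ g.1 *ᵥ u = u' := by
  have hli : LinearIndependent F ![u] := by
    rw [linearIndependent_unique_iff]
    exact hu
  have hli' : LinearIndependent F ![u'] := by
    rw [linearIndependent_unique_iff]
    exact hu'
  obtain ⟨e, he, hexy⟩ := Cfsg.Agent.S0750.witt_family Q hQ 1 ![u] ![u'] hli hli'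
    (by
      intro i
      fin_cases i
      show Q u' = Q u
      rw [hQu, hQu'])
    (by
      intro i j
      fin_cases i; fin_cases j
      show QuadraticMap.polar (⇑Q) u' u' = QuadraticMap.polar (⇑Q) u u
      rw [Cfsg.Agent.S0750.polar_self', Cfsg.Agent.S0750.polar_self', hQu, hQu'])
  refine ⟨glOfEquiv e, ?_, ?_⟩
  · rw [mem_iso_iff]
    intro x
    rw [glOfEquiv_mulVec]
    exact he x
  · rw [glOfEquiv_mulVec]
    exact hexy 0

/-- the number of hyperbolic partners does not depend on the singular vector -/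
theorem card_partner_eq (u u' : κ → F) (hu : u ≠ 0) (hu' : u' ≠ 0) (hQu : Q u = 0)
    (hQu' : Q u' = 0) :
    Nat.card {v : κ → F // Q v = 0 ∧ QuadraticMap.polar (⇑Q) u v = 1} =
      Nat.card {v : κ → F // Q v = 0 ∧ QuadraticMap.polar (⇑Q) u' v = 1} := by
  obtain ⟨g, hg, hgu⟩ := exists_map_singular Q hQ u u' hu hu' hQu hQu'
  have hg' := (mem_iso_iff _ g).1 hg
  have hgi : ∀ x, Q ((g⁻¹ : GL κ F).1 *ᵥ x) = Q x := by
    intro x
    have := hg' ((g⁻¹ : GL κ F).1 *ᵥ x)
    rw [mulVec_inv_mulVec] at this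
    exact this.symm
  apply Nat.card_congr
  exact
    { toFun := fun v => ⟨g.1 *ᵥ v.1, by rw [hg']; exact v.2.1, by
        rw [← hgu, polar_mulVec (⇑Q) g.1 hg']; exact v.2.2⟩
      invFun := fun v => ⟨(g⁻¹ : GL κ F).1 *ᵥ v.1, by rw [hgi]; exact v.2.1, by
        have : u = (g⁻¹ : GL κ F).1 *ᵥ u' := by rw [← hgu, inv_mulVec_mulVec]
        rw [this, polar_mulVec (⇑Q) _ hgi]; exact v.2.2⟩
      left_inv := fun v => Subtype.ext (inv_mulVec_mulVec g v.1)
      right_inv := fun v => Subtype.ext (mulVec_inv_mulVec g v.1) }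

end witt

section step

variable (Q : QuadraticForm F (ι → F)) (Q' : QuadraticForm F (ι' → F))
  (hstep : ∀ u : ι' → F, Q' u = Q (u ∘ emb σ) + u (ia σ) * u (ib σ))

include hstep

theorem polar_step (u v : ι' → F) :
    QuadraticMap.polar (⇑Q') u v = QuadraticMap.polar (⇑Q) (u ∘ emb σ) (v ∘ emb σ)
      + (u (ia σ) * v (ib σ) + v (ia σ) * u (ib σ)) := by
  have : (u + v) ∘ emb σ = u ∘ emb σ + v ∘ emb σ := rfl
  simp only [QuadraticMap.polar, hstep, this, Pi.add_apply]
  ring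

theorem polar_single_ia (u : ι' → F) :
    QuadraticMap.polar (⇑Q') u (Pi.single (ia σ) 1) = u (ib σ) := by
  rw [polar_step σ Q Q' hstep, single_ia_comp_emb, QuadraticMap.polar_zero_right,
    Pi.single_eq_same, Pi.single_eq_of_ne (ia_ne_ib σ).symm]
  ring

theorem polar_single_ib (u : ι' → F) :
    QuadraticMap.polar (⇑Q') u (Pi.single (ib σ) 1) = u (ia σ) := by
  rw [polar_step σ Q Q' hstep, single_ib_comp_emb, QuadraticMap.polar_zero_right,
    Pi.single_eq_same, Pi.single_eq_of_ne (ia_ne_ib σ)]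
  ring

theorem Q'_single_ia : Q' (Pi.single (ia σ) 1) = 0 := by
  rw [hstep, single_ia_comp_emb, map_zero, Pi.single_eq_of_ne (ia_ne_ib σ).symm]
  ring

theorem Q'_single_ib : Q' (Pi.single (ib σ) 1) = 0 := by
  rw [hstep, single_ib_comp_emb, map_zero, Pi.single_eq_of_ne (ia_ne_ib σ)]
  ring

theorem Q'_zext (x : ι → F) : Q' (zext σ x) = Q x := by
  rw [hstep, zext_comp_emb, zext_ia, zero_mul, add_zero]

/-- nondegeneracy passes to the extension -/
theorem nondeg_step (hQ : (QuadraticMap.polarBilin Q).Nondegenerate) :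
    (QuadraticMap.polarBilin Q').Nondegenerate := by
  have hleft : (QuadraticMap.polarBilin Q').SeparatingLeft := by
    intro u hu
    have h1 : u (ib σ) = 0 := by
      rw [← polar_single_ia σ Q Q' hstep u]; exact hu _
    have h2 : u (ia σ) = 0 := by
      rw [← polar_single_ib σ Q Q' hstep u]; exact hu _
    have h3 : u ∘ emb σ = 0 := by
      apply hQ.1
      intro x
      have := hu (zext σ x)
      rw [QuadraticMap.polarBilin_apply_apply, polar_step σ Q Q' hstep, zext_comp_emb, zext_ia,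
        zext_ib] at this
      simpa using this
    apply vec_ext σ
    · intro i; exact congrFun h3 i
    · exact h2
    · exact h1
  refine ⟨hleft, ?_⟩
  intro v hv
  apply hleft v
  intro w
  have := hv w
  rw [QuadraticMap.polarBilin_apply_apply] at this ⊢
  rw [QuadraticMap.polar_comm]
  exact this

theorem ext_preserves (B : Matrix ι ι F) (hB : ∀ x, Q (B *ᵥ x) = Q x) (u : ι' → F) :
    Q' (ext σ B *ᵥ u) = Q' u := by
  rw [ext_mulVec, hstep, hstep u, L_comp_emb, hB, L_ia, L_ib]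

/-- the block embedding of isometry groups -/
def psi : ↥(Cfsg.isometryGroup F ⇑Q) →* ↥(Cfsg.isometryGroup F ⇑Q') :=
  ((extGL σ).comp (Cfsg.isometryGroup F ⇑Q).subtype).codRestrict _ (by
    intro B
    rw [mem_iso_iff]
    intro u
    exact ext_preserves σ Q Q' hstep _ ((mem_iso_iff _ _).1 B.2) u)

theorem psi_val (B : ↥(Cfsg.isometryGroup F ⇑Q)) :
    ((psi σ Q Q' hstep B : GL ι' F) : Matrix ι' ι' F) = ext σ (B : GL ι F).1 := rfl

theorem psi_injective : Function.Injective (psi σ Q Q' hstep) := by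
  intro B C h
  apply Subtype.ext
  apply Units.ext
  apply ext_injective σ
  rw [← psi_val σ Q Q' hstep, ← psi_val σ Q Q' hstep, h]

/-- an isometry fixing `e_a` and `e_b` is an extension -/
theorem eq_ext_of_fix (A : Matrix ι' ι' F) (hA : ∀ x, Q' (A *ᵥ x) = Q' x)
    (ha : A *ᵥ (Pi.single (ia σ) 1) = Pi.single (ia σ) 1)
    (hb : A *ᵥ (Pi.single (ib σ) 1) = Pi.single (ib σ) 1) :
    A = ext σ (A.submatrix (emb σ) (emb σ)) ∧
      ∀ x, Q ((A.submatrix (emb σ) (emb σ)) *ᵥ x) = Q x := by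
  have hA' := polar_mulVec (⇑Q') A hA
  have hib : ∀ u, (A *ᵥ u) (ib σ) = u (ib σ) := by
    intro u
    have := hA' u (Pi.single (ia σ) 1)
    rw [ha, polar_single_ia σ Q Q' hstep, polar_single_ia σ Q Q' hstep] at this
    exact this
  have hia : ∀ u, (A *ᵥ u) (ia σ) = u (ia σ) := by
    intro u
    have := hA' u (Pi.single (ib σ) 1)
    rw [hb, polar_single_ib σ Q Q' hstep, polar_single_ib σ Q Q' hstep] at this
    exact this
  have hcola : ∀ i, A (emb σ i) (ia σ) = 0 := by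
    intro i
    have := congrFun ha (emb σ i)
    rw [Matrix.mulVec_single_one, Pi.single_eq_of_ne (emb_ne_ia σ i)] at this
    exact this
  have hcolb : ∀ i, A (emb σ i) (ib σ) = 0 := by
    intro i
    have := congrFun hb (emb σ i)
    rw [Matrix.mulVec_single_one, Pi.single_eq_of_ne (emb_ne_ib σ i)] at this
    exact this
  have hmv : ∀ u, A *ᵥ u = L σ (A.submatrix (emb σ) (emb σ)) u := by
    intro u
    apply vec_ext σ
    · intro i
      rw [L_emb]
      show ∑ j', A (emb σ i) j' * u j' = ∑ j, A (emb σ i) (emb σ j) * u (emb σ j)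
      rw [sum_split σ, hcola, hcolb, zero_mul, zero_mul, add_zero, add_zero]
    · rw [L_ia, hia]
    · rw [L_ib, hib]
  have h1 : A = ext σ (A.submatrix (emb σ) (emb σ)) := by
    rw [Matrix.ext_iff_mulVec]
    intro u
    rw [ext_mulVec, hmv]
  refine ⟨h1, ?_⟩
  intro x
  have h2 := hA (zext σ x)
  rw [hmv, hstep, hstep (zext σ x), L_comp_emb, L_ia, L_ib, zext_comp_emb, zext_ia] at h2
  simpa using h2

/-- the base hyperbolic pair `(e_a, e_b)` -/
def basePair : HypPair ⇑Q' :=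
  ⟨(Pi.single (ia σ) 1, Pi.single (ib σ) 1), Q'_single_ia σ Q Q' hstep, Q'_single_ib σ Q Q' hstep, by
    show QuadraticMap.polar (⇑Q') (Pi.single (ia σ) 1) (Pi.single (ib σ) 1) = 1
    rw [polar_single_ib σ Q Q' hstep, Pi.single_eq_same]⟩

theorem stabilizer_eq_range :
    MulAction.stabilizer ↥(Cfsg.isometryGroup F ⇑Q') (basePair σ Q Q' hstep) =
      (psi σ Q Q' hstep).range := by
  ext g
  rw [MulAction.mem_stabilizer_iff, MonoidHom.mem_range]
  constructor
  · intro hg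
    have ha : (g : GL ι' F).1 *ᵥ (Pi.single (ia σ) 1) = Pi.single (ia σ) 1 :=
      congrArg (fun p : HypPair ⇑Q' => p.1.1) hg
    have hb : (g : GL ι' F).1 *ᵥ (Pi.single (ib σ) 1) = Pi.single (ib σ) 1 :=
      congrArg (fun p : HypPair ⇑Q' => p.1.2) hg
    have hgQ := (mem_iso_iff _ g.1).1 g.2
    obtain ⟨h1, h2⟩ := eq_ext_of_fix σ Q Q' hstep (g : GL ι' F).1 hgQ ha hb
    -- the inverse
    have hgi := (mem_iso_iff (⇑Q') ((g⁻¹ : ↥(Cfsg.isometryGroup F ⇑Q')) : GL ι' F)).1 (g⁻¹).2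
    have hai : ((g⁻¹ : ↥(Cfsg.isometryGroup F ⇑Q')) : GL ι' F).1 *ᵥ (Pi.single (ia σ) 1) =
        Pi.single (ia σ) 1 := by
      conv_lhs => rw [← ha]
      rw [Subgroup.coe_inv]
      exact inv_mulVec_mulVec _ _
    have hbi : ((g⁻¹ : ↥(Cfsg.isometryGroup F ⇑Q')) : GL ι' F).1 *ᵥ (Pi.single (ib σ) 1) =
        Pi.single (ib σ) 1 := by
      conv_lhs => rw [← hb]
      rw [Subgroup.coe_inv]
      exact inv_mulVec_mulVec _ _
    obtain ⟨h1i, h2i⟩ := eq_ext_of_fix σ Q Q' hstep _ hgi hai hbi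
    set B := ((g : GL ι' F).1).submatrix (emb σ) (emb σ) with hB
    set Bi := (((g⁻¹ : ↥(Cfsg.isometryGroup F ⇑Q')) : GL ι' F).1).submatrix (emb σ) (emb σ) with hBi
    have hBBi : B * Bi = 1 := by
      apply ext_injective σ
      rw [ext_mul, ← h1, ← h1i, ext_one, ← Units.val_mul, ← Subgroup.coe_mul, mul_inv_cancel]
      rfl
    have hBiB : Bi * B = 1 := by
      apply ext_injective σ
      rw [ext_mul, ← h1, ← h1i, ext_one, ← Units.val_mul, ← Subgroup.coe_mul, inv_mul_cancel]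
      rfl
    let b : GL ι F := ⟨B, Bi, hBBi, hBiB⟩
    have hb' : b ∈ Cfsg.isometryGroup F ⇑Q := by
      rw [mem_iso_iff]
      exact h2
    refine ⟨⟨b, hb'⟩, ?_⟩
    apply Subtype.ext
    apply Units.ext
    rw [psi_val]
    exact h1.symm
  · rintro ⟨B, rfl⟩
    apply Subtype.ext
    apply Prod.ext
    · show ((psi σ Q Q' hstep B : GL ι' F) : Matrix ι' ι' F) *ᵥ (Pi.single (ia σ) 1) =
        Pi.single (ia σ) 1
      rw [psi_val, ext_mulVec_single_ia]
    · show ((psi σ Q Q' hstep B : GL ι' F) : Matrix ι' ι' F) *ᵥ (Pi.single (ib σ) 1) =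
        Pi.single (ib σ) 1
      rw [psi_val, ext_mulVec_single_ib]

/-- hyperbolic partners of `e_a` -/
def partnerEquiv :
    {v : ι' → F // Q' v = 0 ∧ QuadraticMap.polar (⇑Q') (Pi.single (ia σ) 1) v = 1} ≃ (ι → F) where
  toFun v := v.1 ∘ emb σ
  invFun x := ⟨build σ x (-Q x) 1, by
    constructor
    · rw [hstep, build_comp_emb, build_ia, build_ib]; ring
    · rw [QuadraticMap.polar_comm, polar_single_ia σ Q Q' hstep, build_ib]⟩
  left_inv v := by
    apply Subtype.ext
    have h1 : v.1 (ib σ) = 1 := by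
      rw [← polar_single_ia σ Q Q' hstep v.1, QuadraticMap.polar_comm]; exact v.2.2
    have h2 := v.2.1
    rw [hstep, h1, mul_one] at h2
    show build σ (v.1 ∘ emb σ) (-Q (v.1 ∘ emb σ)) 1 = v.1
    apply vec_ext σ
    · intro i; simp
    · rw [build_ia]; linear_combination -h2
    · rw [build_ib, h1]
  right_inv x := build_comp_emb σ x _ _

variable [Fintype F]

theorem card_partner :
    Nat.card {v : ι' → F // Q' v = 0 ∧ QuadraticMap.polar (⇑Q') (Pi.single (ia σ) 1) v = 1} =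
      Fintype.card F ^ Fintype.card ι := by
  rw [Nat.card_congr (partnerEquiv σ Q Q' hstep), Nat.card_eq_fintype_card, Fintype.card_fun]

theorem card_HypPair (hQ' : (QuadraticMap.polarBilin Q').Nondegenerate) :
    Nat.card (HypPair ⇑Q') =
      (Nat.card {v : ι' → F // Q' v = 0} - 1) * Fintype.card F ^ Fintype.card ι := by
  classical
  let S := {u : ι' → F // Q' u = 0 ∧ u ≠ 0}
  let e : HypPair ⇑Q' ≃
      Σ u : S, {v : ι' → F // Q' v = 0 ∧ QuadraticMap.polar (⇑Q') u.1 v = 1} :=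
    { toFun := fun p => ⟨⟨p.1.1, p.2.1, by
          intro h0
          have := p.2.2.2
          rw [h0, QuadraticMap.polar_zero_left] at this
          exact zero_ne_one this⟩, ⟨p.1.2, p.2.2.1, p.2.2.2⟩⟩
      invFun := fun s => ⟨(s.1.1, s.2.1), s.1.2.1, s.2.2.1, s.2.2.2⟩
      left_inv := fun p => rfl
      right_inv := fun s => rfl }
  rw [Nat.card_congr e, Nat.card_sigma]
  have hea : (Pi.single (ia σ) (1 : F) : ι' → F) ≠ 0 := by
    intro h
    have := congrFun h (ia σ)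
    simp at this
  have hconst : ∀ u : S, Nat.card {v : ι' → F // Q' v = 0 ∧ QuadraticMap.polar (⇑Q') u.1 v = 1} =
      Fintype.card F ^ Fintype.card ι := by
    intro u
    rw [card_partner_eq Q' hQ' u.1 (Pi.single (ia σ) 1) u.2.2 hea u.2.1 (Q'_single_ia σ Q Q' hstep),
      card_partner σ Q Q' hstep]
  rw [Finset.sum_congr rfl (fun u _ => hconst u), Finset.sum_const, Finset.card_univ, smul_eq_mul]
  congr 1
  -- card S = card zeros - 1
  rw [← Nat.card_eq_fintype_card]
  have e2 : S ≃ {w : {v : ι' → F // Q' v = 0} // w ≠ ⟨0, map_zero Q'⟩} :=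
    { toFun := fun u => ⟨⟨u.1, u.2.1⟩, fun h => u.2.2 (congrArg Subtype.val h)⟩
      invFun := fun w => ⟨w.1.1, w.1.2, fun h => w.2 (Subtype.ext h)⟩
      left_inv := fun u => rfl
      right_inv := fun w => rfl }
  rw [Nat.card_congr e2, Nat.card_eq_fintype_card, Fintype.card_subtype_compl,
    Fintype.card_subtype_eq, Nat.card_eq_fintype_card]

/-- the recursion step -/
theorem card_step (hQ' : (QuadraticMap.polarBilin Q').Nondegenerate) :
    Nat.card ↥(Cfsg.isometryGroup F ⇑Q') =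
      Nat.card ↥(Cfsg.isometryGroup F ⇑Q) *
        ((Nat.card {v : ι' → F // Q' v = 0} - 1) * Fintype.card F ^ Fintype.card ι) := by
  have := isPretransitive Q' hQ'
  have h1 := Subgroup.card_mul_index
    (MulAction.stabilizer ↥(Cfsg.isometryGroup F ⇑Q') (basePair σ Q Q' hstep))
  rw [MulAction.index_stabilizer_of_transitive, stabilizer_eq_range σ Q Q' hstep,
    ← Nat.card_congr (MonoidHom.ofInjective (psi_injective σ Q Q' hstep)).toEquiv,
    card_HypPair σ Q Q' hstep hQ'] at h1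
  exact h1.symm

end step

end Cfsg.Agent.Lib.H11.OrthStep
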