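import Cfsg.Agent.Lib.H11.PSLGraph10
import Cfsg.Agent.Lib.H29.QuadOdd
import Cfsg.Agent.S0286

/-!
# Involutory graph automorphisms of `PSL_n(F)` (part 11): odd degree, odd characteristic

Normal form of odd-dimensional non-degenerate quadratic forms over finite fields of odd
characteristic: a scalar multiple of `x₀² + Σ xᵢ yᵢ`.
-/

set_option autoImplicit false
set_option linter.unusedSectionVars false
set_option linter.unusedSimpArgs false

namespace Cfsg.Agent.Lib.H11.PSLGraph

open Matrix Module Cfsg.Agent.Lib.H13.AutPSL Cfsg.Agent.Lib.H13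

section normal

variable {F : Type*} [Field F] [Fintype F] {ι : Type} [Fintype ι] [DecidableEq ι]

theorem polar_self_eq (Q : QuadraticForm F (ι → F)) (v : ι → F) :
    QuadraticMap.polar (⇑Q) v v = 2 * Q v := by
  unfold QuadraticMap.polar
  rw [← two_smul F v, QuadraticMap.map_smul]
  simp only [smul_eq_mul]
  ring

/-- a basis in standard odd position gives coordinates to the standard odd form -/
theorem odd_of_basis (Q : QuadraticForm F (ι → F)) (m : ℕ) (d : F)
    (c : Basis (Unit ⊕ (Fin m ⊕ Fin m)) F (ι → F))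
    (h0 : Q (c (.inl ())) = d)
    (hl : ∀ i, Q (c (.inr (.inl i))) = 0) (hr : ∀ i, Q (c (.inr (.inr i))) = 0)
    (h0x : ∀ x, QuadraticMap.polar (⇑Q) (c (.inl ())) (c (.inr x)) = 0)
    (hll : ∀ i j, QuadraticMap.polar (⇑Q) (c (.inr (.inl i))) (c (.inr (.inl j))) = 0)
    (hrr : ∀ i j, QuadraticMap.polar (⇑Q) (c (.inr (.inr i))) (c (.inr (.inr j))) = 0)
    (hlr : ∀ i j, QuadraticMap.polar (⇑Q) (c (.inr (.inl i))) (c (.inr (.inr j))) =
      if i = j then d else 0) :
    ∀ v, Q v = d * Cfsg.quadFormOdd m F (c.equivFun v) := by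
  classical
  have key : Q = d • (Cfsg.Agent.S0286.oddQF F m).comp
      (c.equivFun : (ι → F) →ₗ[F] (Unit ⊕ (Fin m ⊕ Fin m) → F)) := by
    apply quadraticMap_ext_basis c
    · intro x
      rw [_root_.smul_apply, QuadraticMap.comp_apply]
      show Q (c x) = d • Cfsg.Agent.S0286.oddQF F m (c.equivFun (c x))
      rw [equivFun_basis', Cfsg.Agent.S0286.oddQF_apply, smul_eq_mul]
      unfold Cfsg.quadFormOdd
      rcases x with x | i | i
      · rw [h0]
        have : ∑ j : Fin m, (Pi.single (Sum.inl x) (1 : F) : Unit ⊕ (Fin m ⊕ Fin m) → F)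
            (Sum.inr (Sum.inl j)) * (Pi.single (Sum.inl x) (1 : F) :
              Unit ⊕ (Fin m ⊕ Fin m) → F) (Sum.inr (Sum.inr j)) = 0 := by
          apply Finset.sum_eq_zero
          intro j _
          simp [Pi.single_apply]
        rw [this]
        simp [Pi.single_apply]
      · rw [hl]
        have : ∑ j : Fin m, (Pi.single (Sum.inr (Sum.inl i)) (1 : F) :
            Unit ⊕ (Fin m ⊕ Fin m) → F) (Sum.inr (Sum.inl j)) *
            (Pi.single (Sum.inr (Sum.inl i)) (1 : F) :
              Unit ⊕ (Fin m ⊕ Fin m) → F) (Sum.inr (Sum.inr j)) = 0 := by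
          apply Finset.sum_eq_zero
          intro j _
          simp [Pi.single_apply]
        rw [this]
        simp [Pi.single_apply]
      · rw [hr]
        have : ∑ j : Fin m, (Pi.single (Sum.inr (Sum.inr i)) (1 : F) :
            Unit ⊕ (Fin m ⊕ Fin m) → F) (Sum.inr (Sum.inl j)) *
            (Pi.single (Sum.inr (Sum.inr i)) (1 : F) :
              Unit ⊕ (Fin m ⊕ Fin m) → F) (Sum.inr (Sum.inr j)) = 0 := by
          apply Finset.sum_eq_zero
          intro j _
          simp [Pi.single_apply]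
        rw [this]
        simp [Pi.single_apply]
    · intro x y
      have h1' : QuadraticMap.polar (⇑(d • (Cfsg.Agent.S0286.oddQF F m).comp
          (c.equivFun : (ι → F) →ₗ[F] (Unit ⊕ (Fin m ⊕ Fin m) → F)))) (c x) (c y) =
          d * QuadraticMap.polar (⇑(Cfsg.Agent.S0286.oddQF F m)) (c.equivFun (c x))
            (c.equivFun (c y)) := by
        simp only [QuadraticMap.polar, _root_.smul_apply, QuadraticMap.comp_apply, map_add,
          smul_eq_mul, LinearEquiv.coe_coe]
        ring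
      rw [h1', equivFun_basis', equivFun_basis', Cfsg.Agent.S0286.coe_oddQF,
        Cfsg.Agent.Lib.H29.QuadOdd.polar_quadFormOdd]
      rcases x with x | i | i <;> rcases y with y | j | j
      · have : c (Sum.inl x) = c (Sum.inl y) := rfl
        rw [← this, polar_self_eq, h0]
        have hs : ∑ k : Fin m, ((Pi.single (Sum.inl x) (1 : F) : Unit ⊕ (Fin m ⊕ Fin m) → F)
            (Sum.inr (Sum.inl k)) * (Pi.single (Sum.inl y) (1 : F) :
              Unit ⊕ (Fin m ⊕ Fin m) → F) (Sum.inr (Sum.inr k)) +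
            (Pi.single (Sum.inl y) (1 : F) : Unit ⊕ (Fin m ⊕ Fin m) → F)
              (Sum.inr (Sum.inl k)) * (Pi.single (Sum.inl x) (1 : F) :
              Unit ⊕ (Fin m ⊕ Fin m) → F) (Sum.inr (Sum.inr k))) = 0 := by
          apply Finset.sum_eq_zero
          intro k _
          simp [Pi.single_apply]
        rw [hs]
        simp [Pi.single_apply]
        ring
      · rw [h0x]
        have hs : ∑ k : Fin m, ((Pi.single (Sum.inl x) (1 : F) : Unit ⊕ (Fin m ⊕ Fin m) → F)
            (Sum.inr (Sum.inl k)) * (Pi.single (Sum.inr (Sum.inl j)) (1 : F) :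
              Unit ⊕ (Fin m ⊕ Fin m) → F) (Sum.inr (Sum.inr k)) +
            (Pi.single (Sum.inr (Sum.inl j)) (1 : F) : Unit ⊕ (Fin m ⊕ Fin m) → F)
              (Sum.inr (Sum.inl k)) * (Pi.single (Sum.inl x) (1 : F) :
              Unit ⊕ (Fin m ⊕ Fin m) → F) (Sum.inr (Sum.inr k))) = 0 := by
          apply Finset.sum_eq_zero
          intro k _
          simp [Pi.single_apply]
        rw [hs]
        simp [Pi.single_apply]
      · rw [h0x]
        have hs : ∑ k : Fin m, ((Pi.single (Sum.inl x) (1 : F) : Unit ⊕ (Fin m ⊕ Fin m) → F)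
            (Sum.inr (Sum.inl k)) * (Pi.single (Sum.inr (Sum.inr j)) (1 : F) :
              Unit ⊕ (Fin m ⊕ Fin m) → F) (Sum.inr (Sum.inr k)) +
            (Pi.single (Sum.inr (Sum.inr j)) (1 : F) : Unit ⊕ (Fin m ⊕ Fin m) → F)
              (Sum.inr (Sum.inl k)) * (Pi.single (Sum.inl x) (1 : F) :
              Unit ⊕ (Fin m ⊕ Fin m) → F) (Sum.inr (Sum.inr k))) = 0 := by
          apply Finset.sum_eq_zero
          intro k _
          simp [Pi.single_apply]
        rw [hs]
        simp [Pi.single_apply]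
      · rw [QuadraticMap.polar_comm, h0x]
        have hs : ∑ k : Fin m, ((Pi.single (Sum.inr (Sum.inl i)) (1 : F) :
            Unit ⊕ (Fin m ⊕ Fin m) → F)
            (Sum.inr (Sum.inl k)) * (Pi.single (Sum.inl y) (1 : F) :
              Unit ⊕ (Fin m ⊕ Fin m) → F) (Sum.inr (Sum.inr k)) +
            (Pi.single (Sum.inl y) (1 : F) : Unit ⊕ (Fin m ⊕ Fin m) → F)
              (Sum.inr (Sum.inl k)) * (Pi.single (Sum.inr (Sum.inl i)) (1 : F) :
              Unit ⊕ (Fin m ⊕ Fin m) → F) (Sum.inr (Sum.inr k))) = 0 := by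
          apply Finset.sum_eq_zero
          intro k _
          simp [Pi.single_apply]
        rw [hs]
        simp [Pi.single_apply]
      · rw [hll]
        have hs : ∑ k : Fin m, ((Pi.single (Sum.inr (Sum.inl i)) (1 : F) :
            Unit ⊕ (Fin m ⊕ Fin m) → F)
            (Sum.inr (Sum.inl k)) * (Pi.single (Sum.inr (Sum.inl j)) (1 : F) :
              Unit ⊕ (Fin m ⊕ Fin m) → F) (Sum.inr (Sum.inr k)) +
            (Pi.single (Sum.inr (Sum.inl j)) (1 : F) : Unit ⊕ (Fin m ⊕ Fin m) → F)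
              (Sum.inr (Sum.inl k)) * (Pi.single (Sum.inr (Sum.inl i)) (1 : F) :
              Unit ⊕ (Fin m ⊕ Fin m) → F) (Sum.inr (Sum.inr k))) = 0 := by
          apply Finset.sum_eq_zero
          intro k _
          simp [Pi.single_apply]
        rw [hs]
        simp [Pi.single_apply]
      · rw [hlr]
        have hs : ∑ k : Fin m, ((Pi.single (Sum.inr (Sum.inl i)) (1 : F) :
            Unit ⊕ (Fin m ⊕ Fin m) → F)
            (Sum.inr (Sum.inl k)) * (Pi.single (Sum.inr (Sum.inr j)) (1 : F) :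
              Unit ⊕ (Fin m ⊕ Fin m) → F) (Sum.inr (Sum.inr k)) +
            (Pi.single (Sum.inr (Sum.inr j)) (1 : F) : Unit ⊕ (Fin m ⊕ Fin m) → F)
              (Sum.inr (Sum.inl k)) * (Pi.single (Sum.inr (Sum.inl i)) (1 : F) :
              Unit ⊕ (Fin m ⊕ Fin m) → F) (Sum.inr (Sum.inr k))) =
            if i = j then 1 else 0 := by
          simp [Pi.single_apply, Finset.sum_ite_eq, eq_comm]
        rw [hs]
        simp [Pi.single_apply]
      · rw [QuadraticMap.polar_comm, h0x]
        have hs : ∑ k : Fin m, ((Pi.single (Sum.inr (Sum.inr i)) (1 : F) :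
            Unit ⊕ (Fin m ⊕ Fin m) → F)
            (Sum.inr (Sum.inl k)) * (Pi.single (Sum.inl y) (1 : F) :
              Unit ⊕ (Fin m ⊕ Fin m) → F) (Sum.inr (Sum.inr k)) +
            (Pi.single (Sum.inl y) (1 : F) : Unit ⊕ (Fin m ⊕ Fin m) → F)
              (Sum.inr (Sum.inl k)) * (Pi.single (Sum.inr (Sum.inr i)) (1 : F) :
              Unit ⊕ (Fin m ⊕ Fin m) → F) (Sum.inr (Sum.inr k))) = 0 := by
          apply Finset.sum_eq_zero
          intro k _
          simp [Pi.single_apply]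
        rw [hs]
        simp [Pi.single_apply]
      · rw [QuadraticMap.polar_comm, hlr]
        have hs : ∑ k : Fin m, ((Pi.single (Sum.inr (Sum.inr i)) (1 : F) :
            Unit ⊕ (Fin m ⊕ Fin m) → F)
            (Sum.inr (Sum.inl k)) * (Pi.single (Sum.inr (Sum.inl j)) (1 : F) :
              Unit ⊕ (Fin m ⊕ Fin m) → F) (Sum.inr (Sum.inr k)) +
            (Pi.single (Sum.inr (Sum.inl j)) (1 : F) : Unit ⊕ (Fin m ⊕ Fin m) → F)
              (Sum.inr (Sum.inl k)) * (Pi.single (Sum.inr (Sum.inr i)) (1 : F) :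
              Unit ⊕ (Fin m ⊕ Fin m) → F) (Sum.inr (Sum.inr k))) =
            if j = i then 1 else 0 := by
          simp [Pi.single_apply, Finset.sum_ite_eq, eq_comm]
        rw [hs]
        simp [Pi.single_apply]
      · rw [hrr]
        have hs : ∑ k : Fin m, ((Pi.single (Sum.inr (Sum.inr i)) (1 : F) :
            Unit ⊕ (Fin m ⊕ Fin m) → F)
            (Sum.inr (Sum.inl k)) * (Pi.single (Sum.inr (Sum.inr j)) (1 : F) :
              Unit ⊕ (Fin m ⊕ Fin m) → F) (Sum.inr (Sum.inr k)) +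
            (Pi.single (Sum.inr (Sum.inr j)) (1 : F) : Unit ⊕ (Fin m ⊕ Fin m) → F)
              (Sum.inr (Sum.inl k)) * (Pi.single (Sum.inr (Sum.inr i)) (1 : F) :
              Unit ⊕ (Fin m ⊕ Fin m) → F) (Sum.inr (Sum.inr k))) = 0 := by
          apply Finset.sum_eq_zero
          intro k _
          simp [Pi.single_apply]
        rw [hs]
        simp [Pi.single_apply]
  intro v
  have := congrArg (fun q : QuadraticForm F (ι → F) => q v) key
  simp only [_root_.smul_apply, QuadraticMap.comp_apply, smul_eq_mul] at this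
  rw [this, ← Cfsg.Agent.S0286.oddQF_apply]
  rfl

end normal

section normal2

variable {F : Type*} [Field F] [Fintype F] {ι : Type} [Fintype ι] [DecidableEq ι]

/-- index equivalence -/
def oddIdx (m : ℕ) : (Fin m ⊕ Fin m) ⊕ Fin 1 ≃ Unit ⊕ (Fin m ⊕ Fin m) :=
  (Equiv.sumComm (Fin m ⊕ Fin m) (Fin 1)).trans (Equiv.sumCongr finOneEquiv (Equiv.refl _))

/-- normal form of an odd-dimensional non-degenerate quadratic form -/
theorem exists_odd_form (Q : QuadraticForm F (ι → F))
    (hQ : (QuadraticMap.polarBilin Q).Nondegenerate) (m : ℕ) (hcard : Fintype.card ι = 2 * m + 1) :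
    ∃ (e : (ι → F) ≃ₗ[F] (Unit ⊕ (Fin m ⊕ Fin m) → F)) (d : F), d ≠ 0 ∧
      ∀ v, Q v = d * Cfsg.quadFormOdd m F (e v) := by
  classical
  obtain ⟨k, r, b, hstd, htail, hfr⟩ := Cfsg.Agent.Lib.H13.witt Q hQ
  rw [Module.finrank_fintype_fun_eq_card, hcard] at hfr
  rcases r with _ | _ | _ | r
  · omega
  · have hk : k = m := by omega
    subst hk
    have hd : Q (b (.inr 0)) ≠ 0 := htail
    set d := Q (b (.inr 0)) with hdd
    let du : Fˣ := Units.mk0 d hd
    let w : (Fin k ⊕ Fin k) ⊕ Fin 1 → Fˣ := fun x =>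
      match x with
      | .inl (.inr _) => du
      | _ => 1
    let c : Basis (Unit ⊕ (Fin k ⊕ Fin k)) F (ι → F) := (b.unitsSMul w).reindex (oddIdx k)
    have hc0 : c (.inl ()) = b (.inr 0) := by
      simp [c, Basis.reindex_apply, Basis.unitsSMul_apply, oddIdx, w]
      congr 1
    have hcl : ∀ i, c (.inr (.inl i)) = b (.inl (.inl i)) := by
      intro i
      simp [c, Basis.reindex_apply, Basis.unitsSMul_apply, oddIdx, w]
    have hcr : ∀ i, c (.inr (.inr i)) = d • b (.inl (.inr i)) := by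
      intro i
      simp [c, Basis.reindex_apply, Basis.unitsSMul_apply, oddIdx, w, du, Units.smul_def]
    refine ⟨c.equivFun, d, hd, odd_of_basis Q k d c ?_ ?_ ?_ ?_ ?_ ?_ ?_⟩
    · rw [hc0]
    · intro i; rw [hcl]; exact hstd.sing_l i
    · intro i
      rw [hcr, QuadraticMap.map_smul, hstd.sing_r, smul_zero]
    · intro x
      rcases x with i | i
      · rw [hc0, hcl, QuadraticMap.polar_comm]; exact hstd.orth_l i 0
      · rw [hc0, hcr, QuadraticMap.polar_smul_right, QuadraticMap.polar_comm, hstd.orth_r i 0,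
          smul_zero]
    · intro i j; rw [hcl, hcl]; exact hstd.iso_l i j
    · intro i j
      rw [hcr, hcr, QuadraticMap.polar_smul_right, QuadraticMap.polar_smul_left, hstd.iso_r,
        smul_zero, smul_zero]
    · intro i j
      rw [hcl, hcr, QuadraticMap.polar_smul_right, hstd.pair, smul_eq_mul]
      split_ifs <;> simp
  · omega
  · exact htail.elim

end normal2

section oddchar

variable {F : Type*} [Field F] [Fintype F] {n : ℕ}

/-- in odd degree and odd characteristic the form of an involutory graph automorphism is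
symmetric -/
theorem sym_of_odd (h2 : (2 : F) ≠ 0) (hodd : Odd n) (B : GL (Fin n) F)
    (h : (B : Matrix (Fin n) (Fin n) F)ᵀ = (B : Matrix (Fin n) (Fin n) F) ∨
      (B : Matrix (Fin n) (Fin n) F)ᵀ = -(B : Matrix (Fin n) (Fin n) F)) :
    (B : Matrix (Fin n) (Fin n) F)ᵀ = (B : Matrix (Fin n) (Fin n) F) := by
  rcases h with h | h
  · exact h
  · exfalso
    have h1 := congrArg Matrix.det h
    rw [Matrix.det_transpose, Matrix.det_neg, Fintype.card_fin, hodd.neg_one_pow] at h1
    have h3 : (2 : F) * (B : Matrix (Fin n) (Fin n) F).det = 0 := by linear_combination h1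
    rcases mul_eq_zero.1 h3 with h4 | h4
    · exact h2 h4
    · exact det_gl_ne_zero B h4

theorem odd_centralizer (h2 : (2 : F) ≠ 0) (hn : 3 ≤ n) (m : ℕ) (hnm : n = 2 * m + 1)
    (B : GL (Fin n) F)
    (hB : (B : Matrix (Fin n) (Fin n) F)ᵀ = (B : Matrix (Fin n) (Fin n) F)) :
    Nonempty (↥(Cfsg.inndiagPSL n F ⊓ Subgroup.centralizer {gamF B}) ≃*
      Cfsg.PGO F (Cfsg.quadFormOdd m F)) := by
  classical
  obtain ⟨E₀⟩ := centralizer_equiv hn B
  rw [sim_bf_eq_quadSim h2 _ hB] at E₀
  obtain ⟨e, d, hd, he⟩ := exists_odd_form (qfB (B : Matrix (Fin n) (Fin n) F))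
    (nondeg_qfB h2 B hB) m (by rw [Fintype.card_fin, hnm])
  have E₁ := projQuotCongr e (Cfsg.Geo.quadSimilarityGroup (F := F)
      (⇑(qfB (B : Matrix (Fin n) (Fin n) F))))
      (Cfsg.Geo.quadSimilarityGroup (F := F) (Cfsg.quadFormOdd m F))
      (glCongr_mem_quadSim e _ _ d⁻¹ (inv_ne_zero hd) (fun v => by
        rw [he v, ← mul_assoc, inv_mul_cancel₀ hd, one_mul]))
  exact ⟨E₀.trans E₁⟩

theorem qfB_smul (c : F) (B : Matrix (Fin n) (Fin n) F) (v : Fin n → F) :
    qfB (c • B) v = c * qfB B v := by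
  rw [qfB_apply, qfB_apply, bf_smul]

theorem odd_conj (h2 : (2 : F) ≠ 0) (hn : 3 ≤ n) (m : ℕ) (hnm : n = 2 * m + 1)
    (B B' : GL (Fin n) F)
    (hB : (B : Matrix (Fin n) (Fin n) F)ᵀ = (B : Matrix (Fin n) (Fin n) F))
    (hB' : (B' : Matrix (Fin n) (Fin n) F)ᵀ = (B' : Matrix (Fin n) (Fin n) F)) :
    Cfsg.IsConjUnder (Cfsg.inndiagPSL n F) (gamF B) (gamF B') := by
  classical
  obtain ⟨e, d, hd, he⟩ := exists_odd_form (qfB (B : Matrix (Fin n) (Fin n) F))
    (nondeg_qfB h2 B hB) m (by rw [Fintype.card_fin, hnm])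
  obtain ⟨e', d', hd', he'⟩ := exists_odd_form (qfB (B' : Matrix (Fin n) (Fin n) F))
    (nondeg_qfB h2 B' hB') m (by rw [Fintype.card_fin, hnm])
  rw [isConj_gamF_iff hn]
  obtain ⟨g, hg⟩ := congr_of_qf_equiv h2 (B' : Matrix (Fin n) (Fin n) F)
    ((d' / d) • (B : Matrix (Fin n) (Fin n) F)) hB'
    (by rw [Matrix.transpose_smul, hB]) (e'.trans e.symm) (fun v => by
      rw [qfB_smul, he, he', LinearEquiv.trans_apply, LinearEquiv.apply_symm_apply]
      field_simp)
  refine ⟨g, d' / d, div_ne_zero hd' hd, ?_⟩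
  rw [hg, Matrix.mul_smul, Matrix.smul_mul]

end oddchar

end Cfsg.Agent.Lib.H11.PSLGraph
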