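import Cfsg.Agent.Lib.H11.OmegaSimple

/-!
The centre of `Ω(Q)`: trivial in characteristic two, `Ω ∩ {±1}` for `q` odd (`n ≥ 7`).
-/

set_option autoImplicit false
set_option linter.unusedSimpArgs false

namespace Cfsg.Agent.Lib.H11.OmegaCenter2

open Matrix
open scoped MatrixGroups
open Cfsg.Agent.Lib.H11.CD Cfsg.Agent.Lib.H11.SpinSign Cfsg.Agent.Lib.H11.ReflClass
open Cfsg.Agent.Lib.H11.SiegelGen Cfsg.Agent.Lib.H11.OmegaTrans Cfsg.Agent.Lib.H11.OmegaPrim
open Cfsg.Agent.Lib.H11.OmegaSimple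

section fin
variable {F : Type*} [Field F] {n : ℕ} (Q : QuadraticForm F (Fin n → F))

set_option quotPrecheck false in
local notation "P" => QuadraticMap.polar (⇑Q)

/-- an isometry centralizing all Siegel transformations maps `e₁` into its span -/
theorem core (e₁ e₂ f₂ e₃ f₃ : Fin n → F) (he₁ : Q e₁ = 0) (he₂ : Q e₂ = 0) (he₃ : Q e₃ = 0)
    (h12 : P e₁ e₂ = 0) (h13 : P e₁ e₃ = 0) (h22 : P e₂ f₂ = 1) (h1f : P e₁ f₂ = 0)
    (h3f : P e₃ f₂ = 0) (h33 : P e₃ f₃ = 1) (h1f3 : P e₁ f₃ = 0) (z : ↥(Cfsg.isometryGroup F ⇑Q)) (hz : ∀ s ∈ S Q, z * s = s * z) :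
    ∃ l : F, act Q z e₁ = l • e₁ := by
  have k2 := congrArg (fun g => act Q g f₂) (hz _ (siegEl_mem Q e₁ e₂ he₁ he₂ h12 1))
  have k3 := congrArg (fun g => act Q g f₂) (hz _ (siegEl_mem Q e₁ e₃ he₁ he₃ h13 1))
  simp only [act_mul, siegEl_act, h1f, h22, h3f, one_mul, mul_zero, zero_smul, add_zero,
    mul_one, one_smul, sub_zero] at k2 k3
  -- k2 : z (f₂ - e₁) = z f₂ + α • e₂ - β • e₁ ;  k3 : z f₂ = z f₂ + α' • e₃ - β' • e₁
  rw [sub_eq_add_neg, act_add, act_neg] at k2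
  have hze : act Q z e₁ = P e₂ (act Q z f₂) • e₁ - P e₁ (act Q z f₂) • e₂ := by
    have : act Q z e₁ = act Q z f₂ - (act Q z f₂ + -act Q z e₁) := by abel
    rw [this, k2]; abel
  have h3' : P e₁ (act Q z f₂) • e₃ = P e₃ (act Q z f₂) • e₁ := by
    have : P e₁ (act Q z f₂) • e₃ - P e₃ (act Q z f₂) • e₁ =
        (act Q z f₂ + P e₁ (act Q z f₂) • e₃ - P e₃ (act Q z f₂) • e₁) - act Q z f₂ := by abel
    rw [← sub_eq_zero, this, ← k3, sub_self]
  have hα : P e₁ (act Q z f₂) = 0 := by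
    have := congrArg (fun x => P f₃ x) h3'
    simp only [QuadraticMap.polar_smul_right, QuadraticMap.polar_comm (⇑Q) f₃ e₃,
      QuadraticMap.polar_comm (⇑Q) f₃ e₁, h33, h1f3, smul_eq_mul, mul_one, mul_zero] at this
    exact this
  exact ⟨P e₂ (act Q z f₂), by rw [hze, hα, zero_smul, sub_zero]⟩

/-- an isometry centralizing all Siegel transformations fixes every singular point -/
theorem eig_of_centralizes [Fintype F] (hQ : (QuadraticMap.polarBilin Q).Nondegenerate)
    (hn : 7 ≤ n) (z : ↥(Cfsg.isometryGroup F ⇑Q)) (hz : ∀ s ∈ S Q, z * s = s * z)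
    (u : Fin n → F) (hu0 : u ≠ 0) (hu : Q u = 0) : ∃ l : F, act Q z u = l • u := by
  obtain ⟨e₁, f₁, e₂, f₂, e₃, f₃, he₁, hf₁, he₂, hf₂, he₃, hf₃, h11, h22, h33, h12ee, h12ef,
    h12fe, h12ff, h3e1, h3f1, h3e2, h3f2, h3'e1, h3'f1, h3'e2, h3'f2⟩ := exists_three_pairs Q hQ hn
  have he₁0 : e₁ ≠ 0 := by
    rintro rfl
    rw [QuadraticMap.polar_zero_left] at h11
    exact zero_ne_one h11
  obtain ⟨g', hg', hgx⟩ := Cfsg.Agent.S0750.witt_family Q hQ 1 ![u] ![e₁]
    (by rw [linearIndependent_unique_iff]; exact hu0)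
    (by rw [linearIndependent_unique_iff]; exact he₁0)
    (fun i => by
      have hi : i = 0 := Subsingleton.elim _ _
      subst hi
      show Q e₁ = Q u
      rw [hu, he₁])
    (fun i j => by
      have hi : i = 0 := Subsingleton.elim _ _
      have hj : j = 0 := Subsingleton.elim _ _
      subst hi; subst hj
      show P e₁ e₁ = P u u
      rw [Cfsg.Agent.Lib.H4.polar_self, Cfsg.Agent.Lib.H4.polar_self, hu, he₁])
  set g₀ := elOfEquiv Q g' hg' with hg₀
  have hg₀u : act Q g₀ u = e₁ := by rw [hg₀, elOfEquiv_act]; exact hgx 0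
  have hz' : ∀ s ∈ S Q, (g₀ * z * g₀⁻¹) * s = s * (g₀ * z * g₀⁻¹) := by
    intro s hs
    have hs' : g₀⁻¹ * s * g₀ ∈ S Q := by
      have := (S_normal Q).conj_mem s hs g₀⁻¹
      rwa [inv_inv] at this
    have h := hz _ hs'
    calc g₀ * z * g₀⁻¹ * s = g₀ * (z * (g₀⁻¹ * s * g₀)) * g₀⁻¹ := by group
      _ = g₀ * ((g₀⁻¹ * s * g₀) * z) * g₀⁻¹ := by rw [h]
      _ = s * (g₀ * z * g₀⁻¹) := by group
  obtain ⟨l, hl⟩ := core Q e₁ e₂ f₂ e₃ f₃ he₁ he₂ he₃ h12ee
    (by rw [QuadraticMap.polar_comm]; exact h3e1) h22 h12ef h3f2 h33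
    (by rw [QuadraticMap.polar_comm]; exact h3'e1) _ hz'
  refine ⟨l, ?_⟩
  have h1 : act Q z u = act Q g₀⁻¹ (act Q (g₀ * z * g₀⁻¹) (act Q g₀ u)) := by
    rw [← act_mul, ← act_mul]
    congr 1
    group
  rw [h1, hg₀u, hl, act_smul, ← hg₀u, act_act_inv]

/-- an isometry fixing every singular vector is trivial -/
theorem eq_one_of_fix_sing (e f : Fin n → F) (he : Q e = 0) (hf : Q f = 0) (hef : P e f = 1)
    (z : ↥(Cfsg.isometryGroup F ⇑Q)) (h : ∀ u, Q u = 0 → act Q z u = u) : z = 1 := by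
  apply eq_one_of_act
  intro x
  obtain ⟨w, hw⟩ : ∃ w, w = x - P f x • e - P e x • f := ⟨_, rfl⟩
  have hee : P e e = 0 := by rw [Cfsg.Agent.Lib.H4.polar_self, he, mul_zero]
  have hff : P f f = 0 := by rw [Cfsg.Agent.Lib.H4.polar_self, hf, mul_zero]
  have hfe : P f e = 1 := by rw [QuadraticMap.polar_comm, hef]
  have hew : P e w = 0 := by
    rw [hw]
    simp only [QuadraticMap.polar_sub_right, QuadraticMap.polar_smul_right, hee, hef, smul_eq_mul]
    ring
  have hfw : P f w = 0 := by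
    rw [hw]
    simp only [QuadraticMap.polar_sub_right, QuadraticMap.polar_smul_right, hff, hfe, smul_eq_mul]
    ring
  have hsing : Q (w + (e - Q w • f)) = 0 := by
    rw [QuadraticMap.map_add (⇑Q), Q_sub, QuadraticMap.map_smul, he, hf]
    simp only [QuadraticMap.polar_sub_right, QuadraticMap.polar_smul_right,
      QuadraticMap.polar_comm (⇑Q) w e, QuadraticMap.polar_comm (⇑Q) w f, hew, hfw, hef,
      smul_eq_mul]
    ring
  have hx : x = (w + (e - Q w • f)) + (P f x - 1) • e + (P e x + Q w) • f := by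
    rw [hw]
    module
  rw [hx, act_add, act_add, act_smul, act_smul, h _ hsing, h _ he, h _ hf]

/-- in characteristic two the centre of `Ω` is trivial -/
theorem center_eq_bot_char_two [Fintype F] [CharP F 2]
    (hQ : (QuadraticMap.polarBilin Q).Nondegenerate) (hadj : Adj Q) (hn : 7 ≤ n)
    (hS : commutator ↥(Cfsg.isometryGroup F ⇑Q) = S Q) :
    Subgroup.center ↥(Cfsg.Omega F ⇑Q) = ⊥ := by
  rw [Subgroup.eq_bot_iff_forall]
  intro z hz
  rw [Subgroup.mem_center_iff] at hz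
  have hz' : ∀ s ∈ S Q, z.1 * s = s * z.1 := by
    intro s hs
    have hsΩ : s ∈ Cfsg.Omega F ⇑Q := by rw [Cfsg.Omega, hS]; exact hs
    exact (congrArg Subtype.val (hz ⟨s, hsΩ⟩)).symm
  have eig := eig_of_centralizes Q hQ hn z.1 hz'
  have h2 : (2 : F) = 0 := CharTwo.two_eq_zero
  have hfix : ∀ u, Q u = 0 → act Q z.1 u = u := by
    intro u hu
    by_cases hu0 : u = 0
    · rw [hu0, act, Matrix.mulVec_zero]
    · obtain ⟨l, hl⟩ := eig u hu0 hu
      have e2 := eig_sq Q hQ hadj hn z.1 eig u hu0 hu l hl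
      have : (l - 1) * (l - 1) = 0 := by linear_combination e2 + (1 - l) * h2
      have hl1 : l = 1 := by
        rcases mul_eq_zero.1 this with h | h <;> linear_combination h
      rw [hl, hl1, one_smul]
  obtain ⟨e₁, f₁, e₂, f₂, he₁, hf₁, he₂, hf₂, h11, h22, hee, hef, hfe, hff⟩ :=
    exists_two_pairs Q hQ (by omega)
  have := eq_one_of_fix_sing Q e₁ f₁ he₁ hf₁ h11 z.1 hfix
  exact Subtype.ext this

end fin

section general
open Cfsg.Agent.Lib.H11.OmegaGen

variable {F : Type*} [Field F] [Fintype F] {ι : Type} [Fintype ι] [DecidableEq ι]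

open scoped Classical in
/-- for `q` odd the centre of `Ω` has order `2` or `1` according as `-1 ∈ Ω` or not -/
theorem card_center_odd (Q : QuadraticForm F (ι → F))
    (hQ : (QuadraticMap.polarBilin Q).Nondegenerate) (h2 : (2 : F) ≠ 0)
    (hcard : 7 ≤ Fintype.card ι) :
    Nat.card (Subgroup.center ↥(Cfsg.Omega F ⇑Q)) =
      if (∃ g : ↥(Cfsg.isometryGroup F ⇑Q), g ∈ Cfsg.Omega F ⇑Q ∧
        ((g : GL ι F) : Matrix ι ι F) = -1) then 2 else 1 := by
  have hne : Nonempty ι := by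
    rw [← Fintype.card_pos_iff]; omega
  have hval : ∀ z : ↥(Cfsg.Omega F ⇑Q), z ∈ Subgroup.center ↥(Cfsg.Omega F ⇑Q) →
      ((z.1 : GL ι F) : Matrix ι ι F) = 1 ∨ ((z.1 : GL ι F) : Matrix ι ι F) = -1 := by
    intro z hz
    rw [Subgroup.mem_center_iff] at hz
    exact centralizer_general Q hQ h2 hcard z.1 (by
      intro g hg
      exact (congrArg Subtype.val (hz ⟨g, hg⟩)).symm)
  split_ifs with h
  · obtain ⟨g, hg, hgv⟩ := h
    have hcen : (⟨g, hg⟩ : ↥(Cfsg.Omega F ⇑Q)) ∈ Subgroup.center ↥(Cfsg.Omega F ⇑Q) := by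
      rw [Subgroup.mem_center_iff]
      intro x
      apply Subtype.ext
      apply Subtype.ext
      apply Units.ext
      show x.1.1.1 * g.1.1 = g.1.1 * x.1.1.1
      rw [hgv]
      simp
    have hne1 : (⟨⟨g, hg⟩, hcen⟩ : ↥(Subgroup.center ↥(Cfsg.Omega F ⇑Q))) ≠ 1 := by
      intro h1
      have h3 : ((g : GL ι F) : Matrix ι ι F) = 1 := by
        have := congrArg (fun x : ↥(Subgroup.center ↥(Cfsg.Omega F ⇑Q)) =>
          ((x.1.1 : GL ι F) : Matrix ι ι F)) h1
        exact this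
      rw [hgv] at h3
      have i := hne.some
      have := congrFun (congrFun h3 i) i
      simp only [Matrix.neg_apply, Matrix.one_apply_eq] at this
      apply h2
      linear_combination -this
    rw [Nat.card_eq_two_iff]
    refine ⟨⟨⟨g, hg⟩, hcen⟩, 1, hne1, ?_⟩
    rw [Set.eq_univ_iff_forall]
    rintro ⟨z, hz⟩
    rcases hval z hz with h1 | h1
    · right
      rw [Set.mem_singleton_iff]
      apply Subtype.ext
      apply Subtype.ext
      apply Subtype.ext
      apply Units.ext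
      exact h1
    · left
      apply Subtype.ext
      apply Subtype.ext
      apply Subtype.ext
      apply Units.ext
      show z.1.1.1 = g.1.1
      rw [h1, hgv]
  · have : Subgroup.center ↥(Cfsg.Omega F ⇑Q) = ⊥ := by
      rw [Subgroup.eq_bot_iff_forall]
      intro z hz
      rcases hval z hz with h1 | h1
      · apply Subtype.ext
        apply Subtype.ext
        apply Units.ext
        exact h1
      · exact absurd ⟨z.1, z.2, h1⟩ h
    rw [this, Subgroup.card_bot]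

end general

end Cfsg.Agent.Lib.H11.OmegaCenter2
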