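import Cfsg.Agent.Lib.H11.ConfOrth4
import Cfsg.Agent.Lib.H11.OmegaCenter2

/-!
# Conformal orthogonal groups (part 5): the centraliser of `Ω` in `GL` and the kernel of `Phi`
-/

set_option autoImplicit false

namespace Cfsg.Agent.Lib.H11.ConfOrth

open Matrix
open scoped MatrixGroups
open Cfsg.Agent.Lib.H11.CD Cfsg.Agent.Lib.H11.SiegelGen Cfsg.Agent.Lib.H11.OmegaTrans
open Cfsg.Agent.Lib.H11.OmegaSimple Cfsg.Agent.Lib.H11.IsoReindex

section fin
variable {F : Type*} [Field F] {n : ℕ} (Q : QuadraticForm F (Fin n → F))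

set_option quotPrecheck false in
local notation "P" => QuadraticMap.polar (⇑Q)

/-- a matrix centralizing all Siegel transformations maps `e₁` into its span -/
theorem coreM (e₁ e₂ f₂ e₃ f₃ : Fin n → F) (he₁ : Q e₁ = 0) (he₂ : Q e₂ = 0) (he₃ : Q e₃ = 0)
    (h12 : P e₁ e₂ = 0) (h13 : P e₁ e₃ = 0) (h22 : P e₂ f₂ = 1) (h1f : P e₁ f₂ = 0)
    (h3f : P e₃ f₂ = 0) (h33 : P e₃ f₃ = 1) (h1f3 : P e₁ f₃ = 0)
    (A : Matrix (Fin n) (Fin n) F)
    (hA : ∀ s ∈ S Q, A * ((s : GL (Fin n) F) : Matrix (Fin n) (Fin n) F) =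
      ((s : GL (Fin n) F) : Matrix (Fin n) (Fin n) F) * A) :
    ∃ l : F, A *ᵥ e₁ = l • e₁ := by
  have k2 := congrArg (fun M => M *ᵥ f₂) (hA _ (siegEl_mem Q e₁ e₂ he₁ he₂ h12 1))
  have k3 := congrArg (fun M => M *ᵥ f₂) (hA _ (siegEl_mem Q e₁ e₃ he₁ he₃ h13 1))
  simp only [← Matrix.mulVec_mulVec] at k2 k3
  have a2 := siegEl_act Q e₁ e₂ he₁ he₂ h12 1
  have a3 := siegEl_act Q e₁ e₃ he₁ he₃ h13 1
  unfold act at a2 a3
  rw [a2, a2] at k2
  rw [a3, a3] at k3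
  simp only [h1f, h22, h3f, one_mul, mul_zero, zero_smul, add_zero,
    mul_one, one_smul, sub_zero] at k2 k3
  rw [sub_eq_add_neg, Matrix.mulVec_add, Matrix.mulVec_neg] at k2
  have hze : A *ᵥ e₁ = P e₂ (A *ᵥ f₂) • e₁ - P e₁ (A *ᵥ f₂) • e₂ := by
    have : A *ᵥ e₁ = A *ᵥ f₂ - (A *ᵥ f₂ + -(A *ᵥ e₁)) := by abel
    rw [this, k2]; abel
  have h3' : P e₁ (A *ᵥ f₂) • e₃ = P e₃ (A *ᵥ f₂) • e₁ := by
    have : P e₁ (A *ᵥ f₂) • e₃ - P e₃ (A *ᵥ f₂) • e₁ =
        (A *ᵥ f₂ + P e₁ (A *ᵥ f₂) • e₃ - P e₃ (A *ᵥ f₂) • e₁) - A *ᵥ f₂ := by abel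
    rw [← sub_eq_zero, this, ← k3, sub_self]
  have hα : P e₁ (A *ᵥ f₂) = 0 := by
    have := congrArg (fun x => P f₃ x) h3'
    simp only [QuadraticMap.polar_smul_right, QuadraticMap.polar_comm (⇑Q) f₃ e₃,
      QuadraticMap.polar_comm (⇑Q) f₃ e₁, h33, h1f3, smul_eq_mul, mul_one, mul_zero] at this
    exact this
  exact ⟨P e₂ (A *ᵥ f₂), by rw [hze, hα, zero_smul, sub_zero]⟩

/-- a matrix centralizing `Ω` is scalar (`n ≥ 7`, odd characteristic) -/
theorem schur_fin [Fintype F] (hQ : (QuadraticMap.polarBilin Q).Nondegenerate)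
    (h2 : (2 : F) ≠ 0) (hn : 7 ≤ n) (A : Matrix (Fin n) (Fin n) F)
    (hA : ∀ s ∈ commutator ↥(Cfsg.isometryGroup F ⇑Q),
      A * ((s : GL (Fin n) F) : Matrix (Fin n) (Fin n) F) =
      ((s : GL (Fin n) F) : Matrix (Fin n) (Fin n) F) * A) :
    ∃ l : F, A = l • (1 : Matrix (Fin n) (Fin n) F) := by
  have hS := commutator_eq_S Q hQ h2 (by omega)
  have hadj := adj_of_odd Q hQ h2
  obtain ⟨e₁, f₁, e₂, f₂, e₃, f₃, he₁, hf₁, he₂, hf₂, he₃, hf₃, h11, h22, h33, h12ee, h12ef,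
    h12fe, h12ff, h3e1, h3f1, h3e2, h3f2, h3'e1, h3'f1, h3'e2, h3'f2⟩ := exists_three_pairs Q hQ hn
  have he₁0 : e₁ ≠ 0 := by
    rintro rfl
    rw [QuadraticMap.polar_zero_left] at h11
    exact zero_ne_one h11
  obtain ⟨l, hl⟩ := coreM Q e₁ e₂ f₂ e₃ f₃ he₁ he₂ he₃ h12ee
    (by rw [QuadraticMap.polar_comm]; exact h3e1) h22 h12ef h3f2 h33
    (by rw [QuadraticMap.polar_comm]; exact h3'e1) A (fun s hs => hA s (by rw [hS]; exact hs))
  -- every singular vector is an eigenvector for `l`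
  have hsing : ∀ u : Fin n → F, Q u = 0 → A *ᵥ u = l • u := by
    intro u hu
    by_cases hu0 : u = 0
    · rw [hu0, Matrix.mulVec_zero, smul_zero]
    obtain ⟨ω, hω, hωu⟩ := omega_trans_sing Q hQ hadj hn e₁ u he₁0 hu0 he₁ hu
    have h1 := congrArg (fun M => M *ᵥ e₁) (hA ω hω)
    simp only [← Matrix.mulVec_mulVec] at h1
    unfold act at hωu
    rw [hωu, hl, Matrix.mulVec_smul, hωu] at h1
    exact h1
  refine ⟨l, ?_⟩
  apply Matrix.ext_iff_mulVec.mpr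
  intro x
  rw [Matrix.smul_mulVec, Matrix.one_mulVec]
  set e := e₁ with hedef
  set f := f₁ with hfdef
  obtain ⟨w, hw⟩ : ∃ w, w = x - P f x • e - P e x • f := ⟨_, rfl⟩
  have hee : P e e = 0 := by rw [Cfsg.Agent.Lib.H4.polar_self, he₁, mul_zero]
  have hff : P f f = 0 := by rw [Cfsg.Agent.Lib.H4.polar_self, hf₁, mul_zero]
  have hfe : P f e = 1 := by rw [QuadraticMap.polar_comm, h11]
  have hew : P e w = 0 := by
    rw [hw]
    simp only [QuadraticMap.polar_sub_right, QuadraticMap.polar_smul_right, hee, h11, smul_eq_mul]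
    ring
  have hfw : P f w = 0 := by
    rw [hw]
    simp only [QuadraticMap.polar_sub_right, QuadraticMap.polar_smul_right, hff, hfe, smul_eq_mul]
    ring
  have hs : Q (w + (e - Q w • f)) = 0 := by
    rw [QuadraticMap.map_add (⇑Q), Q_sub, QuadraticMap.map_smul, he₁, hf₁]
    simp only [QuadraticMap.polar_sub_right, QuadraticMap.polar_smul_right,
      QuadraticMap.polar_comm (⇑Q) w e, QuadraticMap.polar_comm (⇑Q) w f, hew, hfw, h11,
      smul_eq_mul]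
    ring
  have hx : x = (w + (e - Q w • f)) + (P f x - 1) • e + (P e x + Q w) • f := by
    rw [hw]
    module
  have h5 : A *ᵥ x = l • ((w + (e - Q w • f)) + (P f x - 1) • e + (P e x + Q w) • f) := by
    nth_rewrite 1 [hx]
    rw [Matrix.mulVec_add, Matrix.mulVec_add, Matrix.mulVec_smul, Matrix.mulVec_smul, hsing _ hs,
      hsing _ he₁, hsing _ hf₁]
    module
  rw [h5, ← hx]

end fin

section gen

variable {F : Type*} [Field F] [Fintype F] {ι : Type} [Fintype ι] [DecidableEq ι]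
  (Q : QuadraticForm F (ι → F))

/-- a matrix centralizing `Ω(Q)` is scalar -/
theorem schur_gen (hQ : (QuadraticMap.polarBilin Q).Nondegenerate) (h2 : (2 : F) ≠ 0)
    (hcard : 7 ≤ Fintype.card ι) (A : GL ι F)
    (hA : ∀ w ∈ Cfsg.Geo.omegaGL ⇑Q, A * w = w * A) : A ∈ Zs ι F := by
  set e := Fintype.equivFin ι with he
  let Θ : ↥(Cfsg.isometryGroup F ⇑Q) ≃* ↥(Cfsg.isometryGroup F ⇑(trQF e Q)) := isoEquiv e ⇑Q
  have key := schur_fin (trQF e Q) (nondeg_trQF _ Q hQ) h2 hcard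
    (Matrix.reindex e e (A : Matrix ι ι F)) (by
      intro s hs
      have hs' : Θ.symm s ∈ commutator ↥(Cfsg.isometryGroup F ⇑Q) := by
        rw [← mem_commutator_iff Θ, MulEquiv.apply_symm_apply]
        exact hs
      have h1 : A * (Θ.symm s).1 = (Θ.symm s).1 * A := hA _ ⟨Θ.symm s, hs', rfl⟩
      have h3 : (((s : ↥(Cfsg.isometryGroup F ⇑(trQF e Q))) : GL (Fin (Fintype.card ι)) F) :
          Matrix (Fin (Fintype.card ι)) (Fin (Fintype.card ι)) F) =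
          Matrix.reindex e e (((Θ.symm s : ↥(Cfsg.isometryGroup F ⇑Q)) : GL ι F) : Matrix ι ι F) := by
        have h5 := isoEquiv_val e ⇑Q (Θ.symm s)
        have h6 : isoEquiv e ⇑Q (Θ.symm s) = s := Θ.apply_symm_apply s
        rw [h6] at h5
        exact h5
      rw [h3]
      have h4 := congrArg (fun g : GL ι F => Matrix.reindex e e (g : Matrix ι ι F)) h1
      simp only [Units.val_mul, Matrix.reindex_apply] at h4
      rw [Matrix.reindex_apply, Matrix.reindex_apply, Matrix.submatrix_mul_equiv,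
        Matrix.submatrix_mul_equiv]
      exact h4)
  obtain ⟨l, hl⟩ := key
  have hA' : (A : Matrix ι ι F) = l • 1 := by
    ext i j
    have := congrFun (congrFun hl (e i)) (e j)
    simp only [Matrix.reindex_apply, Matrix.submatrix_apply, Equiv.symm_apply_apply,
      Matrix.smul_apply, Matrix.one_apply, EmbeddingLike.apply_eq_iff_eq] at this
    rw [this, Matrix.smul_apply, Matrix.one_apply]
  have hne : Nonempty ι := by
    have : 0 < Fintype.card ι := by omega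
    exact Fintype.card_pos_iff.mp this
  have hl0 : l ≠ 0 := by
    rintro rfl
    have hdet := A.isUnit
    rw [Matrix.isUnit_iff_isUnit_det] at hdet
    rw [zero_smul] at hA'
    rw [hA', Matrix.det_zero] at hdet
    exact not_isUnit_zero hdet
  rw [mem_Zs_iff]
  refine ⟨Units.mk0 l hl0, ?_⟩
  apply Units.ext
  rw [Matrix.GeneralLinearGroup.coe_scalar, hA']
  ext i j
  simp [Matrix.scalar_apply, Matrix.diagonal_apply, Matrix.one_apply]

omit [Fintype F] in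
theorem perfect_of_equiv {G G' : Type*} [Group G] [Group G'] (Ψ : G ≃* G')
    (h : commutator G' = ⊤) : commutator G = ⊤ := by
  rw [eq_top_iff]
  intro x _
  rw [← mem_commutator_iff Ψ, h]
  exact Subgroup.mem_top _

/-- `Ω(Q)` is perfect -/
theorem perfect_gen (hQ : (QuadraticMap.polarBilin Q).Nondegenerate) (h2 : (2 : F) ≠ 0)
    (hcard : 7 ≤ Fintype.card ι) : commutator ↥(Cfsg.Omega F ⇑Q) = ⊤ := by
  set e := Fintype.equivFin ι with he
  let Θ : ↥(Cfsg.isometryGroup F ⇑Q) ≃* ↥(Cfsg.isometryGroup F ⇑(trQF e Q)) := isoEquiv e ⇑Q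
  have h1 := perfect (trQF e Q) (nondeg_trQF _ Q hQ) (adj_of_odd _ (nondeg_trQF _ Q hQ) h2) hcard
    (commutator_eq_S _ (nondeg_trQF _ Q hQ) h2 (by omega))
  exact perfect_of_equiv (commutatorCongr Θ) h1

/-- the kernel of `Phi` is the group of scalars -/
theorem ker_Phi_gen (hQ : (QuadraticMap.polarBilin Q).Nondegenerate) (h2 : (2 : F) ≠ 0)
    (hcard : 7 ≤ Fintype.card ι) : (Phi ⇑Q).ker = (Zs ι F).subgroupOf (Sim ⇑Q) :=
  ker_Phi ⇑Q (perfect_gen Q hQ h2 hcard) (schur_gen Q hQ h2 hcard)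

omit [Fintype F] in
theorem Zs_le_sim' : Zs ι F ≤ Sim ⇑Q := Zs_le_sim ⇑Q (hhom Q)

omit [Fintype F] in
/-- membership in the preimage of the image of a subgroup `S ≤ Sim` -/
theorem mem_comap_map (hker : (Phi ⇑Q).ker = (Zs ι F).subgroupOf (Sim ⇑Q))
    (S : Subgroup (GL ι F)) (g : ↥(Sim ⇑Q)) :
    g ∈ ((S.subgroupOf (Sim ⇑Q)).map (Phi ⇑Q)).comap (Phi ⇑Q) ↔
      ∃ c : Fˣ, ∃ s ∈ S, g.1 = Matrix.GeneralLinearGroup.scalar ι c * s := by
  rw [Subgroup.mem_comap]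
  constructor
  · rintro ⟨s, hs, hsg⟩
    have h1 : g * s⁻¹ ∈ (Phi ⇑Q).ker := by
      rw [MonoidHom.mem_ker, map_mul, map_inv, hsg, mul_inv_cancel]
    rw [hker, Subgroup.mem_subgroupOf, mem_Zs_iff] at h1
    obtain ⟨c, hc⟩ := h1
    refine ⟨c, s.1, Subgroup.mem_subgroupOf.1 hs, ?_⟩
    rw [← hc, Subgroup.coe_mul, Subgroup.coe_inv, inv_mul_cancel_right]
  · rintro ⟨c, s, hs, hg⟩
    have hsS : s ∈ Sim ⇑Q := by
      have h1 : s = (Matrix.GeneralLinearGroup.scalar ι c)⁻¹ * g.1 := by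
        rw [hg, inv_mul_cancel_left]
      rw [h1]
      exact mul_mem (inv_mem (Zs_le_sim' Q ⟨c, rfl⟩)) g.2
    refine ⟨⟨s, hsS⟩, Subgroup.mem_subgroupOf.2 hs, ?_⟩
    have hz : (⟨Matrix.GeneralLinearGroup.scalar ι c, Zs_le_sim' Q ⟨c, rfl⟩⟩ : ↥(Sim ⇑Q)) ∈
        (Phi ⇑Q).ker := by
      rw [hker, Subgroup.mem_subgroupOf]
      exact ⟨c, rfl⟩
    have hgs : g = ⟨Matrix.GeneralLinearGroup.scalar ι c, Zs_le_sim' Q ⟨c, rfl⟩⟩ * ⟨s, hsS⟩ :=
      Subtype.ext hg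
    rw [hgs, map_mul, MonoidHom.mem_ker.1 hz, one_mul]

end gen

end Cfsg.Agent.Lib.H11.ConfOrth
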