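import Cfsg.Agent.Lib.H11.ConfOrth20
import Cfsg.Agent.Lib.H11.ConfOrth5

/-!
# Conformal orthogonal groups (part 21): the kernel of the action of semisimilarities on `PΩ(Q)`
-/

set_option autoImplicit false
set_option linter.unusedSectionVars false

namespace Cfsg.Agent.Lib.H11.ConfOrth

open Matrix
open scoped MatrixGroups
open Cfsg.Agent.Lib.H11.CD Cfsg.Agent.Lib.H11.SiegelGen Cfsg.Agent.Lib.H11.OmegaTrans
open Cfsg.Agent.Lib.H11.OmegaSimple Cfsg.Agent.Lib.H11.IsoReindex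

section ker

variable {F : Type*} [Field F] [Fintype F] {ι : Type} [Fintype ι] [DecidableEq ι]
  (Q : QuadraticForm F (ι → F))

/-- a nontrivial unipotent one-parameter family `1 + t X` inside `Ω` -/
theorem exists_unip_family (hQ : (QuadraticMap.polarBilin Q).Nondegenerate) (h2 : (2 : F) ≠ 0)
    (hcard : 7 ≤ Fintype.card ι) :
    ∃ X : Matrix ι ι F, X ≠ 0 ∧ ∀ t : F, ∃ ω ∈ Cfsg.Geo.omegaGL ⇑Q,
      (ω : Matrix ι ι F) = 1 + t • X := by
  set e := Fintype.equivFin ι with he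
  let Θ : ↥(Cfsg.isometryGroup F ⇑Q) ≃* ↥(Cfsg.isometryGroup F ⇑(trQF e Q)) := isoEquiv e ⇑Q
  have hQ' := nondeg_trQF e Q hQ
  have hS := commutator_eq_S (trQF e Q) hQ' h2 (by omega)
  obtain ⟨e₁, f₁, e₂, f₂, e₃, f₃, he₁, hf₁, he₂, hf₂, he₃, hf₃, h11, h22, h33, h12ee, h12ef,
    h12fe, h12ff, h3e1, h3f1, h3e2, h3f2, h3'e1, h3'f1, h3'e2, h3'f2⟩ :=
    exists_three_pairs (trQF e Q) hQ' hcard
  have he₁0 : e₁ ≠ 0 := by
    rintro rfl
    rw [QuadraticMap.polar_zero_left] at h11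
    exact zero_ne_one h11
  obtain ⟨X₀, hX₀⟩ : ∃ X₀ : Matrix (Fin (Fintype.card ι)) (Fin (Fintype.card ι)) F,
      X₀ = Matrix.vecMulVec e₂ (Cfsg.polarVec (⇑(trQF e Q)) e₁) -
        Matrix.vecMulVec e₁ (Cfsg.polarVec (⇑(trQF e Q)) e₂) := ⟨_, rfl⟩
  have hsieg : ∀ t : F, Cfsg.siegelMatrix (⇑(trQF e Q)) e₁ e₂ t = 1 + t • X₀ := by
    intro t
    rw [hX₀]
    rfl
  have hX₀ne : X₀ ≠ 0 := by
    intro h0
    have h1 := Cfsg.Agent.Lib.H4.siegelMatrix_mulVec (trQF e Q) e₁ e₂ 1 f₂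
    rw [hsieg, h0, smul_zero, add_zero, Matrix.one_mulVec, h12ef, h22, mul_zero, zero_smul,
      add_zero, mul_one, one_smul] at h1
    apply he₁0
    have : f₂ - (f₂ - e₁) = e₁ := by abel
    rw [← this, ← h1, sub_self]
  refine ⟨X₀.submatrix e e, ?_, ?_⟩
  · intro h0
    apply hX₀ne
    ext i j
    have := congrFun (congrFun h0 (e.symm i)) (e.symm j)
    simpa using this
  · intro t
    obtain ⟨s, hs⟩ : ∃ s, s = siegEl (trQF e Q) e₁ e₂ he₁ he₂ h12ee t := ⟨_, rfl⟩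
    have hsS : s ∈ commutator ↥(Cfsg.isometryGroup F ⇑(trQF e Q)) := by
      rw [hS, hs]
      exact siegEl_mem (trQF e Q) e₁ e₂ he₁ he₂ h12ee t
    have hs' : Θ.symm s ∈ commutator ↥(Cfsg.isometryGroup F ⇑Q) := by
      rw [← mem_commutator_iff Θ, MulEquiv.apply_symm_apply]
      exact hsS
    refine ⟨(Θ.symm s).1, ⟨Θ.symm s, hs', rfl⟩, ?_⟩
    have h5 := isoEquiv_val e ⇑Q (Θ.symm s)
    have h6 : isoEquiv e ⇑Q (Θ.symm s) = s := Θ.apply_symm_apply s
    have h5' : (((s : ↥(Cfsg.isometryGroup F ⇑(trQF e Q))) : GL (Fin (Fintype.card ι)) F) :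
        Matrix (Fin (Fintype.card ι)) (Fin (Fintype.card ι)) F) = 1 + t • X₀ := by
      rw [hs, siegEl_val, hsieg]
    rw [h6, h5'] at h5
    ext i j
    have h7 := congrFun (congrFun h5 (e i)) (e j)
    simp only [Matrix.reindex_apply, Matrix.submatrix_apply, Equiv.symm_apply_apply,
      Matrix.add_apply, Matrix.smul_apply, Matrix.one_apply, EmbeddingLike.apply_eq_iff_eq] at h7
    rw [← h7]
    simp only [Matrix.add_apply, Matrix.smul_apply, Matrix.one_apply, Matrix.submatrix_apply]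

/-- a semisimilarity pair acting trivially on `PΩ` is a scalar with trivial field automorphism -/
theorem semi_ker (hQ : (QuadraticMap.polarBilin Q).Nondegenerate) (h2 : (2 : F) ≠ 0)
    (hcard : 7 ≤ Fintype.card ι) (g : GL ι F) (σ : F ≃+* F)
    (hp : Cfsg.IsSemisimilarityPair (⇑Q) g σ) (h1 : semiAut (⇑Q) g σ hp = 1) :
    σ = RingEquiv.refl F ∧ g ∈ Zs ι F := by
  have hperf := perfect_gen Q hQ h2 hcard
  have hfix : ∀ s : ↥(Cfsg.Omega F ⇑Q), semiOmega (⇑Q) g σ hp s = s := by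
    apply aut_eq_one_of_perfect hperf
    intro s
    have h3 := congrArg (fun β : MulAut (Cfsg.POmega F ⇑Q) => β (QuotientGroup.mk s)) h1
    simp only [MulAut.one_apply] at h3
    rw [semiAut_mk] at h3
    exact QuotientGroup.eq.1 h3.symm
  have hconj : ∀ ω ∈ Cfsg.Geo.omegaGL ⇑Q, g * glmap σ ω * g⁻¹ = ω := by
    intro ω hω
    obtain ⟨h, hs⟩ := (mem_omegaGL_iff (⇑Q) ω).1 hω
    have h3 := hfix ⟨⟨ω, h⟩, hs⟩
    have h4 := congrArg (fun x : ↥(Cfsg.Omega F ⇑Q) =>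
      ((x : ↥(Cfsg.isometryGroup F ⇑Q)) : GL ι F)) h3
    simp only [semiOmega_val] at h4
    exact h4
  obtain ⟨X, hX, hfam⟩ := exists_unip_family Q hQ h2 hcard
  have hmap : ∀ t : F, (1 + t • X).map σ = 1 + σ t • X.map σ := by
    intro t
    ext i j
    simp only [Matrix.map_apply, Matrix.add_apply, Matrix.smul_apply, Matrix.one_apply,
      smul_eq_mul, map_add, map_mul]
    split_ifs <;> simp
  have hY : ∀ t : F, 1 + σ t • ((g : Matrix ι ι F) * X.map σ * ((g⁻¹ : GL ι F) : Matrix ι ι F)) =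
      1 + t • X := by
    intro t
    obtain ⟨ω, hω, hωv⟩ := hfam t
    have h3 := congrArg (fun x : GL ι F => (x : Matrix ι ι F)) (hconj ω hω)
    simp only [Units.val_mul, glmap_val] at h3
    rw [hωv, hmap, Matrix.mul_add, Matrix.add_mul, Matrix.mul_one, ← Units.val_mul,
      mul_inv_cancel, Units.val_one, Matrix.mul_smul, Matrix.smul_mul] at h3
    exact h3
  have hY1 : (g : Matrix ι ι F) * X.map σ * ((g⁻¹ : GL ι F) : Matrix ι ι F) = X := by
    have := hY 1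
    rw [map_one, one_smul, one_smul] at this
    exact add_left_cancel this
  have hσ : ∀ t : F, σ t = t := by
    intro t
    have h3 := hY t
    rw [hY1] at h3
    have h4 : (σ t - t) • X = 0 := by
      rw [sub_smul, sub_eq_zero]
      exact add_left_cancel h3
    rcases smul_eq_zero.1 h4 with h5 | h5
    · exact sub_eq_zero.1 h5
    · exact absurd h5 hX
  have hσ' : σ = RingEquiv.refl F := RingEquiv.ext hσ
  refine ⟨hσ', ?_⟩
  apply schur_gen Q hQ h2 hcard g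
  intro ω hω
  have h3 := hconj ω hω
  rw [hσ', glmap_refl] at h3
  calc g * ω = g * ω * g⁻¹ * g := by group
    _ = ω * g := by rw [h3]

end ker

end Cfsg.Agent.Lib.H11.ConfOrth
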