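import Cfsg.Prelude.Def_Classical

/-!
Transport of isometry groups along a reindexing `e : ι ≃ κ` of the coordinates.
-/

set_option autoImplicit false

namespace Cfsg.Agent.Lib.H11.IsoReindex

open Matrix
open scoped MatrixGroups

variable {F : Type*} [Field F] {ι κ : Type} [Fintype ι] [DecidableEq ι] [Fintype κ] [DecidableEq κ]

theorem mem_iso_iff' (Q : (ι → F) → F) (g : GL ι F) :
    g ∈ Cfsg.isometryGroup F Q ↔ ∀ x, Q (g.1 *ᵥ x) = Q x := by
  constructor
  · intro h x; exact h x 0
  · intro h x _; exact h x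

/-- reindexing of `GL` -/
noncomputable def glReindex (e : ι ≃ κ) : GL ι F ≃* GL κ F :=
  Units.mapEquiv (Matrix.reindexAlgEquiv F F e).toMulEquiv

theorem glReindex_val (e : ι ≃ κ) (g : GL ι F) :
    ((glReindex e g : GL κ F) : Matrix κ κ F) = Matrix.reindex e e (g : Matrix ι ι F) := rfl

theorem glReindex_mulVec (e : ι ≃ κ) (g : GL ι F) (x : κ → F) :
    (glReindex e g).1 *ᵥ x = (g.1 *ᵥ (x ∘ e)) ∘ e.symm := by
  rw [glReindex_val, Matrix.reindex_apply, Matrix.submatrix_mulVec_equiv]
  rfl

/-- the transported form -/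
def tr (e : ι ≃ κ) (Q : (ι → F) → F) : (κ → F) → F := fun x => Q (x ∘ e)

theorem mem_tr_iff (e : ι ≃ κ) (Q : (ι → F) → F) (g : GL ι F) :
    glReindex e g ∈ Cfsg.isometryGroup F (tr e Q) ↔ g ∈ Cfsg.isometryGroup F Q := by
  rw [mem_iso_iff', mem_iso_iff']
  have key : ∀ x : κ → F, tr e Q ((glReindex e g).1 *ᵥ x) = Q (g.1 *ᵥ (x ∘ e)) := by
    intro x
    rw [glReindex_mulVec, tr]
    congr 1
    funext i
    simp
  constructor
  · intro h y
    have := h (y ∘ e.symm)
    rw [key] at this
    have h1 : (y ∘ e.symm) ∘ e = y := by funext i; simp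
    rw [h1] at this
    rw [this, tr, h1]
  · intro h x
    rw [key, h]
    rfl

/-- the transported isometry group -/
noncomputable def isoEquiv (e : ι ≃ κ) (Q : (ι → F) → F) :
    ↥(Cfsg.isometryGroup F Q) ≃* ↥(Cfsg.isometryGroup F (tr e Q)) where
  toFun g := ⟨glReindex e g.1, (mem_tr_iff e Q g.1).2 g.2⟩
  invFun g := ⟨(glReindex e).symm g.1, by
    rw [← mem_tr_iff e Q, MulEquiv.apply_symm_apply]
    exact g.2⟩
  left_inv g := Subtype.ext ((glReindex e).symm_apply_apply g.1)
  right_inv g := Subtype.ext ((glReindex e).apply_symm_apply g.1)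
  map_mul' g h := Subtype.ext (map_mul (glReindex e) g.1 h.1)

theorem isoEquiv_val (e : ι ≃ κ) (Q : (ι → F) → F) (g : ↥(Cfsg.isometryGroup F Q)) :
    (((isoEquiv e Q g : ↥(Cfsg.isometryGroup F (tr e Q))) : GL κ F) : Matrix κ κ F) =
      Matrix.reindex e e ((g : GL ι F) : Matrix ι ι F) := rfl

theorem mem_commutator_iff {G G' : Type*} [Group G] [Group G'] (Θ : G ≃* G') (g : G) :
    Θ g ∈ commutator G' ↔ g ∈ commutator G := by
  have h1 : commutator G' = (commutator G).map Θ.toMonoidHom := by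
    rw [commutator_def, commutator_def, Subgroup.map_commutator,
      Subgroup.map_top_of_surjective _ Θ.surjective]
  rw [h1]
  constructor
  · rintro ⟨g', hg', h⟩
    have : g' = g := Θ.injective h
    rw [← this]
    exact hg'
  · intro h
    exact ⟨g, h, rfl⟩

theorem submatrix_neg_one (f : κ ≃ ι) : (-1 : Matrix ι ι F).submatrix f f = -1 := by
  ext i j
  simp [Matrix.one_apply]

theorem neg_one_transfer (e : ι ≃ κ) (Q : (ι → F) → F) :
    (∃ g : ↥(Cfsg.isometryGroup F Q), g ∈ Cfsg.Omega F Q ∧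
      ((g : GL ι F) : Matrix ι ι F) = -1) ↔
    (∃ g : ↥(Cfsg.isometryGroup F (tr e Q)), g ∈ Cfsg.Omega F (tr e Q) ∧
      ((g : GL κ F) : Matrix κ κ F) = -1) := by
  constructor
  · rintro ⟨g, hg, hg1⟩
    refine ⟨isoEquiv e Q g, (mem_commutator_iff (isoEquiv e Q) g).2 hg, ?_⟩
    rw [isoEquiv_val, hg1, Matrix.reindex_apply, submatrix_neg_one]
  · rintro ⟨g, hg, hg1⟩
    refine ⟨(isoEquiv e Q).symm g, ?_, ?_⟩
    · rw [← mem_commutator_iff (isoEquiv e Q), MulEquiv.apply_symm_apply]
      exact hg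
    · have h1 := isoEquiv_val e Q ((isoEquiv e Q).symm g)
      rw [MulEquiv.apply_symm_apply, hg1] at h1
      have h3 := congrArg (Matrix.reindex e e).symm h1
      rw [Equiv.symm_apply_apply] at h3
      rw [← h3, Matrix.reindex_symm, Matrix.reindex_apply, submatrix_neg_one]

/-- level sets correspond -/
theorem card_lvl_tr (e : ι ≃ κ) (Q : (ι → F) → F) (c : F) :
    Nat.card {x : κ → F // tr e Q x = c} = Nat.card {x : ι → F // Q x = c} := by
  apply Nat.card_congr
  refine (Equiv.arrowCongr e.symm (Equiv.refl F)).subtypeEquiv ?_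
  intro x
  rw [tr]
  have : (Equiv.arrowCongr e.symm (Equiv.refl F)) x = x ∘ e := by
    funext i
    simp [Equiv.arrowCongr]
  rw [this]

/-- the transported quadratic form -/
noncomputable def trQF (e : ι ≃ κ) (Q : QuadraticForm F (ι → F)) : QuadraticForm F (κ → F) :=
  Q.comp (LinearMap.funLeft F F e)

theorem coe_trQF (e : ι ≃ κ) (Q : QuadraticForm F (ι → F)) : ⇑(trQF e Q) = tr e ⇑Q := rfl

theorem nondeg_trQF (e : ι ≃ κ) (Q : QuadraticForm F (ι → F))
    (hQ : (QuadraticMap.polarBilin Q).Nondegenerate) :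
    (QuadraticMap.polarBilin (trQF e Q)).Nondegenerate := by
  have hp : ∀ x y : κ → F, QuadraticMap.polar (⇑(trQF e Q)) x y =
      QuadraticMap.polar (⇑Q) (x ∘ e) (y ∘ e) := fun x y => rfl
  have hsurj : ∀ y : ι → F, (y ∘ e.symm) ∘ e = y := fun y => by funext i; simp
  constructor
  · intro x hx
    have : x ∘ e = 0 := by
      apply hQ.1
      intro y
      have := hx (y ∘ e.symm)
      rw [QuadraticMap.polarBilin_apply_apply, hp, hsurj] at this
      exact this
    funext k
    have := congrFun this (e.symm k)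
    simpa using this
  · intro x hx
    have : x ∘ e = 0 := by
      apply hQ.2
      intro y
      have := hx (y ∘ e.symm)
      rw [QuadraticMap.polarBilin_apply_apply, hp, hsurj] at this
      exact this
    funext k
    have := congrFun this (e.symm k)
    simpa using this

end Cfsg.Agent.Lib.H11.IsoReindex
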