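import Cfsg.Agent.Lib.H11.OmegaCenter
import Cfsg.Agent.Lib.H11.IsoReindex

/-!
Index and centre of `Ω(Q)` for a quadratic form on `ι → F` (any finite index type), `q` odd.
-/

set_option autoImplicit false

namespace Cfsg.Agent.Lib.H11.OmegaGen

open Matrix
open scoped MatrixGroups
open Cfsg.Agent.Lib.H11.SpinSign Cfsg.Agent.Lib.H11.IsoReindex Cfsg.Agent.Lib.H11.OmegaCenter

variable {F : Type*} [Field F] [Fintype F] {ι : Type} [Fintype ι] [DecidableEq ι]

theorem index_commutator_congr {G G' : Type*} [Group G] [Group G'] (Θ : G ≃* G') :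
    (commutator G).index = (commutator G').index := by
  rw [Subgroup.index_eq_card, Subgroup.index_eq_card]
  exact Nat.card_congr (MulEquiv.abelianizationCongr Θ).toEquiv

theorem index_omega (Q : QuadraticForm F (ι → F))
    (hQ : (QuadraticMap.polarBilin Q).Nondegenerate) (h2 : (2 : F) ≠ 0)
    (hcard : 2 ≤ Fintype.card ι) : (Cfsg.Omega F ⇑Q).index = 4 := by
  have h1 := (main (trQF (Fintype.equivFin ι) Q) (nondeg_trQF _ Q hQ) h2 hcard 1 one_ne_zero).1
  rw [index_commutator_congr (isoEquiv (Fintype.equivFin ι) ⇑Q), Subgroup.index_eq_card]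
  exact h1

theorem centralizer_general (Q : QuadraticForm F (ι → F))
    (hQ : (QuadraticMap.polarBilin Q).Nondegenerate) (h2 : (2 : F) ≠ 0)
    (hcard : 7 ≤ Fintype.card ι) (z : ↥(Cfsg.isometryGroup F ⇑Q))
    (hz : ∀ g ∈ Cfsg.Omega F ⇑Q, z * g = g * z) :
    ((z : GL ι F) : Matrix ι ι F) = 1 ∨ ((z : GL ι F) : Matrix ι ι F) = -1 := by
  set e := Fintype.equivFin ι
  let Θ : ↥(Cfsg.isometryGroup F ⇑Q) ≃* ↥(Cfsg.isometryGroup F ⇑(trQF e Q)) := isoEquiv e ⇑Q
  have hz' : ∀ g ∈ commutator ↥(Cfsg.isometryGroup F ⇑(trQF e Q)), Θ z * g = g * Θ z := by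
    intro g hg
    have hg' : Θ.symm g ∈ commutator ↥(Cfsg.isometryGroup F ⇑Q) := by
      rw [← mem_commutator_iff Θ, MulEquiv.apply_symm_apply]
      exact hg
    have := congrArg Θ (hz _ hg')
    rw [map_mul, map_mul, MulEquiv.apply_symm_apply] at this
    exact this
  have h1 := centralizer_val (trQF e Q) (nondeg_trQF _ Q hQ) h2 hcard (Θ z) hz'
  have hv : (((Θ z : ↥(Cfsg.isometryGroup F ⇑(trQF e Q))) : GL (Fin (Fintype.card ι)) F) :
      Matrix (Fin (Fintype.card ι)) (Fin (Fintype.card ι)) F) =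
      Matrix.reindex e e ((z : GL ι F) : Matrix ι ι F) := isoEquiv_val e ⇑Q z
  rcases h1 with h1 | h1
  · left
    have h3 : Matrix.reindex e e ((z : GL ι F) : Matrix ι ι F) = 1 := hv.symm.trans h1
    have := congrArg (Matrix.reindex e e).symm h3
    rw [Equiv.symm_apply_apply] at this
    rw [this, Matrix.reindex_symm, Matrix.reindex_apply, Matrix.submatrix_one_equiv]
  · right
    have h3 : Matrix.reindex e e ((z : GL ι F) : Matrix ι ι F) = -1 := hv.symm.trans h1
    have := congrArg (Matrix.reindex e e).symm h3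
    rw [Equiv.symm_apply_apply] at this
    rw [this, Matrix.reindex_symm, Matrix.reindex_apply, submatrix_neg_one]

/-- elements of the commutator subgroup of a subgroup of `GL` have determinant one -/
theorem det_eq_one_of_mem_commutator (H : Subgroup (GL ι F)) (g : ↥H) (hg : g ∈ commutator ↥H) :
    ((g : GL ι F) : Matrix ι ι F).det = 1 := by
  have := Abelianization.commutator_subset_ker
    (Matrix.GeneralLinearGroup.det.comp H.subtype) hg
  rw [MonoidHom.mem_ker] at this
  exact congrArg Units.val this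

theorem center_omega_eq_bot_of_odd (Q : QuadraticForm F (ι → F))
    (hQ : (QuadraticMap.polarBilin Q).Nondegenerate) (h2 : (2 : F) ≠ 0)
    (hcard : 7 ≤ Fintype.card ι) (hodd : Odd (Fintype.card ι)) :
    Subgroup.center ↥(Cfsg.Omega F ⇑Q) = ⊥ := by
  rw [Subgroup.eq_bot_iff_forall]
  intro z hz
  rw [Subgroup.mem_center_iff] at hz
  have h1 := centralizer_general Q hQ h2 hcard z.1 (by
    intro g hg
    have := hz ⟨g, hg⟩
    exact (congrArg Subtype.val this).symm)
  have hdet := det_eq_one_of_mem_commutator (Cfsg.isometryGroup F ⇑Q) z.1 z.2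
  rcases h1 with h1 | h1
  · apply Subtype.ext
    apply Subtype.ext
    apply Units.ext
    exact h1
  · exfalso
    rw [h1, Matrix.det_neg, Matrix.det_one, hodd.neg_one_pow] at hdet
    apply h2
    linear_combination -hdet

end Cfsg.Agent.Lib.H11.OmegaGen
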