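import Mathlib

/-!
S0434/S0435 helper (NOMIX): if `|C_G(x)| = p` is prime and `p^2 ∤ |G|`, then `p ∣ |C_G(t)|` forces `t^p = 1`.
For `|G| = 7920` with `|C(x)| = 11`, `|C(y)| = 5`: an element `t` of order 3 has `|C(t)| = 9 m`, `m ∣ 16`
(piece (NOMIX3) of S0434, exact signature of `tools/blueprints/S0434_sigs.lean`; architect helper14).  Pure Mathlib.
-/
set_option autoImplicit false

namespace Cfsg.Agent.Lib.H11.M7920
universe u

/-- a subgroup of order `p` is a Sylow `p`-subgroup when `p^2 ∤ |G|`: any Sylow `p`-subgroup above it is equal to it. -/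
theorem sylow_eq_of_card_eq_prime {G : Type u} [Group G] [Finite G] {p : ℕ} [Fact p.Prime]
    (hp2 : ¬ p ^ 2 ∣ Nat.card G) (H : Subgroup G) (hH : Nat.card H = p) (P : Sylow p G)
    (hle : H ≤ (P : Subgroup G)) : (P : Subgroup G) = H := by
  have hp : p.Prime := Fact.out
  obtain ⟨n, hn⟩ := (IsPGroup.iff_card.mp P.isPGroup')
  have hdvd : Nat.card (P : Subgroup G) ∣ Nat.card G := Subgroup.card_subgroup_dvd_card _
  have hHP : Nat.card H ∣ Nat.card (P : Subgroup G) := Subgroup.card_dvd_of_le hle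
  have hn1 : n ≤ 1 := by
    by_contra hcon
    have hcon : 2 ≤ n := by omega
    apply hp2
    refine dvd_trans ?_ hdvd
    rw [hn]
    exact pow_dvd_pow p hcon
  have hn0 : n ≠ 0 := by
    rintro rfl
    rw [hn, hH, pow_zero] at hHP
    exact hp.one_lt.ne' (Nat.dvd_one.mp hHP)
  have hn' : n = 1 := by omega
  symm
  apply Subgroup.eq_of_le_of_card_ge hle
  rw [hn, hn', pow_one, hH]

/-- (NOMIX, general) if `|C_G(x)| = p` (prime, `x ≠ 1`) and `p^2 ∤ |G|`, then `p ∣ |C_G(t)|` implies `orderOf t ∣ p`. -/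
theorem orderOf_dvd_of_dvd_card_centralizer {G : Type u} [Group G] [Finite G] {p : ℕ} [Fact p.Prime]
    (hp2 : ¬ p ^ 2 ∣ Nat.card G) (x : G) (hx1 : x ≠ 1)
    (hCx : Nat.card (Subgroup.centralizer ({x} : Set G)) = p) (t : G)
    (ht : p ∣ Nat.card (Subgroup.centralizer ({t} : Set G))) : orderOf t ∣ p := by
  classical
  have hp : p.Prime := Fact.out
  -- `x` has order `p`
  have hxC : x ∈ Subgroup.centralizer ({x} : Set G) :=
    Subgroup.mem_centralizer_singleton_iff.mpr rfl
  have hxo : orderOf x = p := by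
    have h1 : orderOf (⟨x, hxC⟩ : Subgroup.centralizer ({x} : Set G)) ∣ p := hCx ▸ orderOf_dvd_natCard _
    have h2 : orderOf (⟨x, hxC⟩ : Subgroup.centralizer ({x} : Set G)) = orderOf x := by
      rw [← Subgroup.orderOf_coe]
    rw [h2] at h1
    rcases (Nat.dvd_prime hp).mp h1 with h | h
    · exact absurd (orderOf_eq_one_iff.mp h) hx1
    · exact h
  -- an element `x'` of order `p` in `C(t)`
  obtain ⟨x0, hx0⟩ := exists_prime_orderOf_dvd_card' (G := Subgroup.centralizer ({t} : Set G)) p ht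
  have hx0o : orderOf (x0 : G) = p := by rw [Subgroup.orderOf_coe, hx0]
  have hx0t : t * (x0 : G) = (x0 : G) * t := (Subgroup.mem_centralizer_singleton_iff.mp x0.2).symm
  -- Sylow subgroups `P = ⟨x⟩`, `Q = ⟨x'⟩`
  have hpg : ∀ g : G, orderOf g = p → IsPGroup p (Subgroup.zpowers g) := by
    intro g hg
    apply IsPGroup.of_card (n := 1)
    rw [Nat.card_zpowers, hg, pow_one]
  obtain ⟨P, hP⟩ := (hpg x hxo).exists_le_sylow
  obtain ⟨Q, hQ⟩ := (hpg (x0 : G) hx0o).exists_le_sylow
  have hPe : (P : Subgroup G) = Subgroup.zpowers x :=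
    sylow_eq_of_card_eq_prime hp2 _ (by rw [Nat.card_zpowers, hxo]) P hP
  have hQe : (Q : Subgroup G) = Subgroup.zpowers (x0 : G) :=
    sylow_eq_of_card_eq_prime hp2 _ (by rw [Nat.card_zpowers, hx0o]) Q hQ
  obtain ⟨g, hg⟩ := MulAction.exists_smul_eq G Q P
  have hxP : x ∈ (g • Q : Sylow p G) := by
    rw [hg]; exact hP (Subgroup.mem_zpowers x)
  have hxP' : x ∈ ((g • Q : Sylow p G) : Subgroup G) := hxP
  rw [Sylow.coe_subgroup_smul, Subgroup.mem_pointwise_smul_iff_inv_smul_mem, hQe] at hxP'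
  replace hxP := hxP'
  obtain ⟨j, hj⟩ := Subgroup.mem_zpowers_iff.mp hxP
  -- `x = g x'^j g⁻¹`
  have hxj : x = g * (x0 : G) ^ j * g⁻¹ := by
    have h1 : (MulAut.conj g)⁻¹ • x = g⁻¹ * x * g := by
      rw [← map_inv, MulAut.smul_def, MulAut.conj_apply, inv_inv]
    rw [h1] at hj
    rw [hj]; group
  -- `g t g⁻¹` commutes with `x`
  have hcomm : Commute t ((x0 : G) ^ j) := (show Commute t (x0 : G) from hx0t).zpow_right j
  have hmem : g * t * g⁻¹ ∈ Subgroup.centralizer ({x} : Set G) := by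
    rw [Subgroup.mem_centralizer_singleton_iff, hxj]
    calc g * t * g⁻¹ * (g * (x0 : G) ^ j * g⁻¹) = g * (t * (x0 : G) ^ j) * g⁻¹ := by group
      _ = g * ((x0 : G) ^ j * t) * g⁻¹ := by rw [hcomm.eq]
      _ = g * (x0 : G) ^ j * g⁻¹ * (g * t * g⁻¹) := by group
  have h1 : orderOf (⟨g * t * g⁻¹, hmem⟩ : Subgroup.centralizer ({x} : Set G)) ∣ p :=
    hCx ▸ orderOf_dvd_natCard _
  have h2 : orderOf (⟨g * t * g⁻¹, hmem⟩ : Subgroup.centralizer ({x} : Set G)) = orderOf (g * t * g⁻¹) := by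
    rw [← Subgroup.orderOf_coe]
  have h3 : orderOf (g * t * g⁻¹) = orderOf t := by
    have hs : SemiconjBy g t (g * t * g⁻¹) := by
      unfold SemiconjBy; group
    exact (hs.orderOf_eq g).symm
  rw [h2, h3] at h1
  exact h1

/-- (NOMIX3) in a group of order 7920 with `|C(x)| = 11`, `|C(y)| = 5`, an element of order 3 has `|C(t)| = 9 m`, `m ∣ 16`. -/
theorem card_centralizer_order3_form {G : Type u} [Group G] [Finite G] (hG : Nat.card G = 7920) (x y : G)
    (hCx : Nat.card (Subgroup.centralizer ({x} : Set G)) = 11)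
    (hCy : Nat.card (Subgroup.centralizer ({y} : Set G)) = 5)
    (t : G) (ht : orderOf t = 3) :
    ∃ m : ℕ, m ∣ 16 ∧ Nat.card (Subgroup.centralizer ({t} : Set G)) = 9 * m := by
  classical
  have : Fact (Nat.Prime 11) := ⟨by norm_num⟩
  have : Fact (Nat.Prime 5) := ⟨by norm_num⟩
  have : Fact (Nat.Prime 3) := ⟨by norm_num⟩
  have hne : ∀ (z : G) (q : ℕ), q ≠ 7920 → Nat.card (Subgroup.centralizer ({z} : Set G)) = q → z ≠ 1 := by
    rintro z q hq hz rfl
    have : Subgroup.centralizer ({1} : Set G) = ⊤ := by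
      ext w; simp [Subgroup.mem_centralizer_singleton_iff]
    rw [this, Subgroup.card_top, hG] at hz
    exact hq hz.symm
  have h11 : ¬ 11 ∣ Nat.card (Subgroup.centralizer ({t} : Set G)) := by
    intro h
    have := orderOf_dvd_of_dvd_card_centralizer (p := 11) (by rw [hG]; norm_num) x
      (hne x 11 (by norm_num) hCx) hCx t h
    rw [ht] at this; omega
  have h5 : ¬ 5 ∣ Nat.card (Subgroup.centralizer ({t} : Set G)) := by
    intro h
    have := orderOf_dvd_of_dvd_card_centralizer (p := 5) (by rw [hG]; norm_num) y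
      (hne y 5 (by norm_num) hCy) hCy t h
    rw [ht] at this; omega
  -- a Sylow 3-subgroup through `t`
  have hpg : IsPGroup 3 (Subgroup.zpowers t) := by
    apply IsPGroup.of_card (n := 1)
    rw [Nat.card_zpowers, ht, pow_one]
  obtain ⟨P, hP⟩ := hpg.exists_le_sylow
  have hPc : Nat.card (P : Subgroup G) = 9 := by
    obtain ⟨n, hn⟩ := (IsPGroup.iff_card.mp P.isPGroup')
    have hdvd : Nat.card (P : Subgroup G) ∣ Nat.card G := Subgroup.card_subgroup_dvd_card _
    have hidx : ¬ 3 ∣ (P : Subgroup G).index := P.not_dvd_index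
    have hmul := Subgroup.card_mul_index (P : Subgroup G)
    rw [hG, hn] at hmul
    rw [hn]
    have hn3 : n < 3 := by
      by_contra hcon
      have hcon : 3 ≤ n := by omega
      have : 3 ^ 3 ∣ 7920 := by
        rw [← hmul]
        exact dvd_mul_of_dvd_left (pow_dvd_pow 3 hcon) _
      omega
    interval_cases n
    · exfalso; apply hidx; rw [pow_zero, one_mul] at hmul; rw [hmul]; norm_num
    · exfalso; apply hidx
      have : (P : Subgroup G).index = 2640 := by omega
      rw [this]; norm_num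
    · norm_num
  have hPcomm : ∀ a ∈ (P : Subgroup G), ∀ b ∈ (P : Subgroup G), a * b = b * a := by
    intro a ha b hb
    have hc : IsMulCommutative (P : Subgroup G) :=
      IsPGroup.isMulCommutative_of_card_eq_prime_sq (p := 3) (by rw [hPc]; norm_num)
    have := hc.is_comm.comm (⟨a, ha⟩ : (P : Subgroup G)) ⟨b, hb⟩
    exact congrArg Subtype.val this
  have hPle : (P : Subgroup G) ≤ Subgroup.centralizer ({t} : Set G) := by
    intro a ha
    rw [Subgroup.mem_centralizer_singleton_iff]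
    exact hPcomm a ha t (hP (Subgroup.mem_zpowers t))
  have h9 : 9 ∣ Nat.card (Subgroup.centralizer ({t} : Set G)) := hPc ▸ Subgroup.card_dvd_of_le hPle
  obtain ⟨m, hm⟩ := h9
  refine ⟨m, ?_, hm⟩
  have hdvd : Nat.card (Subgroup.centralizer ({t} : Set G)) ∣ 7920 := hG ▸ Subgroup.card_subgroup_dvd_card _
  rw [hm] at hdvd h11 h5
  have hm880 : m ∣ 16 * 55 := by
    have : 9 * m ∣ 9 * 880 := by norm_num; exact hdvd
    exact Nat.dvd_of_mul_dvd_mul_left (by norm_num) this
  have hcop : Nat.Coprime m 55 := by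
    have h5' : ¬ 5 ∣ m := fun h => h5 (dvd_mul_of_dvd_right h 9)
    have h11' : ¬ 11 ∣ m := fun h => h11 (dvd_mul_of_dvd_right h 9)
    have : (55 : ℕ) = 5 * 11 := by norm_num
    rw [this]
    apply Nat.Coprime.mul_right
    · exact ((Nat.Prime.coprime_iff_not_dvd (by norm_num : Nat.Prime 5)).mpr h5').symm
    · exact ((Nat.Prime.coprime_iff_not_dvd (by norm_num : Nat.Prime 11)).mpr h11').symm
  exact hcop.dvd_of_dvd_mul_right hm880

end Cfsg.Agent.Lib.H11.M7920
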