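import Mathlib

/-!
S4429 piece (F1): fusion in `K` of order 11 with `C_G(K) = K`, `|N_G(K)| = 55`: `x ~ x^3`, `x ≁ x⁻¹`.
(Exact signature of `tools/blueprints/S4429_sigs.lean`; architect helper27.)
-/
set_option autoImplicit false

namespace Cfsg.Agent.Lib.H11.M7920
universe u

/-- iterated conjugation: if `g x g⁻¹ = x^r` then `g^k x g^-k = x^(r^k)`. -/
theorem conj_pow_pow {G : Type u} [Group G] {g x : G} {r : ℕ} (h : g * x * g⁻¹ = x ^ r) (k : ℕ) :
    g ^ k * x * (g ^ k)⁻¹ = x ^ (r ^ k) := by
  induction k with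
  | zero => simp
  | succ k ih =>
    calc g ^ (k + 1) * x * (g ^ (k + 1))⁻¹ = g * (g ^ k * x * (g ^ k)⁻¹) * g⁻¹ := by
          rw [pow_succ']; group
      _ = g * x ^ (r ^ k) * g⁻¹ := by rw [ih]
      _ = (g * x * g⁻¹) ^ (r ^ k) := by simp [conj_pow]
      _ = (x ^ r) ^ (r ^ k) := by rw [h]
      _ = x ^ (r ^ (k + 1)) := by rw [← pow_mul, pow_succ']

/-- (F1) fusion in `K`: `N = N_G(K)` has order 55, `K = C_G(K)`.  An element `g ∈ N` of order 5 (Cauchy) maps
`x` to `x^r` with `r ≠ 0, 1` and `r^5 ≡ 1 (mod 11)`, so `r ∈ {3,4,5,9}` and a power of `g` maps `x` to `x^3`.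
If `h x h⁻¹ = x⁻¹` then `h ∈ N`, `h^55 = 1`, `h^2` centralizes `x`, so `x = h^55 x h^-55 = x⁻¹`. -/
theorem fusion11 {G : Type u} [Group G] [Finite G] (K : Subgroup G) (hK : Nat.card K = 11)
    (hC : Subgroup.centralizer (K : Set G) = K)
    (hN : Nat.card (Subgroup.normalizer (K : Set G)) = 55) {x : G} (hx : x ∈ K) (hx1 : x ≠ 1) :
    IsConj x (x ^ 3) ∧ ¬ IsConj x x⁻¹ := by
  classical
  have : Fact (Nat.Prime 11) := ⟨by norm_num⟩
  have : Fact (Nat.Prime 5) := ⟨by norm_num⟩
  -- `x` generates `K`
  have hzp : Subgroup.zpowers x = K := by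
    have hle : Subgroup.zpowers x ≤ K := (Subgroup.zpowers_le).mpr hx
    have hdvd : Nat.card (Subgroup.zpowers x) ∣ 11 := hK ▸ Subgroup.card_dvd_of_le hle
    have h11 : Nat.Prime 11 := by norm_num
    rcases (Nat.dvd_prime h11).mp hdvd with h1 | h1
    · exfalso
      apply hx1
      have hbot : Subgroup.zpowers x = ⊥ := Subgroup.card_eq_one.mp h1
      exact Subgroup.zpowers_eq_bot.mp hbot
    · exact Subgroup.eq_of_le_of_card_ge hle (by rw [h1, hK])
  have hord : orderOf x = 11 := by
    rw [← Nat.card_zpowers, hzp, hK]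
  have hx11 : x ^ 11 = 1 := by rw [← hord]; exact pow_orderOf_eq_one x
  refine ⟨?_, ?_⟩
  · -- an element of order 5 in `N`
    have h5 : 5 ∣ Nat.card (Subgroup.normalizer (K : Set G)) := by rw [hN]; norm_num
    obtain ⟨g0, hg0⟩ := exists_prime_orderOf_dvd_card' (G := Subgroup.normalizer (K : Set G)) 5 h5
    have hg5 : orderOf (g0 : G) = 5 := by rw [Subgroup.orderOf_coe, hg0]
    have hgg : (g0 : G) ^ 5 = 1 := by
      have := pow_orderOf_eq_one (g0 : G)
      rwa [hg5] at this
    have hgK : (g0 : G) ∉ K := by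
      intro h
      have h1 : orderOf (⟨(g0 : G), h⟩ : K) ∣ Nat.card K := orderOf_dvd_natCard _
      have h3 : orderOf (⟨(g0 : G), h⟩ : K) = orderOf (g0 : G) := by
        rw [← Subgroup.orderOf_coe]
      rw [h3, hg5, hK] at h1
      omega
    -- `g0 x g0⁻¹ ∈ K = zpowers x`
    have hmem : (g0 : G) * x * (g0 : G)⁻¹ ∈ K :=
      (Subgroup.mem_normalizer_iff.mp g0.2 x).mp hx
    have hmem' : (g0 : G) * x * (g0 : G)⁻¹ ∈ Subgroup.zpowers x := by rw [hzp]; exact hmem
    have hfin : IsOfFinOrder x := isOfFinOrder_of_finite x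
    rw [← mem_powers_iff_mem_zpowers, hfin.mem_powers_iff_mem_range_orderOf, hord] at hmem'
    obtain ⟨r, hr, hrx⟩ := Finset.mem_image.mp hmem'
    have hr11 : r < 11 := Finset.mem_range.mp hr
    have hrx' : (g0 : G) * x * (g0 : G)⁻¹ = x ^ r := hrx.symm
    -- `r^5 ≡ 1 mod 11`
    have hpow := conj_pow_pow hrx'
    have h5' : x ^ (r ^ 5) = x ^ 1 := by
      rw [← hpow 5, hgg]; simp
    have hmod : r ^ 5 ≡ 1 [MOD 11] := by
      have := (pow_eq_pow_iff_modEq (x := x)).mp h5'
      rwa [hord] at this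
    have key : ∀ k m : ℕ, r ^ k ≡ m [MOD 11] → IsConj x (x ^ m) := by
      intro k m hkm
      refine isConj_iff.mpr ⟨(g0 : G) ^ k, ?_⟩
      rw [hpow k]
      apply (pow_eq_pow_iff_modEq (x := x)).mpr
      rwa [hord]
    have hr0 : r ≠ 0 := by
      rintro rfl
      apply hx1
      have h1 : (g0 : G) * x * (g0 : G)⁻¹ = 1 := by simpa using hrx'
      have h2 : (g0 : G) * x = (g0 : G) := by
        have := congrArg (· * (g0 : G)) h1
        simpa using this
      exact mul_left_cancel (a := (g0 : G)) (by rw [h2, mul_one])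
    have hr1 : r ≠ 1 := by
      rintro rfl
      apply hgK
      have hgC : (g0 : G) ∈ Subgroup.centralizer (K : Set G) := by
        rw [Subgroup.mem_centralizer_iff]
        intro y hy
        have hy' : y ∈ Subgroup.zpowers x := by rw [hzp]; exact hy
        obtain ⟨i, rfl⟩ := Subgroup.mem_zpowers_iff.mp hy'
        have hcomm : Commute (g0 : G) x := by
          have h1 : (g0 : G) * x * (g0 : G)⁻¹ = x := by simpa using hrx'
          have h2 := congrArg (· * (g0 : G)) h1
          simp only [inv_mul_cancel_right] at h2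
          exact h2
        exact ((hcomm.zpow_right i).eq).symm
      rw [hC] at hgC
      exact hgC
    have hr1' : r ≠ 1 := by
      intro hy
      exact hr1 hy
    interval_cases r
    · exact absurd rfl hr0
    · exact absurd rfl hr1
    · exact absurd hmod (by decide)
    · exact key 1 3 (by decide)
    · exact key 4 3 (by decide)
    · exact key 2 3 (by decide)
    · exact absurd hmod (by decide)
    · exact absurd hmod (by decide)
    · exact absurd hmod (by decide)
    · exact key 3 3 (by decide)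
    · exact absurd hmod (by decide)
  · intro hconj
    obtain ⟨h, hh⟩ := isConj_iff.mp hconj
    -- conjugation by `h` maps `K` into `K`
    have hmap : ∀ y ∈ K, h * y * h⁻¹ ∈ K := by
      intro y hy
      have hy' : y ∈ Subgroup.zpowers x := by rw [hzp]; exact hy
      obtain ⟨i, rfl⟩ := Subgroup.mem_zpowers_iff.mp hy'
      have : h * x ^ i * h⁻¹ = (h * x * h⁻¹) ^ i := by
        simp [conj_zpow]
      rw [this, hh]
      exact K.zpow_mem (K.inv_mem hx) i
    -- hence `h` normalizes `K`
    have hhN : h ∈ Subgroup.normalizer (K : Set G) := by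
      rw [Subgroup.mem_normalizer_iff]
      intro y
      refine ⟨hmap y, fun hy => ?_⟩
      let c : K → K := fun k => ⟨h * k * h⁻¹, hmap k k.2⟩
      have hcinj : Function.Injective c := by
        intro a b hab
        have := congrArg Subtype.val hab
        simp only [c] at this
        exact Subtype.ext (mul_left_cancel (mul_right_cancel this))
      obtain ⟨k', hk'⟩ := (Finite.injective_iff_surjective.mp hcinj) ⟨h * y * h⁻¹, hy⟩
      have := congrArg Subtype.val hk'
      simp only [c] at this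
      have hyk : (k' : G) = y := mul_left_cancel (mul_right_cancel this)
      rw [← hyk]; exact k'.2
    -- `h^55 = 1`
    have h55 : h ^ 55 = 1 := by
      have := pow_card_eq_one' (G := Subgroup.normalizer (K : Set G)) (x := ⟨h, hhN⟩)
      rw [hN] at this
      have := congrArg (Subtype.val) this
      simpa using this
    -- `h * h` commutes with `x`
    have hc2 : Commute (h * h) x := by
      have h4 : (h * h) * x * (h * h)⁻¹ = x := by
        calc (h * h) * x * (h * h)⁻¹ = h * (h * x * h⁻¹) * h⁻¹ := by group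
          _ = h * x⁻¹ * h⁻¹ := by rw [hh]
          _ = (h * x * h⁻¹)⁻¹ := by group
          _ = x := by rw [hh, inv_inv]
      have h5 := congrArg (· * (h * h)) h4
      simp only [inv_mul_cancel_right] at h5
      exact h5
    have hc54 : Commute ((h * h) ^ 27) x := hc2.pow_left 27
    have h54 : (h * h) ^ 27 = h ^ 54 := by rw [← pow_two, ← pow_mul]
    have hxx : x = x⁻¹ := by
      have e1 : h ^ 55 * x * (h ^ 55)⁻¹ = x := by rw [h55]; simp
      have e2 : h ^ 55 * x * (h ^ 55)⁻¹ = x⁻¹ := by
        calc h ^ 55 * x * (h ^ 55)⁻¹ = h ^ 54 * (h * x * h⁻¹) * (h ^ 54)⁻¹ := by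
              rw [pow_succ h 54]; group
          _ = h ^ 54 * x⁻¹ * (h ^ 54)⁻¹ := by rw [hh]
          _ = x⁻¹ := by
              rw [← h54]
              have := (hc54.inv_right).eq
              rw [this]; group
      exact e1.symm.trans e2
    -- `x = x⁻¹` gives `x^2 = 1`, with `x^11 = 1`: `x = 1`
    apply hx1
    have hx2 : x ^ 2 = 1 := by
      rw [pow_two]
      nth_rewrite 2 [hxx]
      exact mul_inv_cancel x
    have hdvd : orderOf x ∣ 2 := orderOf_dvd_of_pow_eq_one hx2
    rw [hord] at hdvd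
    omega

end Cfsg.Agent.Lib.H11.M7920
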