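import Mathlib

/-!
S0977 piece (O0): `K` of order 5, self-centralizing, `|N_G(K)| = 20`: all nonidentity elements of
`K` are conjugate.  (Exact signature of `tools/blueprints/S0977_sigs.lean`; architect helper24.)
-/
set_option autoImplicit false

namespace Cfsg.Agent.Lib.H11.O4320
universe u

/-- (O0) `K` of order 5, self-centralizing, `|N_G(K)| = 20`: all nonidentity elements of `K` are
conjugate (the conjugation map `n ↦ n x n⁻¹` on `N_G(K)` has fibres of size at most `|K| = 5` and its
image lies in `K \ {1}`; were `k` missed, `20 ≤ 5 * 3`). -/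
theorem isConj_of_mem {G : Type u} [Group G] [Finite G] (K : Subgroup G) (hK : Nat.card K = 5)
    (hC : Subgroup.centralizer (K : Set G) = K)
    (hN : Nat.card (Subgroup.normalizer (K : Set G)) = 20) {x k : G} (hx : x ∈ K) (hx1 : x ≠ 1)
    (hk : k ∈ K) (hk1 : k ≠ 1) : IsConj x k := by
  classical
  by_contra hnot
  have : Fintype G := Fintype.ofFinite G
  -- `x` generates `K`
  have hzp : Subgroup.zpowers x = K := by
    have hle : Subgroup.zpowers x ≤ K := (Subgroup.zpowers_le).mpr hx
    have hdvd : Nat.card (Subgroup.zpowers x) ∣ 5 := hK ▸ Subgroup.card_dvd_of_le hle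
    have h5 : Nat.Prime 5 := by norm_num
    rcases (Nat.dvd_prime h5).mp hdvd with h1 | h1
    · exfalso
      apply hx1
      have hbot : Subgroup.zpowers x = ⊥ := Subgroup.card_eq_one.mp h1
      exact Subgroup.zpowers_eq_bot.mp hbot
    · exact Subgroup.eq_of_le_of_card_ge hle (by rw [h1, hK])
  -- elements commuting with `x` lie in `K`
  have hCx : ∀ g : G, g * x = x * g → g ∈ K := by
    intro g hg
    rw [← hC, Subgroup.mem_centralizer_iff]
    intro y hy
    have hy' : y ∈ Subgroup.zpowers x := by rw [hzp]; exact hy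
    obtain ⟨i, rfl⟩ := Subgroup.mem_zpowers_iff.mp hy'
    have hc : Commute g x := hg
    exact ((hc.zpow_right i).eq).symm
  set T : Finset G := Finset.univ.filter (· ∈ Subgroup.normalizer (K : Set G)) with hT
  set KF : Finset G := Finset.univ.filter (· ∈ K) with hKF
  have hTcard : T.card = 20 := by
    rw [← hN, Nat.card_eq_fintype_card, Fintype.card_subtype]
  have hKFcard : KF.card = 5 := by
    rw [← hK, Nat.card_eq_fintype_card, Fintype.card_subtype]
  let f : G → G := fun n => n * x * n⁻¹
  -- the image avoids `1` and `k`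
  have himg : T.image f ⊆ (KF.erase 1).erase k := by
    intro a ha
    obtain ⟨n, hn, rfl⟩ := Finset.mem_image.mp ha
    have hnN : n ∈ Subgroup.normalizer (K : Set G) := (Finset.mem_filter.mp hn).2
    refine Finset.mem_erase.mpr ⟨?_, Finset.mem_erase.mpr ⟨?_, ?_⟩⟩
    · intro h
      exact hnot (isConj_iff.mpr ⟨n, h⟩)
    · intro h
      apply hx1
      have : n * x * n⁻¹ = 1 := h
      have h2 : n * x = n := by
        have := congrArg (· * n) this
        simpa using this
      exact mul_eq_left.mp h2
    · exact Finset.mem_filter.mpr ⟨Finset.mem_univ _, (Subgroup.mem_normalizer_iff.mp hnN x).mp hx⟩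
  have himgcard : (T.image f).card ≤ 3 := by
    refine (Finset.card_le_card himg).trans ?_
    have h1 : (1 : G) ∈ KF := Finset.mem_filter.mpr ⟨Finset.mem_univ _, K.one_mem⟩
    have h2 : k ∈ KF.erase 1 := Finset.mem_erase.mpr ⟨hk1, Finset.mem_filter.mpr ⟨Finset.mem_univ _, hk⟩⟩
    rw [Finset.card_erase_of_mem h2, Finset.card_erase_of_mem h1, hKFcard]
  -- fibres have at most 5 elements
  have hfib : ∀ a ∈ T.image f, (T.filter fun n => f n = a).card ≤ 5 := by
    intro a ha
    obtain ⟨n0, _, rfl⟩ := Finset.mem_image.mp ha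
    rw [← hKFcard]
    refine Finset.card_le_card_of_injOn (fun n => n0⁻¹ * n) ?_ ?_
    · intro n hn
      have hn' : f n = f n0 := (Finset.mem_filter.mp (Finset.mem_coe.mp hn)).2
      refine Finset.mem_coe.mpr (Finset.mem_filter.mpr ⟨Finset.mem_univ _, hCx _ ?_⟩)
      have h3 : n * x * n⁻¹ = n0 * x * n0⁻¹ := hn'
      have h4 : n0⁻¹ * (n * x * n⁻¹) * n = n0⁻¹ * (n0 * x * n0⁻¹) * n := by rw [h3]
      calc n0⁻¹ * n * x = n0⁻¹ * (n * x * n⁻¹) * n := by group
        _ = n0⁻¹ * (n0 * x * n0⁻¹) * n := h4
        _ = x * (n0⁻¹ * n) := by group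
    · intro a _ b _ hab
      exact mul_left_cancel hab
  have hle := Finset.card_le_mul_card_image T 5 hfib
  rw [hTcard] at hle
  omega

end Cfsg.Agent.Lib.H11.O4320
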