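import Cfsg.Agent.Lib.H11.OmegaPrim
import Cfsg.Agent.Lib.H11.OmegaGen

/-!
Simplicity of `PΩ(Q)` (`n ≥ 7`) by Iwasawa's criterion, given the adjustment property `Adj` and
`Ω = S` (generation by Siegel transformations); instantiated for `q` odd.
-/

set_option autoImplicit false
set_option linter.unusedSimpArgs false

namespace Cfsg.Agent.Lib.H11.OmegaSimple

open Matrix
open scoped MatrixGroups LinearAlgebra.Projectivization Pointwise commutatorElement
open Cfsg.Agent.Lib.H11.CD Cfsg.Agent.Lib.H11.SpinSign Cfsg.Agent.Lib.H11.ReflClass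
open Cfsg.Agent.Lib.H11.SiegelGen Cfsg.Agent.Lib.H11.OmegaTrans Cfsg.Agent.Lib.H11.OmegaPrim

variable {F : Type*} [Field F] {n : ℕ} (Q : QuadraticForm F (Fin n → F))

set_option quotPrecheck false in
local notation "P" => QuadraticMap.polar (⇑Q)

/-- generators of the root subgroup at `u` -/
def rootGens (u : Fin n → F) : Set ↥(Cfsg.isometryGroup F ⇑Q) :=
  {g | ∃ (y : Fin n → F) (c : F), Q y = 0 ∧ P u y = 0 ∧
    ((g : GL (Fin n) F) : Matrix (Fin n) (Fin n) F) = Cfsg.siegelMatrix (⇑Q) u y c}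

/-- the root subgroup at `u` -/
def rootO (u : Fin n → F) : Subgroup ↥(Cfsg.isometryGroup F ⇑Q) :=
  Subgroup.closure (rootGens Q u)

theorem act_of_mem_rootGens (u : Fin n → F) (g : ↥(Cfsg.isometryGroup F ⇑Q))
    (hg : g ∈ rootGens Q u) : ∃ (y : Fin n → F) (c : F), Q y = 0 ∧ P u y = 0 ∧
      ∀ x, act Q g x = x + (c * P u x) • y - (c * P y x) • u := by
  obtain ⟨y, c, hy, huy, hg⟩ := hg
  refine ⟨y, c, hy, huy, fun x => ?_⟩
  rw [act, hg, Cfsg.Agent.Lib.H4.siegelMatrix_mulVec]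

theorem rootGens_comm (u : Fin n → F) (hu : Q u = 0) (g g' : ↥(Cfsg.isometryGroup F ⇑Q))
    (hg : g ∈ rootGens Q u) (hg' : g' ∈ rootGens Q u) : g * g' = g' * g := by
  obtain ⟨y, c, hy, huy, hg⟩ := act_of_mem_rootGens Q u g hg
  obtain ⟨y', c', hy', huy', hg'⟩ := act_of_mem_rootGens Q u g' hg'
  have huu : P u u = 0 := by rw [Cfsg.Agent.Lib.H4.polar_self, hu, mul_zero]
  have hyu : P y u = 0 := by rw [QuadraticMap.polar_comm, huy]
  have hyu' : P y' u = 0 := by rw [QuadraticMap.polar_comm, huy']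
  have hyy : P y y = 0 := by rw [Cfsg.Agent.Lib.H4.polar_self, hy, mul_zero]
  have hyy' : P y' y' = 0 := by rw [Cfsg.Agent.Lib.H4.polar_self, hy', mul_zero]
  apply ext_act
  intro x
  rw [act_mul, act_mul, hg', hg, hg, hg']
  simp only [QuadraticMap.polar_add_right, QuadraticMap.polar_sub_right,
    QuadraticMap.polar_smul_right, huu, huy, huy', hyu, hyu', hyy, hyy', smul_eq_mul, mul_zero,
    add_zero, sub_zero, QuadraticMap.polar_comm (⇑Q) y' y]
  module

theorem rootO_comm (u : Fin n → F) (hu : Q u = 0) : IsMulCommutative ↥(rootO Q u) := by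
  refine ⟨⟨?_⟩⟩
  rintro ⟨a, ha⟩ ⟨b, hb⟩
  apply Subtype.ext
  show a * b = b * a
  have hcent : rootO Q u ≤ Subgroup.centralizer (rootO Q u : Set ↥(Cfsg.isometryGroup F ⇑Q)) := by
    unfold rootO
    rw [Subgroup.closure_le]
    intro g hg
    rw [SetLike.mem_coe, Subgroup.mem_centralizer_iff]
    intro h hh
    rw [SetLike.mem_coe] at hh
    induction hh using Subgroup.closure_induction with
    | mem x hx => exact rootGens_comm Q u hu x g hx hg
    | one => simp
    | mul x y _ _ hx hy => rw [mul_assoc, hy, ← mul_assoc, hx, mul_assoc]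
    | inv x _ hx =>
      calc x⁻¹ * g = x⁻¹ * (g * x) * x⁻¹ := by group
        _ = x⁻¹ * (x * g) * x⁻¹ := by rw [hx]
        _ = g * x⁻¹ := by group
  have := hcent ha
  rw [Subgroup.mem_centralizer_iff] at this
  exact (this b hb).symm

theorem rootO_le_omega [Fintype F] (hQ : (QuadraticMap.polarBilin Q).Nondegenerate)
    (h2 : (2 : F) ≠ 0) (hn : 5 ≤ n) (u : Fin n → F) (hu : Q u = 0) :
    rootO Q u ≤ Cfsg.Omega F ⇑Q := by
  unfold rootO
  rw [Subgroup.closure_le]
  rintro g ⟨y, c, hy, huy, hg⟩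
  exact (Cfsg.Agent.S0794.result h2 hn Q hQ u y hu hy huy c g hg).2

theorem siegel_smul (u y : Fin n → F) (a c : F) :
    Cfsg.siegelMatrix (⇑Q) (a • u) y c = Cfsg.siegelMatrix (⇑Q) u y (a * c) := by
  rw [Matrix.ext_iff_mulVec]
  intro x
  rw [Cfsg.Agent.Lib.H4.siegelMatrix_mulVec, Cfsg.Agent.Lib.H4.siegelMatrix_mulVec,
    QuadraticMap.polar_smul_left, smul_eq_mul]
  module

theorem rootGens_smul_subset (u : Fin n → F) (a : F) (ha : a ≠ 0) :
    rootGens Q (a • u) ⊆ rootGens Q u := by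
  rintro g ⟨y, c, hy, huy, hg⟩
  refine ⟨y, a * c, hy, ?_, ?_⟩
  · rw [QuadraticMap.polar_smul_left, smul_eq_mul] at huy
    exact (mul_eq_zero.1 huy).resolve_left ha
  · rw [hg, siegel_smul]

theorem rootO_smul (u : Fin n → F) (a : F) (ha : a ≠ 0) : rootO Q (a • u) = rootO Q u := by
  apply le_antisymm
  · exact Subgroup.closure_mono (rootGens_smul_subset Q u a ha)
  · have := rootGens_smul_subset Q (a • u) a⁻¹ (inv_ne_zero ha)
    rw [smul_smul, inv_mul_cancel₀ ha, one_smul] at this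
    exact Subgroup.closure_mono this

theorem conj_mem_rootGens (g s : ↥(Cfsg.isometryGroup F ⇑Q)) (u : Fin n → F)
    (hs : s ∈ rootGens Q u) : g * s * g⁻¹ ∈ rootGens Q (act Q g u) := by
  obtain ⟨v, c, hv, huv, hs⟩ := hs
  refine ⟨act Q g v, c, by rw [Q_act, hv], by rw [polar_act, huv], ?_⟩
  have h1 := Cfsg.Agent.S0794.siegel_conj Q u v ((g : GL (Fin n) F) : Matrix (Fin n) (Fin n) F)
    (fun x => Q_act Q g x) c
  have h3 : (((g * s * g⁻¹ : ↥(Cfsg.isometryGroup F ⇑Q)) : GL (Fin n) F) :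
      Matrix (Fin n) (Fin n) F) =
      ((g : GL (Fin n) F) : Matrix (Fin n) (Fin n) F) * Cfsg.siegelMatrix (⇑Q) u v c *
        (((g⁻¹ : ↥(Cfsg.isometryGroup F ⇑Q)) : GL (Fin n) F) : Matrix (Fin n) (Fin n) F) := by
    rw [← hs]
    rfl
  rw [h3, h1, Matrix.mul_assoc]
  have h4 : ((g : GL (Fin n) F) : Matrix (Fin n) (Fin n) F) *
      (((g⁻¹ : ↥(Cfsg.isometryGroup F ⇑Q)) : GL (Fin n) F) : Matrix (Fin n) (Fin n) F) = 1 := by
    have : g * g⁻¹ = 1 := mul_inv_cancel g
    have := congrArg (fun x : ↥(Cfsg.isometryGroup F ⇑Q) =>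
      ((x : GL (Fin n) F) : Matrix (Fin n) (Fin n) F)) this
    exact this
  rw [h4, Matrix.mul_one]
  rfl

theorem conj_mem_rootO (g s : ↥(Cfsg.isometryGroup F ⇑Q)) (u : Fin n → F)
    (hs : s ∈ rootO Q u) : g * s * g⁻¹ ∈ rootO Q (act Q g u) := by
  unfold rootO at hs ⊢
  induction hs using Subgroup.closure_induction with
  | mem s hs => exact Subgroup.subset_closure (conj_mem_rootGens Q g s u hs)
  | one => simp
  | mul x y _ _ hx hy =>
    have : g * (x * y) * g⁻¹ = (g * x * g⁻¹) * (g * y * g⁻¹) := by group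
    rw [this]
    exact mul_mem hx hy
  | inv x _ hx =>
    have : g * x⁻¹ * g⁻¹ = (g * x * g⁻¹)⁻¹ := by group
    rw [this]
    exact inv_mem hx

/-- the root subgroup of a projective point -/
noncomputable def rootP (p : ℙ F (Fin n → F)) : Subgroup ↥(Cfsg.isometryGroup F ⇑Q) := rootO Q p.rep

theorem rootP_mk (v : Fin n → F) (hv : v ≠ 0) :
    rootP Q (Projectivization.mk F v hv) = rootO Q v := by
  obtain ⟨a, ha⟩ := Projectivization.exists_smul_eq_mk_rep F v hv
  rw [rootP, ← ha, Units.smul_def, rootO_smul Q v _ a.ne_zero]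

theorem conj_mem_rootP (g s : ↥(Cfsg.isometryGroup F ⇑Q)) (p : ℙ F (Fin n → F))
    (hs : s ∈ rootP Q p) : g * s * g⁻¹ ∈ rootP Q (g • p) := by
  induction p using Projectivization.ind with
  | h v hv =>
    rw [rootP_mk] at hs
    rw [smul_mk, rootP_mk]
    exact conj_mem_rootO Q g s v hs

/-- the root subgroups inside `Ω` -/
noncomputable def rootT (p : ↥(singPts Q)) : Subgroup ↥(Cfsg.Omega F ⇑Q) :=
  (rootP Q p.1).subgroupOf (Cfsg.Omega F ⇑Q)

theorem rootT_comm (p : ↥(singPts Q)) : IsMulCommutative ↥(rootT Q p) := by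
  have hu : Q p.1.rep = 0 := p.2
  have := rootO_comm Q p.1.rep hu
  refine ⟨⟨?_⟩⟩
  rintro ⟨a, ha⟩ ⟨b, hb⟩
  apply Subtype.ext
  apply Subtype.ext
  show a.1 * b.1 = b.1 * a.1
  have h := this.is_comm.comm ⟨a.1, ha⟩ ⟨b.1, hb⟩
  exact congrArg Subtype.val h

theorem rootT_conj_le (g : ↥(Cfsg.Omega F ⇑Q)) (p : ↥(singPts Q)) :
    MulAut.conj g • rootT Q p ≤ rootT Q (g • p) := by
  rintro _ ⟨t, ht, rfl⟩
  show g * t * g⁻¹ ∈ rootT Q (g • p)
  rw [rootT, Subgroup.mem_subgroupOf]
  exact conj_mem_rootP Q g.1 t.1 p.1 ht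

theorem rootT_conj (g : ↥(Cfsg.Omega F ⇑Q)) (p : ↥(singPts Q)) :
    rootT Q (g • p) = MulAut.conj g • rootT Q p := by
  apply le_antisymm
  · have h1 := rootT_conj_le Q g⁻¹ (g • p)
    rw [inv_smul_smul] at h1
    intro x hx
    rw [Subgroup.mem_pointwise_smul_iff_inv_smul_mem]
    apply h1
    rw [← map_inv]
    exact Subgroup.smul_mem_pointwise_smul _ _ _ hx
  · exact rootT_conj_le Q g p

theorem siegel_zero_left (v : Fin n → F) (c : F) : Cfsg.siegelMatrix (⇑Q) 0 v c = 1 := by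
  rw [Matrix.ext_iff_mulVec]
  intro x
  rw [Cfsg.Agent.Lib.H4.siegelMatrix_mulVec, Matrix.one_mulVec]
  simp [QuadraticMap.polar_zero_left]

theorem rootT_gen (hS : commutator ↥(Cfsg.isometryGroup F ⇑Q) = S Q) :
    iSup (rootT Q) = ⊤ := by
  rw [eq_top_iff]
  rintro ⟨ω, hω⟩ -
  have hSω : ω ∈ S Q := by rw [← hS]; exact hω
  have key : ∀ g (hg : g ∈ S Q), ∃ h : g ∈ Cfsg.Omega F ⇑Q,
      (⟨g, h⟩ : ↥(Cfsg.Omega F ⇑Q)) ∈ iSup (rootT Q) := by
    intro g hg
    unfold S at hg
    induction hg using Subgroup.closure_induction with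
    | mem s hs =>
      have hsΩ : s ∈ Cfsg.Omega F ⇑Q := by
        have : s ∈ S Q := Subgroup.subset_closure hs
        rw [← hS] at this
        exact this
      refine ⟨hsΩ, ?_⟩
      obtain ⟨u, v, c, hu, hv, huv, hs⟩ := hs
      by_cases hu0 : u = 0
      · have : (⟨s, hsΩ⟩ : ↥(Cfsg.Omega F ⇑Q)) = 1 := by
          apply Subtype.ext
          apply Subtype.ext
          apply Units.ext
          rw [hs, hu0, siegel_zero_left]
          rfl
        rw [this]
        exact one_mem _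
      · apply (le_iSup (rootT Q) (mkS Q u hu0 hu))
        rw [rootT, Subgroup.mem_subgroupOf]
        show s ∈ rootP Q (Projectivization.mk F u hu0)
        rw [rootP_mk]
        exact Subgroup.subset_closure ⟨v, c, hv, huv, hs⟩
    | one => exact ⟨one_mem _, one_mem _⟩
    | mul x y _ _ hx hy =>
      obtain ⟨hx1, hx2⟩ := hx
      obtain ⟨hy1, hy2⟩ := hy
      exact ⟨mul_mem hx1 hy1, mul_mem hx2 hy2⟩
    | inv x _ hx =>
      obtain ⟨hx1, hx2⟩ := hx
      exact ⟨inv_mem hx1, inv_mem hx2⟩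
  obtain ⟨_, h⟩ := key ω hSω
  exact h

/-- the Iwasawa structure of `Ω` acting on singular points -/
noncomputable def iwasawa (hS : commutator ↥(Cfsg.isometryGroup F ⇑Q) = S Q) :
    MulAction.IwasawaStructure ↥(Cfsg.Omega F ⇑Q) ↥(singPts Q) where
  T := rootT Q
  is_comm := rootT_comm Q
  is_conj := rootT_conj Q
  is_generator := rootT_gen Q hS

/-- `Ω` is perfect -/
theorem perfect [Fintype F] (hQ : (QuadraticMap.polarBilin Q).Nondegenerate)
    (hadj : Adj Q) (hn : 7 ≤ n) (hS : commutator ↥(Cfsg.isometryGroup F ⇑Q) = S Q) :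
    commutator ↥(Cfsg.Omega F ⇑Q) = ⊤ := by
  rw [eq_top_iff]
  rintro ⟨ω, hω⟩ -
  have hSω : ω ∈ S Q := by rw [← hS]; exact hω
  have key : ∀ g (hg : g ∈ S Q), ∃ h : g ∈ Cfsg.Omega F ⇑Q,
      (⟨g, h⟩ : ↥(Cfsg.Omega F ⇑Q)) ∈ commutator ↥(Cfsg.Omega F ⇑Q) := by
    intro g hg
    unfold S at hg
    induction hg using Subgroup.closure_induction with
    | mem s hs =>
      have hsΩ : s ∈ Cfsg.Omega F ⇑Q := by
        have : s ∈ S Q := Subgroup.subset_closure hs
        rw [← hS] at this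
        exact this
      refine ⟨hsΩ, ?_⟩
      obtain ⟨u, v', c, hu, hv', huv', hs⟩ := hs
      by_cases hli : LinearIndependent F ![u, v']
      · obtain ⟨v, hv, huv, hv'v, hli1, hli2⟩ := exists_third Q hQ hn u v' hu hv' huv' hli
        have hvv'Q : Q (v + v') = 0 := by
          rw [QuadraticMap.map_add (⇑Q), hv, hv', QuadraticMap.polar_comm, hv'v]; ring
        have huvv' : P u (v + v') = 0 := by
          rw [QuadraticMap.polar_add_right, huv, huv', add_zero]
        obtain ⟨ω₀, hω₀, h0u, h0v⟩ := omega_trans_ts Q hQ hadj hn u v u (v + v') hu hv hu hvv'Q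
          huv huvv' hli1 hli2
        have htΩ : siegEl Q u v hu hv huv c ∈ Cfsg.Omega F ⇑Q := by
          have : siegEl Q u v hu hv huv c ∈ S Q := siegEl_mem Q u v hu hv huv c
          rw [← hS] at this
          exact this
        have hcomm : (⟨s, hsΩ⟩ : ↥(Cfsg.Omega F ⇑Q)) =
            ⁅(⟨ω₀, hω₀⟩ : ↥(Cfsg.Omega F ⇑Q)), ⟨siegEl Q u v hu hv huv c, htΩ⟩⁆ := by
          rw [commutatorElement_def, eq_mul_inv_iff_mul_eq, eq_mul_inv_iff_mul_eq]
          apply Subtype.ext
          apply Subtype.ext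
          apply Units.ext
          show s.1.1 * Cfsg.siegelMatrix ⇑Q u v c * ω₀.1.1 = ω₀.1.1 * Cfsg.siegelMatrix ⇑Q u v c
          have e1 : ω₀.1.1 *ᵥ u = u := h0u
          have e2 : ω₀.1.1 *ᵥ v = v + v' := h0v
          rw [Cfsg.Agent.S0794.siegel_conj Q u v ω₀.1.1 (fun x => Q_act Q ω₀ x), e1, e2, hs,
            siegel_add_right Q u v v' hu huv huv' hv'v]
        rw [hcomm]
        exact Subgroup.commutator_mem_commutator (Subgroup.mem_top _) (Subgroup.mem_top _)
      · have : (⟨s, hsΩ⟩ : ↥(Cfsg.Omega F ⇑Q)) = 1 := by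
          apply Subtype.ext
          apply Subtype.ext
          apply Units.ext
          rw [hs, Cfsg.Agent.S0794.siegel_dep Q u v' hli]
          rfl
        rw [this]
        exact one_mem _
    | one => exact ⟨one_mem _, one_mem _⟩
    | mul x y _ _ hx hy =>
      obtain ⟨hx1, hx2⟩ := hx
      obtain ⟨hy1, hy2⟩ := hy
      exact ⟨mul_mem hx1 hy1, mul_mem hx2 hy2⟩
    | inv x _ hx =>
      obtain ⟨hx1, hx2⟩ := hx
      exact ⟨inv_mem hx1, inv_mem hx2⟩
  obtain ⟨_, h⟩ := key ω hSω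
  exact h

theorem siegel_smul_right (u y : Fin n → F) (a c : F) :
    Cfsg.siegelMatrix (⇑Q) u (a • y) c = Cfsg.siegelMatrix (⇑Q) u y (a * c) := by
  rw [Matrix.ext_iff_mulVec]
  intro x
  rw [Cfsg.Agent.Lib.H4.siegelMatrix_mulVec, Cfsg.Agent.Lib.H4.siegelMatrix_mulVec,
    QuadraticMap.polar_smul_left, smul_eq_mul]
  module

/-- eigenvalues on orthogonal independent singular vectors agree -/
theorem eig_eq_of_orth (g : ↥(Cfsg.isometryGroup F ⇑Q))
    (eig : ∀ u : Fin n → F, u ≠ 0 → Q u = 0 → ∃ l : F, act Q g u = l • u)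
    (u y : Fin n → F) (hu : Q u = 0) (hy : Q y = 0) (huy : P u y = 0)
    (hli : LinearIndependent F ![u, y]) (l m : F) (hl : act Q g u = l • u)
    (hm : act Q g y = m • y) : l = m := by
  have hne : u + y ≠ 0 := by
    intro h
    rw [LinearIndependent.pair_iff] at hli
    have := hli 1 1 (by rw [one_smul, one_smul]; exact h)
    exact one_ne_zero this.1
  have hQ' : Q (u + y) = 0 := by
    rw [QuadraticMap.map_add (⇑Q), hu, hy, huy]; ring
  obtain ⟨k, hk⟩ := eig (u + y) hne hQ'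
  rw [act_add, hl, hm, smul_add] at hk
  rw [LinearIndependent.pair_iff] at hli
  have := hli (l - k) (m - k) (by
    rw [sub_smul, sub_smul]
    have : l • u + m • y - (k • u + k • y) = 0 := by rw [hk, sub_self]
    rw [← this]; abel)
  rw [sub_eq_zero, sub_eq_zero] at this
  rw [this.1, this.2]

theorem eig_sq [Fintype F] (hQ : (QuadraticMap.polarBilin Q).Nondegenerate)
    (hadj : Adj Q) (hn : 7 ≤ n) (g : ↥(Cfsg.isometryGroup F ⇑Q))
    (eig : ∀ u : Fin n → F, u ≠ 0 → Q u = 0 → ∃ l : F, act Q g u = l • u)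
    (u : Fin n → F) (hu0 : u ≠ 0) (hu : Q u = 0) (l : F) (hl : act Q g u = l • u) :
    l * l = 1 := by
  have huu : P u u = 0 := by rw [Cfsg.Agent.Lib.H4.polar_self, hu, mul_zero]
  obtain ⟨w, hw0, hw, huw, -⟩ := exists_sing_nonorth Q hQ u u hu0 hu0 hu huu
  obtain ⟨z, hz0, hz, huz, hwz⟩ := exists_sing_orth Q hQ hadj hn u w hu hw huw
  have hli1 : LinearIndependent F ![u, z] := by
    rw [LinearIndependent.pair_iff]
    intro a b hab
    have h1 := congrArg (fun x => P w x) hab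
    simp only [QuadraticMap.polar_add_right, QuadraticMap.polar_smul_right, hwz, smul_eq_mul,
      mul_zero, add_zero, QuadraticMap.polar_zero_right, QuadraticMap.polar_comm (⇑Q) w u] at h1
    have ha : a = 0 := (mul_eq_zero.1 h1).resolve_right huw
    rw [ha, zero_smul, zero_add] at hab
    exact ⟨ha, (smul_eq_zero.1 hab).resolve_right hz0⟩
  have hli2 : LinearIndependent F ![w, z] := by
    rw [LinearIndependent.pair_iff]
    intro a b hab
    have h1 := congrArg (fun x => P u x) hab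
    simp only [QuadraticMap.polar_add_right, QuadraticMap.polar_smul_right, huz, smul_eq_mul,
      mul_zero, add_zero, QuadraticMap.polar_zero_right] at h1
    have ha : a = 0 := (mul_eq_zero.1 h1).resolve_right huw
    rw [ha, zero_smul, zero_add] at hab
    exact ⟨ha, (smul_eq_zero.1 hab).resolve_right hz0⟩
  obtain ⟨m, hm⟩ := eig w hw0 hw
  obtain ⟨k, hk⟩ := eig z hz0 hz
  have e1 : l = k := eig_eq_of_orth Q g eig u z hu hz huz hli1 l k hl hk
  have e2 : m = k := eig_eq_of_orth Q g eig w z hw hz hwz hli2 m k hm hk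
  have h3 := polar_act Q g u w
  rw [hl, hm, QuadraticMap.polar_smul_left, QuadraticMap.polar_smul_right, smul_eq_mul,
    smul_eq_mul, e2, ← e1] at h3
  have : (l * l - 1) * P u w = 0 := by linear_combination h3
  rcases mul_eq_zero.1 this with h | h
  · linear_combination h
  · exact absurd h huw

/-- an element of `Ω` fixing all singular points is central -/
theorem central_of_fix [Fintype F] (hQ : (QuadraticMap.polarBilin Q).Nondegenerate)
    (hadj : Adj Q) (hn : 7 ≤ n) (hS : commutator ↥(Cfsg.isometryGroup F ⇑Q) = S Q) (g : ↥(Cfsg.Omega F ⇑Q))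
    (hg : ∀ p : ↥(singPts Q), g • p = p) : g ∈ Subgroup.center ↥(Cfsg.Omega F ⇑Q) := by
  have hn5 : 5 ≤ n := by omega
  have eig : ∀ u : Fin n → F, u ≠ 0 → Q u = 0 → ∃ l : F, act Q g.1 u = l • u := by
    intro u hu0 hu
    have := hg (mkS Q u hu0 hu)
    rw [smul_mkS', mkS_eq_iff] at this
    obtain ⟨a, ha⟩ := this
    exact ⟨a, ha.symm⟩
  have hgens : ∀ s ∈ gensS Q, s * g.1 = g.1 * s := by
    rintro s ⟨u, v, c, hu, hv, huv, hs⟩
    by_cases hli : LinearIndependent F ![u, v]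
    · have hu0 : u ≠ 0 := by
        rintro rfl
        rw [LinearIndependent.pair_iff] at hli
        have := hli 1 0 (by simp)
        exact one_ne_zero this.1
      have hv0 : v ≠ 0 := by
        rintro rfl
        rw [LinearIndependent.pair_iff] at hli
        have := hli 0 1 (by simp)
        exact one_ne_zero this.2
      obtain ⟨l, hl⟩ := eig u hu0 hu
      obtain ⟨m, hm⟩ := eig v hv0 hv
      have e1 : l = m := eig_eq_of_orth Q g.1 eig u v hu hv huv hli l m hl hm
      have e2 : l * l = 1 := eig_sq Q hQ hadj hn g.1 eig u hu0 hu l hl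
      apply Subtype.ext
      apply Units.ext
      show s.1.1 * g.1.1.1 = g.1.1.1 * s.1.1
      have e3 : g.1.1.1 *ᵥ u = l • u := hl
      have e4 : g.1.1.1 *ᵥ v = l • v := by rw [e1]; exact hm
      rw [hs, Cfsg.Agent.S0794.siegel_conj Q u v g.1.1.1 (fun x => Q_act Q g.1 x), e3, e4,
        siegel_smul, siegel_smul_right, ← mul_assoc, e2, one_mul]
    · have : s = 1 := by
        apply Subtype.ext
        apply Units.ext
        rw [hs, Cfsg.Agent.S0794.siegel_dep Q u v hli]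
        rfl
      rw [this, one_mul, mul_one]
  have hall : ∀ s ∈ S Q, s * g.1 = g.1 * s := by
    intro s hs
    unfold S at hs
    induction hs using Subgroup.closure_induction with
    | mem x hx => exact hgens x hx
    | one => simp
    | mul x y _ _ hx hy => rw [mul_assoc, hy, ← mul_assoc, hx, mul_assoc]
    | inv x _ hx =>
      calc x⁻¹ * g.1 = x⁻¹ * (g.1 * x) * x⁻¹ := by group
        _ = x⁻¹ * (x * g.1) * x⁻¹ := by rw [hx]
        _ = g.1 * x⁻¹ := by group
  rw [Subgroup.mem_center_iff]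
  intro h
  apply Subtype.ext
  show h.1 * g.1 = g.1 * h.1
  apply hall
  rw [← hS]
  exact h.2

/-- a normal subgroup of `Ω` is central or everything -/
theorem dichotomy [Fintype F] (hQ : (QuadraticMap.polarBilin Q).Nondegenerate)
    (hadj : Adj Q) (hn : 7 ≤ n) (hS : commutator ↥(Cfsg.isometryGroup F ⇑Q) = S Q)
    (N : Subgroup ↥(Cfsg.Omega F ⇑Q)) (hN : N.Normal) :
    N ≤ Subgroup.center ↥(Cfsg.Omega F ⇑Q) ∨ N = ⊤ := by
  have hn5 : 5 ≤ n := by omega
  have hprim := isPreprimitive Q hQ hadj hn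
  by_cases hfix : MulAction.fixedPoints N ↥(singPts Q) = Set.univ
  · left
    intro g hg
    apply central_of_fix Q hQ hadj hn hS
    intro p
    have : p ∈ MulAction.fixedPoints N ↥(singPts Q) := by rw [hfix]; trivial
    exact this ⟨g, hg⟩
  · right
    have := (iwasawa Q hS).commutator_le N hfix
    rw [perfect Q hQ hadj hn hS] at this
    exact top_le_iff.1 this

theorem center_ne_top [Fintype F] (hQ : (QuadraticMap.polarBilin Q).Nondegenerate)
    (hadj : Adj Q) (hn : 7 ≤ n) (hS : commutator ↥(Cfsg.isometryGroup F ⇑Q) = S Q) :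
    Subgroup.center ↥(Cfsg.Omega F ⇑Q) ≠ ⊤ := by
  intro htop
  have hcomm : commutator ↥(Cfsg.Omega F ⇑Q) = ⊥ := by
    rw [commutator_def, Subgroup.commutator_eq_bot_iff_le_centralizer, Subgroup.coe_top,
      Subgroup.centralizer_univ, htop]
  have hbt : (⊥ : Subgroup ↥(Cfsg.Omega F ⇑Q)) = ⊤ := by rw [← hcomm, perfect Q hQ hadj hn hS]
  obtain ⟨e₁, f₁, e₂, f₂, he₁, hf₁, he₂, hf₂, h11, h22, hee, hef, hfe, hff⟩ :=
    exists_two_pairs Q hQ (by omega)
  have he₁0 : e₁ ≠ 0 := by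
    rintro rfl
    rw [QuadraticMap.polar_zero_left] at h11
    exact zero_ne_one h11
  have hf₁0 : f₁ ≠ 0 := by
    rintro rfl
    rw [QuadraticMap.polar_zero_right] at h11
    exact zero_ne_one h11
  have htrans := isPretransitive Q hQ hadj hn
  obtain ⟨g, hg⟩ := MulAction.exists_smul_eq ↥(Cfsg.Omega F ⇑Q) (mkS Q e₁ he₁0 he₁)
    (mkS Q f₁ hf₁0 hf₁)
  have hg1 : g = 1 := by
    have : g ∈ (⊤ : Subgroup ↥(Cfsg.Omega F ⇑Q)) := Subgroup.mem_top g
    rw [← hbt, Subgroup.mem_bot] at this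
    exact this
  rw [hg1, one_smul, mkS_eq_iff] at hg
  obtain ⟨a, ha⟩ := hg
  rw [← ha, QuadraticMap.polar_smul_left, Cfsg.Agent.Lib.H4.polar_self, hf₁, mul_zero,
    smul_zero] at h11
  exact zero_ne_one h11

/-- `PΩ(Q)` is simple for `q` odd and `n ≥ 7` -/
theorem simple [Fintype F] (hQ : (QuadraticMap.polarBilin Q).Nondegenerate)
    (hadj : Adj Q) (hn : 7 ≤ n) (hS : commutator ↥(Cfsg.isometryGroup F ⇑Q) = S Q) :
    IsSimpleGroup (Cfsg.POmega F ⇑Q) := by
  have : Nontrivial (Cfsg.POmega F ⇑Q) := by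
    rw [Cfsg.POmega, QuotientGroup.nontrivial_iff]
    exact center_ne_top Q hQ hadj hn hS
  refine ⟨fun N' hN' => ?_⟩
  rcases dichotomy Q hQ hadj hn hS (N'.comap (QuotientGroup.mk' _)) (Subgroup.Normal.comap hN' _)
    with h1 | h1
  · left
    rw [Subgroup.eq_bot_iff_forall]
    intro x hx
    obtain ⟨g, rfl⟩ := QuotientGroup.mk_surjective x
    have : g ∈ Subgroup.center ↥(Cfsg.Omega F ⇑Q) := h1 hx
    exact (QuotientGroup.eq_one_iff g).2 this
  · right
    rw [eq_top_iff]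
    intro x _
    obtain ⟨g, rfl⟩ := QuotientGroup.mk_surjective x
    have : g ∈ N'.comap (QuotientGroup.mk' _) := by rw [h1]; trivial
    exact this

open Cfsg.Agent.Lib.H11.IsoReindex

/-- an isomorphism induces an isomorphism of commutator subgroups -/
noncomputable def commutatorCongr {G G' : Type*} [Group G] [Group G'] (Θ : G ≃* G') :
    ↥(commutator G) ≃* ↥(commutator G') :=
  (Θ.subgroupMap (commutator G)).trans (MulEquiv.subgroupCongr (by
    rw [commutator_def, Subgroup.map_commutator,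
      Subgroup.map_top_of_surjective _ Θ.surjective, commutator_def]))

/-- an isomorphism induces an isomorphism of central quotients -/
noncomputable def centerQuotCongr {A B : Type*} [Group A] [Group B] (Ψ : A ≃* B) :
    (A ⧸ Subgroup.center A) ≃* (B ⧸ Subgroup.center B) :=
  QuotientGroup.congr (Subgroup.center A) (Subgroup.center B) Ψ (by
    ext y
    rw [Subgroup.mem_map, Subgroup.mem_center_iff]
    constructor
    · rintro ⟨x, hx, rfl⟩ g
      rw [Subgroup.mem_center_iff] at hx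
      have := congrArg Ψ (hx (Ψ.symm g))
      rwa [map_mul, map_mul, MulEquiv.apply_symm_apply] at this
    · intro hy
      refine ⟨Ψ.symm y, ?_, MulEquiv.apply_symm_apply _ _⟩
      rw [Subgroup.mem_center_iff]
      intro g
      have := congrArg Ψ.symm (hy (Ψ g))
      rwa [map_mul, map_mul, MulEquiv.symm_apply_apply] at this)

/-- `PΩ` of a quadratic form on any finite index type, `q` odd, dimension at least 7 -/
theorem simple_general {F : Type*} [Field F] [Fintype F] {ι : Type} [Fintype ι] [DecidableEq ι]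
    (Q : QuadraticForm F (ι → F)) (hQ : (QuadraticMap.polarBilin Q).Nondegenerate)
    (h2 : (2 : F) ≠ 0) (hcard : 7 ≤ Fintype.card ι) : IsSimpleGroup (Cfsg.POmega F ⇑Q) := by
  set e := Fintype.equivFin ι
  let Θ : ↥(Cfsg.isometryGroup F ⇑Q) ≃* ↥(Cfsg.isometryGroup F ⇑(trQF e Q)) := isoEquiv e ⇑Q
  have h1 := simple (trQF e Q) (nondeg_trQF _ Q hQ) (adj_of_odd _ (nondeg_trQF _ Q hQ) h2) hcard
    (commutator_eq_S _ (nondeg_trQF _ Q hQ) h2 (by omega))
  exact (centerQuotCongr (commutatorCongr Θ)).isSimpleGroup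


/-- transport of simplicity along a reindexing of the coordinates -/
theorem simple_transport {F : Type*} [Field F] {ι : Type} [Fintype ι] [DecidableEq ι]
    (Q : QuadraticForm F (ι → F)) {k : ℕ} (e : ι ≃ Fin k)
    (h : IsSimpleGroup (Cfsg.POmega F ⇑(trQF e Q))) : IsSimpleGroup (Cfsg.POmega F ⇑Q) := by
  let Θ : ↥(Cfsg.isometryGroup F ⇑Q) ≃* ↥(Cfsg.isometryGroup F ⇑(trQF e Q)) := isoEquiv e ⇑Q
  exact (centerQuotCongr (commutatorCongr Θ)).isSimpleGroup

/-- characteristic two: `PΩ(Q)` is simple once `O(Q)` is generated by reflections and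
`[O(Q) : Ω(Q)] = 2` (`n ≥ 7`) -/
theorem simple_char_two {F : Type*} [Field F] [Fintype F] [CharP F 2] {n : ℕ}
    (Q : QuadraticForm F (Fin n → F)) (hQ : (QuadraticMap.polarBilin Q).Nondegenerate)
    (hgen : RGen Q) (hidx : (Cfsg.Omega F ⇑Q).index = 2) (hn : 7 ≤ n) :
    IsSimpleGroup (Cfsg.POmega F ⇑Q) :=
  simple Q hQ (adj_of_index_two Q hQ hgen hidx) hn (commutator_eq_S_of_rGen Q hQ hgen hn)

end Cfsg.Agent.Lib.H11.OmegaSimple
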