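import Cfsg.Agent.Lib.H11.OmegaWittAny
import Cfsg.Agent.S0287

/-!
Transitivity of `Ω⁺_{2n}(F) = Cfsg.Omega F (Cfsg.quadFormPlus n F)` (`n ≥ 3`, every finite field) inside the
stabiliser of the hyperbolic pair `(e₀, f₀)`, and on pairs of orthogonal singular vectors: consequences of
Witt's theorem inside `Ω` (`OmegaWittAny.omega_witt_any`) with the explicit models `e₁ + c f₁`, `(e₀, e₁)`,
orthogonal to the hyperbolic pair `(e₂, f₂)`.
-/

set_option autoImplicit false

namespace Cfsg.Agent.Lib.H11.OPlusTrans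

open Matrix
open scoped MatrixGroups

variable {F : Type*} [Field F] {n : ℕ}

/-- `e_i` -/
def eB (F : Type*) [Field F] {n : ℕ} (i : Fin n) : Fin n ⊕ Fin n → F := Pi.single (Sum.inl i) 1

/-- `f_i` -/
def fB (F : Type*) [Field F] {n : ℕ} (i : Fin n) : Fin n ⊕ Fin n → F := Pi.single (Sum.inr i) 1

theorem Q_eB (i : Fin n) : Cfsg.quadFormPlus n F (eB F i) = 0 := by
  unfold Cfsg.quadFormPlus eB
  apply Finset.sum_eq_zero
  intro j _
  simp

theorem Q_fB (i : Fin n) : Cfsg.quadFormPlus n F (fB F i) = 0 := by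
  unfold Cfsg.quadFormPlus fB
  apply Finset.sum_eq_zero
  intro j _
  simp

theorem polar_eB (i : Fin n) (v : Fin n ⊕ Fin n → F) :
    QuadraticMap.polar (Cfsg.quadFormPlus n F) (eB F i) v = v (Sum.inr i) := by
  rw [Cfsg.Agent.Lib.H13.polar_quadFormPlus_formula]
  unfold eB
  rw [Finset.sum_eq_single i]
  · simp
  · intro j _ hj
    simp [hj]
  · intro h
    exact absurd (Finset.mem_univ i) h

theorem polar_fB (i : Fin n) (v : Fin n ⊕ Fin n → F) :
    QuadraticMap.polar (Cfsg.quadFormPlus n F) (fB F i) v = v (Sum.inl i) := by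
  rw [Cfsg.Agent.Lib.H13.polar_quadFormPlus_formula]
  unfold fB
  rw [Finset.sum_eq_single i]
  · simp
  · intro j _ hj
    simp [hj]
  · intro h
    exact absurd (Finset.mem_univ i) h

section general

variable {ι : Type} (Q : QuadraticForm F (ι → F))

set_option quotPrecheck false in
local notation "P" => QuadraticMap.polar (⇑Q)

/-- a hyperbolic pair and a non-zero vector orthogonal to it are linearly independent -/
theorem li_three (e f y : ι → F) (he : Q e = 0) (hf : Q f = 0) (hef : P e f = 1)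
    (hey : P e y = 0) (hfy : P f y = 0) (hy : y ≠ 0) : LinearIndependent F ![e, f, y] := by
  rw [Fintype.linearIndependent_iff]
  intro g hg
  rw [Fin.sum_univ_three] at hg
  simp only [Matrix.cons_val_zero, Matrix.cons_val_one, Matrix.cons_val_two, Matrix.head_cons,
    Matrix.tail_cons] at hg
  have hee : P e e = 0 := by rw [QuadraticMap.polar_self, he, smul_zero]
  have hff : P f f = 0 := by rw [QuadraticMap.polar_self, hf, smul_zero]
  have hfe : P f e = 1 := by rw [QuadraticMap.polar_comm, hef]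
  have h0 : g 1 = 0 := by
    have := congrArg (fun z => P e z) hg
    simp only [QuadraticMap.polar_add_right, QuadraticMap.polar_smul_right, hee, hef, hey,
      smul_eq_mul, mul_zero, mul_one, zero_add, add_zero, QuadraticMap.polar_zero_right] at this
    exact this
  have h1 : g 0 = 0 := by
    have := congrArg (fun z => P f z) hg
    simp only [QuadraticMap.polar_add_right, QuadraticMap.polar_smul_right, hff, hfe, hfy,
      smul_eq_mul, mul_zero, mul_one, add_zero, QuadraticMap.polar_zero_right] at this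
    exact this
  have h2 : g 2 = 0 := by
    rw [h0, h1, zero_smul, zero_smul, zero_add, zero_add] at hg
    rcases smul_eq_zero.1 hg with h | h
    · exact h
    · exact absurd h hy
  intro i
  fin_cases i
  · exact h1
  · exact h0
  · exact h2

/-- two orthogonal singular vectors... independent pairs stay independent: nothing to prove; this is the
Gram bookkeeping for triples -/
theorem gram_three (a b c a' b' c' : ι → F) (hab : P a' b' = P a b) (hac : P a' c' = P a c)
    (hbc : P b' c' = P b c) (ha : Q a' = Q a) (hb : Q b' = Q b) (hc : Q c' = Q c) :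
    ∀ i j, P (![a', b', c'] i) (![a', b', c'] j) = P (![a, b, c] i) (![a, b, c] j) := by
  intro i j
  fin_cases i <;> fin_cases j
  · show P a' a' = P a a
    rw [QuadraticMap.polar_self, QuadraticMap.polar_self, ha]
  · exact hab
  · exact hac
  · show P b' a' = P b a
    rw [QuadraticMap.polar_comm, hab, QuadraticMap.polar_comm]
  · show P b' b' = P b b
    rw [QuadraticMap.polar_self, QuadraticMap.polar_self, hb]
  · exact hbc
  · show P c' a' = P c a
    rw [QuadraticMap.polar_comm, hac, QuadraticMap.polar_comm]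
  · show P c' b' = P c b
    rw [QuadraticMap.polar_comm, hbc, QuadraticMap.polar_comm]
  · show P c' c' = P c c
    rw [QuadraticMap.polar_self, QuadraticMap.polar_self, hc]

theorem Q_three (a b c a' b' c' : ι → F) (ha : Q a' = Q a) (hb : Q b' = Q b) (hc : Q c' = Q c) :
    ∀ i, Q (![a', b', c'] i) = Q (![a, b, c] i) := by
  intro i
  fin_cases i
  · exact ha
  · exact hb
  · exact hc

theorem gram_two (a b a' b' : ι → F) (hab : P a' b' = P a b) (ha : Q a' = Q a) (hb : Q b' = Q b) :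
    ∀ i j, P (![a', b'] i) (![a', b'] j) = P (![a, b] i) (![a, b] j) := by
  intro i j
  fin_cases i <;> fin_cases j
  · show P a' a' = P a a
    rw [QuadraticMap.polar_self, QuadraticMap.polar_self, ha]
  · exact hab
  · show P b' a' = P b a
    rw [QuadraticMap.polar_comm, hab, QuadraticMap.polar_comm]
  · show P b' b' = P b b
    rw [QuadraticMap.polar_self, QuadraticMap.polar_self, hb]

theorem Q_two (a b a' b' : ι → F) (ha : Q a' = Q a) (hb : Q b' = Q b) :
    ∀ i, Q (![a', b'] i) = Q (![a, b] i) := by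
  intro i
  fin_cases i
  · exact ha
  · exact hb

end general

section plus

open Cfsg.Agent.Lib.H13

theorem plusQF_eB (i : Fin n) : plusQF F n (eB F i) = 0 := by
  rw [plusQF_apply, Q_eB]

theorem plusQF_fB (i : Fin n) : plusQF F n (fB F i) = 0 := by
  rw [plusQF_apply, Q_fB]

theorem polarQF_eB (i : Fin n) (v : Fin n ⊕ Fin n → F) :
    QuadraticMap.polar (⇑(plusQF F n)) (eB F i) v = v (Sum.inr i) := by
  rw [Cfsg.Agent.S0287.coe_plusQF, polar_eB]

theorem polarQF_fB (i : Fin n) (v : Fin n ⊕ Fin n → F) :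
    QuadraticMap.polar (⇑(plusQF F n)) (fB F i) v = v (Sum.inl i) := by
  rw [Cfsg.Agent.S0287.coe_plusQF, polar_fB]

theorem eB_apply_inl (i j : Fin n) : eB F i (Sum.inl j) = if j = i then 1 else 0 := by
  unfold eB
  rw [Pi.single_apply]
  simp

theorem eB_apply_inr (i j : Fin n) : eB F i (Sum.inr j) = 0 := by
  unfold eB
  rw [Pi.single_apply]
  simp

theorem fB_apply_inr (i j : Fin n) : fB F i (Sum.inr j) = if j = i then 1 else 0 := by
  unfold fB
  rw [Pi.single_apply]
  simp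

theorem fB_apply_inl (i j : Fin n) : fB F i (Sum.inl j) = 0 := by
  unfold fB
  rw [Pi.single_apply]
  simp

/-- the model vector `e₁ + c f₁` of norm `c` -/
theorem plusQF_model (i : Fin n) (c : F) : plusQF F n (eB F i + c • fB F i) = c := by
  rw [QuadraticMap.map_add (plusQF F n), QuadraticMap.map_smul, plusQF_eB, plusQF_fB,
    QuadraticMap.polar_smul_right, polarQF_eB, fB_apply_inr, if_pos rfl]
  simp

theorem model_ne_zero (i : Fin n) (c : F) : eB F i + c • fB F i ≠ 0 := by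
  intro h
  have := congrFun h (Sum.inl i)
  simp [eB_apply_inl, fB_apply_inl] at this

/-- passing from the bundled form to `Cfsg.quadFormPlus` -/
theorem transfer_plus {motive : (Q₀ : (Fin n ⊕ Fin n → F) → F) → ↥(Cfsg.isometryGroup F Q₀) → Prop}
    (h : ∃ ω : ↥(Cfsg.isometryGroup F ⇑(plusQF F n)),
      ω ∈ commutator ↥(Cfsg.isometryGroup F ⇑(plusQF F n)) ∧ motive _ ω) :
    ∃ ω : ↥(Cfsg.isometryGroup F (Cfsg.quadFormPlus n F)),
      ω ∈ Cfsg.Omega F (Cfsg.quadFormPlus n F) ∧ motive _ ω := by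
  have key : ∀ Q₀ : (Fin n ⊕ Fin n → F) → F, ⇑(plusQF F n) = Q₀ →
      ∃ ω : ↥(Cfsg.isometryGroup F Q₀), ω ∈ Cfsg.Omega F Q₀ ∧ motive _ ω := by
    rintro _ rfl
    exact h
  exact key _ (Cfsg.Agent.S0287.coe_plusQF n)

variable [Fintype F]

/-- **(T1)+(T2)**: `Ω⁺_{2n}` is transitive, inside the stabiliser of `e_{i₀}` and `f_{i₀}`, on the non-zero
vectors of given norm of `⟨e_{i₀}, f_{i₀}⟩^⊥` -/
theorem trans_levi (i0 i1 i2 : Fin n) (h01 : i0 ≠ i1) (h02 : i0 ≠ i2) (h12 : i1 ≠ i2)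
    (y y' : Fin n ⊕ Fin n → F) (hy : y ≠ 0) (hy' : y' ≠ 0)
    (hyl : y (Sum.inl i0) = 0) (hyr : y (Sum.inr i0) = 0)
    (hyl' : y' (Sum.inl i0) = 0) (hyr' : y' (Sum.inr i0) = 0)
    (hQ : Cfsg.quadFormPlus n F y' = Cfsg.quadFormPlus n F y) :
    ∃ ω : ↥(Cfsg.isometryGroup F (Cfsg.quadFormPlus n F)),
      ω ∈ Cfsg.Omega F (Cfsg.quadFormPlus n F) ∧
      ((ω : GL (Fin n ⊕ Fin n) F) : Matrix _ _ F) *ᵥ eB F i0 = eB F i0 ∧
      ((ω : GL (Fin n ⊕ Fin n) F) : Matrix _ _ F) *ᵥ fB F i0 = fB F i0 ∧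
      ((ω : GL (Fin n ⊕ Fin n) F) : Matrix _ _ F) *ᵥ y = y' := by
  have hn : 3 ≤ n := by
    have h := Finset.card_le_univ ({i0, i1, i2} : Finset (Fin n))
    rw [Finset.card_insert_of_notMem (by simp [h01, h02]), Finset.card_insert_of_notMem (by simp [h12]),
      Finset.card_singleton, Fintype.card_fin] at h
    omega
  refine transfer_plus (motive := fun (Q₀ : (Fin n ⊕ Fin n → F) → F)
      (ω : ↥(Cfsg.isometryGroup F Q₀)) =>
      ((ω : GL (Fin n ⊕ Fin n) F) : Matrix _ _ F) *ᵥ eB F i0 = eB F i0 ∧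
      ((ω : GL (Fin n ⊕ Fin n) F) : Matrix _ _ F) *ᵥ fB F i0 = fB F i0 ∧
      ((ω : GL (Fin n ⊕ Fin n) F) : Matrix _ _ F) *ᵥ y = y') ?_
  set Q := plusQF F n with hQdef
  have hQy : Q y' = Q y := by rw [hQdef, plusQF_apply, plusQF_apply, hQ]
  set c := Q y with hc
  have hef : QuadraticMap.polar (⇑Q) (eB F i0) (fB F i0) = 1 := by
    rw [polarQF_eB, fB_apply_inr, if_pos rfl]
  have h1 : ∀ v : Fin n ⊕ Fin n → F, v (Sum.inl i0) = 0 → v (Sum.inr i0) = 0 →
      QuadraticMap.polar (⇑Q) (eB F i0) v = 0 ∧ QuadraticMap.polar (⇑Q) (fB F i0) v = 0 := by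
    intro v hv1 hv2
    rw [polarQF_eB, polarQF_fB]
    exact ⟨hv2, hv1⟩
  have hm1 : (eB F i1 + c • fB F i1) (Sum.inl i0) = 0 := by
    simp [eB_apply_inl, fB_apply_inl, h01]
  have hm2 : (eB F i1 + c • fB F i1) (Sum.inr i0) = 0 := by
    simp [eB_apply_inr, fB_apply_inr, h01]
  obtain ⟨ω, hω, hωx⟩ := Cfsg.Agent.Lib.H11.OmegaWittAny.omega_witt_any Q
    (Cfsg.Agent.S0287.nondeg n) (by rw [Fintype.card_sum, Fintype.card_fin]; omega) 3
    ![eB F i0, fB F i0, y] ![eB F i0, fB F i0, y'] ![eB F i0, fB F i0, eB F i1 + c • fB F i1]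
    (li_three Q _ _ _ (plusQF_eB i0) (plusQF_fB i0) hef (h1 y hyl hyr).1 (h1 y hyl hyr).2 hy)
    (li_three Q _ _ _ (plusQF_eB i0) (plusQF_fB i0) hef (h1 y' hyl' hyr').1 (h1 y' hyl' hyr').2 hy')
    (li_three Q _ _ _ (plusQF_eB i0) (plusQF_fB i0) hef (h1 _ hm1 hm2).1 (h1 _ hm1 hm2).2
      (model_ne_zero i1 c))
    (Q_three Q _ _ _ _ _ _ rfl rfl hQy)
    (gram_three Q _ _ _ _ _ _ rfl (by rw [(h1 y hyl hyr).1, (h1 y' hyl' hyr').1])
      (by rw [(h1 y hyl hyr).2, (h1 y' hyl' hyr').2]) rfl rfl hQy)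
    (Q_three Q _ _ _ _ _ _ rfl rfl (plusQF_model i1 c))
    (gram_three Q _ _ _ _ _ _ rfl (by rw [(h1 y hyl hyr).1, (h1 _ hm1 hm2).1])
      (by rw [(h1 y hyl hyr).2, (h1 _ hm1 hm2).2]) rfl rfl (plusQF_model i1 c))
    (eB F i2) (fB F i2) (plusQF_eB i2) (plusQF_fB i2)
    (by rw [polarQF_eB, fB_apply_inr, if_pos rfl])
    (fun i => by
      fin_cases i
      · show QuadraticMap.polar (⇑Q) (eB F i2) (eB F i0) = 0
        rw [polarQF_eB, eB_apply_inr]
      · show QuadraticMap.polar (⇑Q) (eB F i2) (fB F i0) = 0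
        rw [polarQF_eB, fB_apply_inr, if_neg (fun h => h02 h.symm)]
      · show QuadraticMap.polar (⇑Q) (eB F i2) (eB F i1 + c • fB F i1) = 0
        rw [polarQF_eB]
        simp [eB_apply_inr, fB_apply_inr, h12.symm])
    (fun i => by
      fin_cases i
      · show QuadraticMap.polar (⇑Q) (fB F i2) (eB F i0) = 0
        rw [polarQF_fB, eB_apply_inl, if_neg (fun h => h02 h.symm)]
      · show QuadraticMap.polar (⇑Q) (fB F i2) (fB F i0) = 0
        rw [polarQF_fB, fB_apply_inl]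
      · show QuadraticMap.polar (⇑Q) (fB F i2) (eB F i1 + c • fB F i1) = 0
        rw [polarQF_fB]
        simp [eB_apply_inl, fB_apply_inl, h12.symm])
  exact ⟨ω, hω, hωx 0, hωx 1, hωx 2⟩

omit [Fintype F] in
theorem li_eB_eB (i0 i1 : Fin n) (h01 : i0 ≠ i1) : LinearIndependent F ![eB F i0, eB F i1] := by
  rw [Fintype.linearIndependent_iff]
  intro g hg
  rw [Fin.sum_univ_two] at hg
  simp only [Matrix.cons_val_zero, Matrix.cons_val_one] at hg
  have h0 := congrFun hg (Sum.inl i0)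
  have h1 := congrFun hg (Sum.inl i1)
  simp only [Pi.add_apply, Pi.smul_apply, eB_apply_inl, smul_eq_mul, Pi.zero_apply, if_true,
    if_neg h01, if_neg h01.symm, mul_one, mul_zero, add_zero, zero_add] at h0 h1
  intro i
  fin_cases i
  · exact h0
  · exact h1

/-- **(T3)**: `Ω⁺_{2n}` is transitive on the pairs of linearly independent, orthogonal, singular vectors -/
theorem trans_ts (i0 i1 i2 : Fin n) (h01 : i0 ≠ i1) (h02 : i0 ≠ i2) (h12 : i1 ≠ i2)
    (u v u' v' : Fin n ⊕ Fin n → F)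
    (hu : Cfsg.quadFormPlus n F u = 0) (hv : Cfsg.quadFormPlus n F v = 0)
    (hu' : Cfsg.quadFormPlus n F u' = 0) (hv' : Cfsg.quadFormPlus n F v' = 0)
    (huv : QuadraticMap.polar (Cfsg.quadFormPlus n F) u v = 0)
    (huv' : QuadraticMap.polar (Cfsg.quadFormPlus n F) u' v' = 0)
    (hli : LinearIndependent F ![u, v]) (hli' : LinearIndependent F ![u', v']) :
    ∃ ω : ↥(Cfsg.isometryGroup F (Cfsg.quadFormPlus n F)),
      ω ∈ Cfsg.Omega F (Cfsg.quadFormPlus n F) ∧
      ((ω : GL (Fin n ⊕ Fin n) F) : Matrix _ _ F) *ᵥ u = u' ∧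
      ((ω : GL (Fin n ⊕ Fin n) F) : Matrix _ _ F) *ᵥ v = v' := by
  have hn : 3 ≤ n := by
    have h := Finset.card_le_univ ({i0, i1, i2} : Finset (Fin n))
    rw [Finset.card_insert_of_notMem (by simp [h01, h02]), Finset.card_insert_of_notMem (by simp [h12]),
      Finset.card_singleton, Fintype.card_fin] at h
    omega
  refine transfer_plus (motive := fun (Q₀ : (Fin n ⊕ Fin n → F) → F)
      (ω : ↥(Cfsg.isometryGroup F Q₀)) =>
      ((ω : GL (Fin n ⊕ Fin n) F) : Matrix _ _ F) *ᵥ u = u' ∧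
      ((ω : GL (Fin n ⊕ Fin n) F) : Matrix _ _ F) *ᵥ v = v') ?_
  set Q := plusQF F n with hQdef
  have hc := Cfsg.Agent.S0287.coe_plusQF (F := F) n
  have hQu : Q u = 0 := by rw [hQdef, plusQF_apply, hu]
  have hQv : Q v = 0 := by rw [hQdef, plusQF_apply, hv]
  have hQu' : Q u' = 0 := by rw [hQdef, plusQF_apply, hu']
  have hQv' : Q v' = 0 := by rw [hQdef, plusQF_apply, hv']
  have hPuv : QuadraticMap.polar (⇑Q) u v = 0 := by rw [hQdef, hc, huv]
  have hPuv' : QuadraticMap.polar (⇑Q) u' v' = 0 := by rw [hQdef, hc, huv']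
  have hP01 : QuadraticMap.polar (⇑Q) (eB F i0) (eB F i1) = 0 := by
    rw [polarQF_eB, eB_apply_inr]
  obtain ⟨ω, hω, hωx⟩ := Cfsg.Agent.Lib.H11.OmegaWittAny.omega_witt_any Q
    (Cfsg.Agent.S0287.nondeg n) (by rw [Fintype.card_sum, Fintype.card_fin]; omega) 2
    ![u, v] ![u', v'] ![eB F i0, eB F i1] hli hli' (li_eB_eB i0 i1 h01)
    (Q_two Q _ _ _ _ (by rw [hQu, hQu']) (by rw [hQv, hQv']))
    (gram_two Q _ _ _ _ (by rw [hPuv, hPuv']) (by rw [hQu, hQu']) (by rw [hQv, hQv']))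
    (Q_two Q _ _ _ _ (by rw [hQu, plusQF_eB]) (by rw [hQv, plusQF_eB]))
    (gram_two Q _ _ _ _ (by rw [hPuv, hP01]) (by rw [hQu, plusQF_eB]) (by rw [hQv, plusQF_eB]))
    (eB F i2) (fB F i2) (plusQF_eB i2) (plusQF_fB i2)
    (by rw [polarQF_eB, fB_apply_inr, if_pos rfl])
    (fun i => by
      fin_cases i
      · show QuadraticMap.polar (⇑Q) (eB F i2) (eB F i0) = 0
        rw [polarQF_eB, eB_apply_inr]
      · show QuadraticMap.polar (⇑Q) (eB F i2) (eB F i1) = 0
        rw [polarQF_eB, eB_apply_inr])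
    (fun i => by
      fin_cases i
      · show QuadraticMap.polar (⇑Q) (fB F i2) (eB F i0) = 0
        rw [polarQF_fB, eB_apply_inl, if_neg (fun h => h02 h.symm)]
      · show QuadraticMap.polar (⇑Q) (fB F i2) (eB F i1) = 0
        rw [polarQF_fB, eB_apply_inl, if_neg (fun h => h12 h.symm)])
  exact ⟨ω, hω, hωx 0, hωx 1⟩

end plus

end Cfsg.Agent.Lib.H11.OPlusTrans
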