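import Mathlib

/-!
# Element order bounds, part 1: arithmetic (helper11)

Blocks `(s, c)` carry the number `q^c - 1` (`s = true`) or `q^c + 1` (`s = false`).
Main result: `(q - 1) * lcm (block numbers) ≤ q ^ (sum of the c + 1)`.
-/

set_option autoImplicit false

namespace Cfsg.Agent.Lib.H11.EOB

/-- the number attached to a block: `q^c - 1` (plus type, `s = true`) or `q^c + 1` -/
def bn (q : ℕ) (x : Bool × ℕ) : ℕ := if x.1 then q ^ x.2 - 1 else q ^ x.2 + 1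

/-- lcm of the block numbers -/
def bL (q : ℕ) (l : List (Bool × ℕ)) : ℕ := (l.map (bn q)).foldr Nat.lcm 1

/-- total cost -/
def bw (l : List (Bool × ℕ)) : ℕ := (l.map Prod.snd).sum

@[simp] theorem bL_nil (q : ℕ) : bL q [] = 1 := rfl

@[simp] theorem bL_cons (q : ℕ) (x : Bool × ℕ) (l : List (Bool × ℕ)) :
    bL q (x :: l) = Nat.lcm (bn q x) (bL q l) := rfl

@[simp] theorem bw_nil : bw [] = 0 := rfl

@[simp] theorem bw_cons (x : Bool × ℕ) (l : List (Bool × ℕ)) : bw (x :: l) = x.2 + bw l := by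
  simp [bw]

theorem bn_dvd_bL (q : ℕ) {x : Bool × ℕ} {l : List (Bool × ℕ)} (hx : x ∈ l) : bn q x ∣ bL q l := by
  induction l with
  | nil => simp at hx
  | cons y l ih =>
    rw [bL_cons]
    rcases List.mem_cons.mp hx with rfl | h
    · exact Nat.dvd_lcm_left _ _
    · exact (ih h).trans (Nat.dvd_lcm_right _ _)

theorem bn_pos {q : ℕ} (hq : 2 ≤ q) {x : Bool × ℕ} (hx : 1 ≤ x.2) : 0 < bn q x := by
  unfold bn
  split_ifs
  · have : 2 ^ 1 ≤ q ^ x.2 := (Nat.pow_le_pow_left hq 1).trans (Nat.pow_le_pow_right (by omega) hx)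
    omega
  · omega

theorem bL_pos {q : ℕ} (hq : 2 ≤ q) {l : List (Bool × ℕ)} (hl : ∀ x ∈ l, 1 ≤ x.2) : 0 < bL q l := by
  induction l with
  | nil => simp
  | cons y l ih =>
    rw [bL_cons]
    exact Nat.lcm_pos (bn_pos hq (hl y (List.mem_cons_self ..)))
      (ih fun x hx => hl x (List.mem_cons_of_mem _ hx))

theorem even_bn {q : ℕ} (hq : Odd q) (x : Bool × ℕ) : 2 ∣ bn q x := by
  have h1 : Odd (q ^ x.2) := hq.pow
  obtain ⟨k, hk⟩ := h1
  unfold bn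
  split_ifs
  · rw [hk]; omega
  · rw [hk]; omega

theorem even_bL {q : ℕ} (hq : Odd q) {l : List (Bool × ℕ)} (hl : ∀ x ∈ l, 1 ≤ x.2) (hne : l ≠ []) :
    2 ∣ bL q l := by
  cases l with
  | nil => exact absurd rfl hne
  | cons y l =>
    rw [bL_cons]
    exact (even_bn hq y).trans (Nat.dvd_lcm_left _ _)

/-! ### telescoping product -/

theorem tele_full {q : ℕ} (hq : 1 ≤ q) (V : ℕ) :
    (q - 1) * ∏ v ∈ Finset.range V, (q ^ (2 ^ v) + 1) + 1 = q ^ (2 ^ V) := by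
  induction V with
  | zero => simp; omega
  | succ V ih =>
    rw [Finset.prod_range_succ, pow_succ 2 V, pow_mul, ← ih]
    ring

theorem tele_pow {q : ℕ} (V : ℕ) :
    q * ∏ v ∈ Finset.range V, q ^ (2 ^ v) = q ^ (2 ^ V) := by
  induction V with
  | zero => simp
  | succ V ih =>
    rw [Finset.prod_range_succ, ← mul_assoc, ih, pow_succ 2 V, pow_mul, sq]

theorem tele_lt {q : ℕ} (hq : 2 ≤ q) (S : Finset ℕ) :
    (q - 1) * ∏ v ∈ S, (q ^ (2 ^ v) + 1) < q * ∏ v ∈ S, q ^ (2 ^ v) := by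
  obtain ⟨V, hV⟩ : ∃ V, S ⊆ Finset.range V := by
    refine ⟨S.sup id + 1, fun x hx => ?_⟩
    rw [Finset.mem_range]
    exact Nat.lt_succ_of_le (Finset.le_sup (f := id) hx)
  have h1 := Finset.prod_sdiff (f := fun v => q ^ (2 ^ v) + 1) hV
  have h2 := Finset.prod_sdiff (f := fun v => q ^ (2 ^ v)) hV
  have hC : 0 < ∏ v ∈ Finset.range V \ S, q ^ (2 ^ v) :=
    Finset.prod_pos fun v _ => Nat.pow_pos (by omega)
  have hCC : ∏ v ∈ Finset.range V \ S, q ^ (2 ^ v) ≤ ∏ v ∈ Finset.range V \ S, (q ^ (2 ^ v) + 1) :=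
    Finset.prod_le_prod' fun v _ => Nat.le_succ _
  have h3 := tele_full (q := q) (by omega) V
  have h4 := tele_pow (q := q) V
  have key : ((q - 1) * ∏ v ∈ S, (q ^ (2 ^ v) + 1)) * (∏ v ∈ Finset.range V \ S, q ^ (2 ^ v))
      < (q * ∏ v ∈ S, q ^ (2 ^ v)) * (∏ v ∈ Finset.range V \ S, q ^ (2 ^ v)) := by
    calc ((q - 1) * ∏ v ∈ S, (q ^ (2 ^ v) + 1)) * (∏ v ∈ Finset.range V \ S, q ^ (2 ^ v))
        ≤ ((q - 1) * ∏ v ∈ S, (q ^ (2 ^ v) + 1)) * (∏ v ∈ Finset.range V \ S, (q ^ (2 ^ v) + 1)) :=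
          Nat.mul_le_mul_left _ hCC
      _ = (q - 1) * ∏ v ∈ Finset.range V, (q ^ (2 ^ v) + 1) := by rw [← h1]; ring
      _ < q ^ (2 ^ V) := by omega
      _ = q * ∏ v ∈ Finset.range V, q ^ (2 ^ v) := h4.symm
      _ = (q * ∏ v ∈ S, q ^ (2 ^ v)) * (∏ v ∈ Finset.range V \ S, q ^ (2 ^ v)) := by rw [← h2]; ring
  exact lt_of_mul_lt_mul_right key (Nat.zero_le _)

/-! ### the invariant -/

theorem add_one_dvd_pow_add_one {q c v o : ℕ} (ho : Odd o) (hc : c = 2 ^ v * o) :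
    q ^ (2 ^ v) + 1 ∣ q ^ c + 1 := by
  have := Odd.nat_add_dvd_pow_add_pow (q ^ (2 ^ v)) 1 ho
  rwa [one_pow, ← pow_mul, ← hc] at this

theorem main_inv {q : ℕ} (hq : 2 ≤ q) (l : List (Bool × ℕ)) (hl : ∀ x ∈ l, 1 ≤ x.2) :
    ∃ (LA LB wA wB : ℕ) (S : Finset ℕ), bL q l ∣ LA * LB ∧ wA + wB = bw l ∧ 0 < LA ∧ LA ≤ q ^ wA ∧
      0 < LB ∧ (∀ v ∈ S, q ^ (2 ^ v) + 1 ∣ LB) ∧
      LB * ∏ v ∈ S, q ^ (2 ^ v) ≤ q ^ wB * ∏ v ∈ S, (q ^ (2 ^ v) + 1) := by
  induction l with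
  | nil => exact ⟨1, 1, 0, 0, ∅, by simp⟩
  | cons x l ih =>
    obtain ⟨LA, LB, wA, wB, S, h1, h2, h3, h4, h5, h6, h7⟩ :=
      ih fun y hy => hl y (List.mem_cons_of_mem _ hy)
    have hc : 1 ≤ x.2 := hl x (List.mem_cons_self ..)
    obtain ⟨s, c⟩ := x
    simp only at hc
    have hqc : 2 ≤ q ^ c :=
      (Nat.pow_le_pow_left hq 1).trans (Nat.pow_le_pow_right (by omega) hc)
    cases s with
    | true =>
      refine ⟨(q ^ c - 1) * LA, LB, c + wA, wB, S, ?_, ?_, ?_, ?_, h5, h6, h7⟩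
      · rw [bL_cons]
        apply Nat.lcm_dvd
        · simp only [bn, if_true]
          exact Dvd.intro (LA * LB) (by ring)
        · calc bL q l ∣ LA * LB := h1
            _ ∣ (q ^ c - 1) * LA * LB := Dvd.intro_left (q ^ c - 1) (by ring)
      · rw [bw_cons]; simp only; omega
      · exact Nat.mul_pos (by omega) h3
      · rw [pow_add]
        exact Nat.mul_le_mul (Nat.sub_le _ _) h4
    | false =>
      obtain ⟨v, o, ho, hco⟩ := Nat.exists_eq_two_pow_mul_odd (n := c) (by omega)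
      have hN : q ^ (2 ^ v) + 1 ∣ q ^ c + 1 := add_one_dvd_pow_add_one ho hco
      have hvc : 2 ^ v ≤ c := by
        rw [hco]
        exact Nat.le_mul_of_pos_right _ ho.pos
      have hbn : bn q (false, c) = q ^ c + 1 := by simp [bn]
      have hdvd : bL q ((false, c) :: l) ∣ LA * Nat.lcm (q ^ c + 1) LB := by
        rw [bL_cons, hbn]
        apply Nat.lcm_dvd
        · exact (Nat.dvd_lcm_left _ _).trans (Dvd.intro_left _ rfl)
        · exact h1.trans (Nat.mul_dvd_mul_left _ (Nat.dvd_lcm_right _ _))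
      have hpos : 0 < Nat.lcm (q ^ c + 1) LB := Nat.lcm_pos (by omega) h5
      by_cases hv : v ∈ S
      · refine ⟨LA, Nat.lcm (q ^ c + 1) LB, wA, c + wB, S, hdvd, ?_, h3, h4, hpos, ?_, ?_⟩
        · rw [bw_cons]; simp only; omega
        · intro v' hv'
          exact (h6 v' hv').trans (Nat.dvd_lcm_right _ _)
        · have hg : q ^ (2 ^ v) + 1 ∣ Nat.gcd (q ^ c + 1) LB := Nat.dvd_gcd hN (h6 v hv)
          have hgpos : 0 < Nat.gcd (q ^ c + 1) LB := Nat.gcd_pos_of_pos_right _ h5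
          have hle : q ^ (2 ^ v) + 1 ≤ Nat.gcd (q ^ c + 1) LB := Nat.le_of_dvd hgpos hg
          have hgl := Nat.gcd_mul_lcm (q ^ c + 1) LB
          have hN2 : 2 ≤ q ^ (2 ^ v) + 1 := by
            have : 0 < q ^ (2 ^ v) := Nat.pow_pos (by omega)
            omega
          set P := ∏ v ∈ S, q ^ (2 ^ v)
          set R := ∏ v ∈ S, (q ^ (2 ^ v) + 1)
          set N := q ^ (2 ^ v) + 1
          set LB' := Nat.lcm (q ^ c + 1) LB
          have e1 : LB' * N ≤ (q ^ c + 1) * LB := by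
            rw [← hgl, mul_comm (Nat.gcd _ _)]
            exact Nat.mul_le_mul_left _ hle
          have e2 : q ^ c + 1 ≤ q ^ c * N := by nlinarith
          have key : (LB' * P) * N ≤ (q ^ (c + wB) * R) * N := by
            calc (LB' * P) * N = (LB' * N) * P := by ring
              _ ≤ ((q ^ c + 1) * LB) * P := Nat.mul_le_mul_right _ e1
              _ = (q ^ c + 1) * (LB * P) := by ring
              _ ≤ (q ^ c + 1) * (q ^ wB * R) := Nat.mul_le_mul_left _ h7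
              _ ≤ (q ^ c * N) * (q ^ wB * R) := Nat.mul_le_mul_right _ e2
              _ = (q ^ (c + wB) * R) * N := by rw [pow_add]; ring
          exact le_of_mul_le_mul_right key (by omega)
      · refine ⟨LA, Nat.lcm (q ^ c + 1) LB, wA, c + wB, insert v S, hdvd, ?_, h3, h4, hpos, ?_, ?_⟩
        · rw [bw_cons]; simp only; omega
        · intro v' hv'
          rcases Finset.mem_insert.mp hv' with rfl | hv''
          · exact hN.trans (Nat.dvd_lcm_left _ _)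
          · exact (h6 v' hv'').trans (Nat.dvd_lcm_right _ _)
        · rw [Finset.prod_insert hv, Finset.prod_insert hv]
          set P := ∏ v ∈ S, q ^ (2 ^ v)
          set R := ∏ v ∈ S, (q ^ (2 ^ v) + 1)
          have hlcm : Nat.lcm (q ^ c + 1) LB ≤ (q ^ c + 1) * LB :=
            Nat.le_of_dvd (Nat.mul_pos (by omega) h5) (Nat.lcm_dvd_mul _ _)
          have e2 : (q ^ c + 1) * q ^ (2 ^ v) ≤ q ^ c * (q ^ (2 ^ v) + 1) := by
            have : q ^ (2 ^ v) ≤ q ^ c := Nat.pow_le_pow_right (by omega) hvc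
            nlinarith
          calc Nat.lcm (q ^ c + 1) LB * (q ^ (2 ^ v) * P)
              ≤ ((q ^ c + 1) * LB) * (q ^ (2 ^ v) * P) := Nat.mul_le_mul_right _ hlcm
            _ = ((q ^ c + 1) * q ^ (2 ^ v)) * (LB * P) := by ring
            _ ≤ ((q ^ c + 1) * q ^ (2 ^ v)) * (q ^ wB * R) := Nat.mul_le_mul_left _ h7
            _ ≤ (q ^ c * (q ^ (2 ^ v) + 1)) * (q ^ wB * R) := Nat.mul_le_mul_right _ e2
            _ = q ^ (c + wB) * ((q ^ (2 ^ v) + 1) * R) := by rw [pow_add]; ring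

/-- **Main arithmetic lemma**. -/
theorem bL_bound {q : ℕ} (hq : 2 ≤ q) (l : List (Bool × ℕ)) (hl : ∀ x ∈ l, 1 ≤ x.2) :
    (q - 1) * bL q l ≤ q ^ (bw l + 1) := by
  obtain ⟨LA, LB, wA, wB, S, h1, h2, h3, h4, h5, h6, h7⟩ := main_inv hq l hl
  have hle : bL q l ≤ LA * LB := Nat.le_of_dvd (Nat.mul_pos h3 h5) h1
  have hP : 0 < ∏ v ∈ S, q ^ (2 ^ v) := Finset.prod_pos fun v _ => Nat.pow_pos (by omega)
  have h8 := tele_lt hq S
  have h9 : (q - 1) * LB < q ^ (wB + 1) := by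
    have key : ((q - 1) * LB) * ∏ v ∈ S, q ^ (2 ^ v) < q ^ (wB + 1) * ∏ v ∈ S, q ^ (2 ^ v) := by
      calc ((q - 1) * LB) * ∏ v ∈ S, q ^ (2 ^ v) = (q - 1) * (LB * ∏ v ∈ S, q ^ (2 ^ v)) := by ring
        _ ≤ (q - 1) * (q ^ wB * ∏ v ∈ S, (q ^ (2 ^ v) + 1)) := Nat.mul_le_mul_left _ h7
        _ = q ^ wB * ((q - 1) * ∏ v ∈ S, (q ^ (2 ^ v) + 1)) := by ring
        _ < q ^ wB * (q * ∏ v ∈ S, q ^ (2 ^ v)) :=
            Nat.mul_lt_mul_of_pos_left h8 (Nat.pow_pos (by omega))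
        _ = q ^ (wB + 1) * ∏ v ∈ S, q ^ (2 ^ v) := by rw [pow_succ]; ring
    exact lt_of_mul_lt_mul_right key (Nat.zero_le _)
  calc (q - 1) * bL q l ≤ (q - 1) * (LA * LB) := Nat.mul_le_mul_left _ hle
    _ = LA * ((q - 1) * LB) := by ring
    _ ≤ q ^ wA * q ^ (wB + 1) := Nat.mul_le_mul h4 h9.le
    _ = q ^ (bw l + 1) := by rw [← pow_add, ← h2]; ring_nf

/-! ### `Nat.clog` estimates -/

theorem clog_le_pred {p e : ℕ} (hp : 2 ≤ p) (he : 1 ≤ e) : Nat.clog p e ≤ e - 1 := by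
  apply Nat.clog_le_of_le_pow
  have h1 : e - 1 < 2 ^ (e - 1) := Nat.lt_two_pow_self
  have h2 : 2 ^ (e - 1) ≤ p ^ (e - 1) := Nat.pow_le_pow_left hp _
  omega

theorem two_mul_le_two_pow (k : ℕ) (hk : 1 ≤ k) : 2 * k ≤ 2 ^ k := by
  induction k with
  | zero => omega
  | succ k ih =>
    rcases Nat.eq_zero_or_pos k with rfl | hk'
    · norm_num
    · have := ih hk'
      rw [pow_succ]
      omega

theorem clog_two_le_half (e : ℕ) : Nat.clog 2 e ≤ (e + 1) / 2 := by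
  rcases Nat.eq_zero_or_pos e with rfl | he
  · simp
  apply Nat.clog_le_of_le_pow
  have h1 : 1 ≤ (e + 1) / 2 := by omega
  have h2 := two_mul_le_two_pow _ h1
  omega

theorem two_mul_add_one_le_three_pow (k : ℕ) (hk : 1 ≤ k) : 2 * k + 1 ≤ 3 ^ k := by
  induction k with
  | zero => omega
  | succ k ih =>
    rcases Nat.eq_zero_or_pos k with rfl | hk'
    · norm_num
    · have := ih hk'
      rw [pow_succ]
      omega

theorem clog_le_half_of_three_le {p e : ℕ} (hp : 3 ≤ p) (he : 2 ≤ e) : Nat.clog p e ≤ e / 2 := by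
  apply Nat.clog_le_of_le_pow
  have h1 : 1 ≤ e / 2 := by omega
  have h2 := two_mul_add_one_le_three_pow _ h1
  have h3 : 3 ^ (e / 2) ≤ p ^ (e / 2) := Nat.pow_le_pow_left hp _
  omega

/-- `3^(m-1) ≥ 2m - 1` -/
theorem three_pow_pred_ge (m : ℕ) (hm : 1 ≤ m) : 2 * m - 1 ≤ 3 ^ (m - 1) := by
  obtain ⟨k, rfl⟩ : ∃ k, m = k + 1 := ⟨m - 1, by omega⟩
  rcases Nat.eq_zero_or_pos k with rfl | hk
  · norm_num
  · have := two_mul_add_one_le_three_pow k hk
    simp only [Nat.add_sub_cancel]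
    omega

/-- `3^(m-1) ≥ 2m` for `m ≥ 3` -/
theorem three_pow_pred_ge' (m : ℕ) (hm : 3 ≤ m) : 2 * m ≤ 3 ^ (m - 1) := by
  obtain ⟨k, rfl⟩ : ∃ k, m = k + 3 := ⟨m - 3, by omega⟩
  have h : k + 3 - 1 = k + 2 := by omega
  rw [h]
  induction k with
  | zero => norm_num
  | succ k ih =>
    have := ih (by omega) (by omega)
    rw [show k + 1 + 2 = (k + 2) + 1 by ring, pow_succ]
    omega

end Cfsg.Agent.Lib.H11.EOB
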