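/-
S2524 (Tiep-Zalesskii gap for `Sp_2n(q)`, `q` odd; architect helper19, route U = tools/blueprints/S2524_U.md).
GROUP SIDE, part 0: DEFINITIONS of the subgroups and elements of `Sp_2n(F)`, `n = m + 1`, `* = Fin.last m`.

Conventions (as in helper5 `Lib/H5/LS2S2`): `tEl X = [[1,X],[0,1]]`, `lEl g = diag(g, g⁻ᵀ)`; here also `tmEl X = [[1,0],[X,1]]`.
-/
import Mathlib
import Cfsg.Agent.Lib.H5.LS2S2
import Cfsg.Agent.Lib.H2.SpExt

set_option autoImplicit false
set_option linter.unusedSimpArgs false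

namespace Cfsg.Agent.Lib.H11.SpU

open Matrix Cfsg.Agent.Lib.H12.LS2 Cfsg.Agent.Lib.H5.LS2

variable {F : Type*} [Field F] {n m : ℕ}

/-! ### symmetric matrices -/

/-- `c • E_ii` as a symmetric matrix -/
def symE (i : Fin n) (c : F) : Symm n F :=
  ⟨Matrix.single i i c, by
    rw [mem_Symm, Matrix.transpose_single]⟩

@[simp] theorem symE_val (i : Fin n) (c : F) :
    ((symE i c : Symm n F) : Matrix (Fin n) (Fin n) F) = Matrix.single i i c := rfl

theorem symE_add (i : Fin n) (c d : F) : symE i (c + d) = symE i c + symE i d := by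
  apply Subtype.ext
  simp [Matrix.single_add]

/-- `e_i xᵀ + x e_iᵀ` as a symmetric matrix -/
def symX (i : Fin n) (x : Fin n → F) : Symm n F :=
  ⟨vecMulVec (Pi.single i 1) x + vecMulVec x (Pi.single i 1), by
    rw [mem_Symm, Matrix.transpose_add, Matrix.transpose_vecMulVec, Matrix.transpose_vecMulVec,
      add_comm]⟩

@[simp] theorem symX_val (i : Fin n) (x : Fin n → F) :
    ((symX i x : Symm n F) : Matrix (Fin n) (Fin n) F) =
      vecMulVec (Pi.single i 1) x + vecMulVec x (Pi.single i 1) := rfl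

theorem symX_add (i : Fin n) (x y : Fin n → F) : symX i (x + y) = symX i x + symX i y := by
  apply Subtype.ext
  simp [Matrix.vecMulVec_add, Matrix.add_vecMulVec]
  abel


/-! ### the opposite Siegel elements `tmEl X = [[1,0],[X,1]]` and the homs `tHom`, `tmHom` -/

/-- abbreviation for the group `Sp_2n(F)` -/
abbrev Sp (n : ℕ) (F : Type*) [Field F] : Type _ := ↥(Matrix.symplecticGroup (Fin n) F)

theorem tmMat_mem (X : Matrix (Fin n) (Fin n) F) (hX : Xᵀ = X) :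
    fromBlocks (1 : Matrix (Fin n) (Fin n) F) 0 X 1 ∈ Matrix.symplecticGroup (Fin n) F := by
  rw [SymplecticGroup.fromBlocks_mem_iff]
  refine ⟨by simp [hX], by simp, by simp⟩

/-- the opposite Siegel element `[[1,0],[X,1]]` -/
noncomputable def tmEl (X : Symm n F) : Sp n F :=
  ⟨fromBlocks 1 0 (X : Matrix (Fin n) (Fin n) F) 1, tmMat_mem _ ((mem_Symm n _).1 X.2)⟩

theorem tmEl_val (X : Symm n F) :
    ((tmEl X : Sp n F) : Matrix (Fin n ⊕ Fin n) (Fin n ⊕ Fin n) F) =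
      fromBlocks 1 0 (X : Matrix (Fin n) (Fin n) F) 1 := rfl

theorem tEl_add (X X' : Symm n F) : (tEl (X + X') : Sp n F) = tEl X * tEl X' := by
  apply Subtype.ext
  rw [Submonoid.coe_mul, tEl_val, tEl_val, tEl_val, Matrix.fromBlocks_multiply]
  simp [add_comm]

theorem tmEl_add (X X' : Symm n F) : (tmEl (X + X') : Sp n F) = tmEl X * tmEl X' := by
  apply Subtype.ext
  rw [Submonoid.coe_mul, tmEl_val, tmEl_val, tmEl_val, Matrix.fromBlocks_multiply]
  simp

theorem tEl_zero : (tEl (0 : Symm n F) : Sp n F) = 1 := by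
  apply Subtype.ext
  rw [tEl_val]
  simp [Matrix.fromBlocks_one]

theorem tmEl_zero : (tmEl (0 : Symm n F) : Sp n F) = 1 := by
  apply Subtype.ext
  rw [tmEl_val]
  simp [Matrix.fromBlocks_one]

theorem tEl_injective : Function.Injective (tEl : Symm n F → Sp n F) := by
  intro X X' h
  have h' := congrArg Subtype.val h
  rw [tEl_val, tEl_val, Matrix.fromBlocks_inj] at h'
  exact Subtype.ext h'.2.1

theorem tmEl_injective : Function.Injective (tmEl : Symm n F → Sp n F) := by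
  intro X X' h
  have h' := congrArg Subtype.val h
  rw [tmEl_val, tmEl_val, Matrix.fromBlocks_inj] at h'
  exact Subtype.ext h'.2.2.1

/-- `X ↦ tEl X` as a monoid hom on `Multiplicative (Symm n F)` -/
noncomputable def tHom (n : ℕ) (F : Type*) [Field F] : Multiplicative (Symm n F) →* Sp n F where
  toFun X := tEl (Multiplicative.toAdd X)
  map_one' := tEl_zero
  map_mul' _ _ := tEl_add _ _

/-- `X ↦ tmEl X` as a monoid hom on `Multiplicative (Symm n F)` -/
noncomputable def tmHom (n : ℕ) (F : Type*) [Field F] : Multiplicative (Symm n F) →* Sp n F where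
  toFun X := tmEl (Multiplicative.toAdd X)
  map_one' := tmEl_zero
  map_mul' _ _ := tmEl_add _ _

theorem tHom_apply (X : Symm n F) : tHom n F (Multiplicative.ofAdd X) = tEl X := rfl

theorem tmHom_apply (X : Symm n F) : tmHom n F (Multiplicative.ofAdd X) = tmEl X := rfl

theorem tEl_inv (X : Symm n F) : (tEl X : Sp n F)⁻¹ = tEl (-X) := by
  rw [inv_eq_iff_mul_eq_one, ← tEl_add, add_neg_cancel, tEl_zero]

theorem tmEl_inv (X : Symm n F) : (tmEl X : Sp n F)⁻¹ = tmEl (-X) := by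
  rw [inv_eq_iff_mul_eq_one, ← tmEl_add, add_neg_cancel, tmEl_zero]

/-- image under `tEl` of an additive subgroup of symmetric matrices -/
noncomputable def tSub (B : AddSubgroup (Symm n F)) : Subgroup (Sp n F) :=
  (AddSubgroup.toSubgroup B).map (tHom n F)

/-- image under `tmEl` of an additive subgroup of symmetric matrices -/
noncomputable def tmSub (B : AddSubgroup (Symm n F)) : Subgroup (Sp n F) :=
  (AddSubgroup.toSubgroup B).map (tmHom n F)

theorem mem_tSub {B : AddSubgroup (Symm n F)} {g : Sp n F} :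
    g ∈ tSub B ↔ ∃ X ∈ B, tEl X = g := by
  constructor
  · rintro ⟨X, hX, rfl⟩
    exact ⟨Multiplicative.toAdd X, hX, rfl⟩
  · rintro ⟨X, hX, rfl⟩
    exact ⟨Multiplicative.ofAdd X, hX, rfl⟩

theorem mem_tmSub {B : AddSubgroup (Symm n F)} {g : Sp n F} :
    g ∈ tmSub B ↔ ∃ X ∈ B, tmEl X = g := by
  constructor
  · rintro ⟨X, hX, rfl⟩
    exact ⟨Multiplicative.toAdd X, hX, rfl⟩
  · rintro ⟨X, hX, rfl⟩
    exact ⟨Multiplicative.ofAdd X, hX, rfl⟩

theorem tEl_mem_tSub {B : AddSubgroup (Symm n F)} {X : Symm n F} (hX : X ∈ B) : tEl X ∈ tSub B :=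
  mem_tSub.2 ⟨X, hX, rfl⟩

theorem tmEl_mem_tmSub {B : AddSubgroup (Symm n F)} {X : Symm n F} (hX : X ∈ B) :
    tmEl X ∈ tmSub B :=
  mem_tmSub.2 ⟨X, hX, rfl⟩

theorem tSub_mono {B B' : AddSubgroup (Symm n F)} (h : B ≤ B') : tSub B ≤ tSub B' := by
  intro g hg
  obtain ⟨X, hX, rfl⟩ := mem_tSub.1 hg
  exact tEl_mem_tSub (h hX)

theorem tmSub_mono {B B' : AddSubgroup (Symm n F)} (h : B ≤ B') : tmSub B ≤ tmSub B' := by
  intro g hg
  obtain ⟨X, hX, rfl⟩ := mem_tmSub.1 hg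
  exact tmEl_mem_tmSub (h hX)

/-- the Siegel radical `Q = {tEl X}` -/
noncomputable def Qs (n : ℕ) (F : Type*) [Field F] : Subgroup (Sp n F) := tSub ⊤

/-- the opposite Siegel radical `Q⁻ = {tmEl X}` -/
noncomputable def Qm (n : ℕ) (F : Type*) [Field F] : Subgroup (Sp n F) := tmSub ⊤

/-- the Levi factor `L = {lEl g}` -/
noncomputable def Ls (n : ℕ) (F : Type*) [Field F] : Subgroup (Sp n F) := (lHom n).range

/-- the Siegel parabolic `P = Q L` -/
noncomputable def Ps (n : ℕ) (F : Type*) [Field F] : Subgroup (Sp n F) := Qs n F ⊔ Ls n F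

theorem tEl_mem_Qs (X : Symm n F) : tEl X ∈ Qs n F := tEl_mem_tSub (AddSubgroup.mem_top X)

theorem tmEl_mem_Qm (X : Symm n F) : tmEl X ∈ Qm n F := tmEl_mem_tmSub (AddSubgroup.mem_top X)

theorem lEl_mem_Ls (g : GL (Fin n) F) : lEl g ∈ Ls n F := ⟨g, rfl⟩

theorem mem_Qs {g : Sp n F} : g ∈ Qs n F ↔ ∃ X : Symm n F, tEl X = g := by
  rw [Qs, mem_tSub]
  constructor
  · rintro ⟨X, -, h⟩; exact ⟨X, h⟩
  · rintro ⟨X, h⟩; exact ⟨X, AddSubgroup.mem_top X, h⟩

theorem mem_Ls {g : Sp n F} : g ∈ Ls n F ↔ ∃ h : GL (Fin n) F, lEl h = g := Iff.rfl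

/-- conjugation of `tEl X` by `lEl g` -/
theorem lEl_conj_tEl (g : GL (Fin n) F) (X Y : Symm n F)
    (hY : (Y : Matrix (Fin n) (Fin n) F) = g.1 * (X : Matrix (Fin n) (Fin n) F) * g.1ᵀ) :
    (lEl g : Sp n F) * tEl X * (lEl g)⁻¹ = tEl Y := by
  rw [mul_inv_eq_iff_eq_mul]
  apply Subtype.ext
  rw [Submonoid.coe_mul, Submonoid.coe_mul, tEl_val, tEl_val, lEl_val, Matrix.fromBlocks_multiply,
    Matrix.fromBlocks_multiply, hY]
  have h1 : g.1ᵀ * ((g⁻¹ : GL (Fin n) F).1)ᵀ = 1 := by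
    rw [← Matrix.transpose_mul, ← Units.val_mul, inv_mul_cancel, Units.val_one, Matrix.transpose_one]
  have h2 : g.1 * (X : Matrix (Fin n) (Fin n) F) * g.1ᵀ * ((g⁻¹ : GL (Fin n) F).1)ᵀ
      = g.1 * (X : Matrix (Fin n) (Fin n) F) := by
    rw [Matrix.mul_assoc, h1, Matrix.mul_one]
  rw [h2]
  simp

/-- the symmetric matrix `g X gᵀ` -/
def symConj (g : GL (Fin n) F) (X : Symm n F) : Symm n F :=
  ⟨g.1 * (X : Matrix (Fin n) (Fin n) F) * g.1ᵀ, mul_mul_transpose_mem g.1 X.2⟩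

@[simp] theorem symConj_val (g : GL (Fin n) F) (X : Symm n F) :
    ((symConj g X : Symm n F) : Matrix (Fin n) (Fin n) F) =
      g.1 * (X : Matrix (Fin n) (Fin n) F) * g.1ᵀ := rfl

theorem lEl_conj_tEl' (g : GL (Fin n) F) (X : Symm n F) :
    (lEl g : Sp n F) * tEl X * (lEl g)⁻¹ = tEl (symConj g X) :=
  lEl_conj_tEl g X _ rfl

/-- conjugation of `tmEl X` by `lEl g`: `l(g) t⁻(X) l(g)⁻¹ = t⁻(g⁻ᵀ X g⁻¹)` -/
theorem lEl_conj_tmEl (g : GL (Fin n) F) (X Y : Symm n F)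
    (hY : (X : Matrix (Fin n) (Fin n) F) = g.1ᵀ * (Y : Matrix (Fin n) (Fin n) F) * g.1) :
    (lEl g : Sp n F) * tmEl X * (lEl g)⁻¹ = tmEl Y := by
  rw [mul_inv_eq_iff_eq_mul]
  apply Subtype.ext
  rw [Submonoid.coe_mul, Submonoid.coe_mul, tmEl_val, tmEl_val, lEl_val, Matrix.fromBlocks_multiply,
    Matrix.fromBlocks_multiply, hY]
  have h1 : ((g⁻¹ : GL (Fin n) F).1)ᵀ * g.1ᵀ = 1 := by
    rw [← Matrix.transpose_mul, ← Units.val_mul, mul_inv_cancel, Units.val_one, Matrix.transpose_one]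
  have h2 : ((g⁻¹ : GL (Fin n) F).1)ᵀ * (g.1ᵀ * (Y : Matrix (Fin n) (Fin n) F) * g.1)
      = (Y : Matrix (Fin n) (Fin n) F) * g.1 := by
    rw [Matrix.mul_assoc, ← Matrix.mul_assoc, h1, Matrix.one_mul]
  rw [h2]
  simp


/-! ### elements of `GL_n` -/

/-- `1 + a bᵀ` with `b ⬝ᵥ a = 0`, as an element of `GL_n` (inverse `1 - a bᵀ`) -/
def glTv (a b : Fin n → F) (h : b ⬝ᵥ a = 0) : GL (Fin n) F :=
  ⟨1 + vecMulVec a b, 1 - vecMulVec a b, by
    have h2 : vecMulVec a b * vecMulVec a b = 0 := by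
      rw [Matrix.vecMulVec_mul_vecMulVec, h, zero_smul, Matrix.vecMulVec_zero]
    rw [Matrix.add_mul, Matrix.one_mul, Matrix.mul_sub, Matrix.mul_one, h2]
    abel, by
    have h2 : vecMulVec a b * vecMulVec a b = 0 := by
      rw [Matrix.vecMulVec_mul_vecMulVec, h, zero_smul, Matrix.vecMulVec_zero]
    rw [Matrix.sub_mul, Matrix.one_mul, Matrix.mul_add, Matrix.mul_one, h2]
    abel⟩

@[simp] theorem glTv_val (a b : Fin n → F) (h : b ⬝ᵥ a = 0) :
    ((glTv a b h : GL (Fin n) F) : Matrix (Fin n) (Fin n) F) = 1 + vecMulVec a b := rfl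

theorem glTv_inv_val (a b : Fin n → F) (h : b ⬝ᵥ a = 0) :
    (((glTv a b h)⁻¹ : GL (Fin n) F) : Matrix (Fin n) (Fin n) F) = 1 - vecMulVec a b := rfl

/-- block diagonal matrix `diag(g, s)` indexed by `Fin (m+1)` (last index = `*`) -/
def blk (g : Matrix (Fin m) (Fin m) F) (s : F) : Matrix (Fin (m + 1)) (Fin (m + 1)) F :=
  Matrix.of fun i j =>
    Fin.lastCases (Fin.lastCases s (fun _ => 0) j) (fun i' => Fin.lastCases 0 (fun j' => g i' j') j) i

@[simp] theorem blk_cc (g : Matrix (Fin m) (Fin m) F) (s : F) (i j : Fin m) :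
    blk g s (Fin.castSucc i) (Fin.castSucc j) = g i j := by simp [blk]

@[simp] theorem blk_cl (g : Matrix (Fin m) (Fin m) F) (s : F) (i : Fin m) :
    blk g s (Fin.castSucc i) (Fin.last m) = 0 := by simp [blk]

@[simp] theorem blk_lc (g : Matrix (Fin m) (Fin m) F) (s : F) (j : Fin m) :
    blk g s (Fin.last m) (Fin.castSucc j) = 0 := by simp [blk]

@[simp] theorem blk_ll (g : Matrix (Fin m) (Fin m) F) (s : F) :
    blk g s (Fin.last m) (Fin.last m) = s := by simp [blk]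

theorem blk_mul (g h : Matrix (Fin m) (Fin m) F) (s t : F) :
    blk g s * blk h t = blk (g * h) (s * t) := by
  ext i j
  refine Fin.lastCases ?_ (fun i' => ?_) i <;> refine Fin.lastCases ?_ (fun j' => ?_) j <;>
    simp [Matrix.mul_apply, Fin.sum_univ_castSucc]

theorem blk_one : blk (1 : Matrix (Fin m) (Fin m) F) 1 = 1 := by
  ext i j
  refine Fin.lastCases ?_ (fun i' => ?_) i <;> refine Fin.lastCases ?_ (fun j' => ?_) j <;>
    simp [Matrix.one_apply, Fin.castSucc_ne_last, (Fin.castSucc_ne_last _).symm]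

theorem blk_transpose (g : Matrix (Fin m) (Fin m) F) (s : F) : (blk g s)ᵀ = blk gᵀ s := by
  ext i j
  refine Fin.lastCases ?_ (fun i' => ?_) i <;> refine Fin.lastCases ?_ (fun j' => ?_) j <;>
    simp [Matrix.transpose_apply]

/-- `diag(g, s)` as a hom `GL_m × Fˣ → GL_{m+1}` -/
def glBlk : GL (Fin m) F × Fˣ →* GL (Fin (m + 1)) F where
  toFun p := ⟨blk p.1.1 p.2.1, blk (p.1⁻¹ : GL (Fin m) F).1 (p.2⁻¹ : Fˣ).1, by
      rw [blk_mul, ← Units.val_mul, ← Units.val_mul, mul_inv_cancel, mul_inv_cancel,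
        Units.val_one, Units.val_one, blk_one], by
      rw [blk_mul, ← Units.val_mul, ← Units.val_mul, inv_mul_cancel, inv_mul_cancel,
        Units.val_one, Units.val_one, blk_one]⟩
  map_one' := by
    apply Units.ext
    show blk (1 : GL (Fin m) F).1 (1 : Fˣ).1 = 1
    rw [Units.val_one, Units.val_one, blk_one]
  map_mul' p q := by
    apply Units.ext
    show blk (p.1 * q.1 : GL (Fin m) F).1 (p.2 * q.2 : Fˣ).1 = blk p.1.1 p.2.1 * blk q.1.1 q.2.1
    rw [blk_mul, Units.val_mul, Units.val_mul]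

@[simp] theorem glBlk_val (p : GL (Fin m) F × Fˣ) :
    ((glBlk p : GL (Fin (m + 1)) F) : Matrix (Fin (m + 1)) (Fin (m + 1)) F) = blk p.1.1 p.2.1 := rfl

/-- `g'' ↦ diag(g'', 1)` -/
def glPP : GL (Fin m) F →* GL (Fin (m + 1)) F := glBlk.comp (MonoidHom.inl _ _)

/-- `s ↦ diag(1, …, 1, s)` -/
def glT1 : Fˣ →* GL (Fin (m + 1)) F := glBlk.comp (MonoidHom.inr _ _)

@[simp] theorem glPP_val (g : GL (Fin m) F) :
    ((glPP g : GL (Fin (m + 1)) F) : Matrix (Fin (m + 1)) (Fin (m + 1)) F) = blk g.1 1 := rfl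

@[simp] theorem glT1_val (s : Fˣ) :
    ((glT1 (m := m) s : GL (Fin (m + 1)) F) : Matrix (Fin (m + 1)) (Fin (m + 1)) F) = blk 1 s.1 := rfl

/-- the permutation matrix of the transposition `(i j)`, in `GL_n` -/
def glSwap (i j : Fin n) : GL (Fin n) F :=
  ⟨((Equiv.swap i j).toPEquiv.toMatrix : Matrix (Fin n) (Fin n) F),
    ((Equiv.swap i j).toPEquiv.toMatrix : Matrix (Fin n) (Fin n) F), by
    rw [← PEquiv.toMatrix_trans, ← Equiv.toPEquiv_trans, Equiv.swap_swap, Equiv.toPEquiv_refl,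
      PEquiv.toMatrix_refl], by
    rw [← PEquiv.toMatrix_trans, ← Equiv.toPEquiv_trans, Equiv.swap_swap, Equiv.toPEquiv_refl,
      PEquiv.toMatrix_refl]⟩

theorem glSwap_val (i j : Fin n) :
    ((glSwap i j : GL (Fin n) F) : Matrix (Fin n) (Fin n) F) =
      ((Equiv.swap i j).toPEquiv.toMatrix : Matrix (Fin n) (Fin n) F) := rfl

theorem glSwap_inv (i j : Fin n) : (glSwap i j : GL (Fin n) F)⁻¹ = glSwap i j := rfl

theorem glSwap_mul_self (i j : Fin n) : (glSwap i j : GL (Fin n) F) * glSwap i j = 1 := by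
  nth_rewrite 2 [← glSwap_inv i j]
  rw [mul_inv_cancel]

theorem glSwap_mulVec (i j : Fin n) (x : Fin n → F) :
    (glSwap i j : GL (Fin n) F).1 *ᵥ x = x ∘ Equiv.swap i j := by
  rw [glSwap_val, PEquiv.toMatrix_toPEquiv_mulVec]


/-! ### `n = m + 1`, `* = Fin.last m`: vectors -/

/-- extension by zero of `u : Fin m → F` to `Fin (m+1) → F` (so `u_* = 0`) -/
def ext0 (u : Fin m → F) : Fin (m + 1) → F := Fin.lastCases 0 u

@[simp] theorem ext0_castSucc (u : Fin m → F) (i : Fin m) : ext0 u (Fin.castSucc i) = u i := by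
  simp [ext0]

@[simp] theorem ext0_last (u : Fin m → F) : ext0 u (Fin.last m) = 0 := by
  simp [ext0]

theorem ext0_add (u v : Fin m → F) : ext0 (u + v) = ext0 u + ext0 v := by
  funext i
  refine Fin.lastCases ?_ (fun i' => ?_) i <;> simp

theorem ext0_zero : ext0 (0 : Fin m → F) = 0 := by
  funext i
  refine Fin.lastCases ?_ (fun i' => ?_) i <;> simp

theorem ext0_injective : Function.Injective (ext0 : (Fin m → F) → (Fin (m + 1) → F)) := by
  intro u v h
  funext i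
  have := congrFun h (Fin.castSucc i)
  simpa using this

/-- the basis vector `e_*` of `F^(m+1)` -/
def estar (m : ℕ) (F : Type*) [Field F] : Fin (m + 1) → F := Pi.single (Fin.last m) 1

@[simp] theorem estar_last : estar m F (Fin.last m) = 1 := by simp [estar]

@[simp] theorem estar_castSucc (i : Fin m) : estar m F (Fin.castSucc i) = 0 := by
  simp [estar, Fin.castSucc_ne_last]

theorem ext0_dot_estar (u : Fin m → F) : ext0 u ⬝ᵥ estar m F = 0 := by
  simp [estar]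

theorem estar_dot_ext0 (u : Fin m → F) : estar m F ⬝ᵥ ext0 u = 0 := by
  simp [estar]

/-! ### `n = m + 1`: additive subgroups of symmetric matrices -/

/-- `c ↦ c • E_ii` as an additive hom -/
def symEHom (i : Fin n) : F →+ Symm n F where
  toFun c := symE i c
  map_zero' := by
    apply Subtype.ext
    simp
  map_add' c d := symE_add i c d

/-- symmetric matrices with zero last row and column: `X = X'' ⊕ 0` -/
def symPP (m : ℕ) (F : Type*) [Field F] : AddSubgroup (Symm (m + 1) F) where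
  carrier := {X | ∀ i, (X : Matrix (Fin (m + 1)) (Fin (m + 1)) F) i (Fin.last m) = 0}
  add_mem' := by
    intro X Y hX hY i
    simp only [Set.mem_ofPred_eq] at hX hY
    simp [hX i, hY i]
  zero_mem' := by
    intro i
    simp
  neg_mem' := by
    intro X hX i
    simp only [Set.mem_ofPred_eq] at hX
    simp [hX i]

theorem mem_symPP {X : Symm (m + 1) F} :
    X ∈ symPP m F ↔ ∀ i, (X : Matrix (Fin (m + 1)) (Fin (m + 1)) F) i (Fin.last m) = 0 := Iff.rfl

theorem symPP_row {X : Symm (m + 1) F} (hX : X ∈ symPP m F) (j : Fin (m + 1)) :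
    (X : Matrix (Fin (m + 1)) (Fin (m + 1)) F) (Fin.last m) j = 0 := by
  have h1 : (X : Matrix (Fin (m + 1)) (Fin (m + 1)) F)ᵀ = X := (mem_Symm _ _).1 X.2
  have h2 := congrFun (congrFun h1 (Fin.last m)) j
  rw [Matrix.transpose_apply] at h2
  rw [← h2]
  exact hX j

/-- symmetric matrices supported on the last row and column: `X_ij = 0` for `i, j ≠ *` -/
def symA (m : ℕ) (F : Type*) [Field F] : AddSubgroup (Symm (m + 1) F) where
  carrier := {X | ∀ i j : Fin m,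
    (X : Matrix (Fin (m + 1)) (Fin (m + 1)) F) (Fin.castSucc i) (Fin.castSucc j) = 0}
  add_mem' := by
    intro X Y hX hY i j
    simp only [Set.mem_ofPred_eq] at hX hY
    simp [hX i j, hY i j]
  zero_mem' := by
    intro i j
    simp
  neg_mem' := by
    intro X hX i j
    simp only [Set.mem_ofPred_eq] at hX
    simp [hX i j]

theorem mem_symA {X : Symm (m + 1) F} :
    X ∈ symA m F ↔ ∀ i j : Fin m,
      (X : Matrix (Fin (m + 1)) (Fin (m + 1)) F) (Fin.castSucc i) (Fin.castSucc j) = 0 := Iff.rfl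

/-- `x ↦ e_* xᵀ + x e_*ᵀ` (`x_* = 0`) as an additive hom -/
def symXHom (m : ℕ) (F : Type*) [Field F] : (Fin m → F) →+ Symm (m + 1) F where
  toFun x := symX (Fin.last m) (ext0 x)
  map_zero' := by
    apply Subtype.ext
    simp [ext0_zero]
  map_add' x y := by
    rw [ext0_add, symX_add]

theorem symXHom_apply (x : Fin m → F) : symXHom m F x = symX (Fin.last m) (ext0 x) := rfl

/-- the symmetric matrices `e_* xᵀ + x e_*ᵀ`, `x_* = 0` -/
def symA' (m : ℕ) (F : Type*) [Field F] : AddSubgroup (Symm (m + 1) F) := (symXHom m F).range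

/-- the symmetric matrices `c E_ii` -/
def symU (i : Fin n) : AddSubgroup (Symm n F) := (symEHom (F := F) i).range

theorem symE_mem_symU (i : Fin n) (c : F) : symE i c ∈ symU (F := F) i := ⟨c, rfl⟩

theorem mem_symU {i : Fin n} {X : Symm n F} : X ∈ symU i ↔ ∃ c : F, symE i c = X := Iff.rfl

theorem mem_symA' {X : Symm (m + 1) F} :
    X ∈ symA' m F ↔ ∃ x : Fin m → F, symX (Fin.last m) (ext0 x) = X := Iff.rfl

/-! ### `n = m + 1`: the subgroups of `Sp_2n(F)` of route U -/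

/-- the root group `U_j = {t(c E_jj)}` -/
noncomputable def Uj (i : Fin n) : Subgroup (Sp n F) := tSub (symU i)

/-- the opposite root group `U_j⁻ = {t⁻(c E_jj)}` -/
noncomputable def Ujm (i : Fin n) : Subgroup (Sp n F) := tmSub (symU i)

/-- the long root group `U1 = {t(c E_**)}` -/
noncomputable def U1 (m : ℕ) (F : Type*) [Field F] : Subgroup (Sp (m + 1) F) := Uj (Fin.last m)

/-- the opposite long root group `U1⁻ = {t⁻(c E_**)}` -/
noncomputable def U1m (m : ℕ) (F : Type*) [Field F] : Subgroup (Sp (m + 1) F) := Ujm (Fin.last m)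

/-- `K1 = ⟨U1, U1⁻⟩` (`= SL_2` on `⟨e_*, f_*⟩`) -/
noncomputable def K1 (m : ℕ) (F : Type*) [Field F] : Subgroup (Sp (m + 1) F) := U1 m F ⊔ U1m m F

/-- `S = Sp_2m` on the coordinates `≠ *` (range of helper2's `psi`) -/
noncomputable def Ss (m : ℕ) (F : Type*) [Field F] : Subgroup (Sp (m + 1) F) :=
  (Cfsg.Agent.Lib.H2.Sp.psi (F := F) (m := m)).range

/-- `Q'' = Q ∩ S = {t(X) : X_i* = 0}` -/
noncomputable def Qpp (m : ℕ) (F : Type*) [Field F] : Subgroup (Sp (m + 1) F) := tSub (symPP m F)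

/-- `A = {t(X) : X_ij = 0 for i, j ≠ *}` -/
noncomputable def As (m : ℕ) (F : Type*) [Field F] : Subgroup (Sp (m + 1) F) := tSub (symA m F)

/-- `A' = {t(e_* xᵀ + x e_*ᵀ) : x_* = 0}` (so `A = U1 × A'`) -/
noncomputable def As' (m : ℕ) (F : Type*) [Field F] : Subgroup (Sp (m + 1) F) := tSub (symA' m F)

/-- `GL'' = {l(diag(g'', 1))}` -/
noncomputable def GLpp (m : ℕ) (F : Type*) [Field F] : Subgroup (Sp (m + 1) F) :=
  ((lHom (F := F) (m + 1)).comp glPP).range

/-- `T1 = {l(diag(1, …, 1, s))}` -/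
noncomputable def T1 (m : ℕ) (F : Type*) [Field F] : Subgroup (Sp (m + 1) F) :=
  ((lHom (F := F) (m + 1)).comp (glT1 (m := m))).range

/-- `m1 = l(diag(1, …, 1, -1))` -/
noncomputable def m1 (m : ℕ) (F : Type*) [Field F] : Sp (m + 1) F := lEl (glT1 (m := m) (-1))

/-- `l(1 + e_* uᵀ)`, `u_* = 0` (last ROW of the `GL`-matrix is `(u, 1)`) -/
noncomputable def r1El (u : Fin m → F) : Sp (m + 1) F :=
  lEl (glTv (estar m F) (ext0 u) (ext0_dot_estar u))

/-- `l(1 + u e_*ᵀ)`, `u_* = 0` (last COLUMN of the `GL`-matrix is `(u, 1)`) -/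
noncomputable def rmEl (u : Fin m → F) : Sp (m + 1) F :=
  lEl (glTv (ext0 u) (estar m F) (estar_dot_ext0 u))

theorem glTv_estar_add (u v : Fin m → F) :
    glTv (estar m F) (ext0 (u + v)) (ext0_dot_estar (u + v)) =
      glTv (estar m F) (ext0 u) (ext0_dot_estar u) * glTv (estar m F) (ext0 v) (ext0_dot_estar v) := by
  apply Units.ext
  rw [Units.val_mul, glTv_val, glTv_val, glTv_val, Matrix.add_mul, Matrix.one_mul, Matrix.mul_add,
    Matrix.mul_one, Matrix.vecMulVec_mul_vecMulVec, ext0_dot_estar, zero_smul,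
    Matrix.vecMulVec_zero, ext0_add, Matrix.vecMulVec_add]
  abel

theorem glTv_ext0_add (u v : Fin m → F) :
    glTv (ext0 (u + v)) (estar m F) (estar_dot_ext0 (u + v)) =
      glTv (ext0 u) (estar m F) (estar_dot_ext0 u) * glTv (ext0 v) (estar m F) (estar_dot_ext0 v) := by
  apply Units.ext
  rw [Units.val_mul, glTv_val, glTv_val, glTv_val, Matrix.add_mul, Matrix.one_mul, Matrix.mul_add,
    Matrix.mul_one, Matrix.vecMulVec_mul_vecMulVec, estar_dot_ext0, zero_smul,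
    Matrix.vecMulVec_zero, ext0_add, Matrix.add_vecMulVec]
  abel

theorem r1El_add (u v : Fin m → F) : (r1El (u + v) : Sp (m + 1) F) = r1El u * r1El v := by
  rw [r1El, r1El, r1El, glTv_estar_add, ← lHom_apply, ← lHom_apply, ← lHom_apply, map_mul]

theorem rmEl_add (u v : Fin m → F) : (rmEl (u + v) : Sp (m + 1) F) = rmEl u * rmEl v := by
  rw [rmEl, rmEl, rmEl, glTv_ext0_add, ← lHom_apply, ← lHom_apply, ← lHom_apply, map_mul]

theorem r1El_zero : (r1El (0 : Fin m → F) : Sp (m + 1) F) = 1 := by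
  have h := r1El_add (0 : Fin m → F) 0
  rw [add_zero] at h
  exact (mul_eq_left.1 h.symm)

theorem rmEl_zero : (rmEl (0 : Fin m → F) : Sp (m + 1) F) = 1 := by
  have h := rmEl_add (0 : Fin m → F) 0
  rw [add_zero] at h
  exact (mul_eq_left.1 h.symm)

/-- `u ↦ r1El u` as a monoid hom -/
noncomputable def r1Hom (m : ℕ) (F : Type*) [Field F] : Multiplicative (Fin m → F) →* Sp (m + 1) F where
  toFun u := r1El (Multiplicative.toAdd u)
  map_one' := r1El_zero
  map_mul' _ _ := r1El_add _ _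

/-- `u ↦ rmEl u` as a monoid hom -/
noncomputable def rmHom (m : ℕ) (F : Type*) [Field F] : Multiplicative (Fin m → F) →* Sp (m + 1) F where
  toFun u := rmEl (Multiplicative.toAdd u)
  map_one' := rmEl_zero
  map_mul' _ _ := rmEl_add _ _

/-- `R1 = {l(1 + e_* uᵀ) : u_* = 0}` -/
noncomputable def R1 (m : ℕ) (F : Type*) [Field F] : Subgroup (Sp (m + 1) F) := (r1Hom m F).range

/-- `R⁻ = {l(1 + u e_*ᵀ) : u_* = 0}` -/
noncomputable def Rm (m : ℕ) (F : Type*) [Field F] : Subgroup (Sp (m + 1) F) := (rmHom m F).range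

/-- the Heisenberg group `H = A R1` -/
noncomputable def Hs (m : ℕ) (F : Type*) [Field F] : Subgroup (Sp (m + 1) F) := As m F ⊔ R1 m F

/-- `w_j* = l(permutation matrix of (j *))` -/
noncomputable def wj (j : Fin (m + 1)) : Sp (m + 1) F := lEl (glSwap j (Fin.last m))

theorem w1Mat_mem (m : ℕ) (F : Type*) [Field F] :
    fromBlocks (1 - Matrix.single (Fin.last m) (Fin.last m) (1 : F))
      (Matrix.single (Fin.last m) (Fin.last m) (1 : F))
      (- Matrix.single (Fin.last m) (Fin.last m) (1 : F))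
      (1 - Matrix.single (Fin.last m) (Fin.last m) (1 : F)) ∈
        Matrix.symplecticGroup (Fin (m + 1)) F := by
  have hE : Matrix.single (Fin.last m) (Fin.last m) (1 : F) *
      Matrix.single (Fin.last m) (Fin.last m) (1 : F) = Matrix.single (Fin.last m) (Fin.last m) 1 := by
    rw [Matrix.single_mul_single_same, mul_one]
  rw [SymplecticGroup.fromBlocks_mem_iff]
  simp only [Matrix.transpose_sub, Matrix.transpose_one, Matrix.transpose_single,
    Matrix.transpose_neg, Matrix.sub_mul, Matrix.mul_sub, Matrix.one_mul, Matrix.mul_one,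
    Matrix.neg_mul, Matrix.mul_neg, hE]
  refine ⟨?_, trivial, ?_⟩
  · rw [sub_self, sub_self, neg_zero]
  · rw [sub_self, sub_zero, sub_neg_eq_add, sub_add_cancel]

/-- the Weyl element `w1` of `K1`: `e_* ↦ -f_*`, `f_* ↦ e_*`, identity on the other coordinates -/
noncomputable def w1 (m : ℕ) (F : Type*) [Field F] : Sp (m + 1) F :=
  ⟨_, w1Mat_mem m F⟩

theorem w1_val (m : ℕ) (F : Type*) [Field F] :
    ((w1 m F : Sp (m + 1) F) : Matrix (Fin (m + 1) ⊕ Fin (m + 1)) (Fin (m + 1) ⊕ Fin (m + 1)) F) =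
      fromBlocks (1 - Matrix.single (Fin.last m) (Fin.last m) (1 : F))
        (Matrix.single (Fin.last m) (Fin.last m) (1 : F))
        (- Matrix.single (Fin.last m) (Fin.last m) (1 : F))
        (1 - Matrix.single (Fin.last m) (Fin.last m) (1 : F)) := rfl

/-! ### membership lemmas -/

theorem mem_Uj {i : Fin n} {g : Sp n F} : g ∈ Uj i ↔ ∃ c : F, tEl (symE i c) = g := by
  rw [Uj, mem_tSub]
  constructor
  · rintro ⟨X, ⟨c, rfl⟩, h⟩; exact ⟨c, h⟩
  · rintro ⟨c, h⟩; exact ⟨_, ⟨c, rfl⟩, h⟩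

theorem mem_Ujm {i : Fin n} {g : Sp n F} : g ∈ Ujm i ↔ ∃ c : F, tmEl (symE i c) = g := by
  rw [Ujm, mem_tmSub]
  constructor
  · rintro ⟨X, ⟨c, rfl⟩, h⟩; exact ⟨c, h⟩
  · rintro ⟨c, h⟩; exact ⟨_, ⟨c, rfl⟩, h⟩

theorem mem_U1 {g : Sp (m + 1) F} : g ∈ U1 m F ↔ ∃ c : F, tEl (symE (Fin.last m) c) = g := mem_Uj

theorem mem_U1m {g : Sp (m + 1) F} : g ∈ U1m m F ↔ ∃ c : F, tmEl (symE (Fin.last m) c) = g :=
  mem_Ujm

theorem mem_Ss {g : Sp (m + 1) F} :
    g ∈ Ss m F ↔ ∃ B : Sp m F, Cfsg.Agent.Lib.H2.Sp.psi B = g := Iff.rfl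

theorem mem_Qpp {g : Sp (m + 1) F} : g ∈ Qpp m F ↔ ∃ X ∈ symPP m F, tEl X = g := mem_tSub

theorem mem_As {g : Sp (m + 1) F} : g ∈ As m F ↔ ∃ X ∈ symA m F, tEl X = g := mem_tSub

theorem mem_As' {g : Sp (m + 1) F} :
    g ∈ As' m F ↔ ∃ x : Fin m → F, tEl (symX (Fin.last m) (ext0 x)) = g := by
  rw [As', mem_tSub]
  constructor
  · rintro ⟨X, ⟨x, rfl⟩, h⟩; exact ⟨x, h⟩
  · rintro ⟨x, h⟩; exact ⟨_, ⟨x, rfl⟩, h⟩

theorem mem_GLpp {g : Sp (m + 1) F} : g ∈ GLpp m F ↔ ∃ h : GL (Fin m) F, lEl (glPP h) = g := Iff.rfl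

theorem mem_T1 {g : Sp (m + 1) F} : g ∈ T1 m F ↔ ∃ s : Fˣ, lEl (glT1 (m := m) s) = g := Iff.rfl

theorem mem_R1 {g : Sp (m + 1) F} : g ∈ R1 m F ↔ ∃ u : Fin m → F, r1El u = g := by
  constructor
  · rintro ⟨u, rfl⟩; exact ⟨Multiplicative.toAdd u, rfl⟩
  · rintro ⟨u, rfl⟩; exact ⟨Multiplicative.ofAdd u, rfl⟩

theorem mem_Rm {g : Sp (m + 1) F} : g ∈ Rm m F ↔ ∃ u : Fin m → F, rmEl u = g := by
  constructor
  · rintro ⟨u, rfl⟩; exact ⟨Multiplicative.toAdd u, rfl⟩
  · rintro ⟨u, rfl⟩; exact ⟨Multiplicative.ofAdd u, rfl⟩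

theorem m1_mem_T1 : m1 m F ∈ T1 m F := ⟨-1, rfl⟩

theorem U1_le_K1 : U1 m F ≤ K1 m F := le_sup_left

theorem U1m_le_K1 : U1m m F ≤ K1 m F := le_sup_right

theorem As_le_Hs : As m F ≤ Hs m F := le_sup_left

theorem R1_le_Hs : R1 m F ≤ Hs m F := le_sup_right

theorem Uj_le_Qs (i : Fin n) : Uj (F := F) i ≤ Qs n F := tSub_mono le_top

theorem Qpp_le_Qs : Qpp m F ≤ Qs (m + 1) F := tSub_mono le_top

theorem As_le_Qs : As m F ≤ Qs (m + 1) F := tSub_mono le_top

theorem As'_le_As : As' m F ≤ As m F := by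
  apply tSub_mono
  rintro X ⟨x, rfl⟩
  intro i j
  rw [symXHom_apply, symX_val]
  simp [Matrix.vecMulVec_apply, Fin.castSucc_ne_last]

theorem U1_le_As : U1 m F ≤ As m F := by
  apply tSub_mono
  rintro X ⟨c, rfl⟩
  intro i j
  show (symE (Fin.last m) c : Symm (m + 1) F).1 _ _ = 0
  rw [symE_val, Matrix.single_apply_of_ne]
  intro h
  exact Fin.castSucc_ne_last i h.1.symm

theorem GLpp_le_Ls : GLpp m F ≤ Ls (m + 1) F := by
  rintro g ⟨h, rfl⟩
  exact ⟨glPP h, rfl⟩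

theorem T1_le_Ls : T1 m F ≤ Ls (m + 1) F := by
  rintro g ⟨s, rfl⟩
  exact ⟨glT1 s, rfl⟩

theorem R1_le_Ls : R1 m F ≤ Ls (m + 1) F := by
  rintro g hg
  obtain ⟨u, rfl⟩ := mem_R1.1 hg
  exact ⟨_, rfl⟩

theorem Rm_le_Ls : Rm m F ≤ Ls (m + 1) F := by
  rintro g hg
  obtain ⟨u, rfl⟩ := mem_Rm.1 hg
  exact ⟨_, rfl⟩

theorem wj_mem_Ls (j : Fin (m + 1)) : (wj j : Sp (m + 1) F) ∈ Ls (m + 1) F := ⟨_, rfl⟩

end Cfsg.Agent.Lib.H11.SpU
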