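import Mathlib
import Cfsg.Prelude.Def_FusionSystem
import Cfsg.Agent.Lib.H26.SuperFusion

/-!
# S5289 (helper11): a subgroup with an `Aut_F`-invariant chain with cyclic factors is not essential

The tail of helper26's `H26.SuperFusion.not_essential_of_descChain`, for an arbitrary `CycData`.
-/

set_option autoImplicit false

namespace Cfsg.Agent.Lib.H11.RK2

open Cfsg Cfsg.FusionSystem Cfsg.Agent.Lib.H25 Cfsg.Agent.Lib.H26 Cfsg.Agent.Lib.H26.CycChain
  Cfsg.Agent.Lib.H26.ChainStab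

variable {Ω : Type*} [Group Ω] {S : Subgroup Ω}

theorem not_essential_of_cycData [Finite S] {p : ℕ} [Fact p.Prime] (hS : IsPGroup p S)
    {F : FusionSystem S} (hF : F.IsSaturated p) {R : Subgroup Ω} (hess : F.IsEssential p R)
    (cc : ℕ → Subgroup ↥R) (m : ℕ) (hcd : CycData (F.autGroup R) cc) (h0' : cc 0 = ⊤)
    (hm' : cc m = ⊥) : False := by
  have hRS : R ≤ S := hess.1.1
  have hfinR : Finite R := finite_of_le S hRS
  have hRp : IsPGroup p R := hS.to_le hRS
  let K : Subgroup (MulAut R) := F.autGroup R ⊓ chainStab cc hcd.mono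
  have hKp : IsPGroup p K :=
    isPGroup_of_stabilizes hRp hcd.mono m h0' hm' K (fun α hα => hα.2)
  have hTp : IsPGroup p (autInducedBy S R) := Cfsg.Agent.Lib.H25.autInducedBy_isPGroup hS R
  have hTle : autInducedBy S R ≤ F.autGroup R := autInducedBy_le_autGroup F hRS
  have hKn : ∀ α ∈ F.autGroup R, ∀ κ ∈ K, α * κ * α⁻¹ ∈ K := by
    intro α hα κ hκ
    refine ⟨Subgroup.mul_mem _ (Subgroup.mul_mem _ hα hκ.1) (Subgroup.inv_mem _ hα), ?_⟩
    intro i x hx
    have hy : α⁻¹ x ∈ cc i := hcd.inv i α⁻¹ (Subgroup.inv_mem _ hα) x hx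
    have h1 := hκ.2 i (α⁻¹ x) hy
    have h2 := hcd.inv (i + 1) α hα _ h1
    have e : α ((α⁻¹ x)⁻¹ * κ (α⁻¹ x)) = x⁻¹ * (α * κ * α⁻¹) x := by
      rw [map_mul, map_inv, MulAut.apply_inv_self, MulAut.mul_apply, MulAut.mul_apply]
    rw [e] at h2
    exact h2
  let N : Subgroup (MulAut R) := K ⊔ autInducedBy S R
  have hNp : IsPGroup p N := by
    apply IsPGroup.to_sup_of_normal_left' hKp hTp
    intro τ hτ
    apply Cfsg.Agent.Lib.H26.mem_normalizer_of_conj_mem
    · intro κ hκ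
      exact hKn τ (hTle hτ) κ hκ
    · intro κ hκ
      have := hKn τ⁻¹ (Subgroup.inv_mem _ (hTle hτ)) κ hκ
      rwa [inv_inv] at this
  have hNG : N ≤ F.autGroup R := sup_le inf_le_left hTle
  have hNnorm : ∀ α ∈ F.autGroup R, ∀ γ ∈ N, α * γ * α⁻¹ ∈ N := by
    intro α hα γ hγ
    have hγG := hNG hγ
    have h1 : α * γ * α⁻¹ * γ⁻¹ ∈ K :=
      ⟨Subgroup.mul_mem _ (Subgroup.mul_mem _ (Subgroup.mul_mem _ hα hγG) (Subgroup.inv_mem _ hα))
        (Subgroup.inv_mem _ hγG), stabilizes_commutator hcd hα hγG⟩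
    have e : α * γ * α⁻¹ = (α * γ * α⁻¹ * γ⁻¹) * γ := by group
    rw [e]
    exact Subgroup.mul_mem _ (Subgroup.mem_sup_left h1) hγ
  exact not_essential_of_normal_pgroup hS hF hess N hNG hNnorm hNp le_sup_right

end Cfsg.Agent.Lib.H11.RK2
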