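import Mathlib

/-!
# S5289 (rank two `p`-groups, `p ≥ 5`, are resistant) — shared definitions (helper11)

Blackburn's types `T2` (`C(p,n)`) and `T3` (`G(p,n;ε)`) of S3888, bundled as `Prop`-structures on
generators `x y z` of a finite group `G`.
-/

set_option autoImplicit false

namespace Cfsg.Agent.Lib.H11.RK2

/-- Blackburn type T2: `G = ⟨x,y,z⟩` of order `p^n`, `n ≥ 3`, `x^p = y^p = z^(p^(n-2)) = 1`, `z` central,
`x⁻¹yx = y z^(p^(n-3))`. -/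
structure T2 {G : Type*} [Group G] (p n : ℕ) (x y z : G) : Prop where
  hp : p ≠ 2
  hn : 3 ≤ n
  card : Nat.card G = p ^ n
  gen : Subgroup.closure ({x, y, z} : Set G) = ⊤
  hx : x ^ p = 1
  hy : y ^ p = 1
  hz : z ^ p ^ (n - 2) = 1
  hxz : x * z = z * x
  hyz : y * z = z * y
  hxy : x⁻¹ * y * x = y * z ^ p ^ (n - 3)

/-- Blackburn type T3: `G = ⟨x,y,z⟩` of order `p^n`, `n ≥ 4`, `p ≥ 5`, `x^p = y^p = z^(p^(n-2)) = 1`,
`yz = zy`, `x⁻¹yx = y z^(s p^(n-3))`, `x⁻¹zx = yz`, `p ∤ s`. -/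
structure T3 {G : Type*} [Group G] (p n s : ℕ) (x y z : G) : Prop where
  hp : 5 ≤ p
  hn : 4 ≤ n
  hs : ¬ p ∣ s
  card : Nat.card G = p ^ n
  gen : Subgroup.closure ({x, y, z} : Set G) = ⊤
  hx : x ^ p = 1
  hy : y ^ p = 1
  hz : z ^ p ^ (n - 2) = 1
  hyz : y * z = z * y
  hxy : x⁻¹ * y * x = y * z ^ (s * p ^ (n - 3))
  hxz : x⁻¹ * z * x = y * z

end Cfsg.Agent.Lib.H11.RK2
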