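import Mathlib
import Cfsg.Prelude.Def_OddOrderLocal
import Cfsg.Prelude.Def_CaseTheorems
import Cfsg.Prelude.Def_PLocal
import Cfsg.Agent.Lib.H19.R2Defs

/-!
# S3888 farm-out (helper11): shared lemmas for pieces ALPHAT2 / ALPHAT3

* `card_dvd_of_gens`: a finite group generated by `x, y, z` with `y z = z y` and `x⁻¹ y x, x⁻¹ z x ∈ ⟨y, z⟩` has order
  dividing `o(x) o(y) o(z)`.
* `lift_commute`: under (H2), with `Z = N ∩ Z(G)` of order `p`, if `G / Z` has a central element `f` with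
  `f ^ p ≠ 1 = f ^ (p * p)` then any two elements of `G / Z` killed by `p` commute.
-/

set_option autoImplicit false

namespace Cfsg.Agent.Lib.H11.R2

open Cfsg Cfsg.Agent.Lib.H19.R2
open scoped commutatorElement

universe u

section count

variable {Q : Type*} [Group Q]

theorem card_sup_dvd_nrm {H N : Subgroup Q} (h : H ≤ Subgroup.normalizer (N : Set Q)) :
    Nat.card (H ⊔ N : Subgroup Q) ∣ Nat.card H * Nat.card N := by
  have := Subgroup.normal_subgroupOf_of_le_normalizer h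
  have := Subgroup.normal_subgroupOf_sup_of_le_normalizer h
  have h0 : N.relIndex (H ⊔ N) = N.relIndex H := by
    unfold Subgroup.relIndex Subgroup.index
    exact (Nat.card_congr (QuotientGroup.quotientInfEquivProdNormalizerQuotient H N h).toEquiv).symm
  have h1 : Nat.card N * N.relIndex (H ⊔ N) = Nat.card (H ⊔ N : Subgroup Q) := by
    have := Subgroup.relIndex_mul_relIndex ⊥ N (H ⊔ N) bot_le le_sup_right
    rwa [Subgroup.relIndex_bot_left, Subgroup.relIndex_bot_left] at this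
  rw [← h1, h0, mul_comm]
  exact Nat.mul_dvd_mul_right (Subgroup.relIndex_dvd_card N H) _

theorem card_dvd_of_gens [Finite Q] (x y z : Q)
    (hgen : Subgroup.closure ({x, y, z} : Set Q) = ⊤) (hyz : y * z = z * y)
    (hy : x⁻¹ * y * x ∈ Subgroup.zpowers y ⊔ Subgroup.zpowers z)
    (hz : x⁻¹ * z * x ∈ Subgroup.zpowers y ⊔ Subgroup.zpowers z) :
    Nat.card Q ∣ orderOf x * (orderOf y * orderOf z) := by
  obtain ⟨A, hA⟩ : ∃ A : Subgroup Q, A = Subgroup.zpowers y ⊔ Subgroup.zpowers z := ⟨_, rfl⟩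
  have h1 : Nat.card A ∣ orderOf y * orderOf z := by
    have hn : Subgroup.zpowers y ≤ Subgroup.normalizer (Subgroup.zpowers z : Set Q) := by
      rw [Subgroup.zpowers_le]
      apply Subgroup.mem_normalizer_fintype
      intro n hn
      obtain ⟨k, rfl⟩ := Subgroup.mem_zpowers_iff.mp hn
      have hc : Commute y (z ^ k) := (show Commute y z from hyz).zpow_right k
      have : y * z ^ k * y⁻¹ = z ^ k := by rw [hc.eq, mul_inv_cancel_right]
      rw [this]; exact hn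
    have := card_sup_dvd_nrm hn
    rwa [Nat.card_zpowers, Nat.card_zpowers, ← hA] at this
  have h2 : x⁻¹ ∈ Subgroup.normalizer (A : Set Q) := by
    apply Subgroup.mem_normalizer_fintype
    intro a ha
    have hmap : A.map (MulAut.conj x⁻¹).toMonoidHom ≤ A := by
      rw [hA, Subgroup.map_sup, MonoidHom.map_zpowers, MonoidHom.map_zpowers]
      apply sup_le
      · rw [Subgroup.zpowers_le]
        show (MulAut.conj x⁻¹) y ∈ _
        rw [MulAut.conj_apply, inv_inv]; exact hy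
      · rw [Subgroup.zpowers_le]
        show (MulAut.conj x⁻¹) z ∈ _
        rw [MulAut.conj_apply, inv_inv]; exact hz
    have : (MulAut.conj x⁻¹) a ∈ A := hmap (Subgroup.mem_map_of_mem _ ha)
    rwa [MulAut.conj_apply] at this
  have h3 : Subgroup.zpowers x ≤ Subgroup.normalizer (A : Set Q) := by
    rw [Subgroup.zpowers_le]
    have := (Subgroup.normalizer (A : Set Q)).inv_mem h2
    rwa [inv_inv] at this
  have h4 := card_sup_dvd_nrm h3
  rw [Nat.card_zpowers] at h4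
  have h5 : Subgroup.zpowers x ⊔ A = ⊤ := by
    rw [eq_top_iff, ← hgen, Subgroup.closure_le]
    intro g hg
    rcases hg with rfl | rfl | rfl
    · exact (le_sup_left : Subgroup.zpowers g ≤ _) (Subgroup.mem_zpowers g)
    · apply (le_sup_right : A ≤ Subgroup.zpowers x ⊔ A)
      rw [hA]
      exact (le_sup_left : Subgroup.zpowers g ≤ _) (Subgroup.mem_zpowers g)
    · apply (le_sup_right : A ≤ Subgroup.zpowers x ⊔ A)
      rw [hA]
      exact (le_sup_right : Subgroup.zpowers g ≤ _) (Subgroup.mem_zpowers g)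
  rw [h5, Subgroup.card_top] at h4
  exact h4.trans (Nat.mul_dvd_mul_left _ h1)

/-- `a b = c b a` with `c` central: `aᵐ b = cᵐ b aᵐ`. -/
theorem lift_semi_left {a b c : Q} (hc : ∀ g : Q, c * g = g * c) (h : a * b = c * b * a) (m : ℕ) :
    a ^ m * b = c ^ m * b * a ^ m := by
  induction m with
  | zero => simp
  | succ m ih =>
    calc a ^ (m + 1) * b = a ^ m * (a * b) := by rw [pow_succ, mul_assoc]
      _ = a ^ m * (c * (b * a)) := by rw [h]; simp only [mul_assoc]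
      _ = (a ^ m * c) * (b * a) := by rw [mul_assoc]
      _ = (c * a ^ m) * (b * a) := by rw [hc (a ^ m)]
      _ = c * (a ^ m * b) * a := by simp only [mul_assoc]
      _ = c * (c ^ m * b * a ^ m) * a := by rw [ih]
      _ = (c * c ^ m) * b * (a ^ m * a) := by simp only [mul_assoc]
      _ = c ^ (m + 1) * b * a ^ (m + 1) := by rw [← pow_succ', ← pow_succ]

end count

variable {p : ℕ} [Fact p.Prime] {G : Type u} [Group G] [Finite G]

omit [Finite G] in
/-- the order of `G ⧸ Z` -/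
theorem card_quot_of_card (Z : Subgroup G) [Z.Normal] {n : ℕ} (hn : 1 ≤ n)
    (hcard : Nat.card G = p ^ n) (hZp : Nat.card Z = p) : Nat.card (G ⧸ Z) = p ^ (n - 1) := by
  have hpp : p.Prime := Fact.out
  have h1 := Subgroup.card_eq_card_quotient_mul_card_subgroup Z
  rw [hcard, hZp] at h1
  have h2 : p ^ n = p ^ (n - 1) * p := by rw [← pow_succ]; congr 1; omega
  rw [h2] at h1
  exact (Nat.eq_of_mul_eq_mul_right hpp.pos h1).symm

theorem lift_commute {N : Subgroup G} (h : H2 p G N) (Z : Subgroup G) [Z.Normal]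
    (hZ : Z = N ⊓ Subgroup.center G) (hZp : Nat.card Z = p) (f : G ⧸ Z)
    (hfc : ∀ g : G ⧸ Z, f * g = g * f) (hf1 : f ^ p ≠ 1) (hf2 : f ^ (p * p) = 1)
    (x y : G ⧸ Z) (hx : x ^ p = 1) (hy : y ^ p = 1) : x * y = y * x := by
  have hpp : p.Prime := Fact.out
  obtain ⟨f₁, rfl⟩ := QuotientGroup.mk_surjective f
  have hZc : ∀ c ∈ Z, ∀ g : G, c * g = g * c := by
    intro c hc g
    rw [hZ] at hc
    exact ((Subgroup.mem_center_iff.mp hc.2) g).symm
  have hZe : ∀ c ∈ Z, c ^ p = 1 := by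
    intro c hc
    rw [hZ] at hc
    exact h.1.exp c hc.1
  have key1 : ∀ g : G, f₁ * g * f₁⁻¹ * g⁻¹ ∈ Z := by
    intro g
    rw [← QuotientGroup.eq_one_iff]
    have := hfc (g : G ⧸ Z)
    rw [QuotientGroup.mk_mul, QuotientGroup.mk_mul, QuotientGroup.mk_mul, QuotientGroup.mk_inv,
      QuotientGroup.mk_inv, this]
    group
  have key2 : ∀ g : G, f₁ ^ p * g = g * f₁ ^ p := by
    intro g
    have hrel : f₁ * g = (f₁ * g * f₁⁻¹ * g⁻¹) * g * f₁ := by group
    have := lift_semi_left (hZc _ (key1 g)) hrel p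
    rw [this, hZe _ (key1 g), one_mul]
  obtain ⟨n₀, hn₀⟩ : ∃ n₀ : G, n₀ = f₁ ^ p := ⟨_, rfl⟩
  rw [← hn₀] at key2
  have hn₀Z : n₀ ∉ Z := by
    intro hmem
    apply hf1
    rw [← QuotientGroup.mk_pow, ← hn₀]
    exact (QuotientGroup.eq_one_iff n₀).mpr hmem
  have hn₀pZ : n₀ ^ p ∈ Z := by
    rw [← QuotientGroup.eq_one_iff, hn₀, ← pow_mul, QuotientGroup.mk_pow]
    exact hf2
  have hn₀p1 : n₀ ^ p ≠ 1 := by
    intro h1
    apply hn₀Z
    rw [hZ]
    refine ⟨h.2 n₀ h1, ?_⟩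
    show n₀ ∈ Subgroup.center G
    rw [Subgroup.mem_center_iff]
    intro g
    exact (key2 g).symm
  have hgenZ : ∀ c ∈ Z, ∃ k : ℕ, c = (n₀ ^ p) ^ k := by
    intro c hc
    have ho : orderOf (n₀ ^ p) = p := orderOf_eq_prime (hZe _ hn₀pZ) hn₀p1
    have hzp : Subgroup.zpowers (n₀ ^ p) = Z := by
      apply Subgroup.eq_of_le_of_card_ge
      · rw [Subgroup.zpowers_le]; exact hn₀pZ
      · rw [Nat.card_zpowers, ho, hZp]
    rw [← hzp] at hc
    have hc' : c ∈ Submonoid.powers (n₀ ^ p) := mem_powers_iff_mem_zpowers.mpr hc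
    obtain ⟨k, rfl⟩ := (Submonoid.mem_powers_iff _ _).mp hc'
    exact ⟨k, rfl⟩
  have hadj : ∀ x₁ : G, ((x₁ : G ⧸ Z)) ^ p = 1 → ∃ k : ℕ, x₁ * (n₀ ^ k)⁻¹ ∈ N := by
    intro x₁ hx₁
    have hxZ : x₁ ^ p ∈ Z := by
      rw [← QuotientGroup.eq_one_iff, QuotientGroup.mk_pow]; exact hx₁
    obtain ⟨k, hk⟩ := hgenZ _ hxZ
    refine ⟨k, h.2 _ ?_⟩
    have hcm : Commute x₁ (n₀ ^ k)⁻¹ :=
      ((show Commute n₀ x₁ from key2 x₁).pow_left k).inv_left.symm
    rw [hcm.mul_pow, hk, inv_pow, ← pow_mul, ← pow_mul, mul_comm p k, mul_inv_cancel]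
  obtain ⟨x₁, rfl⟩ := QuotientGroup.mk_surjective x
  obtain ⟨y₁, rfl⟩ := QuotientGroup.mk_surjective y
  obtain ⟨k, hk⟩ := hadj x₁ hx
  obtain ⟨l, hl⟩ := hadj y₁ hy
  have hcomm := h.1.comm _ hk _ hl
  have hu : ∀ g : G, (n₀ ^ k)⁻¹ * g = g * (n₀ ^ k)⁻¹ := fun g =>
    (((show Commute n₀ g from key2 g).pow_left k).inv_left).eq
  have hv : ∀ g : G, (n₀ ^ l)⁻¹ * g = g * (n₀ ^ l)⁻¹ := fun g =>
    (((show Commute n₀ g from key2 g).pow_left l).inv_left).eq
  have hxy : x₁ * y₁ = y₁ * x₁ := by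
    have e1 : x₁ * (n₀ ^ k)⁻¹ * (y₁ * (n₀ ^ l)⁻¹) = x₁ * y₁ * ((n₀ ^ k)⁻¹ * (n₀ ^ l)⁻¹) := by
      rw [mul_assoc x₁, ← mul_assoc _ y₁, hu y₁]; simp only [mul_assoc]
    have e2 : y₁ * (n₀ ^ l)⁻¹ * (x₁ * (n₀ ^ k)⁻¹) = y₁ * x₁ * ((n₀ ^ k)⁻¹ * (n₀ ^ l)⁻¹) := by
      rw [mul_assoc y₁, ← mul_assoc _ x₁, hv x₁, hu (n₀ ^ l)⁻¹]; simp only [mul_assoc]
    rw [e1, e2] at hcomm
    exact mul_right_cancel hcomm
  rw [← QuotientGroup.mk_mul, ← QuotientGroup.mk_mul, hxy]

end Cfsg.Agent.Lib.H11.R2
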