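import Mathlib
import Cfsg.Prelude.Def_FusionSystem
import Cfsg.Agent.Lib.H11.RK2Defs
import Cfsg.Agent.Lib.H26.CycChain
import Cfsg.Agent.Lib.H26.AutSylow
import Cfsg.Agent.Lib.H2.RK2PEGEN
import Cfsg.Agent.Lib.H2.RK2CHAIN
import Cfsg.Agent.Lib.H16.RK2NC
import Cfsg.Agent.Lib.H16.RK2T2POW
import Cfsg.Agent.Lib.H3.RK2T3POW
import Cfsg.Agent.Lib.H7.RK2T3A
import Cfsg.Agent.Lib.H22.RK2T3B
import Cfsg.Agent.Lib.H6.RK2T3C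
import Cfsg.Agent.Lib.H6.RK2T3MC
import Cfsg.Agent.Lib.H7.RK2T3OM
import Cfsg.Agent.Lib.H24.RK2T3AUT
import Cfsg.Agent.Lib.H10.RK2FT

/-!
# S5289 — the farmed pieces, collected under one namespace (helper11)

Each statement is the exact signature of `tools/blueprints/S5289_sigs.lean`, closed by the landed term:
PEGEN, CHAIN (helper2; twins helper5), NC, T2POW (helper16), T3POW (helper3; twin helper7), T3A, T3OM (helper7;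
twin helper22), T3B (helper22; twin helper6), T3C, T3MC (helper6; twins helper28), T3AUT (helper24), FT (helper10;
twin helper15), TORUS5 (inside FT; helper18's torus).
-/

set_option autoImplicit false

namespace Cfsg.Agent.Lib.H11.RK2P

open Cfsg.Agent.Lib.H11.RK2

/-! ## Generic pieces -/

/-- **PEGEN**.  If the `p`-th power map of `G = ⟨x,y,z⟩` (order `p^n`) is multiplicative, then `z` has order
`p^(n-2)`, all `p`-th powers lie in `⟨z^p⟩` and `Ω₁(G) = {g | g^p = 1}` has exactly `p³` elements.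
(`|G|` divides `o(x)o(y)o(z)`: `Cfsg.Agent.Lib.H11.R2.card_dvd_of_gens`; the power map is a homomorphism onto
`⟨z^p⟩` of order `p^(n-3)`.) -/
theorem pe_gen {G : Type*} [Group G] [Finite G] {p n : ℕ} [Fact p.Prime] (hn : 3 ≤ n)
    (hcard : Nat.card G = p ^ n) (x y z : G)
    (hgen : Subgroup.closure ({x, y, z} : Set G) = ⊤) (hx : x ^ p = 1) (hy : y ^ p = 1)
    (hz : z ^ p ^ (n - 2) = 1) (hyz : y * z = z * y)
    (hxy : x⁻¹ * y * x ∈ Subgroup.zpowers y ⊔ Subgroup.zpowers z)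
    (hxz : x⁻¹ * z * x ∈ Subgroup.zpowers y ⊔ Subgroup.zpowers z)
    (hpow : ∀ g k : G, (g * k) ^ p = g ^ p * k ^ p) :
    orderOf z = p ^ (n - 2) ∧ (∀ g : G, g ^ p ∈ Subgroup.zpowers (z ^ p)) ∧
      Nat.card {g : G // g ^ p = 1} = p ^ 3 := by
  exact Cfsg.Agent.Lib.H2.RK2.pe_gen hn hcard x y z hgen hx hy hz hyz hxy hxz hpow

/-- **CHAIN**.  A finite `p`-group `T` with multiplicative `p`-th power map, all `p`-th powers in a cyclic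
subgroup, `|Ω₁(T)| < p³` and exponent `> p` has the characteristic chain
`T ≥ Ω₁(T) ≥ Ω₁(T) ∩ T^p ≥ 1` with cyclic factors. -/
theorem chain_cycData {T : Type*} [Group T] [Finite T] {p : ℕ} [Fact p.Prime] (hT : IsPGroup p T)
    (hpow : ∀ g k : T, (g * k) ^ p = g ^ p * k ^ p) (C : Subgroup T) (hCc : IsCyclic C)
    (hC : ∀ g : T, g ^ p ∈ C) (hker : Nat.card {g : T // g ^ p = 1} < p ^ 3)
    (hne : ∃ g : T, g ^ p ≠ 1) (𝒴 : Subgroup (MulAut T)) :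
    ∃ cc : ℕ → Subgroup T, Cfsg.Agent.Lib.H26.CycChain.CycData 𝒴 cc ∧ cc 0 = ⊤ ∧ cc 3 = ⊥ := by
  exact Cfsg.Agent.Lib.H2.RK2.chain_cycData hT hpow C hCc hC hker hne 𝒴

/-- **NC**.  `N_S(T)/C_S(T)` has order at most `p` for a subgroup `T` of order `p²` of a `p`-group `S`. -/
theorem card_normalizer_le {Ω : Type*} [Group Ω] {p : ℕ} [Fact p.Prime] (S T : Subgroup Ω) [Finite S]
    (hS : IsPGroup p S) (hTS : T ≤ S) (hT : Nat.card T = p ^ 2) :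
    Nat.card ↥(S ⊓ Subgroup.normalizer (T : Set Ω)) ≤
      p * Nat.card ↥(S ⊓ Subgroup.centralizer (T : Set Ω)) := by
  exact Cfsg.Agent.Lib.H16.RK2.card_normalizer_le S T hS hTS hT

/-- **TORUS5**.  helper18's `Cfsg.Agent.Lib.H18.GXS.exists_torus` with the sharper conclusion `j² ≢ 1`
(`j = 1/2`, `p ≥ 5`) and `d w = w^j` exactly (copy `Lib/H18/GXSTORUS.lean`, change the last 30 lines). -/
theorem exists_torus5 {B : Type*} [Group B] (hcomm : ∀ a b : B, a * b = b * a) (p : ℕ) [Fact p.Prime]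
    (hp : 5 ≤ p) (hB : ∀ b : B, b ^ p = 1) (σ τ : MulAut B) (z w : B)
    (hσ : ∀ b, ∃ k : ℕ, σ b = b * z ^ k) (hτ : ∀ b, ∃ k : ℕ, τ b = b * w ^ k)
    (hσz : σ z = z) (hτw : τ w = w) (hσw : σ w ≠ w) (hτz : τ z ≠ z) :
    ∃ d ∈ Subgroup.closure ({σ, τ} : Set (MulAut B)), (∃ k : ℕ, d * σ * d⁻¹ = σ ^ k) ∧
      ∃ j : ℕ, ¬ (j * j ≡ 1 [MOD p]) ∧ d w = w ^ j := by
  exact Cfsg.Agent.Lib.H10.RK2.ft_torus5 hcomm p hp hB σ τ z w hσ hτ hσz hτw hσw hτz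

/-! ## Type T2 -/

/-- **T2POW**.  Class two, `p` odd, `G' = ⟨z^(p^(n-3))⟩` of order `p`:
`(gk)^p = g^p k^p [k,g]^(p(p-1)/2) = g^p k^p`. -/
theorem T2.pow_mul {G : Type*} [Group G] [Finite G] {p n : ℕ} [Fact p.Prime] {x y z : G}
    (h : T2 p n x y z) : ∀ g k : G, (g * k) ^ p = g ^ p * k ^ p := by
  exact Cfsg.Agent.Lib.H16.RK2.T2.pow_mul h

/-! ## Type T3 -/

section T3

variable {G : Type*} [Group G] [Finite G] {p n s : ℕ} [Fact p.Prime] {x y z : G}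

/-- **T3POW**.  Class three `< p` (regular, S4209 = `Cfsg.Agent.S4209.result`) and `G' ≤ ⟨y, w⟩` of exponent `p`;
or directly from the normal form: `(x^a y^b z^c)^p = z^(pc)`. -/
theorem T3.pow_mul (h : T3 p n s x y z) : ∀ g k : G, (g * k) ^ p = g ^ p * k ^ p := by
  exact Cfsg.Agent.Lib.H3.RK2.T3.pow_mul h

/-- **T3CEN**.  `z^p` is central. -/
theorem T3.zp_central (h : T3 p n s x y z) : ∀ g : G, g * z ^ p = z ^ p * g := by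
  exact Cfsg.Agent.Lib.H7.RK2.T3.zp_central h

/-- **T3M3**.  `G = ⟨z⟩ M₀`, `M₀ = ⟨x, y, z^p⟩`. -/
theorem T3.m3 (h : T3 p n s x y z) :
    ∀ g : G, ∃ i : ℕ, ∃ r ∈ Subgroup.closure ({x, y, z ^ p} : Set G), g = z ^ i * r := by
  exact Cfsg.Agent.Lib.H7.RK2.T3.m3 h

/-- **T3M9**.  `M₀ = ⟨x⟩ Y`, `Y = ⟨y, z^p⟩`. -/
theorem T3.m9 (h : T3 p n s x y z) :
    ∀ r ∈ Subgroup.closure ({x, y, z ^ p} : Set G),
      ∃ i : ℕ, ∃ e ∈ Subgroup.closure ({y, z ^ p} : Set G), r = x ^ i * e := by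
  exact Cfsg.Agent.Lib.H7.RK2.T3.m9 h

/-- **T3M7**.  `Y = ⟨y⟩ ⟨z^p⟩`. -/
theorem T3.m7 (h : T3 p n s x y z) :
    ∀ r ∈ Subgroup.closure ({y, z ^ p} : Set G),
      ∃ k : ℕ, ∃ d ∈ Subgroup.zpowers (z ^ p), r = y ^ k * d := by
  exact Cfsg.Agent.Lib.H7.RK2.T3.m7 h

/-- **T3M4**.  `G' ≤ ⟨y, w⟩`, `w = z^(p^(n-3))`. -/
theorem T3.m4 (h : T3 p n s x y z) :
    ∀ a b : G, a * b * a⁻¹ * b⁻¹ ∈ Subgroup.closure ({y, z ^ p ^ (n - 3)} : Set G) := by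
  exact Cfsg.Agent.Lib.H22.RK2.T3.m4 h

/-- **T3M2**.  `M₀' ≤ ⟨w⟩`. -/
theorem T3.m2 (h : T3 p n s x y z) :
    ∀ a ∈ Subgroup.closure ({x, y, z ^ p} : Set G), ∀ b ∈ Subgroup.closure ({x, y, z ^ p} : Set G),
      a * b * a⁻¹ * b⁻¹ ∈ Subgroup.zpowers (z ^ p ^ (n - 3)) := by
  exact Cfsg.Agent.Lib.H22.RK2.T3.m2 h

/-- **T3M1**.  `Z(M₀) = ⟨z^p⟩`. -/
theorem T3.m1 (h : T3 p n s x y z) :
    ∀ g ∈ Subgroup.closure ({x, y, z ^ p} : Set G),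
      (∀ k ∈ Subgroup.closure ({x, y, z ^ p} : Set G), g * k = k * g) →
        g ∈ Subgroup.zpowers (z ^ p) := by
  exact Cfsg.Agent.Lib.H6.RK2.T3.m1 h

/-- **T3M5**.  The fixed points of `c_z` on `M₀/⟨z^p⟩` are `Y/⟨z^p⟩`. -/
theorem T3.m5 (h : T3 p n s x y z) :
    ∀ r ∈ Subgroup.closure ({x, y, z ^ p} : Set G),
      z * r * z⁻¹ * r⁻¹ ∈ Subgroup.zpowers (z ^ p) → r ∈ Subgroup.closure ({y, z ^ p} : Set G) := by
  exact Cfsg.Agent.Lib.H6.RK2.T3.m5 h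

/-- **T3MC**.  `|M₀| = p^(n-1)`. -/
theorem T3.m0_card (h : T3 p n s x y z) :
    Nat.card ↥(Subgroup.closure ({x, y, z ^ p} : Set G)) = p ^ (n - 1) := by
  exact Cfsg.Agent.Lib.H6.RK2.T3.m0_card h

/-- **T3OM**.  `Ω₁(G) ≤ M₀`: if `g = z^i r` (`r ∈ M₀`) has `g^p = 1` then `z^(pi) = (r^p)⁻¹ ∈ ⟨z^(p²)⟩`
(power map multiplicative, `x^p = y^p = 1`), so `p ∣ i` as `o(z) = p^(n-2)`, `n ≥ 4`. -/
theorem T3.omega_le (h : T3 p n s x y z) (hpow : ∀ g k : G, (g * k) ^ p = g ^ p * k ^ p)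
    (hord : orderOf z = p ^ (n - 2))
    (hm3 : ∀ g : G, ∃ i : ℕ, ∃ r ∈ Subgroup.closure ({x, y, z ^ p} : Set G), g = z ^ i * r) :
    ∀ g : G, g ^ p = 1 → g ∈ Subgroup.closure ({x, y, z ^ p} : Set G) := by
  exact Cfsg.Agent.Lib.H7.RK2.T3.omega_le h hpow hord hm3

/-- **T3EX**.  For `n = 4`, `M₀` has exponent `p`. -/
theorem T3.exp_m0 (h : T3 p n s x y z) (hpow : ∀ g k : G, (g * k) ^ p = g ^ p * k ^ p) (hn4 : n = 4) :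
    ∀ r ∈ Subgroup.closure ({x, y, z ^ p} : Set G), r ^ p = 1 := by
  exact Cfsg.Agent.Lib.H7.RK2.T3.exp_m0 h hpow hn4

/-- **T3AUT**.  `A = ⟨y,z⟩ = C_G(G')` is characteristic of index `p`, and every automorphism of `G` acts on `G/A`
as `±1`: if `b x ∈ x^a A` and `B = b|_A`, `N e = e⁻¹ (x⁻¹ e x)` on `A` (`N z = y`, `N y = w^s`, `N w = 1`),
then `B N² = a² N² B`; apply to `z`: `B z ∈ y^β z^μ`, `p ∤ μ`, `B w = w^μ`, so `w^(sμ) = w^(sμa²)`. -/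
theorem T3.aut (h : T3 p n s x y z) :
    ∃ χ : G →* Multiplicative (ZMod p), χ x ≠ 1 ∧ χ y = 1 ∧ χ z = 1 ∧
      (∀ g, χ g = 1 → g ∈ Subgroup.closure ({y, z} : Set G)) ∧
      ∀ b : G ≃* G, (∀ g, χ (b g) = χ g) ∨ (∀ g, χ (b g) = (χ g)⁻¹) := by
  exact Cfsg.Agent.Lib.H24.RK2.T3.aut h

end T3

/-! ## Fusion piece -/

section FT

open Cfsg Cfsg.FusionSystem Cfsg.Agent.Lib.H25 Cfsg.Agent.Lib.H26

/-- **FT** (torus extension).  `R` fully normalized, `D ≤ Y ≤ R`, `V = R/D` elementary abelian of rank two,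
`N_S(R) = ⟨s₀⟩R`, `σ = c_{s₀}` a transvection of `V` with centre `Y/D = ⟨ȳ₀⟩` centralizing `D`.  If `Aut_S(R)` is
not normal in `Aut_F(R)`, some `β ∈ Iso_F(N_S(R), N')` normalizes `R` and acts on `R/Y` as a scalar `j`, `j² ≢ 1`. -/
theorem torus_extension {Ω : Type*} [Group Ω] {S : Subgroup Ω} [Finite S] {p : ℕ} [Fact p.Prime]
    (hS : IsPGroup p S) {F : FusionSystem S} (hF : F.IsSaturated p) (hp : 5 ≤ p)
    {R D Y : Subgroup Ω} (hfn : F.IsFullyNormalized R) (hDY : D ≤ Y) (hYR : Y ≤ R)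
    (hDinv : ∀ α ∈ F.autGroup R, ∀ r : R, (r : Ω) ∈ D → ((α r : R) : Ω) ∈ D)
    (hcomm : ∀ a ∈ R, ∀ b ∈ R, a * b * a⁻¹ * b⁻¹ ∈ D)
    (hexp : ∀ a ∈ R, a ^ p ∈ D)
    (s₀ : Ω) (hs₀ : s₀ ∈ normalizerIn S R)
    (hN : ∀ g ∈ normalizerIn S R, ∃ i : ℕ, ∃ r ∈ R, g = s₀ ^ i * r)
    (hsD : ∀ d ∈ D, s₀ * d * s₀⁻¹ = d)
    (hmove : ∀ r ∈ R, s₀ * r * s₀⁻¹ * r⁻¹ ∈ Y)
    (y₀ : Ω) (hy₀ : y₀ ∈ Y) (hsy : s₀ * y₀ * s₀⁻¹ * y₀⁻¹ ∈ D)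
    (hYgen : ∀ r ∈ Y, ∃ k : ℕ, ∃ d ∈ D, r = y₀ ^ k * d)
    (hfix : ∀ r ∈ R, s₀ * r * s₀⁻¹ * r⁻¹ ∈ D → r ∈ Y)
    (x₀ : Ω) (hx₀ : x₀ ∈ R) (hRgen : ∀ r ∈ R, ∃ i : ℕ, ∃ e ∈ Y, r = x₀ ^ i * e)
    (hnn : ∃ γ ∈ F.autGroup R, ∃ t ∈ autInducedBy S R, γ * t * γ⁻¹ ∉ autInducedBy S R) :
    ∃ (β : Ω → Ω) (N' : Subgroup Ω), IsIso F (normalizerIn S R) N' β ∧ (∀ r ∈ R, β r ∈ R) ∧
      ∃ u ∈ R, u ∉ Y ∧ ∃ j : ℕ, ¬ (j * j ≡ 1 [MOD p]) ∧ ∃ e ∈ Y, β u = u ^ j * e := by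
  exact Cfsg.Agent.Lib.H10.RK2.torus_extension hS hF hp hfn hDY hYR hDinv hcomm hexp s₀ hs₀ hN hsD hmove y₀ hy₀ hsy hYgen hfix x₀ hx₀ hRgen hnn

end FT

end Cfsg.Agent.Lib.H11.RK2P
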