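import Cfsg.Agent.Lib.H11.UnitarySimple5

set_option autoImplicit false
set_option linter.unusedSimpArgs false
set_option linter.unusedSectionVars false
set_option linter.unusedVariables false

namespace Cfsg.Agent.Lib.H11.USimple

open Matrix
open scoped MatrixGroups LinearAlgebra.Projectivization Pointwise commutatorElement
open Cfsg.Agent.S0837 (Bs Bs_apply Bs_symm Bs_nondeg)
open Cfsg.Agent.S0782 (Tm Tm_mulVec Tm_det Bs_eq_herm exists_trace rot rot_mulVec rot_det
  rot_preserves exists_hyp_partner hilbert90 gu_preserves guOfEquiv guOfEquiv_mulVec)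
open Cfsg.Agent.Lib.H11.UGen

section simple
variable {F : Type*} [Field F] [Fintype F] {n : ℕ} {q : ℕ} (φ : F →+* F)

/-- a normal subgroup of `SU` is central or everything -/
theorem dichotomy (hF : Fintype.card F = q ^ 2) (hφ : ∀ x, φ x = x ^ q)
    (hφ2 : ∀ x, φ (φ x) = x) (hφne : φ ≠ RingHom.id F) (hn : 3 ≤ n) (h32 : ¬ (n = 3 ∧ q = 2))
    (N : Subgroup ↥(SUg (n := n) (q := q) (F := F))) (hN : N.Normal) :
    N ≤ Subgroup.center ↥(SUg (n := n) (q := q) (F := F)) ∨ N = ⊤ := by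
  have hprim := isPreprimitive (n := n) φ hF hφ hφ2 hφne hn
  by_cases hfix : MulAction.fixedPoints N ↥(isoPts φ n hφ) = Set.univ
  · left
    intro g hg
    apply central_of_fix φ hF hφ hφ2 hφne hn h32
    intro p
    have : p ∈ MulAction.fixedPoints N ↥(isoPts φ n hφ) := by rw [hfix]; trivial
    exact this ⟨g, hg⟩
  · right
    have := (iwasawa φ hF hφ hφ2 hφne hn h32).commutator_le N hfix
    rw [perfect φ hF hφ hφ2 hφne hn h32] at this
    exact top_le_iff.1 this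

theorem center_ne_top (hF : Fintype.card F = q ^ 2) (hφ : ∀ x, φ x = x ^ q)
    (hφ2 : ∀ x, φ (φ x) = x) (hφne : φ ≠ RingHom.id F) (hn : 3 ≤ n) (h32 : ¬ (n = 3 ∧ q = 2)) :
    Subgroup.center ↥(SUg (n := n) (q := q) (F := F)) ≠ ⊤ := by
  intro htop
  have hcomm : commutator ↥(SUg (n := n) (q := q) (F := F)) = ⊥ := by
    rw [commutator_def, Subgroup.commutator_eq_bot_iff_le_centralizer, Subgroup.coe_top,
      Subgroup.centralizer_univ, htop]
  have hbt : (⊥ : Subgroup ↥(SUg (n := n) (q := q) (F := F))) = ⊤ := by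
    rw [← hcomm, perfect φ hF hφ hφ2 hφne hn h32]
  -- an isotropic vector and a partner
  obtain ⟨e₀, he₀_def⟩ : ∃ e₀ : Fin n → F, e₀ = Pi.single ⟨0, by omega⟩ 1 := ⟨_, rfl⟩
  obtain ⟨e₁, he₁_def⟩ : ∃ e₁ : Fin n → F, e₁ = Pi.single ⟨1, by omega⟩ 1 := ⟨_, rfl⟩
  have h00 : Bs φ n e₀ e₀ = 1 := by rw [he₀_def, B_single_single, if_pos rfl]
  have h11 : Bs φ n e₁ e₁ = 1 := by rw [he₁_def, B_single_single, if_pos rfl]
  have h01 : Bs φ n e₀ e₁ = 0 := by
    rw [he₀_def, he₁_def, B_single_single, if_neg]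
    intro h
    have := congrArg Fin.val h
    simp at this
  have h10 : Bs φ n e₁ e₀ = 0 := by rw [← sym φ hφ2 e₀ e₁, h01, map_zero]
  obtain ⟨lam, hlam⟩ := exists_norm φ hF hφ (-1) (neg_ne_zero.2 one_ne_zero)
    (by rw [map_neg, map_one])
  obtain ⟨x, hx_def⟩ : ∃ x, x = e₀ + lam • e₁ := ⟨_, rfl⟩
  have hxx : Bs φ n x x = 0 := by
    rw [hx_def]
    simp only [map_add, map_smulₛₗ, map_smul, LinearMap.add_apply, LinearMap.smul_apply,
      smul_eq_mul, h00, h11, h01, h10, RingHom.id_apply]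
    linear_combination hlam
  have hx0 : x ≠ 0 := by
    intro h0
    have := congrArg (Bs φ n e₀) h0
    rw [hx_def, map_add, map_smul, h00, h01, smul_zero, add_zero, map_zero] at this
    exact one_ne_zero this
  obtain ⟨f, hff, hxf, hfx⟩ := exists_hyp_partner hφne hφ2 (Bs φ n) (Bs_symm φ hφ2 n)
    (Bs_nondeg φ n) x hx0 hxx
  have hf0 : f ≠ 0 := by
    rintro rfl
    rw [map_zero] at hxf
    exact zero_ne_one hxf
  have htrans := isPretransitive (n := n) φ hF hφ hφ2 hφne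
  obtain ⟨g, hg⟩ := MulAction.exists_smul_eq ↥(SUg (n := n) (q := q) (F := F))
    (mkI φ hφ x hx0 hxx) (mkI φ hφ f hf0 hff)
  have hg1 : g = 1 := by
    have : g ∈ (⊤ : Subgroup ↥(SUg (n := n) (q := q) (F := F))) := Subgroup.mem_top g
    rw [← hbt, Subgroup.mem_bot] at this
    exact this
  rw [hg1, one_smul, mkI_eq_iff] at hg
  obtain ⟨a, ha⟩ := hg
  rw [← ha, map_smul, hff, smul_zero] at hfx
  exact zero_ne_one hfx

/-- `SU_n(q) / Z` is simple (as a quotient of the subgroup of `GU`) -/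
theorem simple_SUg (hF : Fintype.card F = q ^ 2) (hφ : ∀ x, φ x = x ^ q)
    (hφ2 : ∀ x, φ (φ x) = x) (hφne : φ ≠ RingHom.id F) (hn : 3 ≤ n) (h32 : ¬ (n = 3 ∧ q = 2)) :
    IsSimpleGroup (↥(SUg (n := n) (q := q) (F := F)) ⧸
      Subgroup.center ↥(SUg (n := n) (q := q) (F := F))) := by
  have : Nontrivial (↥(SUg (n := n) (q := q) (F := F)) ⧸
      Subgroup.center ↥(SUg (n := n) (q := q) (F := F))) := by
    rw [QuotientGroup.nontrivial_iff]
    exact center_ne_top φ hF hφ hφ2 hφne hn h32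
  refine ⟨fun N' hN' => ?_⟩
  rcases dichotomy φ hF hφ hφ2 hφne hn h32 (N'.comap (QuotientGroup.mk' _))
    (Subgroup.Normal.comap hN' _) with h1 | h1
  · left
    rw [Subgroup.eq_bot_iff_forall]
    intro x hx
    obtain ⟨g, rfl⟩ := QuotientGroup.mk_surjective x
    have : g ∈ Subgroup.center ↥(SUg (n := n) (q := q) (F := F)) := h1 hx
    exact (QuotientGroup.eq_one_iff g).2 this
  · right
    rw [eq_top_iff]
    intro x _
    obtain ⟨g, rfl⟩ := QuotientGroup.mk_surjective x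
    have : g ∈ N'.comap (QuotientGroup.mk' _) := by rw [h1]; trivial
    exact this

end simple

/-- `PSU_n(q)` is simple for `n ≥ 3`, `(n, q) ≠ (3, 2)` -/
theorem psu_simple {F : Type*} [Field F] [Fintype F] {q : ℕ} (hF : Fintype.card F = q ^ 2)
    (n : ℕ) (hn : 3 ≤ n) (h32 : ¬ (n = 3 ∧ q = 2)) : IsSimpleGroup (Cfsg.PSU n F q) := by
  obtain ⟨φ, hφ, hφ2⟩ := Cfsg.Agent.Lib.H4.exists_frob hF
  have hφne := Cfsg.Agent.S0837.phi_ne_id φ hF hφ
  have h := simple_SUg (n := n) φ hF hφ hφ2 hφne hn h32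
  exact MulEquiv.isSimpleGroup (Cfsg.Agent.Lib.H11.OmegaSimple.centerQuotCongr suIso)

end Cfsg.Agent.Lib.H11.USimple
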