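import Cfsg.Agent.Lib.H11.InvCls2

/-!
# Subfield subgroups (part 1): membership and the transfer lemma
-/

set_option autoImplicit false
set_option linter.unusedSectionVars false

namespace Cfsg.Agent.Lib.H11.Subf

open Matrix Cfsg.Agent.Lib.H11.InvCls

variable {F : Type*} [Field F] {ι : Type} [Fintype ι] [DecidableEq ι] {F₀ : Subfield F}

/-- membership in the standard subfield subgroup: a scalar multiple has entries in `F₀` -/
theorem mem_subfield_one_iff (g : GL ι F) :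
    g ∈ Cfsg.Geo.subfieldSubgroup F₀ (1 : GL ι F) ↔
      ∃ c : F, c ≠ 0 ∧ ∀ i j, c * (g : Matrix ι ι F) i j ∈ F₀ := by
  constructor
  · rintro ⟨k, hk, rfl⟩
    rw [SetLike.mem_coe, Subgroup.mem_sup_of_normal_right] at hk
    obtain ⟨A, ⟨A₀, rfl⟩, s, hs, rfl⟩ := hk
    obtain ⟨c, hc⟩ := (Cfsg.Geo.mem_scalars_iff s).1 hs
    refine ⟨(c : F)⁻¹, inv_ne_zero c.ne_zero, fun i j => ?_⟩
    have e : (((MulAut.conj (1 : GL ι F)).toMonoidHom
        (Matrix.GeneralLinearGroup.map (F₀.subtype : F₀ →+* F) A₀ * s) : GL ι F) :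
          Matrix ι ι F) = (c : F) • ((A₀ : Matrix ι ι F₀).map (F₀.subtype : F₀ →+* F)) := by
      show ((1 * (Matrix.GeneralLinearGroup.map (F₀.subtype : F₀ →+* F) A₀ * s) * 1⁻¹ :
        GL ι F) : Matrix ι ι F) = _
      rw [one_mul, inv_one, mul_one, Units.val_mul, hc, Matrix.mul_smul, Matrix.mul_one]
      rfl
    rw [e, Matrix.smul_apply, smul_eq_mul, ← mul_assoc, inv_mul_cancel₀ c.ne_zero, one_mul]
    exact ((A₀ : Matrix ι ι F₀) i j).2
  · rintro ⟨c, hc0, hc⟩
    let M₀ : Matrix ι ι F₀ := fun i j => ⟨c * (g : Matrix ι ι F) i j, hc i j⟩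
    have hmap : M₀.map (F₀.subtype : F₀ →+* F) = c • (g : Matrix ι ι F) := by
      ext i j; rfl
    have hdet : M₀.det ≠ 0 := by
      intro h
      have h1 : (F₀.subtype : F₀ →+* F) M₀.det = 0 := by rw [h, map_zero]
      rw [RingHom.map_det, RingHom.mapMatrix_apply, hmap, Matrix.det_smul] at h1
      have h2 : IsUnit (g : Matrix ι ι F).det := (Matrix.isUnit_iff_isUnit_det _).1 g.isUnit
      rcases mul_eq_zero.1 h1 with h3 | h3
      · exact pow_ne_zero _ hc0 h3
      · exact h2.ne_zero h3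
    have hs : (Units.map (Matrix.scalar ι : F →+* Matrix ι ι F).toMonoidHom
        (Units.mk0 c⁻¹ (inv_ne_zero hc0)) : GL ι F) ∈ Cfsg.Geo.scalars ι F := ⟨_, rfl⟩
    refine ⟨Matrix.GeneralLinearGroup.map (F₀.subtype : F₀ →+* F)
      (Matrix.GeneralLinearGroup.mkOfDetNeZero M₀ hdet) *
        (Units.map (Matrix.scalar ι : F →+* Matrix ι ι F).toMonoidHom
          (Units.mk0 c⁻¹ (inv_ne_zero hc0))), ?_, ?_⟩
    · rw [SetLike.mem_coe, Subgroup.mem_sup_of_normal_right]
      exact ⟨_, ⟨_, rfl⟩, _, hs, rfl⟩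
    · apply Units.ext
      show ((1 * (Matrix.GeneralLinearGroup.map (F₀.subtype : F₀ →+* F)
        (Matrix.GeneralLinearGroup.mkOfDetNeZero M₀ hdet) *
        (Units.map (Matrix.scalar ι : F →+* Matrix ι ι F).toMonoidHom
          (Units.mk0 c⁻¹ (inv_ne_zero hc0)))) * 1⁻¹ : GL ι F) : Matrix ι ι F) = _
      rw [one_mul, inv_one, mul_one, Units.val_mul]
      show M₀.map (F₀.subtype : F₀ →+* F) * (Matrix.scalar ι c⁻¹) = _
      rw [hmap, Matrix.scalar_apply, ← Matrix.smul_one_eq_diagonal, Matrix.mul_smul,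
        Matrix.mul_one, smul_smul, inv_mul_cancel₀ hc0, one_smul]

variable {n : ℕ}

/-- membership for special linear matrices -/
theorem mem_comap_subfield_iff (y : Matrix.SpecialLinearGroup (Fin n) F) :
    y ∈ (Cfsg.Geo.subfieldSubgroup F₀ (1 : GL (Fin n) F)).comap
      (Matrix.SpecialLinearGroup.toGL : Matrix.SpecialLinearGroup (Fin n) F →* GL (Fin n) F) ↔
      ∃ c : F, c ≠ 0 ∧ ∀ i j, c * (y : Matrix (Fin n) (Fin n) F) i j ∈ F₀ := by
  rw [Subgroup.mem_comap, mem_subfield_one_iff]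
  rfl

/-- the general transfer lemma: a `GL`-conjugate in a subgroup, plus enough determinants
in the centraliser, give an `SL`-conjugate in the subgroup -/
theorem exists_conj_mem_comap (H : Subgroup (GL (Fin n) F))
    (x : Matrix.SpecialLinearGroup (Fin n) F)
    (x' A Ai : Matrix (Fin n) (Fin n) F) (hA : A * Ai = 1)
    (hconj : A * (x : Matrix (Fin n) (Fin n) F) = x' * A)
    (hH : ∀ g : GL (Fin n) F, (g : Matrix (Fin n) (Fin n) F) = x' → g ∈ H)
    (hcent : ∃ C : Matrix (Fin n) (Fin n) F,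
      C * (x : Matrix (Fin n) (Fin n) F) = (x : Matrix (Fin n) (Fin n) F) * C ∧ C.det = A.det) :
    ∃ P : Matrix.SpecialLinearGroup (Fin n) F, P⁻¹ * x * P ∈
      H.comap
        (Matrix.SpecialLinearGroup.toGL : Matrix.SpecialLinearGroup (Fin n) F →* GL (Fin n) F) := by
  have hAdet : A.det ≠ 0 := by
    intro h
    have := congrArg Matrix.det hA
    rw [Matrix.det_mul, h, zero_mul, Matrix.det_one] at this
    exact zero_ne_one this
  have hAiA : Ai * A = 1 := mul_eq_one_comm.mp hA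
  obtain ⟨C, hC, hCdet⟩ := hcent
  have hCu : IsUnit C.det := by rw [hCdet]; exact isUnit_iff_ne_zero.2 hAdet
  have hAidet : Ai.det * A.det = 1 := by rw [← Matrix.det_mul, hAiA, Matrix.det_one]
  have hPdet : (C * Ai).det = 1 := by
    rw [Matrix.det_mul, hCdet, mul_comm]
    exact hAidet
  have hinv : (C * Ai) * (A * C⁻¹) = 1 := by
    rw [Matrix.mul_assoc, ← Matrix.mul_assoc Ai, hAiA, Matrix.one_mul, Matrix.mul_nonsing_inv _ hCu]
  have hCx : C⁻¹ * (x : Matrix (Fin n) (Fin n) F) * C = (x : Matrix (Fin n) (Fin n) F) := by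
    rw [Matrix.mul_assoc, ← hC, ← Matrix.mul_assoc, Matrix.nonsing_inv_mul _ hCu, Matrix.one_mul]
  refine ⟨⟨C * Ai, hPdet⟩, ?_⟩
  set P : Matrix.SpecialLinearGroup (Fin n) F := ⟨C * Ai, hPdet⟩ with hP
  rw [Subgroup.mem_comap]
  apply hH
  rw [Matrix.SpecialLinearGroup.coe_GL_coe_matrix, Matrix.SpecialLinearGroup.coe_mul,
    Matrix.SpecialLinearGroup.coe_mul, sl_inv_coe P (A * C⁻¹) hinv]
  show A * C⁻¹ * (x : Matrix (Fin n) (Fin n) F) * (C * Ai) = _
  calc A * C⁻¹ * (x : Matrix (Fin n) (Fin n) F) * (C * Ai)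
      = A * (C⁻¹ * (x : Matrix (Fin n) (Fin n) F) * C) * Ai := by simp only [Matrix.mul_assoc]
    _ = x' := by rw [hCx, hconj, Matrix.mul_assoc, hA, Matrix.mul_one]

end Cfsg.Agent.Lib.H11.Subf
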