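import Cfsg.Agent.Lib.H11.OmTs2

set_option autoImplicit false
set_option linter.unusedSimpArgs false
set_option linter.unusedSectionVars false
set_option linter.unusedVariables false

namespace Cfsg.Agent.Lib.H11.OmTs

open Matrix Module
open Cfsg.Agent.Lib.H28 Cfsg.Agent.Lib.H11.SubspMax
open Cfsg.Agent.Lib.H11.CD Cfsg.Agent.Lib.H11.SiegelGen Cfsg.Agent.Lib.H11.OrMax

variable {F : Type*} [Field F] {n : ℕ} (Q : QuadraticForm F (Fin n → F))

set_option quotPrecheck false in
local notation "P" => QuadraticMap.polar (⇑Q)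

variable (H : Subgroup (GL (Fin n) F))

theorem zero_mem_Cen {u : Fin n → F} (hu : u ∈ Cen Q H) : (0 : Fin n → F) ∈ Cen Q H := by
  have := Cen_smul Q H hu 0
  rwa [zero_smul] at this

/-- A2: two non-orthogonal centres give all singular vectors -/
theorem Cen_all (hQ : (QuadraticMap.polarBilin Q).Nondegenerate) {u u' : Fin n → F}
    (hu : u ∈ Cen Q H) (hu' : u' ∈ Cen Q H) (huu' : P u' u ≠ 0) (z : Fin n → F) (hz : Q z = 0) :
    z ∈ Cen Q H := by
  have huu'2 : P u u' ≠ 0 := by rw [P_comm]; exact huu'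
  by_cases h1 : P u' z = 0
  · by_cases h2 : P u z = 0
    · by_cases hz0 : z = 0
      · rw [hz0]; exact zero_mem_Cen Q H hu
      -- z is not in the span of u, u'
      have hnm : z ∉ Submodule.span F {u, u'} := by
        intro hmem
        rw [Submodule.mem_span_pair] at hmem
        obtain ⟨α, β, hαβ⟩ := hmem
        have e1 : P u' z = α * P u' u := by
          rw [← hαβ, QuadraticMap.polar_add_right, QuadraticMap.polar_smul_right,
            QuadraticMap.polar_smul_right, P_self, hu'.1]
          simp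
        have e2 : P u z = β * P u u' := by
          rw [← hαβ, QuadraticMap.polar_add_right, QuadraticMap.polar_smul_right,
            QuadraticMap.polar_smul_right, P_self, hu.1]
          simp
        rw [h1] at e1
        rw [h2] at e2
        have hα : α = 0 := (mul_eq_zero.1 e1.symm).resolve_right huu'
        have hβ : β = 0 := (mul_eq_zero.1 e2.symm).resolve_right huu'2
        rw [hα, hβ, zero_smul, zero_smul, add_zero] at hαβ
        exact hz0 hαβ.symm
      obtain ⟨φ, hφ0, hφ1⟩ := Submodule.exists_le_ker_of_notMem hnm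
      obtain ⟨p₀, rfl⟩ := OrMax.exists_fr Q hQ φ
      have hp0 : P p₀ z ≠ 0 := hφ0
      have hp1 : P p₀ u = 0 := hφ1 (Submodule.subset_span (by simp))
      have hp2 : P p₀ u' = 0 := hφ1 (Submodule.subset_span (by simp))
      obtain ⟨p, hp⟩ : ∃ p, p = (P p₀ z)⁻¹ • p₀ := ⟨_, rfl⟩
      have hpz : P p z = 1 := by
        rw [hp, QuadraticMap.polar_smul_left, smul_eq_mul, inv_mul_cancel₀ hp0]
      have hpu : P p u = 0 := by rw [hp, QuadraticMap.polar_smul_left, hp1, smul_zero]
      have hpu' : P p u' = 0 := by rw [hp, QuadraticMap.polar_smul_left, hp2, smul_zero]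
      obtain ⟨z', hz'⟩ : ∃ z', z' = u + p - Q p • z := ⟨_, rfl⟩
      have hQz' : Q z' = 0 := by
        rw [hz', Q_sub', Q_add, QuadraticMap.map_smul, hu.1, hz, QuadraticMap.polar_smul_right,
          QuadraticMap.polar_add_left, h2, hpz, P_comm Q u p, hpu]
        simp
      have hz'u' : P u' z' ≠ 0 := by
        rw [hz', QuadraticMap.polar_sub_right, QuadraticMap.polar_add_right,
          QuadraticMap.polar_smul_right, h1, P_comm Q u' p, hpu']
        simpa using huu'
      have hz'C : z' ∈ Cen Q H := Cen_step Q H hu hu' huu' z' hQz' hz'u'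
      have hz'z : P z' z ≠ 0 := by
        rw [hz', QuadraticMap.polar_sub_left, QuadraticMap.polar_add_left,
          QuadraticMap.polar_smul_left, h2, hpz, P_self, hz]
        simp
      have hz'u'2 : P z' u' ≠ 0 := by rw [P_comm]; exact hz'u'
      exact Cen_step Q H hu' hz'C hz'u'2 z hz hz'z
    · exact Cen_step Q H hu' hu huu'2 z hz h2
  · exact Cen_step Q H hu hu' huu' z hz h1

/-- A3: if all singular vectors are centres, `H` contains `Ω` -/
theorem omega_le_of_Cen [Fintype F] (hQ : (QuadraticMap.polarBilin Q).Nondegenerate)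
    (hn : 7 ≤ n) (hall : ∀ z, Q z = 0 → z ∈ Cen Q H) : Cfsg.Geo.omegaGL (⇑Q) ≤ H := by
  intro h hh
  obtain ⟨g, hg, rfl⟩ := exists_of_mem_omegaGL Q h hh
  rw [comm_eq_S Q hQ hn] at hg
  have hle : S Q ≤ H.comap (Cfsg.isometryGroup F ⇑Q).subtype := by
    unfold S
    rw [Subgroup.closure_le]
    rintro s ⟨u, v, c, hu, hv, huv, hs⟩
    have e1 : s = siegEl Q u v hu hv huv c := Subtype.ext (Units.ext hs)
    have huv' : P u (c • v) = 0 := by rw [QuadraticMap.polar_smul_right, huv, smul_zero]
    have e2 : s = sg Q u (c • v) := by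
      rw [e1]
      apply el_ext
      intro x
      rw [siegEl_act, sg_act Q u (c • v) hu huv', QuadraticMap.map_smul, hv, smul_zero, zero_mul,
        zero_smul, sub_zero, QuadraticMap.polar_smul_left, smul_smul, smul_eq_mul,
        mul_comm (P u x) c]
    show (s : GL (Fin n) F) ∈ H
    rw [e2]
    exact (hall u hu).2 _ huv'
  exact hle hg

theorem gl_inj' (g : GL (Fin n) F) {a b : Fin n → F}
    (h : (g : Matrix (Fin n) (Fin n) F) *ᵥ a = (g : Matrix (Fin n) (Fin n) F) *ᵥ b) : a = b := by
  have := congrArg (fun v => ((g⁻¹ : GL (Fin n) F) : Matrix (Fin n) (Fin n) F) *ᵥ v) h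
  simpa [gl_inv_mulVec] using this

/-- an element mapping `W` into `W` stabilises `W` -/
theorem stab_of_le {g : GL (Fin n) F} {W : Submodule F (Fin n → F)}
    (h : ∀ w ∈ W, (g : Matrix (Fin n) (Fin n) F) *ᵥ w ∈ W) :
    g ∈ Cfsg.Geo.subspaceStabilizer W := by
  rw [mem_subspaceStabilizer_iff]
  intro v
  refine ⟨h v, fun hv => ?_⟩
  let L : W →ₗ[F] W := (Matrix.toLin' g.1).restrict (fun w hw => by
    rw [Matrix.toLin'_apply]; exact h w hw)
  have hinj : Function.Injective L := by
    intro a b hab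
    have h1 : g.1 *ᵥ a.1 = g.1 *ᵥ b.1 := by
      have := congrArg Subtype.val hab
      simpa [L, LinearMap.coe_restrict_apply, Matrix.toLin'_apply] using this
    exact Subtype.ext (gl_inj' g h1)
  obtain ⟨w, hw⟩ := LinearMap.surjective_of_injective hinj ⟨_, hv⟩
  have h2 : g.1 *ᵥ w.1 = g.1 *ᵥ v := by
    have := congrArg Subtype.val hw
    simpa [L, LinearMap.coe_restrict_apply, Matrix.toLin'_apply] using this
  rw [← gl_inj' g h2]
  exact w.2

theorem P_eq_zero_of_ts {W : Submodule F (Fin n → F)} (hW : ∀ w ∈ W, Q w = 0)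
    {x y : Fin n → F} (hx : x ∈ W) (hy : y ∈ W) : P x y = 0 := by
  simp only [QuadraticMap.polar]
  rw [hW _ (W.add_mem hx hy), hW _ hx, hW _ hy]; ring

/-- totally singular subspaces have at most half the dimension -/
theorem ts_le_half (hQ : (QuadraticMap.polarBilin Q).Nondegenerate)
    (T : Submodule F (Fin n → F)) (hT : ∀ t ∈ T, Q t = 0) : 2 * finrank F T ≤ n := by
  have hle : T ≤ LinearMap.BilinForm.orthogonal (QuadraticMap.polarBilin Q) T := by
    intro x hx
    rw [LinearMap.BilinForm.mem_orthogonal_iff]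
    intro y hy
    show (QuadraticMap.polarBilin Q) y x = 0
    rw [QuadraticMap.polarBilin_apply_apply]
    exact P_eq_zero_of_ts Q hT hy hx
  have h1 := Submodule.finrank_mono hle
  have h2 : finrank F T ≤ n := by
    have := Submodule.finrank_le T
    rwa [Module.finrank_fin_fun] at this
  rw [LinearMap.BilinForm.finrank_orthogonal hQ, Module.finrank_fin_fun] at h1
  omega

theorem finrank_inf_ker (U : Submodule F (Fin n → F)) (f : Dual F (Fin n → F)) :
    finrank F U ≤ finrank F (U ⊓ LinearMap.ker f : Submodule F (Fin n → F)) + 1 := by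
  have h1 := Submodule.finrank_sup_add_finrank_inf_eq U (LinearMap.ker f)
  have h2 : finrank F (U ⊔ LinearMap.ker f : Submodule F (Fin n → F)) ≤ n := by
    have := Submodule.finrank_le (U ⊔ LinearMap.ker f)
    rwa [Module.finrank_fin_fun] at this
  have h3 := LinearMap.finrank_range_add_finrank_ker f
  have h4 : finrank F (LinearMap.range f) ≤ 1 := by
    have := Submodule.finrank_le (LinearMap.range f)
    rwa [finrank_self] at this
  rw [Module.finrank_fin_fun] at h3
  omega

/-- vectors of a totally singular subspace are centres for its stabiliser -/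
theorem mem_Cen_of_ts [Fintype F] (hQ : (QuadraticMap.polarBilin Q).Nondegenerate) (hn : 7 ≤ n)
    (W : Submodule F (Fin n → F)) (hW : ∀ w ∈ W, Q w = 0) (u : Fin n → F) (hu : u ∈ W) :
    u ∈ Cen Q (Cfsg.Geo.subspaceStabilizer W ⊓ Cfsg.Geo.omegaGL (⇑Q)) := by
  refine ⟨hW u hu, fun y hy => ⟨?_, coe_mem_omegaGL Q _ (sg_mem_comm Q hQ hn u y (hW u hu) hy)⟩⟩
  apply stab_of_le
  intro w hw
  rw [act_def, sg_act Q u y (hW u hu) hy, P_eq_zero_of_ts Q hW hu hw, zero_smul, add_zero,
    mul_zero, zero_smul, sub_zero]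
  exact W.sub_mem hw (W.smul_mem _ hu)

end Cfsg.Agent.Lib.H11.OmTs
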