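import Cfsg.Agent.Lib.H11.OmTs4
import Cfsg.Agent.Lib.H11.IsoReindex
import Cfsg.Agent.Lib.H29.Orth

/-!
Transport of maximality statements in `Ω(Q)` along a reindexing of the coordinates.
-/

set_option autoImplicit false
set_option linter.unusedSimpArgs false
set_option linter.unusedSectionVars false
set_option linter.unusedVariables false

namespace Cfsg.Agent.Lib.H11.OmTs

open Matrix Module
open Cfsg.Agent.Lib.H28 Cfsg.Agent.Lib.H11.IsoReindex

theorem isMaximalIn_comap {G G' : Type*} [Group G] [Group G'] (Θ : G ≃* G')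
    {K' H' : Subgroup G'} (h : Cfsg.Geo.IsMaximalIn K' H') :
    Cfsg.Geo.IsMaximalIn (K'.comap Θ.toMonoidHom) (H'.comap Θ.toMonoidHom) := by
  obtain ⟨hlt, hmax⟩ := h
  refine ⟨(Subgroup.comap_lt_comap_of_surjective Θ.surjective).2 hlt, ?_⟩
  intro M hHM hMK
  have h1 : H' ≤ M.map Θ.toMonoidHom := by
    intro x hx
    refine ⟨Θ.symm x, hHM ?_, Θ.apply_symm_apply x⟩
    show Θ (Θ.symm x) ∈ H'
    rw [Θ.apply_symm_apply]; exact hx
  have h2 : M.map Θ.toMonoidHom ≤ K' := by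
    rintro x ⟨y, hy, rfl⟩
    exact hMK hy
  have h3 : (M.map Θ.toMonoidHom).comap Θ.toMonoidHom = M :=
    Subgroup.comap_map_eq_self_of_injective Θ.injective M
  rcases hmax _ h1 h2 with h | h
  · left; rw [← h3, h]
  · right; rw [← h3, h]

variable {F : Type*} [Field F] {ι κ : Type} [Fintype ι] [DecidableEq ι] [Fintype κ] [DecidableEq κ]

/-- `Ω` transported along a reindexing -/
theorem comap_omegaGL (e : ι ≃ κ) (Q : (ι → F) → F) :
    (Cfsg.Geo.omegaGL (tr e Q)).comap (glReindex (F := F) e).toMonoidHom = Cfsg.Geo.omegaGL Q := by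
  ext g
  rw [Subgroup.mem_comap]
  constructor
  · intro hg
    obtain ⟨g₁, hg₁, hg₁e⟩ := Subgroup.mem_map.1 hg
    refine Subgroup.mem_map.2 ⟨(isoEquiv e Q).symm g₁, ?_, ?_⟩
    · rw [← mem_commutator_iff (isoEquiv e Q), MulEquiv.apply_symm_apply]
      exact hg₁
    · apply (glReindex (F := F) e).injective
      have : glReindex e (((isoEquiv e Q).symm g₁ : ↥(Cfsg.isometryGroup F Q)) : GL ι F) =
          ((isoEquiv e Q ((isoEquiv e Q).symm g₁) : ↥(Cfsg.isometryGroup F (tr e Q))) : GL κ F) :=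
        rfl
      rw [Subgroup.coe_subtype, this, MulEquiv.apply_symm_apply]
      exact hg₁e
  · intro hg
    obtain ⟨g₀, hg₀, hg₀e⟩ := Subgroup.mem_map.1 hg
    refine Subgroup.mem_map.2 ⟨isoEquiv e Q g₀, (mem_commutator_iff (isoEquiv e Q) g₀).2 hg₀, ?_⟩
    rw [← hg₀e]
    rfl

/-- the transported subspace -/
def trW (e : ι ≃ κ) (W : Submodule F (ι → F)) : Submodule F (κ → F) :=
  W.comap (LinearMap.funLeft F F e)

theorem mem_trW (e : ι ≃ κ) (W : Submodule F (ι → F)) (x : κ → F) :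
    x ∈ trW e W ↔ x ∘ e ∈ W := Iff.rfl

theorem comap_subspaceStabilizer (e : ι ≃ κ) (W : Submodule F (ι → F)) :
    (Cfsg.Geo.subspaceStabilizer (trW e W)).comap (glReindex (F := F) e).toMonoidHom =
      Cfsg.Geo.subspaceStabilizer W := by
  ext g
  rw [Subgroup.mem_comap]
  change glReindex e g ∈ Cfsg.Geo.subspaceStabilizer (trW e W) ↔ _
  rw [mem_subspaceStabilizer_iff, mem_subspaceStabilizer_iff]
  have key : ∀ x : κ → F, ((glReindex e g : GL κ F) : Matrix κ κ F) *ᵥ x ∈ trW e W ↔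
      (g : Matrix ι ι F) *ᵥ (x ∘ e) ∈ W := by
    intro x
    rw [mem_trW]
    have := glReindex_mulVec e g x
    have h2 : ((glReindex e g).1 *ᵥ x) ∘ e = g.1 *ᵥ (x ∘ e) := by
      rw [this]
      funext i
      simp
    show ((glReindex e g).1 *ᵥ x) ∘ e ∈ W ↔ _
    rw [h2]
  constructor
  · intro h v
    have := h (v ∘ e.symm)
    rw [mem_trW, key] at this
    have h1 : (v ∘ e.symm) ∘ e = v := by funext i; simp
    rw [h1] at this
    exact this
  · intro h x
    show x ∈ trW e W ↔ ((glReindex e g : GL κ F) : Matrix κ κ F) *ᵥ x ∈ trW e W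
    rw [key, mem_trW]
    exact h (x ∘ e)

theorem trW_ne_bot (e : ι ≃ κ) (W : Submodule F (ι → F)) (hW : W ≠ ⊥) : trW e W ≠ ⊥ := by
  obtain ⟨w, hwW, hw0⟩ := Submodule.exists_mem_ne_zero_of_ne_bot hW
  intro h
  have h1 : w ∘ e.symm ∈ trW e W := by
    rw [mem_trW]
    have : (w ∘ e.symm) ∘ e = w := by funext i; simp
    rw [this]; exact hwW
  rw [h, Submodule.mem_bot] at h1
  apply hw0
  funext i
  have := congrFun h1 (e i)
  simpa using this

/-- totally singular stabilisers are maximal in `Ω`, arbitrary index type -/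
theorem ts_maximal_any [Fintype F] (Q : (ι → F) → F)
    (hQ : Cfsg.Geo.IsNondegenerateQuadraticForm Q) (hn : 7 ≤ Fintype.card ι)
    (W : Submodule F (ι → F)) (hW0 : W ≠ ⊥) (hW : ∀ w ∈ W, Q w = 0)
    (hodd : Odd (Fintype.card ι)) :
    Cfsg.Geo.IsMaximalIn (Cfsg.Geo.omegaGL Q)
      (Cfsg.Geo.subspaceStabilizer W ⊓ Cfsg.Geo.omegaGL Q) := by
  obtain ⟨e, -⟩ : ∃ e : ι ≃ Fin (Fintype.card ι), True := ⟨Fintype.equivFin ι, trivial⟩
  have h1 := ts_maximal (trQF e (Cfsg.Agent.Lib.H29.Orth.toQF Q hQ))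
    (nondeg_trQF e _ (Cfsg.Agent.Lib.H29.Orth.toQF_nondegenerate Q hQ)) hn (trW e W)
    (trW_ne_bot e W hW0)
    (fun w hw => by
      rw [coe_trQF, Cfsg.Agent.Lib.H29.Orth.coe_toQF]
      exact hW _ ((mem_trW e W w).1 hw))
    (fun h => by
      exfalso
      rw [Nat.odd_iff] at hodd
      omega)
  rw [coe_trQF, Cfsg.Agent.Lib.H29.Orth.coe_toQF] at h1
  have h2 := isMaximalIn_comap (glReindex (F := F) e) h1
  rw [Subgroup.comap_inf, comap_omegaGL, comap_subspaceStabilizer] at h2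
  exact h2

end Cfsg.Agent.Lib.H11.OmTs
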