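import Cfsg.Agent.S0759
import Cfsg.Agent.Lib.H13.Witt

set_option autoImplicit false

/-!
Discriminant criterion for symmetric bilinear forms of even dimension `2N`:
* `det_gram_change`: Gram determinants w.r.t. two bases differ by a nonzero square;
* `isSquare_of_isotropic`: a totally isotropic `N`-subspace forces `(-1)^N det G` to be a square (any field);
* `exists_isotropic_of_isSquare`: the converse over finite fields of odd characteristic
  (uses helper13's Witt decomposition).
-/

namespace Cfsg.Agent.Lib.H11.Disc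

open Module Matrix

variable {F V : Type*} [Field F] [AddCommGroup V] [Module F V]

/-- change of basis multiplies the Gram determinant by a nonzero square -/
theorem det_gram_change {ι κ : Type*} [Fintype ι] [DecidableEq ι] [Fintype κ] [DecidableEq κ]
    (B : LinearMap.BilinForm F V) (b : Basis ι F V) (c : Basis κ F V) :
    ∃ d : F, d ≠ 0 ∧ (LinearMap.BilinForm.toMatrix c B).det =
      d ^ 2 * (LinearMap.BilinForm.toMatrix b B).det := by
  have hcard : Fintype.card ι = Fintype.card κ := by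
    rw [← Module.finrank_eq_card_basis b, ← Module.finrank_eq_card_basis c]
  obtain ⟨ε⟩ : Nonempty (ι ≃ κ) := Fintype.card_eq.1 hcard
  obtain ⟨P, hP⟩ : ∃ P : Matrix ι κ F, P = b.toMatrix c := ⟨_, rfl⟩
  obtain ⟨P', hP'⟩ : ∃ P' : Matrix κ ι F, P' = c.toMatrix b := ⟨_, rfl⟩
  have hPP' : P * P' = 1 := by rw [hP, hP']; exact Basis.toMatrix_mul_toMatrix_flip _ _
  obtain ⟨P₁, hP₁⟩ : ∃ P₁ : Matrix ι ι F, P₁ = P.submatrix id ε := ⟨_, rfl⟩
  obtain ⟨P₂, hP₂⟩ : ∃ P₂ : Matrix ι ι F, P₂ = P'.submatrix ε id := ⟨_, rfl⟩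
  have h12 : P₁ * P₂ = 1 := by
    rw [hP₁, hP₂, Matrix.submatrix_mul_equiv, hPP', Matrix.submatrix_id_id]
  have hd : P₁.det ≠ 0 := by
    intro h0
    have := congrArg Matrix.det h12
    rw [Matrix.det_mul, h0, zero_mul, Matrix.det_one] at this
    exact zero_ne_one this
  refine ⟨P₁.det, hd, ?_⟩
  have hchange := LinearMap.BilinForm.toMatrix_mul_basis_toMatrix b c B
  rw [← hP] at hchange
  have h3 : (LinearMap.BilinForm.toMatrix c B).submatrix ε ε =
      P₁ᵀ * LinearMap.BilinForm.toMatrix b B * P₁ := by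
    rw [← hchange, hP₁]
    ext i j
    simp [Matrix.mul_apply]
  have h4 := congrArg Matrix.det h3
  rw [Matrix.det_submatrix_equiv_self, Matrix.det_mul, Matrix.det_mul, Matrix.det_transpose] at h4
  rw [h4]; ring

/-- a form of dimension `2N` with a totally isotropic `N`-subspace has square signed discriminant -/
theorem isSquare_of_isotropic [FiniteDimensional F V] {ι : Type*} [Fintype ι] [DecidableEq ι]
    (B : LinearMap.BilinForm F V) (hS : ∀ x y, B x y = B y x) (b : Basis ι F V) (N : ℕ)
    (X : Submodule F V) (hX : finrank F X = N) (hV : finrank F V = 2 * N)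
    (hiso : ∀ x ∈ X, ∀ y ∈ X, B x y = 0) :
    IsSquare ((-1) ^ N * (LinearMap.BilinForm.toMatrix b B).det) := by
  classical
  obtain ⟨Y, hY⟩ := Submodule.exists_isCompl X
  have hYdim : finrank F Y = N := by
    have := Submodule.finrank_add_eq_of_isCompl hY
    rw [hX, hV] at this
    omega
  obtain ⟨bX⟩ : Nonempty (Basis (Fin N) F X) := ⟨Module.finBasisOfFinrankEq F X hX⟩
  obtain ⟨bY⟩ : Nonempty (Basis (Fin N) F Y) := ⟨Module.finBasisOfFinrankEq F Y hYdim⟩
  obtain ⟨c, hc⟩ : ∃ c : Basis (Fin N ⊕ Fin N) F V,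
      c = (bX.prod bY).map (Submodule.prodEquivOfIsCompl X Y hY) := ⟨_, rfl⟩
  have hc_inl : ∀ i, c (Sum.inl i) = (bX i : V) := by
    intro i
    rw [hc]
    simp
  obtain ⟨G, hG⟩ : ∃ G, G = LinearMap.BilinForm.toMatrix c B := ⟨_, rfl⟩
  have hGapp : ∀ s s', G s s' = B (c s) (c s') := by
    intro s s'
    rw [hG, LinearMap.BilinForm.toMatrix_apply]
  have hG11 : G.toBlocks₁₁ = 0 := by
    ext i j
    simp only [Matrix.toBlocks₁₁, Matrix.of_apply, Matrix.zero_apply, hGapp, hc_inl]
    exact hiso _ (bX i).2 _ (bX j).2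
  have hG21 : G.toBlocks₂₁ = G.toBlocks₁₂ᵀ := by
    ext i j
    simp only [Matrix.toBlocks₂₁, Matrix.toBlocks₁₂, Matrix.of_apply, Matrix.transpose_apply, hGapp]
    exact hS _ _
  have hGblocks : G = fromBlocks 0 G.toBlocks₁₂ G.toBlocks₁₂ᵀ G.toBlocks₂₂ := by
    conv_lhs => rw [← Matrix.fromBlocks_toBlocks G]
    rw [hG11, hG21]
  have hdetG1 : G.det * (-1) ^ N = G.toBlocks₁₂.det ^ 2 := by
    have h1 : G * fromBlocks (0 : Matrix (Fin N) (Fin N) F) (1 : Matrix (Fin N) (Fin N) F)
          (1 : Matrix (Fin N) (Fin N) F) (0 : Matrix (Fin N) (Fin N) F)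
        = fromBlocks G.toBlocks₁₂ 0 G.toBlocks₂₂ G.toBlocks₁₂ᵀ := by
      conv_lhs => rw [hGblocks]
      simp [fromBlocks_multiply]
    have h3 := congrArg det h1
    rw [det_mul, Cfsg.Agent.S0759.det_swapBlocks, det_fromBlocks_zero₁₂, det_transpose] at h3
    rw [h3, pow_two]
  obtain ⟨d, hd0, hd⟩ := det_gram_change B b c
  rw [← hG] at hd
  refine ⟨G.toBlocks₁₂.det / d, ?_⟩
  rw [hd] at hdetG1
  field_simp
  linear_combination hdetG1

/-- converse over finite fields of odd characteristic -/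
theorem exists_isotropic_of_isSquare [Finite F] [FiniteDimensional F V] (h2 : (2 : F) ≠ 0)
    {ι : Type*} [Fintype ι] [DecidableEq ι]
    (B : LinearMap.BilinForm F V) (hS : ∀ x y, B x y = B y x) (hB : B.Nondegenerate)
    (b : Basis ι F V) (N : ℕ) (hV : finrank F V = 2 * N)
    (hsq : IsSquare ((-1) ^ N * (LinearMap.BilinForm.toMatrix b B).det)) :
    ∃ X : Submodule F V, finrank F X = N ∧ ∀ x ∈ X, ∀ y ∈ X, B x y = 0 := by
  classical
  obtain ⟨Q, hQ⟩ : ∃ Q : QuadraticForm F V, Q = B.toQuadraticMap := ⟨_, rfl⟩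
  have hQapp : ∀ x, Q x = B x x := fun x => by rw [hQ]; rfl
  have hpol : ∀ x y, QuadraticMap.polar (⇑Q) x y = 2 * B x y := by
    intro x y
    rw [hQ, LinearMap.BilinMap.polar_toQuadraticMap, hS y x]
    ring
  have hQnd : (QuadraticMap.polarBilin Q).Nondegenerate := by
    constructor
    · intro x hx
      apply hB.1 x
      intro y
      have := hx y
      rw [QuadraticMap.polarBilin_apply_apply, hpol] at this
      exact (mul_eq_zero.1 this).resolve_left h2
    · intro y hy
      apply hB.2 y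
      intro x
      have := hy x
      rw [QuadraticMap.polarBilin_apply_apply, hpol] at this
      exact (mul_eq_zero.1 this).resolve_left h2
  obtain ⟨k, r, w, hstd, htail, hdim⟩ := Cfsg.Agent.Lib.H13.witt Q hQnd
  have hBw : ∀ s s', 2 * B (w s) (w s') = QuadraticMap.polar (⇑Q) (w s) (w s') :=
    fun s s' => (hpol _ _).symm
  match r, w, hstd, htail, hdim with
  | 0, w, hstd, htail, hdim =>
    have hk : k = N := by omega
    subst hk
    obtain ⟨f, hf⟩ : ∃ f : Fin k → V, f = fun i => w (Sum.inl (Sum.inl i)) := ⟨_, rfl⟩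
    have hli : LinearIndependent F f := by
      rw [hf]
      refine w.linearIndependent.comp (fun i : Fin k => (Sum.inl (Sum.inl i) :
        (Fin k ⊕ Fin k) ⊕ Fin 0)) ?_
      intro a b h
      simpa using h
    refine ⟨Submodule.span F (Set.range f), ?_, ?_⟩
    · rw [finrank_span_eq_card hli, Fintype.card_fin]
    · have hgen : ∀ p p', B (f p) (f p') = 0 := by
        intro p p'
        have h := hstd.iso_l p p'
        rw [hpol] at h
        rw [hf]
        exact (mul_eq_zero.1 h).resolve_left h2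
      have h1 : ∀ p, Submodule.span F (Set.range f) ≤ LinearMap.ker (B.flip (f p)) := by
        intro p
        rw [Submodule.span_le]
        rintro _ ⟨p', rfl⟩
        rw [SetLike.mem_coe, LinearMap.mem_ker, LinearMap.BilinForm.flip_apply]
        exact hgen p' p
      intro x hx
      have h2' : Submodule.span F (Set.range f) ≤ LinearMap.ker (B x) := by
        rw [Submodule.span_le]
        rintro _ ⟨p', rfl⟩
        rw [SetLike.mem_coe, LinearMap.mem_ker]
        have := h1 p' hx
        rw [LinearMap.mem_ker, LinearMap.BilinForm.flip_apply] at this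
        exact this
      intro y hy
      exact h2' hy
  | 1, w, hstd, htail, hdim => exfalso; omega
  | 2, w, hstd, htail, hdim =>
    exfalso
    obtain ⟨ζ, hζ, hc0, hc01, hc1⟩ := htail
    have hk : k + 1 = N := by omega
    subst hk
    -- polar Gram matrix
    obtain ⟨M, hM⟩ : ∃ M : Matrix ((Fin k ⊕ Fin k) ⊕ Fin 2) ((Fin k ⊕ Fin k) ⊕ Fin 2) F,
        M = Matrix.of fun s s' => QuadraticMap.polar (⇑Q) (w s) (w s') := ⟨_, rfl⟩
    have hMapp : ∀ s s', M s s' = QuadraticMap.polar (⇑Q) (w s) (w s') := by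
      intro s s'; rw [hM]; rfl
    have hMG : M = (2 : F) • LinearMap.BilinForm.toMatrix w B := by
      ext s s'
      rw [hMapp, Matrix.smul_apply, LinearMap.BilinForm.toMatrix_apply, smul_eq_mul, hpol]
    have hself : ∀ x, QuadraticMap.polar (⇑Q) x x = 2 * Q x := by
      intro x
      simp only [QuadraticMap.polar, QuadraticMap.map_add_self]
      ring
    have hMblocks : M = fromBlocks
        (fromBlocks (0 : Matrix (Fin k) (Fin k) F) 1 1 0) 0 0 !![2, 1; 1, 2 * ζ] := by
      ext s s'
      rw [hMapp]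
      rcases s with (i | i) | t <;> rcases s' with (j | j) | t'
      · simp [hstd.iso_l]
      · simp [hstd.pair, Matrix.one_apply]
      · simp [hstd.orth_l]
      · rw [QuadraticMap.polar_comm]
        simp [hstd.pair, Matrix.one_apply, eq_comm]
      · simp [hstd.iso_r]
      · simp [hstd.orth_r]
      · rw [QuadraticMap.polar_comm]
        simp [hstd.orth_l]
      · rw [QuadraticMap.polar_comm]
        simp [hstd.orth_r]
      · fin_cases t <;> fin_cases t'
        · simp [hself, hc0]
        · simpa using hc01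
        · rw [QuadraticMap.polar_comm]
          simpa using hc01
        · simp [hself, hc1]
    have hdetM : M.det = (-1) ^ k * (4 * ζ - 1) := by
      rw [hMblocks, Matrix.det_fromBlocks_zero₂₁, Cfsg.Agent.S0759.det_swapBlocks,
        Matrix.det_fin_two_of]
      ring
    obtain ⟨d, hd0, hd⟩ := det_gram_change B b w
    obtain ⟨s, hs⟩ := hsq
    have hdetM2 : M.det = 2 ^ (2 * (k + 1)) * (d ^ 2 * (LinearMap.BilinForm.toMatrix b B).det) := by
      rw [hMG, Matrix.det_smul, hd]
      congr 2
      simp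
      omega
    have hdetG : (LinearMap.BilinForm.toMatrix b B).det = (-1) ^ (k + 1) * (s * s) := by
      rw [← hs, ← mul_assoc, ← pow_add, ← two_mul, pow_mul]
      simp
    obtain ⟨u, hu⟩ : ∃ u, u = 2 ^ (k + 1) * d * s := ⟨_, rfl⟩
    have hkey : 1 - 4 * ζ = u ^ 2 := by
      have h5 : (-1 : F) ^ k * (4 * ζ - 1) =
          2 ^ (2 * (k + 1)) * (d ^ 2 * ((-1) ^ (k + 1) * (s * s))) := by
        rw [← hdetM, hdetM2, hdetG]
      rw [hu]
      have h6 : ((-1 : F) ^ k) * ((-1) ^ k) = 1 := by
        rw [← mul_pow]; simp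
      have h7 : (4 * ζ - 1) = (-1) ^ k * (2 ^ (2 * (k + 1)) * (d ^ 2 * ((-1) ^ (k + 1) * (s * s)))) := by
        calc (4 * ζ - 1) = ((-1 : F) ^ k * (-1) ^ k) * (4 * ζ - 1) := by rw [h6, one_mul]
          _ = (-1) ^ k * ((-1) ^ k * (4 * ζ - 1)) := by ring
          _ = _ := by rw [h5]
      rw [pow_succ] at h7
      have h8 : (4 * ζ - 1) = -(((-1 : F) ^ k * (-1) ^ k) * (2 ^ (2 * (k + 1)) * (d ^ 2 * (s * s)))) := by
        rw [h7]; ring
      rw [h6, one_mul] at h8
      have h9 : (2 : F) ^ (2 * (k + 1)) = (2 ^ (k + 1)) ^ 2 := by rw [← pow_mul, mul_comm]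
      rw [h9] at h8
      linear_combination -h8
    apply hζ ((u - 1) / 2)
    field_simp
    linear_combination -hkey
  | r + 3, w, hstd, htail, hdim => exact htail.elim

end Cfsg.Agent.Lib.H11.Disc
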