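import Mathlib

set_option autoImplicit false

/-!
# Jordan chains for nilpotent endomorphisms (existence)
-/

namespace Cfsg.Agent.Lib.H11.Jordan

open Module

universe u

variable {K : Type*} [Field K]

/-- the family of vectors of a system of Jordan chains -/
def chainFam {V : Type*} [AddCommGroup V] [Module K V] {ι : Type*} (N : V →ₗ[K] V) (d : ι → ℕ)
    (v : ι → V) : (Σ i : ι, Fin (d i)) → V := fun x => (N ^ (x.2 : ℕ)) (v x.1)

/-- The chains `v i, N (v i), ..., N^(d i - 1) (v i)` form a basis, and `N^(d i) (v i) = 0`. -/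
structure IsJordanSys {V : Type*} [AddCommGroup V] [Module K V] {ι : Type*} (N : V →ₗ[K] V)
    (d : ι → ℕ) (v : ι → V) : Prop where
  pos : ∀ i, 1 ≤ d i
  kill : ∀ i, (N ^ d i) (v i) = 0
  li : LinearIndependent K (chainFam N d v)
  span : ⊤ ≤ Submodule.span K (Set.range (chainFam N d v))

/-- the sigma type over `Option ι` splits off the `none` fibre -/
def sigmaOptionEquiv {ι : Type*} (k : ℕ) (d' : ι → ℕ) :
    (Σ o : Option ι, Fin (Option.elim o k d')) ≃ Fin k ⊕ (Σ i : ι, Fin (d' i)) where
  toFun x := match x with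
    | ⟨none, i⟩ => Sum.inl i
    | ⟨some j, i⟩ => Sum.inr ⟨j, i⟩
  invFun y := match y with
    | Sum.inl i => ⟨none, i⟩
    | Sum.inr ⟨j, i⟩ => ⟨some j, i⟩
  left_inv := by rintro ⟨_ | j, i⟩ <;> rfl
  right_inv := by rintro (i | ⟨j, i⟩) <;> rfl

theorem coe_pow_restrict {V : Type*} [AddCommGroup V] [Module K V] (N : V →ₗ[K] V)
    (W : Submodule K V) (hW : ∀ w ∈ W, N w ∈ W) (m : ℕ) (w : W) :
    (((N.restrict hW) ^ m) w : V) = (N ^ m) (w : V) := by
  rw [Module.End.pow_restrict m hW, LinearMap.restrict_apply]

theorem exists_jordanSys : ∀ (r : ℕ) {V : Type u} [AddCommGroup V] [Module K V]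
    [FiniteDimensional K V] (N : V →ₗ[K] V), IsNilpotent N → finrank K V = r →
    ∃ (ι : Type) (_ : Fintype ι) (d : ι → ℕ) (v : ι → V), IsJordanSys N d v := by
  intro r
  induction r using Nat.strong_induction_on with
  | _ r ih =>
  intro V _ _ _ N hN hr
  by_cases hV : Subsingleton V
  · refine ⟨Empty, inferInstance, fun e => e.elim, fun e => e.elim,
      ⟨fun e => e.elim, fun e => e.elim, ?_, ?_⟩⟩
    · have : IsEmpty (Σ i : Empty, Fin ((fun e : Empty => (e.elim : ℕ)) i)) :=
        ⟨fun x => x.1.elim⟩
      exact linearIndependent_empty_type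
    · intro x _
      rw [Subsingleton.elim x 0]
      exact Submodule.zero_mem _
  · rw [not_subsingleton_iff_nontrivial] at hV
    obtain ⟨k, hk⟩ : ∃ k, k = nilpotencyClass N := ⟨_, rfl⟩
    have hNk : N ^ k = 0 := by rw [hk]; exact pow_nilpotencyClass hN
    have hNk1 : N ^ (k - 1) ≠ 0 := by rw [hk]; exact pow_pred_nilpotencyClass hN
    have hk1 : 1 ≤ k := by
      by_contra h
      have h0 : k = 0 := by omega
      rw [h0, pow_zero] at hNk
      exact one_ne_zero hNk
    have hNge : ∀ m, k ≤ m → N ^ m = 0 := by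
      intro m hm
      obtain ⟨s, rfl⟩ := Nat.exists_eq_add_of_le hm
      rw [pow_add, hNk, zero_mul]
    obtain ⟨v₀, hv₀⟩ : ∃ v₀, (N ^ (k - 1)) v₀ ≠ 0 := by
      by_contra h
      push Not at h
      exact hNk1 (LinearMap.ext h)
    obtain ⟨φ, hφ⟩ : ∃ φ : Module.Dual K V, φ ((N ^ (k - 1)) v₀) ≠ 0 := by
      by_contra h
      push Not at h
      exact hv₀ ((Module.forall_dual_apply_eq_zero_iff K _).mp h)
    let Φ : V →ₗ[K] (Fin k → K) := LinearMap.pi (fun i => φ ∘ₗ (N ^ (k - 1 - (i : ℕ))))
    have hΦ : ∀ w i, Φ w i = φ ((N ^ (k - 1 - (i : ℕ))) w) := fun w i => rfl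
    let c : Fin k → V := fun j => (N ^ (j : ℕ)) v₀
    have hΦc : ∀ i j : Fin k, Φ (c j) i = φ ((N ^ (k - 1 - (i : ℕ) + (j : ℕ))) v₀) := by
      intro i j
      rw [hΦ, pow_add]
      rfl
    have hΦc_gt : ∀ i j : Fin k, i < j → Φ (c j) i = 0 := by
      intro i j hij
      rw [hΦc, hNge _ (by have := i.2; have := j.2; have : (i : ℕ) < j := hij; omega)]
      simp
    have hΦc_eq : ∀ i : Fin k, Φ (c i) i = φ ((N ^ (k - 1)) v₀) := by
      intro i
      rw [hΦc]
      congr 3
      have := i.2
      omega
    -- triangularity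
    have claim1 : ∀ a : Fin k → K, Φ (∑ j, a j • c j) = 0 → ∀ i, a i = 0 := by
      intro a ha
      have key : ∀ m : ℕ, ∀ i : Fin k, (i : ℕ) = m → a i = 0 := by
        intro m
        induction m using Nat.strong_induction_on with
        | _ m ihm =>
        intro i him
        have h1 := congrFun ha i
        rw [map_sum, Finset.sum_apply, Pi.zero_apply] at h1
        rw [Finset.sum_eq_single i] at h1
        · rw [map_smul, Pi.smul_apply, smul_eq_mul, hΦc_eq] at h1
          exact (mul_eq_zero.mp h1).resolve_right hφ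
        · intro j _ hji
          rw [map_smul, Pi.smul_apply, smul_eq_mul]
          rcases lt_or_gt_of_ne hji with h | h
          · rw [ihm j (by rw [← him]; exact h) j rfl, zero_mul]
          · rw [hΦc_gt i j h, mul_zero]
        · intro h; exact absurd (Finset.mem_univ i) h
      intro i
      exact key i i rfl
    have hc_li : LinearIndependent K c := by
      rw [Fintype.linearIndependent_iff]
      intro a ha i
      exact claim1 a (by rw [ha, map_zero]) i
    obtain ⟨Z, hZ⟩ : ∃ Z : Submodule K V, Z = Submodule.span K (Set.range c) := ⟨_, rfl⟩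
    obtain ⟨W, hW⟩ : ∃ W : Submodule K V, W = LinearMap.ker Φ := ⟨_, rfl⟩
    have hZW : Disjoint Z W := by
      rw [Submodule.disjoint_def]
      intro z hzZ hzW
      rw [hZ, Submodule.mem_span_range_iff_exists_fun] at hzZ
      obtain ⟨a, rfl⟩ := hzZ
      rw [hW, LinearMap.mem_ker] at hzW
      have := claim1 a hzW
      simp [this]
    have hfZ : finrank K Z = k := by
      rw [hZ, finrank_span_eq_card hc_li, Fintype.card_fin]
    have hfW : finrank K V ≤ k + finrank K W := by
      have h1 := LinearMap.finrank_range_add_finrank_ker Φ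
      have h2 : finrank K (LinearMap.range Φ) ≤ k := by
        have := Submodule.finrank_le (LinearMap.range Φ)
        rw [Module.finrank_fin_fun] at this
        exact this
      rw [hW]
      omega
    have hsup : Z ⊔ W = ⊤ := by
      apply Submodule.eq_top_of_finrank_eq
      have h1 := Submodule.finrank_sup_add_finrank_inf_eq Z W
      rw [disjoint_iff.mp hZW, finrank_bot, add_zero, hfZ] at h1
      have h2 := Submodule.finrank_le (Z ⊔ W)
      omega
    have hfW' : finrank K W < r := by
      have h1 := Submodule.finrank_sup_add_finrank_inf_eq Z W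
      rw [disjoint_iff.mp hZW, finrank_bot, add_zero, hfZ, hsup, finrank_top] at h1
      omega
    have hWN : ∀ w ∈ W, N w ∈ W := by
      intro w hw
      rw [hW, LinearMap.mem_ker] at hw ⊢
      funext i
      rw [hΦ, Pi.zero_apply]
      by_cases hi : (i : ℕ) = 0
      · have : (N ^ (k - 1 - (i : ℕ))) (N w) = (N ^ k) w := by
          rw [hi, Nat.sub_zero]
          conv_rhs => rw [show k = (k - 1) + 1 by omega, pow_succ]
          rfl
        rw [this, hNk]
        simp
      · have hi' : (i : ℕ) - 1 < k := by have := i.2; omega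
        have h1 := congrFun hw ⟨(i : ℕ) - 1, hi'⟩
        rw [hΦ, Pi.zero_apply] at h1
        have : (N ^ (k - 1 - (i : ℕ))) (N w) = (N ^ (k - 1 - ((i : ℕ) - 1))) w := by
          have hi2 := i.2
          conv_rhs => rw [show k - 1 - ((i : ℕ) - 1) = (k - 1 - (i : ℕ)) + 1 by omega, pow_succ]
          rfl
        rw [this]
        exact h1
    have hN' : IsNilpotent (N.restrict hWN) := by
      refine ⟨k, ?_⟩
      ext w
      rw [coe_pow_restrict, hNk]
      simp
    obtain ⟨ι', _, d', v', hJ'⟩ := ih (finrank K W) hfW' (N.restrict hWN) hN' rfl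
    refine ⟨Option ι', inferInstance, fun o => Option.elim o k d',
      fun o => Option.elim o v₀ (fun i => (v' i : V)), ⟨?_, ?_, ?_, ?_⟩⟩
    · rintro (_ | i)
      · exact hk1
      · exact hJ'.pos i
    · rintro (_ | i)
      · change (N ^ k) v₀ = 0
        rw [hNk]; rfl
      · change (N ^ d' i) (v' i : V) = 0
        rw [← coe_pow_restrict N W hWN, hJ'.kill i]
        rfl
    all_goals
      have hfam : chainFam N (fun o => Option.elim o k d')
          (fun o => Option.elim o v₀ (fun i => (v' i : V))) ∘ (sigmaOptionEquiv k d').symm =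
          Sum.elim c (W.subtype ∘ chainFam (N.restrict hWN) d' v') := by
        funext y
        rcases y with j | ⟨i, a⟩
        · rfl
        · change (N ^ (a : ℕ)) (v' i : V) = (((N.restrict hWN) ^ (a : ℕ)) (v' i) : V)
          rw [coe_pow_restrict]
    · rw [← linearIndependent_equiv (sigmaOptionEquiv k d').symm, hfam]
      apply LinearIndependent.sum_type hc_li (hJ'.li.map' W.subtype (Submodule.ker_subtype W))
      rw [← hZ]
      apply hZW.mono_right
      rw [Submodule.span_le]
      rintro _ ⟨x, rfl⟩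
      exact (chainFam (N.restrict hWN) d' v' x).2
    · rw [← EquivLike.range_comp _ (sigmaOptionEquiv k d').symm, hfam, Set.Sum.elim_range,
        Submodule.span_union, ← hZ, Set.range_comp, ← Submodule.map_span]
      have h1 : Submodule.span K (Set.range (chainFam (N.restrict hWN) d' v')) = ⊤ :=
        top_le_iff.mp hJ'.span
      rw [h1, Submodule.map_subtype_top, hsup]

end Cfsg.Agent.Lib.H11.Jordan
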