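import Mathlib
import Cfsg.Prelude.Def_JordanBlocks
import Cfsg.Agent.Lib.H11.Jordan1

set_option autoImplicit false

/-!
# Jordan normal form of unipotent matrices (existence, matrix form)
-/

namespace Cfsg.Agent.Lib.H11.Jordan

open Module Matrix

variable {K : Type*} [Field K]

theorem IsJordanSys.reindex {V : Type*} [AddCommGroup V] [Module K V] {ι ι' : Type*}
    {N : V →ₗ[K] V} {d : ι → ℕ} {v : ι → V} (h : IsJordanSys N d v) (e : ι' ≃ ι) :
    IsJordanSys N (d ∘ e) (v ∘ e) := by
  have hfam : chainFam N (d ∘ e) (v ∘ e) =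
      chainFam N d v ∘ (Equiv.sigmaCongrLeft (β := fun i => Fin (d i)) e) := by
    funext x
    rfl
  refine ⟨fun i => h.pos (e i), fun i => h.kill (e i), ?_, ?_⟩
  · rw [hfam, linearIndependent_equiv]
    exact h.li
  · rw [hfam, EquivLike.range_comp]
    exact h.span

/-- entries of the Jordan type matrix -/
theorem jordanTypeMatrix_apply {t : ℕ} (d : Fin t → ℕ) (y x : (k : Fin t) × Fin (d k)) :
    Cfsg.jordanTypeMatrix d K y x =
      if y.1 = x.1 ∧ ((y.2 : ℕ) = (x.2 : ℕ) ∨ (y.2 : ℕ) = (x.2 : ℕ) + 1) then 1 else 0 := by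
  obtain ⟨k', a'⟩ := y
  obtain ⟨k, a⟩ := x
  unfold Cfsg.jordanTypeMatrix
  by_cases hk : k' = k
  · subst hk
    rw [Matrix.blockDiagonal'_apply_eq]
    unfold Cfsg.jordanBlock
    simp only [Matrix.of_apply, true_and]
    by_cases h1 : (a' : ℕ) = a
    · rw [if_pos h1, if_pos (Or.inl h1)]
    · rw [if_neg h1]
      by_cases h2 : (a' : ℕ) = (a : ℕ) + 1
      · rw [if_pos h2, if_pos (Or.inr h2)]
      · rw [if_neg h2, if_neg (by tauto)]
  · rw [Matrix.blockDiagonal'_apply_ne _ _ _ hk, if_neg (fun h => hk h.1)]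

/-- the matrix of `1 + N` in a Jordan basis -/
theorem toMatrix_jordan {V : Type*} [AddCommGroup V] [Module K V] {t : ℕ}
    {N : V →ₗ[K] V} {d : Fin t → ℕ} {v : Fin t → V} (h : IsJordanSys N d v) :
    LinearMap.toMatrix (Basis.mk h.li h.span) (Basis.mk h.li h.span) (1 + N) =
      Cfsg.jordanTypeMatrix d K := by
  classical
  ext y x
  rw [LinearMap.toMatrix_apply, jordanTypeMatrix_apply]
  obtain ⟨k, a⟩ := x
  have hbx : ∀ z, (Basis.mk h.li h.span) z = (N ^ (z.2 : ℕ)) (v z.1) := fun z =>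
    Basis.mk_apply h.li h.span z
  have h1 : (1 + N) ((Basis.mk h.li h.span) ⟨k, a⟩) =
      (Basis.mk h.li h.span) ⟨k, a⟩ + (N ^ ((a : ℕ) + 1)) (v k) := by
    rw [LinearMap.add_apply, Module.End.one_apply, hbx, pow_succ']
    rfl
  rw [h1, map_add, Finsupp.add_apply, Basis.repr_self_apply]
  by_cases ha : (a : ℕ) + 1 < d k
  · have h2 : (N ^ ((a : ℕ) + 1)) (v k) = (Basis.mk h.li h.span) ⟨k, ⟨(a : ℕ) + 1, ha⟩⟩ := by
      rw [hbx]
    rw [h2, Basis.repr_self_apply]
    obtain ⟨k', a'⟩ := y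
    by_cases hk : k' = k
    · subst hk
      by_cases e1 : (a' : ℕ) = a
      · have : a' = a := Fin.ext e1
        subst this
        rw [if_pos rfl, if_neg, if_pos ⟨rfl, Or.inl rfl⟩, add_zero]
        intro hh
        have := congrArg (fun z : (k : Fin t) × Fin (d k) => (z.2 : ℕ)) hh
        simp at this
      · by_cases e2 : (a' : ℕ) = (a : ℕ) + 1
        · rw [if_neg, if_pos, if_pos ⟨rfl, Or.inr e2⟩, zero_add]
          · congr 1
            exact Fin.ext e2.symm
          · intro hh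
            have := congrArg (fun z : (k : Fin t) × Fin (d k) => (z.2 : ℕ)) hh
            exact e1 this.symm
        · rw [if_neg, if_neg, if_neg, add_zero]
          · rintro ⟨-, h3 | h3⟩
            · exact e1 h3
            · exact e2 h3
          · intro hh
            have := congrArg (fun z : (k : Fin t) × Fin (d k) => (z.2 : ℕ)) hh
            exact e2 this.symm
          · intro hh
            have := congrArg (fun z : (k : Fin t) × Fin (d k) => (z.2 : ℕ)) hh
            exact e1 this.symm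
    · rw [if_neg, if_neg, if_neg, add_zero]
      · exact fun hh => hk hh.1
      · intro hh
        exact hk (congrArg Sigma.fst hh).symm
      · intro hh
        exact hk (congrArg Sigma.fst hh).symm
  · have h2 : (N ^ ((a : ℕ) + 1)) (v k) = 0 := by
      have : (a : ℕ) + 1 = d k := by have := a.2; omega
      rw [this, h.kill]
    rw [h2, map_zero, Finsupp.zero_apply, add_zero]
    obtain ⟨k', a'⟩ := y
    by_cases hk : k' = k
    · subst hk
      by_cases e1 : (a' : ℕ) = a
      · have : a' = a := Fin.ext e1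
        subst this
        rw [if_pos rfl, if_pos ⟨rfl, Or.inl rfl⟩]
      · rw [if_neg, if_neg]
        · rintro ⟨-, h3 | h3⟩
          · exact e1 h3
          · have h4 := a'.2
            have h5 : (a' : ℕ) = (a : ℕ) + 1 := h3
            omega
        · intro hh
          have := congrArg (fun z : (k : Fin t) × Fin (d k) => (z.2 : ℕ)) hh
          exact e1 this.symm
    · rw [if_neg, if_neg]
      · exact fun hh => hk hh.1
      · intro hh
        exact hk (congrArg Sigma.fst hh).symm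

/-- **Jordan normal form**: a unipotent matrix `1 + N` (`N` nilpotent) is similar to a Jordan
type matrix. -/
theorem exists_jordan_form {n : ℕ} (N : Matrix (Fin n) (Fin n) K) (hN : IsNilpotent N) :
    ∃ (t : ℕ) (d : Fin t → ℕ) (_ : ∀ k, 1 ≤ d k) (e : ((k : Fin t) × Fin (d k)) ≃ Fin n)
      (P Pi : Matrix (Fin n) (Fin n) K), P * Pi = 1 ∧ Pi * P = 1 ∧
        P * (Matrix.reindex e e (Cfsg.jordanTypeMatrix d K)) = (1 + N) * P := by
  classical
  have hNl : IsNilpotent (Matrix.toLin' N) := hN.map (Matrix.toLinAlgEquiv' (R := K) (n := Fin n))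
  obtain ⟨ι, _, d₀, v₀, hJ₀⟩ := exists_jordanSys (finrank K (Fin n → K)) (Matrix.toLin' N) hNl rfl
  obtain ⟨t, ht⟩ : ∃ t, t = Fintype.card ι := ⟨_, rfl⟩
  let eι : Fin t ≃ ι := (Fintype.equivFinOfCardEq ht.symm).symm
  have hJ := hJ₀.reindex eι
  obtain ⟨d, hd⟩ : ∃ d : Fin t → ℕ, d = d₀ ∘ eι := ⟨_, rfl⟩
  obtain ⟨v, hv⟩ : ∃ v : Fin t → (Fin n → K), v = v₀ ∘ eι := ⟨_, rfl⟩
  rw [← hd, ← hv] at hJ
  let b := Basis.mk hJ.li hJ.span
  have hcard : Fintype.card ((k : Fin t) × Fin (d k)) = Fintype.card (Fin n) := by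
    rw [← Module.finrank_eq_card_basis b, Module.finrank_fin_fun, Fintype.card_fin]
  let e : ((k : Fin t) × Fin (d k)) ≃ Fin n := Fintype.equivOfCardEq hcard
  let b' : Basis (Fin n) K (Fin n → K) := b.reindex e
  let s : Basis (Fin n) K (Fin n → K) := Pi.basisFun K (Fin n)
  have hmat : LinearMap.toMatrix b' b' (1 + Matrix.toLin' N) =
      Matrix.reindex e e (Cfsg.jordanTypeMatrix d K) := by
    ext i j
    rw [LinearMap.toMatrix_apply, Basis.repr_reindex_apply, Basis.reindex_apply,
      Matrix.reindex_apply, Matrix.submatrix_apply, ← toMatrix_jordan hJ, LinearMap.toMatrix_apply]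
  have hchg := basis_toMatrix_mul_linearMap_toMatrix_mul_basis_toMatrix s b' s b'
    (1 + Matrix.toLin' N)
  rw [hmat, LinearMap.toMatrix_eq_toMatrix', map_add, LinearMap.toMatrix'_toLin',
    LinearMap.toMatrix'_one] at hchg
  have h1 : s.toMatrix b' * b'.toMatrix s = 1 := Basis.toMatrix_mul_toMatrix_flip s b'
  have h2 : b'.toMatrix s * s.toMatrix b' = 1 := Basis.toMatrix_mul_toMatrix_flip b' s
  refine ⟨t, d, hJ.pos, e, s.toMatrix b', b'.toMatrix s, h1, h2, ?_⟩
  rw [← hchg]
  calc s.toMatrix b' * Matrix.reindex e e (Cfsg.jordanTypeMatrix d K)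
      = s.toMatrix b' * Matrix.reindex e e (Cfsg.jordanTypeMatrix d K) *
          (b'.toMatrix s * s.toMatrix b') := by rw [h2, Matrix.mul_one]
    _ = s.toMatrix b' * Matrix.reindex e e (Cfsg.jordanTypeMatrix d K) * b'.toMatrix s *
          s.toMatrix b' := by simp only [Matrix.mul_assoc]

end Cfsg.Agent.Lib.H11.Jordan
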