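import Mathlib
import Cfsg.Agent.Lib.H11.Jordan2

set_option autoImplicit false

/-!
# Ranks of powers of Jordan type matrices, and uniqueness of the Jordan type
-/

namespace Cfsg.Agent.Lib.H11.Jordan

open Module Matrix

variable {K : Type*} [Field K]

/-- rank of a `0/1`-matrix given by a partial injective function -/
theorem rank_partial_perm {ι : Type*} [Fintype ι] [DecidableEq ι] (M : Matrix ι ι K)
    (R : ι → ι → Prop) [DecidableRel R] (hM : ∀ y x, M y x = if R y x then 1 else 0)
    (hfun : ∀ x y y', R y x → R y' x → y = y') (hinj : ∀ y x x', R y x → R y x' → x = x') :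
    M.rank = Fintype.card {x : ι // ∃ y, R y x} := by
  classical
  rw [Matrix.rank_eq_finrank_span_cols]
  let f : {x : ι // ∃ y, R y x} → ι := fun x => Classical.choose x.2
  have hf : ∀ x : {x : ι // ∃ y, R y x}, R (f x) x.1 := fun x => Classical.choose_spec x.2
  have hfinj : Function.Injective f := by
    intro x x' hxx'
    apply Subtype.ext
    have h1 := hf x
    have h2 := hf x'
    rw [hxx'] at h1
    exact hinj _ _ _ h1 h2
  have hcol : ∀ x : {x : ι // ∃ y, R y x}, M.col x.1 = Pi.single (f x) 1 := by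
    intro x
    funext y
    rw [Matrix.col_apply, hM, Pi.single_apply]
    by_cases hy : y = f x
    · rw [if_pos hy, if_pos (by rw [hy]; exact hf x)]
    · rw [if_neg hy, if_neg (fun h => hy (hfun _ _ _ h (hf x)))]
  have hcol0 : ∀ x : ι, (¬ ∃ y, R y x) → M.col x = 0 := by
    intro x hx
    funext y
    rw [Matrix.col_apply, hM, if_neg (fun h => hx ⟨y, h⟩)]
    rfl
  have hspan : Submodule.span K (Set.range M.col) =
      Submodule.span K (Set.range (fun x : {x : ι // ∃ y, R y x} => (Pi.single (f x) 1 : ι → K))) := by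
    apply le_antisymm
    · rw [Submodule.span_le]
      rintro _ ⟨x, rfl⟩
      by_cases hx : ∃ y, R y x
      · apply Submodule.subset_span
        exact ⟨⟨x, hx⟩, (hcol ⟨x, hx⟩).symm⟩
      · rw [hcol0 x hx]
        exact Submodule.zero_mem _
    · rw [Submodule.span_le]
      rintro _ ⟨x, rfl⟩
      apply Submodule.subset_span
      exact ⟨x.1, hcol x⟩
  rw [hspan]
  have hli : LinearIndependent K
      (fun x : {x : ι // ∃ y, R y x} => (Pi.single (f x) 1 : ι → K)) := by
    have h := (Pi.basisFun K ι).linearIndependent.comp f hfinj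
    convert h using 1
    funext x
    simp [Pi.basisFun_apply]
  exact finrank_span_eq_card hli

/-- entries of powers of the nilpotent part of a Jordan type matrix -/
theorem jordan_sub_one_pow_apply {t : ℕ} (d : Fin t → ℕ) (j : ℕ)
    (y x : (k : Fin t) × Fin (d k)) :
    ((Cfsg.jordanTypeMatrix d K - 1) ^ j) y x =
      if y.1 = x.1 ∧ (y.2 : ℕ) = (x.2 : ℕ) + j then 1 else 0 := by
  classical
  have h1 : ∀ y x : (k : Fin t) × Fin (d k), (Cfsg.jordanTypeMatrix d K - 1) y x =
      if y.1 = x.1 ∧ (y.2 : ℕ) = (x.2 : ℕ) + 1 then 1 else 0 := by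
    intro y x
    rw [Matrix.sub_apply, jordanTypeMatrix_apply, Matrix.one_apply]
    by_cases hyx : y = x
    · subst hyx
      rw [if_pos ⟨rfl, Or.inl rfl⟩, if_pos rfl, sub_self, if_neg]
      rintro ⟨-, h⟩
      omega
    · rw [if_neg hyx, sub_zero]
      by_cases h2 : y.1 = x.1 ∧ (y.2 : ℕ) = (x.2 : ℕ) + 1
      · rw [if_pos h2, if_pos ⟨h2.1, Or.inr h2.2⟩]
      · rw [if_neg h2, if_neg]
        rintro ⟨h3, h4 | h4⟩
        · apply hyx
          obtain ⟨k', a'⟩ := y
          obtain ⟨k, a⟩ := x
          simp only at h3 h4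
          subst h3
          congr 1
          exact Fin.ext h4
        · exact h2 ⟨h3, h4⟩
  induction j generalizing y x with
  | zero =>
    rw [pow_zero, Matrix.one_apply, add_zero]
    by_cases hyx : y = x
    · subst hyx
      rw [if_pos rfl, if_pos ⟨rfl, rfl⟩]
    · rw [if_neg hyx, if_neg]
      rintro ⟨h3, h4⟩
      apply hyx
      obtain ⟨k', a'⟩ := y
      obtain ⟨k, a⟩ := x
      simp only at h3 h4
      subst h3
      congr 1
      exact Fin.ext h4
  | succ j ih =>
    rw [pow_succ, Matrix.mul_apply]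
    by_cases hx : (x.2 : ℕ) + 1 < d x.1
    · -- the successor of `x`
      rw [Finset.sum_eq_single (⟨x.1, ⟨(x.2 : ℕ) + 1, hx⟩⟩ : (k : Fin t) × Fin (d k))]
      · rw [h1 _ x, if_pos ⟨rfl, rfl⟩, mul_one, ih]
        congr 1
        apply propext
        constructor
        · rintro ⟨h3, h4⟩
          refine ⟨h3, ?_⟩
          rw [h4]
          change (x.2 : ℕ) + 1 + j = (x.2 : ℕ) + (j + 1)
          ring
        · rintro ⟨h3, h4⟩
          refine ⟨h3, ?_⟩
          rw [h4]
          change (x.2 : ℕ) + (j + 1) = (x.2 : ℕ) + 1 + j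
          ring
      · intro z _ hz
        rw [h1 z x, if_neg, mul_zero]
        rintro ⟨h3, h4⟩
        apply hz
        obtain ⟨k', a'⟩ := z
        obtain ⟨k, a⟩ := x
        simp only at h3 h4
        subst h3
        congr 1
        exact Fin.ext h4
      · intro h; exact absurd (Finset.mem_univ _) h
    · rw [Finset.sum_eq_zero, if_neg]
      · rintro ⟨h3, h4⟩
        have h5 := y.2.2
        have h6 : d y.1 = d x.1 := congrArg d h3
        omega
      · intro z _
        rw [h1 z x, if_neg, mul_zero]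
        rintro ⟨h3, h4⟩
        have h5 := z.2.2
        have h6 : d z.1 = d x.1 := congrArg d h3
        omega

/-- the rank of the `j`-th power of the nilpotent part of a Jordan type matrix -/
theorem rank_jordan_sub_one_pow {t : ℕ} (d : Fin t → ℕ) (j : ℕ) :
    ((Cfsg.jordanTypeMatrix d K - 1) ^ j).rank = ∑ k, (d k - j) := by
  classical
  rw [rank_partial_perm ((Cfsg.jordanTypeMatrix d K - 1) ^ j)
    (fun y x => y.1 = x.1 ∧ (y.2 : ℕ) = (x.2 : ℕ) + j) (jordan_sub_one_pow_apply d j)]
  · -- count
    have e : {x : (k : Fin t) × Fin (d k) // ∃ y : (k : Fin t) × Fin (d k),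
        y.1 = x.1 ∧ (y.2 : ℕ) = (x.2 : ℕ) + j} ≃ ((k : Fin t) × Fin (d k - j)) :=
      { toFun := fun x => ⟨x.1.1, ⟨(x.1.2 : ℕ), by
          obtain ⟨y, h3, h4⟩ := x.2
          have h5 := y.2.2
          have h6 : d y.1 = d x.1.1 := congrArg d h3
          omega⟩⟩
        invFun := fun z => ⟨⟨z.1, ⟨(z.2 : ℕ), by have := z.2.2; omega⟩⟩,
          ⟨⟨z.1, ⟨(z.2 : ℕ) + j, by have := z.2.2; omega⟩⟩, rfl, rfl⟩⟩
        left_inv := fun x => by
          apply Subtype.ext
          rfl
        right_inv := fun z => rfl }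
    rw [Fintype.card_congr e, Fintype.card_sigma]
    simp only [Fintype.card_fin]
  · rintro x y y' ⟨h3, h4⟩ ⟨h3', h4'⟩
    obtain ⟨k', a'⟩ := y
    obtain ⟨k'', a''⟩ := y'
    simp only at h3 h4 h3' h4'
    subst h3
    subst h3'
    congr 1
    exact Fin.ext (by rw [h4, h4'])
  · rintro y x x' ⟨h3, h4⟩ ⟨h3', h4'⟩
    obtain ⟨ky, ay⟩ := y
    obtain ⟨k, a⟩ := x
    obtain ⟨k', a'⟩ := x'
    simp only at h3 h4 h3' h4'
    subst h3
    subst h3'
    congr 1
    exact Fin.ext (by omega)

/-- the multiplicities of the block sizes are determined by the rank sums -/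
theorem count_eq_of_sum_eq {t t' : ℕ} (d : Fin t → ℕ) (d' : Fin t' → ℕ)
    (hd : ∀ k, 1 ≤ d k) (hd' : ∀ k, 1 ≤ d' k)
    (h : ∀ j, ∑ k, (d k - j) = ∑ k, (d' k - j)) (m : ℕ) :
    (Finset.univ.filter (fun k => d k = m)).card = (Finset.univ.filter (fun k => d' k = m)).card := by
  classical
  have hg : ∀ {s : ℕ} (f : Fin s → ℕ) (j : ℕ),
      ∑ k, (f k - j) = ∑ k, (f k - (j + 1)) + (Finset.univ.filter (fun k => j + 1 ≤ f k)).card := by
    intro s f j
    rw [Finset.card_filter, ← Finset.sum_add_distrib]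
    apply Finset.sum_congr rfl
    intro k _
    split_ifs <;> omega
  have hc : ∀ {s : ℕ} (f : Fin s → ℕ) (j : ℕ),
      (Finset.univ.filter (fun k => j ≤ f k)).card =
        (Finset.univ.filter (fun k => f k = j)).card +
          (Finset.univ.filter (fun k => j + 1 ≤ f k)).card := by
    intro s f j
    rw [Finset.card_filter, Finset.card_filter, Finset.card_filter, ← Finset.sum_add_distrib]
    apply Finset.sum_congr rfl
    intro k _
    split_ifs <;> omega
  have hge : ∀ j, (Finset.univ.filter (fun k => j + 1 ≤ d k)).card =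
      (Finset.univ.filter (fun k => j + 1 ≤ d' k)).card := by
    intro j
    have h1 := hg d j
    have h2 := hg d' j
    have h3 := h j
    have h4 := h (j + 1)
    omega
  rcases Nat.eq_zero_or_pos m with hm | hm
  · subst hm
    rw [Finset.card_eq_zero.mpr, Finset.card_eq_zero.mpr]
    · rw [Finset.filter_eq_empty_iff]
      intro k _ hk
      have := hd' k
      omega
    · rw [Finset.filter_eq_empty_iff]
      intro k _ hk
      have := hd k
      omega
  · obtain ⟨j, rfl⟩ : ∃ j, m = j + 1 := ⟨m - 1, by omega⟩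
    have h1 := hc d (j + 1)
    have h2 := hc d' (j + 1)
    have h3 := hge j
    have h4 := hge (j + 1)
    omega

end Cfsg.Agent.Lib.H11.Jordan
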