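import Mathlib
import Cfsg.Agent.Lib.H11.Jordan3

set_option autoImplicit false

/-!
# Jordan types of unipotent matrices: a complete similarity invariant
-/

namespace Cfsg.Agent.Lib.H11.Jordan

open Module Matrix

variable {K : Type*} [Field K]

theorem eq_zero_of_rank_eq_zero {m n : Type*} [Fintype m] [Fintype n] [DecidableEq n]
    (M : Matrix m n K) (h : M.rank = 0) : M = 0 := by
  unfold Matrix.rank at h
  rw [Submodule.finrank_eq_zero, LinearMap.range_eq_bot] at h
  have h2 : Matrix.toLin' M = 0 := by rw [Matrix.toLin'_apply']; exact h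
  exact (LinearEquiv.map_eq_zero_iff _).mp h2

/-- two reindexings of the same matrix are conjugate -/
theorem isConj_reindex_reindex {ι : Type*} [Fintype ι] [DecidableEq ι] {n : ℕ}
    (e₁ e₂ : ι ≃ Fin n) (M : Matrix ι ι K) :
    IsConj (Matrix.reindex e₁ e₁ M) (Matrix.reindex e₂ e₂ M) := by
  have h1 : (1 : Matrix ι ι K).submatrix e₂.symm e₁.symm * (1 : Matrix ι ι K).submatrix e₁.symm e₂.symm
      = 1 := by
    rw [Matrix.submatrix_mul_equiv, Matrix.one_mul, Matrix.submatrix_one_equiv]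
  have h2 : (1 : Matrix ι ι K).submatrix e₁.symm e₂.symm * (1 : Matrix ι ι K).submatrix e₂.symm e₁.symm
      = 1 := by
    rw [Matrix.submatrix_mul_equiv, Matrix.one_mul, Matrix.submatrix_one_equiv]
  refine ⟨⟨(1 : Matrix ι ι K).submatrix e₂.symm e₁.symm,
    (1 : Matrix ι ι K).submatrix e₁.symm e₂.symm, h1, h2⟩, ?_⟩
  change (1 : Matrix ι ι K).submatrix e₂.symm e₁.symm * Matrix.reindex e₁ e₁ M =
    Matrix.reindex e₂ e₂ M * (1 : Matrix ι ι K).submatrix e₂.symm e₁.symm
  rw [Matrix.reindex_apply, Matrix.reindex_apply, Matrix.submatrix_mul_equiv,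
    Matrix.submatrix_mul_equiv, Matrix.one_mul, Matrix.mul_one]

theorem isConj_sub_one_pow {n : ℕ} {a b : Matrix (Fin n) (Fin n) K} (h : IsConj a b) (j : ℕ) :
    ((a - 1) ^ j).rank = ((b - 1) ^ j).rank := by
  obtain ⟨c, hc⟩ := h
  have hc' : (c : Matrix (Fin n) (Fin n) K) * a = b * c := hc
  have h1 : (c : Matrix (Fin n) (Fin n) K) * (a - 1) = (b - 1) * c := by
    rw [Matrix.mul_sub, Matrix.sub_mul, hc', Matrix.mul_one, Matrix.one_mul]
  have h2 : (c : Matrix (Fin n) (Fin n) K) * (a - 1) ^ j = (b - 1) ^ j * c := by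
    induction j with
    | zero => rw [pow_zero, pow_zero, Matrix.mul_one, Matrix.one_mul]
    | succ j ih => rw [pow_succ, ← Matrix.mul_assoc, ih, Matrix.mul_assoc, h1, ← Matrix.mul_assoc,
        ← pow_succ]
  have hdet : IsUnit (c : Matrix (Fin n) (Fin n) K).det :=
    (Matrix.isUnit_iff_isUnit_det _).mp c.isUnit
  rw [← Matrix.rank_mul_eq_right_of_isUnit_det (c : Matrix (Fin n) (Fin n) K) _ hdet, h2,
    Matrix.rank_mul_eq_left_of_isUnit_det _ _ hdet]

theorem reindex_sub_one_pow {ι : Type*} [Fintype ι] [DecidableEq ι] {n : ℕ} (e : ι ≃ Fin n)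
    (M : Matrix ι ι K) (j : ℕ) :
    (Matrix.reindex e e M - 1) ^ j = Matrix.reindex e e ((M - 1) ^ j) := by
  have h := map_pow (Matrix.reindexAlgEquiv K K e) (M - 1) j
  rw [map_sub, map_one, Matrix.coe_reindexAlgEquiv] at h
  exact h.symm

/-- `u` has Jordan type `μ` (a multiset of block sizes). -/
def HasType {n : ℕ} (u : Matrix (Fin n) (Fin n) K) (μ : Multiset ℕ) : Prop :=
  ∃ (t : ℕ) (d : Fin t → ℕ) (_ : ∀ k, 1 ≤ d k) (e : ((k : Fin t) × Fin (d k)) ≃ Fin n),
    IsConj (Matrix.reindex e e (Cfsg.jordanTypeMatrix d K)) u ∧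
      μ = Multiset.map d Finset.univ.val

theorem HasType.rank {n : ℕ} {u : Matrix (Fin n) (Fin n) K} {μ : Multiset ℕ} (h : HasType u μ)
    (j : ℕ) : ((u - 1) ^ j).rank = (μ.map (fun a => a - j)).sum := by
  obtain ⟨t, d, hd, e, hc, rfl⟩ := h
  rw [← isConj_sub_one_pow hc, reindex_sub_one_pow, Matrix.rank_reindex, rank_jordan_sub_one_pow,
    Finset.sum_eq_multiset_sum, Multiset.map_map]
  rfl

theorem HasType.pos {n : ℕ} {u : Matrix (Fin n) (Fin n) K} {μ : Multiset ℕ} (h : HasType u μ) :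
    ∀ a ∈ μ, 0 < a := by
  obtain ⟨t, d, hd, e, hc, rfl⟩ := h
  intro a ha
  rw [Multiset.mem_map] at ha
  obtain ⟨k, -, rfl⟩ := ha
  exact hd k

theorem HasType.sum {n : ℕ} {u : Matrix (Fin n) (Fin n) K} {μ : Multiset ℕ} (h : HasType u μ) :
    μ.sum = n := by
  obtain ⟨t, d, hd, e, hc, rfl⟩ := h
  have h1 := Fintype.card_congr e
  rw [Fintype.card_sigma, Fintype.card_fin] at h1
  simp only [Fintype.card_fin] at h1
  rw [← h1, Finset.sum_eq_multiset_sum]

theorem HasType.of_isConj {n : ℕ} {u u' : Matrix (Fin n) (Fin n) K} {μ : Multiset ℕ}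
    (h : HasType u μ) (hc : IsConj u u') : HasType u' μ := by
  obtain ⟨t, d, hd, e, hc', rfl⟩ := h
  exact ⟨t, d, hd, e, hc'.trans hc, rfl⟩

/-- existence of the Jordan type -/
theorem exists_hasType {n : ℕ} (u : Matrix (Fin n) (Fin n) K) (hu : IsNilpotent (u - 1)) :
    ∃ μ, HasType u μ := by
  obtain ⟨t, d, hd, e, P, Pi, h1, h2, h3⟩ := exists_jordan_form (u - 1) hu
  refine ⟨_, t, d, hd, e, ⟨⟨P, Pi, h1, h2⟩, ?_⟩, rfl⟩
  change P * Matrix.reindex e e (Cfsg.jordanTypeMatrix d K) = u * P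
  rw [h3, add_sub_cancel]

/-- the type is determined by the ranks of the powers of `u - 1` -/
theorem HasType.eq_of_rank {n n' : ℕ} {u : Matrix (Fin n) (Fin n) K}
    {u' : Matrix (Fin n') (Fin n') K} {μ μ' : Multiset ℕ}
    (h : HasType u μ) (h' : HasType u' μ')
    (hr : ∀ j, ((u - 1) ^ j).rank = ((u' - 1) ^ j).rank) : μ = μ' := by
  classical
  have hrk := h.rank
  have hrk' := h'.rank
  obtain ⟨t, d, hd, e, hc, rfl⟩ := h
  obtain ⟨t', d', hd', e', hc', rfl⟩ := h'
  have hsum : ∀ j, ∑ k, (d k - j) = ∑ k, (d' k - j) := by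
    intro j
    have h1 := hrk j
    have h2 := hrk' j
    rw [Multiset.map_map] at h1 h2
    rw [Finset.sum_eq_multiset_sum, Finset.sum_eq_multiset_sum]
    have h3 := hr j
    rw [h1, h2] at h3
    exact h3
  ext m
  rw [Multiset.count_map, Multiset.count_map]
  have := count_eq_of_sum_eq d d' hd hd' hsum m
  rw [Finset.card_def, Finset.card_def] at this
  simp only [Finset.filter_val] at this
  convert this using 3 <;> exact eq_comm

theorem HasType.unique {n : ℕ} {u : Matrix (Fin n) (Fin n) K} {μ μ' : Multiset ℕ}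
    (h : HasType u μ) (h' : HasType u μ') : μ = μ' :=
  h.eq_of_rank h' (fun _ => rfl)

/-- a bijection of block indices compatible with the block sizes -/
theorem exists_equiv_of_map_eq {t t' : ℕ} (d : Fin t → ℕ) (d' : Fin t' → ℕ)
    (h : Multiset.map d Finset.univ.val = Multiset.map d' Finset.univ.val) :
    ∃ σ : Fin t ≃ Fin t', ∀ k, d' (σ k) = d k := by
  classical
  have hcount : ∀ m : ℕ, Fintype.card {k // d k = m} = Fintype.card {k // d' k = m} := by
    intro m
    have h1 := congrArg (Multiset.count m) h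
    rw [Multiset.count_map, Multiset.count_map] at h1
    rw [Fintype.card_subtype, Fintype.card_subtype, Finset.card_def, Finset.card_def]
    simp only [Finset.filter_val]
    convert h1 using 3 <;> exact eq_comm
  let σ : Fin t ≃ Fin t' := (Equiv.sigmaFiberEquiv d).symm.trans
    ((Equiv.sigmaCongrRight fun m => Fintype.equivOfCardEq (hcount m)).trans
      (Equiv.sigmaFiberEquiv d'))
  refine ⟨σ, fun k => ?_⟩
  exact ((Fintype.equivOfCardEq (hcount (d k))) ⟨k, rfl⟩).2

/-- permuting the blocks of a Jordan type matrix -/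
theorem jordanTypeMatrix_perm {t t' : ℕ} (d : Fin t → ℕ) (d' : Fin t' → ℕ) (σ : Fin t ≃ Fin t')
    (hσ : ∀ k, d' (σ k) = d k) :
    ∃ ψ : ((k : Fin t) × Fin (d k)) ≃ ((k : Fin t') × Fin (d' k)),
      Cfsg.jordanTypeMatrix d K = Matrix.reindex ψ.symm ψ.symm (Cfsg.jordanTypeMatrix d' K) := by
  let ψ : ((k : Fin t) × Fin (d k)) ≃ ((k : Fin t') × Fin (d' k)) :=
    Equiv.sigmaCongr σ (fun k => finCongr (hσ k).symm)
  refine ⟨ψ, ?_⟩
  have hψ1 : ∀ x, (ψ x).1 = σ x.1 := fun x => rfl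
  have hψ2 : ∀ x, ((ψ x).2 : ℕ) = (x.2 : ℕ) := fun x => rfl
  ext y x
  have e1 : (ψ y).1 = (ψ x).1 ↔ y.1 = x.1 := by
    rw [hψ1, hψ1]
    exact σ.injective.eq_iff
  rw [Matrix.reindex_apply, Matrix.submatrix_apply, Equiv.symm_symm, jordanTypeMatrix_apply,
    jordanTypeMatrix_apply, hψ2, hψ2]
  simp only [e1]

/-- matrices of the same Jordan type are conjugate -/
theorem HasType.isConj {n : ℕ} {u u' : Matrix (Fin n) (Fin n) K} {μ : Multiset ℕ}
    (h : HasType u μ) (h' : HasType u' μ) : IsConj u u' := by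
  obtain ⟨t, d, hd, e, hc, hμ⟩ := h
  obtain ⟨t', d', hd', e', hc', hμ'⟩ := h'
  obtain ⟨σ, hσ⟩ := exists_equiv_of_map_eq d d' (by rw [← hμ, ← hμ'])
  obtain ⟨ψ, hψ⟩ := jordanTypeMatrix_perm (K := K) d d' σ hσ
  have h1 : Matrix.reindex e e (Cfsg.jordanTypeMatrix d K) =
      Matrix.reindex (ψ.symm.trans e) (ψ.symm.trans e) (Cfsg.jordanTypeMatrix d' K) := by
    rw [hψ]
    ext i j
    simp [Matrix.reindex_apply, Matrix.submatrix_apply]
  have h2 := isConj_reindex_reindex (ψ.symm.trans e) e' (Cfsg.jordanTypeMatrix d' K)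
  rw [← h1] at h2
  exact (hc.symm.trans h2).trans hc'

/-- every multiset of positive integers with sum `n` is a Jordan type -/
theorem exists_of_multiset {n : ℕ} (μ : Multiset ℕ) (hpos : ∀ a ∈ μ, 0 < a) (hsum : μ.sum = n) :
    ∃ u : Matrix (Fin n) (Fin n) K, HasType u μ := by
  obtain ⟨l, hl⟩ : ∃ l : List ℕ, (l : Multiset ℕ) = μ := ⟨μ.toList, Multiset.coe_toList μ⟩
  have hmap : Multiset.map l.get Finset.univ.val = μ := by
    rw [Fin.univ_val_map, List.ofFn_get, hl]
  have hd : ∀ k, 1 ≤ l.get k := by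
    intro k
    apply hpos
    rw [← hl]
    exact List.get_mem l k
  have hcard : Fintype.card ((k : Fin l.length) × Fin (l.get k)) = Fintype.card (Fin n) := by
    rw [Fintype.card_sigma, Fintype.card_fin]
    simp only [Fintype.card_fin]
    rw [Finset.sum_eq_multiset_sum, hmap, hsum]
  let e : ((k : Fin l.length) × Fin (l.get k)) ≃ Fin n := Fintype.equivOfCardEq hcard
  exact ⟨Matrix.reindex e e (Cfsg.jordanTypeMatrix l.get K), l.length, l.get, hd, e,
    IsConj.refl _, hmap.symm⟩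

theorem HasType.pow_eq_zero_iff {n : ℕ} {u : Matrix (Fin n) (Fin n) K} {μ : Multiset ℕ}
    (h : HasType u μ) (j : ℕ) : (u - 1) ^ j = 0 ↔ ∀ a ∈ μ, a ≤ j := by
  constructor
  · intro h0
    have h1 := h.rank j
    rw [h0, Matrix.rank_zero] at h1
    have h2 := Multiset.sum_eq_zero_iff.mp h1.symm
    intro a ha
    have := h2 (a - j) (Multiset.mem_map.mpr ⟨a, ha, rfl⟩)
    omega
  · intro h0
    apply eq_zero_of_rank_eq_zero
    rw [h.rank j, Multiset.sum_eq_zero_iff]
    intro x hx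
    obtain ⟨a, ha, rfl⟩ := Multiset.mem_map.mp hx
    have := h0 a ha
    omega

theorem HasType.isNilpotent {n : ℕ} {u : Matrix (Fin n) (Fin n) K} {μ : Multiset ℕ}
    (h : HasType u μ) : IsNilpotent (u - 1) := by
  refine ⟨μ.sum, (h.pow_eq_zero_iff _).mpr ?_⟩
  intro a ha
  exact Multiset.le_sum_of_mem ha

theorem HasType.eq_one_iff {n : ℕ} {u : Matrix (Fin n) (Fin n) K} {μ : Multiset ℕ}
    (h : HasType u μ) : u = 1 ↔ ∀ a ∈ μ, a = 1 := by
  have h1 := h.pow_eq_zero_iff 1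
  rw [pow_one, sub_eq_zero] at h1
  rw [h1]
  constructor
  · intro h2 a ha
    have := h2 a ha
    have := h.pos a ha
    omega
  · intro h2 a ha
    rw [h2 a ha]

end Cfsg.Agent.Lib.H11.Jordan
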