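import Mathlib
import Cfsg.Agent.Lib.H11.Jordan4

set_option autoImplicit false

/-!
# Jordan types through ranks, for matrices on arbitrary finite index types

`RankType u μ` says `rank ((u - 1) ^ i) = ∑_{a ∈ μ} (a - i)` for all `i`.  It is invariant under
reindexing and conjugation, additive for block diagonal matrices, and characterises the
conjugacy class of a unipotent matrix.
-/

namespace Cfsg.Agent.Lib.H11.Jordan

open Module Matrix

variable {K : Type*} [Field K]

/-- the ranks of the powers of `u - 1` are those of the Jordan type `μ` -/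
def RankType {ι : Type*} [Fintype ι] [DecidableEq ι] (u : Matrix ι ι K) (μ : Multiset ℕ) : Prop :=
  ∀ i : ℕ, ((u - 1) ^ i).rank = (μ.map (fun a => a - i)).sum

theorem reindex_sub_one_pow' {ι ι' : Type*} [Fintype ι] [DecidableEq ι] [Fintype ι']
    [DecidableEq ι'] (e : ι ≃ ι') (M : Matrix ι ι K) (j : ℕ) :
    (Matrix.reindex e e M - 1) ^ j = Matrix.reindex e e ((M - 1) ^ j) := by
  have h := map_pow (Matrix.reindexAlgEquiv K K e) (M - 1) j
  rw [map_sub, map_one, Matrix.coe_reindexAlgEquiv] at h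
  exact h.symm

theorem isConj_sub_one_pow' {ι : Type*} [Fintype ι] [DecidableEq ι] {a b : Matrix ι ι K}
    (h : IsConj a b) (j : ℕ) : ((a - 1) ^ j).rank = ((b - 1) ^ j).rank := by
  obtain ⟨c, hc⟩ := h
  have hc' : (c : Matrix ι ι K) * a = b * c := hc
  have h1 : (c : Matrix ι ι K) * (a - 1) = (b - 1) * c := by
    rw [Matrix.mul_sub, Matrix.sub_mul, hc', Matrix.mul_one, Matrix.one_mul]
  have h2 : (c : Matrix ι ι K) * (a - 1) ^ j = (b - 1) ^ j * c := by
    induction j with
    | zero => rw [pow_zero, pow_zero, Matrix.mul_one, Matrix.one_mul]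
    | succ j ih => rw [pow_succ, ← Matrix.mul_assoc, ih, Matrix.mul_assoc, h1, ← Matrix.mul_assoc,
        ← pow_succ]
  have hdet : IsUnit (c : Matrix ι ι K).det :=
    (Matrix.isUnit_iff_isUnit_det _).mp c.isUnit
  rw [← Matrix.rank_mul_eq_right_of_isUnit_det (c : Matrix ι ι K) _ hdet, h2,
    Matrix.rank_mul_eq_left_of_isUnit_det _ _ hdet]

theorem RankType.reindex {ι ι' : Type*} [Fintype ι] [DecidableEq ι] [Fintype ι']
    [DecidableEq ι'] (e : ι ≃ ι') {u : Matrix ι ι K} {μ : Multiset ℕ} (h : RankType u μ) :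
    RankType (Matrix.reindex e e u) μ := by
  intro i
  rw [reindex_sub_one_pow', Matrix.rank_reindex]
  exact h i

theorem RankType.of_reindex {ι ι' : Type*} [Fintype ι] [DecidableEq ι] [Fintype ι']
    [DecidableEq ι'] (e : ι ≃ ι') {u : Matrix ι ι K} {μ : Multiset ℕ}
    (h : RankType (Matrix.reindex e e u) μ) : RankType u μ := by
  intro i
  have := h i
  rw [reindex_sub_one_pow', Matrix.rank_reindex] at this
  exact this

theorem RankType.of_isConj {ι : Type*} [Fintype ι] [DecidableEq ι] {u u' : Matrix ι ι K}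
    {μ : Multiset ℕ} (h : RankType u μ) (hc : IsConj u u') : RankType u' μ := by
  intro i
  rw [← isConj_sub_one_pow' hc]
  exact h i

theorem rankType_jordanTypeMatrix {t : ℕ} (d : Fin t → ℕ) :
    RankType (Cfsg.jordanTypeMatrix d K) (Multiset.map d Finset.univ.val) := by
  intro i
  rw [rank_jordan_sub_one_pow, Finset.sum_eq_multiset_sum, Multiset.map_map]
  rfl

theorem HasType.rankType {n : ℕ} {u : Matrix (Fin n) (Fin n) K} {μ : Multiset ℕ}
    (h : HasType u μ) : RankType u μ := fun i => h.rank i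

theorem RankType.pow_eq_zero {ι : Type*} [Fintype ι] [DecidableEq ι] {u : Matrix ι ι K}
    {μ : Multiset ℕ} (h : RankType u μ) : (u - 1) ^ μ.sum = 0 := by
  apply eq_zero_of_rank_eq_zero
  rw [h μ.sum]
  apply Multiset.sum_eq_zero
  intro x hx
  rw [Multiset.mem_map] at hx
  obtain ⟨a, ha, rfl⟩ := hx
  have := Multiset.le_sum_of_mem ha
  omega

/-- rank type implies Jordan type -/
theorem RankType.hasType {n : ℕ} {u : Matrix (Fin n) (Fin n) K} {μ : Multiset ℕ}
    (h : RankType u μ) (hpos : ∀ a ∈ μ, 0 < a) : HasType u μ := by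
  obtain ⟨μ', hμ'⟩ := exists_hasType u ⟨_, h.pow_eq_zero⟩
  obtain ⟨w, hw⟩ := exists_of_multiset (K := K) (n := μ.sum) μ hpos rfl
  have : μ' = μ := by
    apply hμ'.eq_of_rank hw
    intro j
    rw [h j, hw.rank j]
  rw [← this]
  exact hμ'

/-- matrices of the same rank type are conjugate -/
theorem RankType.isConj {ι : Type*} [Fintype ι] [DecidableEq ι] {u u' : Matrix ι ι K}
    {μ : Multiset ℕ} (h : RankType u μ) (h' : RankType u' μ) (hpos : ∀ a ∈ μ, 0 < a) :
    IsConj u u' := by
  let e : ι ≃ Fin (Fintype.card ι) := Fintype.equivFin ι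
  have h1 := (h.reindex e).hasType hpos
  have h2 := (h'.reindex e).hasType hpos
  have h3 := h1.isConj h2
  have h4 := (Matrix.reindexAlgEquiv K K e).symm.toMonoidHom.map_isConj h3
  simpa using h4

theorem finrank_prod_submodule {M M' : Type*} [AddCommGroup M] [Module K M] [AddCommGroup M']
    [Module K M'] [FiniteDimensional K M] [FiniteDimensional K M'] (p : Submodule K M)
    (q : Submodule K M') : finrank K ↥(p.prod q) = finrank K p + finrank K q := by
  let φ : (p × q) ≃ₗ[K] ↥(p.prod q) :=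
    { toFun := fun z => ⟨(z.1.1, z.2.1), ⟨z.1.2, z.2.2⟩⟩
      map_add' := fun _ _ => rfl
      map_smul' := fun _ _ => rfl
      invFun := fun z => (⟨z.1.1, z.2.1⟩, ⟨z.1.2, z.2.2⟩)
      left_inv := fun _ => rfl
      right_inv := fun _ => rfl }
  rw [← φ.finrank_eq, Module.finrank_prod]

/-- rank of a block diagonal matrix -/
theorem rank_fromBlocks_diag {ι ι' : Type*} [Fintype ι] [DecidableEq ι] [Fintype ι']
    [DecidableEq ι'] (M : Matrix ι ι K) (M' : Matrix ι' ι' K) :
    (Matrix.fromBlocks M 0 0 M').rank = M.rank + M'.rank := by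
  let φ := LinearEquiv.sumArrowLequivProdArrow ι ι' K K
  have hcomp : (Matrix.fromBlocks M 0 0 M').mulVecLin =
      (φ.symm : (ι → K) × (ι' → K) →ₗ[K] (ι ⊕ ι' → K)) ∘ₗ
        (M.mulVecLin.prodMap M'.mulVecLin) ∘ₗ (φ : (ι ⊕ ι' → K) →ₗ[K] (ι → K) × (ι' → K)) := by
    apply LinearMap.ext
    intro x
    rw [Matrix.mulVecLin_apply, Matrix.fromBlocks_mulVec]
    ext (i | i)
    · simp [φ, LinearEquiv.sumArrowLequivProdArrow]
      rfl
    · simp [φ, LinearEquiv.sumArrowLequivProdArrow]
      rfl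
  unfold Matrix.rank
  rw [hcomp, LinearMap.range_comp, LinearMap.range_comp, LinearEquiv.range, Submodule.map_top,
    LinearEquiv.finrank_map_eq, LinearMap.range_prodMap, finrank_prod_submodule]

theorem fromBlocks_diag_sub_one_pow {ι ι' : Type*} [Fintype ι] [DecidableEq ι] [Fintype ι']
    [DecidableEq ι'] (M : Matrix ι ι K) (M' : Matrix ι' ι' K) (i : ℕ) :
    (Matrix.fromBlocks M 0 0 M' - 1) ^ i =
      Matrix.fromBlocks ((M - 1) ^ i) 0 0 ((M' - 1) ^ i) := by
  have h1 : Matrix.fromBlocks M 0 0 M' - 1 = Matrix.fromBlocks (M - 1) 0 0 (M' - 1) := by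
    ext (i | i) (j | j) <;> simp [Matrix.one_apply]
  rw [h1]
  induction i with
  | zero => rw [pow_zero, pow_zero, pow_zero, Matrix.fromBlocks_one]
  | succ i ih =>
    rw [pow_succ, ih, Matrix.fromBlocks_multiply, pow_succ, pow_succ]
    simp

/-- rank types add under block diagonal sums -/
theorem RankType.fromBlocks {ι ι' : Type*} [Fintype ι] [DecidableEq ι] [Fintype ι']
    [DecidableEq ι'] {u : Matrix ι ι K} {u' : Matrix ι' ι' K} {μ μ' : Multiset ℕ}
    (h : RankType u μ) (h' : RankType u' μ') :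
    RankType (Matrix.fromBlocks u 0 0 u') (μ + μ') := by
  intro i
  rw [fromBlocks_diag_sub_one_pow, rank_fromBlocks_diag, h i, h' i, Multiset.map_add,
    Multiset.sum_add]

/-- the multiplicity of `j` from the ranks -/
theorem RankType.count_add {ι : Type*} [Fintype ι] [DecidableEq ι] {u : Matrix ι ι K}
    {μ : Multiset ℕ} (h : RankType u μ) (j : ℕ) (hj : 1 ≤ j) :
    Multiset.count j μ + 2 * ((u - 1) ^ j).rank =
      ((u - 1) ^ (j - 1)).rank + ((u - 1) ^ (j + 1)).rank := by
  rw [h j, h (j - 1), h (j + 1)]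
  clear h
  induction μ using Multiset.induction_on with
  | empty => simp
  | cons a s ih =>
    simp only [Multiset.map_cons, Multiset.sum_cons, Multiset.count_cons]
    split_ifs with hja
    · subst hja
      omega
    · omega

end Cfsg.Agent.Lib.H11.Jordan
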