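import Mathlib

set_option autoImplicit false

/-!
# Binary forms `a² + T a b + N b²` with unit discriminant represent every unit of a finite
commutative ring
-/

namespace Cfsg.Agent.Lib.H11.HermNorm

open Polynomial

/-- The binary form. -/
def Phi {S : Type*} [CommRing S] (T N a b : S) : S := a ^ 2 + T * a * b + N * b ^ 2

/-- Step A: universality over finite fields. -/
theorem field_represents {k : Type*} [Field k] [Finite k] (T N : k) (hΔ : T ^ 2 - 4 * N ≠ 0)
    (c : k) : ∃ a b : k, Phi T N a b = c := by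
  classical
  have : Fintype k := Fintype.ofFinite k
  by_cases h2 : ringChar k = 2
  · obtain ⟨a, ha⟩ := FiniteField.isSquare_of_char_two h2 c
    refine ⟨a, 0, ?_⟩
    simp [Phi, ha, pow_two]
  · have hodd := FiniteField.odd_card_of_char_ne_two h2
    have h2ne : (2 : k) ≠ 0 := by
      intro h
      apply h2
      have : CharP k 2 := by
        refine CharTwo.of_one_ne_zero_of_two_eq_zero one_ne_zero h
      exact ringChar.eq k 2
    have h4ne : (4 : k) ≠ 0 := by
      have : (4 : k) = 2 * 2 := by norm_num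
      rw [this]; exact mul_ne_zero h2ne h2ne
    set δ : k := -((T ^ 2 - 4 * N) / 4) with hδ
    have hδ0 : δ ≠ 0 := by
      rw [hδ, neg_ne_zero]
      exact div_ne_zero hΔ h4ne
    have hf : degree (X ^ 2 : k[X]) = 2 := degree_X_pow 2
    have hg : degree (C δ * X ^ 2 + C (-c) : k[X]) = 2 := by
      rw [degree_add_C, degree_C_mul_X_pow 2 hδ0]
      · rfl
      · rw [degree_C_mul_X_pow 2 hδ0]; exact by norm_num
    obtain ⟨a', b, hab⟩ := FiniteField.exists_root_sum_quadratic hf hg hodd
    simp only [eval_pow, eval_X, eval_add, eval_mul, eval_C] at hab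
    refine ⟨a' - T * b / 2, b, ?_⟩
    unfold Phi
    have : a' ^ 2 + δ * b ^ 2 = c := by linear_combination hab
    rw [← this, hδ]
    field_simp
    ring

/-- The adjoint identity. -/
theorem adjoint_identity {S : Type*} [CommRing S] (T N a b : S) :
    N * (2 * a + T * b) ^ 2 - T * (2 * a + T * b) * (T * a + 2 * N * b) + (T * a + 2 * N * b) ^ 2
      = -(T ^ 2 - 4 * N) * Phi T N a b := by
  unfold Phi; ring

/-- Taylor expansion of the form. -/
theorem Phi_add {S : Type*} [CommRing S] (T N a b r s : S) :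
    Phi T N (a + r) (b + s) = Phi T N a b + (r * (2 * a + T * b) + s * (T * a + 2 * N * b))
      + Phi T N r s := by
  unfold Phi; ring

/-- Step C: one Newton step. -/
theorem newton_step {S : Type*} [CommRing S] (T N H : S) (hΔ : IsUnit (T ^ 2 - 4 * N))
    (I : Ideal S) (a b : S) (j : ℕ) (hj : 1 ≤ j)
    (hunit : IsUnit (Phi T N a b)) (hw : H - Phi T N a b ∈ I ^ j) :
    ∃ a' b' : S, H - Phi T N a' b' ∈ I ^ (j + 1) ∧ a' - a ∈ I ^ j ∧ b' - b ∈ I ^ j := by
  set w := H - Phi T N a b with hwdef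
  set Pa := 2 * a + T * b with hPa
  set Pb := T * a + 2 * N * b with hPb
  have hD : IsUnit (N * Pa ^ 2 - T * Pa * Pb + Pb ^ 2) := by
    rw [adjoint_identity]
    exact (hΔ.neg).mul hunit
  obtain ⟨d, hd⟩ := hD
  set u := (N * Pa - T * Pb) * (↑d⁻¹ : S) with hu
  set v := Pb * (↑d⁻¹ : S) with hv
  have huv : u * Pa + v * Pb = 1 := by
    have h1 : u * Pa + v * Pb = (N * Pa ^ 2 - T * Pa * Pb + Pb ^ 2) * (↑d⁻¹ : S) := by
      rw [hu, hv]; ring
    rw [h1, ← hd, Units.mul_inv]
  refine ⟨a + u * w, b + v * w, ?_, ?_, ?_⟩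
  · rw [Phi_add]
    have h2 : H - (Phi T N a b + (u * w * Pa + v * w * Pb) + Phi T N (u * w) (v * w))
        = -(w ^ 2 * Phi T N u v) := by
      have h3 : u * w * Pa + v * w * Pb = w * (u * Pa + v * Pb) := by ring
      rw [h3, huv]
      unfold Phi
      rw [hwdef]
      unfold Phi
      ring
    rw [h2, neg_mem_iff]
    apply Ideal.mul_mem_right
    have h4 : w ^ 2 ∈ I ^ (j + j) := by
      rw [pow_two, pow_add]
      exact Ideal.mul_mem_mul hw hw
    exact Ideal.pow_le_pow_right (by omega) h4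
  · rw [add_sub_cancel_left]
    exact Ideal.mul_mem_left _ _ hw
  · rw [add_sub_cancel_left]
    exact Ideal.mul_mem_left _ _ hw

/-- Step C: full lifting. -/
theorem lift_nilpotent {S : Type*} [CommRing S] (T N H : S) (hΔ : IsUnit (T ^ 2 - 4 * N))
    (hH : IsUnit H) (I : Ideal S) (hI : IsNilpotent I) (a₀ b₀ : S)
    (h0 : H - Phi T N a₀ b₀ ∈ I) : ∃ a b : S, Phi T N a b = H := by
  obtain ⟨r, hr⟩ := hI
  have hnil : ∀ x ∈ I, IsNilpotent x := by
    intro x hx
    refine ⟨r, ?_⟩
    have : x ^ r ∈ I ^ r := Ideal.pow_mem_pow hx r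
    rw [hr] at this
    exact this
  have key : ∀ j : ℕ, 1 ≤ j → ∃ a b : S, H - Phi T N a b ∈ I ^ j := by
    intro j hj
    induction j, hj using Nat.le_induction with
    | base => exact ⟨a₀, b₀, by rwa [pow_one]⟩
    | succ j hj ih =>
      obtain ⟨a, b, hab⟩ := ih
      have hwI : H - Phi T N a b ∈ I := Ideal.pow_le_self (by omega) hab
      have hunit : IsUnit (Phi T N a b) := by
        have h1 : Phi T N a b = H + -(H - Phi T N a b) := by ring
        rw [h1]
        exact (hnil _ hwI).neg.isUnit_add_left_of_commute hH (Commute.all _ _)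
      obtain ⟨a', b', h, -, -⟩ := newton_step T N H hΔ I a b j hj hunit hab
      exact ⟨a', b', h⟩
  obtain ⟨a, b, hab⟩ := key (r + 1) (by omega)
  refine ⟨a, b, ?_⟩
  have : I ^ (r + 1) = ⊥ := by
    rw [pow_succ, hr]
    simp
  rw [this, Ideal.mem_bot, sub_eq_zero] at hab
  exact hab.symm

end Cfsg.Agent.Lib.H11.HermNorm
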