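import Mathlib
import Cfsg.Agent.Lib.H11.HermNorm1

set_option autoImplicit false

/-!
# Representation of units by nondegenerate binary forms over finite commutative rings
-/

namespace Cfsg.Agent.Lib.H11.HermNorm

theorem map_Phi {S S' : Type*} [CommRing S] [CommRing S'] (f : S →+* S') (T N a b : S) :
    f (Phi T N a b) = Phi (f T) (f N) (f a) (f b) := by
  unfold Phi
  simp only [map_add, map_mul, map_pow]

theorem Phi_pi_apply {ι : Type*} {R : ι → Type*} [∀ i, CommRing (R i)] (T N a b : ∀ i, R i)
    (i : ι) : Phi T N a b i = Phi (T i) (N i) (a i) (b i) := by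
  unfold Phi
  simp only [Pi.add_apply, Pi.mul_apply, Pi.pow_apply]

theorem represents_unit {S : Type*} [CommRing S] [Finite S] (T N H : S)
    (hΔ : IsUnit (T ^ 2 - 4 * N)) (hH : IsUnit H) : ∃ a b : S, Phi T N a b = H := by
  classical
  have hnil := IsArtinianRing.isNilpotent_nilradical (R := S)
  let e := IsArtinianRing.quotNilradicalEquivPi S
  have hfield : ∀ I : MaximalSpectrum S, ∃ a b : S ⧸ I.asIdeal,
      Phi (Ideal.Quotient.mk I.asIdeal T) (Ideal.Quotient.mk I.asIdeal N) a b
        = Ideal.Quotient.mk I.asIdeal H := by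
    intro I
    let _ := Ideal.Quotient.field I.asIdeal
    have : Finite (S ⧸ I.asIdeal) := Finite.of_surjective _ Ideal.Quotient.mk_surjective
    apply field_represents
    have h1 := hΔ.map (Ideal.Quotient.mk I.asIdeal)
    have h2 := h1.ne_zero
    rw [map_sub, map_pow, map_mul] at h2
    have h4 : (Ideal.Quotient.mk I.asIdeal) (4 : S) = 4 := map_ofNat _ 4
    rw [h4] at h2
    exact h2
  choose af bf hf using hfield
  obtain ⟨a0, ha0⟩ := Ideal.Quotient.mk_surjective (e.symm af)
  obtain ⟨b0, hb0⟩ := Ideal.Quotient.mk_surjective (e.symm bf)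
  have hcomm : ∀ x : S, e (Ideal.Quotient.mk (nilradical S) x)
      = fun I : MaximalSpectrum S => Ideal.Quotient.mk I.asIdeal x := by
    intro x
    have := e.commutes x
    rw [Ideal.Quotient.algebraMap_eq] at this
    rw [this]
    rfl
  have h0 : H - Phi T N a0 b0 ∈ nilradical S := by
    rw [← Ideal.Quotient.eq_zero_iff_mem, map_sub, sub_eq_zero]
    apply e.injective
    have hePhi : ∀ T N a b : S ⧸ nilradical S, e (Phi T N a b) = Phi (e T) (e N) (e a) (e b) := by
      intro T N a b
      unfold Phi
      simp only [map_add, map_mul, map_pow]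
    rw [map_Phi, hePhi]
    funext I
    rw [Phi_pi_apply, hcomm, hcomm T, hcomm N, ha0, hb0, e.apply_symm_apply,
      e.apply_symm_apply]
    exact (hf I).symm
  exact lift_nilpotent T N H hΔ hH _ hnil a0 b0 h0

end Cfsg.Agent.Lib.H11.HermNorm
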