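import Mathlib
import Cfsg.Agent.Lib.H11.HermNorm2
import Cfsg.Agent.Lib.H13.AutPSU4

set_option autoImplicit false

/-!
# Hermitian elements of centralizer algebras are norms (finite fields), and conjugacy in `GU`
-/

namespace Cfsg.Agent.Lib.H11.HermNorm

open Matrix Cfsg.Agent.Lib.H13.AutPSU

variable {F : Type*} [Field F] {n q : ℕ} (D : UF F q)

local notation "Mn" => Matrix (Fin n) (Fin n) F

/-- The ring of Hermitian elements of the double centralizer of `H`. -/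
def dcRing (H : Mn) : Subring Mn where
  carrier := {X | ct D X = X ∧ ∀ Y : Mn, Y * H = H * Y → X * Y = Y * X}
  mul_mem' := by
    rintro X₁ X₂ ⟨h1, c1⟩ ⟨h2, c2⟩
    have hX2 : X₂ * H = H * X₂ := c2 H rfl
    refine ⟨?_, ?_⟩
    · rw [ct_mul, h1, h2]
      exact (c1 X₂ hX2).symm
    · intro Y hY
      rw [Matrix.mul_assoc, c2 Y hY, ← Matrix.mul_assoc, c1 Y hY, Matrix.mul_assoc]
  one_mem' := ⟨ct_one D, fun Y _ => by rw [Matrix.one_mul, Matrix.mul_one]⟩
  add_mem' := by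
    rintro X₁ X₂ ⟨h1, c1⟩ ⟨h2, c2⟩
    refine ⟨by rw [ct_add, h1, h2], fun Y hY => ?_⟩
    rw [Matrix.add_mul, Matrix.mul_add, c1 Y hY, c2 Y hY]
  zero_mem' := ⟨ct_zero D, fun Y _ => by rw [Matrix.zero_mul, Matrix.mul_zero]⟩
  neg_mem' := by
    rintro X ⟨h1, c1⟩
    refine ⟨by rw [ct_neg, h1], fun Y hY => ?_⟩
    rw [Matrix.neg_mul, Matrix.mul_neg, c1 Y hY]

theorem mem_dcRing (H X : Mn) :
    X ∈ dcRing D H ↔ ct D X = X ∧ ∀ Y : Mn, Y * H = H * Y → X * Y = Y * X := Iff.rfl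

theorem dcRing_comm (H : Mn) (X₁ X₂ : dcRing D H) : X₁ * X₂ = X₂ * X₁ := by
  apply Subtype.ext
  have hX2 : X₂.1 * H = H * X₂.1 := X₂.2.2 H rfl
  exact X₁.2.2 X₂.1 hX2

instance (H : Mn) : CommRing (dcRing D H) :=
  { (dcRing D H).toRing with mul_comm := dcRing_comm D H }

instance (H : Mn) [Finite F] : Finite (dcRing D H) :=
  Finite.of_injective (fun X => (X : Mn)) Subtype.val_injective

theorem self_mem_dcRing (H : Mn) (hH : ct D H = H) : H ∈ dcRing D H :=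
  ⟨hH, fun _ hY => hY.symm⟩

theorem scalar_mem_dcRing (H : Mn) (c : F) (hc : D.τ c = c) : c • (1 : Mn) ∈ dcRing D H := by
  refine ⟨by rw [ct_smul, hc, ct_one], fun Y _ => ?_⟩
  rw [Matrix.smul_mul, Matrix.one_mul, Matrix.mul_smul, Matrix.mul_one]

theorem inv_mem_dcRing (H Hi : Mn) (hH : ct D H = H) (h1 : H * Hi = 1) (h2 : Hi * H = 1) :
    Hi ∈ dcRing D H := by
  refine ⟨?_, fun Y hY => ?_⟩
  · have e1 : ct D Hi * H = 1 := by
      have := congrArg (ct D) h1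
      rw [ct_mul, ct_one, hH] at this
      exact this
    calc ct D Hi = ct D Hi * (H * Hi) := by rw [h1, Matrix.mul_one]
      _ = (ct D Hi * H) * Hi := by rw [Matrix.mul_assoc]
      _ = Hi := by rw [e1, Matrix.one_mul]
  · calc Hi * Y = Hi * Y * (H * Hi) := by rw [h1, Matrix.mul_one]
      _ = Hi * (Y * H) * Hi := by simp only [Matrix.mul_assoc]
      _ = Hi * (H * Y) * Hi := by rw [hY]
      _ = (Hi * H) * Y * Hi := by simp only [Matrix.mul_assoc]
      _ = Y * Hi := by rw [h2, Matrix.one_mul]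

/-- **Hermitian elements are norms**: an invertible Hermitian matrix `H` is `C* C` with `C`
invertible and in the double centralizer of `H`. -/
theorem exists_norm [Finite F] (H Hi : Mn) (hH : ct D H = H) (h1 : H * Hi = 1)
    (h2 : Hi * H = 1) :
    ∃ C : Mn, ct D C * C = H ∧ IsUnit C ∧ ∀ Y : Mn, Y * H = H * Y → C * Y = Y * C := by
  obtain ⟨ω, hω⟩ := D.hne
  set S := dcRing D H with hS
  have hfix1 : D.τ (ω + D.τ ω) = ω + D.τ ω := by rw [map_add, D.hτ2, add_comm]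
  have hfix2 : D.τ (ω * D.τ ω) = ω * D.τ ω := by rw [map_mul, D.hτ2, mul_comm]
  set δ : F := (ω - D.τ ω) ^ 2 with hδ
  have hδ0 : δ ≠ 0 := pow_ne_zero 2 (sub_ne_zero.mpr (Ne.symm hω))
  have hfix3 : D.τ δ⁻¹ = δ⁻¹ := by
    rw [map_inv₀, hδ, map_pow, map_sub, D.hτ2]
    congr 1
    ring
  let T : S := ⟨(ω + D.τ ω) • 1, scalar_mem_dcRing D H _ hfix1⟩
  let N : S := ⟨(ω * D.τ ω) • 1, scalar_mem_dcRing D H _ hfix2⟩
  let Hs : S := ⟨H, self_mem_dcRing D H hH⟩
  let His : S := ⟨Hi, inv_mem_dcRing D H Hi hH h1 h2⟩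
  let Δi : S := ⟨δ⁻¹ • 1, scalar_mem_dcRing D H _ hfix3⟩
  have hHu : IsUnit Hs := by
    refine ⟨⟨Hs, His, ?_, ?_⟩, rfl⟩
    · exact Subtype.ext h1
    · exact Subtype.ext h2
  have hΔu : IsUnit (T ^ 2 - 4 * N) := by
    have hval : ((T ^ 2 - 4 * N : S) : Mn) = δ • 1 := by
      have e4 : (4 : S) * N = N + N + N + N := by ring
      rw [e4, pow_two]
      change (T.1 * T.1 - (N.1 + N.1 + N.1 + N.1) : Mn) = δ • 1
      simp only [T, N]
      rw [Matrix.smul_mul, Matrix.one_mul, smul_smul, ← add_smul, ← add_smul,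
        ← add_smul, ← sub_smul, hδ]
      congr 1
      ring
    refine ⟨⟨T ^ 2 - 4 * N, Δi, ?_, ?_⟩, rfl⟩
    · apply Subtype.ext
      change ((T ^ 2 - 4 * N : S) : Mn) * Δi.1 = 1
      rw [hval]
      simp only [Δi]
      rw [Matrix.smul_mul, Matrix.one_mul, smul_smul, mul_inv_cancel₀ hδ0, one_smul]
    · apply Subtype.ext
      change Δi.1 * ((T ^ 2 - 4 * N : S) : Mn) = 1
      rw [hval]
      simp only [Δi]
      rw [Matrix.smul_mul, Matrix.one_mul, smul_smul, inv_mul_cancel₀ hδ0, one_smul]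
  obtain ⟨a, b, hab⟩ := represents_unit T N Hs hΔu hHu
  have hab' : a.1 * a.1 + (ω + D.τ ω) • (a.1 * b.1) + (ω * D.τ ω) • (b.1 * b.1) = H := by
    have := congrArg (fun X : S => (X : Mn)) hab
    unfold Phi at this
    rw [pow_two, pow_two] at this
    change a.1 * a.1 + T.1 * a.1 * b.1 + N.1 * (b.1 * b.1) = H at this
    simp only [T, N] at this
    rw [Matrix.smul_mul, Matrix.one_mul, Matrix.smul_mul, Matrix.smul_mul,
      Matrix.one_mul] at this
    exact this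
  have hcomm : a.1 * b.1 = b.1 * a.1 := congrArg Subtype.val (dcRing_comm D H a b)
  refine ⟨a.1 + ω • b.1, ?_, ?_, ?_⟩
  · rw [ct_add, ct_smul, a.2.1, b.2.1, Matrix.add_mul, Matrix.mul_add, Matrix.mul_add,
      Matrix.smul_mul, Matrix.smul_mul, Matrix.mul_smul, Matrix.mul_smul, smul_smul,
      ← hcomm, ← hab']
    rw [add_smul, mul_comm (D.τ ω) ω]
    abel
  · have hprod : (Hi * ct D (a.1 + ω • b.1)) * (a.1 + ω • b.1) = 1 := by
      rw [Matrix.mul_assoc]
      have : ct D (a.1 + ω • b.1) * (a.1 + ω • b.1) = H := by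
        rw [ct_add, ct_smul, a.2.1, b.2.1, Matrix.add_mul, Matrix.mul_add, Matrix.mul_add,
          Matrix.smul_mul, Matrix.smul_mul, Matrix.mul_smul, Matrix.mul_smul, smul_smul,
          ← hcomm, ← hab']
        rw [add_smul, mul_comm (D.τ ω) ω]
        abel
      rw [this, h2]
    exact (Matrix.isUnit_iff_isUnit_det _).mpr (Matrix.isUnit_det_of_left_inverse hprod)
  · intro Y hY
    rw [Matrix.add_mul, Matrix.mul_add, Matrix.smul_mul, Matrix.mul_smul, a.2.2 Y hY,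
      b.2.2 Y hY]

end Cfsg.Agent.Lib.H11.HermNorm
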