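import Mathlib
import Cfsg.Agent.Lib.H11.HermNorm3

set_option autoImplicit false

/-!
# Conjugacy in `GU_n(q)` is controlled by `GL_n(q²)`
-/

namespace Cfsg.Agent.Lib.H11.HermNorm

open Matrix Cfsg.Agent.Lib.H13.AutPSU

variable {F : Type*} [Field F] {n q : ℕ} (D : UF F q)

local notation "Mn" => Matrix (Fin n) (Fin n) F

theorem mul_ct_eq_one {A : Mn} (hA : ct D A * A = 1) : A * ct D A = 1 :=
  mul_eq_one_comm.mp hA

/-- If `g A = B g` with `A, B` unitary and `g` invertible, some unitary `u` has `u A = B u`. -/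
theorem exists_unitary_conj [Finite F] (A B g gi : Mn) (hA : ct D A * A = 1)
    (hB : ct D B * B = 1) (hg1 : g * gi = 1) (hg2 : gi * g = 1) (hconj : g * A = B * g) :
    ∃ u : Mn, ct D u * u = 1 ∧ u * A = B * u := by
  set H := ct D g * g with hHdef
  have hH : ct D H = H := by rw [hHdef, ct_mul, ct_ct]
  have hHi1 : H * (gi * ct D gi) = 1 := by
    have e : ct D g * ct D gi = 1 := by rw [← ct_mul, hg2, ct_one]
    calc H * (gi * ct D gi) = ct D g * (g * gi) * ct D gi := by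
          rw [hHdef]; simp only [Matrix.mul_assoc]
      _ = 1 := by rw [hg1, Matrix.mul_one, e]
  have hHi2 : (gi * ct D gi) * H = 1 := mul_eq_one_comm.mp hHi1
  -- `A * ct g = ct g * B`
  have hAg : A * ct D g = ct D g * B := by
    have e1 : ct D A * ct D g = ct D g * ct D B := by
      rw [← ct_mul, hconj, ct_mul]
    have hA' := mul_ct_eq_one D hA
    calc A * ct D g = A * ct D g * (ct D B * B) := by rw [hB, Matrix.mul_one]
      _ = A * (ct D g * ct D B) * B := by simp only [Matrix.mul_assoc]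
      _ = A * (ct D A * ct D g) * B := by rw [e1]
      _ = (A * ct D A) * ct D g * B := by simp only [Matrix.mul_assoc]
      _ = ct D g * B := by rw [hA', Matrix.one_mul]
  have hAH : A * H = H * A := by
    calc A * H = (A * ct D g) * g := by rw [hHdef, Matrix.mul_assoc]
      _ = ct D g * (B * g) := by rw [hAg, Matrix.mul_assoc]
      _ = ct D g * (g * A) := by rw [hconj]
      _ = H * A := by rw [hHdef, Matrix.mul_assoc]
  obtain ⟨C, hC, hCu, hCc⟩ := exists_norm D H (gi * ct D gi) hH hHi1 hHi2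
  obtain ⟨Cu, rfl⟩ := hCu
  have hCA : (Cu : Mn) * A = A * Cu := hCc A hAH
  have hCiA : ((Cu⁻¹ : Mnˣ) : Mn) * A = A * ((Cu⁻¹ : Mnˣ) : Mn) := by
    calc ((Cu⁻¹ : Mnˣ) : Mn) * A = ((Cu⁻¹ : Mnˣ) : Mn) * A * ((Cu : Mn) * ((Cu⁻¹ : Mnˣ) : Mn)) := by
          rw [Units.mul_inv, Matrix.mul_one]
      _ = ((Cu⁻¹ : Mnˣ) : Mn) * (A * (Cu : Mn)) * ((Cu⁻¹ : Mnˣ) : Mn) := by
          simp only [Matrix.mul_assoc]
      _ = ((Cu⁻¹ : Mnˣ) : Mn) * ((Cu : Mn) * A) * ((Cu⁻¹ : Mnˣ) : Mn) := by rw [hCA]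
      _ = (((Cu⁻¹ : Mnˣ) : Mn) * (Cu : Mn)) * A * ((Cu⁻¹ : Mnˣ) : Mn) := by
          simp only [Matrix.mul_assoc]
      _ = A * ((Cu⁻¹ : Mnˣ) : Mn) := by rw [Units.inv_mul, Matrix.one_mul]
  refine ⟨g * ((Cu⁻¹ : Mnˣ) : Mn), ?_, ?_⟩
  · have e1 : ct D ((Cu⁻¹ : Mnˣ) : Mn) * ct D (Cu : Mn) = 1 := by
      rw [← ct_mul, Units.mul_inv, ct_one]
    calc ct D (g * ((Cu⁻¹ : Mnˣ) : Mn)) * (g * ((Cu⁻¹ : Mnˣ) : Mn))
        = ct D ((Cu⁻¹ : Mnˣ) : Mn) * (ct D g * g) * ((Cu⁻¹ : Mnˣ) : Mn) := by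
          rw [ct_mul]; simp only [Matrix.mul_assoc]
      _ = ct D ((Cu⁻¹ : Mnˣ) : Mn) * (ct D (Cu : Mn) * (Cu : Mn)) * ((Cu⁻¹ : Mnˣ) : Mn) := by
          rw [hC]
      _ = (ct D ((Cu⁻¹ : Mnˣ) : Mn) * ct D (Cu : Mn)) * ((Cu : Mn) * ((Cu⁻¹ : Mnˣ) : Mn)) := by
          simp only [Matrix.mul_assoc]
      _ = 1 := by rw [e1, Units.mul_inv, Matrix.one_mul]
  · calc g * ((Cu⁻¹ : Mnˣ) : Mn) * A = g * (A * ((Cu⁻¹ : Mnˣ) : Mn)) := by
          rw [Matrix.mul_assoc, hCiA]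
      _ = (g * A) * ((Cu⁻¹ : Mnˣ) : Mn) := by rw [Matrix.mul_assoc]
      _ = B * (g * ((Cu⁻¹ : Mnˣ) : Mn)) := by rw [hconj, Matrix.mul_assoc]

/-- `q` is a prime power when `q²` is the order of a field. -/
theorem exists_prime_pow' [Fintype F] (hF : Fintype.card F = q ^ 2) :
    ∃ p f : ℕ, p.Prime ∧ q = p ^ f := by
  obtain ⟨p, -, k, hp, hk⟩ := FiniteField.card' F
  have h1 : q ∣ p ^ (k : ℕ) := by
    rw [← hk, hF]
    exact dvd_pow_self q (by norm_num)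
  obtain ⟨m, -, hm⟩ := (Nat.dvd_prime_pow hp).1 h1
  exact ⟨p, m, hp, hm⟩

/-- **Conjugacy in `GU_n(q)` ⟸ conjugacy in `GL_n(q²)`.** -/
theorem isConj_GU_of_isConj_GL [Fintype F] (hF : Fintype.card F = q ^ 2)
    (A B : ↥(Cfsg.GU n F q)) (h : IsConj (A : GL (Fin n) F) (B : GL (Fin n) F)) : IsConj A B := by
  obtain ⟨p, f, hp, hq⟩ := exists_prime_pow' hF
  have : Fact p.Prime := ⟨hp⟩
  obtain ⟨D, -⟩ : ∃ D : UF F q, D = UF.ofCard hq hF := ⟨_, rfl⟩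
  obtain ⟨g, hg⟩ := isConj_iff.mp h
  have hA := (mem_GU_iff_ct (D := D) (A : GL (Fin n) F)).mp A.2
  have hB := (mem_GU_iff_ct (D := D) (B : GL (Fin n) F)).mp B.2
  have hconj : (g : Mn) * ((A : GL (Fin n) F) : Mn) = ((B : GL (Fin n) F) : Mn) * (g : Mn) := by
    have h1 : g * (A : GL (Fin n) F) = (B : GL (Fin n) F) * g := by
      rw [← hg]; group
    have := congrArg (fun x : GL (Fin n) F => (x : Mn)) h1
    simpa using this
  obtain ⟨u, hu, huc⟩ := exists_unitary_conj D _ _ (g : Mn) ((g⁻¹ : GL (Fin n) F) : Mn) hA hB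
    (by rw [← Units.val_mul, mul_inv_cancel, Units.val_one])
    (by rw [← Units.val_mul, inv_mul_cancel, Units.val_one]) hconj
  have hu' : u * ct D u = 1 := mul_eq_one_comm.mp hu
  let ug : GL (Fin n) F := ⟨u, ct D u, hu', hu⟩
  have hmem : ug ∈ Cfsg.GU n F q := (mem_GU_iff_ct (D := D) ug).mpr hu
  refine isConj_iff.mpr ⟨⟨ug, hmem⟩, ?_⟩
  apply Subtype.ext
  apply Units.ext
  have h2 : u * ((A : GL (Fin n) F) : Mn) * ct D u = ((B : GL (Fin n) F) : Mn) := by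
    rw [huc, Matrix.mul_assoc, hu', Matrix.mul_one]
  exact h2

end Cfsg.Agent.Lib.H11.HermNorm
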