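import Mathlib
import Cfsg.Agent.Lib.H11.HermNorm2

set_option autoImplicit false

/-!
# Hilbert 90 for finite commutative rings with an involution (by counting)
-/

namespace Cfsg.Agent.Lib.H11.HermNorm

section

variable {R : Type*} [CommRing R]

/-- The subring of fixed points of a ring endomorphism. -/
def fixedSubring (σ : R →+* R) : Subring R where
  carrier := {x | σ x = x}
  mul_mem' := by
    intro a b ha hb
    simp only [Set.mem_ofPred_eq] at *
    rw [map_mul, ha, hb]
  one_mem' := by simp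
  add_mem' := by
    intro a b ha hb
    simp only [Set.mem_ofPred_eq] at *
    rw [map_add, ha, hb]
  zero_mem' := by simp
  neg_mem' := by
    intro a ha
    simp only [Set.mem_ofPred_eq] at *
    rw [map_neg, ha]

theorem mem_fixedSubring (σ : R →+* R) (x : R) : x ∈ fixedSubring σ ↔ σ x = x := Iff.rfl

/-- Surjectivity of the norm `z ↦ z σ(z)` onto the fixed units. -/
theorem exists_norm_eq [Finite R] (σ : R →+* R) (hσ : ∀ x, σ (σ x) = x)
    (lam : R) (hlam : IsUnit (lam - σ lam)) (h hi : R) (hfix : σ h = h) (h1 : h * hi = 1) :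
    ∃ z : R, z * σ z = h := by
  set S := fixedSubring σ with hS
  have hifix : σ hi = hi := by
    have e : h * σ hi = 1 := by
      have := congrArg σ h1
      rw [map_mul, hfix, map_one] at this
      exact this
    calc σ hi = (hi * h) * σ hi := by rw [mul_comm hi h, h1, one_mul]
      _ = hi * (h * σ hi) := by ring
      _ = hi := by rw [e, mul_one]
  obtain ⟨d, hd⟩ := hlam
  have hd1 : (lam - σ lam) * (d⁻¹ : Rˣ) = 1 := by rw [← hd]; exact d.mul_inv
  have hdfix : σ (d⁻¹ : Rˣ) = - (d⁻¹ : Rˣ) := by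
    have e : (lam - σ lam) * (- σ ((d⁻¹ : Rˣ) : R)) = 1 := by
      have := congrArg σ hd1
      rw [map_mul, map_sub, hσ, map_one] at this
      rw [← this]
      ring
    calc σ ((d⁻¹ : Rˣ) : R) = - (((d⁻¹ : Rˣ) : R) * (lam - σ lam)) * (- σ ((d⁻¹ : Rˣ) : R)) := by
          rw [mul_comm ((d⁻¹ : Rˣ) : R), hd1]; ring
      _ = - ((d⁻¹ : Rˣ) : R) * ((lam - σ lam) * (- σ ((d⁻¹ : Rˣ) : R))) := by ring
      _ = - ((d⁻¹ : Rˣ) : R) := by rw [e, mul_one]
  let T : S := ⟨lam + σ lam, by
    change σ (lam + σ lam) = lam + σ lam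
    rw [map_add, hσ, add_comm]⟩
  let N : S := ⟨lam * σ lam, by
    change σ (lam * σ lam) = lam * σ lam
    rw [map_mul, hσ, mul_comm]⟩
  let Hs : S := ⟨h, hfix⟩
  let His : S := ⟨hi, hifix⟩
  let Di : S := ⟨((d⁻¹ : Rˣ) : R) ^ 2, by
    change σ (((d⁻¹ : Rˣ) : R) ^ 2) = ((d⁻¹ : Rˣ) : R) ^ 2
    rw [map_pow, hdfix]; ring⟩
  have hHu : IsUnit Hs := by
    refine ⟨⟨Hs, His, ?_, ?_⟩, rfl⟩
    · exact Subtype.ext h1
    · apply Subtype.ext
      change hi * h = 1
      rw [mul_comm, h1]
  have hΔu : IsUnit (T ^ 2 - 4 * N) := by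
    have hval : ((T ^ 2 - 4 * N : S) : R) = (lam - σ lam) ^ 2 := by
      have e4 : (4 : S) * N = N + N + N + N := by ring
      rw [e4, pow_two]
      change (lam + σ lam) * (lam + σ lam) -
        (lam * σ lam + lam * σ lam + lam * σ lam + lam * σ lam) = _
      ring
    have hm : (T ^ 2 - 4 * N) * Di = 1 := by
      apply Subtype.ext
      change ((T ^ 2 - 4 * N : S) : R) * (((d⁻¹ : Rˣ) : R) ^ 2) = 1
      rw [hval, ← mul_pow, hd1, one_pow]
    exact ⟨⟨T ^ 2 - 4 * N, Di, hm, by rw [mul_comm]; exact hm⟩, rfl⟩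
  have : Finite S := Finite.of_injective (fun x : S => (x : R)) Subtype.val_injective
  obtain ⟨a, b, hab⟩ := represents_unit T N Hs hΔu hHu
  refine ⟨a.1 + b.1 * lam, ?_⟩
  have ha : σ a.1 = a.1 := a.2
  have hb : σ b.1 = b.1 := b.2
  have := congrArg (fun X : S => (X : R)) hab
  unfold Phi at this
  rw [pow_two, pow_two] at this
  change a.1 * a.1 + (lam + σ lam) * a.1 * b.1 + (lam * σ lam) * (b.1 * b.1) = h at this
  rw [map_add, map_mul, ha, hb, ← this]
  ring

/-- **Hilbert 90** for a finite commutative ring with an involution `σ` such that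
`lam - σ lam` is a unit for some `lam`: every `u` of norm one is `z / σ z`. -/
theorem hilbert90 [Finite R] (σ : R →+* R) (hσ : ∀ x, σ (σ x) = x)
    (lam : R) (hlam : IsUnit (lam - σ lam)) (u : R) (hu : u * σ u = 1) :
    ∃ z : R, IsUnit z ∧ σ z * u = z := by
  classical
  let σG : Rˣ →* Rˣ := Units.map (σ : R →* R)
  have hσG : ∀ z : Rˣ, σG (σG z) = z := by
    intro z
    apply Units.ext
    change σ (σ (z : R)) = z
    exact hσ _
  let Nm : Rˣ →* Rˣ := MonoidHom.id Rˣ * σG
  let φ : Rˣ →* Rˣ := MonoidHom.id Rˣ / σG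
  have hNm : ∀ z, Nm z = z * σG z := fun z => rfl
  have hφ : ∀ z, φ z = z / σG z := fun z => rfl
  -- range of `Nm` = fixed units = kernel of `φ`
  have hker : ∀ z : Rˣ, z ∈ φ.ker ↔ σG z = z := by
    intro z
    rw [MonoidHom.mem_ker, hφ, div_eq_one]
    exact eq_comm
  have hrange : (Nm.range : Set Rˣ) = (φ.ker : Set Rˣ) := by
    ext h
    constructor
    · rintro ⟨z, rfl⟩
      change Nm z ∈ φ.ker
      rw [hker, hNm, map_mul, hσG, mul_comm]
    · intro hh
      have hh' : σG h = h := (hker h).mp hh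
      have hfix : σ (h : R) = h := congrArg Units.val hh'
      obtain ⟨z, hz⟩ := exists_norm_eq σ hσ lam hlam (h : R) ((h⁻¹ : Rˣ) : R) hfix h.mul_inv
      have hzu : IsUnit z := by
        refine IsUnit.of_mul_eq_one (σ z * ((h⁻¹ : Rˣ) : R)) ?_
        rw [← mul_assoc, hz, h.mul_inv]
      obtain ⟨zu, rfl⟩ := hzu
      refine ⟨zu, ?_⟩
      apply Units.ext
      exact hz
  have hle : φ.range ≤ Nm.ker := by
    rintro _ ⟨z, rfl⟩
    rw [MonoidHom.mem_ker, hNm, hφ, map_div, hσG]
    rw [div_mul_div_comm, mul_comm z, div_self']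
  have hc1 : Nat.card Nm.ker * Nat.card Nm.range = Nat.card Rˣ := by
    rw [← Subgroup.index_ker]; exact Subgroup.card_mul_index _
  have hc2 : Nat.card φ.ker * Nat.card φ.range = Nat.card Rˣ := by
    rw [← Subgroup.index_ker]; exact Subgroup.card_mul_index _
  have hc3 : Nat.card Nm.range = Nat.card φ.ker := by
    rw [← SetLike.coe_sort_coe, ← SetLike.coe_sort_coe (φ.ker), hrange]
  have hpos : 0 < Nat.card φ.ker := Nat.card_pos
  have hc4 : Nat.card Nm.ker = Nat.card φ.range := by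
    have : Nat.card Nm.ker * Nat.card φ.ker = Nat.card φ.range * Nat.card φ.ker := by
      rw [← hc3, hc1, hc3, mul_comm, hc2]
    exact Nat.eq_of_mul_eq_mul_right hpos this
  have heq : φ.range = Nm.ker := Subgroup.eq_of_le_of_card_ge hle (le_of_eq hc4)
  -- `u` is a unit in the kernel of the norm
  let uu : Rˣ := ⟨u, σ u, hu, by rw [mul_comm]; exact hu⟩
  have huk : uu ∈ Nm.ker := by
    rw [MonoidHom.mem_ker, hNm]
    apply Units.ext
    exact hu
  rw [← heq] at huk
  obtain ⟨z, hz⟩ := huk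
  refine ⟨(z : R), z.isUnit, ?_⟩
  have h1 : z = uu * σG z := by
    rw [← hz, hφ, div_mul_cancel]
  have h2 := congrArg Units.val h1
  rw [Units.val_mul] at h2
  change (z : R) = u * σ (z : R) at h2
  rw [mul_comm]
  exact h2.symm

end

end Cfsg.Agent.Lib.H11.HermNorm
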