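import Mathlib
import Cfsg.Agent.Lib.H11.HermNorm5
import Cfsg.Agent.Lib.H11.HermNorm4

set_option autoImplicit false

/-!
# A matrix over `F_{q²}` similar to its inverse conjugate transpose is similar to a unitary matrix
-/

namespace Cfsg.Agent.Lib.H11.HermNorm

open Matrix Cfsg.Agent.Lib.H13.AutPSU

variable {F : Type*} [Field F] {n q : ℕ} (D : UF F q)

local notation "Mn" => Matrix (Fin n) (Fin n) F

/-- The double centralizer of `u`. -/
def dcen (u : Mn) : Subring Mn where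
  carrier := {z | ∀ w : Mn, w * u = u * w → z * w = w * z}
  mul_mem' := by
    intro a b ha hb w hw
    rw [Matrix.mul_assoc, hb w hw, ← Matrix.mul_assoc, ha w hw, Matrix.mul_assoc]
  one_mem' := fun w _ => by rw [Matrix.one_mul, Matrix.mul_one]
  add_mem' := by
    intro a b ha hb w hw
    rw [Matrix.add_mul, Matrix.mul_add, ha w hw, hb w hw]
  zero_mem' := fun w _ => by rw [Matrix.zero_mul, Matrix.mul_zero]
  neg_mem' := by
    intro a ha w hw
    rw [Matrix.neg_mul, Matrix.mul_neg, ha w hw]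

theorem mem_dcen (u z : Mn) : z ∈ dcen u ↔ ∀ w : Mn, w * u = u * w → z * w = w * z := Iff.rfl

theorem self_mem_dcen (u : Mn) : u ∈ dcen u := fun _ hw => hw.symm

theorem smul_one_mem_dcen (u : Mn) (c : F) : c • (1 : Mn) ∈ dcen u := fun w _ => by
  rw [Matrix.smul_mul, Matrix.one_mul, Matrix.mul_smul, Matrix.mul_one]

theorem dcen_comm (u : Mn) (z₁ z₂ : dcen u) : z₁ * z₂ = z₂ * z₁ := by
  apply Subtype.ext
  have h2 : z₂.1 * u = u * z₂.1 := z₂.2 u rfl
  exact z₁.2 z₂.1 h2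

instance (u : Mn) : CommRing (dcen u) :=
  { (dcen u).toRing with mul_comm := dcen_comm u }

instance (u : Mn) [Finite F] : Finite (dcen u) :=
  Finite.of_injective (fun X => (X : Mn)) Subtype.val_injective

/-- the adjoint anti-involution (up to conjugation by `u`) attached to the sesquilinear form `X` -/
def sg (X Xi z : Mn) : Mn := Xi * ct D z * X

section SgSec

theorem sg_add (X Xi : Mn) (a b : Mn) : sg D X Xi (a + b) = sg D X Xi a + sg D X Xi b := by
  unfold sg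
  rw [ct_add, Matrix.mul_add, Matrix.add_mul]

theorem sg_one (X Xi : Mn) (hX2 : Xi * X = 1) : sg D X Xi 1 = 1 := by
  unfold sg
  rw [ct_one, Matrix.mul_one, hX2]

theorem sg_zero (X Xi : Mn) : sg D X Xi 0 = 0 := by
  unfold sg
  rw [ct_zero, Matrix.mul_zero, Matrix.zero_mul]

theorem sg_mul (X Xi : Mn) (hX1 : X * Xi = 1) (a b : Mn) : sg D X Xi (a * b) = sg D X Xi b * sg D X Xi a := by
  unfold sg
  rw [ct_mul]
  calc Xi * (ct D b * ct D a) * X = Xi * ct D b * (1 : Mn) * ct D a * X := by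
        rw [Matrix.mul_one]; simp only [Matrix.mul_assoc]
    _ = Xi * ct D b * X * (Xi * ct D a * X) := by
        rw [← hX1]; simp only [Matrix.mul_assoc]

theorem sg_sg (X Xi : Mn) (z : Mn) :
    sg D X Xi (sg D X Xi z) = (Xi * ct D X) * z * (ct D Xi * X) := by
  unfold sg
  rw [ct_mul, ct_mul, ct_ct]
  simp only [Matrix.mul_assoc]

theorem sg_smul_one (X Xi : Mn) (hX2 : Xi * X = 1) (c : F) : sg D X Xi (c • (1 : Mn)) = D.τ c • (1 : Mn) := by
  unfold sg
  rw [ct_smul, ct_one, Matrix.mul_smul, Matrix.mul_one, Matrix.smul_mul, hX2]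

theorem u_mul_ui (X Xi : Mn) (hX1 : X * Xi = 1) (hX2 : Xi * X = 1) : (Xi * ct D X) * (ct D Xi * X) = 1 := by
  have e : ct D X * ct D Xi = 1 := by rw [← ct_mul, hX2, ct_one]
  calc (Xi * ct D X) * (ct D Xi * X) = Xi * (ct D X * ct D Xi) * X := by
        simp only [Matrix.mul_assoc]
    _ = 1 := by rw [e, Matrix.mul_one, hX2]

theorem ui_mul_u (X Xi : Mn) (hX1 : X * Xi = 1) (hX2 : Xi * X = 1) : (ct D Xi * X) * (Xi * ct D X) = 1 :=
  mul_eq_one_comm.mp (u_mul_ui D X Xi hX1 hX2)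

theorem sg_u (X Xi : Mn) (hX2 : Xi * X = 1) : sg D X Xi (Xi * ct D X) = ct D Xi * X := by
  unfold sg
  rw [ct_mul, ct_ct]
  calc Xi * (X * ct D Xi) * X = (Xi * X) * ct D Xi * X := by simp only [Matrix.mul_assoc]
    _ = ct D Xi * X := by rw [hX2, Matrix.one_mul]

theorem sg_injective (X Xi : Mn) (hX1 : X * Xi = 1) (hX2 : Xi * X = 1) : Function.Injective (sg D X Xi) := by
  intro a b hab
  have h := congrArg (sg D X Xi) hab
  rw [sg_sg, sg_sg] at h
  have h1 := u_mul_ui D X Xi hX1 hX2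
  have h2 := ui_mul_u D X Xi hX1 hX2
  calc a = ((ct D Xi * X) * (Xi * ct D X)) * a * ((ct D Xi * X) * (Xi * ct D X)) := by
        rw [h2, Matrix.one_mul, Matrix.mul_one]
    _ = (ct D Xi * X) * ((Xi * ct D X) * a * (ct D Xi * X)) * (Xi * ct D X) := by
        simp only [Matrix.mul_assoc]
    _ = (ct D Xi * X) * ((Xi * ct D X) * b * (ct D Xi * X)) * (Xi * ct D X) := by rw [h]
    _ = ((ct D Xi * X) * (Xi * ct D X)) * b * ((ct D Xi * X) * (Xi * ct D X)) := by
        simp only [Matrix.mul_assoc]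
    _ = b := by rw [h2, Matrix.one_mul, Matrix.mul_one]

theorem sg_surj (X Xi : Mn) (hX1 : X * Xi = 1) (hX2 : Xi * X = 1) (w : Mn) : sg D X Xi (ct D (X * w * Xi)) = w := by
  unfold sg
  rw [ct_ct]
  calc Xi * (X * w * Xi) * X = (Xi * X) * w * (Xi * X) := by simp only [Matrix.mul_assoc]
    _ = w := by rw [hX2, Matrix.one_mul, Matrix.mul_one]

/-- `sg` preserves the double centralizer of `u = X⁻¹ X*`. -/
theorem sg_mem_dcen (X Xi : Mn) (hX1 : X * Xi = 1) (hX2 : Xi * X = 1) (z : Mn) (hz : z ∈ dcen (Xi * ct D X)) :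
    sg D X Xi z ∈ dcen (Xi * ct D X) := by
  intro w hw
  set u := Xi * ct D X with hu
  set ui := ct D Xi * X with hui
  have h1 : u * ui = 1 := u_mul_ui D X Xi hX1 hX2
  have h2 : ui * u = 1 := ui_mul_u D X Xi hX1 hX2
  have hwi : w * ui = ui * w := by
    calc w * ui = (ui * u) * w * ui := by rw [h2, Matrix.one_mul]
      _ = ui * (u * w) * ui := by simp only [Matrix.mul_assoc]
      _ = ui * (w * u) * ui := by rw [hw]
      _ = ui * w * (u * ui) := by simp only [Matrix.mul_assoc]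
      _ = ui * w := by rw [h1, Matrix.mul_one]
  set w' := ct D (X * w * Xi) with hw'
  have hsw : sg D X Xi w' = w := sg_surj D X Xi hX1 hX2 w
  have hcomm : w' * u = u * w' := by
    apply sg_injective D X Xi hX1 hX2
    have e1 : sg D X Xi (w' * u) = sg D X Xi u * sg D X Xi w' := sg_mul D X Xi hX1 w' u
    have e2 : sg D X Xi (u * w') = sg D X Xi w' * sg D X Xi u := sg_mul D X Xi hX1 u w'
    have e3 : sg D X Xi u = ui := sg_u D X Xi hX2
    rw [e1, e2, e3, hsw]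
    exact hwi.symm
  have hz' := hz w' hcomm
  have h3 := congrArg (sg D X Xi) hz'
  have e4 : sg D X Xi (z * w') = sg D X Xi w' * sg D X Xi z := sg_mul D X Xi hX1 z w'
  have e5 : sg D X Xi (w' * z) = sg D X Xi z * sg D X Xi w' := sg_mul D X Xi hX1 w' z
  rw [e4, e5, hsw] at h3
  exact h3.symm

end SgSec

/-- If `g* X g = X` for an invertible `X`, there is an invertible Hermitian `H` with
`g* H g = H`. -/
theorem exists_hermitian_invariant [Finite F] (g gi X Xi : Mn) (hg1 : g * gi = 1)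
    (hg2 : gi * g = 1) (hX1 : X * Xi = 1) (hX2 : Xi * X = 1) (hinv : ct D g * X * g = X) :
    ∃ H Hi : Mn, ct D H = H ∧ H * Hi = 1 ∧ Hi * H = 1 ∧ ct D g * H * g = H := by
  obtain ⟨ω, hω⟩ := D.hne
  set u := Xi * ct D X with hu
  set ui := ct D Xi * X with hui
  have h1 : u * ui = 1 := u_mul_ui D X Xi hX1 hX2
  have h2 : ui * u = 1 := ui_mul_u D X Xi hX1 hX2
  -- `g` commutes with `u`
  have hcg : ct D gi * ct D g = 1 := by rw [← ct_mul, hg1, ct_one]
  have hinv' : ct D g * ct D X * g = ct D X := by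
    have := congrArg (ct D) hinv
    rw [ct_mul, ct_mul, ct_ct] at this
    rw [← Matrix.mul_assoc] at this
    exact this
  have e1 : X * g = ct D gi * X := by
    calc X * g = (ct D gi * ct D g) * X * g := by rw [hcg, Matrix.one_mul]
      _ = ct D gi * (ct D g * X * g) := by simp only [Matrix.mul_assoc]
      _ = ct D gi * X := by rw [hinv]
  have e2 : ct D X * g = ct D gi * ct D X := by
    calc ct D X * g = (ct D gi * ct D g) * ct D X * g := by rw [hcg, Matrix.one_mul]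
      _ = ct D gi * (ct D g * ct D X * g) := by simp only [Matrix.mul_assoc]
      _ = ct D gi * ct D X := by rw [hinv']
  have e3 : g * Xi = Xi * ct D gi := by
    calc g * Xi = (Xi * X) * g * Xi := by rw [hX2, Matrix.one_mul]
      _ = Xi * (X * g) * Xi := by simp only [Matrix.mul_assoc]
      _ = Xi * ct D gi * (X * Xi) := by rw [e1]; simp only [Matrix.mul_assoc]
      _ = Xi * ct D gi := by rw [hX1, Matrix.mul_one]
  have hgu : g * u = u * g := by
    calc g * u = (g * Xi) * ct D X := by rw [hu, Matrix.mul_assoc]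
      _ = Xi * (ct D gi * ct D X) := by rw [e3, Matrix.mul_assoc]
      _ = Xi * (ct D X * g) := by rw [e2]
      _ = u * g := by rw [hu, Matrix.mul_assoc]
  -- the ring and its involution
  let R := dcen u
  let σR : R →+* R :=
    { toFun := fun z => ⟨sg D X Xi z.1, sg_mem_dcen D X Xi hX1 hX2 z.1 z.2⟩
      map_one' := Subtype.ext (sg_one D X Xi hX2)
      map_mul' := fun a b => by
        apply Subtype.ext
        change sg D X Xi (a.1 * b.1) = sg D X Xi a.1 * sg D X Xi b.1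
        rw [sg_mul D X Xi hX1]
        have hb : sg D X Xi b.1 ∈ dcen u := sg_mem_dcen D X Xi hX1 hX2 b.1 b.2
        have ha : sg D X Xi a.1 ∈ dcen u := sg_mem_dcen D X Xi hX1 hX2 a.1 a.2
        exact hb _ (ha u rfl)
      map_zero' := Subtype.ext (sg_zero D X Xi)
      map_add' := fun a b => Subtype.ext (sg_add D X Xi a.1 b.1) }
  have hσR : ∀ z : R, σR (σR z) = z := by
    intro z
    apply Subtype.ext
    change sg D X Xi (sg D X Xi z.1) = z.1
    rw [sg_sg]
    have hzu : z.1 * u = u * z.1 := z.2 u rfl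
    calc u * z.1 * ui = z.1 * (u * ui) := by rw [← hzu, Matrix.mul_assoc]
      _ = z.1 := by rw [h1, Matrix.mul_one]
  let lam : R := ⟨ω • 1, smul_one_mem_dcen u ω⟩
  have hδ : ω - D.τ ω ≠ 0 := sub_ne_zero.mpr (Ne.symm hω)
  let δi : R := ⟨(ω - D.τ ω)⁻¹ • 1, smul_one_mem_dcen u _⟩
  have hlam : IsUnit (lam - σR lam) := by
    have hval : ((lam - σR lam : R) : Mn) = (ω - D.τ ω) • 1 := by
      change (ω • (1 : Mn)) - sg D X Xi (ω • (1 : Mn)) = _
      rw [sg_smul_one D X Xi hX2, sub_smul]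
    have hm : (lam - σR lam) * δi = 1 := by
      apply Subtype.ext
      change ((lam - σR lam : R) : Mn) * ((ω - D.τ ω)⁻¹ • (1 : Mn)) = 1
      rw [hval, Matrix.smul_mul, Matrix.one_mul, smul_smul, mul_inv_cancel₀ hδ, one_smul]
    exact ⟨⟨lam - σR lam, δi, hm, by rw [mul_comm]; exact hm⟩, rfl⟩
  let uR : R := ⟨u, self_mem_dcen u⟩
  have huR : uR * σR uR = 1 := by
    apply Subtype.ext
    change u * sg D X Xi u = 1
    rw [hu, sg_u D X Xi hX2]
    exact h1
  obtain ⟨z, hzu, hz⟩ := hilbert90 σR hσR lam hlam uR huR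
  have hz' : sg D X Xi z.1 * u = z.1 := congrArg Subtype.val hz
  obtain ⟨zu, hzu'⟩ := hzu
  have hzi1 : z.1 * ((zu⁻¹ : Rˣ) : R).1 = 1 := by
    have : z * ((zu⁻¹ : Rˣ) : R) = 1 := by rw [← hzu']; exact zu.mul_inv
    exact congrArg Subtype.val this
  have hzi2 : ((zu⁻¹ : Rˣ) : R).1 * z.1 = 1 := mul_eq_one_comm.mp hzi1
  have hzg : z.1 * g = g * z.1 := z.2 g hgu
  refine ⟨X * z.1, ((zu⁻¹ : Rˣ) : R).1 * Xi, ?_, ?_, ?_, ?_⟩
  · rw [ct_mul]
    calc ct D z.1 * ct D X = (X * Xi) * ct D z.1 * (X * Xi) * ct D X := by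
          rw [hX1, Matrix.one_mul, Matrix.mul_one]
      _ = X * ((Xi * ct D z.1 * X) * (Xi * ct D X)) := by simp only [Matrix.mul_assoc]
      _ = X * z.1 := by
          have : (Xi * ct D z.1 * X) * (Xi * ct D X) = z.1 := hz'
          rw [this]
  · calc X * z.1 * (((zu⁻¹ : Rˣ) : R).1 * Xi) = X * (z.1 * ((zu⁻¹ : Rˣ) : R).1) * Xi := by
          simp only [Matrix.mul_assoc]
      _ = 1 := by rw [hzi1, Matrix.mul_one, hX1]
  · calc ((zu⁻¹ : Rˣ) : R).1 * Xi * (X * z.1) = ((zu⁻¹ : Rˣ) : R).1 * (Xi * X) * z.1 := by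
          simp only [Matrix.mul_assoc]
      _ = 1 := by rw [hX2, Matrix.mul_one, hzi2]
  · calc ct D g * (X * z.1) * g = ct D g * X * (z.1 * g) := by simp only [Matrix.mul_assoc]
      _ = (ct D g * X * g) * z.1 := by rw [hzg]; simp only [Matrix.mul_assoc]
      _ = X * z.1 := by rw [hinv]

/-- If `g* X g = X` for an invertible `X`, then `g` is similar to a unitary matrix. -/
theorem exists_conj_unitary [Finite F] (g gi X Xi : Mn) (hg1 : g * gi = 1)
    (hg2 : gi * g = 1) (hX1 : X * Xi = 1) (hX2 : Xi * X = 1) (hinv : ct D g * X * g = X) :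
    ∃ C Ci : Mn, C * Ci = 1 ∧ Ci * C = 1 ∧ ct D (C * g * Ci) * (C * g * Ci) = 1 := by
  obtain ⟨H, Hi, hH, hH1, hH2, hHg⟩ := exists_hermitian_invariant D g gi X Xi hg1 hg2 hX1 hX2 hinv
  obtain ⟨C, hC, hCu, -⟩ := exists_norm D H Hi hH hH1 hH2
  obtain ⟨Cu, rfl⟩ := hCu
  refine ⟨(Cu : Mn), ((Cu⁻¹ : Mnˣ) : Mn), Cu.mul_inv, Cu.inv_mul, ?_⟩
  have e1 : ct D ((Cu⁻¹ : Mnˣ) : Mn) * ct D (Cu : Mn) = 1 := by
    rw [← ct_mul, Units.mul_inv, ct_one]
  calc ct D ((Cu : Mn) * g * ((Cu⁻¹ : Mnˣ) : Mn)) * ((Cu : Mn) * g * ((Cu⁻¹ : Mnˣ) : Mn))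
      = ct D ((Cu⁻¹ : Mnˣ) : Mn) * (ct D g * (ct D (Cu : Mn) * (Cu : Mn)) * g)
          * ((Cu⁻¹ : Mnˣ) : Mn) := by
        rw [ct_mul, ct_mul]; simp only [Matrix.mul_assoc]
    _ = ct D ((Cu⁻¹ : Mnˣ) : Mn) * (ct D (Cu : Mn) * (Cu : Mn)) * ((Cu⁻¹ : Mnˣ) : Mn) := by
        rw [hC, hHg]
    _ = (ct D ((Cu⁻¹ : Mnˣ) : Mn) * ct D (Cu : Mn)) * ((Cu : Mn) * ((Cu⁻¹ : Mnˣ) : Mn)) := by
        simp only [Matrix.mul_assoc]
    _ = 1 := by rw [e1, Units.mul_inv, Matrix.one_mul]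

end Cfsg.Agent.Lib.H11.HermNorm
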