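import Mathlib
import Cfsg.Agent.Lib.H11.Jordan4
import Cfsg.Agent.Lib.H11.HermNorm6

set_option autoImplicit false

/-!
# Unipotent Jordan types in the general unitary group
-/

namespace Cfsg.Agent.Lib.H11.Jordan

open Module Matrix Cfsg.Agent.Lib.H13.AutPSU Cfsg.Agent.Lib.H11.HermNorm

variable {K : Type*} [Field K]

/-- the inverse transpose of a unipotent matrix has the same Jordan type -/
theorem HasType.inv_transpose {n : ℕ} {u ui : Matrix (Fin n) (Fin n) K} {μ : Multiset ℕ}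
    (h : HasType u μ) (h1 : u * ui = 1) : HasType uiᵀ μ := by
  have h2 : ui * u = 1 := mul_eq_one_comm.mp h1
  have hN := h.isNilpotent
  -- `ui - 1 = - ui * (u - 1)`
  have e1 : ui - 1 = (-ui) * (u - 1) := by
    rw [Matrix.mul_sub, Matrix.neg_mul, h2, Matrix.mul_one]
    abel
  have hcomm : Commute (-ui) (u - 1) := by
    change (-ui) * (u - 1) = (u - 1) * (-ui)
    rw [Matrix.mul_sub, Matrix.sub_mul, Matrix.neg_mul, Matrix.mul_neg, h1, h2, Matrix.mul_one,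
      Matrix.one_mul]
  have hpow : ∀ j : ℕ, (ui - 1) ^ j = (-ui) ^ j * (u - 1) ^ j := by
    intro j
    rw [e1, hcomm.mul_pow]
  have hunit : ∀ j : ℕ, IsUnit ((-ui) ^ j).det := by
    intro j
    have : IsUnit (-ui) := ⟨⟨-ui, -u, by rw [neg_mul_neg, h2], by rw [neg_mul_neg, h1]⟩, rfl⟩
    exact (Matrix.isUnit_iff_isUnit_det _).mp (this.pow j)
  have hNi : IsNilpotent (uiᵀ - 1) := by
    obtain ⟨k, hk⟩ := hN
    refine ⟨k, ?_⟩
    have : uiᵀ - 1 = (ui - 1)ᵀ := by rw [Matrix.transpose_sub, Matrix.transpose_one]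
    rw [this, ← Matrix.transpose_pow, hpow, hk, Matrix.mul_zero, Matrix.transpose_zero]
  obtain ⟨μ', hμ'⟩ := exists_hasType uiᵀ hNi
  have hr : ∀ j, ((u - 1) ^ j).rank = ((uiᵀ - 1) ^ j).rank := by
    intro j
    have : uiᵀ - 1 = (ui - 1)ᵀ := by rw [Matrix.transpose_sub, Matrix.transpose_one]
    rw [this, ← Matrix.transpose_pow, Matrix.rank_transpose, hpow,
      Matrix.rank_mul_eq_right_of_isUnit_det _ _ (hunit j)]
  rw [h.eq_of_rank hμ' hr]
  exact hμ'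

variable {q : ℕ} (D : UF K q)

theorem ct_jordan {t n : ℕ} (d : Fin t → ℕ) (e : ((k : Fin t) × Fin (d k)) ≃ Fin n) :
    ct D (Matrix.reindex e e (Cfsg.jordanTypeMatrix d K)) =
      (Matrix.reindex e e (Cfsg.jordanTypeMatrix d K))ᵀ := by
  ext i j
  rw [ct_apply, Matrix.transpose_apply, Matrix.reindex_apply, Matrix.submatrix_apply,
    jordanTypeMatrix_apply]
  split_ifs
  · exact map_one D.τ
  · exact map_zero D.τ

/-- the inverse conjugate transpose of a unipotent matrix has the same Jordan type -/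
theorem HasType.ct_inv {n : ℕ} {u ui : Matrix (Fin n) (Fin n) K} {μ : Multiset ℕ}
    (h : HasType u μ) (h1 : u * ui = 1) : HasType (ct D ui) μ := by
  have h2 : ui * u = 1 := mul_eq_one_comm.mp h1
  obtain ⟨t, d, hd, e, ⟨c, hc⟩, hμ⟩ := h
  set J := Matrix.reindex e e (Cfsg.jordanTypeMatrix d K) with hJ
  have hJtype : HasType J μ := ⟨t, d, hd, e, IsConj.refl _, hμ⟩
  have hc' : (c : Matrix (Fin n) (Fin n) K) * J = u * c := hc
  -- inverse of `J`
  obtain ⟨Ji, hJi⟩ : ∃ Ji : Matrix (Fin n) (Fin n) K,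
      Ji = ((c⁻¹ : (Matrix (Fin n) (Fin n) K)ˣ) : Matrix (Fin n) (Fin n) K) * ui * c := ⟨_, rfl⟩
  have hJJi : J * Ji = 1 := by
    have e1 : J = ((c⁻¹ : (Matrix (Fin n) (Fin n) K)ˣ) : Matrix (Fin n) (Fin n) K) * u * c := by
      rw [Matrix.mul_assoc, ← hc', ← Matrix.mul_assoc, Units.inv_mul, Matrix.one_mul]
    rw [e1, hJi]
    calc ((c⁻¹ : (Matrix (Fin n) (Fin n) K)ˣ) : Matrix (Fin n) (Fin n) K) * u * c *
        (((c⁻¹ : (Matrix (Fin n) (Fin n) K)ˣ) : Matrix (Fin n) (Fin n) K) * ui * c)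
        = ((c⁻¹ : (Matrix (Fin n) (Fin n) K)ˣ) : Matrix (Fin n) (Fin n) K) * (u *
          ((c : Matrix (Fin n) (Fin n) K) *
            ((c⁻¹ : (Matrix (Fin n) (Fin n) K)ˣ) : Matrix (Fin n) (Fin n) K)) * ui) * c := by
          simp only [Matrix.mul_assoc]
      _ = 1 := by rw [Units.mul_inv, Matrix.mul_one, h1, Matrix.mul_one, Units.inv_mul]
  have hJiJ : Ji * J = 1 := mul_eq_one_comm.mp hJJi
  have hT := hJtype.inv_transpose hJJi
  -- `ct Ji = Jiᵀ`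
  have hctJi : ct D Ji = Jiᵀ := by
    have e1 : ct D J * ct D Ji = 1 := by rw [← ct_mul, hJiJ, ct_one]
    have e2 : Jᵀ * Jiᵀ = 1 := by rw [← Matrix.transpose_mul, hJiJ, Matrix.transpose_one]
    have e3 : ct D J = Jᵀ := ct_jordan D d e
    rw [e3] at e1
    have e4 : Jiᵀ * Jᵀ = 1 := mul_eq_one_comm.mp e2
    calc ct D Ji = (Jiᵀ * Jᵀ) * ct D Ji := by rw [e4, Matrix.one_mul]
      _ = Jiᵀ * (Jᵀ * ct D Ji) := by rw [Matrix.mul_assoc]
      _ = Jiᵀ := by rw [e1, Matrix.mul_one]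
  -- `ct ui` is conjugate to `ct Ji`
  have hui : ui = (c : Matrix (Fin n) (Fin n) K) * Ji *
      ((c⁻¹ : (Matrix (Fin n) (Fin n) K)ˣ) : Matrix (Fin n) (Fin n) K) := by
    rw [hJi]
    calc ui = ((c : Matrix (Fin n) (Fin n) K) *
          ((c⁻¹ : (Matrix (Fin n) (Fin n) K)ˣ) : Matrix (Fin n) (Fin n) K)) * ui *
          ((c : Matrix (Fin n) (Fin n) K) *
            ((c⁻¹ : (Matrix (Fin n) (Fin n) K)ˣ) : Matrix (Fin n) (Fin n) K)) := by
          rw [Units.mul_inv, Matrix.one_mul, Matrix.mul_one]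
      _ = _ := by simp only [Matrix.mul_assoc]
  have hconj : IsConj (ct D Ji) (ct D ui) := by
    have e1 : ct D ((c⁻¹ : (Matrix (Fin n) (Fin n) K)ˣ) : Matrix (Fin n) (Fin n) K) *
        ct D (c : Matrix (Fin n) (Fin n) K) = 1 := by
      rw [← ct_mul, Units.mul_inv, ct_one]
    have e2 : ct D (c : Matrix (Fin n) (Fin n) K) *
        ct D ((c⁻¹ : (Matrix (Fin n) (Fin n) K)ˣ) : Matrix (Fin n) (Fin n) K) = 1 :=
      mul_eq_one_comm.mp e1
    refine ⟨⟨ct D ((c⁻¹ : (Matrix (Fin n) (Fin n) K)ˣ) : Matrix (Fin n) (Fin n) K),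
      ct D (c : Matrix (Fin n) (Fin n) K), e1, e2⟩, ?_⟩
    change ct D ((c⁻¹ : (Matrix (Fin n) (Fin n) K)ˣ) : Matrix (Fin n) (Fin n) K) * ct D Ji =
      ct D ui * ct D ((c⁻¹ : (Matrix (Fin n) (Fin n) K)ˣ) : Matrix (Fin n) (Fin n) K)
    rw [hui, ct_mul, ct_mul]
    calc ct D ((c⁻¹ : (Matrix (Fin n) (Fin n) K)ˣ) : Matrix (Fin n) (Fin n) K) * ct D Ji
        = ct D ((c⁻¹ : (Matrix (Fin n) (Fin n) K)ˣ) : Matrix (Fin n) (Fin n) K) * ct D Ji *
          (ct D (c : Matrix (Fin n) (Fin n) K) *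
            ct D ((c⁻¹ : (Matrix (Fin n) (Fin n) K)ˣ) : Matrix (Fin n) (Fin n) K)) := by
          rw [e2, Matrix.mul_one]
      _ = _ := by simp only [Matrix.mul_assoc]
  rw [hctJi] at hconj
  exact hT.of_isConj hconj

/-- every unipotent Jordan type occurs in the unitary group -/
theorem HasType.exists_unitary [Finite K] {n : ℕ} {u : Matrix (Fin n) (Fin n) K} {μ : Multiset ℕ}
    (h : HasType u μ) : ∃ B : Matrix (Fin n) (Fin n) K, ct D B * B = 1 ∧ IsConj u B := by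
  have hu : IsUnit u := by
    have := h.isNilpotent.isUnit_one_add
    rwa [add_sub_cancel] at this
  obtain ⟨uu, rfl⟩ := hu
  have h1 : (uu : Matrix (Fin n) (Fin n) K) *
      ((uu⁻¹ : (Matrix (Fin n) (Fin n) K)ˣ) : Matrix (Fin n) (Fin n) K) = 1 := uu.mul_inv
  have h2 : ((uu⁻¹ : (Matrix (Fin n) (Fin n) K)ˣ) : Matrix (Fin n) (Fin n) K) *
      (uu : Matrix (Fin n) (Fin n) K) = 1 := uu.inv_mul
  have hw := h.ct_inv D h1
  obtain ⟨X, hX⟩ := h.isConj hw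
  have hX' : (X : Matrix (Fin n) (Fin n) K) * (uu : Matrix (Fin n) (Fin n) K) =
      ct D ((uu⁻¹ : (Matrix (Fin n) (Fin n) K)ˣ) : Matrix (Fin n) (Fin n) K) * X := hX
  have hinv : ct D (uu : Matrix (Fin n) (Fin n) K) * (X : Matrix (Fin n) (Fin n) K) *
      (uu : Matrix (Fin n) (Fin n) K) = X := by
    rw [Matrix.mul_assoc, hX', ← Matrix.mul_assoc, ← ct_mul, h2, ct_one, Matrix.one_mul]
  obtain ⟨C, Ci, hC1, hC2, hU⟩ := exists_conj_unitary D (uu : Matrix (Fin n) (Fin n) K)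
    ((uu⁻¹ : (Matrix (Fin n) (Fin n) K)ˣ) : Matrix (Fin n) (Fin n) K)
    (X : Matrix (Fin n) (Fin n) K)
    ((X⁻¹ : (Matrix (Fin n) (Fin n) K)ˣ) : Matrix (Fin n) (Fin n) K) h1 h2 X.mul_inv X.inv_mul hinv
  refine ⟨C * uu * Ci, hU, ⟨⟨C, Ci, hC1, hC2⟩, ?_⟩⟩
  change C * (uu : Matrix (Fin n) (Fin n) K) = C * uu * Ci * C
  rw [Matrix.mul_assoc (C * (uu : Matrix (Fin n) (Fin n) K)), hC2, Matrix.mul_one]

end Cfsg.Agent.Lib.H11.Jordan
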