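import Mathlib
import Cfsg.Agent.Lib.H11.Jordan5

set_option autoImplicit false

/-!
# Regular unipotent matrices: Jordan type `{n}` and the determinant on the centraliser
-/

namespace Cfsg.Agent.Lib.H11.Jordan

open Module Matrix Cfsg.Agent.Lib.H13.AutPSU Cfsg.Agent.Lib.H11.HermNorm

variable {K : Type*} [Field K]

/-- the index equivalence for a single block -/
def oneBlockEquiv (n : ℕ) : ((k : Fin 1) × Fin ((fun _ : Fin 1 => n) k)) ≃ Fin n where
  toFun x := x.2
  invFun i := ⟨0, i⟩
  left_inv := by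
    rintro ⟨k, i⟩
    have : k = 0 := Subsingleton.elim _ _
    subst this
    rfl
  right_inv _ := rfl

theorem jordanBlock_apply (n : ℕ) (i j : Fin n) :
    Cfsg.jordanBlock n K i j = if (i : ℕ) = j ∨ (i : ℕ) = (j : ℕ) + 1 then 1 else 0 := by
  unfold Cfsg.jordanBlock
  simp only [Matrix.of_apply]
  by_cases h1 : (i : ℕ) = j
  · rw [if_pos h1, if_pos (Or.inl h1)]
  · rw [if_neg h1]
    by_cases h2 : (i : ℕ) = (j : ℕ) + 1
    · rw [if_pos h2, if_pos (Or.inr h2)]
    · rw [if_neg h2, if_neg (by tauto)]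

theorem reindex_oneBlock (n : ℕ) :
    Matrix.reindex (oneBlockEquiv n) (oneBlockEquiv n)
      (Cfsg.jordanTypeMatrix (fun _ : Fin 1 => n) K) = Cfsg.jordanBlock n K := by
  ext i j
  rw [Matrix.reindex_apply, Matrix.submatrix_apply, jordanTypeMatrix_apply, jordanBlock_apply]
  have h1 : ((oneBlockEquiv n).symm i).1 = ((oneBlockEquiv n).symm j).1 := Subsingleton.elim _ _
  have h2 : ((((oneBlockEquiv n).symm i).2 : Fin n) : ℕ) = i := rfl
  have h3 : ((((oneBlockEquiv n).symm j).2 : Fin n) : ℕ) = j := rfl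
  simp only [h1, true_and]
  rfl

/-- a single Jordan block has type `{n}` -/
theorem hasType_jordanBlock {n : ℕ} (hn : 1 ≤ n) : HasType (Cfsg.jordanBlock n K) {n} := by
  refine ⟨1, fun _ => n, fun _ => hn, oneBlockEquiv n, ?_, ?_⟩
  · rw [reindex_oneBlock]
  · simp

theorem sum_map_sub_one (μ : Multiset ℕ) (hpos : ∀ a ∈ μ, 0 < a) :
    (μ.map (fun a => a - 1)).sum + Multiset.card μ = μ.sum := by
  induction μ using Multiset.induction_on with
  | empty => simp
  | cons a s ih =>
    have h1 := ih (fun b hb => hpos b (Multiset.mem_cons_of_mem hb))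
    have h2 := hpos a (Multiset.mem_cons_self a s)
    rw [Multiset.map_cons, Multiset.sum_cons, Multiset.card_cons, Multiset.sum_cons]
    omega

/-- regular unipotent matrices have type `{n}` -/
theorem hasType_singleton_of_rank {n : ℕ} (hn : 1 ≤ n) {u : Matrix (Fin n) (Fin n) K}
    (h1 : (u - 1) ^ n = 0) (h2 : (u - 1).rank = n - 1) : HasType u {n} := by
  obtain ⟨μ, hμ⟩ := exists_hasType u ⟨n, h1⟩
  have h3 := hμ.rank 1
  rw [pow_one, h2] at h3
  have h4 := sum_map_sub_one μ hμ.pos
  have h5 := hμ.sum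
  have h6 : Multiset.card μ = 1 := by omega
  obtain ⟨a, ha⟩ := Multiset.card_eq_one.mp h6
  rw [ha, Multiset.sum_singleton] at h5
  rw [ha, h5] at hμ
  exact hμ

theorem HasType.rank_singleton {n : ℕ} {u : Matrix (Fin n) (Fin n) K} (h : HasType u {n}) :
    (u - 1) ^ n = 0 ∧ (u - 1).rank = n - 1 := by
  constructor
  · rw [h.pow_eq_zero_iff]
    intro a ha
    rw [Multiset.mem_singleton] at ha
    exact ha.le
  · have := h.rank 1
    rw [pow_one] at this
    rw [this]
    simp

/-- lower triangular with constant diagonal -/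
def IsLTC {n : ℕ} (X : Matrix (Fin n) (Fin n) K) (a : K) : Prop :=
  (∀ i j : Fin n, i < j → X i j = 0) ∧ ∀ i, X i i = a

theorem IsLTC.det_combo {n : ℕ} {X : Matrix (Fin n) (Fin n) K} {a : K} (h : IsLTC X a) (α β : K) :
    (α • (1 : Matrix (Fin n) (Fin n) K) + β • X).det = (α + β * a) ^ n := by
  rw [Matrix.det_of_isLowerTriangular]
  · have : ∀ i : Fin n, (α • (1 : Matrix (Fin n) (Fin n) K) + β • X) i i = α + β * a := by
      intro i
      rw [Matrix.add_apply, Matrix.smul_apply, Matrix.smul_apply, Matrix.one_apply_eq, h.2 i,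
        smul_eq_mul, smul_eq_mul, mul_one]
    rw [Finset.prod_congr rfl (fun i _ => this i), Finset.prod_const, Finset.card_univ,
      Fintype.card_fin]
  · intro i j hij
    have hij' : i < j := hij
    rw [Matrix.add_apply, Matrix.smul_apply, Matrix.smul_apply, Matrix.one_apply_ne hij'.ne,
      h.1 i j hij', smul_zero, smul_zero, add_zero]

theorem mul_jordanBlock_sub_one_apply {n : ℕ} (X : Matrix (Fin n) (Fin n) K) (i j : Fin n) :
    (X * (Cfsg.jordanBlock n K - 1)) i j =
      if h : (j : ℕ) + 1 < n then X i ⟨(j : ℕ) + 1, h⟩ else 0 := by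
  rw [Matrix.mul_apply]
  have hN : ∀ k : Fin n, (Cfsg.jordanBlock n K - 1) k j =
      if (k : ℕ) = (j : ℕ) + 1 then 1 else 0 := by
    intro k
    rw [Matrix.sub_apply, jordanBlock_apply, Matrix.one_apply]
    by_cases h1 : k = j
    · subst h1
      simp
    · have h2 : (k : ℕ) ≠ j := fun h => h1 (Fin.ext h)
      simp [h1, h2]
  split_ifs with h
  · rw [Finset.sum_eq_single ⟨(j : ℕ) + 1, h⟩]
    · rw [hN, if_pos rfl, mul_one]
    · intro k _ hk
      rw [hN, if_neg, mul_zero]
      intro hk'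
      exact hk (Fin.ext hk')
    · intro h'
      exact absurd (Finset.mem_univ _) h'
  · apply Finset.sum_eq_zero
    intro k _
    rw [hN, if_neg, mul_zero]
    intro hk
    have := k.2
    omega

theorem jordanBlock_sub_one_mul_apply {n : ℕ} (X : Matrix (Fin n) (Fin n) K) (i j : Fin n) :
    ((Cfsg.jordanBlock n K - 1) * X) i j =
      if h : 0 < (i : ℕ) then X ⟨(i : ℕ) - 1, by omega⟩ j else 0 := by
  rw [Matrix.mul_apply]
  have hN : ∀ k : Fin n, (Cfsg.jordanBlock n K - 1) i k =
      if (i : ℕ) = (k : ℕ) + 1 then 1 else 0 := by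
    intro k
    rw [Matrix.sub_apply, jordanBlock_apply, Matrix.one_apply]
    by_cases h1 : i = k
    · subst h1
      simp
    · have h2 : (i : ℕ) ≠ k := fun h => h1 (Fin.ext h)
      simp [h1, h2]
  split_ifs with h
  · rw [Finset.sum_eq_single ⟨(i : ℕ) - 1, by omega⟩]
    · rw [hN, if_pos, one_mul]
      simp only
      omega
    · intro k _ hk
      rw [hN, if_neg, zero_mul]
      intro hk'
      apply hk
      apply Fin.ext
      simp only
      omega
    · intro h'
      exact absurd (Finset.mem_univ _) h'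
  · apply Finset.sum_eq_zero
    intro k _
    rw [hN, if_neg, zero_mul]
    omega

/-- matrices commuting with a single Jordan block are lower triangular with constant diagonal -/
theorem isLTC_of_commute {n : ℕ} (hn : 1 ≤ n) (X : Matrix (Fin n) (Fin n) K)
    (h : X * Cfsg.jordanBlock n K = Cfsg.jordanBlock n K * X) :
    IsLTC X (X ⟨0, hn⟩ ⟨0, hn⟩) := by
  have hN : X * (Cfsg.jordanBlock n K - 1) = (Cfsg.jordanBlock n K - 1) * X := by
    rw [Matrix.mul_sub, Matrix.sub_mul, h, Matrix.mul_one, Matrix.one_mul]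
  have key : ∀ (i j : Fin n) (hj : (j : ℕ) + 1 < n),
      X i ⟨(j : ℕ) + 1, hj⟩ = if h : 0 < (i : ℕ) then X ⟨(i : ℕ) - 1, by omega⟩ j else 0 := by
    intro i j hj
    have := congrFun (congrFun hN i) j
    rw [mul_jordanBlock_sub_one_apply, jordanBlock_sub_one_mul_apply, dif_pos hj] at this
    exact this
  constructor
  · -- strictly upper entries vanish
    have aux : ∀ (m : ℕ) (i j : Fin n), (i : ℕ) = m → i < j → X i j = 0 := by
      intro m
      induction m with
      | zero =>
        intro i j hi hij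
        have hj0 : 0 < (j : ℕ) := by
          have : (i : ℕ) < (j : ℕ) := hij
          omega
        have hj1 : ((j : ℕ) - 1) + 1 < n := by have := j.2; omega
        have h1 := key i ⟨(j : ℕ) - 1, by omega⟩ hj1
        rw [dif_neg (by omega)] at h1
        have h2 : (⟨((j : ℕ) - 1) + 1, hj1⟩ : Fin n) = j := Fin.ext (by simp only; omega)
        simp only at h1
        rw [h2] at h1
        exact h1
      | succ m ih =>
        intro i j hi hij
        have hij' : (i : ℕ) < (j : ℕ) := hij
        have hj1 : ((j : ℕ) - 1) + 1 < n := by have := j.2; omega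
        have h1 := key i ⟨(j : ℕ) - 1, by omega⟩ hj1
        rw [dif_pos (by omega)] at h1
        have h2 : (⟨((j : ℕ) - 1) + 1, hj1⟩ : Fin n) = j := Fin.ext (by simp only; omega)
        simp only at h1
        rw [h2] at h1
        rw [h1]
        apply ih
        · simp only
          omega
        · change ((i : ℕ) - 1) < ((j : ℕ) - 1)
          omega
    intro i j hij
    exact aux i i j rfl hij
  · have aux : ∀ (m : ℕ) (i : Fin n), (i : ℕ) = m → X i i = X ⟨0, hn⟩ ⟨0, hn⟩ := by
      intro m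
      induction m with
      | zero =>
        intro i hi
        have : i = ⟨0, hn⟩ := Fin.ext hi
        rw [this]
      | succ m ih =>
        intro i hi
        have hi1 : ((i : ℕ) - 1) + 1 < n := by have := i.2; omega
        have h1 := key i ⟨(i : ℕ) - 1, by omega⟩ hi1
        rw [dif_pos (by omega)] at h1
        have h2 : (⟨((i : ℕ) - 1) + 1, hi1⟩ : Fin n) = i := Fin.ext (by simp only; omega)
        simp only at h1
        rw [h2] at h1
        rw [h1]
        apply ih
        simp only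
        omega
    intro i
    exact aux i i rfl

/-- the determinant on the commutant of a regular unipotent matrix -/
theorem exists_det_combo {n : ℕ} (hn : 1 ≤ n) {u c : Matrix (Fin n) (Fin n) K}
    (hu : HasType u {n}) (hc : c * u = u * c) :
    ∃ a : K, ∀ α β : K, (α • (1 : Matrix (Fin n) (Fin n) K) + β • c).det = (α + β * a) ^ n := by
  obtain ⟨P, hP⟩ := (hasType_jordanBlock (K := K) hn).isConj hu
  have hP' : (P : Matrix (Fin n) (Fin n) K) * Cfsg.jordanBlock n K = u * P := hP
  have hPi : ((P⁻¹ : (Matrix (Fin n) (Fin n) K)ˣ) : Matrix (Fin n) (Fin n) K) * u =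
      Cfsg.jordanBlock n K * ((P⁻¹ : (Matrix (Fin n) (Fin n) K)ˣ) : Matrix (Fin n) (Fin n) K) := by
    calc ((P⁻¹ : (Matrix (Fin n) (Fin n) K)ˣ) : Matrix (Fin n) (Fin n) K) * u
        = ((P⁻¹ : (Matrix (Fin n) (Fin n) K)ˣ) : Matrix (Fin n) (Fin n) K) * (u * P) *
          ((P⁻¹ : (Matrix (Fin n) (Fin n) K)ˣ) : Matrix (Fin n) (Fin n) K) := by
          rw [Matrix.mul_assoc, Matrix.mul_assoc, Units.mul_inv, Matrix.mul_one]
      _ = _ := by
          rw [← hP', ← Matrix.mul_assoc, Units.inv_mul, Matrix.one_mul]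
  set X := ((P⁻¹ : (Matrix (Fin n) (Fin n) K)ˣ) : Matrix (Fin n) (Fin n) K) * c * P with hX
  have hXJ : X * Cfsg.jordanBlock n K = Cfsg.jordanBlock n K * X := by
    rw [hX]
    calc ((P⁻¹ : (Matrix (Fin n) (Fin n) K)ˣ) : Matrix (Fin n) (Fin n) K) * c * P *
          Cfsg.jordanBlock n K
        = ((P⁻¹ : (Matrix (Fin n) (Fin n) K)ˣ) : Matrix (Fin n) (Fin n) K) * c *
          ((P : Matrix (Fin n) (Fin n) K) * Cfsg.jordanBlock n K) := by rw [Matrix.mul_assoc]
      _ = ((P⁻¹ : (Matrix (Fin n) (Fin n) K)ˣ) : Matrix (Fin n) (Fin n) K) * (c * u) * P := by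
          rw [hP']; simp only [Matrix.mul_assoc]
      _ = (((P⁻¹ : (Matrix (Fin n) (Fin n) K)ˣ) : Matrix (Fin n) (Fin n) K) * u) * c * P := by
          rw [hc]; simp only [Matrix.mul_assoc]
      _ = _ := by rw [hPi]; simp only [Matrix.mul_assoc]
  have hLTC := isLTC_of_commute hn X hXJ
  refine ⟨X ⟨0, hn⟩ ⟨0, hn⟩, fun α β => ?_⟩
  rw [← hLTC.det_combo α β, ← Matrix.det_units_conj' P (α • (1 : Matrix (Fin n) (Fin n) K) + β • c)]
  congr 1
  rw [hX, Matrix.mul_add, Matrix.add_mul, Matrix.mul_smul, Matrix.mul_one, Matrix.smul_mul,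
    Units.inv_mul, Matrix.mul_smul, Matrix.smul_mul]

/-- regular unipotent matrices have determinant one -/
theorem HasType.det_singleton {n : ℕ} (hn : 1 ≤ n) {u : Matrix (Fin n) (Fin n) K}
    (hu : HasType u {n}) : u.det = 1 := by
  obtain ⟨a, ha⟩ := exists_det_combo hn hu (rfl : u * u = u * u)
  have h1 := ha (-1) 1
  have h3 : (-1 : K) • (1 : Matrix (Fin n) (Fin n) K) + (1 : K) • u = u - 1 := by
    rw [one_smul, neg_one_smul]; abel
  rw [h3] at h1
  have h4 : (u - 1).det ^ n = 0 := by
    have : Nonempty (Fin n) := ⟨⟨0, hn⟩⟩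
    rw [← Matrix.det_pow, hu.rank_singleton.1, Matrix.det_zero]
  have h5 : (u - 1).det = 0 := (_root_.pow_eq_zero_iff (by omega)).mp h4
  rw [h5] at h1
  have h6 : -1 + 1 * a = 0 := (_root_.pow_eq_zero_iff (by omega)).mp h1.symm
  have h7 : a = 1 := by linear_combination h6
  have h8 := ha 0 1
  rw [zero_smul, zero_add, one_smul, h7] at h8
  rw [h8]
  simp

end Cfsg.Agent.Lib.H11.Jordan
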