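import Mathlib
import Cfsg.Agent.Lib.H11.Jordan6
import Cfsg.Agent.Lib.H11.Jordan8
import Cfsg.Agent.Lib.H11.AltForm

set_option autoImplicit false

/-!
# Unipotent Jordan types of isometries of alternating forms

* `even_rank_of_isometry_alt`: for an isometry `A` of a non-degenerate alternating Gram matrix,
  `rank ((A - 1) ^ (2 i))` is even;
* `SpReal K μ`: the Jordan type `μ` is realised by an isometry of some non-degenerate alternating
  Gram matrix; closure under sums, the pieces `{a, a}` and `{2 j}`.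
-/

namespace Cfsg.Agent.Lib.H11.Jordan

open Module Matrix

variable {K : Type*} [Field K]

section necessity

/-- for an isometry of an alternating form the even powers of `A - 1` have even rank -/
theorem even_rank_of_isometry_alt {ι : Type*} [Fintype ι] [DecidableEq ι] (X A Ai : Matrix ι ι K)
    (halt : ∀ v : ι → K, v ⬝ᵥ X *ᵥ v = 0) (hX : IsUnit X.det) (hA1 : A * Ai = 1)
    (hiso : Aᵀ * X * A = X) (i : ℕ) : Even (((A - 1) ^ (2 * i)).rank) := by
  have hA2 : Ai * A = 1 := mul_eq_one_comm.mp hA1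
  -- `Aᵀ X = X Ai`
  have h1 : Aᵀ * X = X * Ai := by
    calc Aᵀ * X = Aᵀ * X * (A * Ai) := by rw [hA1, Matrix.mul_one]
      _ = (Aᵀ * X * A) * Ai := by simp only [Matrix.mul_assoc]
      _ = X * Ai := by rw [hiso]
  -- `(A - 1)ᵀ X = X (C (A - 1))` with `C = -Ai`
  have h2 : (A - 1)ᵀ * X = X * ((-Ai) * (A - 1)) := by
    rw [Matrix.transpose_sub, Matrix.transpose_one, Matrix.sub_mul, h1, Matrix.one_mul,
      Matrix.neg_mul, Matrix.mul_sub, hA2, Matrix.mul_one, Matrix.mul_neg, Matrix.mul_sub,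
      Matrix.mul_one]
    abel
  have hcomm : Commute (-Ai) (A - 1) := by
    change (-Ai) * (A - 1) = (A - 1) * (-Ai)
    rw [Matrix.neg_mul, Matrix.mul_neg, Matrix.mul_sub, Matrix.sub_mul, hA1, hA2, Matrix.mul_one,
      Matrix.one_mul]
  have h3 : ∀ k : ℕ, ((A - 1)ᵀ) ^ k * X = X * ((-Ai) ^ k * (A - 1) ^ k) := by
    intro k
    induction k with
    | zero => simp
    | succ k ih =>
      rw [pow_succ', Matrix.mul_assoc, ih, ← Matrix.mul_assoc, h2, Matrix.mul_assoc, ← hcomm.mul_pow,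
        ← hcomm.mul_pow, ← pow_succ']
  -- the alternating matrix
  have h4 : ((A - 1) ^ i)ᵀ * X * (A - 1) ^ i = X * ((-Ai) ^ i * (A - 1) ^ (2 * i)) := by
    rw [Matrix.transpose_pow, h3, Matrix.mul_assoc, Matrix.mul_assoc, ← pow_add, two_mul]
  have h5 : ∀ v : ι → K, v ⬝ᵥ (((A - 1) ^ i)ᵀ * X * (A - 1) ^ i) *ᵥ v = 0 := by
    intro v
    rw [← Matrix.mulVec_mulVec, ← Matrix.mulVec_mulVec, Matrix.dotProduct_mulVec,
      Matrix.vecMul_transpose]
    exact halt _
  have h6 := Cfsg.Agent.Lib.H11.even_rank_of_alternating _ h5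
  rw [h4] at h6
  have hu : IsUnit ((-Ai) ^ i).det := by
    have : IsUnit (-Ai) := ⟨⟨-Ai, -A, by rw [neg_mul_neg, hA2], by rw [neg_mul_neg, hA1]⟩, rfl⟩
    exact (Matrix.isUnit_iff_isUnit_det _).mp (this.pow i)
  rw [Matrix.rank_mul_eq_right_of_isUnit_det _ _ hX,
    Matrix.rank_mul_eq_right_of_isUnit_det _ _ hu] at h6
  exact h6

/-- odd parts have even multiplicity when the even powers have even rank -/
theorem count_even_of_even_ranks {ι : Type*} [Fintype ι] [DecidableEq ι] {u : Matrix ι ι K}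
    {μ : Multiset ℕ} (h : RankType u μ) (hev : ∀ i, Even (((u - 1) ^ (2 * i)).rank)) (j : ℕ)
    (hj : Odd j) : Even (Multiset.count j μ) := by
  obtain ⟨k, rfl⟩ := hj
  have h1 := h.count_add (2 * k + 1) (by omega)
  have h2 := hev k
  have h3 := hev (k + 1)
  have e1 : 2 * k + 1 - 1 = 2 * k := by omega
  have e2 : 2 * k + 1 + 1 = 2 * (k + 1) := by ring
  rw [e1, e2] at h1
  obtain ⟨a, ha⟩ := h2
  obtain ⟨b, hb⟩ := h3
  exact ⟨a + b - ((u - 1) ^ (2 * k + 1)).rank, by omega⟩

end necessity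

section realisation

/-- the type `μ` is realised by an isometry of a non-degenerate alternating Gram matrix -/
def SpReal (K : Type*) [Field K] (μ : Multiset ℕ) : Prop :=
  ∃ (ι : Type) (_ : Fintype ι) (_ : DecidableEq ι) (X A : Matrix ι ι K),
    (∀ v : ι → K, v ⬝ᵥ X *ᵥ v = 0) ∧ IsUnit X.det ∧ Aᵀ * X * A = X ∧ RankType A μ

theorem SpReal.zero : SpReal K 0 := by
  refine ⟨Empty, inferInstance, inferInstance, 0, 1, ?_, ?_, ?_, ?_⟩
  · intro v
    simp
  · rw [Matrix.det_isEmpty]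
    exact isUnit_one
  · simp
  · intro i
    have : ((1 - 1 : Matrix Empty Empty K) ^ i) = 0 := Subsingleton.elim _ _
    rw [this, Matrix.rank_zero]
    simp

theorem SpReal.add {μ μ' : Multiset ℕ} (h : SpReal K μ) (h' : SpReal K μ') :
    SpReal K (μ + μ') := by
  obtain ⟨ι, _, _, X, A, halt, hX, hiso, hT⟩ := h
  obtain ⟨ι', _, _, X', A', halt', hX', hiso', hT'⟩ := h'
  refine ⟨ι ⊕ ι', inferInstance, inferInstance, Matrix.fromBlocks X 0 0 X',
    Matrix.fromBlocks A 0 0 A', ?_, ?_, ?_, hT.fromBlocks hT'⟩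
  · intro v
    rw [Matrix.fromBlocks_mulVec]
    simp only [dotProduct, Fintype.sum_sum_type, Sum.elim_inl, Sum.elim_inr, Matrix.zero_mulVec,
      add_zero, zero_add]
    have e1 := halt (v ∘ Sum.inl)
    have e2 := halt' (v ∘ Sum.inr)
    simp only [dotProduct, Function.comp_apply] at e1 e2
    rw [e1, e2, add_zero]
  · rw [Matrix.det_fromBlocks_zero₂₁]
    exact hX.mul hX'
  · rw [Matrix.fromBlocks_transpose, Matrix.fromBlocks_multiply, Matrix.fromBlocks_multiply]
    simp only [Matrix.transpose_zero, Matrix.mul_zero, Matrix.zero_mul, add_zero, zero_add, hiso,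
      hiso']

theorem J_alt {l : Type*} [Fintype l] [DecidableEq l] (v : l ⊕ l → K) :
    v ⬝ᵥ (Matrix.J l K) *ᵥ v = 0 := by
  rw [Matrix.J, Matrix.fromBlocks_mulVec]
  simp only [dotProduct, Fintype.sum_sum_type, Sum.elim_inl, Sum.elim_inr, Matrix.zero_mulVec,
    zero_add, add_zero, Matrix.neg_mulVec, Matrix.one_mulVec, Pi.neg_apply, Function.comp_apply]
  rw [← Finset.sum_add_distrib]
  apply Finset.sum_eq_zero
  intro i _
  ring

/-- block upper triangular symplectic matrices -/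
theorem iso_of_blocks {l : Type*} [Fintype l] [DecidableEq l] (P Pi S : Matrix l l K)
    (h1 : P * Pi = 1) (hS : Sᵀ = S) :
    (Matrix.fromBlocks P (P * S) 0 Piᵀ)ᵀ * Matrix.J l K * Matrix.fromBlocks P (P * S) 0 Piᵀ =
      Matrix.J l K := by
  have h2 : Pi * P = 1 := mul_eq_one_comm.mp h1
  have h3 : Pᵀ * Piᵀ = 1 := by rw [← Matrix.transpose_mul, h2, Matrix.transpose_one]
  rw [Matrix.J, Matrix.fromBlocks_transpose, Matrix.fromBlocks_multiply,
    Matrix.fromBlocks_multiply]
  congr 1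
  · simp
  · simp [h3]
  · simp [h2]
  · simp only [Matrix.transpose_mul, Matrix.transpose_transpose, Matrix.mul_zero, Matrix.mul_one,
      Matrix.mul_neg, zero_add, add_zero, Matrix.neg_mul, Matrix.mul_assoc, h3, hS]
    rw [← Matrix.mul_assoc Pi, h2, Matrix.one_mul]
    simp

/-- the hyperbolic pair of Jordan blocks -/
theorem SpReal.pair {a : ℕ} (ha : 1 ≤ a) : SpReal K ({a} + {a}) := by
  have hP := hasType_jordanBlock (K := K) ha
  have hu : IsUnit (Cfsg.jordanBlock a K) := by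
    have := hP.isNilpotent.isUnit_one_add
    rwa [add_sub_cancel] at this
  obtain ⟨P, hPe⟩ := hu
  have h1 : (P : Matrix (Fin a) (Fin a) K) *
      ((P⁻¹ : (Matrix (Fin a) (Fin a) K)ˣ) : Matrix (Fin a) (Fin a) K) = 1 := P.mul_inv
  rw [← hPe] at hP
  have hQ := hP.inv_transpose h1
  refine ⟨Fin a ⊕ Fin a, inferInstance, inferInstance, Matrix.J (Fin a) K,
    Matrix.fromBlocks (P : Matrix (Fin a) (Fin a) K) 0 0
      (((P⁻¹ : (Matrix (Fin a) (Fin a) K)ˣ) : Matrix (Fin a) (Fin a) K))ᵀ, J_alt,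
    Matrix.isUnit_det_J _ _, ?_, hP.rankType.fromBlocks hQ.rankType⟩
  have := iso_of_blocks (P : Matrix (Fin a) (Fin a) K)
    ((P⁻¹ : (Matrix (Fin a) (Fin a) K)ˣ) : Matrix (Fin a) (Fin a) K) 0 h1 (by simp)
  rw [Matrix.mul_zero] at this
  exact this

theorem fromBlocks_triang_pow {ι ι' : Type*} [Fintype ι] [DecidableEq ι] [Fintype ι']
    [DecidableEq ι'] (a : Matrix ι ι K) (b : Matrix ι ι' K) (c : Matrix ι' ι' K) (k : ℕ) :
    ∃ b' : Matrix ι ι' K, (Matrix.fromBlocks a b 0 c) ^ k = Matrix.fromBlocks (a ^ k) b' 0 (c ^ k) := by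
  induction k with
  | zero => exact ⟨0, by rw [pow_zero, pow_zero, pow_zero, Matrix.fromBlocks_one]⟩
  | succ k ih =>
    obtain ⟨b', hb'⟩ := ih
    refine ⟨a ^ k * b + b' * c, ?_⟩
    rw [pow_succ, hb', Matrix.fromBlocks_multiply, pow_succ, pow_succ]
    simp

/-- a nilpotent-unipotent matrix with large rank of `u - 1` is regular -/
theorem rankType_singleton_of_rank_ge {ι : Type*} [Fintype ι] [DecidableEq ι] (u : Matrix ι ι K)
    (hn : 1 ≤ Fintype.card ι) (h1 : (u - 1) ^ (Fintype.card ι) = 0)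
    (h2 : Fintype.card ι - 1 ≤ (u - 1).rank) : RankType u {Fintype.card ι} := by
  let e : ι ≃ Fin (Fintype.card ι) := Fintype.equivFin ι
  apply RankType.of_reindex e
  apply HasType.rankType
  have h1' : (Matrix.reindex e e u - 1) ^ (Fintype.card ι) = 0 := by
    rw [reindex_sub_one_pow', h1]
    simp
  have h2' : (Matrix.reindex e e u - 1).rank = (u - 1).rank := by
    have := reindex_sub_one_pow' e u 1
    rw [pow_one, pow_one] at this
    rw [this, Matrix.rank_reindex]
  obtain ⟨μ, hμ⟩ := exists_hasType (Matrix.reindex e e u) ⟨_, h1'⟩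
  have h3 := hμ.rank 1
  rw [pow_one, h2'] at h3
  have h4 := sum_map_sub_one μ hμ.pos
  have h5 := hμ.sum
  have h6 : Multiset.card μ = 1 := by
    have h7 : Multiset.card μ ≠ 0 := by
      intro h0
      rw [Multiset.card_eq_zero] at h0
      rw [h0] at h5
      simp at h5
      omega
    omega
  obtain ⟨a, ha⟩ := Multiset.card_eq_one.mp h6
  rw [ha, Multiset.sum_singleton] at h5
  rw [ha, h5] at hμ
  exact hμ

theorem jordanBlock_sub_one_mulVec_apply {n : ℕ} (x : Fin n → K) (i : Fin n) :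
    ((Cfsg.jordanBlock n K - 1) *ᵥ x) i =
      if h : 0 < (i : ℕ) then x ⟨(i : ℕ) - 1, by omega⟩ else 0 := by
  have := jordanBlock_sub_one_mul_apply (Matrix.of fun k (_ : Fin n) => x k) i i
  exact this

theorem jordanBlock_sub_one_transpose_mulVec_apply {n : ℕ} (y : Fin n → K) (i : Fin n) :
    ((Cfsg.jordanBlock n K - 1)ᵀ *ᵥ y) i =
      if h : (i : ℕ) + 1 < n then y ⟨(i : ℕ) + 1, h⟩ else 0 := by
  rw [Matrix.mulVec_transpose]
  have := mul_jordanBlock_sub_one_apply (Matrix.of fun (_ : Fin n) k => y k) i i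
  exact this

end realisation

end Cfsg.Agent.Lib.H11.Jordan
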