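import Mathlib
import Cfsg.Agent.Lib.H11.SpType1
import Cfsg.Agent.Lib.H13.SympBasis

set_option autoImplicit false

/-!
# A regular unipotent symplectic matrix, and the parity induction
-/

namespace Cfsg.Agent.Lib.H11.Jordan

open Module Matrix

variable {K : Type*} [Field K]

/-- the kernel of `A - 1` for `A = [[P, P], [0, P⁻ᵀ]]` with `P` a Jordan block is a line -/
theorem ker_regular_symp {j : ℕ} (hj : 1 ≤ j) (Q : Matrix (Fin j) (Fin j) K)
    (hQ : (Cfsg.jordanBlock j K)ᵀ * Q = 1) (v : Fin j ⊕ Fin j → K)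
    (hv : (Matrix.fromBlocks (Cfsg.jordanBlock j K) (Cfsg.jordanBlock j K) 0 Q - 1) *ᵥ v = 0) :
    v = v (Sum.inl ⟨j - 1, by omega⟩) • Pi.single (Sum.inl ⟨j - 1, by omega⟩) 1 := by
  have h1 : Matrix.fromBlocks (Cfsg.jordanBlock j K) (Cfsg.jordanBlock j K) 0 Q - 1 =
      Matrix.fromBlocks (Cfsg.jordanBlock j K - 1) (Cfsg.jordanBlock j K) 0 (Q - 1) := by
    ext (a | a) (b | b) <;> simp [Matrix.one_apply]
  rw [h1, Matrix.fromBlocks_mulVec] at hv
  have hv1 : (Cfsg.jordanBlock j K - 1) *ᵥ (v ∘ Sum.inl) + Cfsg.jordanBlock j K *ᵥ (v ∘ Sum.inr) = 0 := by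
    funext a
    have := congrFun hv (Sum.inl a)
    simpa using this
  have hv2 : (Q - 1) *ᵥ (v ∘ Sum.inr) = 0 := by
    funext a
    have := congrFun hv (Sum.inr a)
    simpa using this
  -- `y` is fixed by `Pᵀ`
  have hy1 : (Cfsg.jordanBlock j K - 1)ᵀ *ᵥ (v ∘ Sum.inr) = 0 := by
    have e1 : Q *ᵥ (v ∘ Sum.inr) = v ∘ Sum.inr := by
      rw [Matrix.sub_mulVec, Matrix.one_mulVec, sub_eq_zero] at hv2
      exact hv2
    have e2 : (Cfsg.jordanBlock j K)ᵀ *ᵥ (v ∘ Sum.inr) = v ∘ Sum.inr := by
      calc (Cfsg.jordanBlock j K)ᵀ *ᵥ (v ∘ Sum.inr)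
          = (Cfsg.jordanBlock j K)ᵀ *ᵥ (Q *ᵥ (v ∘ Sum.inr)) := by rw [e1]
        _ = v ∘ Sum.inr := by rw [Matrix.mulVec_mulVec, hQ, Matrix.one_mulVec]
    rw [Matrix.transpose_sub, Matrix.transpose_one, Matrix.sub_mulVec, Matrix.one_mulVec, e2,
      sub_self]
  have hy2 : ∀ k : Fin j, (k : ℕ) ≠ 0 → v (Sum.inr k) = 0 := by
    intro k hk
    have hk1 : ((k : ℕ) - 1) + 1 < j := by have := k.2; omega
    have := congrFun hy1 ⟨(k : ℕ) - 1, by omega⟩
    rw [jordanBlock_sub_one_transpose_mulVec_apply, dif_pos hk1] at this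
    have e : (⟨((k : ℕ) - 1) + 1, hk1⟩ : Fin j) = k := Fin.ext (by simp only; omega)
    simp only at this
    rw [e] at this
    exact this
  -- coordinate `0`
  have hy0 : v (Sum.inr ⟨0, hj⟩) = 0 := by
    have := congrFun hv1 ⟨0, hj⟩
    rw [Pi.add_apply, jordanBlock_sub_one_mulVec_apply, dif_neg (by simp), zero_add,
      Matrix.mulVec, dotProduct, Finset.sum_eq_single ⟨0, hj⟩] at this
    · rw [jordanBlock_apply, if_pos (Or.inl rfl), one_mul] at this
      exact this
    · intro k _ hk
      have hk' : (k : ℕ) ≠ 0 := fun h => hk (Fin.ext h)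
      change _ * v (Sum.inr k) = 0
      rw [hy2 k hk', mul_zero]
    · intro h
      exact absurd (Finset.mem_univ _) h
  have hy : ∀ k : Fin j, v (Sum.inr k) = 0 := by
    intro k
    by_cases hk : (k : ℕ) = 0
    · have : k = ⟨0, hj⟩ := Fin.ext hk
      rw [this]
      exact hy0
    · exact hy2 k hk
  -- now `x`
  have hx1 : (Cfsg.jordanBlock j K - 1) *ᵥ (v ∘ Sum.inl) = 0 := by
    have e : v ∘ Sum.inr = 0 := funext hy
    rw [e, Matrix.mulVec_zero, add_zero] at hv1
    exact hv1
  have hx : ∀ k : Fin j, (k : ℕ) + 1 < j → v (Sum.inl k) = 0 := by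
    intro k hk
    have := congrFun hx1 ⟨(k : ℕ) + 1, hk⟩
    rw [jordanBlock_sub_one_mulVec_apply, dif_pos (by simp)] at this
    have e : (⟨(⟨(k : ℕ) + 1, hk⟩ : Fin j).1 - 1, by have := k.2; omega⟩ : Fin j) = k :=
      Fin.ext (by simp)
    rw [e] at this
    exact this
  funext z
  rcases z with k | k
  · by_cases hk : (k : ℕ) + 1 < j
    · rw [hx k hk, Pi.smul_apply, Pi.single_apply, if_neg, smul_zero]
      intro h
      have := congrArg (fun t : Fin j ⊕ Fin j => Sum.elim (fun a : Fin j => (a : ℕ)) (fun _ => 0) t) h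
      simp at this
      omega
    · have e : k = ⟨j - 1, by omega⟩ := Fin.ext (by have := k.2; simp only; omega)
      rw [e, Pi.smul_apply, Pi.single_apply, if_pos rfl, smul_eq_mul, mul_one]
  · rw [hy k, Pi.smul_apply, Pi.single_apply, if_neg (by simp), smul_zero]

/-- a regular unipotent symplectic matrix -/
theorem SpReal.single_even {j : ℕ} (hj : 1 ≤ j) : SpReal K {2 * j} := by
  have hP := hasType_jordanBlock (K := K) hj
  have hu : IsUnit (Cfsg.jordanBlock j K) := by
    have := hP.isNilpotent.isUnit_one_add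
    rwa [add_sub_cancel] at this
  obtain ⟨P, hPe⟩ := hu
  have h1 : Cfsg.jordanBlock j K *
      ((P⁻¹ : (Matrix (Fin j) (Fin j) K)ˣ) : Matrix (Fin j) (Fin j) K) = 1 := by
    rw [← hPe]; exact P.mul_inv
  have h2 : ((P⁻¹ : (Matrix (Fin j) (Fin j) K)ˣ) : Matrix (Fin j) (Fin j) K) *
      Cfsg.jordanBlock j K = 1 := by
    rw [← hPe]; exact P.inv_mul
  have hQ := hP.inv_transpose h1
  have hPQ : (Cfsg.jordanBlock j K)ᵀ *
      (((P⁻¹ : (Matrix (Fin j) (Fin j) K)ˣ) : Matrix (Fin j) (Fin j) K))ᵀ = 1 := by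
    rw [← Matrix.transpose_mul, h2, Matrix.transpose_one]
  set Q := (((P⁻¹ : (Matrix (Fin j) (Fin j) K)ˣ) : Matrix (Fin j) (Fin j) K))ᵀ with hQdef
  have hiso := iso_of_blocks (Cfsg.jordanBlock j K)
    ((P⁻¹ : (Matrix (Fin j) (Fin j) K)ˣ) : Matrix (Fin j) (Fin j) K) 1 h1 Matrix.transpose_one
  rw [Matrix.mul_one] at hiso
  refine ⟨Fin j ⊕ Fin j, inferInstance, inferInstance, Matrix.J (Fin j) K,
    Matrix.fromBlocks (Cfsg.jordanBlock j K) (Cfsg.jordanBlock j K) 0 Q, J_alt,
    Matrix.isUnit_det_J _ _, hiso, ?_⟩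
  have hcard : Fintype.card (Fin j ⊕ Fin j) = 2 * j := by
    rw [Fintype.card_sum, Fintype.card_fin]; ring
  rw [← hcard]
  have hsub : Matrix.fromBlocks (Cfsg.jordanBlock j K) (Cfsg.jordanBlock j K) 0 Q - 1 =
      Matrix.fromBlocks (Cfsg.jordanBlock j K - 1) (Cfsg.jordanBlock j K) 0 (Q - 1) := by
    ext (a | a) (b | b) <;> simp [Matrix.one_apply]
  apply rankType_singleton_of_rank_ge
  · rw [hcard]; omega
  · obtain ⟨b', hb'⟩ := fromBlocks_triang_pow (Cfsg.jordanBlock j K - 1) (Cfsg.jordanBlock j K)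
      (Q - 1) j
    rw [hcard, two_mul, pow_add, hsub, hb', hP.rank_singleton.1, hQ.rank_singleton.1,
      Matrix.fromBlocks_multiply]
    simp
  · -- the kernel is at most a line
    set M := Matrix.fromBlocks (Cfsg.jordanBlock j K) (Cfsg.jordanBlock j K) 0 Q - 1 with hM
    have hker : LinearMap.ker M.mulVecLin ≤
        Submodule.span K {(Pi.single (Sum.inl ⟨j - 1, by omega⟩) 1 : Fin j ⊕ Fin j → K)} := by
      intro v hv
      rw [LinearMap.mem_ker, Matrix.mulVecLin_apply] at hv
      rw [ker_regular_symp hj Q hPQ v hv]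
      exact Submodule.smul_mem _ _ (Submodule.subset_span rfl)
    have hw : (Pi.single (Sum.inl ⟨j - 1, by omega⟩) 1 : Fin j ⊕ Fin j → K) ≠ 0 := by
      intro h
      have := congrFun h (Sum.inl ⟨j - 1, by omega⟩)
      simp at this
    have h3 := Submodule.finrank_mono hker
    rw [finrank_span_singleton hw] at h3
    have h4 := LinearMap.finrank_range_add_finrank_ker M.mulVecLin
    rw [Module.finrank_fintype_fun_eq_card] at h4
    unfold Matrix.rank
    omega

/-- the parity induction: a property of multisets closed under sums which holds for all pairs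
`{a, a}` and for the singletons `{a}` with `a ∈ S` holds for every multiset in which the parts
outside `S` have even multiplicity -/
theorem realizable_of_parity (P : Multiset ℕ → Prop) (S : Set ℕ)
    (h0 : P 0) (hadd : ∀ μ μ', P μ → P μ' → P (μ + μ'))
    (hpair : ∀ a, 1 ≤ a → P ({a} + {a})) (hsingle : ∀ a, 1 ≤ a → a ∈ S → P {a})
    (μ : Multiset ℕ) (hpos : ∀ a ∈ μ, 0 < a)
    (hpar : ∀ a, a ∉ S → Even (Multiset.count a μ)) : P μ := by
  classical
  induction' hn : Multiset.card μ using Nat.strong_induction_on with n ih generalizing μ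
  rcases Multiset.empty_or_exists_mem μ with rfl | ⟨a, ha⟩
  · exact h0
  · by_cases haS : a ∈ S
    · have e : μ = {a} + μ.erase a := by
        rw [Multiset.singleton_add, Multiset.cons_erase ha]
      rw [e]
      apply hadd _ _ (hsingle a (hpos a ha) haS)
      apply ih (Multiset.card (μ.erase a)) (by rw [← hn]; exact Multiset.card_erase_lt_of_mem ha)
        (μ.erase a) _ _ rfl
      · intro b hb
        exact hpos b (Multiset.mem_of_mem_erase hb)
      · intro b hb
        by_cases hba : b = a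
        · subst hba
          exact absurd haS hb
        · rw [Multiset.count_erase_of_ne hba]
          exact hpar b hb
    · have hc := hpar a haS
      have hc1 : 1 ≤ Multiset.count a μ := Multiset.one_le_count_iff_mem.mpr ha
      have hc2 : 2 ≤ Multiset.count a μ := by
        obtain ⟨k, hk⟩ := hc
        omega
      have ha' : a ∈ μ.erase a := by
        rw [← Multiset.count_pos, Multiset.count_erase_self]
        omega
      have e : μ = ({a} + {a}) + (μ.erase a).erase a := by
        rw [add_assoc, Multiset.singleton_add, Multiset.singleton_add, Multiset.cons_erase ha',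
          Multiset.cons_erase ha]
      rw [e]
      apply hadd _ _ (hpair a (hpos a ha))
      have hlt : Multiset.card ((μ.erase a).erase a) < n := by
        have h1 := Multiset.card_erase_lt_of_mem ha'
        have h2 := Multiset.card_erase_lt_of_mem ha
        omega
      apply ih _ hlt ((μ.erase a).erase a) _ _ rfl
      · intro b hb
        exact hpos b (Multiset.mem_of_mem_erase (Multiset.mem_of_mem_erase hb))
      · intro b hb
        by_cases hba : b = a
        · subst hba
          rw [Multiset.count_erase_self, Multiset.count_erase_self]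
          obtain ⟨k, hk⟩ := hc
          exact ⟨k - 1, by omega⟩
        · rw [Multiset.count_erase_of_ne hba, Multiset.count_erase_of_ne hba]
          exact hpar b hb

/-- every type whose odd parts have even multiplicity is realised by an isometry of an
alternating form -/
theorem spReal_of_parity (μ : Multiset ℕ) (hpos : ∀ a ∈ μ, 0 < a)
    (hpar : ∀ a, Odd a → Even (Multiset.count a μ)) : SpReal K μ := by
  apply realizable_of_parity (SpReal K) {a | Even a} SpReal.zero (fun _ _ => SpReal.add)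
    (fun a ha => SpReal.pair ha) _ μ hpos
  · intro a ha
    apply hpar
    change ¬ Even a at ha
    exact Nat.not_even_iff_odd.mp ha
  · intro a ha hev
    obtain ⟨j, rfl⟩ := hev
    have : j + j = 2 * j := by ring
    rw [this]
    exact SpReal.single_even (by omega)

theorem toLin'_sub_one_pow {ι : Type*} [Fintype ι] [DecidableEq ι] (A : Matrix ι ι K) (i : ℕ) :
    (Matrix.toLin' A - 1) ^ i = Matrix.toLin' ((A - 1) ^ i) := by
  induction i with
  | zero => rw [pow_zero, pow_zero, Matrix.toLin'_one]; rfl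
  | succ i ih =>
    rw [pow_succ, pow_succ, Matrix.toLin'_mul, ih, map_sub, Matrix.toLin'_one]
    rfl

theorem rank_toMatrix_eq {V : Type*} [AddCommGroup V] [Module K V] {ι : Type*} [Fintype ι]
    [DecidableEq ι] (b : Basis ι K V) (f : V →ₗ[K] V) :
    (LinearMap.toMatrix b b f).rank = finrank K (LinearMap.range f) := by
  rw [Matrix.rank_eq_finrank_range_toLin _ b b, Matrix.toLin_toMatrix]

/-- transport to the standard symplectic group -/
theorem SpReal.exists_symplectic {μ : Multiset ℕ} (h : SpReal K μ) {m : ℕ} (hm : μ.sum = 2 * m) :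
    ∃ A : Matrix (Fin m ⊕ Fin m) (Fin m ⊕ Fin m) K,
      A ∈ Matrix.symplecticGroup (Fin m) K ∧ RankType A μ := by
  classical
  obtain ⟨ι, _, _, X, A, halt, hX, hiso, hT⟩ := h
  have hcard : Fintype.card ι = 2 * m := by
    have := hT 0
    rw [pow_zero, Matrix.rank_one] at this
    rw [this, ← hm]
    simp
  set B : LinearMap.BilinForm K (ι → K) := Matrix.toBilin' X with hB
  have hBapp : ∀ u v, B u v = u ⬝ᵥ X *ᵥ v := fun u v => Matrix.toBilin'_apply' X u v
  have halt' : ∀ v, B v v = 0 := fun v => by rw [hBapp]; exact halt v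
  have hnd : ∀ v, (∀ w, B v w = 0) → v = 0 := by
    intro v hv
    have h1 : Matrix.vecMul v X = 0 := by
      funext k
      have := hv (Pi.single k 1)
      rw [hBapp, Matrix.dotProduct_mulVec] at this
      simpa using this
    have h2 := congrArg (fun w => Matrix.vecMul w X⁻¹) h1
    simp only [Matrix.vecMul_vecMul, Matrix.zero_vecMul] at h2
    rw [Matrix.mul_nonsing_inv X hX, Matrix.vecMul_one] at h2
    exact h2
  have hV : finrank K (ι → K) = 2 * m := by
    rw [Module.finrank_fintype_fun_eq_card, hcard]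
  obtain ⟨b₀, hb₀⟩ := Cfsg.Agent.Lib.H13.exists_symp_basis B halt' hnd hV
  set b := b₀.reindex (Equiv.sumComm (Fin m) (Fin m)) with hb
  have hBs : ∀ v w, B v w = Cfsg.sympForm m K (b.equivFun v) (b.equivFun w) :=
    Cfsg.Agent.Lib.H13.sympForm_of_isSymp B halt' b₀ hb₀
  set g : (ι → K) →ₗ[K] (ι → K) := Matrix.toLin' A with hg
  have hgiso : ∀ v w, B (g v) (g w) = B v w := by
    intro v w
    rw [hBapp, hBapp, hg, Matrix.toLin'_apply, Matrix.toLin'_apply, Matrix.mulVec_mulVec,
      Matrix.dotProduct_mulVec, ← Matrix.vecMul_transpose, Matrix.vecMul_vecMul,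
      ← Matrix.mul_assoc, hiso, ← Matrix.dotProduct_mulVec]
  refine ⟨LinearMap.toMatrix b b g, ?_, ?_⟩
  · rw [Cfsg.Agent.Lib.H13.mem_symplecticGroup_iff_sympForm']
    intro x y
    obtain ⟨v, rfl⟩ := b.equivFun.surjective x
    obtain ⟨w, rfl⟩ := b.equivFun.surjective y
    have e1 : ∀ u, (LinearMap.toMatrix b b g).mulVec (b.equivFun u) = b.equivFun (g u) := by
      intro u
      exact LinearMap.toMatrix_mulVec_repr b b g u
    rw [e1, e1, ← hBs, ← hBs, hgiso]
  · intro i
    have e1 : (LinearMap.toMatrix b b g - 1) ^ i = LinearMap.toMatrix b b ((g - 1) ^ i) := by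
      have := map_pow (LinearMap.toMatrixAlgEquiv b) (g - 1) i
      rw [map_sub, map_one] at this
      exact this.symm
    rw [e1, rank_toMatrix_eq, hg, toLin'_sub_one_pow, ← hT i]
    rfl

end Cfsg.Agent.Lib.H11.Jordan
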