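import Mathlib
import Cfsg.Agent.Lib.H11.Jordan8
import Cfsg.Agent.Lib.H11.SpType2

set_option autoImplicit false

/-!
# Jordan types and invariant decompositions

* `HasType.exists_le_of_invariant_compl`: if a unipotent matrix of type `μ` leaves two complementary
  subspaces invariant, the type of its restriction to the first is a sub-multiset of `μ`.
* `sub_one_pow_pred_eq_geom`: in characteristic `p`, `(u - 1)^(p-1) = 1 + u + ... + u^(p-1)`.
* `le_rank_geom_of_free_cycle`: if `f` permutes the members of an independent family of subspaces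
  and the orbit of `j` is free of length `p`, then `∑ i < p, f^i` is injective on the `j`-th
  member.
-/

namespace Cfsg.Agent.Lib.H11.Jordan

open Module Matrix

variable {K : Type*} [Field K]

theorem toMatrix_map_basis {V V' : Type*} [AddCommGroup V] [Module K V] [AddCommGroup V']
    [Module K V'] {ι : Type*} [Fintype ι] [DecidableEq ι] (b : Basis ι K V) (e : V ≃ₗ[K] V')
    (f : V' →ₗ[K] V') :
    LinearMap.toMatrix (b.map e) (b.map e) f =
      LinearMap.toMatrix b b ((e.symm : V' →ₗ[K] V) ∘ₗ f ∘ₗ (e : V →ₗ[K] V')) := by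
  ext i j
  rw [LinearMap.toMatrix_apply, LinearMap.toMatrix_apply]
  simp

theorem toMatrix_sub_one_pow {V : Type*} [AddCommGroup V] [Module K V] {ι : Type*} [Fintype ι]
    [DecidableEq ι] (b : Basis ι K V) (f : V →ₗ[K] V) (i : ℕ) :
    (LinearMap.toMatrix b b f - 1) ^ i = LinearMap.toMatrix b b ((f - 1) ^ i) := by
  have h := map_pow (LinearMap.toMatrixAlgEquiv b) (f - 1) i
  rw [map_sub, map_one] at h
  exact h.symm

/-- a unipotent matrix leaving two complementary subspaces invariant: the Jordan type of the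
restriction to the first subspace is a part of the Jordan type -/
theorem HasType.exists_le_of_invariant_compl {n : ℕ} {u : Matrix (Fin n) (Fin n) K}
    {μ : Multiset ℕ} (h : HasType u μ) (W W' : Submodule K (Fin n → K)) (hc : IsCompl W W')
    (hW : ∀ v ∈ W, Matrix.toLin' u v ∈ W) (hW' : ∀ v ∈ W', Matrix.toLin' u v ∈ W') :
    ∃ ν : Multiset ℕ, ν ≤ μ ∧ ν.sum = finrank K W := by
  classical
  obtain ⟨f, hf⟩ : ∃ f, f = Matrix.toLin' u := ⟨_, rfl⟩
  rw [← hf] at hW hW'
  let f₁ : W →ₗ[K] W := f.restrict hW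
  let f₂ : W' →ₗ[K] W' := f.restrict hW'
  let b₁ := Module.finBasis K W
  let b₂ := Module.finBasis K W'
  let e := Submodule.prodEquivOfIsCompl W W' hc
  let bV := (b₁.prod b₂).map e
  have hconj : (e.symm : (Fin n → K) →ₗ[K] (W × W')) ∘ₗ f ∘ₗ (e : (W × W') →ₗ[K] (Fin n → K)) =
      f₁.prodMap f₂ := by
    apply LinearMap.ext
    rintro ⟨x, y⟩
    rw [LinearMap.comp_apply, LinearMap.comp_apply, LinearEquiv.coe_coe, LinearEquiv.coe_coe,
      LinearEquiv.symm_apply_eq, Submodule.coe_prodEquivOfIsCompl',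
      Submodule.coe_prodEquivOfIsCompl', map_add]
    rfl
  obtain ⟨A, hA⟩ : ∃ A, A = LinearMap.toMatrix b₁ b₁ f₁ := ⟨_, rfl⟩
  obtain ⟨B, hB⟩ : ∃ B, B = LinearMap.toMatrix b₂ b₂ f₂ := ⟨_, rfl⟩
  have hM : LinearMap.toMatrix bV bV f = Matrix.fromBlocks A 0 0 B := by
    rw [toMatrix_map_basis, hconj, LinearMap.toMatrix_prodMap, hA, hB]
  -- the rank type of the block matrix
  have hRT : RankType (Matrix.fromBlocks A 0 0 B) μ := by
    intro i
    rw [← hM, toMatrix_sub_one_pow, rank_toMatrix_eq, hf, toLin'_sub_one_pow, ← h.rank i]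
    rfl
  have hnil := hRT.pow_eq_zero
  rw [fromBlocks_diag_sub_one_pow] at hnil
  have hA0 : (A - 1) ^ μ.sum = 0 := by
    ext i j
    have := congrFun (congrFun hnil (Sum.inl i)) (Sum.inl j)
    simpa using this
  have hB0 : (B - 1) ^ μ.sum = 0 := by
    ext i j
    have := congrFun (congrFun hnil (Sum.inr i)) (Sum.inr j)
    simpa using this
  obtain ⟨ν, hν⟩ := exists_hasType A ⟨_, hA0⟩
  obtain ⟨ν', hν'⟩ := exists_hasType B ⟨_, hB0⟩
  have hRT' : RankType (Matrix.fromBlocks A 0 0 B) (ν + ν') := hν.rankType.fromBlocks hν'.rankType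
  have hpos : ∀ a ∈ ν + ν', 0 < a := by
    intro a ha
    rcases Multiset.mem_add.mp ha with ha | ha
    · exact hν.pos a ha
    · exact hν'.pos a ha
  let ε := Fintype.equivFin (Fin (finrank K W) ⊕ Fin (finrank K W'))
  have h1 := (hRT.reindex ε).hasType h.pos
  have h2 := (hRT'.reindex ε).hasType hpos
  have h3 := h1.unique h2
  refine ⟨ν, ?_, hν.sum⟩
  rw [h3]
  exact Multiset.le_add_right _ _

/-- in characteristic `p`, `(X - 1)^(p-1) = 1 + X + ... + X^(p-1)` -/
theorem poly_sub_one_pow_pred (p : ℕ) [Fact p.Prime] [CharP K p] :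
    ((Polynomial.X : Polynomial K) - 1) ^ (p - 1) = ∑ i ∈ Finset.range p, Polynomial.X ^ i := by
  have hp := (Fact.out : p.Prime)
  have h1 : ((Polynomial.X : Polynomial K) - 1) * (Polynomial.X - 1) ^ (p - 1) =
      (Polynomial.X - 1) * ∑ i ∈ Finset.range p, Polynomial.X ^ i := by
    rw [mul_geom_sum, ← pow_succ', Nat.sub_add_cancel hp.one_le, sub_pow_char, one_pow]
  have hne : (Polynomial.X : Polynomial K) - 1 ≠ 0 := by
    have := Polynomial.X_sub_C_ne_zero (1 : K)
    rwa [map_one] at this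
  exact mul_left_cancel₀ hne h1

/-- in characteristic `p`, `(u - 1)^(p-1) = 1 + u + ... + u^(p-1)` for a square matrix `u` -/
theorem sub_one_pow_pred_eq_geom (p : ℕ) [Fact p.Prime] [CharP K p] {ι : Type*} [Fintype ι]
    [DecidableEq ι] (u : Matrix ι ι K) : (u - 1) ^ (p - 1) = ∑ i ∈ Finset.range p, u ^ i := by
  have h := congrArg (Polynomial.aeval u) (poly_sub_one_pow_pred (K := K) p)
  simpa using h

/-- in characteristic `p`, `(u - 1)^p = u^p - 1` for a square matrix `u` -/
theorem sub_one_pow_char (p : ℕ) [Fact p.Prime] [CharP K p] {ι : Type*} [Fintype ι]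
    [DecidableEq ι] (u : Matrix ι ι K) : (u - 1) ^ p = u ^ p - 1 := by
  have h0 : ((Polynomial.X : Polynomial K) - 1) ^ p = Polynomial.X ^ p - 1 := by
    rw [sub_pow_char, one_pow]
  have h := congrArg (Polynomial.aeval u) h0
  simpa using h

/-- a free cycle of length `p` of subspaces permuted by `f`: the norm map `∑ i < p, f^i` has rank
at least the dimension of a member -/
theorem le_finrank_range_geom_of_free_cycle {V : Type*} [AddCommGroup V] [Module K V]
    [FiniteDimensional K V] {ι : Type*} (D : ι → Submodule K V) (hD : iSupIndep D)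
    (f : V →ₗ[K] V) (σ : Equiv.Perm ι) (hσ : ∀ j, (D j).map f = D (σ j)) (p : ℕ) (j : ι)
    (hj : ∀ i, 0 < i → i < p → (σ ^ i) j ≠ j) (hp : 0 < p) :
    finrank K (D j) ≤ finrank K (LinearMap.range (∑ i ∈ Finset.range p, f ^ i)) := by
  classical
  have hpow : ∀ (i : ℕ) (k : ι), (D k).map (f ^ i) = D ((σ ^ i) k) := by
    intro i
    induction i with
    | zero =>
      intro k
      rw [pow_zero, pow_zero, Module.End.one_eq_id, Submodule.map_id]
      rfl
    | succ i ih =>
      intro k
      rw [pow_succ', Module.End.mul_eq_comp, Submodule.map_comp, ih, hσ, pow_succ',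
        Equiv.Perm.mul_apply]
  obtain ⟨g, hg⟩ : ∃ g, g = ∑ i ∈ Finset.range p, f ^ i := ⟨_, rfl⟩
  rw [← hg]
  have hinj : Function.Injective (g.domRestrict (D j)) := by
    rw [← LinearMap.ker_eq_bot, LinearMap.ker_eq_bot']
    rintro ⟨v, hv⟩ h0
    rw [LinearMap.domRestrict_apply] at h0
    change g v = 0 at h0
    rw [hg, LinearMap.sum_apply, ← Finset.insert_erase (Finset.mem_range.mpr hp),
      Finset.sum_insert (Finset.notMem_erase _ _), pow_zero, Module.End.one_apply] at h0
    have hmem : (∑ i ∈ (Finset.range p).erase 0, (f ^ i) v) ∈ ⨆ (k) (_ : k ≠ j), D k := by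
      apply Submodule.sum_mem
      intro i hi
      rw [Finset.mem_erase, Finset.mem_range] at hi
      have h1 : (f ^ i) v ∈ D ((σ ^ i) j) := by
        rw [← hpow]
        exact Submodule.mem_map_of_mem hv
      exact (le_iSup₂ (f := fun k (_ : k ≠ j) => D k) ((σ ^ i) j)
        (hj i (Nat.pos_of_ne_zero hi.1) hi.2)) h1
    have hv' : v ∈ ⨆ (k) (_ : k ≠ j), D k := by
      have : v = -(∑ i ∈ (Finset.range p).erase 0, (f ^ i) v) := eq_neg_of_add_eq_zero_left h0
      rw [this]
      exact Submodule.neg_mem _ hmem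
    have := (Submodule.disjoint_def.mp (hD j)) v hv hv'
    exact Subtype.ext this
  have h1 : finrank K (D j) = finrank K (LinearMap.range (g.domRestrict (D j))) :=
    (LinearMap.finrank_range_of_inj hinj).symm
  rw [h1]
  apply Submodule.finrank_mono
  rintro _ ⟨w, rfl⟩
  exact ⟨w, rfl⟩

end Cfsg.Agent.Lib.H11.Jordan
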