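import Mathlib
import Cfsg.Agent.Lib.H11.SpType2

set_option autoImplicit false

/-!
# Unipotent Jordan types of isometries of quadratic forms

* `even_rank_of_isometry_sym`: for an isometry `A` of a non-degenerate symmetric Gram matrix in
  odd characteristic, `rank ((A - 1) ^ (2 i + 1))` is even;
* `OReal K μ`: the Jordan type `μ` is realised by an isometry of a quadratic form `v ↦ v ⬝ᵥ H *ᵥ v`
  with non-degenerate polar form; closure under sums, hyperbolic pairs, transport to `Fin n`.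
-/

namespace Cfsg.Agent.Lib.H11.Jordan

open Module Matrix

variable {K : Type*} [Field K]

section necessity

/-- for an isometry of a symmetric form in odd characteristic the odd powers of `A - 1` have even
rank -/
theorem even_rank_of_isometry_sym {ι : Type*} [Fintype ι] [DecidableEq ι] (X A Ai : Matrix ι ι K)
    (h2 : (2 : K) ≠ 0) (hsym : Xᵀ = X) (hX : IsUnit X.det) (hA1 : A * Ai = 1)
    (hiso : Aᵀ * X * A = X) (hnil : IsNilpotent (A - 1)) (i : ℕ) :
    Even (((A - 1) ^ (2 * i + 1)).rank) := by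
  have hA2 : Ai * A = 1 := mul_eq_one_comm.mp hA1
  have h1 : Aᵀ * X = X * Ai := by
    calc Aᵀ * X = Aᵀ * X * (A * Ai) := by rw [hA1, Matrix.mul_one]
      _ = (Aᵀ * X * A) * Ai := by simp only [Matrix.mul_assoc]
      _ = X * Ai := by rw [hiso]
  have h2' : (A - 1)ᵀ * X = X * ((-Ai) * (A - 1)) := by
    rw [Matrix.transpose_sub, Matrix.transpose_one, Matrix.sub_mul, h1, Matrix.one_mul,
      Matrix.neg_mul, Matrix.mul_sub, hA2, Matrix.mul_one, Matrix.mul_neg, Matrix.mul_sub,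
      Matrix.mul_one]
    abel
  have hcomm : Commute (-Ai) (A - 1) := by
    change (-Ai) * (A - 1) = (A - 1) * (-Ai)
    rw [Matrix.neg_mul, Matrix.mul_neg, Matrix.mul_sub, Matrix.sub_mul, hA1, hA2, Matrix.mul_one,
      Matrix.one_mul]
  have hcomm' : Commute Ai (A - 1) := by
    change Ai * (A - 1) = (A - 1) * Ai
    rw [Matrix.mul_sub, Matrix.sub_mul, hA1, hA2, Matrix.mul_one, Matrix.one_mul]
  have h3 : ∀ k : ℕ, ((A - 1)ᵀ) ^ k * X = X * ((-Ai) ^ k * (A - 1) ^ k) := by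
    intro k
    induction k with
    | zero => simp
    | succ k ih =>
      rw [pow_succ', Matrix.mul_assoc, ih, ← Matrix.mul_assoc, h2', Matrix.mul_assoc,
        ← hcomm.mul_pow, ← hcomm.mul_pow, ← pow_succ']
  -- `E = Ai (N + 2)`
  set N := A - 1 with hN
  set E := Ai * (N + (2 : K) • (1 : Matrix ι ι K)) with hE
  have hEN : Commute E N := by
    have c1 : Commute (N + (2 : K) • (1 : Matrix ι ι K)) N := by
      apply Commute.add_left (Commute.refl N)
      exact (Commute.one_left N).smul_left 2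
    exact hcomm'.mul_left c1
  have hAE : A - Ai = E * N := by
    have e1 : A = N + 1 := by rw [hN]; abel
    rw [hE, Matrix.mul_assoc, Matrix.add_mul, Matrix.smul_mul, Matrix.one_mul]
    have e2 : N * N + (2 : K) • N = A * A - 1 := by
      rw [e1]
      simp only [Matrix.add_mul, Matrix.mul_add, Matrix.one_mul, Matrix.mul_one, two_smul]
      abel
    rw [e2, Matrix.mul_sub, ← Matrix.mul_assoc, hA2, Matrix.one_mul, Matrix.mul_one]
  -- the alternating matrix
  have h4 : (N ^ i)ᵀ * X * (A - Ai) * N ^ i = X * (((-Ai) ^ i * E) * N ^ (2 * i + 1)) := by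
    rw [Matrix.transpose_pow, h3, hAE]
    have e1 : N ^ i * E = E * N ^ i := (hEN.pow_right i).symm.eq
    calc X * ((-Ai) ^ i * N ^ i) * (E * N) * N ^ i
        = X * ((-Ai) ^ i * (N ^ i * E) * (N * N ^ i)) := by simp only [Matrix.mul_assoc]
      _ = X * ((-Ai) ^ i * (E * N ^ i) * (N * N ^ i)) := by rw [e1]
      _ = X * ((-Ai) ^ i * E * (N ^ i * (N * N ^ i))) := by simp only [Matrix.mul_assoc]
      _ = X * ((-Ai) ^ i * E * N ^ (2 * i + 1)) := by
          rw [← pow_succ', ← pow_add]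
          congr 3
          ring
  have h5 : ∀ v : ι → K, v ⬝ᵥ ((N ^ i)ᵀ * X * (A - Ai) * N ^ i) *ᵥ v = 0 := by
    intro v
    rw [← Matrix.mulVec_mulVec, Matrix.mul_assoc, ← Matrix.mulVec_mulVec,
      Matrix.dotProduct_mulVec, Matrix.vecMul_transpose]
    set w := N ^ i *ᵥ v with hw
    rw [Matrix.mul_sub, Matrix.sub_mulVec, dotProduct_sub, ← h1, sub_eq_zero]
    -- `w ⬝ X A w = w ⬝ Aᵀ X w`
    rw [← Matrix.mulVec_mulVec, ← Matrix.mulVec_mulVec, Matrix.dotProduct_mulVec w Aᵀ,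
      Matrix.vecMul_transpose, Matrix.dotProduct_mulVec, ← Matrix.mulVec_transpose, hsym,
      dotProduct_comm]
  have h6 := Cfsg.Agent.Lib.H11.even_rank_of_alternating _ h5
  rw [h4] at h6
  have hu : IsUnit ((-Ai) ^ i * E).det := by
    have u1 : IsUnit (-Ai) := ⟨⟨-Ai, -A, by rw [neg_mul_neg, hA2], by rw [neg_mul_neg, hA1]⟩, rfl⟩
    have u2 : IsUnit Ai := ⟨⟨Ai, A, hA2, hA1⟩, rfl⟩
    have u3 : IsUnit ((2 : K) • (1 : Matrix ι ι K)) := by
      refine ⟨⟨(2 : K) • 1, (2 : K)⁻¹ • 1, ?_, ?_⟩, rfl⟩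
      · rw [Matrix.smul_mul, Matrix.mul_smul, Matrix.one_mul, smul_smul, mul_inv_cancel₀ h2,
          one_smul]
      · rw [Matrix.smul_mul, Matrix.mul_smul, Matrix.one_mul, smul_smul, inv_mul_cancel₀ h2,
          one_smul]
    have u4 : IsUnit (N + (2 : K) • (1 : Matrix ι ι K)) := by
      apply hnil.isUnit_add_right_of_commute u3
      exact (Commute.one_right N).smul_right 2
    exact (Matrix.isUnit_iff_isUnit_det _).mp ((u1.pow i).mul (u2.mul u4))
  rw [Matrix.rank_mul_eq_right_of_isUnit_det _ _ hX,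
    Matrix.rank_mul_eq_right_of_isUnit_det _ _ hu] at h6
  exact h6

/-- even parts have even multiplicity when the odd powers have even rank -/
theorem count_even_of_even_ranks_odd {ι : Type*} [Fintype ι] [DecidableEq ι] {u : Matrix ι ι K}
    {μ : Multiset ℕ} (h : RankType u μ) (hev : ∀ i, Even (((u - 1) ^ (2 * i + 1)).rank)) (j : ℕ)
    (hj : Even j) (hj0 : 0 < j) : Even (Multiset.count j μ) := by
  obtain ⟨k, rfl⟩ := hj
  obtain ⟨l, rfl⟩ : ∃ l, k = l + 1 := ⟨k - 1, by omega⟩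
  have h1 := h.count_add (l + 1 + (l + 1)) (by omega)
  have h2 := hev l
  have h3 := hev (l + 1)
  have e1 : l + 1 + (l + 1) - 1 = 2 * l + 1 := by omega
  have e2 : l + 1 + (l + 1) + 1 = 2 * (l + 1) + 1 := by ring
  rw [e1, e2] at h1
  obtain ⟨a, ha⟩ := h2
  obtain ⟨b, hb⟩ := h3
  exact ⟨a + b - ((u - 1) ^ (l + 1 + (l + 1))).rank, by omega⟩

end necessity

section realisation

/-- the type `μ` is realised by an isometry of a quadratic form `v ↦ v ⬝ᵥ H *ᵥ v` whose polar form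
(with Gram matrix `H + Hᵀ`) is non-degenerate -/
def OReal (K : Type*) [Field K] (μ : Multiset ℕ) : Prop :=
  ∃ (ι : Type) (_ : Fintype ι) (_ : DecidableEq ι) (H A : Matrix ι ι K),
    IsUnit (H + Hᵀ).det ∧ (∀ v : ι → K, (A *ᵥ v) ⬝ᵥ H *ᵥ (A *ᵥ v) = v ⬝ᵥ H *ᵥ v) ∧ RankType A μ

theorem OReal.zero : OReal K 0 := by
  refine ⟨Empty, inferInstance, inferInstance, 0, 1, ?_, ?_, ?_⟩
  · rw [Matrix.det_isEmpty]
    exact isUnit_one
  · intro v
    simp
  · intro i
    have : ((1 - 1 : Matrix Empty Empty K) ^ i) = 0 := Subsingleton.elim _ _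
    rw [this, Matrix.rank_zero]
    simp

theorem fromBlocks_diag_mulVec {ι ι' : Type*} [Fintype ι] [Fintype ι'] (M : Matrix ι ι K)
    (M' : Matrix ι' ι' K) (v : ι ⊕ ι' → K) :
    Matrix.fromBlocks M 0 0 M' *ᵥ v = Sum.elim (M *ᵥ (v ∘ Sum.inl)) (M' *ᵥ (v ∘ Sum.inr)) := by
  rw [Matrix.fromBlocks_mulVec]
  simp

theorem OReal.add {μ μ' : Multiset ℕ} (h : OReal K μ) (h' : OReal K μ') :
    OReal K (μ + μ') := by
  obtain ⟨ι, _, _, H, A, hH, hiso, hT⟩ := h
  obtain ⟨ι', _, _, H', A', hH', hiso', hT'⟩ := h'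
  refine ⟨ι ⊕ ι', inferInstance, inferInstance, Matrix.fromBlocks H 0 0 H',
    Matrix.fromBlocks A 0 0 A', ?_, ?_, hT.fromBlocks hT'⟩
  · rw [Matrix.fromBlocks_transpose, Matrix.fromBlocks_add]
    simp only [Matrix.transpose_zero, add_zero]
    rw [Matrix.det_fromBlocks_zero₂₁]
    exact hH.mul hH'
  · intro v
    have e : v = Sum.elim (v ∘ Sum.inl) (v ∘ Sum.inr) := by
      funext z; rcases z with z | z <;> rfl
    rw [fromBlocks_diag_mulVec, fromBlocks_diag_mulVec, Sum.elim_comp_inl, Sum.elim_comp_inr,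
      sumElim_dotProduct_sumElim, hiso, hiso']
    conv_rhs => rw [e, fromBlocks_diag_mulVec, Sum.elim_comp_inl, Sum.elim_comp_inr,
      sumElim_dotProduct_sumElim]

/-- the hyperbolic pair of Jordan blocks, in any characteristic -/
theorem OReal.pair {a : ℕ} (ha : 1 ≤ a) : OReal K ({a} + {a}) := by
  have hP := hasType_jordanBlock (K := K) ha
  have hu : IsUnit (Cfsg.jordanBlock a K) := by
    have := hP.isNilpotent.isUnit_one_add
    rwa [add_sub_cancel] at this
  obtain ⟨P, hPe⟩ := hu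
  have h1 : (P : Matrix (Fin a) (Fin a) K) *
      ((P⁻¹ : (Matrix (Fin a) (Fin a) K)ˣ) : Matrix (Fin a) (Fin a) K) = 1 := P.mul_inv
  have h2 : ((P⁻¹ : (Matrix (Fin a) (Fin a) K)ˣ) : Matrix (Fin a) (Fin a) K) *
      (P : Matrix (Fin a) (Fin a) K) = 1 := P.inv_mul
  rw [← hPe] at hP
  have hQ := hP.inv_transpose h1
  refine ⟨Fin a ⊕ Fin a, inferInstance, inferInstance,
    Matrix.fromBlocks (0 : Matrix (Fin a) (Fin a) K) (1 : Matrix (Fin a) (Fin a) K)
      (0 : Matrix (Fin a) (Fin a) K) (0 : Matrix (Fin a) (Fin a) K),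
    Matrix.fromBlocks (P : Matrix (Fin a) (Fin a) K) 0 0
      (((P⁻¹ : (Matrix (Fin a) (Fin a) K)ˣ) : Matrix (Fin a) (Fin a) K))ᵀ, ?_, ?_,
    hP.rankType.fromBlocks hQ.rankType⟩
  · rw [Matrix.fromBlocks_transpose, Matrix.fromBlocks_add]
    simp only [Matrix.transpose_zero, Matrix.transpose_one, add_zero, zero_add]
    have : (Matrix.fromBlocks (0 : Matrix (Fin a) (Fin a) K) (1 : Matrix (Fin a) (Fin a) K)
        (1 : Matrix (Fin a) (Fin a) K) (0 : Matrix (Fin a) (Fin a) K)) *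
        (Matrix.fromBlocks (0 : Matrix (Fin a) (Fin a) K) (1 : Matrix (Fin a) (Fin a) K)
        (1 : Matrix (Fin a) (Fin a) K) (0 : Matrix (Fin a) (Fin a) K)) = 1 := by
      rw [Matrix.fromBlocks_multiply]
      simp only [Matrix.zero_mul, Matrix.mul_zero, Matrix.one_mul, zero_add, add_zero]
      exact Matrix.fromBlocks_one
    exact (Matrix.isUnit_iff_isUnit_det _).mp ⟨⟨_, _, this, this⟩, rfl⟩
  · intro v
    have hH : ∀ w : Fin a ⊕ Fin a → K,
        w ⬝ᵥ (Matrix.fromBlocks (0 : Matrix (Fin a) (Fin a) K) (1 : Matrix (Fin a) (Fin a) K)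
          (0 : Matrix (Fin a) (Fin a) K) (0 : Matrix (Fin a) (Fin a) K)) *ᵥ w =
          (w ∘ Sum.inl) ⬝ᵥ (w ∘ Sum.inr) := by
      intro w
      have e : w = Sum.elim (w ∘ Sum.inl) (w ∘ Sum.inr) := by
        funext z; rcases z with z | z <;> rfl
      rw [Matrix.fromBlocks_mulVec]
      simp only [Matrix.zero_mulVec, Matrix.one_mulVec, zero_add, add_zero]
      conv_lhs => rw [e]
      rw [sumElim_dotProduct_sumElim]
      simp
    rw [hH, hH, fromBlocks_diag_mulVec, Sum.elim_comp_inl, Sum.elim_comp_inr,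
      Matrix.dotProduct_mulVec, Matrix.vecMul_transpose, Matrix.mulVec_mulVec, h2,
      Matrix.one_mulVec]

/-- the quadratic form of a matrix -/
noncomputable def qfOf {n : ℕ} (H : Matrix (Fin n) (Fin n) K) : QuadraticForm K (Fin n → K) :=
  LinearMap.BilinMap.toQuadraticMap (Matrix.toBilin' H)

theorem qfOf_apply {n : ℕ} (H : Matrix (Fin n) (Fin n) K) (v : Fin n → K) :
    qfOf H v = v ⬝ᵥ H *ᵥ v := by
  unfold qfOf
  rw [LinearMap.BilinMap.toQuadraticMap_apply, Matrix.toBilin'_apply']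

theorem polarBilin_qfOf {n : ℕ} (H : Matrix (Fin n) (Fin n) K) :
    QuadraticMap.polarBilin (qfOf H) = Matrix.toBilin' (H + Hᵀ) := by
  unfold qfOf
  rw [LinearMap.BilinMap.polarBilin_toQuadraticMap]
  apply LinearMap.ext₂
  intro v w
  rw [LinearMap.add_apply, LinearMap.add_apply, LinearMap.flip_apply, Matrix.toBilin'_apply',
    Matrix.toBilin'_apply', Matrix.toBilin'_apply', Matrix.add_mulVec, dotProduct_add]
  congr 1
  rw [Matrix.mulVec_transpose, dotProduct_comm v, ← Matrix.dotProduct_mulVec]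

/-- transport to an isometry group on `Fin n → K` -/
theorem OReal.exists_isometry {μ : Multiset ℕ} (h : OReal K μ) {n : ℕ} (hn : μ.sum = n) :
    ∃ Q : QuadraticForm K (Fin n → K), (QuadraticMap.polarBilin Q).Nondegenerate ∧
      ∃ A : ↥(Cfsg.isometryGroup K ⇑Q),
        RankType ((A : GL (Fin n) K) : Matrix (Fin n) (Fin n) K) μ := by
  classical
  obtain ⟨ι, _, _, H, A, hH, hiso, hT⟩ := h
  have hcard : Fintype.card ι = n := by
    have := hT 0
    rw [pow_zero, Matrix.rank_one] at this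
    rw [this, ← hn]
    simp
  let f : ι ≃ Fin n := (Fintype.equivFin ι).trans (finCongr hcard)
  set H' := Matrix.reindex f f H with hH'
  set A' := Matrix.reindex f f A with hA'
  have hT' : RankType A' μ := hT.reindex f
  have hunit : IsUnit A' := by
    have h1 : IsNilpotent (A' - 1) := ⟨_, hT'.pow_eq_zero⟩
    have := h1.isUnit_one_add
    rwa [add_sub_cancel] at this
  have hdet : (H' + H'ᵀ).det ≠ 0 := by
    have e : H' + H'ᵀ = Matrix.reindex f f (H + Hᵀ) := by
      ext i j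
      simp [hH']
    rw [e, Matrix.det_reindex_self]
    exact hH.ne_zero
  have hiso' : ∀ v : Fin n → K, (A' *ᵥ v) ⬝ᵥ H' *ᵥ (A' *ᵥ v) = v ⬝ᵥ H' *ᵥ v := by
    intro v
    have key : ∀ (M : Matrix ι ι K) (w : Fin n → K),
        Matrix.reindex f f M *ᵥ w = (M *ᵥ (w ∘ f)) ∘ f.symm := by
      intro M w
      rw [Matrix.reindex_apply, Matrix.submatrix_mulVec_equiv]
      rfl
    have key2 : ∀ (a b : ι → K), (a ∘ f.symm) ⬝ᵥ (b ∘ f.symm) = a ⬝ᵥ b := by
      intro a b
      simp only [dotProduct, Function.comp_apply]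
      exact Equiv.sum_comp f.symm (fun k => a k * b k)
    have e1 : ∀ a : ι → K, (a ∘ f.symm) ∘ f = a := by
      intro a; funext i; simp
    have e2 : (v ∘ f) ∘ f.symm = v := by
      funext i; simp
    rw [hA', hH', key, key, key, e1, key2, hiso, ← key2 (v ∘ f) (H *ᵥ (v ∘ f)), e2]
  refine ⟨qfOf H', ?_, ⟨⟨hunit.unit, ?_⟩, hT'⟩⟩
  · rw [polarBilin_qfOf]
    exact LinearMap.BilinForm.nondegenerate_toBilin'_iff_det_ne_zero.mpr hdet
  · intro u v
    change qfOf H' (A' *ᵥ u) = qfOf H' u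
    rw [qfOf_apply, qfOf_apply]
    exact hiso' u

end realisation

end Cfsg.Agent.Lib.H11.Jordan
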