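import Mathlib
import Cfsg.Agent.Lib.H11.OType1

set_option autoImplicit false

/-!
# A regular unipotent orthogonal matrix in odd dimension and odd characteristic

The shift `N` is skew-adjoint for the anti-diagonal form with alternating signs, so its Cayley
transform `(1 + N) (1 - N)⁻¹` is an isometry with a single Jordan block.
-/

namespace Cfsg.Agent.Lib.H11.Jordan

open Module Matrix

variable {K : Type*} [Field K]

/-- the anti-diagonal matrix with alternating signs -/
def antiG (n : ℕ) (K : Type*) [Field K] : Matrix (Fin n) (Fin n) K :=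
  Matrix.of fun a b => if (a : ℕ) + (b : ℕ) + 1 = n then (-1) ^ (a : ℕ) else 0

theorem antiG_apply (n : ℕ) (a b : Fin n) :
    antiG n K a b = if (a : ℕ) + (b : ℕ) + 1 = n then (-1) ^ (a : ℕ) else 0 := rfl

theorem neg_one_pow_eq_of_even_add {a b : ℕ} (h : Even (a + b)) : (-1 : K) ^ a = (-1) ^ b := by
  have h1 : (-1 : K) ^ (a + b) = 1 := h.neg_one_pow
  rw [pow_add] at h1
  have h2 : (-1 : K) ^ b * (-1) ^ b = 1 := by
    rw [← pow_add]
    exact Even.neg_one_pow ⟨b, rfl⟩
  calc (-1 : K) ^ a = (-1) ^ a * ((-1) ^ b * (-1) ^ b) := by rw [h2, mul_one]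
    _ = ((-1) ^ a * (-1) ^ b) * (-1) ^ b := by ring
    _ = (-1) ^ b := by rw [h1, one_mul]

theorem antiG_transpose {n : ℕ} (hn : Odd n) : (antiG n K)ᵀ = antiG n K := by
  ext a b
  rw [Matrix.transpose_apply, antiG_apply, antiG_apply]
  by_cases h : (a : ℕ) + (b : ℕ) + 1 = n
  · rw [if_pos h, if_pos (by omega)]
    apply neg_one_pow_eq_of_even_add
    obtain ⟨k, hk⟩ := hn
    exact ⟨k, by omega⟩
  · rw [if_neg h, if_neg (by omega)]

theorem antiG_mul_self {n : ℕ} (hn : Odd n) : antiG n K * antiG n K = 1 := by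
  ext a c
  rw [Matrix.mul_apply]
  have hb : n - 1 - (a : ℕ) < n := by have := a.2; omega
  rw [Finset.sum_eq_single (⟨n - 1 - (a : ℕ), hb⟩ : Fin n)]
  · rw [antiG_apply, antiG_apply, if_pos (by have := a.2; simp only; omega)]
    by_cases hac : a = c
    · subst hac
      rw [if_pos (by have := a.2; simp only; omega), Matrix.one_apply_eq, ← pow_add]
      apply Even.neg_one_pow
      obtain ⟨k, hk⟩ := hn
      exact ⟨k, by have := a.2; simp only; omega⟩
    · rw [if_neg, mul_zero, Matrix.one_apply_ne hac]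
      intro h
      apply hac
      apply Fin.ext
      have := a.2
      simp only at h
      omega
  · intro b _ hb'
    rw [antiG_apply, if_neg, zero_mul]
    intro h
    apply hb'
    apply Fin.ext
    simp only
    omega
  · intro h
    exact absurd (Finset.mem_univ _) h

/-- the shift is skew-adjoint for `antiG` -/
theorem shift_skew (n : ℕ) :
    (Cfsg.jordanBlock n K - 1)ᵀ * antiG n K + antiG n K * (Cfsg.jordanBlock n K - 1) = 0 := by
  ext a b
  rw [Matrix.add_apply, Matrix.zero_apply, mul_jordanBlock_sub_one_apply]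
  have h1 : ((Cfsg.jordanBlock n K - 1)ᵀ * antiG n K : Matrix (Fin n) (Fin n) K) a b =
      ((Cfsg.jordanBlock n K - 1)ᵀ *ᵥ (fun k => antiG n K k b)) a := rfl
  rw [h1, jordanBlock_sub_one_transpose_mulVec_apply]
  by_cases ha : (a : ℕ) + 1 < n
  · rw [dif_pos ha]
    by_cases hb : (b : ℕ) + 1 < n
    · rw [dif_pos hb, antiG_apply, antiG_apply]
      simp only
      by_cases h : (a : ℕ) + 1 + (b : ℕ) + 1 = n
      · rw [if_pos h, if_pos (by omega), pow_succ]
        ring
      · rw [if_neg h, if_neg (by omega), add_zero]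
    · rw [dif_neg hb, antiG_apply, if_neg, add_zero]
      have := b.2
      simp only
      omega
  · rw [dif_neg ha, zero_add]
    by_cases hb : (b : ℕ) + 1 < n
    · rw [dif_pos hb, antiG_apply, if_neg]
      have := a.2
      simp only
      omega
    · rw [dif_neg hb]

/-- a regular unipotent orthogonal matrix in odd dimension, odd characteristic -/
theorem OReal.single_odd (h2 : (2 : K) ≠ 0) {n : ℕ} (hn : Odd n) : OReal K {n} := by
  have hn1 : 1 ≤ n := by obtain ⟨k, hk⟩ := hn; omega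
  have hP := hasType_jordanBlock (K := K) hn1
  obtain ⟨N, hN⟩ : ∃ N : Matrix (Fin n) (Fin n) K, N = Cfsg.jordanBlock n K - 1 := ⟨_, rfl⟩
  have hnil : IsNilpotent N := by rw [hN]; exact hP.isNilpotent
  have hu : IsUnit (1 - N) := hnil.isUnit_one_sub
  obtain ⟨U, hU⟩ := hu
  obtain ⟨Mi, hMi⟩ : ∃ Mi : Matrix (Fin n) (Fin n) K,
      Mi = ((U⁻¹ : (Matrix (Fin n) (Fin n) K)ˣ) : Matrix (Fin n) (Fin n) K) := ⟨_, rfl⟩
  have hM1 : (1 - N) * Mi = 1 := by rw [← hU, hMi]; exact U.mul_inv
  have hM2 : Mi * (1 - N) = 1 := by rw [← hU, hMi]; exact U.inv_mul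
  have hcommM : Commute N Mi := by
    have c1 : Commute N (1 - N) := (Commute.one_right N).sub_right (Commute.refl N)
    have : Commute N ((U : Matrix (Fin n) (Fin n) K)) := by rw [hU]; exact c1
    rw [hMi]
    exact this.units_inv_right
  obtain ⟨G, hG⟩ : ∃ G : Matrix (Fin n) (Fin n) K, G = antiG n K := ⟨_, rfl⟩
  have hGt : Gᵀ = G := by rw [hG]; exact antiG_transpose hn
  have hGG : G * G = 1 := by rw [hG]; exact antiG_mul_self hn
  have hskew : Nᵀ * G = -(G * N) := by
    have := shift_skew (K := K) n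
    rw [← hN, ← hG] at this
    exact eq_neg_of_add_eq_zero_left this
  obtain ⟨A, hA⟩ : ∃ A : Matrix (Fin n) (Fin n) K, A = (1 + N) * Mi := ⟨_, rfl⟩
  -- isometry
  have hiso : Aᵀ * G * A = G := by
    have e1 : (1 + N)ᵀ * G = G * (1 - N) := by
      rw [Matrix.transpose_add, Matrix.transpose_one, Matrix.add_mul, Matrix.one_mul, hskew,
        Matrix.mul_sub, Matrix.mul_one]
      abel
    have e2 : G * (1 + N) = (1 - N)ᵀ * G := by
      rw [Matrix.transpose_sub, Matrix.transpose_one, Matrix.sub_mul, Matrix.one_mul, hskew,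
        Matrix.mul_add, Matrix.mul_one]
      abel
    have e3 : (1 - N) * (1 + N) = (1 + N) * (1 - N) := by
      simp only [Matrix.mul_add, Matrix.add_mul, Matrix.mul_sub, Matrix.sub_mul, Matrix.mul_one,
        Matrix.one_mul]
      abel
    have e4 : Miᵀ * (1 - N)ᵀ = 1 := by
      rw [← Matrix.transpose_mul, hM1, Matrix.transpose_one]
    calc Aᵀ * G * A = Miᵀ * ((1 + N)ᵀ * G) * ((1 + N) * Mi) := by
          rw [hA, Matrix.transpose_mul]; simp only [Matrix.mul_assoc]
      _ = Miᵀ * G * (((1 - N) * (1 + N)) * Mi) := by rw [e1]; simp only [Matrix.mul_assoc]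
      _ = Miᵀ * (G * (1 + N)) * ((1 - N) * Mi) := by rw [e3]; simp only [Matrix.mul_assoc]
      _ = Miᵀ * (1 - N)ᵀ * G := by rw [hM1, Matrix.mul_one, e2, Matrix.mul_assoc]
      _ = G := by rw [e4, Matrix.one_mul]
  -- rank type
  have hsub : A - 1 = (2 : K) • (N * Mi) := by
    have : A - 1 = (1 + N) * Mi - (1 - N) * Mi := by rw [hM1, hA]
    rw [this, ← Matrix.sub_mul, two_smul, ← Matrix.add_mul]
    congr 1
    abel
  have hT : RankType A {n} := by
    intro i
    rw [hsub, smul_pow, hcommM.mul_pow]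
    have hu2 : IsUnit (Mi ^ i).det := by
      have : IsUnit Mi := ⟨U⁻¹, hMi.symm⟩
      exact (Matrix.isUnit_iff_isUnit_det _).mp (this.pow i)
    have e : ((2 : K) ^ i • (N ^ i * Mi ^ i)) = N ^ i * ((2 : K) ^ i • Mi ^ i) := by
      rw [Matrix.mul_smul]
    rw [e, Matrix.rank_mul_eq_left_of_isUnit_det]
    · rw [hN]
      exact hP.rankType i
    · rw [Matrix.det_smul]
      exact (isUnit_iff_ne_zero.mpr (pow_ne_zero _ (pow_ne_zero _ h2))).mul hu2
  refine ⟨Fin n, inferInstance, inferInstance, G, A, ?_, ?_, hT⟩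
  · rw [hGt, ← two_smul K G, Matrix.det_smul]
    apply IsUnit.mul
    · exact isUnit_iff_ne_zero.mpr (pow_ne_zero _ h2)
    · exact (Matrix.isUnit_iff_isUnit_det _).mp ⟨⟨G, G, hGG, hGG⟩, rfl⟩
  · intro v
    rw [Matrix.mulVec_mulVec, Matrix.dotProduct_mulVec, ← Matrix.vecMul_transpose A,
      Matrix.vecMul_vecMul, ← Matrix.mul_assoc, hiso, ← Matrix.dotProduct_mulVec]

end Cfsg.Agent.Lib.H11.Jordan
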