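import Mathlib
import Cfsg.Agent.Lib.H11.OType2
import Cfsg.Agent.Lib.H13.Disc

set_option autoImplicit false

/-!
# Unipotent isometries of symmetric forms with prescribed Jordan type and discriminant

`ORd K μ δ`: there are a symmetric matrix `G` with `det G = δ s²` (`s ≠ 0`) and an isometry `A`
of `G` (`Aᵀ G A = G`) of rank type `μ`.  Closure under sums, hyperbolic pairs, odd single blocks
with arbitrary discriminant, and the resulting realisation theorem `ord_of_parity`.
-/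

namespace Cfsg.Agent.Lib.H11.OrthReal

open Module Matrix Cfsg.Agent.Lib.H11.Jordan

variable {K : Type*} [Field K]

/-- realisation of the type `μ` by an isometry of a symmetric form of discriminant `δ` -/
def ORd (K : Type*) [Field K] (μ : Multiset ℕ) (δ : K) : Prop :=
  ∃ (ι : Type) (_ : Fintype ι) (_ : DecidableEq ι) (G A : Matrix ι ι K) (s : K),
    s ≠ 0 ∧ Gᵀ = G ∧ G.det = δ * s ^ 2 ∧ Aᵀ * G * A = G ∧ RankType A μ

theorem ORd.zero : ORd K 0 1 := by
  refine ⟨Empty, inferInstance, inferInstance, 0, 1, 1, one_ne_zero, ?_, ?_, ?_, ?_⟩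
  · exact Matrix.transpose_zero
  · rw [Matrix.det_isEmpty]
    ring
  · simp
  · intro i
    have : ((1 - 1 : Matrix Empty Empty K) ^ i) = 0 := Subsingleton.elim _ _
    rw [this, Matrix.rank_zero]
    simp

theorem ORd.add {μ μ' : Multiset ℕ} {δ δ' : K} (h : ORd K μ δ) (h' : ORd K μ' δ') :
    ORd K (μ + μ') (δ * δ') := by
  obtain ⟨ι, _, _, G, A, s, hs, hG, hdet, hiso, hT⟩ := h
  obtain ⟨ι', _, _, G', A', s', hs', hG', hdet', hiso', hT'⟩ := h'
  refine ⟨ι ⊕ ι', inferInstance, inferInstance, Matrix.fromBlocks G 0 0 G',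
    Matrix.fromBlocks A 0 0 A', s * s', mul_ne_zero hs hs', ?_, ?_, ?_, hT.fromBlocks hT'⟩
  · rw [Matrix.fromBlocks_transpose, hG, hG']
    simp
  · rw [Matrix.det_fromBlocks_zero₂₁, hdet, hdet']
    ring
  · rw [Matrix.fromBlocks_transpose, Matrix.fromBlocks_multiply, Matrix.fromBlocks_multiply]
    simp only [Matrix.transpose_zero, Matrix.zero_mul, Matrix.mul_zero, add_zero, zero_add]
    rw [hiso, hiso']

theorem ORd.congr_sq {μ : Multiset ℕ} {δ : K} (h : ORd K μ δ) (t : K) (ht : t ≠ 0) :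
    ORd K μ (δ * t ^ 2) := by
  obtain ⟨ι, _, _, G, A, s, hs, hG, hdet, hiso, hT⟩ := h
  refine ⟨ι, inferInstance, inferInstance, G, A, s / t, div_ne_zero hs ht, hG, ?_, hiso, hT⟩
  rw [hdet]
  field_simp

/-- the hyperbolic pair of Jordan blocks -/
theorem ORd.pair {a : ℕ} (ha : 1 ≤ a) : ORd K ({a} + {a}) ((-1) ^ a) := by
  have hP := hasType_jordanBlock (K := K) ha
  have hu : IsUnit (Cfsg.jordanBlock a K) := by
    have := hP.isNilpotent.isUnit_one_add
    rwa [add_sub_cancel] at this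
  obtain ⟨P, hPe⟩ := hu
  have h1 : (P : Matrix (Fin a) (Fin a) K) *
      ((P⁻¹ : (Matrix (Fin a) (Fin a) K)ˣ) : Matrix (Fin a) (Fin a) K) = 1 := P.mul_inv
  have h2 : ((P⁻¹ : (Matrix (Fin a) (Fin a) K)ˣ) : Matrix (Fin a) (Fin a) K) *
      (P : Matrix (Fin a) (Fin a) K) = 1 := P.inv_mul
  rw [← hPe] at hP
  have hQ := hP.inv_transpose h1
  obtain ⟨Pm, hPm⟩ : ∃ Pm : Matrix (Fin a) (Fin a) K, Pm = (P : Matrix (Fin a) (Fin a) K) :=
    ⟨_, rfl⟩
  obtain ⟨Pi, hPi⟩ : ∃ Pi : Matrix (Fin a) (Fin a) K,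
      Pi = ((P⁻¹ : (Matrix (Fin a) (Fin a) K)ˣ) : Matrix (Fin a) (Fin a) K) := ⟨_, rfl⟩
  rw [← hPm] at h1 h2 hP
  rw [← hPi] at h1 h2 hQ
  refine ⟨Fin a ⊕ Fin a, inferInstance, inferInstance,
    Matrix.fromBlocks (0 : Matrix (Fin a) (Fin a) K) (1 : Matrix (Fin a) (Fin a) K)
      (1 : Matrix (Fin a) (Fin a) K) (0 : Matrix (Fin a) (Fin a) K),
    Matrix.fromBlocks Pm 0 0 Piᵀ, 1, one_ne_zero, ?_, ?_, ?_,
    hP.rankType.fromBlocks hQ.rankType⟩
  · rw [Matrix.fromBlocks_transpose]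
    simp
  · rw [Cfsg.Agent.Lib.H13.det_hyp]
    ring
  · rw [Matrix.fromBlocks_transpose, Matrix.fromBlocks_multiply, Matrix.fromBlocks_multiply]
    simp only [Matrix.transpose_zero, Matrix.zero_mul, Matrix.mul_zero, add_zero, zero_add,
      Matrix.mul_one, Matrix.transpose_transpose]
    rw [h2, ← Matrix.transpose_mul, h2, Matrix.transpose_one]

/-- a regular unipotent isometry of the anti-diagonal form in odd dimension -/
theorem exists_isometry_antiG (h2 : (2 : K) ≠ 0) {n : ℕ} (hn : Odd n) :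
    ∃ A : Matrix (Fin n) (Fin n) K, Aᵀ * antiG n K * A = antiG n K ∧ RankType A {n} := by
  have hn1 : 1 ≤ n := by obtain ⟨k, hk⟩ := hn; omega
  have hP := hasType_jordanBlock (K := K) hn1
  obtain ⟨N, hN⟩ : ∃ N : Matrix (Fin n) (Fin n) K, N = Cfsg.jordanBlock n K - 1 := ⟨_, rfl⟩
  have hnil : IsNilpotent N := by rw [hN]; exact hP.isNilpotent
  have hu : IsUnit (1 - N) := hnil.isUnit_one_sub
  obtain ⟨U, hU⟩ := hu
  obtain ⟨Mi, hMi⟩ : ∃ Mi : Matrix (Fin n) (Fin n) K,
      Mi = ((U⁻¹ : (Matrix (Fin n) (Fin n) K)ˣ) : Matrix (Fin n) (Fin n) K) := ⟨_, rfl⟩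
  have hM1 : (1 - N) * Mi = 1 := by rw [← hU, hMi]; exact U.mul_inv
  have hM2 : Mi * (1 - N) = 1 := by rw [← hU, hMi]; exact U.inv_mul
  have hcommM : Commute N Mi := by
    have c1 : Commute N (1 - N) := (Commute.one_right N).sub_right (Commute.refl N)
    have : Commute N ((U : Matrix (Fin n) (Fin n) K)) := by rw [hU]; exact c1
    rw [hMi]
    exact this.units_inv_right
  obtain ⟨G, hG⟩ : ∃ G : Matrix (Fin n) (Fin n) K, G = antiG n K := ⟨_, rfl⟩
  have hskew : Nᵀ * G = -(G * N) := by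
    have := shift_skew (K := K) n
    rw [← hN, ← hG] at this
    exact eq_neg_of_add_eq_zero_left this
  obtain ⟨A, hA⟩ : ∃ A : Matrix (Fin n) (Fin n) K, A = (1 + N) * Mi := ⟨_, rfl⟩
  have hiso : Aᵀ * G * A = G := by
    have e1 : (1 + N)ᵀ * G = G * (1 - N) := by
      rw [Matrix.transpose_add, Matrix.transpose_one, Matrix.add_mul, Matrix.one_mul, hskew,
        Matrix.mul_sub, Matrix.mul_one]
      abel
    have e2 : G * (1 + N) = (1 - N)ᵀ * G := by
      rw [Matrix.transpose_sub, Matrix.transpose_one, Matrix.sub_mul, Matrix.one_mul, hskew,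
        Matrix.mul_add, Matrix.mul_one]
      abel
    have e3 : (1 - N) * (1 + N) = (1 + N) * (1 - N) := by
      simp only [Matrix.mul_add, Matrix.add_mul, Matrix.mul_sub, Matrix.sub_mul, Matrix.mul_one,
        Matrix.one_mul]
      abel
    have e4 : Miᵀ * (1 - N)ᵀ = 1 := by
      rw [← Matrix.transpose_mul, hM1, Matrix.transpose_one]
    calc Aᵀ * G * A = Miᵀ * ((1 + N)ᵀ * G) * ((1 + N) * Mi) := by
          rw [hA, Matrix.transpose_mul]; simp only [Matrix.mul_assoc]
      _ = Miᵀ * G * (((1 - N) * (1 + N)) * Mi) := by rw [e1]; simp only [Matrix.mul_assoc]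
      _ = Miᵀ * (G * (1 + N)) * ((1 - N) * Mi) := by rw [e3]; simp only [Matrix.mul_assoc]
      _ = Miᵀ * (1 - N)ᵀ * G := by rw [hM1, Matrix.mul_one, e2, Matrix.mul_assoc]
      _ = G := by rw [e4, Matrix.one_mul]
  have hsub : A - 1 = (2 : K) • (N * Mi) := by
    have : A - 1 = (1 + N) * Mi - (1 - N) * Mi := by rw [hM1, hA]
    rw [this, ← Matrix.sub_mul, two_smul, ← Matrix.add_mul]
    congr 1
    abel
  have hT : RankType A {n} := by
    intro i
    rw [hsub, smul_pow, hcommM.mul_pow]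
    have hu2 : IsUnit (Mi ^ i).det := by
      have : IsUnit Mi := ⟨U⁻¹, hMi.symm⟩
      exact (Matrix.isUnit_iff_isUnit_det _).mp (this.pow i)
    have e : ((2 : K) ^ i • (N ^ i * Mi ^ i)) = N ^ i * ((2 : K) ^ i • Mi ^ i) := by
      rw [Matrix.mul_smul]
    rw [e, Matrix.rank_mul_eq_left_of_isUnit_det]
    · rw [hN]
      exact hP.rankType i
    · rw [Matrix.det_smul]
      exact (isUnit_iff_ne_zero.mpr (pow_ne_zero _ (pow_ne_zero _ h2))).mul hu2
  rw [hG] at hiso
  exact ⟨A, hiso, hT⟩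

/-- a single odd block, with any discriminant -/
theorem ORd.single_odd (h2 : (2 : K) ≠ 0) {n : ℕ} (hn : Odd n) (δ : K) (hδ : δ ≠ 0) :
    ORd K {n} δ := by
  obtain ⟨A, hiso, hT⟩ := exists_isometry_antiG (K := K) h2 hn
  obtain ⟨ε, hε⟩ : ∃ ε : K, ε = (antiG n K).det := ⟨_, rfl⟩
  have hεε : ε * ε = 1 := by
    have := congrArg Matrix.det (antiG_mul_self (K := K) hn)
    rw [Matrix.det_mul, Matrix.det_one, ← hε] at this
    exact this
  obtain ⟨k, hk⟩ := hn
  refine ⟨Fin n, inferInstance, inferInstance, (δ * ε) • antiG n K, A, δ ^ k,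
    pow_ne_zero _ hδ, ?_, ?_, ?_, hT⟩
  · rw [Matrix.transpose_smul, antiG_transpose ⟨k, hk⟩]
  · rw [Matrix.det_smul, Fintype.card_fin, ← hε, hk]
    have : (δ * ε) ^ (2 * k + 1) * ε = δ * (δ ^ k) ^ 2 * (ε * ε) ^ (k + 1) := by ring
    rw [this, hεε, one_pow, mul_one]
  · rw [Matrix.mul_smul, Matrix.smul_mul, hiso]

/-- the sum of a multiset of even numbers is even -/
theorem even_sum_of_even {μ : Multiset ℕ} (h : ∀ a ∈ μ, Even a) : Even μ.sum := by
  induction μ using Multiset.induction_on with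
  | empty => simp
  | cons a s ih =>
    rw [Multiset.sum_cons]
    exact (h a (Multiset.mem_cons_self a s)).add
      (ih fun b hb => h b (Multiset.mem_cons_of_mem hb))

/-- the property proved by parity induction -/
def PReal (K : Type*) [Field K] (μ : Multiset ℕ) : Prop :=
  (∀ δ : K, δ ≠ 0 → (∃ a ∈ μ, Odd a) → ORd K μ δ) ∧
    ((∀ a ∈ μ, Even a) → ORd K μ ((-1) ^ (μ.sum / 2)))

theorem PReal.exists {μ : Multiset ℕ} (h : PReal K μ) : ∃ δ : K, δ ≠ 0 ∧ ORd K μ δ := by
  by_cases hodd : ∃ a ∈ μ, Odd a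
  · exact ⟨1, one_ne_zero, h.1 1 one_ne_zero hodd⟩
  · push Not at hodd
    refine ⟨(-1) ^ (μ.sum / 2), pow_ne_zero _ (neg_ne_zero.mpr one_ne_zero), h.2 ?_⟩
    intro a ha
    exact Nat.not_odd_iff_even.mp (hodd a ha)

theorem PReal.add {μ μ' : Multiset ℕ} (h : PReal K μ) (h' : PReal K μ') : PReal K (μ + μ') := by
  constructor
  · intro δ hδ hodd
    obtain ⟨a, ha, hao⟩ := hodd
    rcases Multiset.mem_add.mp ha with ha | ha
    · obtain ⟨δ', hδ', hr'⟩ := h'.exists
      have hr := h.1 (δ / δ') (div_ne_zero hδ hδ') ⟨a, ha, hao⟩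
      have := hr.add hr'
      rwa [div_mul_cancel₀ δ hδ'] at this
    · obtain ⟨δ', hδ', hr'⟩ := h.exists
      have hr := h'.1 (δ / δ') (div_ne_zero hδ hδ') ⟨a, ha, hao⟩
      have := hr'.add hr
      rwa [mul_div_cancel₀ δ hδ'] at this
  · intro hev
    have hev1 : ∀ a ∈ μ, Even a := fun a ha => hev a (Multiset.mem_add.mpr (Or.inl ha))
    have hev2 : ∀ a ∈ μ', Even a := fun a ha => hev a (Multiset.mem_add.mpr (Or.inr ha))
    have := (h.2 hev1).add (h'.2 hev2)
    rw [← pow_add] at this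
    obtain ⟨k, hk⟩ := even_sum_of_even hev1
    obtain ⟨k', hk'⟩ := even_sum_of_even hev2
    have e : (μ + μ').sum / 2 = μ.sum / 2 + μ'.sum / 2 := by
      rw [Multiset.sum_add]
      omega
    rw [e]
    exact this

/-- every type whose even parts have even multiplicity is realised, with control of the
discriminant -/
theorem pReal_of_parity (h2 : (2 : K) ≠ 0) (μ : Multiset ℕ) (hpos : ∀ a ∈ μ, 0 < a)
    (hpar : ∀ a, Even a → Even (Multiset.count a μ)) : PReal K μ := by
  apply realizable_of_parity (PReal K) {a | Odd a} _ (fun _ _ => PReal.add) _ _ μ hpos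
  · intro a ha
    apply hpar
    change ¬ Odd a at ha
    exact Nat.not_odd_iff_even.mp ha
  · -- zero
    constructor
    · rintro δ _ ⟨a, ha, _⟩
      simp at ha
    · intro _
      have : ((-1 : K)) ^ ((0 : Multiset ℕ).sum / 2) = 1 := by simp
      rw [this]
      exact ORd.zero
  · -- pairs
    intro a ha
    constructor
    · rintro δ hδ ⟨b, hb, hbo⟩
      have hba : b = a := by
        rcases Multiset.mem_add.mp hb with hb | hb <;> exact Multiset.mem_singleton.mp hb
      subst hba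
      have := (ORd.single_odd h2 hbo δ hδ).add (ORd.single_odd h2 hbo 1 one_ne_zero)
      rwa [mul_one] at this
    · intro _
      have e : (({a} : Multiset ℕ) + {a}).sum / 2 = a := by
        rw [Multiset.sum_add, Multiset.sum_singleton]
        omega
      rw [e]
      exact ORd.pair ha
  · -- odd singletons
    intro a ha hao
    constructor
    · intro δ hδ _
      exact ORd.single_odd h2 hao δ hδ
    · intro hev
      exfalso
      have := hev a (Multiset.mem_singleton_self a)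
      exact (Nat.not_even_iff_odd.mpr hao) this

end Cfsg.Agent.Lib.H11.OrthReal
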