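import Mathlib
import Cfsg.Agent.Lib.H11.OrthReal1
import Cfsg.Agent.Lib.H11.PSLGraph11
import Cfsg.Agent.Lib.H11.OmegaGen
import Cfsg.Agent.Lib.H11.Jordan9
import Cfsg.Agent.S0286
import Cfsg.Agent.S0287
import Cfsg.Agent.S0288

set_option autoImplicit false
set_option linter.unusedSectionVars false

/-!
# Unipotent elements of prescribed Jordan type in `Ω` of the standard quadratic forms

Transport of the realisations `ORd` to the isometry groups of `quadFormPlus`, `quadFormMinus`,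
`quadFormOdd` over a finite field of odd characteristic, and membership of elements of odd order
in `Ω`.
-/

namespace Cfsg.Agent.Lib.H11.OrthReal

open Module Matrix Cfsg.Agent.Lib.H11.Jordan

section omega

variable {F : Type*} [Field F] [Fintype F] {ι : Type} [Fintype ι] [DecidableEq ι]

/-- elements of odd order of the isometry group lie in `Ω` -/
theorem mem_omegaGL_of_odd_order (Q : QuadraticForm F (ι → F))
    (hQ : (QuadraticMap.polarBilin Q).Nondegenerate) (h2 : (2 : F) ≠ 0)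
    (hcard : 2 ≤ Fintype.card ι) (x : GL ι F) (hx : x ∈ Cfsg.isometryGroup F ⇑Q) (k : ℕ)
    (hk : Odd k) (hxk : x ^ k = 1) : x ∈ Cfsg.Geo.omegaGL ⇑Q := by
  have hidx := Cfsg.Agent.Lib.H11.OmegaGen.index_omega Q hQ h2 hcard
  obtain ⟨x', hx'⟩ : ∃ x' : ↥(Cfsg.isometryGroup F ⇑Q), x' = ⟨x, hx⟩ := ⟨_, rfl⟩
  have h4 : x' ^ 4 ∈ Cfsg.Omega F ⇑Q := by
    have := Subgroup.pow_index_mem (Cfsg.Omega F ⇑Q) x'
    rwa [hidx] at this
  have hx'k : x' ^ k = 1 := by
    apply Subtype.ext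
    rw [hx']
    exact hxk
  obtain ⟨j, hj⟩ := hk
  have h5 : (x' ^ 4) ^ (j * j + j) * x' = 1 := by
    have : (x' ^ 4) ^ (j * j + j) * x' = (x' ^ k) ^ k := by
      rw [← pow_mul, ← pow_succ, ← pow_mul]
      congr 1
      rw [hj]
      ring
    rw [this, hx'k, one_pow]
  have h6 : x' = ((x' ^ 4) ^ (j * j + j))⁻¹ := eq_inv_of_mul_eq_one_right h5
  have h7 : x' ∈ Cfsg.Omega F ⇑Q := by
    rw [h6]
    exact Subgroup.inv_mem _ (Subgroup.pow_mem _ h4 _)
  refine ⟨x', h7, ?_⟩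
  rw [hx']
  rfl

end omega

section transport

variable {F : Type*} [Field F] {ι ι' : Type} [Fintype ι] [DecidableEq ι] [Fintype ι']
  [DecidableEq ι']

theorem conj_sub_one_pow (P : Matrix ι' ι F) (Pi : Matrix ι ι' F) (hP1 : P * Pi = 1)
    (hP2 : Pi * P = 1) (A : Matrix ι ι F) (i : ℕ) :
    (P * A * Pi - 1) ^ i = P * (A - 1) ^ i * Pi := by
  induction i with
  | zero => rw [pow_zero, pow_zero, Matrix.mul_one, hP1]
  | succ i ih =>
    rw [pow_succ, ih, pow_succ]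
    have : P * A * Pi - 1 = P * (A - 1) * Pi := by
      rw [Matrix.mul_sub, Matrix.sub_mul, Matrix.mul_one, hP1]
    rw [this]
    calc P * (A - 1) ^ i * Pi * (P * (A - 1) * Pi)
        = P * (A - 1) ^ i * (Pi * P) * (A - 1) * Pi := by simp only [Matrix.mul_assoc]
      _ = P * ((A - 1) ^ i * (A - 1)) * Pi := by
        rw [hP2, Matrix.mul_one]; simp only [Matrix.mul_assoc]

theorem rank_conj (P : Matrix ι' ι F) (Pi : Matrix ι ι' F) (hP2 : Pi * P = 1)
    (M : Matrix ι ι F) : (P * M * Pi).rank = M.rank := by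
  apply le_antisymm
  · exact (Matrix.rank_mul_le_left _ _).trans (Matrix.rank_mul_le_right _ _)
  · have : M = Pi * (P * M * Pi) * P := by
      calc M = (Pi * P) * M * (Pi * P) := by rw [hP2, Matrix.one_mul, Matrix.mul_one]
        _ = Pi * (P * M * Pi) * P := by simp only [Matrix.mul_assoc]
    conv_lhs => rw [this]
    exact (Matrix.rank_mul_le_left _ _).trans (Matrix.rank_mul_le_right _ _)

theorem RankType.conj {μ : Multiset ℕ} (P : Matrix ι' ι F) (Pi : Matrix ι ι' F)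
    (hP1 : P * Pi = 1) (hP2 : Pi * P = 1) {A : Matrix ι ι F} (hT : RankType A μ) :
    RankType (P * A * Pi) μ := by
  intro i
  rw [conj_sub_one_pow P Pi hP1 hP2, rank_conj P Pi hP2]
  exact hT i

theorem RankType.isUnit {μ : Multiset ℕ} {A : Matrix ι ι F} (hT : RankType A μ) : IsUnit A := by
  have h1 : IsNilpotent (A - 1) := ⟨_, hT.pow_eq_zero⟩
  have := h1.isUnit_one_add
  rwa [add_sub_cancel] at this

/-- transport of a unipotent isometry along a similarity of quadratic forms -/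
theorem transport {μ : Multiset ℕ} (Qs : (ι' → F) → F) (Q' : (ι → F) → F) (P : Matrix ι' ι F)
    (Pi : Matrix ι ι' F) (hP1 : P * Pi = 1) (hP2 : Pi * P = 1) (c : F)
    (hQ : ∀ v, Qs (P *ᵥ v) = c * Q' v) (A : Matrix ι ι F) (hA : ∀ v, Q' (A *ᵥ v) = Q' v)
    (hT : RankType A μ) :
    ∃ x : GL ι' F, x ∈ Cfsg.isometryGroup F Qs ∧ RankType (x : Matrix ι' ι' F) μ := by
  have hT' := RankType.conj P Pi hP1 hP2 hT
  obtain ⟨x, hx⟩ := RankType.isUnit hT'
  refine ⟨x, ?_, by rw [hx]; exact hT'⟩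
  intro u v
  change Qs ((x : Matrix ι' ι' F) *ᵥ u) = Qs u
  rw [hx]
  have e1 : (P * A * Pi) *ᵥ u = P *ᵥ (A *ᵥ (Pi *ᵥ u)) := by
    rw [Matrix.mulVec_mulVec, Matrix.mulVec_mulVec, Matrix.mul_assoc]
  have e2 : u = P *ᵥ (Pi *ᵥ u) := by
    rw [Matrix.mulVec_mulVec, hP1, Matrix.one_mulVec]
  rw [e1, hQ, hA, ← hQ, ← e2]

/-- transport along a congruence of Gram matrices -/
theorem form_transport {μ : Multiset ℕ} (h2 : (2 : F) ≠ 0) (Qs : (ι' → F) → F)
    (G' : Matrix ι' ι' F) (hQs : ∀ w, 2 * Qs w = w ⬝ᵥ G' *ᵥ w) (G : Matrix ι ι F)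
    (P : Matrix ι' ι F) (Pi : Matrix ι ι' F) (hP1 : P * Pi = 1) (hP2 : Pi * P = 1)
    (hG : G = Pᵀ * G' * P) (A : Matrix ι ι F) (hiso : Aᵀ * G * A = G) (hT : RankType A μ) :
    ∃ x : GL ι' F, x ∈ Cfsg.isometryGroup F Qs ∧ RankType (x : Matrix ι' ι' F) μ := by
  apply transport Qs (fun v => v ⬝ᵥ G *ᵥ v) P Pi hP1 hP2 (2⁻¹) _ A _ hT
  · intro v
    have h := hQs (P *ᵥ v)
    have e : (P *ᵥ v) ⬝ᵥ G' *ᵥ (P *ᵥ v) = v ⬝ᵥ G *ᵥ v := by
      rw [hG, Matrix.mulVec_mulVec, Matrix.dotProduct_mulVec, ← Matrix.vecMul_transpose P,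
        Matrix.vecMul_vecMul, ← Matrix.dotProduct_mulVec, Matrix.mul_assoc]
    rw [e] at h
    rw [← h]
    field_simp
  · intro v
    rw [Matrix.mulVec_mulVec, Matrix.dotProduct_mulVec, ← Matrix.vecMul_transpose A,
      Matrix.vecMul_vecMul, ← Matrix.mul_assoc, hiso, ← Matrix.dotProduct_mulVec]

end transport

section congr

variable {F : Type*} [Field F] [Fintype F] {ι ι' : Type} [Fintype ι] [DecidableEq ι] [Fintype ι']
  [DecidableEq ι']

/-- symmetric invertible matrices of the same even size and discriminant class are congruent -/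
theorem congr_even (h2 : (2 : F) ≠ 0) (m : ℕ) (hι : Fintype.card ι = 2 * m)
    (hι' : Fintype.card ι' = 2 * m) (G : Matrix ι ι F) (G' : Matrix ι' ι' F) (hG : Gᵀ = G)
    (hG' : G'ᵀ = G') (hdet : G.det ≠ 0) (hdet' : G'.det ≠ 0)
    (hd : IsSquare ((-1 : F) ^ m * G.det) ↔ IsSquare ((-1 : F) ^ m * G'.det)) :
    ∃ (P : Matrix ι' ι F) (Pi : Matrix ι ι' F), P * Pi = 1 ∧ Pi * P = 1 ∧ G = Pᵀ * G' * P := by
  let ε : ι ≃ Fin (2 * m) := (Fintype.equivFin ι).trans (finCongr hι)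
  let ε' : ι' ≃ Fin (2 * m) := (Fintype.equivFin ι').trans (finCongr hι')
  obtain ⟨B, hB⟩ : ∃ B : Matrix (Fin (2 * m)) (Fin (2 * m)) F, B = Matrix.reindex ε ε G :=
    ⟨_, rfl⟩
  obtain ⟨B', hB'⟩ : ∃ B' : Matrix (Fin (2 * m)) (Fin (2 * m)) F, B' = Matrix.reindex ε' ε' G' :=
    ⟨_, rfl⟩
  have hBdet : B.det = G.det := by rw [hB, Matrix.det_reindex_self]
  have hB'det : B'.det = G'.det := by rw [hB', Matrix.det_reindex_self]
  have hBt : Bᵀ = B := by
    rw [hB]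
    ext i j
    simp only [Matrix.transpose_apply, Matrix.reindex_apply, Matrix.submatrix_apply]
    exact congrFun (congrFun hG _) _
  have hB't : B'ᵀ = B' := by
    rw [hB']
    ext i j
    simp only [Matrix.transpose_apply, Matrix.reindex_apply, Matrix.submatrix_apply]
    exact congrFun (congrFun hG' _) _
  obtain ⟨g, hg⟩ := Cfsg.Agent.Lib.H11.PSLGraph.sym_congr h2 m rfl
    (Matrix.GeneralLinearGroup.mkOfDetNeZero B (by rw [hBdet]; exact hdet))
    (Matrix.GeneralLinearGroup.mkOfDetNeZero B' (by rw [hB'det]; exact hdet'))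
    hBt hB't (by
      change IsSquare ((-1 : F) ^ m * B.det) ↔ IsSquare ((-1 : F) ^ m * B'.det)
      rw [hBdet, hB'det]
      exact hd)
  change B = (g : Matrix (Fin (2 * m)) (Fin (2 * m)) F)ᵀ * B' *
    (g : Matrix (Fin (2 * m)) (Fin (2 * m)) F) at hg
  obtain ⟨gm, hgm⟩ : ∃ gm : Matrix (Fin (2 * m)) (Fin (2 * m)) F, gm = g := ⟨_, rfl⟩
  obtain ⟨gi, hgi⟩ : ∃ gi : Matrix (Fin (2 * m)) (Fin (2 * m)) F,
      gi = ((g⁻¹ : GL (Fin (2 * m)) F) : Matrix (Fin (2 * m)) (Fin (2 * m)) F) := ⟨_, rfl⟩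
  have hg1 : gm * gi = 1 := by
    rw [hgm, hgi, ← Units.val_mul, mul_inv_cancel, Units.val_one]
  have hg2 : gi * gm = 1 := by
    rw [hgm, hgi, ← Units.val_mul, inv_mul_cancel, Units.val_one]
  rw [← hgm] at hg
  refine ⟨gm.submatrix ε' ε, gi.submatrix ε ε', ?_, ?_, ?_⟩
  · rw [Matrix.submatrix_mul_equiv, hg1, Matrix.submatrix_one_equiv]
  · rw [Matrix.submatrix_mul_equiv, hg2, Matrix.submatrix_one_equiv]
  · have e1 : G = B.submatrix ε ε := by
      rw [hB]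
      ext i j
      simp
    have e2 : G' = B'.submatrix ε' ε' := by
      rw [hB']
      ext i j
      simp
    rw [e1, hg, Matrix.transpose_submatrix]
    conv_rhs => rw [e2]
    rw [Matrix.submatrix_mul_equiv, Matrix.submatrix_mul_equiv]

end congr

section realise

variable {F : Type*} [Field F] [Fintype F]

theorem card_of_rankType {ι : Type} [Fintype ι] [DecidableEq ι] {A : Matrix ι ι F}
    {μ : Multiset ℕ} (hT : RankType A μ) : Fintype.card ι = μ.sum := by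
  have := hT 0
  rw [pow_zero, Matrix.rank_one] at this
  rw [this]
  simp

theorem two_mul_plus (d : ℕ) (w : Fin d ⊕ Fin d → F) :
    2 * Cfsg.quadFormPlus d F w = w ⬝ᵥ Cfsg.Agent.Lib.H13.gramPlus d F *ᵥ w := by
  have h1 := Cfsg.Agent.Lib.H13.polar_quadFormPlus (F := F) d w w
  rw [Matrix.toBilin'_apply'] at h1
  rw [← h1, ← Cfsg.Agent.S0287.coe_plusQF, QuadraticMap.polar_self]
  simp

theorem two_mul_minus (k : ℕ) (a b : F) (w : (Fin k ⊕ Fin k) ⊕ Fin 2 → F) :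
    2 * Cfsg.quadFormMinus k F a b w = w ⬝ᵥ Cfsg.Agent.Lib.H13.gramMinus k F a b *ᵥ w := by
  have h1 := Cfsg.Agent.Lib.H13.polar_quadFormMinus (F := F) k a b w w
  rw [Matrix.toBilin'_apply'] at h1
  rw [← h1, ← Cfsg.Agent.S0288.coe_minusQF, QuadraticMap.polar_self]
  simp

theorem gramPlus_transpose (d : ℕ) :
    (Cfsg.Agent.Lib.H13.gramPlus d F)ᵀ = Cfsg.Agent.Lib.H13.gramPlus d F := by
  unfold Cfsg.Agent.Lib.H13.gramPlus
  rw [Matrix.fromBlocks_transpose]
  simp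

theorem gramMinus_transpose (k : ℕ) (a b : F) :
    (Cfsg.Agent.Lib.H13.gramMinus k F a b)ᵀ = Cfsg.Agent.Lib.H13.gramMinus k F a b := by
  unfold Cfsg.Agent.Lib.H13.gramMinus
  rw [Matrix.fromBlocks_transpose, gramPlus_transpose, Matrix.transpose_zero,
    Matrix.transpose_zero]
  congr 1
  ext i j
  fin_cases i <;> fin_cases j <;> simp

theorem det_gramPlus (d : ℕ) : (Cfsg.Agent.Lib.H13.gramPlus d F).det = (-1) ^ d := by
  unfold Cfsg.Agent.Lib.H13.gramPlus
  exact Cfsg.Agent.Lib.H13.det_hyp d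

/-- unipotent isometries of the plus form with any admissible Jordan type -/
theorem exists_plus (h2 : (2 : F) ≠ 0) (d : ℕ) (μ : Multiset ℕ) (hpos : ∀ a ∈ μ, 0 < a)
    (hpar : ∀ a, Even a → Even (Multiset.count a μ)) (hsum : μ.sum = 2 * d) :
    ∃ x : GL (Fin d ⊕ Fin d) F, x ∈ Cfsg.isometryGroup F (Cfsg.quadFormPlus d F) ∧
      RankType (x : Matrix (Fin d ⊕ Fin d) (Fin d ⊕ Fin d) F) μ := by
  have hP := pReal_of_parity (K := F) h2 μ hpos hpar
  have hne : ((-1 : F)) ^ d ≠ 0 := pow_ne_zero _ (neg_ne_zero.mpr one_ne_zero)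
  have hR : ORd F μ ((-1) ^ d) := by
    by_cases hodd : ∃ a ∈ μ, Odd a
    · exact hP.1 _ hne hodd
    · push Not at hodd
      have := hP.2 (fun a ha => Nat.not_odd_iff_even.mp (hodd a ha))
      rwa [hsum, Nat.mul_div_cancel_left d (by norm_num)] at this
  obtain ⟨ι, _, _, G, A, s, hs, hG, hdet, hiso, hT⟩ := hR
  have hcard : Fintype.card ι = 2 * d := by rw [card_of_rankType hT, hsum]
  have hcard' : Fintype.card (Fin d ⊕ Fin d) = 2 * d := by
    rw [Fintype.card_sum, Fintype.card_fin]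
    ring
  obtain ⟨P, Pi, hP1, hP2, hGP⟩ := congr_even h2 d hcard hcard' G
    (Cfsg.Agent.Lib.H13.gramPlus d F) hG (gramPlus_transpose d)
    (by rw [hdet]; exact mul_ne_zero hne (pow_ne_zero _ hs))
    (by rw [det_gramPlus]; exact hne)
    (by
      rw [hdet, det_gramPlus]
      constructor
      · intro _
        exact ⟨(-1) ^ d, rfl⟩
      · intro _
        exact ⟨(-1) ^ d * s, by ring⟩)
  exact form_transport h2 _ _ (two_mul_plus d) G P Pi hP1 hP2 hGP A hiso hT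

/-- unipotent isometries of the minus form with any admissible Jordan type having an odd part -/
theorem exists_minus (h2 : (2 : F) ≠ 0) (k : ℕ) (a b : F)
    (hab : ∀ x y : F, x ^ 2 + a * x * y + b * y ^ 2 = 0 → x = 0 ∧ y = 0)
    (μ : Multiset ℕ) (hpos : ∀ a ∈ μ, 0 < a)
    (hpar : ∀ a, Even a → Even (Multiset.count a μ)) (hodd : ∃ a ∈ μ, Odd a)
    (hsum : μ.sum = 2 * (k + 1)) :
    ∃ x : GL ((Fin k ⊕ Fin k) ⊕ Fin 2) F,
      x ∈ Cfsg.isometryGroup F (Cfsg.quadFormMinus k F a b) ∧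
      RankType (x : Matrix ((Fin k ⊕ Fin k) ⊕ Fin 2) ((Fin k ⊕ Fin k) ⊕ Fin 2) F) μ := by
  have hP := pReal_of_parity (K := F) h2 μ hpos hpar
  have hns := Cfsg.Agent.Lib.H13.disc_nonsquare h2 a b hab
  have hne : (Cfsg.Agent.Lib.H13.gramMinus k F a b).det ≠ 0 := by
    rw [Cfsg.Agent.Lib.H13.det_gramMinus]
    apply mul_ne_zero (pow_ne_zero _ (neg_ne_zero.mpr one_ne_zero))
    intro h0
    apply hns
    have : a ^ 2 - 4 * b = 0 := by linear_combination -h0
    rw [this]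
    exact ⟨0, by simp⟩
  obtain ⟨ι, _, _, G, A, s, hs, hG, hdet, hiso, hT⟩ := hP.1 _ hne hodd
  have hcard : Fintype.card ι = 2 * (k + 1) := by rw [card_of_rankType hT, hsum]
  have hcard' : Fintype.card ((Fin k ⊕ Fin k) ⊕ Fin 2) = 2 * (k + 1) := by
    rw [Fintype.card_sum, Fintype.card_sum, Fintype.card_fin, Fintype.card_fin]
    ring
  obtain ⟨P, Pi, hP1, hP2, hGP⟩ := congr_even h2 (k + 1) hcard hcard' G
    (Cfsg.Agent.Lib.H13.gramMinus k F a b) hG (gramMinus_transpose k a b)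
    (by rw [hdet]; exact mul_ne_zero hne (pow_ne_zero _ hs)) hne
    (by
      rw [hdet]
      have e : (-1 : F) ^ (k + 1) * ((Cfsg.Agent.Lib.H13.gramMinus k F a b).det * s ^ 2) =
          s * s * ((-1 : F) ^ (k + 1) * (Cfsg.Agent.Lib.H13.gramMinus k F a b).det) := by ring
      rw [e]
      exact Cfsg.Agent.Lib.H13.isSquare_sq_mul_iff s _ hs)
  exact form_transport h2 _ _ (two_mul_minus k a b) G P Pi hP1 hP2 hGP A hiso hT

/-- unipotent isometries of the odd-dimensional standard form with any admissible Jordan type -/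
theorem exists_odd (h2 : (2 : F) ≠ 0) (d : ℕ) (μ : Multiset ℕ) (hpos : ∀ a ∈ μ, 0 < a)
    (hpar : ∀ a, Even a → Even (Multiset.count a μ)) (hsum : μ.sum = 2 * d + 1) :
    ∃ x : GL (Unit ⊕ (Fin d ⊕ Fin d)) F, x ∈ Cfsg.isometryGroup F (Cfsg.quadFormOdd d F) ∧
      RankType (x : Matrix (Unit ⊕ (Fin d ⊕ Fin d)) (Unit ⊕ (Fin d ⊕ Fin d)) F) μ := by
  have hP := pReal_of_parity (K := F) h2 μ hpos hpar
  obtain ⟨δ, hδ, ι, _, _, G, A, s, hs, hG, hdet, hiso, hT⟩ := hP.exists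
  have hcard : Fintype.card ι = 2 * d + 1 := by rw [card_of_rankType hT, hsum]
  obtain ⟨Q', hQ'⟩ : ∃ Q' : QuadraticForm F (ι → F),
      Q' = LinearMap.BilinMap.toQuadraticMap (Matrix.toBilin' G) := ⟨_, rfl⟩
  have hQ'app : ∀ v, Q' v = v ⬝ᵥ G *ᵥ v := by
    intro v
    rw [hQ', LinearMap.BilinMap.toQuadraticMap_apply, Matrix.toBilin'_apply']
  have hpol : QuadraticMap.polarBilin Q' = Matrix.toBilin' ((2 : F) • G) := by
    rw [hQ', LinearMap.BilinMap.polarBilin_toQuadraticMap]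
    apply LinearMap.ext₂
    intro v w
    rw [LinearMap.add_apply, LinearMap.add_apply, LinearMap.flip_apply, Matrix.toBilin'_apply',
      Matrix.toBilin'_apply', Matrix.toBilin'_apply', Matrix.smul_mulVec, dotProduct_smul,
      two_smul]
    congr 1
    rw [Matrix.dotProduct_mulVec, ← Matrix.mulVec_transpose, hG, dotProduct_comm]
  have hnd : (QuadraticMap.polarBilin Q').Nondegenerate := by
    rw [hpol]
    apply LinearMap.BilinForm.nondegenerate_toBilin'_iff_det_ne_zero.mpr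
    rw [Matrix.det_smul, hdet]
    exact mul_ne_zero (pow_ne_zero _ h2) (mul_ne_zero hδ (pow_ne_zero _ hs))
  obtain ⟨e, c, hc, he⟩ := Cfsg.Agent.Lib.H11.PSLGraph.exists_odd_form Q' hnd d hcard
  obtain ⟨P, hPd⟩ : ∃ P : Matrix (Unit ⊕ (Fin d ⊕ Fin d)) ι F,
      P = LinearMap.toMatrix' (e : (ι → F) →ₗ[F] (Unit ⊕ (Fin d ⊕ Fin d) → F)) := ⟨_, rfl⟩
  obtain ⟨Pi, hPid⟩ : ∃ Pi : Matrix ι (Unit ⊕ (Fin d ⊕ Fin d)) F,
      Pi = LinearMap.toMatrix' (e.symm : (Unit ⊕ (Fin d ⊕ Fin d) → F) →ₗ[F] (ι → F)) := ⟨_, rfl⟩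
  have hP1 : P * Pi = 1 := by
    rw [hPd, hPid, ← LinearMap.toMatrix'_comp]
    have : (e : (ι → F) →ₗ[F] (Unit ⊕ (Fin d ⊕ Fin d) → F)) ∘ₗ
        (e.symm : (Unit ⊕ (Fin d ⊕ Fin d) → F) →ₗ[F] (ι → F)) = LinearMap.id := by
      ext v : 1
      simp
    rw [this, LinearMap.toMatrix'_id]
  have hP2 : Pi * P = 1 := by
    rw [hPd, hPid, ← LinearMap.toMatrix'_comp]
    have : (e.symm : (Unit ⊕ (Fin d ⊕ Fin d) → F) →ₗ[F] (ι → F)) ∘ₗ
        (e : (ι → F) →ₗ[F] (Unit ⊕ (Fin d ⊕ Fin d) → F)) = LinearMap.id := by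
      ext v : 1
      simp
    rw [this, LinearMap.toMatrix'_id]
  apply transport (Cfsg.quadFormOdd d F) (fun v => v ⬝ᵥ G *ᵥ v) P Pi hP1 hP2 c⁻¹ _ A _ hT
  · intro v
    have h1 : P *ᵥ v = e v := by
      rw [hPd, LinearMap.toMatrix'_mulVec]
      rfl
    rw [h1]
    have h2' := he v
    rw [hQ'app] at h2'
    rw [h2']
    field_simp
  · intro v
    change (A *ᵥ v) ⬝ᵥ G *ᵥ (A *ᵥ v) = v ⬝ᵥ G *ᵥ v
    rw [Matrix.mulVec_mulVec, Matrix.dotProduct_mulVec, ← Matrix.vecMul_transpose A,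
      Matrix.vecMul_vecMul, ← Matrix.mul_assoc, hiso, ← Matrix.dotProduct_mulVec]

end realise

section order

variable {F : Type*} [Field F] {ι : Type} [Fintype ι] [DecidableEq ι]

/-- a unipotent element whose blocks have size at most `p` has order dividing `p` -/
theorem pow_eq_one_of_rankType {p : ℕ} [Fact p.Prime] [CharP F p] {μ : Multiset ℕ} (x : GL ι F)
    (hT : RankType (x : Matrix ι ι F) μ) (hle : ∀ a ∈ μ, a ≤ p) : x ^ p = 1 := by
  apply Units.ext
  rw [Units.val_pow_eq_pow_val, Units.val_one]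
  have h0 : ((x : Matrix ι ι F) - 1) ^ p = 0 := by
    apply eq_zero_of_rank_eq_zero
    rw [hT p]
    apply Multiset.sum_eq_zero
    intro y hy
    rw [Multiset.mem_map] at hy
    obtain ⟨a, ha, rfl⟩ := hy
    have := hle a ha
    omega
  rw [sub_one_pow_char] at h0
  exact sub_eq_zero.mp h0

/-- a unipotent element with a block of size at least two is not scalar -/
theorem not_scalar_of_rankType {μ : Multiset ℕ} (x : Matrix ι ι F) (hT : RankType x μ)
    (hbig : ∃ a ∈ μ, 2 ≤ a) (z : F) : x ≠ z • (1 : Matrix ι ι F) := by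
  intro hx
  obtain ⟨a, ha, ha2⟩ := hbig
  have hrank1 : (x - 1).rank ≠ 0 := by
    have := hT 1
    rw [pow_one] at this
    rw [this]
    intro h0
    have h1 := Multiset.sum_eq_zero_iff.mp h0 (a - 1) (Multiset.mem_map.mpr ⟨a, ha, rfl⟩)
    omega
  apply hrank1
  have hsub : x - 1 = (z - 1) • (1 : Matrix ι ι F) := by
    rw [hx, sub_smul, one_smul]
  have hnil := hT.pow_eq_zero
  rw [hsub, smul_pow, one_pow] at hnil
  by_cases hz : z - 1 = 0
  · rw [hsub, hz, zero_smul, Matrix.rank_zero]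
  · have h1 : ((z - 1) ^ μ.sum)⁻¹ • ((z - 1) ^ μ.sum • (1 : Matrix ι ι F)) = 0 := by
      rw [hnil, smul_zero]
    rw [smul_smul, inv_mul_cancel₀ (pow_ne_zero _ hz), one_smul] at h1
    rw [hsub, h1, smul_zero, Matrix.rank_zero]

end order

end Cfsg.Agent.Lib.H11.OrthReal
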