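import Mathlib
import Cfsg.Agent.Lib.H4.SLKDefs

/-!
# S2479 piece P20 (helper11): `idx_dvd`
-/

set_option autoImplicit false
open Polynomial

namespace Cfsg.Agent.Lib.H11.SLK

open Cfsg.Agent.Lib.H12.Cls Cfsg.Agent.Lib.H4.SLK

universe u
variable {F : Type u} [Field F]

/-- `dg g` divides every weighted degree sum of the tuple -/
theorem dg_dvd_sum {J : ℕ} (g : Fin J → F[X]) :
    dg g ∣ ∑ j : Fin J, ((j : ℕ) + 1) * (g j).natDegree := by
  classical
  refine Finset.dvd_sum ?_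
  intro j _
  by_cases hj : g j = 1
  · rw [hj, natDegree_one, mul_zero]
    exact dvd_zero _
  · have hmem : j ∈ supp g := (mem_supp g j).mpr hj
    have : dg g ∣ (j : ℕ) + 1 := by
      unfold dg
      exact Finset.gcd_dvd (f := fun j : Fin J => (j : ℕ) + 1) hmem
    exact Dvd.dvd.mul_right this _

/-- `dg τ ∣ n` for `τ ∈ TSet F J n` -/
theorem dg_dvd {J n : ℕ} (τ : TSet F J n) : dg τ.1 ∣ n := by
  have h := dg_dvd_sum τ.1
  rw [τ.2.2] at h
  exact h

/-- IDXDVD -/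
theorem idx_dvd [Fintype F] {n : ℕ} (τ : TSet F n n) :
    idx τ.1 ∣ Nat.gcd n (Fintype.card F - 1) := by
  unfold idx
  exact Nat.dvd_gcd ((Nat.gcd_dvd_right _ _).trans (dg_dvd τ)) (Nat.gcd_dvd_left _ _)

end Cfsg.Agent.Lib.H11.SLK
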