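import Cfsg.Agent.Lib.H11.UnitaryGen6
import Cfsg.Agent.Lib.H2.Unitary4

set_option autoImplicit false
set_option linter.unusedSimpArgs false
set_option linter.unusedSectionVars false
set_option linter.unusedVariables false

namespace Cfsg.Agent.Lib.H11.USimple

open Matrix
open scoped MatrixGroups LinearAlgebra.Projectivization Pointwise
open Cfsg.Agent.S0837 (Bs Bs_apply Bs_symm Bs_nondeg)
open Cfsg.Agent.S0782 (Tm Tm_mulVec Tm_det Bs_eq_herm exists_trace rot rot_mulVec rot_det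
  rot_preserves exists_hyp_partner hilbert90 gu_preserves guOfEquiv guOfEquiv_mulVec)
open Cfsg.Agent.Lib.H11.UGen

section trans
variable {F : Type*} [Field F] [Fintype F] {n : ℕ} {q : ℕ} (φ : F →+* F)

/-- the hyperbolic rotation as an element of `GU` -/
noncomputable def rotEl (hφ : ∀ x, φ x = x ^ q) (hφ2 : ∀ x, φ (φ x) = x) (a : F) (ha : a ≠ 0)
    (e f : Fin n → F) (h : Hyp φ e f) : ↥(Cfsg.GU n F q) :=
  ⟨Matrix.GeneralLinearGroup.mkOfDetNeZero (rot φ a e f) (by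
      rw [rot_det φ a ha e f h.ef h.fe]
      exact mul_ne_zero ha (inv_ne_zero ((map_ne_zero φ).2 ha))), by
    intro u v
    show Cfsg.hermForm n F q (rot φ a e f *ᵥ u) (rot φ a e f *ᵥ v) = _
    rw [← Bs_eq_herm φ hφ, ← Bs_eq_herm φ hφ]
    exact rot_preserves φ hφ2 a ha e f h.ee h.ff h.ef h.fe v u⟩

theorem rotEl_act (hφ : ∀ x, φ x = x ^ q) (hφ2 : ∀ x, φ (φ x) = x) (a : F) (ha : a ≠ 0)
    (e f : Fin n → F) (h : Hyp φ e f) (x : Fin n → F) :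
    act (rotEl φ hφ hφ2 a ha e f h) x =
      x + (a - 1) • (Bs φ n f x • e) + ((φ a)⁻¹ - 1) • (Bs φ n e x • f) :=
  rot_mulVec φ a e f h.ff x

theorem rotEl_det (hφ : ∀ x, φ x = x ^ q) (hφ2 : ∀ x, φ (φ x) = x) (a : F) (ha : a ≠ 0)
    (e f : Fin n → F) (h : Hyp φ e f) :
    (rotEl φ hφ hφ2 a ha e f h).1.1.det = a * (φ a)⁻¹ :=
  rot_det φ a ha e f h.ef h.fe

theorem guOfEquiv_act (hφ : ∀ x, φ x = x ^ q) (e : (Fin n → F) ≃ₗ[F] (Fin n → F))
    (he : ∀ u v, Bs φ n (e u) (e v) = Bs φ n u v) (v : Fin n → F) :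
    act (guOfEquiv φ hφ e he) v = e v := guOfEquiv_mulVec φ hφ e he v

/-- adjusting the determinant by a hyperbolic rotation -/
theorem exists_adjust (hF : Fintype.card F = q ^ 2) (hφ : ∀ x, φ x = x ^ q)
    (hφ2 : ∀ x, φ (φ x) = x) (hφne : φ ≠ RingHom.id F) (g : ↥(Cfsg.GU n F q))
    (e f : Fin n → F) (h : Hyp φ e f) :
    ∃ (a : F) (ha : a ≠ 0), (rotEl φ hφ hφ2 a ha e f h * g).1.1.det = 1 := by
  obtain ⟨δ, hδ_def⟩ : ∃ δ, δ = g.1.1.det := ⟨_, rfl⟩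
  have hN : δ * φ δ = 1 := by
    rw [hδ_def, hφ]
    exact Cfsg.Agent.Lib.H2.Unitary.det_norm hF g.1 g.2
  have hδ0 : δ ≠ 0 := by
    intro h0; rw [h0, zero_mul] at hN; exact zero_ne_one hN
  have hN' : δ⁻¹ * φ δ⁻¹ = 1 := by
    rw [map_inv₀, ← mul_inv, hN, inv_one]
  obtain ⟨a, ha0, ha⟩ := hilbert90 hφne hφ2 δ⁻¹ hN'
  refine ⟨a, ha0, ?_⟩
  rw [det_mul', rotEl_det, ha, ← hδ_def, inv_mul_cancel₀ hδ0]

/-- separation of independent vectors -/
theorem sep (hφ2 : ∀ x, φ (φ x) = x) (x y : Fin n → F) (hx : x ≠ 0)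
    (hxy : ¬ ∃ a : F, a • x = y) : ∃ v, Bs φ n x v = 0 ∧ Bs φ n y v = 1 := by
  have key : ∃ v, Bs φ n x v = 0 ∧ Bs φ n y v ≠ 0 := by
    by_contra hcon
    push Not at hcon
    obtain ⟨v₀, hv₀⟩ : ∃ v₀, Bs φ n x v₀ ≠ 0 := by
      by_contra h
      push Not at h
      exact hx ((Bs_nondeg φ n).1 x h)
    apply hxy
    refine ⟨φ (Bs φ n y v₀ / Bs φ n x v₀), ?_⟩
    have : y - φ (Bs φ n y v₀ / Bs φ n x v₀) • x = 0 := by
      apply (Bs_nondeg φ n).1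
      intro v
      have h1 := hcon (v - (Bs φ n x v / Bs φ n x v₀) • v₀) (by
        rw [map_sub, map_smul, smul_eq_mul, div_mul_cancel₀ _ hv₀, sub_self])
      rw [map_sub, map_smul, smul_eq_mul] at h1
      rw [map_sub, LinearMap.sub_apply, map_smulₛₗ, LinearMap.smul_apply, hφ2, smul_eq_mul]
      field_simp at h1 ⊢
      linear_combination h1
    exact (sub_eq_zero.1 this).symm
  obtain ⟨v, h1, h2⟩ := key
  refine ⟨(Bs φ n y v)⁻¹ • v, ?_, ?_⟩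
  · rw [map_smul, h1, smul_zero]
  · rw [map_smul, smul_eq_mul, inv_mul_cancel₀ h2]

/-- a hyperbolic partner of `x` orthogonal to `y` -/
theorem exists_partner_perp (hφ2 : ∀ x, φ (φ x) = x) (hφne : φ ≠ RingHom.id F)
    (x y : Fin n → F) (hy : y ≠ 0) (hxx : Bs φ n x x = 0) (hxy : Bs φ n x y = 0)
    (hne : ¬ ∃ a : F, a • y = x) : ∃ f, Hyp φ x f ∧ Bs φ n f y = 0 := by
  obtain ⟨v, h1, h2⟩ := sep φ hφ2 y x hy hne
  have hyx : Bs φ n y x = 0 := by rw [← sym φ hφ2 x y, hxy, map_zero]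
  have hvx : Bs φ n v x = 1 := by rw [← sym φ hφ2 x v, h2, map_one]
  have hvy : Bs φ n v y = 0 := by rw [← sym φ hφ2 y v, h1, map_zero]
  obtain ⟨t, ht⟩ := exists_trace hφne hφ2 (Bs φ n v v) (sym φ hφ2 v v)
  refine ⟨v + t • x, ⟨hxx, ?_, ?_, ?_⟩, ?_⟩
  · simp only [map_add, map_smulₛₗ, map_smul, LinearMap.add_apply, LinearMap.smul_apply,
      smul_eq_mul, hxx, h2, hvx, RingHom.id_apply]
    linear_combination ht
  · rw [map_add, map_smul, hxx, h2, smul_zero, add_zero]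
  · rw [map_add, LinearMap.add_apply, map_smulₛₗ, LinearMap.smul_apply, hxx, hvx, smul_zero,
      add_zero]
  · rw [map_add, LinearMap.add_apply, map_smulₛₗ, LinearMap.smul_apply, hvy, hxy, smul_zero,
      add_zero]

theorem li_pair (x y : Fin n → F) (hx : x ≠ 0) (hne : ¬ ∃ a : F, a • x = y) :
    LinearIndependent F ![x, y] := by
  rw [LinearIndependent.pair_iff' hx]
  intro a ha
  exact hne ⟨a, ha⟩

theorem not_smul_of_hyp (hφ2 : ∀ x, φ (φ x) = x) (x y : Fin n → F) (hxx : Bs φ n x x = 0)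
    (hxy : Bs φ n x y ≠ 0) : ¬ ∃ a : F, a • x = y := by
  rintro ⟨a, rfl⟩
  apply hxy
  rw [map_smul, hxx, smul_zero]

/-- transitivity on hyperbolic pairs (up to scalars), by elements of determinant one -/
theorem su_trans_hyp (hF : Fintype.card F = q ^ 2) (hφ : ∀ x, φ x = x ^ q)
    (hφ2 : ∀ x, φ (φ x) = x) (hφne : φ ≠ RingHom.id F) (x y x' y' : Fin n → F)
    (hxx : Bs φ n x x = 0) (hyy : Bs φ n y y = 0) (hxx' : Bs φ n x' x' = 0)
    (hyy' : Bs φ n y' y' = 0) (hxy : Bs φ n x y ≠ 0) (hxy' : Bs φ n x' y' = Bs φ n x y) :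
    ∃ g : ↥(Cfsg.GU n F q), g.1.1.det = 1 ∧ (∃ a : F, a ≠ 0 ∧ act g x = a • x') ∧
      ∃ b : F, b ≠ 0 ∧ act g y = b • y' := by
  have hx0 : x ≠ 0 := by
    rintro rfl
    rw [map_zero, LinearMap.zero_apply] at hxy
    exact hxy rfl
  have hx0' : x' ≠ 0 := by
    rintro rfl
    rw [map_zero, LinearMap.zero_apply] at hxy'
    exact hxy hxy'.symm
  have hyx : Bs φ n y x = φ (Bs φ n x y) := (sym φ hφ2 x y).symm
  have hyx' : Bs φ n y' x' = φ (Bs φ n x y) := by rw [← hxy']; exact (sym φ hφ2 x' y').symm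
  obtain ⟨e, he, hex⟩ := Cfsg.Agent.S0751.witt_family (Bs φ n) hφne hφ2 (Bs_symm φ hφ2 n)
    (Bs_nondeg φ n) 2 ![x, y] ![x', y']
    (li_pair x y hx0 (not_smul_of_hyp φ hφ2 x y hxx hxy))
    (li_pair x' y' hx0' (not_smul_of_hyp φ hφ2 x' y' hxx' (by rw [hxy']; exact hxy)))
    (by
      intro i j
      fin_cases i <;> fin_cases j <;> simp [hxx, hyy, hxx', hyy', hxy', hyx, hyx'])
  have hex0 : e x = x' := hex 0
  have hex1 : e y = y' := hex 1
  obtain ⟨c, hc_def⟩ : ∃ c, c = Bs φ n x y := ⟨_, rfl⟩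
  have hc0 : c ≠ 0 := by rw [hc_def]; exact hxy
  have hyp : Hyp φ x' (c⁻¹ • y') := by
    refine ⟨hxx', ?_, ?_, ?_⟩
    · simp only [map_smulₛₗ, map_smul, LinearMap.smul_apply, smul_eq_mul, hyy', mul_zero]
    · rw [map_smul, hxy', ← hc_def, smul_eq_mul, inv_mul_cancel₀ hc0]
    · rw [map_smulₛₗ, LinearMap.smul_apply, hyx', ← hc_def, map_inv₀, smul_eq_mul,
        inv_mul_cancel₀ ((map_ne_zero φ).2 hc0)]
  obtain ⟨a, ha0, hdet⟩ := exists_adjust φ hF hφ hφ2 hφne (guOfEquiv φ hφ e he) x' _ hyp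
  have hφa0 : φ a ≠ 0 := (map_ne_zero φ).2 ha0
  refine ⟨_, hdet, ⟨a, ha0, ?_⟩, ⟨(φ a)⁻¹, inv_ne_zero hφa0, ?_⟩⟩
  · rw [act_mul, guOfEquiv_act, hex0, rotEl_act]
    simp only [map_smulₛₗ, LinearMap.smul_apply, hxx', hyx', ← hc_def, smul_eq_mul, map_inv₀,
      inv_mul_cancel₀ ((map_ne_zero φ).2 hc0)]
    module
  · rw [act_mul, guOfEquiv_act, hex1, rotEl_act]
    simp only [map_smulₛₗ, LinearMap.smul_apply, hyy', hxy', ← hc_def, smul_eq_mul, mul_zero]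
    rw [zero_smul, smul_zero, add_zero, smul_smul, smul_smul, mul_assoc, mul_inv_cancel₀ hc0,
      mul_one]
    module

/-- transitivity on orthogonal isotropic pairs (up to a scalar), determinant one -/
theorem su_trans_ts (hF : Fintype.card F = q ^ 2) (hφ : ∀ x, φ x = x ^ q)
    (hφ2 : ∀ x, φ (φ x) = x) (hφne : φ ≠ RingHom.id F) (x y x' y' : Fin n → F)
    (hxx : Bs φ n x x = 0) (hyy : Bs φ n y y = 0) (hxx' : Bs φ n x' x' = 0)
    (hyy' : Bs φ n y' y' = 0) (hxy : Bs φ n x y = 0) (hxy' : Bs φ n x' y' = 0)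
    (hx0 : x ≠ 0) (hx0' : x' ≠ 0) (hne : ¬ ∃ a : F, a • x = y) (hne' : ¬ ∃ a : F, a • x' = y') :
    ∃ g : ↥(Cfsg.GU n F q), g.1.1.det = 1 ∧ (∃ a : F, a ≠ 0 ∧ act g x = a • x') ∧
      act g y = y' := by
  have hyx : Bs φ n y x = 0 := by rw [← sym φ hφ2 x y, hxy, map_zero]
  have hyx' : Bs φ n y' x' = 0 := by rw [← sym φ hφ2 x' y', hxy', map_zero]
  obtain ⟨e, he, hex⟩ := Cfsg.Agent.S0751.witt_family (Bs φ n) hφne hφ2 (Bs_symm φ hφ2 n)
    (Bs_nondeg φ n) 2 ![x, y] ![x', y'] (li_pair x y hx0 hne) (li_pair x' y' hx0' hne')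
    (by
      intro i j
      fin_cases i <;> fin_cases j <;> simp [hxx, hyy, hxx', hyy', hxy, hxy', hyx, hyx'])
  have hex0 : e x = x' := hex 0
  have hex1 : e y = y' := hex 1
  have hy0' : y' ≠ 0 := by
    rintro rfl
    exact hne' ⟨0, zero_smul _ _⟩
  have hne'' : ¬ ∃ a : F, a • y' = x' := by
    rintro ⟨a, ha⟩
    have ha0 : a ≠ 0 := by
      rintro rfl
      rw [zero_smul] at ha
      exact hx0' ha.symm
    exact hne' ⟨a⁻¹, by rw [← ha, smul_smul, inv_mul_cancel₀ ha0, one_smul]⟩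
  obtain ⟨f, hyp, hfy⟩ := exists_partner_perp φ hφ2 hφne x' y' hy0' hxx' hxy' hne''
  obtain ⟨a, ha0, hdet⟩ := exists_adjust φ hF hφ hφ2 hφne (guOfEquiv φ hφ e he) x' f hyp
  refine ⟨_, hdet, ⟨a, ha0, ?_⟩, ?_⟩
  · rw [act_mul, guOfEquiv_act, hex0, rotEl_act, hxx', hyp.fe]
    module
  · rw [act_mul, guOfEquiv_act, hex1, rotEl_act, hfy, hxy']
    module

/-- transitivity on isotropic vectors (up to a scalar), determinant one -/
theorem su_trans_sing (hF : Fintype.card F = q ^ 2) (hφ : ∀ x, φ x = x ^ q)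
    (hφ2 : ∀ x, φ (φ x) = x) (hφne : φ ≠ RingHom.id F) (x x' : Fin n → F)
    (hxx : Bs φ n x x = 0) (hxx' : Bs φ n x' x' = 0) (hx0 : x ≠ 0) (hx0' : x' ≠ 0) :
    ∃ g : ↥(Cfsg.GU n F q), g.1.1.det = 1 ∧ ∃ a : F, a ≠ 0 ∧ act g x = a • x' := by
  obtain ⟨e, he, hex⟩ := Cfsg.Agent.S0751.witt_family (Bs φ n) hφne hφ2 (Bs_symm φ hφ2 n)
    (Bs_nondeg φ n) 1 ![x] ![x']
    (by
      rw [linearIndependent_unique_iff]
      exact hx0)
    (by
      rw [linearIndependent_unique_iff]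
      exact hx0')
    (by
      intro i j
      fin_cases i; fin_cases j
      simp [hxx, hxx'])
  have hex0 : e x = x' := hex 0
  obtain ⟨f, hff, hef, hfe⟩ := exists_hyp_partner hφne hφ2 (Bs φ n) (Bs_symm φ hφ2 n)
    (Bs_nondeg φ n) x' hx0' hxx'
  have hyp : Hyp φ x' f := ⟨hxx', hff, hef, hfe⟩
  obtain ⟨a, ha0, hdet⟩ := exists_adjust φ hF hφ hφ2 hφne (guOfEquiv φ hφ e he) x' f hyp
  refine ⟨_, hdet, a, ha0, ?_⟩
  rw [act_mul, guOfEquiv_act, hex0, rotEl_act, hxx', hyp.fe]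
  module

end trans

end Cfsg.Agent.Lib.H11.USimple
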