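import Cfsg.Agent.Lib.H11.SuSp2
import Cfsg.Agent.Lib.H11.UnitarySimple1
import Cfsg.Agent.S0751

/-!
Subgroups of `SU_n(q)` containing unitary transvections: general tools.
-/

set_option autoImplicit false
set_option linter.unusedSimpArgs false
set_option linter.unusedSectionVars false
set_option linter.unusedVariables false

namespace Cfsg.Agent.Lib.H11.SuPar

open Matrix
open Cfsg.Agent.S0837 (Bs Bs_apply Bs_symm Bs_nondeg)
open Cfsg.Agent.S0782 (Bs_eq_herm gu_preserves exists_trace)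
open Cfsg.Agent.Lib.H11.UGen
open Cfsg.Agent.Lib.H11.SuSp (tv tv_val tv_mulVec tv_mem_GU tv_mem_SL gl_inj)
open Cfsg.Agent.Lib.H11.SubspMax (gl_mul_mulVec gl_inv_mulVec gl_mulVec_inv gl_ext)
open Cfsg.Agent.Lib.H28 (mem_specialLinear_iff mem_subspaceStabilizer_iff)

variable {F : Type*} [Field F] [Fintype F] {n q : ℕ} {φ : F →+* F}

/-- the centres of the transvections of `H` -/
def Cen (hφ : ∀ x, φ x = x ^ q) (hφ2 : ∀ x, φ (φ x) = x) (H : Subgroup (GL (Fin n) F)) :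
    Set (Fin n → F) :=
  {v | ∀ (c : F) (hv : Bs φ n v v = 0) (hc : c + φ c = 0), tv φ hφ hφ2 v c hv hc ∈ H}

section cen
variable (hφ : ∀ x, φ x = x ^ q) (hφ2 : ∀ x, φ (φ x) = x)

theorem Cen_smul {H : Subgroup (GL (Fin n) F)} {v : Fin n → F} (hv : v ∈ Cen hφ hφ2 H) (l : F) :
    l • v ∈ Cen hφ hφ2 H := by
  intro c hv' hc
  by_cases hl : l = 0
  · have : tv φ hφ hφ2 (l • v) c hv' hc = 1 := by
      apply gl_ext
      intro x
      rw [tv_mulVec, hl, zero_smul, smul_zero, add_zero, Units.val_one, Matrix.one_mulVec]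
    rw [this]; exact H.one_mem
  · have hvv : Bs φ n v v = 0 := by
      have h1 : Bs φ n (l • v) (l • v) = φ l * l * Bs φ n v v := by
        simp only [map_smulₛₗ, map_smul, LinearMap.smul_apply, smul_eq_mul, RingHom.id_apply]
        ring
      rw [h1] at hv'
      have h2 : φ l * l ≠ 0 := mul_ne_zero ((map_ne_zero φ).2 hl) hl
      exact (mul_eq_zero.1 hv').resolve_left h2
    have hc' : c * l * φ l + φ (c * l * φ l) = 0 := by
      rw [map_mul, map_mul, hφ2]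
      linear_combination (l * φ l) * hc
    have : tv φ hφ hφ2 (l • v) c hv' hc = tv φ hφ hφ2 v (c * l * φ l) hvv hc' := by
      apply gl_ext
      intro x
      rw [tv_mulVec, tv_mulVec]
      simp only [map_smulₛₗ, LinearMap.smul_apply, smul_eq_mul, smul_smul]
      congr 2
      ring
    rw [this]
    exact hv _ hvv hc'

theorem Cen_act {H : Subgroup (GL (Fin n) F)} (hHG : H ≤ Cfsg.GU n F q) {v : Fin n → F}
    (hv : v ∈ Cen hφ hφ2 H) {h : GL (Fin n) F} (hh : h ∈ H) : h.1 *ᵥ v ∈ Cen hφ hφ2 H := by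
  intro c hv' hc
  have hB : ∀ u w, Bs φ n (h.1 *ᵥ u) (h.1 *ᵥ w) = Bs φ n u w :=
    fun u w => gu_preserves φ hφ ⟨h, hHG hh⟩ u w
  have hvv : Bs φ n v v = 0 := by rw [← hB]; exact hv'
  have : tv φ hφ hφ2 (h.1 *ᵥ v) c hv' hc = h * tv φ hφ hφ2 v c hvv hc * h⁻¹ := by
    apply gl_ext
    intro x
    rw [gl_mul_mulVec, gl_mul_mulVec, tv_mulVec, tv_mulVec, Matrix.mulVec_add,
      Matrix.mulVec_smul, gl_mulVec_inv]
    congr 3
    rw [← hB v ((h⁻¹ : GL (Fin n) F).1 *ᵥ x), gl_mulVec_inv]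
  rw [this]
  exact H.mul_mem (H.mul_mem hh (hv c hvv hc)) (H.inv_mem hh)

theorem Cen_of_smul {H : Subgroup (GL (Fin n) F)} {v : Fin n → F} {l : F} (hl : l ≠ 0)
    (hv : l • v ∈ Cen hφ hφ2 H) : v ∈ Cen hφ hφ2 H := by
  have := Cen_smul hφ hφ2 hv l⁻¹
  rwa [smul_smul, inv_mul_cancel₀ hl, one_smul] at this

omit hφ hφ2 in
theorem tz_of_mem_GU (hφ : ∀ x, φ x = x ^ q) (hφ2 : ∀ x, φ (φ x) = x) {t : GL (Fin n) F}
    (ht : t ∈ Cfsg.GU n F q) {v : Fin n → F} {c : F} (htv : t.1 = Um φ v c)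
    (hv : Bs φ n v v = 0) (hv0 : v ≠ 0) : c + φ c = 0 := by
  have h1 : ∃ x, Bs φ n v x ≠ 0 := by
    by_contra hcon
    push Not at hcon
    exact hv0 ((Bs_nondeg φ n).1 v hcon)
  obtain ⟨x, hx⟩ := h1
  have h2 := gu_preserves φ hφ ⟨t, ht⟩ x x
  simp only [htv, Um_mulVec] at h2
  have h3 : φ (Bs φ n v x) = Bs φ n x v := (Bs_symm φ hφ2 n).eq v x
  simp only [map_add, map_smulₛₗ, map_smul, LinearMap.add_apply, LinearMap.smul_apply,
    smul_eq_mul, hv, map_mul, h3] at h2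
  have h4 : (c + φ c) * (Bs φ n v x * Bs φ n x v) = 0 := by linear_combination h2
  have h5 : Bs φ n x v ≠ 0 := by
    rw [← h3]; exact (map_ne_zero φ).2 hx
  exact (mul_eq_zero.1 h4).resolve_right (mul_ne_zero hx h5)

/-- a subgroup of `SU` all of whose isotropic vectors are centres is `SU` -/
theorem eq_of_Cen_all (hF : Fintype.card F = q ^ 2) (hn : 3 ≤ n) (h32 : ¬ (n = 3 ∧ q = 2))
    {H : Subgroup (GL (Fin n) F)}
    (hHG : H ≤ Cfsg.GU n F q ⊓ Cfsg.Geo.specialLinear (Fin n) F)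
    (hall : ∀ y : Fin n → F, Bs φ n y y = 0 → y ∈ Cen hφ hφ2 H) :
    H = Cfsg.GU n F q ⊓ Cfsg.Geo.specialLinear (Fin n) F := by
  have hφne := Cfsg.Agent.S0837.phi_ne_id φ hF hφ
  have hT : T φ ≤ H.comap (Subgroup.subtype (Cfsg.GU n F q)) := by
    unfold T
    rw [Subgroup.closure_le]
    rintro t ⟨v, c, hv, htv⟩
    show t.1 ∈ H
    by_cases hv0 : v = 0
    · have : t.1 = 1 := by
        apply gl_ext
        intro x
        rw [htv, Um_mulVec, hv0, smul_zero, add_zero, Units.val_one, Matrix.one_mulVec]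
      rw [this]; exact H.one_mem
    · have hc := tz_of_mem_GU hφ hφ2 t.2 htv hv hv0
      have : t.1 = tv φ hφ hφ2 v c hv hc := Units.ext htv
      rw [this]
      exact hall v hv c hv hc
  apply le_antisymm hHG
  intro g hg
  have hdet : g.1.det = 1 := (mem_specialLinear_iff g).1 hg.2
  have := mem_T_of_det φ hF hφ hφ2 hφne hn h32 ⟨g, hg.1⟩ hdet
  exact hT this

end cen

section misc

/-- an element mapping `W` into `W` stabilises `W` -/
theorem mem_stab_of_le {g : GL (Fin n) F} {W : Submodule F (Fin n → F)}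
    (h : ∀ w ∈ W, g.1 *ᵥ w ∈ W) : g ∈ Cfsg.Geo.subspaceStabilizer W := by
  rw [mem_subspaceStabilizer_iff]
  intro v
  refine ⟨h v, fun hv => ?_⟩
  let L : W →ₗ[F] W := (Matrix.toLin' g.1).restrict (fun w hw => by
    rw [Matrix.toLin'_apply]; exact h w hw)
  have hinj : Function.Injective L := by
    intro a b hab
    have h1 : g.1 *ᵥ a.1 = g.1 *ᵥ b.1 := by
      have := congrArg Subtype.val hab
      simpa [L, LinearMap.coe_restrict_apply, Matrix.toLin'_apply] using this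
    exact Subtype.ext (gl_inj g h1)
  obtain ⟨w, hw⟩ := LinearMap.surjective_of_injective hinj ⟨_, hv⟩
  have h2 : g.1 *ᵥ w.1 = g.1 *ᵥ v := by
    have := congrArg Subtype.val hw
    simpa [L, LinearMap.coe_restrict_apply, Matrix.toLin'_apply] using this
  rw [← gl_inj g h2]
  exact w.2

/-- duality: a vector outside a subspace is separated from it -/
theorem B_exists_perp_ne (hφ2 : ∀ x, φ (φ x) = x) (U : Submodule F (Fin n → F)) (x : Fin n → F)
    (hx : x ∉ U) : ∃ p, (∀ u ∈ U, Bs φ n p u = 0) ∧ Bs φ n p x ≠ 0 := by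
  obtain ⟨f, hfx, hfU⟩ := Submodule.exists_le_ker_of_notMem hx
  obtain ⟨p, hp⟩ : ∃ p : Fin n → F, p = fun i => φ (f (Pi.single i 1)) := ⟨_, rfl⟩
  have key : ∀ v, Bs φ n p v = f v := by
    intro v
    rw [Bs_apply, LinearMap.pi_apply_eq_sum_univ f v]
    refine Finset.sum_congr rfl fun i _ => ?_
    rw [hp, hφ2, smul_eq_mul]
    congr 2
    funext j
    simp [Pi.single_apply, eq_comm]
  refine ⟨p, fun u hu => ?_, by rw [key]; exact hfx⟩
  rw [key]
  exact hfU hu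

theorem exists_tz_ne (hφne : φ ≠ RingHom.id F) (hφ2 : ∀ x, φ (φ x) = x) :
    ∃ c : F, c ≠ 0 ∧ c + φ c = 0 := by
  have h1 : ∃ θ, φ θ ≠ θ := by
    by_contra hcon
    push Not at hcon
    exact hφne (RingHom.ext hcon)
  obtain ⟨θ, hθ⟩ := h1
  refine ⟨θ - φ θ, fun h => hθ (sub_eq_zero.1 h).symm, ?_⟩
  rw [map_sub, hφ2]; ring

/-- making a vector isotropic by adding a multiple of an isotropic vector -/
theorem exists_iso_add (hφne : φ ≠ RingHom.id F) (hφ2 : ∀ x, φ (φ x) = x) {p y : Fin n → F}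
    (hy : Bs φ n y y = 0) (hpy : Bs φ n p y ≠ 0) :
    ∃ a : F, Bs φ n (p + a • y) (p + a • y) = 0 := by
  have hS := Bs_symm φ hφ2 n
  obtain ⟨t, ht⟩ := exists_trace hφne hφ2 (Bs φ n p p) (hS.eq p p)
  obtain ⟨a, ha⟩ : ∃ a, a = t / Bs φ n p y := ⟨_, rfl⟩
  refine ⟨a, ?_⟩
  have h1 : Bs φ n y p = φ (Bs φ n p y) := (hS.eq p y).symm
  have e1 : a * Bs φ n p y = t := by rw [ha, div_mul_cancel₀ _ hpy]
  have e2 : φ a * φ (Bs φ n p y) = φ t := by rw [← map_mul, e1]
  simp only [map_add, map_smulₛₗ, map_smul, LinearMap.add_apply, LinearMap.smul_apply,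
    smul_eq_mul, hy, h1, mul_zero, add_zero, RingHom.id_apply]
  linear_combination ht + e1 + e2

end misc

end Cfsg.Agent.Lib.H11.SuPar
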