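import Cfsg.Agent.Lib.H11.UnitaryGen4

set_option autoImplicit false
set_option linter.unusedSimpArgs false
set_option linter.unusedSectionVars false
set_option linter.unusedVariables false

namespace Cfsg.Agent.Lib.H11.UGen

open Matrix
open Cfsg.Agent.S0837 (Bs Bs_apply Bs_symm Bs_nondeg)
open Cfsg.Agent.S0782 (Tm Tm_mulVec Tm_det Bs_eq_herm exists_trace rot rot_mulVec rot_det
  rot_preserves exists_hyp_partner hilbert90 gu_preserves)

section gen
variable {F : Type*} [Field F] [Fintype F] {n : ℕ} {q : ℕ} (φ : F →+* F)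

/-- all generalized unitary transvections (quasi-reflections and transvections) in `GU` -/
def uSet : Set ↥(Cfsg.GU n F q) := {g | ∃ (w : Fin n → F) (c : F), g.1.1 = Um φ w c}

/-- the subgroup they generate -/
def R : Subgroup ↥(Cfsg.GU n F q) := Subgroup.closure (uSet φ)

theorem uEl_mem_R (hφ : ∀ x, φ x = x ^ q) (hφ2 : ∀ x, φ (φ x) = x) (w : Fin n → F) (c : F)
    (hc : c + φ c + c * φ c * Bs φ n w w = 0) : uEl φ hφ hφ2 w c hc ∈ R φ :=
  Subgroup.subset_closure ⟨w, c, rfl⟩

theorem B_single_left (i : Fin n) (x : Fin n → F) : Bs φ n (Pi.single i 1) x = x i := by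
  rw [Bs_apply]
  have e : ∀ j, φ ((Pi.single i (1:F) : Fin n → F) j) = if j = i then 1 else 0 := by
    intro j
    rw [Pi.single_apply]
    split_ifs <;> simp
  simp only [e, mul_ite, mul_one, mul_zero, Finset.sum_ite_eq', Finset.mem_univ, if_true]

theorem B_single_right (hφ2 : ∀ x, φ (φ x) = x) (i : Fin n) (x : Fin n → F) :
    Bs φ n x (Pi.single i 1) = φ (x i) := by
  rw [← sym φ hφ2, B_single_left]

theorem B_single_single (i j : Fin n) :
    Bs φ n (Pi.single i 1) (Pi.single j 1) = if i = j then 1 else 0 := by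
  rw [B_single_left, Pi.single_apply]

/-- case A of the move -/
theorem exists_move_A (hφ : ∀ x, φ x = x ^ q) (hφ2 : ∀ x, φ (φ x) = x) (u w : Fin n → F)
    (hu : Bs φ n u u = 1) (hw : Bs φ n w w = 1) (hne : Bs φ n w u ≠ 1) :
    ∃ ρ ∈ R (q := q) φ, act ρ u = w ∧ ∀ x, Bs φ n u x = 0 → Bs φ n w x = 0 → act ρ x = x := by
  obtain ⟨A, hA_def⟩ : ∃ A, A = 1 - Bs φ n w u := ⟨_, rfl⟩
  have hA0 : A ≠ 0 := by rw [hA_def]; exact sub_ne_zero.2 (Ne.symm hne)
  have hφA : φ A = 1 - Bs φ n u w := by rw [hA_def, map_sub, map_one, sym φ hφ2]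
  have hφA0 : φ A ≠ 0 := (map_ne_zero φ).2 hA0
  have hdd : Bs φ n (u - w) (u - w) = A + φ A := by
    rw [hφA, hA_def]
    simp only [map_sub, LinearMap.sub_apply, hu, hw]
    ring
  have hdu : Bs φ n (u - w) u = A := by
    rw [hA_def, map_sub, LinearMap.sub_apply, hu]
  have hc : (-A⁻¹) + φ (-A⁻¹) + (-A⁻¹) * φ (-A⁻¹) * Bs φ n (u - w) (u - w) = 0 := by
    rw [hdd, map_neg, map_inv₀]
    field_simp
    ring
  refine ⟨uEl φ hφ hφ2 (u - w) (-A⁻¹) hc, uEl_mem_R φ hφ hφ2 _ _ hc, ?_, ?_⟩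
  · rw [uEl_act, hdu, neg_mul, inv_mul_cancel₀ hA0, neg_smul, one_smul]
    abel
  · intro x h1 h2
    apply uEl_act_of_orth
    rw [map_sub, LinearMap.sub_apply, h1, h2, sub_zero]

/-- `R` moves any unit vector to any other, fixing their common orthogonal complement -/
theorem exists_move (hF : Fintype.card F = q ^ 2) (hφ : ∀ x, φ x = x ^ q)
    (hφ2 : ∀ x, φ (φ x) = x) (u w : Fin n → F)
    (hu : Bs φ n u u = 1) (hw : Bs φ n w w = 1) :
    ∃ ρ ∈ R (q := q) φ, act ρ u = w ∧ ∀ x, Bs φ n u x = 0 → Bs φ n w x = 0 → act ρ x = x := by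
  by_cases hne : Bs φ n w u = 1
  · obtain ⟨l, hl, hl1⟩ := Cfsg.Agent.Lib.H2.Unitary.exists_norm_one_ne_one hF
    have hl' : (l : F) * φ l = 1 := by rw [hφ]; exact hl
    have hu0 : Bs φ n u u ≠ 0 := by rw [hu]; exact one_ne_zero
    have hu' : Bs φ n ((l : F) • u) ((l : F) • u) = 1 := by
      simp only [map_smulₛₗ, map_smul, LinearMap.smul_apply, smul_eq_mul, RingHom.id_apply, hu]
      linear_combination hl'
    have hne' : Bs φ n w ((l : F) • u) ≠ 1 := by
      rw [map_smul, hne, smul_eq_mul, mul_one]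
      exact hl1
    obtain ⟨ρ₂, hρ₂, hρ₂u, hρ₂x⟩ := exists_move_A φ hφ hφ2 ((l : F) • u) w hu' hw hne'
    refine ⟨ρ₂ * qEl φ hφ hφ2 u hu0 l hl', mul_mem hρ₂ (uEl_mem_R φ hφ hφ2 _ _ _), ?_, ?_⟩
    · rw [act_mul, qEl_act_self, hρ₂u]
    · intro x h1 h2
      rw [act_mul, qEl_act_of_orth φ hφ hφ2 u hu0 l hl' x h1]
      apply hρ₂x x _ h2
      rw [map_smulₛₗ, LinearMap.smul_apply, h1, smul_zero]
  · exact exists_move_A φ hφ hφ2 u w hu hw hne

theorem mem_R_of_fix (hF : Fintype.card F = q ^ 2) (hφ : ∀ x, φ x = x ^ q)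
    (hφ2 : ∀ x, φ (φ x) = x) (k : ℕ) :
    ∀ g : ↥(Cfsg.GU n F q),
      (∀ i : Fin n, k ≤ i.val → act g (Pi.single i 1) = Pi.single i 1) → g ∈ R φ := by
  induction k with
  | zero =>
    intro g h
    have : g = 1 := by
      apply Subtype.ext
      apply Units.ext
      ext i j
      have := congrFun (h j (Nat.zero_le _)) i
      simp only [act, Matrix.mulVec_single_one] at this
      rw [Subgroup.coe_one, Units.val_one, Matrix.one_apply]
      rw [Matrix.col_apply] at this
      rw [this, Pi.single_apply]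
    rw [this]
    exact one_mem _
  | succ k ih =>
    intro g h
    by_cases hk : k < n
    · obtain ⟨i₀, hi₀⟩ : ∃ i₀ : Fin n, i₀ = ⟨k, hk⟩ := ⟨_, rfl⟩
      obtain ⟨v, hv_def⟩ : ∃ v, v = act g (Pi.single i₀ 1) := ⟨_, rfl⟩
      have hvv : Bs φ n v v = 1 := by
        rw [hv_def, B_act φ hφ, B_single_single, if_pos rfl]
      have hee : Bs φ n (Pi.single i₀ (1 : F)) (Pi.single i₀ 1) = 1 := by
        rw [B_single_single, if_pos rfl]
      have horth : ∀ i : Fin n, k + 1 ≤ i.val → Bs φ n v (Pi.single i 1) = 0 ∧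
          Bs φ n (Pi.single i₀ (1 : F)) (Pi.single i 1) = 0 := by
        intro i hi
        have hne : i₀ ≠ i := by
          intro h0
          rw [← h0, hi₀] at hi
          simp at hi
        constructor
        · rw [hv_def, ← h i hi, B_act φ hφ, B_single_single, if_neg hne]
        · rw [B_single_single, if_neg hne]
      obtain ⟨ρ, hρ, hρv, hρx⟩ := exists_move φ hF hφ hφ2 v (Pi.single i₀ 1) hvv hee
      have hmem : ρ * g ∈ R φ := by
        apply ih
        intro i hi
        by_cases hik : i.val = k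
        · have : i = i₀ := by
            rw [hi₀]; exact Fin.ext hik
          rw [this, act_mul, ← hv_def, hρv]
        · have hi' : k + 1 ≤ i.val := by omega
          rw [act_mul, h i hi']
          exact hρx _ (horth i hi').1 (horth i hi').2
      have : g = ρ⁻¹ * (ρ * g) := by group
      rw [this]
      exact mul_mem (inv_mem hρ) hmem
    · apply ih
      intro i hi
      exact absurd i.2 (by omega)

theorem R_eq_top (hF : Fintype.card F = q ^ 2) (hφ : ∀ x, φ x = x ^ q)
    (hφ2 : ∀ x, φ (φ x) = x) : R (n := n) (q := q) φ = ⊤ := by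
  rw [eq_top_iff]
  intro g _
  apply mem_R_of_fix φ hF hφ hφ2 n g
  intro i hi
  exact absurd i.2 (by omega)

end gen

end Cfsg.Agent.Lib.H11.UGen
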