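import Cfsg.Agent.Lib.H24.CharKer
import Cfsg.Agent.Lib.H24.CharBasic
import Cfsg.Agent.Lib.L0.CharOps

/-!
# S1951, piece F1 / INT (helper11)

`P` a subgroup of the finite group `G`, `a : G` such that every non-identity element of `P` is
`G`-conjugate to `a`, `χ` a character of `G`.  Then

* `sum_subgroup` : `∑ x : P, χ x = χ 1 + (|P| - 1) χ a`;
* `sum_subgroup_nat` : `∑ x : P, χ x = |P| * n` for a natural number `n` (the multiplicity of the
  trivial character of `P` in the restriction of `χ`);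
* `exists_int_value` : if `P ≠ ⊥` then `χ a` is a rational integer `d`;
* `exists_int_mult` : `χ 1 = d + m * |P|` with `m : ℤ`;
* `one_le_mult` : if moreover `χ a ≠ χ 1` then `1 ≤ m`;
* `irr_value_ne_degree_of_simple` : for `G` simple non-abelian, `χ` irreducible non-trivial and
  `a ≠ 1`, indeed `χ a ≠ χ 1`;
* `int_simple` : the package for simple groups.
-/

set_option autoImplicit false

namespace Cfsg.Agent.Lib.H11.AE

open scoped ComplexConjugate
open Cfsg Cfsg.Agent.Lib.L0 Cfsg.Agent.Lib.H24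

variable {G : Type*} [Group G] [Finite G]

/-- The sum of a class function over a subgroup all of whose non-identity elements are conjugate
to `a`. -/
theorem sum_subgroup {χ : G → ℂ} (hχ : IsCharacter G χ) (P : Subgroup G) [Fintype P] (a : G)
    (hconj : ∀ x ∈ P, x ≠ 1 → ∃ g : G, g * a * g⁻¹ = x) :
    ∑ x : P, χ x = χ 1 + ((Nat.card P : ℂ) - 1) * χ a := by
  classical
  have hcl := isClassFunction_of_isCharacter hχ
  have hval : ∀ x : P, χ x = if x = 1 then χ 1 else χ a := by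
    intro x
    by_cases hx : x = 1
    · rw [if_pos hx, hx]; rfl
    · rw [if_neg hx]
      have hx' : (x : G) ≠ 1 := fun h => hx (Subtype.ext h)
      obtain ⟨g, hg⟩ := hconj x x.2 hx'
      rw [← hg]
      exact hcl a g
  rw [Finset.sum_congr rfl (fun x _ => hval x)]
  rw [Finset.sum_ite, Finset.sum_const, Finset.sum_const, Finset.filter_eq']
  simp only [Finset.mem_univ, if_true, Finset.card_singleton, one_smul, nsmul_eq_mul]
  have hcard : (Finset.filter (fun x : P => ¬ x = 1) Finset.univ).card = Nat.card P - 1 := by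
    rw [Finset.filter_not, Finset.card_sdiff_of_subset (Finset.subset_univ _), Finset.filter_eq']
    simp [Nat.card_eq_fintype_card]
  rw [hcard]
  have hpos : 1 ≤ Nat.card P := Nat.card_pos
  rw [Nat.cast_sub hpos, Nat.cast_one]

/-- The sum of a character over a subgroup is `|P|` times a natural number. -/
theorem sum_subgroup_nat {χ : G → ℂ} (hχ : IsCharacter G χ) (P : Subgroup G) [Fintype P] :
    ∃ n : ℕ, ∑ x : P, χ x = (Nat.card P : ℂ) * n := by
  classical
  have hres : IsCharacter P (fun h : P => χ h) := isCharacter_restrict P hχ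
  obtain ⟨n, hn⟩ := classInner_char_irr_nat hres (Cfsg.Agent.Lib.L0.isIrrCharacter_one (G := P))
  refine ⟨n, ?_⟩
  have hP0 : (Nat.card P : ℂ) ≠ 0 := by exact_mod_cast (Nat.card_pos (α := P)).ne'
  simp only [classInner, Pi.one_apply, map_one, mul_one] at hn
  rw [← hn, ← mul_assoc, mul_inv_cancel₀ hP0, one_mul]

/-- A rational number which is an algebraic integer (inside `ℂ`) is an integer. -/
theorem int_of_rat_isIntegral {z : ℂ} (q : ℚ) (hq : z = (q : ℂ)) (hz : IsIntegral ℤ z) :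
    ∃ d : ℤ, z = d := by
  have h2 : IsIntegral ℤ q := by
    rw [← isIntegral_algebraMap_iff (algebraMap ℚ ℂ).injective]
    simpa [hq] using hz
  obtain ⟨y, hy⟩ := IsIntegrallyClosed.isIntegral_iff.mp h2
  refine ⟨y, ?_⟩
  simp only [algebraMap_int_eq, eq_intCast] at hy
  rw [hq, ← hy]
  simp

/-- **F1 (1)**: the value at `a` is a rational integer. -/
theorem exists_int_value {χ : G → ℂ} (hχ : IsCharacter G χ) (P : Subgroup G) (hP : P ≠ ⊥) (a : G)
    (hconj : ∀ x ∈ P, x ≠ 1 → ∃ g : G, g * a * g⁻¹ = x) : ∃ d : ℤ, χ a = d := by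
  classical
  have := Fintype.ofFinite P
  obtain ⟨n, hn⟩ := sum_subgroup_nat hχ P
  obtain ⟨f, hf⟩ := isCharacter_apply_one hχ
  have hsum := sum_subgroup hχ P a hconj
  have hcard : 1 < Nat.card P := by
    rw [Subgroup.one_lt_card_iff_ne_bot]; exact hP
  have hne : ((Nat.card P : ℂ) - 1) ≠ 0 := by
    intro h
    have h1 : (Nat.card P : ℂ) = 1 := by linear_combination h
    have h2 : Nat.card P = 1 := by exact_mod_cast h1
    omega
  have hval : χ a = (((Nat.card P : ℚ) * n - f) / ((Nat.card P : ℚ) - 1) : ℚ) := by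
    rw [hn, hf] at hsum
    push_cast
    rw [eq_div_iff hne]
    linear_combination -hsum
  exact int_of_rat_isIntegral _ hval (isCharacter_isIntegral hχ a)

/-- **F1 (2)**: `χ 1 = d + m |P|`, in the form over `ℂ`. -/
theorem exists_int_mult {χ : G → ℂ} (hχ : IsCharacter G χ) (P : Subgroup G) (a : G)
    (hconj : ∀ x ∈ P, x ≠ 1 → ∃ g : G, g * a * g⁻¹ = x) (d : ℤ) (hd : χ a = d) :
    ∃ m : ℤ, χ 1 = (d : ℂ) + (m : ℂ) * (Nat.card P : ℂ) := by
  classical
  have := Fintype.ofFinite P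
  obtain ⟨n, hn⟩ := sum_subgroup_nat hχ P
  have hsum := sum_subgroup hχ P a hconj
  refine ⟨(n : ℤ) - d, ?_⟩
  rw [hn, hd] at hsum
  push_cast
  linear_combination -hsum

/-- **F1 (2)**, integer form: if `χ 1 = f` then `f = d + m |P|` in `ℤ`. -/
theorem exists_int_mult' {χ : G → ℂ} (hχ : IsCharacter G χ) (P : Subgroup G) (a : G)
    (hconj : ∀ x ∈ P, x ≠ 1 → ∃ g : G, g * a * g⁻¹ = x) (d : ℤ) (hd : χ a = d)
    (f : ℕ) (hf : χ 1 = f) :
    ∃ m : ℤ, (f : ℤ) = d + m * (Nat.card P : ℤ) := by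
  obtain ⟨m, hm⟩ := exists_int_mult hχ P a hconj d hd
  refine ⟨m, ?_⟩
  rw [hf] at hm
  exact_mod_cast hm

/-- `d ≤ f` for the integer value `d = χ a` and the degree `f = χ 1`. -/
theorem int_value_le {χ : G → ℂ} (hχ : IsCharacter G χ) (a : G) (d : ℤ) (hd : χ a = d)
    (f : ℕ) (hf : χ 1 = f) : d ≤ (f : ℤ) := by
  have h := isCharacter_norm_le hχ a
  rw [hd, hf] at h
  have h1 : ‖((d : ℤ) : ℂ)‖ = |(d : ℝ)| := by
    rw [show ((d : ℤ) : ℂ) = ((d : ℝ) : ℂ) by push_cast; rfl, Complex.norm_real, Real.norm_eq_abs]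
  have h2 : ‖((f : ℕ) : ℂ)‖ = (f : ℝ) := by
    rw [show ((f : ℕ) : ℂ) = ((f : ℝ) : ℂ) by push_cast; rfl, Complex.norm_real, Real.norm_eq_abs,
      abs_of_nonneg (Nat.cast_nonneg f)]
  rw [h1, h2] at h
  have h3 : (d : ℝ) ≤ (f : ℝ) := le_trans (le_abs_self _) h
  exact_mod_cast h3

/-- **F1 (3)**: if `χ a ≠ χ 1` then `1 ≤ m`. -/
theorem one_le_mult {χ : G → ℂ} (hχ : IsCharacter G χ) (P : Subgroup G) (a : G)
    (d : ℤ) (hd : χ a = d) (f : ℕ) (hf : χ 1 = f) (hne : χ a ≠ χ 1)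
    (m : ℤ) (hm : (f : ℤ) = d + m * (Nat.card P : ℤ)) : 1 ≤ m := by
  have hle := int_value_le hχ a d hd f hf
  have hlt : d < (f : ℤ) := by
    refine lt_of_le_of_ne hle ?_
    intro h
    apply hne
    rw [hd, hf, h]
    push_cast
    rfl
  have hP : (0 : ℤ) < (Nat.card P : ℤ) := by exact_mod_cast (Nat.card_pos (α := P))
  have hpos : 0 < m * (Nat.card P : ℤ) := by linarith
  have hm0 : 0 < m := by
    by_contra h
    have h' : m ≤ 0 := not_lt.mp h
    have : m * (Nat.card P : ℤ) ≤ 0 := mul_nonpos_of_nonpos_of_nonneg h' hP.le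
    linarith
  linarith

/-- In a non-abelian simple group a non-trivial irreducible character is faithful: its value at a
non-identity element differs from its degree. -/
theorem irr_value_ne_degree_of_simple [IsSimpleGroup G] {χ : G → ℂ} (hχ : IsIrrCharacter G χ)
    (hχ1 : χ ≠ fun _ => 1) {a : G} (ha : a ≠ 1) : χ a ≠ χ 1 := by
  intro h
  have hmem : a ∈ charKer χ (isCharacter_of_irr hχ) := mem_charKer.mpr h
  rcases (charKer_normal χ (isCharacter_of_irr hχ)).eq_bot_or_eq_top with hb | ht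
  · rw [hb, Subgroup.mem_bot] at hmem
    exact ha hmem
  · exact hχ1 (irr_eq_trivial_of_charKer_eq_top hχ ht)

omit [Finite G] in
/-- `a ≠ 1` as soon as `P ≠ ⊥` and all of `P \ {1}` is conjugate to `a`. -/
theorem ne_one_of_conj (P : Subgroup G) (hP : P ≠ ⊥) (a : G)
    (hconj : ∀ x ∈ P, x ≠ 1 → ∃ g : G, g * a * g⁻¹ = x) : a ≠ 1 := by
  intro ha
  apply hP
  rw [Subgroup.eq_bot_iff_forall]
  intro x hx
  by_contra hx1
  obtain ⟨g, hg⟩ := hconj x hx hx1
  apply hx1
  rw [← hg, ha, mul_one, mul_inv_cancel]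

/-- **F1, the package for simple groups**: `χ a = d ∈ ℤ`, `χ 1 = f ∈ ℕ`, `f = d + m |P|` with
`1 ≤ m` when `χ` is not the trivial character. -/
theorem int_simple [IsSimpleGroup G] {χ : G → ℂ} (hχ : IsIrrCharacter G χ)
    (P : Subgroup G) (hP : P ≠ ⊥) (a : G)
    (hconj : ∀ x ∈ P, x ≠ 1 → ∃ g : G, g * a * g⁻¹ = x) :
    ∃ (d : ℤ) (f : ℕ) (m : ℤ), χ a = d ∧ χ 1 = f ∧ (f : ℤ) = d + m * (Nat.card P : ℤ) ∧
      ((χ ≠ fun _ => 1) → 1 ≤ m) := by
  have hc := isCharacter_of_irr hχ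
  obtain ⟨d, hd⟩ := exists_int_value hc P hP a hconj
  obtain ⟨f, hf⟩ := isCharacter_apply_one hc
  obtain ⟨m, hm⟩ := exists_int_mult' hc P a hconj d hd f hf
  refine ⟨d, f, m, hd, hf, hm, fun hχ1 => ?_⟩
  exact one_le_mult hc P a d hd f hf
    (irr_value_ne_degree_of_simple hχ hχ1 (ne_one_of_conj P hP a hconj)) m hm

end Cfsg.Agent.Lib.H11.AE
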