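import Mathlib

/-!
# Element order bounds, part 2: irreducible polynomials over a finite field (helper11)

* `irr_dvd` : an irreducible `f ≠ X` of degree `d` divides `X^(q^d-1) - 1`;
* `sr_irr_dvd` : a self-reciprocal irreducible `f ≠ X ± 1` has even degree `2c` and divides
  `X^(q^c+1) - 1`.
-/

set_option autoImplicit false

namespace Cfsg.Agent.Lib.H11.EOB

open Polynomial

variable {F : Type*} [Field F] [Fintype F]

theorem irr_dvd {f : F[X]} (hf : Irreducible f) (h0 : f.coeff 0 ≠ 0) :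
    f ∣ X ^ (Fintype.card F ^ f.natDegree - 1) - 1 := by
  have h := (hf.natDegree_dvd_iff_dvd_X_pow_card_pow_sub_X (n := f.natDegree)).mp dvd_rfl
  rw [Nat.card_eq_fintype_card] at h
  have hpos : 1 ≤ Fintype.card F ^ f.natDegree := Nat.one_le_pow _ _ Fintype.card_pos
  have e : (X : F[X]) ^ Fintype.card F ^ f.natDegree - X
      = X * (X ^ (Fintype.card F ^ f.natDegree - 1) - 1) := by
    rw [mul_sub, mul_one, ← pow_succ', Nat.sub_add_cancel hpos]
  rw [e] at h
  rcases hf.prime.dvd_or_dvd h with h1 | h1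
  · exfalso
    have := hf.dvd_symm irreducible_X h1
    exact h0 (X_dvd_iff.mp this)
  · exact h1

theorem sr_irr_dvd {f : F[X]} (hf : Irreducible f) (h0 : f.coeff 0 ≠ 0) (hsr : f ∣ f.reverse)
    (h1 : f.eval 1 ≠ 0) (h2 : f.eval (-1) ≠ 0) :
    ∃ c, 1 ≤ c ∧ f.natDegree = 2 * c ∧ f ∣ X ^ (Fintype.card F ^ c + 1) - 1 := by
  have : Fact (Irreducible f) := ⟨hf⟩
  set K := AdjoinRoot f
  set α : K := AdjoinRoot.root f with hα
  have hfα : f.eval₂ (algebraMap F K) α = 0 := AdjoinRoot.eval₂_root f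
  have hα0 : α ≠ 0 := by
    intro h
    rw [hα, ← AdjoinRoot.mk_X, AdjoinRoot.mk_eq_zero] at h
    have := hf.dvd_symm irreducible_X h
    exact h0 (X_dvd_iff.mp this)
  -- `α⁻¹` is a root of `f`
  have hinv : f.eval₂ (algebraMap F K) α⁻¹ = 0 := by
    let _ : Invertible α⁻¹ := invertibleOfNonzero (inv_ne_zero hα0)
    have hrev : (f.reverse).eval₂ (algebraMap F K) α = 0 := by
      obtain ⟨g, hg⟩ := hsr
      rw [hg, eval₂_mul, hfα, zero_mul]
    have := (eval₂_reverse_eq_zero_iff (algebraMap F K) (α⁻¹) f).mp (by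
      have e : ⅟ (α⁻¹) = α := by
        rw [invOf_eq_inv, inv_inv]
      rw [e]; exact hrev)
    exact this
  let τ : K →ₐ[F] K := AdjoinRoot.liftAlgHom f (Algebra.ofId F K) α⁻¹ hinv
  have hτα : τ α = α⁻¹ := AdjoinRoot.liftAlgHom_root f _ _ _
  have hττ : τ.comp τ = AlgHom.id F K := by
    apply AdjoinRoot.algHom_ext
    show τ (τ α) = α
    rw [hτα, map_inv₀, hτα, inv_inv]
  have : Module.Finite F K := (AdjoinRoot.powerBasis hf.ne_zero).finite
  have : Finite K := Module.finite_of_finite F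
  have hd : Module.finrank F K = f.natDegree := by
    rw [(AdjoinRoot.powerBasis hf.ne_zero).finrank, AdjoinRoot.powerBasis_dim]
  obtain ⟨⟨jn, hjn⟩, hj⟩ := (FiniteField.bijective_frobeniusAlgHom_pow F K).2 τ
  simp only at hj
  have hjd : jn < f.natDegree := by rw [← hd]; exact hjn
  have hfrob : ∀ x : K, τ x = x ^ (Fintype.card F ^ jn) := by
    intro x
    rw [← hj, AlgHom.coe_pow, FiniteField.coe_frobeniusAlgHom, pow_iterate]
  have hord : f.natDegree ∣ 2 * jn := by
    rw [← hd, ← FiniteField.orderOf_frobeniusAlgHom F K]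
    apply orderOf_dvd_of_pow_eq_one
    rw [mul_comm, pow_mul, hj, sq]
    exact hττ
  have hj0 : jn ≠ 0 := by
    intro h
    have e := hfrob α
    rw [h, pow_zero, pow_one, hτα] at e
    have h3 : (α - 1) * (α + 1) = 0 := by
      have : α * α = 1 := by
        nth_rewrite 1 [← e]
        exact inv_mul_cancel₀ hα0
      linear_combination this
    rcases mul_eq_zero.mp h3 with h4 | h4
    · have h5 : α = algebraMap F K 1 := by rw [map_one]; exact sub_eq_zero.mp h4
      rw [h5, eval₂_at_apply] at hfα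
      exact h1 ((map_eq_zero _).mp hfα)
    · have h5 : α = algebraMap F K (-1) := by
        rw [map_neg, map_one]; exact eq_neg_of_add_eq_zero_left h4
      rw [h5, eval₂_at_apply] at hfα
      exact h2 ((map_eq_zero _).mp hfα)
  have hdeg : f.natDegree = 2 * jn := by
    obtain ⟨k, hk⟩ := hord
    have hk1 : k = 1 := by
      rcases Nat.lt_or_ge k 1 with h | h
      · interval_cases k; omega
      · rcases Nat.lt_or_ge 1 k with h' | h'
        · exfalso
          have : f.natDegree * 2 ≤ f.natDegree * k := Nat.mul_le_mul_left _ h'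
          omega
        · omega
    rw [hk, hk1, mul_one]
  refine ⟨jn, by omega, hdeg, ?_⟩
  rw [← AdjoinRoot.mk_eq_zero, map_sub, map_pow, map_one, AdjoinRoot.mk_X, ← hα, pow_succ,
    ← hfrob α, hτα, inv_mul_cancel₀ hα0, sub_self]

end Cfsg.Agent.Lib.H11.EOB
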