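import Mathlib
import Cfsg.Agent.Lib.H11.EOB1
import Cfsg.Agent.Lib.H11.EOB2

/-!
# Element order bounds, part 3: structure of self-reciprocal polynomials (helper11)
-/

set_option autoImplicit false

namespace Cfsg.Agent.Lib.H11.EOB

open Polynomial

variable {F : Type*} [Field F]

/-- self-reciprocal with nonzero constant term -/
def SR (μ : F[X]) : Prop := μ.coeff 0 ≠ 0 ∧ ∃ c : F, c ≠ 0 ∧ μ.reverse = C c * μ

theorem natDegree_reverse_of {f : F[X]} (h : f.coeff 0 ≠ 0) : f.reverse.natDegree = f.natDegree := by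
  rw [reverse_natDegree, natTrailingDegree_eq_zero.mpr (Or.inr h), Nat.sub_zero]

theorem reverse_reverse_of {f : F[X]} (h : f.coeff 0 ≠ 0) : f.reverse.reverse = f := by
  unfold reverse
  have := natDegree_reverse_of h
  unfold reverse at this
  rw [this, reflect_reflect]

theorem reverse_pow' (f : F[X]) (e : ℕ) : (f ^ e).reverse = f.reverse ^ e := by
  induction e with
  | zero =>
    rw [pow_zero, pow_zero]
    simpa using (reverse_C (1 : F))
  | succ e ih => rw [pow_succ, reverse_mul_of_domain, ih, pow_succ]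

theorem reverse_dvd_reverse {f g : F[X]} (h : f ∣ g) : f.reverse ∣ g.reverse := by
  obtain ⟨k, rfl⟩ := h
  rw [reverse_mul_of_domain]
  exact Dvd.intro _ rfl

theorem coeff_zero_ne_of_dvd {f g : F[X]} (h : f ∣ g) (hg : g.coeff 0 ≠ 0) : f.coeff 0 ≠ 0 := by
  obtain ⟨k, rfl⟩ := h
  rw [mul_coeff_zero] at hg
  exact left_ne_zero_of_mul hg

theorem coeff_zero_ne_of_dvd' {f g : F[X]} (hg : g.coeff 0 ≠ 0) :
    ∀ k, g = f * k → k.coeff 0 ≠ 0 := by
  intro k hk
  rw [hk, mul_coeff_zero] at hg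
  exact right_ne_zero_of_mul hg

theorem coeff_zero_reverse_ne {f : F[X]} (h : f ≠ 0) : f.reverse.coeff 0 ≠ 0 := by
  rw [coeff_zero_reverse]
  exact leadingCoeff_ne_zero.mpr h

theorem irreducible_reverse {f : F[X]} (hf : Irreducible f) (h0 : f.coeff 0 ≠ 0) :
    Irreducible f.reverse := by
  have hdeg := natDegree_reverse_of h0
  have hr0 : f.reverse.coeff 0 ≠ 0 := coeff_zero_reverse_ne hf.ne_zero
  refine ⟨?_, ?_⟩
  · intro hu
    have := natDegree_eq_zero_of_isUnit hu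
    rw [hdeg] at this
    exact hf.not_isUnit (by
      have h1 := hf.natDegree_pos
      omega)
  · intro a b hab
    have e : f = a.reverse * b.reverse := by
      rw [← reverse_mul_of_domain, ← hab, reverse_reverse_of h0]
    have ha0 : a.coeff 0 ≠ 0 := coeff_zero_ne_of_dvd (Dvd.intro _ hab.symm) hr0
    have hb0 : b.coeff 0 ≠ 0 := coeff_zero_ne_of_dvd (Dvd.intro_left _ hab.symm) hr0
    rcases hf.isUnit_or_isUnit e with h | h
    · left
      have h1 := natDegree_eq_zero_of_isUnit h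
      rw [natDegree_reverse_of ha0] at h1
      rw [eq_C_of_natDegree_eq_zero h1]
      rw [coeff_zero_eq_eval_zero] at ha0 ⊢
      rw [← coeff_zero_eq_eval_zero] at ha0 ⊢
      exact isUnit_C.mpr (IsUnit.mk0 _ ha0)
    · right
      have h1 := natDegree_eq_zero_of_isUnit h
      rw [natDegree_reverse_of hb0] at h1
      rw [eq_C_of_natDegree_eq_zero h1]
      exact isUnit_C.mpr (IsUnit.mk0 _ hb0)

theorem SR.ne_zero {μ : F[X]} (h : SR μ) : μ ≠ 0 := by
  intro h0
  exact h.1 (by rw [h0]; simp)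

/-- cancelling a self-reciprocal factor -/
theorem SR_of_mul {μ h μ' : F[X]} (hμ : SR μ) (e : μ = h * μ') (u : F) (hu : u ≠ 0)
    (hh : h.reverse = C u * h) : SR μ' := by
  obtain ⟨h0, c, hc, hrev⟩ := hμ
  have hh0 : h ≠ 0 := by
    rintro rfl
    rw [zero_mul] at e
    rw [e] at h0
    simp at h0
  refine ⟨coeff_zero_ne_of_dvd' h0 μ' e, c / u, div_ne_zero hc hu, ?_⟩
  rw [e, reverse_mul_of_domain, hh] at hrev
  have : h * (C u * μ'.reverse) = h * (C c * μ') := by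
    linear_combination hrev
  have h2 := mul_left_cancel₀ hh0 this
  have h3 : C (u⁻¹) * (C u * μ'.reverse) = μ'.reverse := by
    rw [← mul_assoc, ← C_mul, inv_mul_cancel₀ hu, C_1, one_mul]
  rw [← h3, h2, ← mul_assoc, ← C_mul, div_eq_inv_mul]

theorem SR_of_pow_mul {μ h μ' : F[X]} (hμ : SR μ) (k : ℕ) (e : μ = h ^ k * μ') (u : F) (hu : u ≠ 0)
    (hh : h.reverse = C u * h) : SR μ' := by
  refine SR_of_mul hμ e (u ^ k) (pow_ne_zero _ hu) ?_
  rw [reverse_pow', hh, mul_pow, C_pow]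

theorem peel_sr {μ f : F[X]} (hμ : SR μ) (hf : Irreducible f) (hfμ : f ∣ μ) (hsr : f ∣ f.reverse) :
    ∃ (e : ℕ) (μ' : F[X]), 1 ≤ e ∧ μ = f ^ e * μ' ∧ ¬ f ∣ μ' ∧ SR μ' := by
  obtain ⟨e, μ', hnd, he⟩ := WfDvdMonoid.max_power_factor hμ.ne_zero hf
  have hf0 : f.coeff 0 ≠ 0 := coeff_zero_ne_of_dvd hfμ hμ.1
  have he1 : 1 ≤ e := by
    rcases Nat.eq_zero_or_pos e with rfl | h
    · exfalso
      rw [pow_zero, one_mul] at he
      exact hnd (he ▸ hfμ)
    · exact h
  -- reverse f = C u * f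
  obtain ⟨g, hg⟩ := hsr
  have hrne : f.reverse ≠ 0 := by
    rw [Ne, reverse_eq_zero]; exact hf.ne_zero
  have hg0 : g ≠ 0 := by
    rintro rfl
    rw [mul_zero] at hg
    exact hrne hg
  have hdeg : g.natDegree = 0 := by
    have := natDegree_mul hf.ne_zero hg0
    rw [← hg, natDegree_reverse_of hf0] at this
    omega
  have hgC := eq_C_of_natDegree_eq_zero hdeg
  have hu : g.coeff 0 ≠ 0 := by
    intro h
    rw [h, C_0] at hgC
    exact hg0 hgC
  refine ⟨e, μ', he1, he, hnd, SR_of_pow_mul hμ e he (g.coeff 0) hu ?_⟩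
  rw [hg, hgC, mul_comm]
  simp

theorem peel_nsr {μ f : F[X]} (hμ : SR μ) (hf : Irreducible f) (hfμ : f ∣ μ) (hnsr : ¬ f ∣ f.reverse) :
    ∃ (e : ℕ) (μ' : F[X]), 1 ≤ e ∧ μ = (f * f.reverse) ^ e * μ' ∧ IsCoprime (f * f.reverse) μ' ∧
      SR μ' := by
  obtain ⟨e, μ₁, hnd, he⟩ := WfDvdMonoid.max_power_factor hμ.ne_zero hf
  have hf0 : f.coeff 0 ≠ 0 := coeff_zero_ne_of_dvd hfμ hμ.1
  have he1 : 1 ≤ e := by
    rcases Nat.eq_zero_or_pos e with rfl | h
    · exfalso
      rw [pow_zero, one_mul] at he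
      exact hnd (he ▸ hfμ)
    · exact h
  obtain ⟨h0, c, hc, hrev⟩ := hμ
  have hcu : IsUnit (C c : F[X]) := isUnit_C.mpr (IsUnit.mk0 _ hc)
  set g := f.reverse with hgdef
  have hgirr : Irreducible g := irreducible_reverse hf hf0
  have hgg : g.reverse = f := reverse_reverse_of hf0
  -- g^e ∣ μ
  have hge : g ^ e ∣ μ := by
    have h1 : (f ^ e).reverse ∣ μ.reverse := reverse_dvd_reverse (Dvd.intro _ he.symm)
    rw [reverse_pow', hrev] at h1
    exact (hcu.dvd_mul_left).mp h1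
  have hcop : IsCoprime f g := hf.coprime_iff_not_dvd.mpr hnsr
  have hge1 : g ^ e ∣ μ₁ := by
    rw [he] at hge
    exact (hcop.symm.pow (m := e) (n := e)).dvd_of_dvd_mul_left hge
  obtain ⟨μ', hμ'⟩ := hge1
  have hmain : μ = (f * g) ^ e * μ' := by
    rw [he, hμ', mul_pow, mul_assoc]
  have hnf : ¬ f ∣ μ' := fun h => hnd (hμ' ▸ h.mul_left _)
  have hng : ¬ g ∣ μ' := by
    intro h
    obtain ⟨k, hk⟩ := h
    have h1 : g ^ (e + 1) ∣ μ := by
      rw [hmain, hk, mul_pow]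
      exact Dvd.intro (f ^ e * k) (by ring)
    have h2 := reverse_dvd_reverse h1
    rw [reverse_pow', hgg, hrev] at h2
    have h3 : f ^ (e + 1) ∣ μ := (hcu.dvd_mul_left).mp h2
    rw [he, pow_succ] at h3
    have h4 : f ∣ μ₁ := by
      have hfe : f ^ e ≠ 0 := pow_ne_zero _ hf.ne_zero
      exact (mul_dvd_mul_iff_left hfe).mp h3
    exact hnd h4
  refine ⟨e, μ', he1, hmain, ?_, ?_⟩
  · exact IsCoprime.mul_left (hf.coprime_iff_not_dvd.mpr hnf) (hgirr.coprime_iff_not_dvd.mpr hng)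
  · refine SR_of_pow_mul ⟨h0, c, hc, hrev⟩ e hmain 1 one_ne_zero ?_
    rw [reverse_mul_of_domain, hgg, C_1, one_mul, mul_comm]

theorem eval_ne_of_dvd {f g : F[X]} (h : f ∣ g) {a : F} (hg : g.eval a ≠ 0) : f.eval a ≠ 0 := by
  obtain ⟨k, rfl⟩ := h
  rw [eval_mul] at hg
  exact left_ne_zero_of_mul hg

theorem X_pow_sub_one_dvd_of_dvd {a b : ℕ} (h : a ∣ b) : (X : F[X]) ^ a - 1 ∣ X ^ b - 1 := by
  obtain ⟨k, rfl⟩ := h
  exact pow_one_sub_dvd_pow_mul_sub_one X a k

variable [Fintype F]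

theorem peel {μ : F[X]} (hμ : SR μ) (h1 : μ.eval 1 ≠ 0) (h2 : μ.eval (-1) ≠ 0)
    (hdeg : μ.natDegree ≠ 0) :
    ∃ (s : Bool) (c e : ℕ) (h μ' : F[X]), 1 ≤ c ∧ 1 ≤ e ∧ μ = h ^ e * μ' ∧ IsCoprime h μ' ∧ SR μ' ∧
      h.natDegree = 2 * c ∧ h ∣ X ^ (bn (Fintype.card F) (s, c)) - 1 := by
  have hnu : ¬ IsUnit μ := fun h => hdeg (natDegree_eq_zero_of_isUnit h)
  obtain ⟨f, hf, hfμ⟩ := WfDvdMonoid.exists_irreducible_factor hnu hμ.ne_zero
  have hf0 : f.coeff 0 ≠ 0 := coeff_zero_ne_of_dvd hfμ hμ.1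
  by_cases hsr : f ∣ f.reverse
  · obtain ⟨e, μ', he1, he, hnd, hSR⟩ := peel_sr hμ hf hfμ hsr
    obtain ⟨c, hc1, hc2, hc3⟩ := sr_irr_dvd hf hf0 hsr (eval_ne_of_dvd hfμ h1) (eval_ne_of_dvd hfμ h2)
    refine ⟨false, c, e, f, μ', hc1, he1, he, hf.coprime_iff_not_dvd.mpr hnd, hSR, hc2, ?_⟩
    simpa [bn] using hc3
  · obtain ⟨e, μ', he1, he, hcop, hSR⟩ := peel_nsr hμ hf hfμ hsr
    have hgirr : Irreducible f.reverse := irreducible_reverse hf hf0
    have hgdeg : f.reverse.natDegree = f.natDegree := natDegree_reverse_of hf0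
    have hg0 : f.reverse.coeff 0 ≠ 0 := coeff_zero_reverse_ne hf.ne_zero
    refine ⟨true, f.natDegree, e, f * f.reverse, μ', hf.natDegree_pos, he1, he, hcop, hSR, ?_, ?_⟩
    · rw [natDegree_mul hf.ne_zero hgirr.ne_zero, hgdeg]; ring
    · have d1 := irr_dvd hf hf0
      have d2 := irr_dvd hgirr hg0
      rw [hgdeg] at d2
      have hcop' : IsCoprime f f.reverse := hf.coprime_iff_not_dvd.mpr hsr
      simpa [bn] using hcop'.mul_dvd d1 d2

/-- **Structure theorem** -/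
theorem struct (p : ℕ) [Fact p.Prime] : ∀ (n : ℕ) (μ : F[X]), μ.natDegree = n → SR μ → μ.eval 1 ≠ 0 →
    μ.eval (-1) ≠ 0 →
    ∃ (l : List (Bool × ℕ)) (E : ℕ), (∀ x ∈ l, 1 ≤ x.2) ∧ 2 * (bw l + E) ≤ μ.natDegree ∧
      (μ.natDegree ≠ 0 → l ≠ []) ∧
      ∀ T, E + 1 ≤ p ^ T → μ ∣ (X ^ (bL (Fintype.card F) l) - 1) ^ (p ^ T) := by
  intro n
  induction n using Nat.strong_induction_on with
  | _ n ih =>
    intro μ hn hμ h1 h2
    by_cases hdeg : μ.natDegree = 0
    · refine ⟨[], 0, by simp, by simp, fun h => absurd hdeg h, fun T _ => ?_⟩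
      have hμC := eq_C_of_natDegree_eq_zero hdeg
      have hu : IsUnit μ := by
        rw [hμC]
        refine isUnit_C.mpr (IsUnit.mk0 _ ?_)
        exact hμ.1
      exact hu.dvd
    · obtain ⟨s, c, e, h, μ', hc, he, hmul, hcop, hSR', hhdeg, hhdvd⟩ := peel hμ h1 h2 hdeg
      have hh0 : h ≠ 0 := by
        rintro rfl
        rw [zero_pow (by omega), zero_mul] at hmul
        exact hμ.ne_zero hmul
      have hμ'0 : μ' ≠ 0 := hSR'.ne_zero
      have hdegμ : μ.natDegree = e * (2 * c) + μ'.natDegree := by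
        rw [hmul, natDegree_mul (pow_ne_zero _ hh0) hμ'0, natDegree_pow, hhdeg]
      have hlt : μ'.natDegree < n := by
        rw [← hn, hdegμ]
        have : 1 * (2 * 1) ≤ e * (2 * c) := Nat.mul_le_mul he (Nat.mul_le_mul_left 2 hc)
        omega
      have hμ'dvd : μ' ∣ μ := Dvd.intro_left _ hmul.symm
      obtain ⟨l', E', hl', hw', hne', hdiv'⟩ :=
        ih μ'.natDegree hlt μ' rfl hSR' (eval_ne_of_dvd hμ'dvd h1) (eval_ne_of_dvd hμ'dvd h2)
      refine ⟨(s, c) :: l', max E' (e - 1), ?_, ?_, fun _ => List.cons_ne_nil _ _, ?_⟩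
      · intro x hx
        rcases List.mem_cons.mp hx with rfl | hx
        · exact hc
        · exact hl' x hx
      · rw [bw_cons, hdegμ]
        simp only
        have hce : c + (e - 1) ≤ e * c := by
          obtain ⟨e', rfl⟩ : ∃ e', e = e' + 1 := ⟨e - 1, by omega⟩
          obtain ⟨c', rfl⟩ : ∃ c', c = c' + 1 := ⟨c - 1, by omega⟩
          simp only [Nat.add_sub_cancel]
          nlinarith
        have hce2 : c ≤ e * c := Nat.le_mul_of_pos_left c (by omega)
        rcases le_total E' (e - 1) with hm | hm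
        · rw [max_eq_right hm]
          nlinarith
        · rw [max_eq_left hm]
          nlinarith
      · intro T hT
        have hT1 : E' + 1 ≤ p ^ T := le_trans (by
          have := le_max_left E' (e - 1); omega) hT
        have hT2 : e ≤ p ^ T := le_trans (by
          have := le_max_right E' (e - 1); omega) hT
        rw [hmul]
        apply IsCoprime.mul_dvd (hcop.pow_left)
        · calc h ^ e ∣ h ^ (p ^ T) := pow_dvd_pow h hT2
            _ ∣ (X ^ bn (Fintype.card F) (s, c) - 1) ^ (p ^ T) := pow_dvd_pow_of_dvd hhdvd _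
            _ ∣ _ := pow_dvd_pow_of_dvd (X_pow_sub_one_dvd_of_dvd (by
                rw [bL_cons]; exact Nat.dvd_lcm_left _ _)) _
        · calc μ' ∣ _ := hdiv' T hT1
            _ ∣ _ := pow_dvd_pow_of_dvd (X_pow_sub_one_dvd_of_dvd (by
                rw [bL_cons]; exact Nat.dvd_lcm_right _ _)) _

end Cfsg.Agent.Lib.H11.EOB
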