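import Mathlib
import Cfsg.Agent.Lib.H11.EOB3

/-!
# Element order bounds, part 4: the polynomial theorem (helper11)

`polyP`: a self-reciprocal `χ ∈ F_q[X]` with `χ(0) ≠ 0` of degree `≤ 2m` (or `2m+1` if `q` is odd and
`m ≥ 3`) divides `X^N - 1` or `X^N + 1` for some `N ≥ 1` with `(q-1) N ≤ q^(m+1)`.
-/

set_option autoImplicit false

namespace Cfsg.Agent.Lib.H11.EOB

open Polynomial

variable {F : Type*} [Field F]

theorem reverse_X' : (X : F[X]).reverse = 1 := by
  have := reverse_mul_X (1 : F[X])
  rw [one_mul] at this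
  rw [this]
  simpa using (reverse_C (1 : F))

theorem reverse_X_sub_C (a : F) (ha : a * a = 1) :
    (X - C a : F[X]).reverse = C (-a) * (X - C a) := by
  rw [sub_eq_add_neg, ← C_neg, reverse_add_C, reverse_X', natDegree_X, pow_one, mul_add, ← C_mul]
  have : -a * -a = 1 := by rw [neg_mul_neg, ha]
  rw [this, C_1, add_comm]

theorem strip {χ : F[X]} (a : F) (ha : a * a = 1) (hχ : SR χ) :
    ∃ (e : ℕ) (χ' : F[X]), χ = (X - C a) ^ e * χ' ∧ χ'.eval a ≠ 0 ∧ SR χ' ∧ (χ.eval a ≠ 0 → e = 0) := by
  by_cases h : χ.eval a = 0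
  · have hf : Irreducible (X - C a : F[X]) := irreducible_X_sub_C a
    have hfχ : (X - C a) ∣ χ := dvd_iff_isRoot.mpr h
    have hsr : (X - C a : F[X]) ∣ (X - C a : F[X]).reverse := by
      rw [reverse_X_sub_C a ha]
      exact Dvd.intro_left _ rfl
    obtain ⟨e, χ', -, he, hnd, hSR⟩ := peel_sr hχ hf hfχ hsr
    refine ⟨e, χ', he, ?_, hSR, fun h' => absurd h h'⟩
    intro h0
    exact hnd (dvd_iff_isRoot.mpr h0)
  · exact ⟨0, χ, by simp, h, hχ, fun _ => rfl⟩

variable [Fintype F]

theorem two_mul_pred_le_sq (q : ℕ) : 2 * (q - 1) ≤ q ^ 2 := by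
  rcases Nat.eq_zero_or_pos q with rfl | h
  · simp
  · obtain ⟨k, rfl⟩ : ∃ k, q = k + 1 := ⟨q - 1, by omega⟩
    simp only [Nat.add_sub_cancel]
    nlinarith

theorem polyP (p : ℕ) [hp : Fact p.Prime] [CharP F p] {χ : F[X]} (hχ : SR χ) (m : ℕ)
    (hn : χ.natDegree ≤ 2 * m + 1) (h2 : p = 2 → χ.natDegree ≤ 2 * m)
    (h3 : χ.natDegree = 2 * m + 1 → 3 ≤ m) :
    ∃ N : ℕ, 1 ≤ N ∧ (Fintype.card F - 1) * N ≤ Fintype.card F ^ (m + 1) ∧
      (χ ∣ X ^ N - 1 ∨ χ ∣ X ^ N + 1) := by
  classical
  set q := Fintype.card F with hq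
  have hp2 : 2 ≤ p := hp.out.two_le
  obtain ⟨k, -, hk⟩ := FiniteField.card F p
  have hk1 : 1 ≤ (k : ℕ) := k.pos
  have hpq : p ≤ q := by
    rw [hq, hk]
    calc p = p ^ 1 := (pow_one p).symm
      _ ≤ p ^ (k : ℕ) := Nat.pow_le_pow_right (by omega) hk1
  have hq2 : 2 ≤ q := le_trans hp2 hpq
  have hqodd : p ≠ 2 → Odd q := by
    intro hne
    rw [hq, hk]
    exact (hp.out.odd_of_ne_two hne).pow
  have hp3 : p ≠ 2 → 3 ≤ p := by
    intro hne
    have := hp.out.odd_of_ne_two hne
    obtain ⟨j, hj⟩ := this
    omega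
  have hppow : ∀ T, p ^ T ≤ q ^ T := fun T => Nat.pow_le_pow_left hpq T
  -- strip the roots `1` and `-1`
  obtain ⟨e₁, χ₁, hχ₁, hχ₁1, hSR₁, -⟩ := strip (1 : F) (by ring) hχ
  obtain ⟨e₂, ν, hν, hν2, hSRν, he₂⟩ := strip (-1 : F) (by ring) hSR₁
  have hν1 : ν.eval 1 ≠ 0 := eval_ne_of_dvd (Dvd.intro_left _ hν.symm) hχ₁1
  -- if `e₂ ≥ 1` then `p ≠ 2`
  have hpne : 1 ≤ e₂ → p ≠ 2 := by
    intro he hp2'
    have h11 : (-1 : F) = 1 := by
      have : ((2 : ℕ) : F) = 0 := by
        rw [← hp2']; exact CharP.cast_eq_zero F p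
      have h2' : (2 : F) = 0 := by exact_mod_cast this
      linear_combination (-1 : F) * h2'
    have : e₂ = 0 := he₂ (by rw [h11]; exact hχ₁1)
    omega
  have hf1 : (X - C (1 : F) : F[X]) ≠ 0 := X_sub_C_ne_zero 1
  have hf2 : (X - C (-1 : F) : F[X]) ≠ 0 := X_sub_C_ne_zero (-1)
  have hν0 : ν ≠ 0 := hSRν.ne_zero
  -- degrees
  have hdeg : χ.natDegree = e₁ + (e₂ + ν.natDegree) := by
    rw [hχ₁, hν, natDegree_mul (pow_ne_zero _ hf1) (mul_ne_zero (pow_ne_zero _ hf2) hν0),
      natDegree_mul (pow_ne_zero _ hf2) hν0, natDegree_pow, natDegree_pow, natDegree_X_sub_C,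
      natDegree_X_sub_C, mul_one, mul_one]
  -- coprimality
  have hcop1 : IsCoprime ((X - C (1 : F)) ^ e₁) χ₁ :=
    ((irreducible_X_sub_C (1 : F)).coprime_iff_not_dvd.mpr
      (fun h => hχ₁1 (dvd_iff_isRoot.mp h))).pow_left
  have hcop2 : IsCoprime ((X - C (-1 : F)) ^ e₂) ν :=
    ((irreducible_X_sub_C (-1 : F)).coprime_iff_not_dvd.mpr
      (fun h => hν2 (dvd_iff_isRoot.mp h))).pow_left
  -- structure of `ν`
  obtain ⟨l, E, hl, hw, hne, hdiv⟩ := struct p ν.natDegree ν rfl hSRν hν1 hν2
  by_cases hlnil : l = []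
  · -- `ν` is a unit
    have hνdeg : ν.natDegree = 0 := by
      by_contra h
      exact hne h hlnil
    have hνu : IsUnit ν := by
      rw [eq_C_of_natDegree_eq_zero hνdeg]
      exact isUnit_C.mpr (IsUnit.mk0 _ hSRν.1)
    rw [hνdeg, add_zero] at hdeg
    have hχdvd : ∀ K, e₁ ≤ K → e₂ ≤ K → χ ∣ (X - C (1 : F)) ^ K * (X - C (-1 : F)) ^ K := by
      intro K h1 h2
      rw [hχ₁, hν]
      apply mul_dvd_mul (pow_dvd_pow _ h1)
      rw [hνu.mul_right_dvd]
      exact pow_dvd_pow _ h2
    rcases Nat.eq_zero_or_pos e₂ with he20 | he2pos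
    · -- only the root `1`
      set T := Nat.clog p e₁ with hT
      have hTle : e₁ ≤ p ^ T := Nat.le_pow_clog (by omega) e₁
      have hTm : T ≤ m := by
        rcases Nat.lt_or_ge e₁ 2 with h | h
        · have : T = 0 := by
            rw [hT]
            interval_cases e₁
            · exact Nat.clog_zero_right p
            · exact Nat.clog_one_right p
          omega
        · by_cases hp2' : p = 2
          · have := h2 hp2'
            have h4 := clog_two_le_half e₁
            rw [hT, hp2']
            omega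
          · have h4 := clog_le_half_of_three_le (hp3 hp2') h
            omega
      refine ⟨p ^ T, Nat.one_le_pow _ _ (by omega), ?_, Or.inl ?_⟩
      · calc (q - 1) * p ^ T ≤ q * q ^ T := Nat.mul_le_mul (Nat.sub_le _ _) (hppow T)
          _ = q ^ (T + 1) := by rw [pow_succ]; ring
          _ ≤ q ^ (m + 1) := Nat.pow_le_pow_right (by omega) (by omega)
      · have : χ ∣ (X - C (1 : F)) ^ (p ^ T) := by
          rw [hχ₁, hν, he20, pow_zero, one_mul]
          rw [hνu.mul_right_dvd]
          exact pow_dvd_pow _ hTle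
        rwa [sub_pow_char_pow, ← C_pow, one_pow, C_1] at this
    · have hpne2 : p ≠ 2 := hpne he2pos
      have hp3' := hp3 hpne2
      rcases Nat.eq_zero_or_pos e₁ with he10 | he1pos
      · -- only the root `-1`
        set T := Nat.clog p e₂ with hT
        have hTle : e₂ ≤ p ^ T := Nat.le_pow_clog (by omega) e₂
        have hTm : T ≤ m := by
          rcases Nat.lt_or_ge e₂ 2 with h | h
          · have : T = 0 := by
              rw [hT]
              interval_cases e₂
              exact Nat.clog_one_right p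
            omega
          · have h4 := clog_le_half_of_three_le hp3' h
            omega
        refine ⟨p ^ T, Nat.one_le_pow _ _ (by omega), ?_, Or.inr ?_⟩
        · calc (q - 1) * p ^ T ≤ q * q ^ T := Nat.mul_le_mul (Nat.sub_le _ _) (hppow T)
            _ = q ^ (T + 1) := by rw [pow_succ]; ring
            _ ≤ q ^ (m + 1) := Nat.pow_le_pow_right (by omega) (by omega)
        · have : χ ∣ (X - C (-1 : F)) ^ (p ^ T) := by
            rw [hχ₁, hν, he10, pow_zero, one_mul]
            rw [hνu.mul_right_dvd]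
            exact pow_dvd_pow _ hTle
          rwa [C_neg, sub_neg_eq_add, add_pow_char_pow, ← C_pow, one_pow, C_1] at this
      · -- both roots
        set e := max e₁ e₂ with he
        set T := Nat.clog p e with hT
        have hTle : e ≤ p ^ T := Nat.le_pow_clog (by omega) e
        have hm1 : 1 ≤ m := by
          by_contra h
          have : m = 0 := by omega
          subst this
          omega
        have hTm : T ≤ m - 1 := by
          apply Nat.clog_le_of_le_pow
          have h5 : 3 ^ (m - 1) ≤ p ^ (m - 1) := Nat.pow_le_pow_left hp3' _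
          have h6 : e ≤ χ.natDegree - 1 := by
            rw [he, hdeg]
            rcases le_total e₁ e₂ with h | h
            · rw [max_eq_right h]; omega
            · rw [max_eq_left h]; omega
          rcases Nat.lt_or_ge χ.natDegree (2 * m + 1) with h | h
          · have := three_pow_pred_ge m hm1
            omega
          · have h7 : χ.natDegree = 2 * m + 1 := by omega
            have := three_pow_pred_ge' m (h3 h7)
            omega
        refine ⟨2 * p ^ T, ?_, ?_, Or.inl ?_⟩
        · have := Nat.one_le_pow T p (by omega)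
          omega
        · have h8 := two_mul_pred_le_sq q
          calc (q - 1) * (2 * p ^ T) = (2 * (q - 1)) * p ^ T := by ring
            _ ≤ q ^ 2 * q ^ (m - 1) := Nat.mul_le_mul h8
                ((hppow T).trans (Nat.pow_le_pow_right (by omega) hTm))
            _ = q ^ (m + 1) := by rw [← pow_add]; congr 1; omega
        · have h9 := hχdvd (p ^ T) ((le_max_left _ _).trans hTle) ((le_max_right _ _).trans hTle)
          have h10 : (X - C (1 : F)) ^ p ^ T * (X - C (-1 : F)) ^ p ^ T = X ^ (2 * p ^ T) - 1 := by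
            have e1 : (X - C (1 : F)) * (X - C (-1 : F)) = X ^ 2 - 1 := by rw [C_neg, C_1]; ring
            rw [← mul_pow, e1, sub_pow_char_pow, one_pow, ← pow_mul]
          rwa [h10] at h9
  · -- there are blocks
    set w := bw l with hwdef
    set L := bL q l with hL
    have hLb : (q - 1) * L ≤ q ^ (w + 1) := bL_bound hq2 l hl
    have hLpos : 0 < L := bL_pos hq2 hl
    set M := max (E + 1) (max e₁ e₂) with hM
    set T := Nat.clog p M with hT
    have hTle : M ≤ p ^ T := Nat.le_pow_clog (by omega) M
    have hwT : w + T ≤ m := by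
      rcases le_total (max e₁ e₂) (E + 1) with hmax | hmax
      · have : M = E + 1 := max_eq_left hmax
        have h4 := clog_le_pred (p := p) (e := E + 1) hp2 (by omega)
        rw [hT, this]
        omega
      · have hMe : M = max e₁ e₂ := max_eq_right hmax
        set e := max e₁ e₂ with he
        have hee : e ≤ e₁ + e₂ := by
          rw [he]
          rcases le_total e₁ e₂ with h | h
          · rw [max_eq_right h]; omega
          · rw [max_eq_left h]; omega
        rcases Nat.lt_or_ge e 2 with h | h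
        · have : T = 0 := by
            rw [hT, hMe]
            have : e = 1 := by omega
            rw [this]
            exact Nat.clog_one_right p
          omega
        · by_cases hp2' : p = 2
          · have := h2 hp2'
            have h4 := clog_two_le_half e
            rw [hT, hMe, hp2']
            omega
          · have h4 := clog_le_half_of_three_le (hp3 hp2') h
            rw [hT, hMe]
            omega
    refine ⟨L * p ^ T, Nat.mul_pos hLpos (Nat.pow_pos (by omega)), ?_, Or.inl ?_⟩
    · calc (q - 1) * (L * p ^ T) = ((q - 1) * L) * p ^ T := by ring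
        _ ≤ q ^ (w + 1) * q ^ T := Nat.mul_le_mul hLb (hppow T)
        _ = q ^ (w + T + 1) := by rw [← pow_add]; congr 1; ring
        _ ≤ q ^ (m + 1) := Nat.pow_le_pow_right (by omega) (by omega)
    · have hgoal : (X : F[X]) ^ (L * p ^ T) - 1 = (X ^ L - 1) ^ (p ^ T) := by
        rw [sub_pow_char_pow, one_pow, pow_mul]
      rw [hgoal, hχ₁]
      apply IsCoprime.mul_dvd hcop1
      · calc (X - C (1 : F)) ^ e₁ ∣ (X - C (1 : F)) ^ (p ^ T) :=
              pow_dvd_pow _ (le_trans (le_trans (le_max_left _ _) (le_max_right _ _)) hTle)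
          _ ∣ (X ^ L - 1) ^ (p ^ T) := by
              apply pow_dvd_pow_of_dvd
              have := X_pow_sub_one_dvd_of_dvd (F := F) (one_dvd L)
              rwa [pow_one, ← C_1] at this
      · rw [hν]
        apply IsCoprime.mul_dvd hcop2
        · rcases Nat.eq_zero_or_pos e₂ with he20 | he2pos
          · rw [he20, pow_zero]; exact one_dvd _
          · have hpne2 : p ≠ 2 := hpne he2pos
            have hLeven : 2 ∣ L := even_bL (hqodd hpne2) hl hlnil
            calc (X - C (-1 : F)) ^ e₂ ∣ (X - C (-1 : F)) ^ (p ^ T) :=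
                pow_dvd_pow _ (le_trans (le_trans (le_max_right _ _) (le_max_right _ _)) hTle)
              _ ∣ (X ^ L - 1) ^ (p ^ T) := by
                apply pow_dvd_pow_of_dvd
                have h5 := X_pow_sub_one_dvd_of_dvd (F := F) hLeven
                refine dvd_trans ?_ h5
                refine ⟨X - 1, ?_⟩
                rw [C_neg, C_1]
                ring
        · exact hdiv T (le_trans (le_max_left _ _) hTle)

end Cfsg.Agent.Lib.H11.EOB
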