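import Mathlib
import Cfsg.Agent.Lib.H11.EOB4

/-!
# Element order bounds, part 5: matrices preserving a nondegenerate bilinear form (helper11)
-/

set_option autoImplicit false

namespace Cfsg.Agent.Lib.H11.EOB

open Polynomial Matrix

variable {F : Type*} [Field F]

theorem charpoly_SR {ι : Type*} [Fintype ι] [DecidableEq ι] (A M : Matrix ι ι F) (hM : IsUnit M)
    (h : Aᵀ * M * A = M) : SR A.charpoly := by
  have hMdet : IsUnit M.det := (Matrix.isUnit_iff_isUnit_det M).mp hM
  have hAdet : IsUnit A.det := by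
    have := congrArg Matrix.det h
    rw [Matrix.det_mul, Matrix.det_mul, Matrix.det_transpose] at this
    have hd : A.det * A.det * M.det = 1 * M.det := by rw [one_mul]; linear_combination this
    have hd2 := hMdet.mul_right_cancel hd
    exact IsUnit.of_mul_eq_one _ hd2
  have hA : IsUnit A := (Matrix.isUnit_iff_isUnit_det A).mpr hAdet
  have hdet0 : A.det ≠ 0 := hAdet.ne_zero
  -- A⁻¹ = M⁻¹ Aᵀ M
  obtain ⟨Mu, rfl⟩ := hM
  have hinv : A⁻¹ = (Mu⁻¹ : (Matrix ι ι F)ˣ).val * Aᵀ * Mu.val := by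
    apply Matrix.inv_eq_left_inv
    have : (Mu⁻¹ : (Matrix ι ι F)ˣ).val * Aᵀ * Mu.val * A = (Mu⁻¹ : (Matrix ι ι F)ˣ).val * (Aᵀ * Mu.val * A) := by
      simp only [Matrix.mul_assoc]
    rw [this, h, Units.inv_mul]
  have hcp : A⁻¹.charpoly = A.charpoly := by
    rw [hinv, Matrix.coe_units_inv, Matrix.charpoly_units_conj', Matrix.charpoly_transpose]
  have h1 := Matrix.charpoly_inv A hA
  rw [hcp, ← Matrix.reverse_charpoly, Ring.inverse_eq_inv'] at h1
  set u : F := (-1) ^ Fintype.card ι * (A.det)⁻¹ with hu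
  have hu0 : u ≠ 0 := mul_ne_zero (pow_ne_zero _ (by norm_num)) (inv_ne_zero hdet0)
  have h2 : A.charpoly = C u * A.charpoly.reverse := by
    rw [hu, C_mul, C_pow, C_neg, C_1]
    exact h1
  refine ⟨?_, u⁻¹, inv_ne_zero hu0, ?_⟩
  · have := Matrix.det_eq_sign_charpoly_coeff A
    intro h0
    rw [h0, mul_zero] at this
    exact hdet0 this
  · nth_rewrite 2 [h2]
    rw [← mul_assoc, ← C_mul, inv_mul_cancel₀ hu0, C_1, one_mul]

variable [Fintype F]

/-- a matrix preserving a nondegenerate bilinear form has a bounded power equal to `±1` -/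
theorem pow_eq_of_form {ι : Type*} [Fintype ι] [DecidableEq ι] (A M : Matrix ι ι F) (hM : IsUnit M)
    (h : Aᵀ * M * A = M) (p : ℕ) [Fact p.Prime] [CharP F p] (m : ℕ)
    (hn : Fintype.card ι ≤ 2 * m + 1) (h2 : p = 2 → Fintype.card ι ≤ 2 * m)
    (h3 : Fintype.card ι = 2 * m + 1 → 3 ≤ m) :
    ∃ N : ℕ, 1 ≤ N ∧ (Fintype.card F - 1) * N ≤ Fintype.card F ^ (m + 1) ∧ (A ^ N = 1 ∨ A ^ N = -1) := by
  have hSR := charpoly_SR A M hM h
  have hdeg : A.charpoly.natDegree = Fintype.card ι := Matrix.charpoly_natDegree_eq_dim A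
  obtain ⟨N, hN1, hN2, hN3⟩ := polyP p hSR m (by rw [hdeg]; exact hn) (by rw [hdeg]; exact h2)
    (by rw [hdeg]; exact h3)
  refine ⟨N, hN1, hN2, ?_⟩
  have h0 := Matrix.aeval_self_charpoly A
  rcases hN3 with ⟨k, hk⟩ | ⟨k, hk⟩
  · left
    have := congrArg (aeval A) hk
    rw [map_mul, h0, zero_mul, map_sub, map_pow, aeval_X, map_one] at this
    exact sub_eq_zero.mp this
  · right
    have := congrArg (aeval A) hk
    rw [map_mul, h0, zero_mul, map_add, map_pow, aeval_X, map_one] at this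
    exact eq_neg_of_add_eq_zero_left this

omit [Fintype F] in
/-- passing to the central quotient -/
theorem orderOf_mk_le {H : Type*} [Group H] {ι : Type*} [Fintype ι] [DecidableEq ι]
    (φ : H →* Matrix ι ι F) (hφ : Function.Injective φ) (h : H) (N : ℕ) (hN : 1 ≤ N)
    (hpow : φ h ^ N = 1 ∨ φ h ^ N = -1) :
    orderOf (QuotientGroup.mk h : H ⧸ Subgroup.center H) ≤ N := by
  have hc : h ^ N ∈ Subgroup.center H := by
    rw [Subgroup.mem_center_iff]
    intro b
    apply hφ
    rw [map_mul, map_mul, map_pow]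
    rcases hpow with e | e
    · rw [e, mul_one, one_mul]
    · rw [e, mul_neg, neg_mul, mul_one, one_mul]
  have h1 : (QuotientGroup.mk h : H ⧸ Subgroup.center H) ^ N = 1 := by
    rw [← QuotientGroup.mk_pow, QuotientGroup.eq_one_iff]
    exact hc
  exact Nat.le_of_dvd (by omega) (orderOf_dvd_of_pow_eq_one h1)

end Cfsg.Agent.Lib.H11.EOB
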