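import Mathlib
import Cfsg.Agent.Lib.H13.AutPSLGraphField
import Cfsg.Agent.Lib.H11.EOB5
import Cfsg.Agent.Lib.H26.APMPigeon
import Cfsg.Agent.Lib.H26.APMFix
import Cfsg.Agent.Lib.H26.APMArith

/-!
# Maximal element order of `Aut(PSL_d(q))`, part 1: field-type automorphisms (helper11)
-/

set_option autoImplicit false

namespace Cfsg.Agent.Lib.H11.APM

open Matrix Polynomial Cfsg.Agent.Lib.H13.AutPSL

variable {n : ℕ} {F : Type*} [Field F]

theorem finite_ringAut [Finite F] : Finite (F ≃+* F) :=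
  Finite.of_injective (fun e : F ≃+* F => (e : F → F))
    (fun _ _ hab => RingEquiv.ext (fun x => congrFun hab x))

theorem map_id_eq (M : Matrix (Fin n) (Fin n) F) : M.map ((1 : F ≃+* F)) = M := by
  ext x y; rfl

/-- the norm `N = g σ(g) ⋯ σ^{e-1}(g)` satisfies `g σ(N) = N g` when `σ^e = 1` -/
theorem PM_conj (σ : F ≃+* F) {e : ℕ} (hσ : σ ^ e = 1) (g : Matrix (Fin n) (Fin n) F) :
    g * (PM σ g e).map σ = PM σ g e * g := by
  have e1 := PM_succ σ g e
  have e2 := PM_succ_right σ g e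
  rw [hσ, map_id_eq] at e2
  rw [← e1, e2]

/-- the characteristic polynomial of the norm is `σ`-invariant -/
theorem charpoly_PG_map (σ : F ≃+* F) {e : ℕ} (hσ : σ ^ e = 1) (g : GL (Fin n) F) :
    ((PG σ g e : GL (Fin n) F) : Matrix (Fin n) (Fin n) F).charpoly.map (σ : F →+* F) =
      ((PG σ g e : GL (Fin n) F) : Matrix (Fin n) (Fin n) F).charpoly := by
  rw [PG_coe]
  have h1 := PM_conj σ hσ (g : Matrix (Fin n) (Fin n) F)
  have h2 : (PM σ (g : Matrix (Fin n) (Fin n) F) e).map σ =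
      ((g⁻¹ : GL (Fin n) F) : Matrix (Fin n) (Fin n) F) * PM σ (g : Matrix (Fin n) (Fin n) F) e *
        (g : Matrix (Fin n) (Fin n) F) := by
    rw [Matrix.mul_assoc, ← h1, ← Matrix.mul_assoc, ← Units.val_mul, inv_mul_cancel, Units.val_one,
      Matrix.one_mul]
  have h3 := Matrix.charpoly_map (PM σ (g : Matrix (Fin n) (Fin n) F) e) (σ : F →+* F)
  rw [← h3]
  have h4 : (PM σ (g : Matrix (Fin n) (Fin n) F) e).map ((σ : F →+* F) : F → F) =
      (PM σ (g : Matrix (Fin n) (Fin n) F) e).map σ := rfl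
  rw [h4, h2]
  have h5 := Matrix.charpoly_units_conj' g (PM σ (g : Matrix (Fin n) (Fin n) F) e)
  rw [Matrix.coe_units_inv]
  exact h5

/-- a power of `cGL` of a matrix with a scalar power is trivial -/
theorem cGL_pow_eq_one (N : GL (Fin n) F) (K : ℕ) (c : F)
    (h : (N : Matrix (Fin n) (Fin n) F) ^ K = c • (1 : Matrix (Fin n) (Fin n) F)) :
    (cGL N) ^ K = 1 := by
  rw [← map_pow]
  apply cGL_eq_one_of_mem_center
  rw [Subgroup.mem_center_iff]
  intro b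
  apply Units.ext
  rw [Units.val_mul, Units.val_mul, Units.val_pow_eq_pow_val, h]
  simp

variable [Fintype F]

/-- **Case A core**: automorphisms `c_g f_σ`. -/
theorem caseA_core (hn : 1 ≤ n) (g : GL (Fin n) F) (σ : F ≃+* F) :
    ∃ (q₀ K : ℕ), 2 ≤ q₀ ∧ q₀ ^ orderOf σ = Fintype.card F ∧ 1 ≤ K ∧ (q₀ - 1) * K ≤ q₀ ^ n - 1 ∧
      (cGL g * fAut σ) ^ (orderOf σ * K) = 1 := by
  classical
  obtain ⟨K₀, hK₀, hcard⟩ := Cfsg.Agent.Lib.H26.APM.exists_fixed_subfield σ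
  have : Fintype K₀ := Fintype.ofFinite K₀
  set e := orderOf σ with he
  have hσe : σ ^ e = 1 := pow_orderOf_eq_one σ
  set N := PG σ g e with hN
  obtain ⟨χ₀, hχ₀⟩ := Cfsg.Agent.Lib.H26.APM.lift_of_map_eq σ K₀ hK₀ _ (charpoly_PG_map σ hσe g)
  obtain ⟨K, hK1, hK2, c, hc⟩ := Cfsg.Agent.Lib.H26.APM.pigeon (K₀ := K₀) hn N χ₀ hχ₀.symm
  refine ⟨Fintype.card K₀, K, ?_, ?_, hK1, hK2, ?_⟩
  · exact Fintype.one_lt_card
  · rw [← hcard, Nat.card_eq_fintype_card]
  · rw [pow_mul, pow_cGL_fAut, hσe, map_one, mul_one]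
    exact cGL_pow_eq_one N K _ hc

/-- **Case A**: automorphisms `c_g f_σ` satisfy the bound. -/
theorem caseA (hn : 2 ≤ n) (g : GL (Fin n) F) (σ : F ≃+* F)
    (hex : ¬ (n = 2 ∧ Fintype.card F = 4)) :
    (Fintype.card F - 1) * orderOf (cGL g * fAut σ) ≤ Fintype.card F ^ n - 1 := by
  obtain ⟨q₀, K, hq₀, hcard, hK1, hK2, hpow⟩ := caseA_core (by omega) g σ
  have hF := Fintype.one_lt_card (α := F)
  have he : 1 ≤ orderOf σ := by
    by_contra h
    have h0 : orderOf σ = 0 := by omega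
    rw [h0, pow_zero] at hcard
    omega
  have hord : orderOf (cGL g * fAut σ) ≤ orderOf σ * K :=
    orderOf_le_of_pow_eq_one (Nat.mul_pos he hK1) hpow
  have hex' : ¬ (n = 2 ∧ q₀ = 2 ∧ orderOf σ = 2) := by
    rintro ⟨h1, h2, h3⟩
    apply hex
    refine ⟨h1, ?_⟩
    rw [← hcard, h2, h3]
    norm_num
  have h1 := Cfsg.Agent.Lib.H26.APM.arithA hq₀ he hn hK2 hex'
  rw [hcard] at h1
  exact (Nat.mul_le_mul_left _ hord).trans h1

end Cfsg.Agent.Lib.H11.APM
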