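import Mathlib
import Cfsg.Agent.Lib.H11.EOB4

/-!
# Maximal element order of `Aut(PSL_d(q))`, part 2: explicit form of the polynomial theorem (helper11)

`polyS`: a self-reciprocal `χ` over `F_q` divides `X^(L p^T) - 1`, with `L = lcm (bL q l) (1 or 2)`,
for explicit block data `l, E, e₁, e₂` and all sufficiently large `T`.
-/

set_option autoImplicit false

namespace Cfsg.Agent.Lib.H11.APM

open Polynomial Cfsg.Agent.Lib.H11.EOB

variable {F : Type*} [Field F] [Fintype F]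

theorem polyS (p : ℕ) [hp : Fact p.Prime] [CharP F p] {χ : F[X]} (hχ : SR χ) :
    ∃ (l : List (Bool × ℕ)) (E e₁ e₂ : ℕ), (∀ x ∈ l, 1 ≤ x.2) ∧
      2 * (bw l + E) + e₁ + e₂ ≤ χ.natDegree ∧ (l = [] → E = 0) ∧ (p = 2 → e₂ = 0) ∧
      ∀ T, E + 1 ≤ p ^ T → e₁ ≤ p ^ T → e₂ ≤ p ^ T →
        χ ∣ X ^ (Nat.lcm (bL (Fintype.card F) l) (if e₂ = 0 then 1 else 2) * p ^ T) - 1 := by
  classical
  set q := Fintype.card F with hq
  -- strip the roots `1` and `-1`
  obtain ⟨e₁, χ₁, hχ₁, hχ₁1, hSR₁, -⟩ := strip (1 : F) (by ring) hχ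
  obtain ⟨e₂, ν, hν, hν2, hSRν, he₂⟩ := strip (-1 : F) (by ring) hSR₁
  have hν1 : ν.eval 1 ≠ 0 := eval_ne_of_dvd (Dvd.intro_left _ hν.symm) hχ₁1
  have hpne : 1 ≤ e₂ → p ≠ 2 := by
    intro he hp2'
    have h11 : (-1 : F) = 1 := by
      have : ((2 : ℕ) : F) = 0 := by
        rw [← hp2']; exact CharP.cast_eq_zero F p
      have h2' : (2 : F) = 0 := by exact_mod_cast this
      linear_combination (-1 : F) * h2'
    have : e₂ = 0 := he₂ (by rw [h11]; exact hχ₁1)
    omega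
  have hf1 : (X - C (1 : F) : F[X]) ≠ 0 := X_sub_C_ne_zero 1
  have hf2 : (X - C (-1 : F) : F[X]) ≠ 0 := X_sub_C_ne_zero (-1)
  have hν0 : ν ≠ 0 := hSRν.ne_zero
  have hdeg : χ.natDegree = e₁ + (e₂ + ν.natDegree) := by
    rw [hχ₁, hν, natDegree_mul (pow_ne_zero _ hf1) (mul_ne_zero (pow_ne_zero _ hf2) hν0),
      natDegree_mul (pow_ne_zero _ hf2) hν0, natDegree_pow, natDegree_pow, natDegree_X_sub_C,
      natDegree_X_sub_C, mul_one, mul_one]
  have hcop1 : IsCoprime ((X - C (1 : F)) ^ e₁) χ₁ :=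
    ((irreducible_X_sub_C (1 : F)).coprime_iff_not_dvd.mpr
      (fun h => hχ₁1 (dvd_iff_isRoot.mp h))).pow_left
  have hcop2 : IsCoprime ((X - C (-1 : F)) ^ e₂) ν :=
    ((irreducible_X_sub_C (-1 : F)).coprime_iff_not_dvd.mpr
      (fun h => hν2 (dvd_iff_isRoot.mp h))).pow_left
  obtain ⟨l, E, hl, hw, hne, hdiv⟩ := struct p ν.natDegree ν rfl hSRν hν1 hν2
  refine ⟨l, E, e₁, e₂, hl, by omega, ?_, ?_, ?_⟩
  · intro hlnil
    have hνdeg : ν.natDegree = 0 := by
      by_contra h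
      exact hne h hlnil
    omega
  · intro hp2
    by_contra h
    exact hpne (by omega) hp2
  · intro T hT0 hT1 hT2
    set L := Nat.lcm (bL q l) (if e₂ = 0 then 1 else 2) with hL
    have hgoal : (X : F[X]) ^ (L * p ^ T) - 1 = (X ^ L - 1) ^ (p ^ T) := by
      rw [sub_pow_char_pow, one_pow, pow_mul]
    rw [hgoal, hχ₁]
    apply IsCoprime.mul_dvd hcop1
    · calc (X - C (1 : F)) ^ e₁ ∣ (X - C (1 : F)) ^ (p ^ T) := pow_dvd_pow _ hT1
        _ ∣ (X ^ L - 1) ^ (p ^ T) := by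
            apply pow_dvd_pow_of_dvd
            have := X_pow_sub_one_dvd_of_dvd (F := F) (one_dvd L)
            rwa [pow_one, ← C_1] at this
    · rw [hν]
      apply IsCoprime.mul_dvd hcop2
      · rcases Nat.eq_zero_or_pos e₂ with he20 | he2pos
        · rw [he20, pow_zero]; exact one_dvd _
        · have hLeven : 2 ∣ L := by
            rw [hL, if_neg (by omega)]
            exact Nat.dvd_lcm_right _ _
          calc (X - C (-1 : F)) ^ e₂ ∣ (X - C (-1 : F)) ^ (p ^ T) := pow_dvd_pow _ hT2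
            _ ∣ (X ^ L - 1) ^ (p ^ T) := by
              apply pow_dvd_pow_of_dvd
              have h5 := X_pow_sub_one_dvd_of_dvd (F := F) hLeven
              refine dvd_trans ?_ h5
              refine ⟨X - 1, ?_⟩
              rw [C_neg, C_1]
              ring
      · calc ν ∣ (X ^ (bL q l) - 1) ^ (p ^ T) := hdiv T hT0
          _ ∣ (X ^ L - 1) ^ (p ^ T) := by
            apply pow_dvd_pow_of_dvd
            exact X_pow_sub_one_dvd_of_dvd (Nat.dvd_lcm_left _ _)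

end Cfsg.Agent.Lib.H11.APM
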