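import Mathlib
import Cfsg.Agent.Lib.H11.APM2

/-!
# Maximal element order of `Aut(PSL_d(q))`, part 3: the polynomial bound for graph type (helper11)

`polyQ`: a self-reciprocal `χ` of degree `d ≥ 3` over `F_q`, `(d, q) ≠ (3, 2)`, divides `X^N ∓ 1` for some
`N ≥ 1` with `2 (q - 1) N ≤ q^d - 1`.
-/

set_option autoImplicit false

namespace Cfsg.Agent.Lib.H11.APM

open Polynomial Cfsg.Agent.Lib.H11.EOB

theorem odd_bn {q : ℕ} (hq2 : 2 ≤ q) (hq : Even q) {x : Bool × ℕ} (hx : 1 ≤ x.2) : ¬ 2 ∣ bn q x := by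
  have h1 : Even (q ^ x.2) := hq.pow_of_ne_zero (by omega)
  obtain ⟨k, hk⟩ := h1
  have hpos : 0 < q ^ x.2 := Nat.pow_pos (by omega)
  unfold bn
  split_ifs
  · rw [hk]; omega
  · rw [hk]; omega

theorem odd_bL {q : ℕ} (hq2 : 2 ≤ q) (hq : Even q) {l : List (Bool × ℕ)} (hl : ∀ x ∈ l, 1 ≤ x.2) :
    ¬ 2 ∣ bL q l := by
  induction l with
  | nil => simp
  | cons y l ih =>
    rw [bL_cons]
    intro h
    have h2 : 2 ∣ bn q y * bL q l := h.trans (Nat.lcm_dvd_mul _ _)
    rcases (Nat.Prime.dvd_mul Nat.prime_two).mp h2 with h3 | h3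
    · exact odd_bn hq2 hq (hl y (List.mem_cons_self ..)) h3
    · exact ih (fun x hx => hl x (List.mem_cons_of_mem _ hx)) h3

theorem bw_pos_of_ne_nil {l : List (Bool × ℕ)} (hl : ∀ x ∈ l, 1 ≤ x.2) (hne : l ≠ []) : 1 ≤ bw l := by
  cases l with
  | nil => exact absurd rfl hne
  | cons y l =>
    rw [bw_cons]
    have := hl y (List.mem_cons_self ..)
    omega

/-- arithmetic for the generic case -/
theorem arith_gen {q a b N : ℕ} (hq : 2 ≤ q) (hb : 3 ≤ q ^ b) (hN : (q - 1) * N ≤ q ^ a) :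
    2 * (q - 1) * N ≤ q ^ (a + b) - 1 := by
  have h1 : 1 ≤ q ^ a := Nat.one_le_pow _ _ (by omega)
  have h2 : q ^ (a + b) = q ^ a * q ^ b := pow_add q a b
  have h3 : 3 * q ^ a ≤ q ^ a * q ^ b := by
    rw [mul_comm]; exact Nat.mul_le_mul_left _ hb
  have : 2 * (q - 1) * N = 2 * ((q - 1) * N) := by ring
  rw [this, h2]
  omega

theorem arith3a {q : ℕ} (hq : 3 ≤ q) : 2 * (q - 1) * (2 * q) ≤ q ^ 3 - 1 := by
  obtain ⟨t, rfl⟩ : ∃ t, q = t + 3 := ⟨q - 3, by omega⟩
  have : 2 * (t + 3 - 1) * (2 * (t + 3)) + 1 ≤ (t + 3) ^ 3 := by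
    have : t + 3 - 1 = t + 2 := by omega
    rw [this]
    have h1 := Nat.zero_le (t ^ 3)
    have h2 := Nat.zero_le (t ^ 2)
    ring_nf
    linarith
  omega

theorem arith3b {q : ℕ} (hq : 3 ≤ q) : 2 * (q - 1) * (q + 1) ≤ q ^ 3 - 1 := by
  obtain ⟨t, rfl⟩ : ∃ t, q = t + 3 := ⟨q - 3, by omega⟩
  have : 2 * (t + 3 - 1) * (t + 3 + 1) + 1 ≤ (t + 3) ^ 3 := by
    have : t + 3 - 1 = t + 2 := by omega
    rw [this]
    have h1 := Nat.zero_le (t ^ 3)
    have h2 := Nat.zero_le (t ^ 2)
    ring_nf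
    linarith
  omega

theorem arith3c {q b : ℕ} (hq : 3 ≤ q) (h : (q - 1) * b ≤ q ^ (1 + 1)) : b ≤ q + 1 := by
  by_contra hb
  have h5 : q + 2 ≤ b := by omega
  have h6 : (q - 1) * (q + 2) ≤ q ^ (1 + 1) := (Nat.mul_le_mul_left _ h5).trans h
  obtain ⟨t, rfl⟩ : ∃ t, q = t + 3 := ⟨q - 3, by omega⟩
  have : t + 3 - 1 = t + 2 := by omega
  rw [this] at h6
  ring_nf at h6
  omega

theorem arith3d {q : ℕ} (hq : 4 ≤ q) : 2 * (q - 1) * 2 ^ 2 ≤ q ^ 3 - 1 := by
  have : 16 * q ≤ q ^ 3 := by
    have : q ^ 3 = q * q * q := by ring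
    rw [this]
    nlinarith
  omega

variable {F : Type*} [Field F] [Fintype F]

theorem polyQ (p : ℕ) [hp : Fact p.Prime] [CharP F p] {χ : F[X]} (hχ : SR χ) (d : ℕ) (hd : 3 ≤ d)
    (hdeg : χ.natDegree = d) (hex : ¬ (d = 3 ∧ Fintype.card F = 2)) :
    ∃ N : ℕ, 1 ≤ N ∧ 2 * (Fintype.card F - 1) * N ≤ Fintype.card F ^ d - 1 ∧
      (χ ∣ X ^ N - 1 ∨ χ ∣ X ^ N + 1) := by
  classical
  set q := Fintype.card F with hq
  have hp2 : 2 ≤ p := hp.out.two_le
  obtain ⟨k, -, hk⟩ := FiniteField.card F p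
  have hk1 : 1 ≤ (k : ℕ) := k.pos
  have hpq : p ≤ q := by
    rw [hq, hk]
    calc p = p ^ 1 := (pow_one p).symm
      _ ≤ p ^ (k : ℕ) := Nat.pow_le_pow_right (by omega) hk1
  have hq2 : 2 ≤ q := le_trans hp2 hpq
  have hqodd : p ≠ 2 → Odd q := by
    intro hne
    rw [hq, hk]
    exact (hp.out.odd_of_ne_two hne).pow
  have hqeven : p = 2 → Even q := by
    intro he
    rw [hq, hk, he]
    exact (even_two).pow_of_ne_zero (by omega)
  have hp3 : p ≠ 2 → 3 ≤ p := by
    intro hne
    have := hp.out.odd_of_ne_two hne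
    obtain ⟨j, hj⟩ := this
    omega
  set m := d / 2 with hm
  by_cases hgen : 3 ≤ q ^ (m - 1)
  · -- generic case: use `polyP`
    obtain ⟨N, hN1, hN2, hN3⟩ := polyP p hχ ((d + 1) / 2) (by rw [hdeg]; omega) (by rw [hdeg]; omega)
      (by rw [hdeg]; omega)
    refine ⟨N, hN1, ?_, hN3⟩
    have hab : d = ((d + 1) / 2 + 1) + (m - 1) := by omega
    rw [hab]
    exact arith_gen hq2 hgen hN2
  · -- special cases
    have hm2 : m ≤ 2 := by
      by_contra h
      have h1 : q ^ 2 ≤ q ^ (m - 1) := Nat.pow_le_pow_right (by omega) (by omega)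
      have h2 : 2 ^ 2 ≤ q ^ 2 := Nat.pow_le_pow_left hq2 2
      omega
    obtain ⟨l, E, e₁, e₂, hl, hsum, hlE, hpe, hdiv⟩ := polyS p hχ
    rw [hdeg] at hsum
    have hLb : (q - 1) * bL q l ≤ q ^ (bw l + 1) := bL_bound hq2 l hl
    have hLpos : 0 < bL q l := bL_pos hq2 hl
    by_cases hd3 : d = 3
    · -- degree 3
      have hq3 : 3 ≤ q := by
        by_contra h
        exact hex ⟨hd3, by omega⟩
      rw [hd3]
      by_cases hlnil : l = []
      · have hE := hlE hlnil
        subst hlnil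
        rw [bL_nil, Nat.lcm_one_left] at hdiv
        by_cases hp2' : p = 2
        · have he2 := hpe hp2'
          have h4 := hdiv 2 (by rw [hp2', hE]; norm_num) (by rw [hp2']; omega) (by rw [hp2']; omega)
          rw [if_pos he2, one_mul] at h4
          have hq4 : 4 ≤ q := by
            obtain ⟨j, hj⟩ := hqeven hp2'
            omega
          refine ⟨p ^ 2, Nat.one_le_pow _ _ (by omega), ?_, Or.inl h4⟩
          rw [hp2']
          exact arith3d hq4
        · have hp3' := hp3 hp2'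
          have h4 := hdiv 1 (by rw [hE, pow_one]; omega) (by rw [pow_one]; omega)
            (by rw [pow_one]; omega)
          rw [pow_one] at h4
          set L := (if e₂ = 0 then 1 else 2) with hL
          have hL1 : 1 ≤ L := by rw [hL]; split_ifs <;> omega
          have hL2 : L ≤ 2 := by rw [hL]; split_ifs <;> omega
          refine ⟨L * p, Nat.mul_pos hL1 (by omega), ?_, Or.inl h4⟩
          have h5 : L * p ≤ 2 * q := Nat.mul_le_mul hL2 hpq
          have h6 : 2 * (q - 1) * (L * p) ≤ 2 * (q - 1) * (2 * q) := Nat.mul_le_mul_left _ h5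
          exact h6.trans (arith3a hq3)
      · have hw1 := bw_pos_of_ne_nil hl hlnil
        have hw : bw l = 1 := by omega
        have hE : E = 0 := by omega
        have h4 := hdiv 0 (by rw [hE]; simp) (by simp; omega) (by simp; omega)
        rw [pow_zero, mul_one] at h4
        rw [hw] at hLb
        have hLle : bL q l ≤ q + 1 := arith3c hq3 hLb
        have hlcm : Nat.lcm (bL q l) (if e₂ = 0 then 1 else 2) = bL q l := by
          split_ifs with he2
          · exact Nat.lcm_one_right _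
          · have hpne : p ≠ 2 := fun h => he2 (hpe h)
            have := even_bL (hqodd hpne) hl hlnil
            exact Nat.lcm_eq_left this
        rw [hlcm] at h4
        refine ⟨bL q l, hLpos, ?_, Or.inl h4⟩
        have h6 : 2 * (q - 1) * bL q l ≤ 2 * (q - 1) * (q + 1) := Nat.mul_le_mul_left _ hLle
        exact h6.trans (arith3b hq3)
    · -- `q = 2`, `d ∈ {4, 5}`
      have hm2' : m = 2 := by omega
      have hq2' : q = 2 := by
        rw [hm2'] at hgen
        simp at hgen
        omega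
      have hp2' : p = 2 := by omega
      have he2 := hpe hp2'
      have hodd := odd_bL hq2 (hqeven hp2') hl
      have hdiv' : ∀ T, E + 1 ≤ 2 ^ T → e₁ ≤ 2 ^ T → χ ∣ X ^ (bL q l * 2 ^ T) - 1 := by
        intro T h1 h2
        have := hdiv T (by rw [hp2']; exact h1) (by rw [hp2']; exact h2) (by rw [he2]; omega)
        rwa [if_pos he2, Nat.lcm_one_right, hp2'] at this
      rw [hq2'] at hLb hodd hLpos hdiv' ⊢
      have hd45 : d = 4 ∨ d = 5 := by omega
      by_cases hlnil : l = []
      · have hE := hlE hlnil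
        subst hlnil
        rw [bL_nil] at hdiv'
        rcases hd45 with h | h
        · refine ⟨2 ^ 2, by norm_num, by rw [h]; norm_num, Or.inl ?_⟩
          have := hdiv' 2 (by omega) (by omega)
          rwa [one_mul] at this
        · refine ⟨2 ^ 3, by norm_num, by rw [h]; norm_num, Or.inl ?_⟩
          have := hdiv' 3 (by omega) (by omega)
          rwa [one_mul] at this
      · have hw1 := bw_pos_of_ne_nil hl hlnil
        have hw12 : bw l = 1 ∨ bw l = 2 := by omega
        rcases hw12 with hw | hw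
        · rw [hw] at hLb
          have hL3 : bL 2 l ≤ 3 := by
            norm_num at hLb
            by_contra h
            have : bL 2 l = 4 := by omega
            exact hodd ⟨2, by omega⟩
          rcases hd45 with h | h
          · refine ⟨bL 2 l * 2 ^ 1, by omega, by rw [h]; norm_num; omega, Or.inl ?_⟩
            exact hdiv' 1 (by omega) (by omega)
          · refine ⟨bL 2 l * 2 ^ 2, by omega, by rw [h]; norm_num; omega, Or.inl ?_⟩
            exact hdiv' 2 (by omega) (by omega)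
        · rw [hw] at hLb
          have hL7 : bL 2 l ≤ 7 := by
            norm_num at hLb
            by_contra h
            have : bL 2 l = 8 := by omega
            exact hodd ⟨4, by omega⟩
          refine ⟨bL 2 l * 2 ^ 0, by omega, ?_, Or.inl ?_⟩
          · rcases hd45 with h | h
            · rw [h]; norm_num; omega
            · rw [h]; norm_num; omega
          · exact hdiv' 0 (by omega) (by simp; omega)

end Cfsg.Agent.Lib.H11.APM
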