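import Mathlib
import Cfsg.Agent.Lib.H11.APM1
import Cfsg.Agent.Lib.H11.APM3

/-!
# Maximal element order of `Aut(PSL_d(q))`, part 4: graph-type automorphisms, `σ² ≠ 1` or `σ = 1` (helper11)
-/

set_option autoImplicit false

namespace Cfsg.Agent.Lib.H11.APM

open Matrix Polynomial Cfsg.Agent.Lib.H13.AutPSL Cfsg.Agent.Lib.H11.EOB

variable {n : ℕ} {F : Type*} [Field F] [Fintype F]

/-- **Case B1**: `c_g f_σ t` with `σ² ≠ 1`. -/
theorem caseB1 (hn : 3 ≤ n) (g : GL (Fin n) F) (σ : F ≃+* F) (hσ : σ * σ ≠ 1) :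
    (Fintype.card F - 1) * orderOf (cGL g * gfAut σ) ≤ Fintype.card F ^ n - 1 := by
  have hfin := finite_ringAut (F := F)
  have hF := Fintype.one_lt_card (α := F)
  have hsq := sq_cGL_gfAut σ g
  obtain ⟨q₁, K, hq₁, hcard, hK1, hK2, hpow⟩ := caseA_core (by omega) (g * gmap σ (tGL g)) (σ * σ)
  set e₂ := orderOf (σ * σ) with he₂
  have he0 : e₂ ≠ 0 := by
    intro h0
    rw [h0, pow_zero] at hcard
    omega
  have he1 : e₂ ≠ 1 := by
    intro h1
    exact hσ (orderOf_eq_one_iff.mp h1)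
  have he : 2 ≤ e₂ := by omega
  have hcase : 3 ≤ e₂ ∨ 4 ≤ q₁ := by
    by_cases h3 : 3 ≤ e₂
    · exact Or.inl h3
    · right
      have h2 : e₂ = 2 := by omega
      obtain ⟨K₀, -, hcard₀⟩ := Cfsg.Agent.Lib.H26.APM.exists_fixed_subfield σ
      have hq₀ : 2 ≤ Nat.card K₀ := by
        have : Fintype K₀ := Fintype.ofFinite K₀
        rw [Nat.card_eq_fintype_card]
        exact Fintype.one_lt_card
      have h4 : orderOf σ = 4 := by
        have h5 : orderOf (σ ^ 2) = orderOf σ / (orderOf σ).gcd 2 := orderOf_pow σ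
        rw [pow_two, ← he₂, h2] at h5
        have hpos : 0 < orderOf σ := orderOf_pos σ
        have h6 : (orderOf σ).gcd 2 ∣ 2 := Nat.gcd_dvd_right _ _
        have h7 : (orderOf σ).gcd 2 ∣ orderOf σ := Nat.gcd_dvd_left _ _
        have h8 : (orderOf σ).gcd 2 = 1 ∨ (orderOf σ).gcd 2 = 2 := by
          have := Nat.le_of_dvd (by omega) h6
          have hg0 : (orderOf σ).gcd 2 ≠ 0 := by
            intro h0
            rw [h0] at h6
            omega
          omega
        rcases h8 with h8 | h8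
        · rw [h8, Nat.div_one] at h5
          rw [← h5] at h8
          simp at h8
        · rw [h8] at h5 h7
          omega
      rw [h4] at hcard₀
      rw [h2] at hcard
      have h9 : (Nat.card K₀ ^ 2) ^ 2 = q₁ ^ 2 := by
        rw [hcard, ← hcard₀]
        ring
      have h10 : Nat.card K₀ ^ 2 = q₁ := Nat.pow_left_injective (by norm_num) h9
      rw [← h10]
      nlinarith
  have hpow' : (cGL g * gfAut σ) ^ (2 * e₂ * K) = 1 := by
    rw [mul_assoc, pow_mul, hsq]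
    exact hpow
  have hord : orderOf (cGL g * gfAut σ) ≤ 2 * e₂ * K :=
    orderOf_le_of_pow_eq_one (by positivity) hpow'
  have h1 := Cfsg.Agent.Lib.H26.APM.arithB hq₁ he hn hK2 hcase
  rw [hcard] at h1
  exact (Nat.mul_le_mul_left _ hord).trans h1

omit [Fintype F] in
/-- a matrix with `h ^ N = ± 1` has `cGL h ^ N = 1` -/
theorem cGL_pow_eq_one' (h : GL (Fin n) F) (N : ℕ)
    (hN : (h : Matrix (Fin n) (Fin n) F) ^ N = 1 ∨ (h : Matrix (Fin n) (Fin n) F) ^ N = -1) :
    (cGL h) ^ N = 1 := by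
  rcases hN with hN | hN
  · exact cGL_pow_eq_one h N 1 (by rw [hN, one_smul])
  · exact cGL_pow_eq_one h N (-1) (by rw [hN, neg_smul, one_smul])

omit [Fintype F] in
theorem pow_eq_of_dvd (A : Matrix (Fin n) (Fin n) F) (N : ℕ)
    (hN : A.charpoly ∣ X ^ N - 1 ∨ A.charpoly ∣ X ^ N + 1) : A ^ N = 1 ∨ A ^ N = -1 := by
  have h0 := Matrix.aeval_self_charpoly A
  rcases hN with ⟨k, hk⟩ | ⟨k, hk⟩
  · left
    have := congrArg (aeval A) hk
    rw [map_mul, h0, zero_mul, map_sub, map_pow, aeval_X, map_one] at this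
    exact sub_eq_zero.mp this
  · right
    have := congrArg (aeval A) hk
    rw [map_mul, h0, zero_mul, map_add, map_pow, aeval_X, map_one] at this
    exact eq_neg_of_add_eq_zero_left this

/-- **Case B2**: `c_g t`. -/
theorem caseB2 (hn : 3 ≤ n) (p : ℕ) [Fact p.Prime] [CharP F p] (g : GL (Fin n) F)
    (hex : ¬ (n = 3 ∧ Fintype.card F = 2)) :
    (Fintype.card F - 1) * orderOf (cGL g * gfAut (1 : F ≃+* F)) ≤ Fintype.card F ^ n - 1 := by
  have hsq := sq_cGL_gfAut (1 : F ≃+* F) g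
  rw [mul_one, map_one, mul_one] at hsq
  set h := g * gmap (1 : F ≃+* F) (tGL g) with hh
  set G : Matrix (Fin n) (Fin n) F := (g : Matrix (Fin n) (Fin n) F) with hG
  set Gi : Matrix (Fin n) (Fin n) F := ((g⁻¹ : GL (Fin n) F) : Matrix (Fin n) (Fin n) F) with hGi
  have hGGi : G * Gi = 1 := by rw [hG, hGi, ← Units.val_mul, mul_inv_cancel, Units.val_one]
  have hGiG : Gi * G = 1 := by rw [hG, hGi, ← Units.val_mul, inv_mul_cancel, Units.val_one]
  have hcoe : (h : Matrix (Fin n) (Fin n) F) = G * Giᵀ := by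
    rw [hh, Units.val_mul, gmap_coe, tGL_coe, map_id_eq]
  have hform : (h : Matrix (Fin n) (Fin n) F)ᵀ * Giᵀ * (h : Matrix (Fin n) (Fin n) F) = Giᵀ := by
    rw [hcoe, Matrix.transpose_mul, Matrix.transpose_transpose]
    calc Gi * Gᵀ * Giᵀ * (G * Giᵀ) = Gi * (Gᵀ * Giᵀ) * G * Giᵀ := by simp only [Matrix.mul_assoc]
      _ = Giᵀ := by
        rw [← Matrix.transpose_mul, hGiG, Matrix.transpose_one, Matrix.mul_one, hGiG, Matrix.one_mul]
  have hMunit : IsUnit Giᵀ := by
    refine ⟨⟨Giᵀ, Gᵀ, ?_, ?_⟩, rfl⟩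
    · rw [← Matrix.transpose_mul, hGGi, Matrix.transpose_one]
    · rw [← Matrix.transpose_mul, hGiG, Matrix.transpose_one]
  have hSR := charpoly_SR (h : Matrix (Fin n) (Fin n) F) Giᵀ hMunit hform
  have hdeg : (h : Matrix (Fin n) (Fin n) F).charpoly.natDegree = n := by
    rw [Matrix.charpoly_natDegree_eq_dim, Fintype.card_fin]
  obtain ⟨N, hN1, hN2, hN3⟩ := polyQ p hSR n hn hdeg hex
  have hpow : (cGL g * gfAut (1 : F ≃+* F)) ^ (2 * N) = 1 := by
    rw [pow_mul, hsq]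
    exact cGL_pow_eq_one' h N (pow_eq_of_dvd _ N hN3)
  have hord : orderOf (cGL g * gfAut (1 : F ≃+* F)) ≤ 2 * N :=
    orderOf_le_of_pow_eq_one (by omega) hpow
  calc (Fintype.card F - 1) * orderOf (cGL g * gfAut (1 : F ≃+* F))
      ≤ (Fintype.card F - 1) * (2 * N) := Nat.mul_le_mul_left _ hord
    _ = 2 * (Fintype.card F - 1) * N := by ring
    _ ≤ _ := hN2

end Cfsg.Agent.Lib.H11.APM
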