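import Mathlib
import Cfsg.Agent.Lib.H11.APM4
import Cfsg.Agent.Lib.H26.APMCase34

/-!
# Maximal element order of `Aut(PSL_d(q))`, part 5: graph-field automorphisms of unitary type (helper11)
-/

set_option autoImplicit false

namespace Cfsg.Agent.Lib.H11.APM

open Matrix Polynomial Cfsg.Agent.Lib.H13.AutPSL Cfsg.Agent.Lib.H11.EOB

theorem reverse_map_inj {R S : Type*} [Semiring R] [Semiring S] (f : R →+* S)
    (hf : Function.Injective f) (p : R[X]) : (p.map f).reverse = (p.reverse).map f := by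
  ext k
  rw [coeff_reverse, coeff_map, coeff_map, coeff_reverse, natDegree_map_eq_of_injective hf]

variable {F : Type*} [Field F]

/-- twisted self-reciprocity: `Bᵀ M A = M` with `M` invertible -/
theorem charpoly_twSR {ι : Type*} [Fintype ι] [DecidableEq ι] (A B M : Matrix ι ι F) (hM : IsUnit M)
    (h : Bᵀ * M * A = M) :
    A.charpoly.coeff 0 ≠ 0 ∧ ∃ u : F, u ≠ 0 ∧ A.charpoly.reverse = C u * B.charpoly := by
  have hMdet : IsUnit M.det := (Matrix.isUnit_iff_isUnit_det M).mp hM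
  have hAdet : IsUnit A.det := by
    have := congrArg Matrix.det h
    rw [Matrix.det_mul, Matrix.det_mul, Matrix.det_transpose] at this
    have hd : A.det * B.det * M.det = 1 * M.det := by rw [one_mul]; linear_combination this
    have hd2 := hMdet.mul_right_cancel hd
    exact IsUnit.of_mul_eq_one _ hd2
  have hA : IsUnit A := (Matrix.isUnit_iff_isUnit_det A).mpr hAdet
  have hdet0 : A.det ≠ 0 := hAdet.ne_zero
  obtain ⟨Mu, rfl⟩ := hM
  have hinv : A⁻¹ = (Mu⁻¹ : (Matrix ι ι F)ˣ).val * Bᵀ * Mu.val := by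
    apply Matrix.inv_eq_left_inv
    have : (Mu⁻¹ : (Matrix ι ι F)ˣ).val * Bᵀ * Mu.val * A =
        (Mu⁻¹ : (Matrix ι ι F)ˣ).val * (Bᵀ * Mu.val * A) := by
      simp only [Matrix.mul_assoc]
    rw [this, h, Units.inv_mul]
  have hcp : A⁻¹.charpoly = B.charpoly := by
    rw [hinv, Matrix.coe_units_inv, Matrix.charpoly_units_conj', Matrix.charpoly_transpose]
  have h1 := Matrix.charpoly_inv A hA
  rw [hcp, ← Matrix.reverse_charpoly, Ring.inverse_eq_inv'] at h1
  set u : F := (-1) ^ Fintype.card ι * (A.det)⁻¹ with hu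
  have hu0 : u ≠ 0 := mul_ne_zero (pow_ne_zero _ (by norm_num)) (inv_ne_zero hdet0)
  have h2 : B.charpoly = C u * A.charpoly.reverse := by
    rw [hu, C_mul, C_pow, C_neg, C_1]
    exact h1
  refine ⟨?_, u⁻¹, inv_ne_zero hu0, ?_⟩
  · have := Matrix.det_eq_sign_charpoly_coeff A
    intro h0
    rw [h0, mul_zero] at this
    exact hdet0 this
  · rw [h2, ← mul_assoc, ← C_mul, inv_mul_cancel₀ hu0, C_1, one_mul]

theorem map_map_invol (σ : F ≃+* F) (hσ2 : σ * σ = 1) (f : F[X]) :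
    (f.map (σ : F →+* F)).map (σ : F →+* F) = f := by
  rw [Polynomial.map_map]
  have : (σ : F →+* F).comp (σ : F →+* F) = RingHom.id F := by
    ext x
    have := congrArg (fun τ : F ≃+* F => τ x) hσ2
    simpa using this
  rw [this, Polynomial.map_id]

/-- the polynomial step for unitary type: a `σ`-twisted self-reciprocal `χ` divides `X^N ∓ 1` with `N` bounded in
terms of the fixed field of the involution `σ`. -/
theorem tw_poly [Fintype F] (p : ℕ) [Fact p.Prime] [CharP F p] (σ : F ≃+* F) (hσ2 : σ * σ = 1)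
    (K₀ : Subfield F) (hK : ∀ x, x ∈ K₀ ↔ σ x = x) [Fintype K₀]
    {χ : F[X]} (h0 : χ.coeff 0 ≠ 0) (u : F) (hu : u ≠ 0)
    (hrev : χ.reverse = C u * χ.map (σ : F →+* F)) :
    ∃ N : ℕ, 1 ≤ N ∧ (Fintype.card K₀ - 1) * N ≤ Fintype.card K₀ ^ (χ.natDegree + 1) ∧
      (χ ∣ X ^ N - 1 ∨ χ ∣ X ^ N + 1) := by
  classical
  have hσinj : Function.Injective (σ : F →+* F) := σ.injective
  have hσσ : ∀ x, σ (σ x) = x := by
    intro x
    have := congrArg (fun τ : F ≃+* F => τ x) hσ2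
    simpa using this
  set χσ := χ.map (σ : F →+* F) with hχσ
  set Ψ := χ * χσ with hΨ
  have hχ0 : χ ≠ 0 := by
    rintro rfl
    simp at h0
  have hχσ0 : χσ ≠ 0 := by
    rw [hχσ, Ne, Polynomial.map_eq_zero_iff hσinj]
    exact hχ0
  -- `Ψ` is `σ`-invariant
  have hΨσ : Ψ.map (σ : F →+* F) = Ψ := by
    rw [hΨ, Polynomial.map_mul, hχσ, map_map_invol σ hσ2, mul_comm]
  -- `Ψ` is self-reciprocal
  have hrevσ : χσ.reverse = C (σ u) * χ := by
    rw [hχσ, reverse_map_inj _ hσinj, hrev, Polynomial.map_mul, Polynomial.map_C,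
      map_map_invol σ hσ2]
    rfl
  have hΨrev : Ψ.reverse = C (u * σ u) * Ψ := by
    rw [hΨ, reverse_mul_of_domain, hrev, hrevσ, C_mul]
    ring
  have hΨ0 : Ψ.coeff 0 ≠ 0 := by
    rw [hΨ, mul_coeff_zero, hχσ, coeff_map]
    refine mul_ne_zero h0 ?_
    show σ (χ.coeff 0) ≠ 0
    rw [Ne, map_eq_zero_iff σ σ.injective]
    exact h0
  have hΨdeg : Ψ.natDegree = 2 * χ.natDegree := by
    rw [hΨ, natDegree_mul hχ0 hχσ0, hχσ, natDegree_map_eq_of_injective hσinj]
    ring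
  -- descend to `K₀`
  obtain ⟨Ψ₀, hΨ₀⟩ := Cfsg.Agent.Lib.H26.APM.lift_of_map_eq σ K₀ hK Ψ hΨσ
  have hιinj : Function.Injective K₀.subtype := K₀.subtype_injective
  have hcmem : u * σ u ∈ K₀ := by
    rw [hK, map_mul, hσσ, mul_comm]
  have hSR₀ : SR Ψ₀ := by
    refine ⟨?_, ⟨u * σ u, hcmem⟩, ?_, ?_⟩
    · intro h
      apply hΨ0
      rw [← hΨ₀, coeff_map, h, map_zero]
    · intro h
      have := congrArg Subtype.val h
      have hσu : σ u ≠ 0 := by
        rw [Ne, map_eq_zero_iff σ σ.injective]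
        exact hu
      exact mul_ne_zero hu hσu this
    · apply Polynomial.map_injective _ hιinj
      rw [← reverse_map_inj _ hιinj, hΨ₀, hΨrev, Polynomial.map_mul, Polynomial.map_C, hΨ₀]
      rfl
  have hdeg₀ : Ψ₀.natDegree = 2 * χ.natDegree := by
    rw [← hΨdeg, ← hΨ₀, natDegree_map_eq_of_injective hιinj]
  obtain ⟨N, hN1, hN2, hN3⟩ := polyP p hSR₀ χ.natDegree (by rw [hdeg₀]; omega) (by rw [hdeg₀]; omega)
    (by rw [hdeg₀]; omega)
  refine ⟨N, hN1, hN2, ?_⟩
  have hχΨ : χ ∣ Ψ := Dvd.intro _ rfl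
  rcases hN3 with h | h
  · left
    have h1 := Polynomial.map_dvd K₀.subtype h
    rw [hΨ₀] at h1
    simp only [Polynomial.map_sub, Polynomial.map_pow, Polynomial.map_X, Polynomial.map_one] at h1
    exact hχΨ.trans h1
  · right
    have h1 := Polynomial.map_dvd K₀.subtype h
    rw [hΨ₀] at h1
    simp only [Polynomial.map_add, Polynomial.map_pow, Polynomial.map_X, Polynomial.map_one] at h1
    exact hχΨ.trans h1

theorem map_map_mat {n : ℕ} (σ : F ≃+* F) (hσ2 : σ * σ = 1) (M : Matrix (Fin n) (Fin n) F) :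
    (M.map σ).map σ = M := by
  ext i j
  have := congrArg (fun τ : F ≃+* F => τ (M i j)) hσ2
  simpa using this

theorem map_mul_mat {n : ℕ} (σ : F ≃+* F) (M N : Matrix (Fin n) (Fin n) F) :
    (M * N).map σ = M.map σ * N.map σ := by
  exact Matrix.map_mul (f := (σ : F →+* F))

theorem map_one_mat {n : ℕ} (σ : F ≃+* F) : (1 : Matrix (Fin n) (Fin n) F).map σ = 1 :=
  map_one_sig σ

/-- **Case B3**: `c_g f_σ t` with `σ` an involution. -/
theorem caseB3 [Fintype F] {n : ℕ} (hn : 3 ≤ n) (p : ℕ) [Fact p.Prime] [CharP F p]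
    (g : GL (Fin n) F) (σ : F ≃+* F) (hσ1 : σ ≠ 1) (hσ2 : σ * σ = 1) :
    (Fintype.card F - 1) * orderOf (cGL g * gfAut σ) ≤ Fintype.card F ^ n - 1 := by
  classical
  have hsq := sq_cGL_gfAut σ g
  rw [hσ2, map_one, mul_one] at hsq
  set h := g * gmap σ (tGL g) with hh
  set G : Matrix (Fin n) (Fin n) F := (g : Matrix (Fin n) (Fin n) F) with hG
  set Gi : Matrix (Fin n) (Fin n) F := ((g⁻¹ : GL (Fin n) F) : Matrix (Fin n) (Fin n) F) with hGi
  have hGGi : G * Gi = 1 := by rw [hG, hGi, ← Units.val_mul, mul_inv_cancel, Units.val_one]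
  have hGiG : Gi * G = 1 := by rw [hG, hGi, ← Units.val_mul, inv_mul_cancel, Units.val_one]
  set M : Matrix (Fin n) (Fin n) F := (Giᵀ).map σ with hM
  have hcoe : (h : Matrix (Fin n) (Fin n) F) = G * M := by
    rw [hh, Units.val_mul, gmap_coe, tGL_coe]
  set B : Matrix (Fin n) (Fin n) F := (h : Matrix (Fin n) (Fin n) F).map σ with hB
  have hBeq : B = G.map σ * Giᵀ := by
    rw [hB, hcoe, map_mul_mat, hM, map_map_mat σ hσ2]
  have hMt : M = (Gi.map σ)ᵀ := by
    rw [hM, Matrix.transpose_map]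
  have hkey : (G.map σ)ᵀ * M = 1 := by
    rw [hMt, ← Matrix.transpose_mul, ← map_mul_mat, hGiG, map_one_mat, Matrix.transpose_one]
  have hform : Bᵀ * M * (h : Matrix (Fin n) (Fin n) F) = M := by
    rw [hBeq, hcoe, Matrix.transpose_mul, Matrix.transpose_transpose]
    calc Gi * (G.map σ)ᵀ * M * (G * M) = Gi * ((G.map σ)ᵀ * M) * G * M := by
          simp only [Matrix.mul_assoc]
      _ = M := by rw [hkey, Matrix.mul_one, hGiG, Matrix.one_mul]
  have hMunit : IsUnit M := by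
    refine ⟨⟨M, (G.map σ)ᵀ, ?_, hkey⟩, rfl⟩
    rw [hMt, ← Matrix.transpose_mul, ← map_mul_mat, hGGi, map_one_mat, Matrix.transpose_one]
  obtain ⟨h0, u, hu, hrev⟩ := charpoly_twSR (h : Matrix (Fin n) (Fin n) F) B M hMunit hform
  have hBcp : B.charpoly = (h : Matrix (Fin n) (Fin n) F).charpoly.map (σ : F →+* F) := by
    rw [hB]
    exact Matrix.charpoly_map (h : Matrix (Fin n) (Fin n) F) (σ : F →+* F)
  rw [hBcp] at hrev
  have hdeg : (h : Matrix (Fin n) (Fin n) F).charpoly.natDegree = n := by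
    rw [Matrix.charpoly_natDegree_eq_dim, Fintype.card_fin]
  -- the fixed field
  obtain ⟨K₀, hK₀, hcard⟩ := Cfsg.Agent.Lib.H26.APM.exists_fixed_subfield σ
  have hord2 : orderOf σ = 2 := by
    apply orderOf_eq_prime
    · rw [pow_two]; exact hσ2
    · exact hσ1
  rw [hord2] at hcard
  have : Fintype K₀ := Fintype.ofFinite K₀
  rw [Nat.card_eq_fintype_card] at hcard
  have hq₀ : 2 ≤ Fintype.card K₀ := Fintype.one_lt_card
  obtain ⟨N, hN1, hN2, hN3⟩ := tw_poly p σ hσ2 K₀ hK₀ h0 u hu hrev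
  rw [hdeg] at hN2
  by_cases hex : n = 3 ∧ Fintype.card K₀ = 2
  · obtain ⟨rfl, hq2⟩ := hex
    rw [hq2] at hcard
    have hF4 : Fintype.card F = 4 := by rw [← hcard]; norm_num
    obtain ⟨k, -, hk⟩ := FiniteField.card F p
    have hp2 : p = 2 := by
      have h1 : p ∣ 2 ^ 2 := by
        rw [hcard, hk]
        exact dvd_pow_self p k.ne_zero
      have h2 := (Fact.out : p.Prime).dvd_of_dvd_pow h1
      exact (Nat.prime_dvd_prime_iff_eq Fact.out Nat.prime_two).mp h2
    have hk2 : (k : ℕ) = 2 := by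
      rw [hp2, ← hcard] at hk
      exact (Nat.pow_right_injective (le_refl 2) hk).symm
    obtain ⟨-, hpow⟩ := involution_eq_pow hk σ hσ1 hσ2
    have hσa : ∀ a, σ a = a ^ 2 := by
      intro a
      rw [hpow a, hk2, hp2]
      norm_num
    obtain ⟨K, hK1, hK10, s, hs⟩ := Cfsg.Agent.Lib.H26.APM.case34 hF4 σ hσa (h : Matrix (Fin 3) (Fin 3) F) u hu hrev
    have hpw : (cGL g * gfAut σ) ^ (2 * K) = 1 := by
      rw [pow_mul, hsq]
      exact cGL_pow_eq_one h K s hs
    have hord : orderOf (cGL g * gfAut σ) ≤ 2 * K := orderOf_le_of_pow_eq_one (by omega) hpw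
    rw [hF4]
    norm_num
    omega
  · have hex' : ¬ (n = 3 ∧ Fintype.card K₀ = 2) := hex
    have h1 := Cfsg.Agent.Lib.H26.APM.arithU hq₀ hn hN2 hex'
    rw [hcard] at h1
    have hpw : (cGL g * gfAut σ) ^ (2 * N) = 1 := by
      rw [pow_mul, hsq]
      exact cGL_pow_eq_one' h N (pow_eq_of_dvd _ N hN3)
    have hord : orderOf (cGL g * gfAut σ) ≤ 2 * N := orderOf_le_of_pow_eq_one (by omega) hpw
    exact (Nat.mul_le_mul_left _ hord).trans h1

end Cfsg.Agent.Lib.H11.APM
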