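/-
S5662 project, module SM8.3, part a: pure matrix algebra on tensor powers: blocks of an invariant bilinear form,
symmetry type of the invariant form of an absolutely irreducible set.  (helper11)
-/
import Cfsg.Agent.Lib.H21.AschM83C
import Cfsg.Agent.Lib.H6.AschU3b

set_option autoImplicit false
set_option linter.unusedSectionVars false

namespace Cfsg.Agent.Lib.H11.AschS

open Cfsg Cfsg.Geo Cfsg.Agent.Lib.Lead.Asch Cfsg.Agent.Lib.H16.Asch Cfsg.Agent.Lib.H21.Asch
  Cfsg.Agent.Lib.H6.Asch
open scoped MatrixGroups Matrix Kronecker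

variable {F : Type*} [Field F] {m t : ℕ}

/-- the `m` columns of the identity of the tensor power that agree with `r` off position `i0` -/
def blkE (i0 : Fin t) (r : Fin t → Fin m) : Matrix (Fin t → Fin m) (Fin m) F :=
  fun x a => if x = Function.update r i0 a then 1 else 0

theorem posEmb_mul_blkE (i0 : Fin t) (r : Fin t → Fin m) (s : Matrix (Fin m) (Fin m) F) :
    posEmb i0 s * blkE (F := F) i0 r = blkE (F := F) i0 r * s := by
  classical
  ext x a
  have hL : (posEmb i0 s * blkE (F := F) i0 r) x a = posEmb i0 s x (Function.update r i0 a) := by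
    rw [Matrix.mul_apply, Finset.sum_eq_single (Function.update r i0 a)]
    · simp [blkE]
    · intro z _ hz
      simp [blkE, hz]
    · intro h; exact absurd (Finset.mem_univ _) h
  rw [hL, posEmb_def, pureT_update_apply, Function.update_self]
  by_cases h : x = Function.update r i0 (x i0)
  · have hprod : ∏ j ∈ Finset.univ.erase i0,
        (1 : Matrix (Fin m) (Fin m) F) (x j) (Function.update r i0 a j) = 1 := by
      apply Finset.prod_eq_one
      intro j hj
      have hj' : j ≠ i0 := Finset.ne_of_mem_erase hj
      rw [Function.update_of_ne hj']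
      have : x j = r j := by
        have := congrFun h j
        rwa [Function.update_of_ne hj'] at this
      rw [this, Matrix.one_apply_eq]
    rw [hprod, mul_one, Matrix.mul_apply, Finset.sum_eq_single (x i0)]
    · simp [blkE, ← h]
    · intro b _ hb
      have : x ≠ Function.update r i0 b := by
        intro hx
        apply hb
        have := congrFun hx i0
        rw [Function.update_self] at this
        exact this.symm
      simp [blkE, this]
    · intro h'; exact absurd (Finset.mem_univ _) h'
  · have hex : ∃ j, j ≠ i0 ∧ x j ≠ r j := by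
      by_contra hcon
      push Not at hcon
      apply h
      funext j
      by_cases hj : j = i0
      · subst hj; rw [Function.update_self]
      · rw [Function.update_of_ne hj]; exact hcon j hj
    obtain ⟨j, hj, hxj⟩ := hex
    have hprod : ∏ j ∈ Finset.univ.erase i0,
        (1 : Matrix (Fin m) (Fin m) F) (x j) (Function.update r i0 a j) = 0 := by
      apply Finset.prod_eq_zero (Finset.mem_erase.2 ⟨hj, Finset.mem_univ j⟩)
      rw [Function.update_of_ne hj, Matrix.one_apply_ne hxj]
    rw [hprod, mul_zero, Matrix.mul_apply]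
    symm
    apply Finset.sum_eq_zero
    intro b _
    have : x ≠ Function.update r i0 b := by
      intro hx
      apply hxj
      have := congrFun hx j
      rwa [Function.update_of_ne hj] at this
    simp [blkE, this]

theorem blk_apply (i0 : Fin t) (r r' : Fin t → Fin m) (M : Matrix (Fin t → Fin m) (Fin t → Fin m) F)
    (a b : Fin m) :
    ((blkE (F := F) i0 r)ᵀ * M * blkE (F := F) i0 r') a b =
      M (Function.update r i0 a) (Function.update r' i0 b) := by
  classical
  rw [Matrix.mul_apply, Finset.sum_eq_single (Function.update r' i0 b)]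
  · rw [Matrix.mul_apply, Finset.sum_eq_single (Function.update r i0 a)]
    · simp [blkE]
    · intro z _ hz
      simp [blkE, hz]
    · intro h; exact absurd (Finset.mem_univ _) h
  · intro z _ hz
    simp [blkE, hz]
  · intro h; exact absurd (Finset.mem_univ _) h

/-- **block lemma**: a non-zero bilinear form on the tensor power invariant under `posEmb i0 s`, `s ∈ S`,
has a non-zero `m × m` block invariant under `S`. -/
theorem exists_bilin_block (i0 : Fin t) (S : Set (Matrix (Fin m) (Fin m) F))
    (M : Matrix (Fin t → Fin m) (Fin t → Fin m) F) (hM : M ≠ 0)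
    (hinv : ∀ s ∈ S, (posEmb i0 s)ᵀ * M * posEmb i0 s = M) :
    ∃ B : Matrix (Fin m) (Fin m) F, B ≠ 0 ∧ ∀ s ∈ S, sᵀ * B * s = B := by
  classical
  have hex : ∃ x y, M x y ≠ 0 := by
    by_contra hcon
    push Not at hcon
    apply hM
    ext x y
    exact hcon x y
  obtain ⟨x, y, hxy⟩ := hex
  refine ⟨(blkE (F := F) i0 x)ᵀ * M * blkE (F := F) i0 y, ?_, ?_⟩
  · intro h0
    have := congrFun (congrFun h0 (x i0)) (y i0)
    rw [blk_apply, Function.update_eq_self, Function.update_eq_self] at this
    exact hxy this
  · intro s hs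
    calc sᵀ * ((blkE (F := F) i0 x)ᵀ * M * blkE (F := F) i0 y) * s
        = (blkE (F := F) i0 x * s)ᵀ * M * (blkE (F := F) i0 y * s) := by
          rw [Matrix.transpose_mul]; simp only [Matrix.mul_assoc]
      _ = (posEmb i0 s * blkE (F := F) i0 x)ᵀ * M * (posEmb i0 s * blkE (F := F) i0 y) := by
          rw [posEmb_mul_blkE, posEmb_mul_blkE]
      _ = (blkE (F := F) i0 x)ᵀ * ((posEmb i0 s)ᵀ * M * posEmb i0 s) * blkE (F := F) i0 y := by
          rw [Matrix.transpose_mul]; simp only [Matrix.mul_assoc]
      _ = _ := by rw [hinv s hs]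

/-- the invariant form of an absolutely irreducible set is symmetric or skew-symmetric -/
theorem transpose_eq_smul_of_fix (S : Set (Matrix (Fin m) (Fin m) F))
    (hS : ActsAbsolutelyIrreducibly S) (hinv : ∀ s ∈ S, IsUnit s.det)
    (B : Matrix (Fin m) (Fin m) F) (hB : B ≠ 0) (hfix : ∀ s ∈ S, sᵀ * B * s = B) :
    IsUnit B.det ∧ ∃ ε : F, (ε = 1 ∨ ε = -1) ∧ Bᵀ = ε • B := by
  have hfix' : ∀ g ∈ S, gᵀ * B * g.map (RingHom.id F) = B := by
    intro g hg; rw [map_id_eq]; exact hfix g hg
  have hBdet : IsUnit B.det := isUnit_det_of_fix (RingHom.id F) S hS.1 hinv B hB hfix'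
  have hfixT : ∀ g ∈ S, gᵀ * Bᵀ * g.map (RingHom.id F) = Bᵀ := by
    intro g hg
    rw [map_id_eq]
    have := congrArg Matrix.transpose (hfix g hg)
    rw [Matrix.transpose_mul, Matrix.transpose_mul, Matrix.transpose_transpose, ← mul_assoc] at this
    exact this
  obtain ⟨ε, hε⟩ := core (RingHom.id F) S hS.2 hinv B Bᵀ hBdet hfix' hfixT
  refine ⟨hBdet, ε, ?_, hε⟩
  have h1 : B = (ε * ε) • B := by
    have := congrArg Matrix.transpose hε
    rw [Matrix.transpose_transpose, Matrix.transpose_smul, hε, smul_smul] at this
    exact this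
  have h2 : (1 - ε * ε) • B = 0 := by
    rw [sub_smul, one_smul, ← h1, sub_self]
  have h3 : 1 - ε * ε = 0 := by
    rcases smul_eq_zero.1 h2 with h | h
    · exact h
    · exact absurd h hB
  have h4 : (ε - 1) * (ε + 1) = 0 := by ring_nf; ring_nf at h3; linear_combination -h3
  rcases mul_eq_zero.1 h4 with h | h
  · left; linear_combination h
  · right; linear_combination h

theorem pureT_smul_const (c : F) (B : Matrix (Fin m) (Fin m) F) :
    pureT (fun _ : Fin t => c • B) = c ^ t • pureT (fun _ : Fin t => B) := by
  ext x y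
  rw [Matrix.smul_apply, pureT_apply, pureT_apply]
  simp only [Matrix.smul_apply, smul_eq_mul]
  rw [Finset.prod_mul_distrib, Finset.prod_const, Finset.card_univ, Fintype.card_fin]

theorem pureT_const_ne_zero (B : Matrix (Fin m) (Fin m) F) (hB : B ≠ 0) :
    pureT (fun _ : Fin t => B) ≠ 0 := by
  have hex : ∃ a b, B a b ≠ 0 := by
    by_contra hcon
    push Not at hcon
    apply hB
    ext a b
    exact hcon a b
  obtain ⟨a, b, hab⟩ := hex
  intro h
  have := congrFun (congrFun h (fun _ => a)) (fun _ => b)
  rw [pureT_apply, Matrix.zero_apply, Finset.prod_const] at this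
  exact hab (pow_eq_zero_iff (fun h0 => by
    rw [h0, pow_zero] at this; exact one_ne_zero this) |>.1 this)

end Cfsg.Agent.Lib.H11.AschS
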