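/-
S5662 project, module SM8.3, part b: characteristic lemmas, perfect subgroups of `GL_2(3)`, and the
"upper triangular" quadratic form of an alternating matrix in characteristic two.  (helper11)
-/
import Cfsg.Agent.Lib.H11.AschSM83a
import Cfsg.Agent.Lib.H23.BurnsidePQ

set_option autoImplicit false
set_option linter.unusedSectionVars false

namespace Cfsg.Agent.Lib.H11.AschS

open Cfsg Cfsg.Geo Cfsg.Agent.Lib.Lead.Asch Cfsg.Agent.Lib.H6.Asch
open scoped MatrixGroups Matrix Kronecker

variable {F : Type*} [Field F]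

/-! ### characteristic -/

theorem two_eq_zero_of_not_odd_card [Fintype F] (h : ¬ Odd (Fintype.card F)) : (2 : F) = 0 := by
  by_contra h2
  apply h
  obtain ⟨p, hp⟩ := CharP.exists F
  haveI := hp
  obtain ⟨k, hpp, hcard⟩ := FiniteField.card F p
  rw [hcard]
  apply Odd.pow
  rcases hpp.eq_two_or_odd' with h2' | hodd
  · exfalso
    apply h2
    subst h2'
    exact CharTwo.two_eq_zero
  · exact hodd

theorem two_ne_zero_of_odd_card' [Fintype F] (h : Odd (Fintype.card F)) : (2 : F) ≠ 0 := by
  intro h2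
  obtain ⟨p, hp⟩ := CharP.exists F
  haveI := hp
  obtain ⟨k, hpp, hcard⟩ := FiniteField.card F p
  have hp2 : p = 2 := by
    have h3 : ((2 : ℕ) : F) = 0 := by exact_mod_cast h2
    have := (CharP.cast_eq_zero_iff F p 2).1 h3
    exact (Nat.prime_dvd_prime_iff_eq hpp Nat.prime_two).1 this
  rw [hcard, hp2] at h
  have : Even (2 ^ (k : ℕ)) := (Nat.even_pow' k.ne_zero).2 even_two
  exact (Nat.not_odd_iff_even.2 this) h

/-! ### perfect subgroups of `GL_2(3)` -/

theorem bot_of_perfect_of_isSolvable {G : Type*} [Group G] [Group.IsSolvable G] (S : Subgroup G)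
    (hperf : ⁅S, S⁆ = S) : S = ⊥ := by
  by_contra hne
  haveI : Nontrivial S := (Subgroup.nontrivial_iff_ne_bot S).2 hne
  have hlt := IsSolvable.commutator_lt_top_of_nontrivial S
  have hc : _root_.commutator S = ⊤ := by
    apply Subgroup.map_injective S.subtype_injective
    rw [Subgroup.map_subtype_commutator, hperf, ← MonoidHom.range_eq_map, Subgroup.range_subtype]
  exact (ne_of_lt hlt) hc

theorem bot_of_perfect_GL2_F3 [Fintype F] (hF : Fintype.card F = 3) (S : Subgroup (GL (Fin 2) F))
    (hperf : ⁅S, S⁆ = S) : S = ⊥ := by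
  classical
  have hcard : Nat.card (GL (Fin 2) F) = 2 ^ 4 * 3 ^ 1 := by
    rw [Matrix.card_GL_field, hF]
    simp [Fin.prod_univ_two]
  haveI : Group.IsSolvable (GL (Fin 2) F) :=
    Cfsg.Agent.Lib.H23.isSolvable_of_card_eq_prime_pow_mul_prime_pow 2 3 4 1 Nat.prime_two
      Nat.prime_three hcard
  exact bot_of_perfect_of_isSolvable S hperf

/-! ### quadratic forms -/

variable {n : ℕ}

/-- Two maps with `Q (c • v) = c ^ 2 * Q v`, the same biadditive polar map, and the same values on the standard
basis are equal. -/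
theorem eq_of_polar_eq_of_basis (Q₁ Q₂ : (Fin n → F) → F)
    (hs₁ : ∀ (c : F) v, Q₁ (c • v) = c ^ 2 * Q₁ v) (hs₂ : ∀ (c : F) v, Q₂ (c • v) = c ^ 2 * Q₂ v)
    (hpol : ∀ u v, QuadraticMap.polar Q₁ u v = QuadraticMap.polar Q₂ u v)
    (hb : ∀ j, Q₁ (Pi.single j 1) = Q₂ (Pi.single j 1)) (v : Fin n → F) : Q₁ v = Q₂ v := by
  classical
  set D : (Fin n → F) → F := fun v => Q₁ v - Q₂ v with hD
  have hD0 : D 0 = 0 := by
    have h1 := hs₁ 0 0
    have h2 := hs₂ 0 0
    rw [zero_smul] at h1 h2
    simp only [hD]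
    rw [h1, h2]; ring
  have hDadd : ∀ u v, D (u + v) = D u + D v := by
    intro u v
    have := hpol u v
    simp only [QuadraticMap.polar] at this
    simp only [hD]
    linear_combination this
  have hDsum : ∀ (s : Finset (Fin n)) (g : Fin n → (Fin n → F)), D (∑ j ∈ s, g j) = ∑ j ∈ s, D (g j) := by
    intro s g
    induction s using Finset.induction_on with
    | empty => simp [hD0]
    | insert a s ha ih => rw [Finset.sum_insert ha, Finset.sum_insert ha, hDadd, ih]
  have hv : v = ∑ j, v j • (Pi.single j (1 : F) : Fin n → F) := by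
    funext i
    simp [Finset.sum_apply, Pi.single_apply]
  have hDv : D v = 0 := by
    rw [hv, hDsum]
    apply Finset.sum_eq_zero
    intro j _
    simp only [hD]
    rw [hs₁, hs₂, hb j]; ring
  simp only [hD] at hDv
  linear_combination hDv

/-- the strictly upper triangular part of a matrix -/
def upper (A : Matrix (Fin n) (Fin n) F) : Matrix (Fin n) (Fin n) F :=
  Matrix.of fun i j => if i < j then A i j else 0

theorem upper_add_transpose (A : Matrix (Fin n) (Fin n) F) (hA : Aᵀ = A) (hd : ∀ i, A i i = 0) :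
    upper A + (upper A)ᵀ = A := by
  ext i j
  simp only [upper, Matrix.add_apply, Matrix.transpose_apply, Matrix.of_apply]
  rcases lt_trichotomy i j with h | h | h
  · rw [if_pos h, if_neg (not_lt.2 h.le), add_zero]
  · subst h; rw [if_neg (lt_irrefl _), add_zero, hd]
  · rw [if_neg (not_lt.2 h.le), if_pos h, zero_add]
    have := congrFun (congrFun hA i) j
    rw [Matrix.transpose_apply] at this
    exact this

theorem polar_quadOf_any (U : Matrix (Fin n) (Fin n) F) (u v : Fin n → F) :
    QuadraticMap.polar (quadOf U) u v = u ⬝ᵥ ((U + Uᵀ) *ᵥ v) := by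
  have h1 : v ⬝ᵥ (U *ᵥ u) = u ⬝ᵥ (Uᵀ *ᵥ v) := by
    rw [Matrix.dotProduct_mulVec, dotProduct_comm, ← Matrix.mulVec_transpose]
  simp only [QuadraticMap.polar, quadOf]
  rw [Matrix.mulVec_add, add_dotProduct, dotProduct_add, dotProduct_add, h1, Matrix.add_mulVec,
    dotProduct_add]
  ring

theorem quadOf_single (U : Matrix (Fin n) (Fin n) F) (j : Fin n) :
    quadOf U (Pi.single j 1) = U j j := by
  simp [quadOf, Matrix.mulVec_single_one, single_dotProduct]

theorem quadOf_upper_eq_zero (A : Matrix (Fin n) (Fin n) F) (w : Fin n → F)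
    (h : ∀ k k', k < k' → w k ≠ 0 → w k' ≠ 0 → A k k' = 0) : quadOf (upper A) w = 0 := by
  simp only [quadOf, dotProduct, Matrix.mulVec, upper, Matrix.of_apply]
  apply Finset.sum_eq_zero
  intro k _
  rw [Finset.mul_sum]
  apply Finset.sum_eq_zero
  intro k' _
  by_cases hlt : k < k'
  · rw [if_pos hlt]
    by_cases hk : w k = 0
    · rw [hk, zero_mul]
    · by_cases hk' : w k' = 0
      · rw [hk', mul_zero, mul_zero]
      · rw [h k k' hlt hk hk', zero_mul, mul_zero]
  · rw [if_neg hlt, zero_mul, mul_zero]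

end Cfsg.Agent.Lib.H11.AschS
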