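/-
S5662 project (Aschbacher, symplectic case), module SM8.3 part c (helper11):
the Gram matrix of a non-degenerate bilinear form fixed by `t ≥ 1` components, in the tensor basis, is a non-zero
scalar multiple of the `t`-th tensor power of ONE invertible `ρ`-invariant matrix `B` with `Bᵀ = ± B`
(bilinear twin of helper16's `exists_tensorPower_form`).
-/
import Cfsg.Agent.Lib.H11.AschSM83b
import Cfsg.Agent.Lib.H16.AschUM8Cb

set_option autoImplicit false

namespace Cfsg.Agent.Lib.H11.AschS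

open Cfsg Cfsg.Geo Cfsg.Agent.Lib.Lead.Asch Cfsg.Agent.Lib.H16.Asch Cfsg.Agent.Lib.H21.Asch
  Cfsg.Agent.Lib.H6.Asch
open scoped MatrixGroups Matrix Kronecker

variable {F : Type*} [Field F] {n : ℕ}

theorem exists_tensorPower_gram (hn0 : 0 < n) (f : (Fin n → F) → (Fin n → F) → F)
    (hfb : IsBilinearForm f) (hfn : IsNondegenerateForm f)
    (t : ℕ) (L : Fin t → Subgroup (GL (Fin n) F)) (i0 : Fin t)
    (hfix : ∀ i, FixesForm (matrixSet (L i)) f)
    (habsL : ActsAbsolutelyIrreducibly (matrixSet (⨆ i, L i)))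
    (m : ℕ) (e' : Fin n ≃ (Fin t → Fin m)) (Q : GL (Fin n) F) (ρ : L i0 →* GL (Fin m) F)
    (hρabs : ActsAbsolutelyIrreducibly (repSet ρ))
    (hb : ∀ i (x : L i0), ∃ y ∈ L i, (y : Matrix (Fin n) (Fin n) F) =
        (Q : Matrix (Fin n) (Fin n) F) * Matrix.reindexAlgEquiv F F e'.symm
          (posEmb i ((ρ x : GL (Fin m) F) : Matrix (Fin m) (Fin m) F)) *
          ((Q⁻¹ : GL (Fin n) F) : Matrix (Fin n) (Fin n) F))
    (hc : ∀ i, ∀ y ∈ L i, ∃ x : L i0, (y : Matrix (Fin n) (Fin n) F) =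
        (Q : Matrix (Fin n) (Fin n) F) * Matrix.reindexAlgEquiv F F e'.symm
          (posEmb i ((ρ x : GL (Fin m) F) : Matrix (Fin m) (Fin m) F)) *
          ((Q⁻¹ : GL (Fin n) F) : Matrix (Fin n) (Fin n) F)) :
    ∃ (J : Matrix (Fin n) (Fin n) F) (B : Matrix (Fin m) (Fin m) F) (ε c : F),
      Rep (RingHom.id F) J f ∧ IsUnit J.det ∧ IsUnit B.det ∧ (ε = 1 ∨ ε = -1) ∧ Bᵀ = ε • B ∧
      (∀ s ∈ repSet ρ, sᵀ * B * s = B) ∧ c ≠ 0 ∧
      (Q : Matrix (Fin n) (Fin n) F)ᵀ * J * (Q : Matrix (Fin n) (Fin n) F) =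
        c • Matrix.reindexAlgEquiv F F e'.symm (pureT (fun _ : Fin t => B)) := by
  classical
  obtain ⟨J, hJ⟩ := exists_rep_of_bilinear f hfb
  have hJdet : IsUnit J.det := hJ.isUnit_det hfn
  set Rq : Matrix (Fin t → Fin m) (Fin t → Fin m) F ≃ₐ[F] Matrix (Fin n) (Fin n) F :=
    Matrix.reindexAlgEquiv F F e'.symm with hRq
  have hRqT : ∀ X : Matrix (Fin t → Fin m) (Fin t → Fin m) F, (Rq X)ᵀ = Rq Xᵀ := fun X => rfl
  set G : Matrix (Fin n) (Fin n) F :=
    (Q : Matrix (Fin n) (Fin n) F)ᵀ * J * (Q : Matrix (Fin n) (Fin n) F) with hG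
  have hQdet : IsUnit (Q : Matrix (Fin n) (Fin n) F).det :=
    (Matrix.isUnit_iff_isUnit_det _).1 Q.isUnit
  have hGdet : IsUnit G.det := by
    rw [hG, Matrix.det_mul, Matrix.det_mul, Matrix.det_transpose]
    exact (hQdet.mul hJdet).mul hQdet
  have hG0 : G ≠ 0 := by
    intro h0
    rw [h0] at hGdet
    haveI : Nonempty (Fin n) := ⟨⟨0, hn0⟩⟩
    rw [Matrix.det_zero] at hGdet
    exact not_isUnit_zero hGdet
  have hQQ : ((Q⁻¹ : GL (Fin n) F) : Matrix (Fin n) (Fin n) F) * (Q : Matrix (Fin n) (Fin n) F) = 1 := by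
    rw [← Units.val_mul, inv_mul_cancel, Units.val_one]
  -- invariance of `G`
  have hGfix : ∀ i (x : L i0),
      (Rq (posEmb i ((ρ x : GL (Fin m) F) : Matrix (Fin m) (Fin m) F)))ᵀ * G *
        (Rq (posEmb i ((ρ x : GL (Fin m) F) : Matrix (Fin m) (Fin m) F))) = G := by
    intro i x
    obtain ⟨y, hy, hyeq⟩ := hb i x
    have h1 := hJ.matrix_eq (y : Matrix (Fin n) (Fin n) F) 1 (fun u v => by
      rw [hfix i _ ⟨y, hy, rfl⟩, one_mul])
    rw [one_smul, map_id_eq] at h1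
    set p := Rq (posEmb i ((ρ x : GL (Fin m) F) : Matrix (Fin m) (Fin m) F)) with hp
    have h2 : (y : Matrix (Fin n) (Fin n) F) * (Q : Matrix (Fin n) (Fin n) F) =
        (Q : Matrix (Fin n) (Fin n) F) * p := by
      rw [hyeq, Matrix.mul_assoc, hQQ, Matrix.mul_one]
    calc pᵀ * G * p
        = ((Q : Matrix (Fin n) (Fin n) F) * p)ᵀ * J * ((Q : Matrix (Fin n) (Fin n) F) * p) := by
          rw [hG, Matrix.transpose_mul]; simp only [Matrix.mul_assoc]
      _ = ((y : Matrix (Fin n) (Fin n) F) * (Q : Matrix (Fin n) (Fin n) F))ᵀ * J *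
            ((y : Matrix (Fin n) (Fin n) F) * (Q : Matrix (Fin n) (Fin n) F)) := by rw [h2]
      _ = (Q : Matrix (Fin n) (Fin n) F)ᵀ * ((y : Matrix (Fin n) (Fin n) F)ᵀ * J *
            (y : Matrix (Fin n) (Fin n) F)) * (Q : Matrix (Fin n) (Fin n) F) := by
          rw [Matrix.transpose_mul]; simp only [Matrix.mul_assoc]
      _ = G := by rw [h1]
  -- the form in the tensor coordinates
  set M : Matrix (Fin t → Fin m) (Fin t → Fin m) F := Rq.symm G with hM
  have hRqM' : Rq M = G := by rw [hM, AlgEquiv.apply_symm_apply]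
  have hM0 : M ≠ 0 := by
    intro h0
    apply hG0
    rw [← hRqM', h0, map_zero]
  have hMinv : ∀ s ∈ repSet ρ, (posEmb i0 s)ᵀ * M * posEmb i0 s = M := by
    rintro _ ⟨x, rfl⟩
    apply Rq.injective
    rw [map_mul, map_mul, ← hRqT, hRqM']
    exact hGfix i0 x
  obtain ⟨B, hB0, hBfix⟩ := exists_bilin_block i0 (repSet ρ) M hM0 hMinv
  have hunits : ∀ s ∈ repSet ρ, IsUnit s.det := by
    rintro _ ⟨x, rfl⟩
    exact (Matrix.isUnit_iff_isUnit_det _).1 (ρ x).isUnit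
  obtain ⟨hBdet, ε, hε, hBT⟩ := transpose_eq_smul_of_fix (repSet ρ) hρabs hunits B hB0 hBfix
  -- the tensor power form
  set T : Matrix (Fin t → Fin m) (Fin t → Fin m) F := pureT (fun _ : Fin t => B) with hT
  let 𝒮 : Set (Matrix (Fin n) (Fin n) F) :=
    {R | ∃ (i : Fin t) (x : L i0), R = Rq (posEmb i ((ρ x : GL (Fin m) F) : Matrix (Fin m) (Fin m) F))}
  have hQQ' : (Q : Matrix (Fin n) (Fin n) F) * ((Q⁻¹ : GL (Fin n) F) : Matrix (Fin n) (Fin n) F) = 1 := by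
    rw [← Units.val_mul, mul_inv_cancel, Units.val_one]
  have hcommutant : ∀ M' : Matrix (Fin n) (Fin n) F, (∀ s ∈ 𝒮, M' * s = s * M') →
      ∃ c : F, M' = c • (1 : Matrix (Fin n) (Fin n) F) := by
    intro M' hM'
    obtain ⟨c, hc'⟩ := habsL.2 ((Q : Matrix (Fin n) (Fin n) F) * M' *
        ((Q⁻¹ : GL (Fin n) F) : Matrix (Fin n) (Fin n) F)) (by
      rintro _ ⟨g, hg, rfl⟩
      refine commute_of_mem_iSup L _ ?_ g hg
      intro i y hy
      obtain ⟨x, hx⟩ := hc i y hy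
      have h3 := hM' _ ⟨i, x, rfl⟩
      rw [hx]
      calc (Q : Matrix (Fin n) (Fin n) F) * M' * ((Q⁻¹ : GL (Fin n) F) : Matrix (Fin n) (Fin n) F) *
            ((Q : Matrix (Fin n) (Fin n) F) *
              Rq (posEmb i ((ρ x : GL (Fin m) F) : Matrix (Fin m) (Fin m) F)) *
              ((Q⁻¹ : GL (Fin n) F) : Matrix (Fin n) (Fin n) F))
          = (Q : Matrix (Fin n) (Fin n) F) * (M' * ((((Q⁻¹ : GL (Fin n) F) : Matrix (Fin n) (Fin n) F) *
              (Q : Matrix (Fin n) (Fin n) F)) *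
              Rq (posEmb i ((ρ x : GL (Fin m) F) : Matrix (Fin m) (Fin m) F)))) *
              ((Q⁻¹ : GL (Fin n) F) : Matrix (Fin n) (Fin n) F) := by
            simp only [Matrix.mul_assoc]
        _ = (Q : Matrix (Fin n) (Fin n) F) *
              (Rq (posEmb i ((ρ x : GL (Fin m) F) : Matrix (Fin m) (Fin m) F)) *
                ((((Q⁻¹ : GL (Fin n) F) : Matrix (Fin n) (Fin n) F) *
              (Q : Matrix (Fin n) (Fin n) F)) * M')) *
              ((Q⁻¹ : GL (Fin n) F) : Matrix (Fin n) (Fin n) F) := by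
            rw [hQQ, Matrix.one_mul, Matrix.one_mul, h3]
        _ = _ := by simp only [Matrix.mul_assoc])
    refine ⟨c, ?_⟩
    have h1 : M' = ((Q⁻¹ : GL (Fin n) F) : Matrix (Fin n) (Fin n) F) *
        ((Q : Matrix (Fin n) (Fin n) F) * M' *
          ((Q⁻¹ : GL (Fin n) F) : Matrix (Fin n) (Fin n) F)) * (Q : Matrix (Fin n) (Fin n) F) := by
      calc M' = (((Q⁻¹ : GL (Fin n) F) : Matrix (Fin n) (Fin n) F) * (Q : Matrix (Fin n) (Fin n) F)) * M' *
            (((Q⁻¹ : GL (Fin n) F) : Matrix (Fin n) (Fin n) F) * (Q : Matrix (Fin n) (Fin n) F)) := by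
              rw [hQQ, Matrix.one_mul, Matrix.mul_one]
        _ = _ := by simp only [Matrix.mul_assoc]
    rw [h1, hc', Matrix.mul_smul, Matrix.smul_mul, Matrix.mul_one, hQQ]
  have hunits' : ∀ s ∈ 𝒮, IsUnit s.det := by
    rintro _ ⟨i, x, rfl⟩
    have h1 : Rq (posEmb i ((ρ x : GL (Fin m) F) : Matrix (Fin m) (Fin m) F)) *
        Rq (posEmb i (((ρ x)⁻¹ : GL (Fin m) F) : Matrix (Fin m) (Fin m) F)) = 1 := by
      rw [← map_mul, ← posEmb_mul, ← Units.val_mul, mul_inv_cancel, Units.val_one, posEmb_one, map_one]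
    exact Matrix.isUnit_det_of_right_inverse h1
  have hTdet : IsUnit (Rq T).det := by
    have : (Rq T).det = T.det := Matrix.det_reindexAlgEquiv F F e'.symm T
    rw [this]
    exact isUnit_det_pureT B hBdet
  have hfixT : ∀ s ∈ 𝒮, sᵀ * Rq T * s.map (RingHom.id F) = Rq T := by
    rintro _ ⟨i, x, rfl⟩
    rw [map_id_eq, hRqT, ← map_mul, ← map_mul]
    congr 1
    have := posEmb_fixes_pureT (RingHom.id F) i _ B (by
      rw [map_id_eq]; exact hBfix _ ⟨x, rfl⟩)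
    rw [map_id_eq] at this
    exact this
  have hfixG : ∀ s ∈ 𝒮, sᵀ * G * s.map (RingHom.id F) = G := by
    rintro _ ⟨i, x, rfl⟩
    rw [map_id_eq]
    exact hGfix i x
  obtain ⟨c, hcG⟩ := core (RingHom.id F) 𝒮 hcommutant hunits' (Rq T) G hTdet hfixT hfixG
  have hc0 : c ≠ 0 := by
    intro h0
    apply hG0
    rw [hcG, h0, zero_smul]
  exact ⟨J, B, ε, c, hJ, hJdet, hBdet, hε, hBT, hBfix, hc0, hcG⟩

end Cfsg.Agent.Lib.H11.AschS
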