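/-
S5662 project (Aschbacher, symplectic case), module SM8.3 part d (helper11): consequences of the Gram identity
`Qᵀ J Q = c • Rq (pureT (fun _ => B))`:
the tensor power form structure, the symplectic form of a skew matrix, and (characteristic two) the quadratic form
vanishing on pure tensors is fixed by every `posEmb i s`.
-/
import Cfsg.Agent.Lib.H11.AschSM83c

set_option autoImplicit false

namespace Cfsg.Agent.Lib.H11.AschS

open Cfsg Cfsg.Geo Cfsg.Agent.Lib.Lead.Asch Cfsg.Agent.Lib.H16.Asch Cfsg.Agent.Lib.H21.Asch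
  Cfsg.Agent.Lib.H6.Asch
open scoped MatrixGroups Matrix Kronecker

variable {F : Type*} [Field F] {n : ℕ}

theorem dot_congr_mulVec (A J : Matrix (Fin n) (Fin n) F) (x y : Fin n → F) :
    x ⬝ᵥ ((Aᵀ * J * A) *ᵥ y) = (A *ᵥ x) ⬝ᵥ (J *ᵥ (A *ᵥ y)) := by
  symm
  rw [Matrix.mulVec_mulVec, Matrix.dotProduct_mulVec, Matrix.vecMul_mulVec, ← Matrix.dotProduct_mulVec,
    ← Matrix.mul_assoc]

/-- the tensor power form structure from the Gram identity -/
theorem isTensorPowerFormStructure_of_gram {m t : ℕ} {f : (Fin n → F) → (Fin n → F) → F}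
    (J : Matrix (Fin n) (Fin n) F) (hJ : Rep (RingHom.id F) J f)
    (e' : Fin n ≃ (Fin t → Fin m)) (Q : GL (Fin n) F) (B : Matrix (Fin m) (Fin m) F) (c : F)
    (hc0 : c ≠ 0)
    (hcG : (Q : Matrix (Fin n) (Fin n) F)ᵀ * J * (Q : Matrix (Fin n) (Fin n) F) =
      c • Matrix.reindexAlgEquiv F F e'.symm (pureT (fun _ : Fin t => B))) :
    IsTensorPowerFormStructure id f (formOf (RingHom.id F) B) e' Q := by
  classical
  refine ⟨c, hc0, fun x y => ?_⟩
  set T : Matrix (Fin t → Fin m) (Fin t → Fin m) F := pureT (fun _ : Fin t => B) with hT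
  have hRqapp : ∀ j k, (Matrix.reindexAlgEquiv F F e'.symm T) j k = T (e' j) (e' k) := fun j k => rfl
  have h1 : f ((Q : Matrix (Fin n) (Fin n) F) *ᵥ (x ∘ e')) ((Q : Matrix (Fin n) (Fin n) F) *ᵥ (y ∘ e')) =
      (x ∘ e') ⬝ᵥ ((c • Matrix.reindexAlgEquiv F F e'.symm T) *ᵥ (y ∘ e')) := by
    rw [hJ, ← hcG, dot_congr_mulVec]
    rfl
  rw [h1]
  calc (x ∘ e') ⬝ᵥ ((c • Matrix.reindexAlgEquiv F F e'.symm T) *ᵥ (y ∘ e'))
      = ∑ j, ∑ k, x (e' j) * (c * T (e' j) (e' k)) * y (e' k) := by
        simp only [dotProduct, Matrix.mulVec, Matrix.smul_apply, smul_eq_mul, Function.comp_apply,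
          hRqapp, Finset.mul_sum, mul_assoc]
    _ = ∑ a, ∑ b, x a * (c * T a b) * y b := by
        rw [← Equiv.sum_comp e' (fun a => ∑ b, x a * (c * T a b) * y b)]
        refine Finset.sum_congr rfl fun j _ => ?_
        rw [← Equiv.sum_comp e' (fun b => x (e' j) * (c * T (e' j) b) * y b)]
    _ = c * ∑ a, ∑ b, x a * (∏ i, gramMatrix (formOf (RingHom.id F) B) (a i) (b i)) * id (y b) := by
        rw [Finset.mul_sum]
        refine Finset.sum_congr rfl fun a _ => ?_
        rw [Finset.mul_sum]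
        refine Finset.sum_congr rfl fun b _ => ?_
        rw [gramMatrix_formOf, hT, pureT_apply, id]
        ring

/-- the bilinear form of an invertible skew-symmetric matrix is symplectic (`2 ≠ 0`) -/
theorem isSymplecticForm_formOf_of_skew {m : ℕ} (B : Matrix (Fin m) (Fin m) F) (hB : IsUnit B.det)
    (hBT : Bᵀ = -B) (h2 : (2 : F) ≠ 0) : IsSymplecticForm (formOf (RingHom.id F) B) := by
  have hrep : Rep (RingHom.id F) B (formOf (RingHom.id F) B) := rep_formOf _ _
  have hskew : ∀ v w, formOf (RingHom.id F) B v w = - formOf (RingHom.id F) B w v := by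
    intro v w
    show v ⬝ᵥ (B *ᵥ w) = - (w ⬝ᵥ (B *ᵥ v))
    rw [Matrix.dotProduct_mulVec, dotProduct_comm, ← Matrix.mulVec_transpose, hBT, Matrix.neg_mulVec,
      dotProduct_neg]
  refine ⟨hrep.bilinear, hskew, fun v => ?_, hrep.nondegenerate hB⟩
  have h1 := hskew v v
  have h3 : (2 : F) * formOf (RingHom.id F) B v v = 0 := by linear_combination h1
  rcases mul_eq_zero.1 h3 with h | h
  · exact absurd h h2
  · exact h

theorem posEmb_apply_ne_zero {m t : ℕ} (i : Fin t) (s : Matrix (Fin m) (Fin m) F)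
    (a b : Fin t → Fin m) (h : posEmb i s a b ≠ 0) : ∀ l, l ≠ i → a l = b l := by
  classical
  intro l hl
  by_contra hne
  apply h
  rw [posEmb_def, pureT_update_apply]
  have : ∏ j ∈ Finset.univ.erase i, (fun _ : Fin t => (1 : Matrix (Fin m) (Fin m) F)) j (a j) (b j) = 0 := by
    apply Finset.prod_eq_zero (Finset.mem_erase.2 ⟨hl, Finset.mem_univ l⟩)
    exact Matrix.one_apply_ne hne
  rw [this, mul_zero]

/-- **characteristic two**: the quadratic form of the strictly upper triangular part of the tensor power Gram matrix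
(it vanishes on pure tensors) is fixed by every `posEmb i s` with `s` an isometry of `B`. -/
theorem quadOf_upper_posEmb_fix [Fintype F] {m t : ℕ} (ht : 2 ≤ t) (e' : Fin n ≃ (Fin t → Fin m))
    (B : Matrix (Fin m) (Fin m) F) (hBsymm : Bᵀ = B) (hBdiag : ∀ a, B a a = 0) (c : F)
    (G : Matrix (Fin n) (Fin n) F)
    (hG : G = c • Matrix.reindexAlgEquiv F F e'.symm (pureT (fun _ : Fin t => B)))
    (i : Fin t) (s : Matrix (Fin m) (Fin m) F) (hs : sᵀ * B * s = B) (w : Fin n → F) :
    quadOf (upper G) (Matrix.reindexAlgEquiv F F e'.symm (posEmb i s) *ᵥ w) = quadOf (upper G) w := by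
  classical
  set Rq : Matrix (Fin t → Fin m) (Fin t → Fin m) F ≃ₐ[F] Matrix (Fin n) (Fin n) F :=
    Matrix.reindexAlgEquiv F F e'.symm with hRq
  have hRqT : ∀ X : Matrix (Fin t → Fin m) (Fin t → Fin m) F, (Rq X)ᵀ = Rq Xᵀ := fun X => rfl
  have hRqapp : ∀ (X : Matrix (Fin t → Fin m) (Fin t → Fin m) F) j k, (Rq X) j k = X (e' j) (e' k) :=
    fun X j k => rfl
  set T : Matrix (Fin t → Fin m) (Fin t → Fin m) F := pureT (fun _ : Fin t => B) with hT
  set p : Matrix (Fin n) (Fin n) F := Rq (posEmb i s) with hp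
  have hGapp : ∀ k k', G k k' = c * ∏ l, B (e' k l) (e' k' l) := by
    intro k k'
    rw [hG, Matrix.smul_apply, smul_eq_mul, hRqapp, hT, pureT_apply]
  have hTT : Tᵀ = T := by
    rw [hT, pureT_transpose]
    simp only [hBsymm]
  have hGsymm : Gᵀ = G := by
    rw [hG, Matrix.transpose_smul, hRqT, hTT]
  have ht0 : 0 < t := by omega
  have hGdiag : ∀ k, G k k = 0 := by
    intro k
    rw [hGapp, Finset.prod_eq_zero (Finset.mem_univ (⟨0, ht0⟩ : Fin t)) (hBdiag _), mul_zero]
  have hUU : upper G + (upper G)ᵀ = G := upper_add_transpose G hGsymm hGdiag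
  have hpG : pᵀ * G * p = G := by
    rw [hG, Matrix.mul_smul, Matrix.smul_mul, hp, hRqT, ← map_mul, ← map_mul]
    congr 2
    have := posEmb_fixes_pureT (RingHom.id F) i s B (by rw [map_id_eq]; exact hs)
    rw [map_id_eq] at this
    exact this
  -- an index different from `i`
  obtain ⟨l₀, hl₀⟩ : ∃ l : Fin t, l ≠ i := by
    by_cases hi : i.val = 0
    · refine ⟨⟨1, by omega⟩, fun h => ?_⟩
      have := congrArg Fin.val h
      simp only at this
      omega
    · refine ⟨⟨0, ht0⟩, fun h => ?_⟩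
      have := congrArg Fin.val h
      simp only at this
      omega
  refine eq_of_polar_eq_of_basis (fun w => quadOf (upper G) (p *ᵥ w)) (quadOf (upper G)) ?_ ?_ ?_ ?_ w
  · intro a v
    show quadOf (upper G) (p *ᵥ (a • v)) = a ^ 2 * quadOf (upper G) (p *ᵥ v)
    rw [Matrix.mulVec_smul, quadOf_smul]
  · intro a v
    exact quadOf_smul _ a v
  · intro u v
    have h1 : QuadraticMap.polar (fun w => quadOf (upper G) (p *ᵥ w)) u v =
        QuadraticMap.polar (quadOf (upper G)) (p *ᵥ u) (p *ᵥ v) := by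
      simp only [QuadraticMap.polar, Matrix.mulVec_add]
    rw [h1, polar_quadOf_any, polar_quadOf_any, hUU, ← dot_congr_mulVec, hpG]
  · intro j
    show quadOf (upper G) (p *ᵥ Pi.single j 1) = quadOf (upper G) (Pi.single j 1)
    rw [quadOf_single]
    have h0 : upper G j j = 0 := by
      simp [upper]
    rw [h0]
    apply quadOf_upper_eq_zero
    intro k k' _ hk hk'
    have hcol : ∀ k, (p *ᵥ Pi.single j 1) k = posEmb i s (e' k) (e' j) := by
      intro k
      rw [Matrix.mulVec_single_one]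
      rfl
    rw [hcol] at hk hk'
    have e1 := posEmb_apply_ne_zero i s _ _ hk l₀ hl₀
    have e2 := posEmb_apply_ne_zero i s _ _ hk' l₀ hl₀
    rw [hGapp, Finset.prod_eq_zero (Finset.mem_univ l₀), mul_zero]
    rw [e1, ← e2]
    exact hBdiag _

end Cfsg.Agent.Lib.H11.AschS
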