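/-
EO project (Aschbacher for even-dimensional orthogonal groups), module EM8.3 part a (helper11), def-independent tools:
* char 2: an additive map `D` with `D (c • v) = c ^ 2 * D v` invariant under an irreducible set of matrices is zero
  (`n ≥ 2`, finite field), hence two invariant quadratic forms with the same polar form coincide;
* the quadratic form of `c • Rq (pureT gs)` on a pure tensor is the product of the quadratic forms of the factors;
* the forms `formOf id B` for `B` symmetric / alternating.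
-/
import Cfsg.Agent.Lib.H11.AschSM83d

set_option autoImplicit false

namespace Cfsg.Agent.Lib.H11.AschE

open Cfsg Cfsg.Geo Cfsg.Agent.Lib.Lead.Asch Cfsg.Agent.Lib.H16.Asch Cfsg.Agent.Lib.H21.Asch
  Cfsg.Agent.Lib.H6.Asch Cfsg.Agent.Lib.H11.AschS
open scoped MatrixGroups Matrix Kronecker

variable {F : Type*} [Field F] {n : ℕ}

theorem exists_sq_eq [Fintype F] (h2 : (2 : F) = 0) (x : F) : ∃ c : F, c ^ 2 = x := by
  have hch : ringChar F = 2 :=
    CharP.ringChar_of_prime_eq_zero Nat.prime_two (by exact_mod_cast h2)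
  obtain ⟨c, hc⟩ := FiniteField.isSquare_of_char_two hch x
  exact ⟨c, by rw [hc, sq]⟩

/-- **char 2**: an invariant additive `Frobenius-semilinear` map of an irreducible set of matrices is zero. -/
theorem eq_zero_of_additive_sq_invariant [Fintype F] (h2 : (2 : F) = 0) (hn : 2 ≤ n)
    (S : Set (Matrix (Fin n) (Fin n) F)) (hirr : ActsIrreducibly S)
    (D : (Fin n → F) → F) (hadd : ∀ u v, D (u + v) = D u + D v)
    (hsq : ∀ (c : F) v, D (c • v) = c ^ 2 * D v) (hinv : ∀ s ∈ S, ∀ v, D (s *ᵥ v) = D v)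
    (v : Fin n → F) : D v = 0 := by
  classical
  have hD0 : D 0 = 0 := by
    have := hsq 0 0
    rw [zero_smul] at this
    rw [this]; ring
  let W : Submodule F (Fin n → F) :=
    { carrier := {v | D v = 0}
      add_mem' := by
        intro a b ha hb
        show D (a + b) = 0
        rw [hadd, ha, hb, add_zero]
      zero_mem' := hD0
      smul_mem' := by
        intro c a ha
        show D (c • a) = 0
        rw [hsq, ha, mul_zero] }
  have hWinv : ∀ s ∈ S, W.map (Matrix.toLin' s) ≤ W := by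
    rintro s hs _ ⟨v, hv, rfl⟩
    show D (Matrix.toLin' s v) = 0
    rw [Matrix.toLin'_apply, hinv s hs]
    exact hv
  rcases hirr W hWinv with h | h
  · exfalso
    set u : Fin n → F := Pi.single ⟨0, by omega⟩ 1 with hu
    set w : Fin n → F := Pi.single ⟨1, by omega⟩ 1 with hw
    by_cases hDu : D u = 0
    · have hmem : u ∈ W := hDu
      rw [h] at hmem
      have := congrFun ((Submodule.mem_bot F).1 hmem) ⟨0, by omega⟩
      simp [hu] at this
    · obtain ⟨c, hc⟩ := exists_sq_eq h2 (D w / D u)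
      have hmem : w + c • u ∈ W := by
        show D (w + c • u) = 0
        rw [hadd, hsq, hc, div_mul_cancel₀ _ hDu]
        linear_combination D w * h2
      rw [h] at hmem
      have := congrFun ((Submodule.mem_bot F).1 hmem) ⟨1, by omega⟩
      simp [hu, hw] at this
  · have hmem : v ∈ W := by rw [h]; trivial
    exact hmem

/-- **char 2**: two quadratic maps with the same polar form, both invariant under an irreducible set, coincide. -/
theorem quad_eq_of_polar_eq_of_invariant [Fintype F] (h2 : (2 : F) = 0) (hn : 2 ≤ n)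
    (S : Set (Matrix (Fin n) (Fin n) F)) (hirr : ActsIrreducibly S)
    (Q₁ Q₂ : (Fin n → F) → F)
    (hs₁ : ∀ (c : F) v, Q₁ (c • v) = c ^ 2 * Q₁ v) (hs₂ : ∀ (c : F) v, Q₂ (c • v) = c ^ 2 * Q₂ v)
    (hpol : ∀ u v, QuadraticMap.polar Q₁ u v = QuadraticMap.polar Q₂ u v)
    (h₁ : ∀ s ∈ S, ∀ v, Q₁ (s *ᵥ v) = Q₁ v) (h₂ : ∀ s ∈ S, ∀ v, Q₂ (s *ᵥ v) = Q₂ v)
    (v : Fin n → F) : Q₁ v = Q₂ v := by
  have := eq_zero_of_additive_sq_invariant h2 hn S hirr (fun v => Q₁ v - Q₂ v)
    (fun u v => by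
      have := hpol u v
      simp only [QuadraticMap.polar] at this
      show Q₁ (u + v) - Q₂ (u + v) = (Q₁ u - Q₂ u) + (Q₁ v - Q₂ v)
      linear_combination this)
    (fun c v => by
      show Q₁ (c • v) - Q₂ (c • v) = c ^ 2 * (Q₁ v - Q₂ v)
      rw [hs₁, hs₂]; ring)
    (fun s hs v => by
      show Q₁ (s *ᵥ v) - Q₂ (s *ᵥ v) = Q₁ v - Q₂ v
      rw [h₁ s hs, h₂ s hs]) v
  linear_combination this

/-! ### pure tensors -/

/-- the pure tensor with factors `ξ i` -/
def pureV {m t : ℕ} (ξ : Fin t → Fin m → F) : (Fin t → Fin m) → F := fun a => ∏ i, ξ i (a i)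

/-- A tensor product form on pure tensors is the product of the forms of the factors. -/
theorem pureT_form_pure {m t : ℕ} (gs : Fin t → Matrix (Fin m) (Fin m) F)
    (ξ η : Fin t → Fin m → F) :
    ∑ a, ∑ b, pureV ξ a * pureT gs a b * pureV η b =
      ∏ i, (∑ p, ∑ q, ξ i p * gs i p q * η i q) := by
  rw [Finset.prod_univ_sum, Fintype.piFinset_univ]
  refine Finset.sum_congr rfl fun a _ => ?_
  rw [Finset.prod_univ_sum, Fintype.piFinset_univ]
  refine Finset.sum_congr rfl fun b _ => ?_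
  simp only [pureV, pureT_apply]
  rw [Finset.prod_mul_distrib, Finset.prod_mul_distrib]

theorem dot_mulVec_eq_sum {m : ℕ} (g : Matrix (Fin m) (Fin m) F) (x y : Fin m → F) :
    x ⬝ᵥ (g *ᵥ y) = ∑ p, ∑ q, x p * g p q * y q := by
  simp only [dotProduct, Matrix.mulVec, Finset.mul_sum, mul_assoc]

/-- the quadratic form of `c • Rq (pureT gs)` on a pure tensor -/
theorem quadOf_pureT_pure [Fintype F] {m t : ℕ} (e' : Fin n ≃ (Fin t → Fin m)) (c : F)
    (gs : Fin t → Matrix (Fin m) (Fin m) F) (ξ : Fin t → Fin m → F) :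
    quadOf (c • Matrix.reindexAlgEquiv F F e'.symm (pureT gs)) (pureV ξ ∘ e') =
      c * ∏ i, (ξ i ⬝ᵥ (gs i *ᵥ ξ i)) := by
  classical
  have hRqapp : ∀ j k, (Matrix.reindexAlgEquiv F F e'.symm (pureT gs)) j k = pureT gs (e' j) (e' k) :=
    fun j k => rfl
  calc quadOf (c • Matrix.reindexAlgEquiv F F e'.symm (pureT gs)) (pureV ξ ∘ e')
      = ∑ j, ∑ k, pureV ξ (e' j) * (c * pureT gs (e' j) (e' k)) * pureV ξ (e' k) := by
        simp only [quadOf, dotProduct, Matrix.mulVec, Matrix.smul_apply, smul_eq_mul, Function.comp_apply,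
          hRqapp, Finset.mul_sum, mul_assoc]
    _ = ∑ a, ∑ b, pureV ξ a * (c * pureT gs a b) * pureV ξ b := by
        rw [← Equiv.sum_comp e' (fun a => ∑ b, pureV ξ a * (c * pureT gs a b) * pureV ξ b)]
        refine Finset.sum_congr rfl fun j _ => ?_
        rw [← Equiv.sum_comp e' (fun b => pureV ξ (e' j) * (c * pureT gs (e' j) b) * pureV ξ b)]
    _ = c * ∑ a, ∑ b, pureV ξ a * pureT gs a b * pureV ξ b := by
        rw [Finset.mul_sum]
        refine Finset.sum_congr rfl fun a _ => ?_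
        rw [Finset.mul_sum]
        refine Finset.sum_congr rfl fun b _ => ?_
        ring
    _ = c * ∏ i, (ξ i ⬝ᵥ (gs i *ᵥ ξ i)) := by
        rw [pureT_form_pure]
        congr 1
        refine Finset.prod_congr rfl fun i _ => ?_
        rw [dot_mulVec_eq_sum]

/-! ### the forms of symmetric / alternating matrices -/

theorem isSymmetricForm_formOf {m : ℕ} (B : Matrix (Fin m) (Fin m) F) (hB : IsUnit B.det)
    (hBT : Bᵀ = B) : IsSymmetricForm (formOf (RingHom.id F) B) := by
  have hrep : Rep (RingHom.id F) B (formOf (RingHom.id F) B) := rep_formOf _ _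
  refine ⟨hrep.bilinear, fun v w => ?_, hrep.nondegenerate hB⟩
  show v ⬝ᵥ (B *ᵥ w) = w ⬝ᵥ (B *ᵥ v)
  rw [Matrix.dotProduct_mulVec, dotProduct_comm, ← Matrix.mulVec_transpose, hBT]

theorem isSymplecticForm_formOf_of_alt {m : ℕ} (B : Matrix (Fin m) (Fin m) F) (hB : IsUnit B.det)
    (hBT : Bᵀ = -B) (halt : ∀ v : Fin m → F, v ⬝ᵥ (B *ᵥ v) = 0) :
    IsSymplecticForm (formOf (RingHom.id F) B) := by
  have hrep : Rep (RingHom.id F) B (formOf (RingHom.id F) B) := rep_formOf _ _
  refine ⟨hrep.bilinear, fun v w => ?_, fun v => halt v, hrep.nondegenerate hB⟩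
  show v ⬝ᵥ (B *ᵥ w) = - (w ⬝ᵥ (B *ᵥ v))
  rw [Matrix.dotProduct_mulVec, dotProduct_comm, ← Matrix.mulVec_transpose, hBT, Matrix.neg_mulVec,
    dotProduct_neg]

end Cfsg.Agent.Lib.H11.AschE
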