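/-
Aschbacher projects (S5662 / S5663 / S5673), module M8.3: the FORM-INDEPENDENT tensor data of at least two
components, extracted from helper16's proof of the linear M8.3 (Lib/H16/AschM8C.lean, `tame_of_components_aux`):
a tensor basis `e', Q` in which every `L i` acts in position `i` through ONE absolutely irreducible
representation `ρ` of `L i0`, and every element of `H` is (factor permutation) * (pure tensor).  (helper11)
-/
import Cfsg.Agent.Lib.H16.AschM8C

set_option autoImplicit false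

namespace Cfsg.Agent.Lib.H11.AschS

open Cfsg Cfsg.Geo Cfsg.Agent.Lib.Lead.Asch Cfsg.Agent.Lib.H26.Asch
  Cfsg.Agent.Lib.H21.Asch Cfsg.Agent.Lib.H6.Asch Cfsg.Agent.Lib.H8.Asch Cfsg.Agent.Lib.H4.Asch
  Cfsg.Agent.Lib.H14.Asch Cfsg.Agent.Lib.H16.Asch
open scoped MatrixGroups Matrix Kronecker

variable {F : Type*} [Field F] {n : ℕ}

/-- The tensor data of `t ≥ 2` components. -/
theorem exists_tensorData [Fintype F] (hn0 : 0 < n) (H : Subgroup (GL (Fin n) F)) (hgood : Good H)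
    (t : ℕ) (L : Fin t → Subgroup (GL (Fin n) F)) (ht : 2 ≤ t)
    (hle : ∀ i, L i ≤ H) (hcomm : ∀ i j, i ≠ j → ∀ x ∈ L i, ∀ y ∈ L j, x * y = y * x)
    (hperm : ∀ h ∈ H, ∃ σ : Equiv.Perm (Fin t), ∀ i, (L i).map (MulAut.conj h).toMonoidHom = L (σ i))
    (htrans : ∀ i j, ∃ h ∈ H, (L i).map (MulAut.conj h).toMonoidHom = L j)
    (hns : ∀ i, ¬ L i ≤ scalars (Fin n) F) (i0 : Fin t) :
    ∃ (m : ℕ) (e' : Fin n ≃ (Fin t → Fin m)) (Q : GL (Fin n) F) (ρ : L i0 →* GL (Fin m) F),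
      2 ≤ m ∧ ActsAbsolutelyIrreducibly (repSet ρ) ∧
      ActsAbsolutelyIrreducibly (matrixSet (⨆ i, L i)) ∧ NormalizedBy H (⨆ i, L i) ∧
      (∀ i, ∀ y ∈ L i, ∃ x : L i0, (y : Matrix (Fin n) (Fin n) F) =
        (Q : Matrix (Fin n) (Fin n) F) * Matrix.reindexAlgEquiv F F e'.symm
          (posEmb i ((ρ x : GL (Fin m) F) : Matrix (Fin m) (Fin m) F)) *
          ((Q⁻¹ : GL (Fin n) F) : Matrix (Fin n) (Fin n) F)) ∧
      (∀ i, ∀ x : L i0, ∃ y ∈ L i, (y : Matrix (Fin n) (Fin n) F) =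
        (Q : Matrix (Fin n) (Fin n) F) * Matrix.reindexAlgEquiv F F e'.symm
          (posEmb i ((ρ x : GL (Fin m) F) : Matrix (Fin m) (Fin m) F)) *
          ((Q⁻¹ : GL (Fin n) F) : Matrix (Fin n) (Fin n) F)) ∧
      (∀ h ∈ H, ∃ (σ : Equiv.Perm (Fin t)) (gs : Fin t → GL (Fin m) F),
        (h : Matrix (Fin n) (Fin n) F) =
          (Q : Matrix (Fin n) (Fin n) F) * Matrix.reindexAlgEquiv F F e'.symm
            (permMat σ * pureT (fun i => ((gs i : GL (Fin m) F) : Matrix (Fin m) (Fin m) F))) *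
          ((Q⁻¹ : GL (Fin n) F) : Matrix (Fin n) (Fin n) F)) ∧
      H ≤ tensorWreathSubgroup m t e' Q := by
  classical
  have ht0 : 0 < t := by omega
  set Ls : Subgroup (GL (Fin n) F) := ⨆ i, L i with hLs
  have hLsH : Ls ≤ H := iSup_le hle
  have hLsN : NormalizedBy H Ls := normalizedBy_iSup H L hperm
  have hLsns : ¬ Ls ≤ scalars (Fin n) F := fun h => hns i0 ((le_iSup L i0).trans h)
  have habsL : ActsAbsolutelyIrreducibly (matrixSet Ls) :=
    (hgood.star Ls hLsH hLsN).resolve_left hLsns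
  have hAB : L i0 ⊔ (⨆ j : {j : Fin t // j ≠ i0}, L j.1) = Ls := sup_iSup_ne L i0
  have hcAB := commute_iSup_ne L i0 hcomm
  obtain ⟨D⟩ := exists_homogData_of_commuting hn0 Ls (L i0) _ habsL.1 hAB.symm hcAB
  have hρabs : ActsAbsolutelyIrreducibly (repSet D.ρ) :=
    absIrr_rep_of_commuting hn0 (L i0) _ hcAB (hAB ▸ habsL) D
  have hm2 : 2 ≤ D.d := by
    by_contra hlt
    exact hns i0 (le_scalars_of_homog_d_le_one (L i0) D (by omega))
  obtain ⟨m, k, e, P, ρ, hirrρ, heq⟩ := D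
  dsimp only at hρabs hm2
  -- Burnside
  have hspan : Submodule.span F (repSet ρ) = ⊤ := by
    have := Cfsg.Agent.Lib.H3.Asch.span_eq_top_of_absIrr ρ.range (by rw [matrixSet_range]; exact hρabs)
    rwa [matrixSet_range] at this
  -- conjugating elements
  choose hc hcH hcmap using fun i => htrans i0 i
  let φ : Fin t → (Matrix (Fin m) (Fin m) F →ₐ[F] Matrix (Fin n) (Fin n) F) :=
    fun i => phiHom e (hc i * P⁻¹)
  have hφ0 : ∀ i (x : L i0), ((hc i * (x : GL (Fin n) F) * (hc i)⁻¹ : GL (Fin n) F) :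
      Matrix (Fin n) (Fin n) F) = φ i ((ρ x : GL (Fin m) F) : Matrix (Fin m) (Fin m) F) := by
    intro i x
    show _ = phiHom e (hc i * P⁻¹) _
    rw [phiHom_apply, ← heq x, ← Units.val_mul, ← Units.val_mul]
    congr 1
    group
  have hφ1 : ∀ i, ∀ y ∈ L i, ∃ x : L i0, (y : Matrix (Fin n) (Fin n) F) =
      φ i ((ρ x : GL (Fin m) F) : Matrix (Fin m) (Fin m) F) := by
    intro i y hy
    rw [← hcmap i] at hy
    obtain ⟨x, hx, rfl⟩ := Subgroup.mem_map.1 hy
    refine ⟨⟨x, hx⟩, ?_⟩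
    rw [← hφ0 i ⟨x, hx⟩]
    simp only [MulEquiv.coe_toMonoidHom, MulAut.conj_apply]
  have hφ1' : ∀ i (x : L i0), ∃ y ∈ L i, (y : Matrix (Fin n) (Fin n) F) =
      φ i ((ρ x : GL (Fin m) F) : Matrix (Fin m) (Fin m) F) := by
    intro i x
    refine ⟨hc i * (x : GL (Fin n) F) * (hc i)⁻¹, ?_, hφ0 i x⟩
    rw [← hcmap i]
    exact Subgroup.mem_map.2 ⟨x, x.2, by simp [MulAut.conj_apply]⟩
  have hφ2 : ∀ i a, φ i a ∈ Submodule.span F (matrixSet (L i)) := by
    intro i a
    have ha : a ∈ Submodule.span F (repSet ρ) := by rw [hspan]; trivial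
    induction ha using Submodule.span_induction with
    | mem b hb =>
      obtain ⟨x, rfl⟩ := hb
      apply Submodule.subset_span
      obtain ⟨y, hy, hyx⟩ := hφ1' i x
      exact ⟨y, hy, hyx⟩
    | zero => rw [map_zero]; exact Submodule.zero_mem _
    | add a b _ _ ha hb => rw [map_add]; exact Submodule.add_mem _ ha hb
    | smul c a _ ha => rw [map_smul]; exact Submodule.smul_mem _ c ha
  have hφ2' : ∀ i, ∀ z ∈ Submodule.span F (matrixSet (L i)), ∃ a, φ i a = z := by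
    intro i z hz
    induction hz using Submodule.span_induction with
    | mem y hy =>
      obtain ⟨g, hg, rfl⟩ := hy
      obtain ⟨x, hx⟩ := hφ1 i g hg
      exact ⟨_, hx.symm⟩
    | zero => exact ⟨0, map_zero _⟩
    | add a b _ _ ha hb =>
      obtain ⟨a', rfl⟩ := ha
      obtain ⟨b', rfl⟩ := hb
      exact ⟨a' + b', map_add _ _ _⟩
    | smul c a _ ha =>
      obtain ⟨a', rfl⟩ := ha
      exact ⟨c • a', map_smul _ _ _⟩
  have hφ3 : ∀ i j, i ≠ j → ∀ a b, φ i a * φ j b = φ j b * φ i a := by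
    intro i j hij a b
    refine commute_of_mem_span (F := F) (matrixSet (L i)) (matrixSet (L j)) ?_ _ _ (hφ2 i a) (hφ2 j b)
    rintro _ ⟨x, hx, rfl⟩ _ ⟨y, hy, rfl⟩
    rw [← Units.val_mul, ← Units.val_mul, hcomm i j hij x hx y hy]
  have hφ4 : ∀ W : Submodule F (Fin n → F),
      (∀ i a, W.map (Matrix.toLin' (φ i a)) ≤ W) → W = ⊥ ∨ W = ⊤ := by
    intro W hW
    apply habsL.1 W
    rintro _ ⟨g, hg, rfl⟩
    refine map_le_of_mem_iSup L W ?_ g hg
    intro i y hy
    obtain ⟨x, hx⟩ := hφ1 i y hy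
    rw [hx]
    exact hW i _
  obtain ⟨e', Q, hQ⟩ := exists_tensor_basis hn0 (by omega) ht0 φ hφ3 hφ4
  -- `Rq` : reindexing as an algebra equivalence
  set Rq : Matrix (Fin t → Fin m) (Fin t → Fin m) F ≃ₐ[F] Matrix (Fin n) (Fin n) F :=
    Matrix.reindexAlgEquiv F F e'.symm with hRq
  have hQ' : ∀ i a, φ i a = conjAlgHom Q (Rq (posEmb i a)) := by
    intro i a
    rw [hQ i a]
    rfl
  -- every element of `H` is permutation * pure tensor in the tensor basis
  have hmem : ∀ h ∈ H, ∃ (σ : Equiv.Perm (Fin t)) (gs : Fin t → GL (Fin m) F),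
      (h : Matrix (Fin n) (Fin n) F) = (Q : Matrix (Fin n) (Fin n) F) *
        Rq (permMat σ * pureT (fun i => ((gs i : GL (Fin m) F) : Matrix (Fin m) (Fin m) F))) *
        ((Q⁻¹ : GL (Fin n) F) : Matrix (Fin n) (Fin n) F) := by
    intro h hh
    obtain ⟨σ, hσ⟩ := hperm h hh
    have hconj : ∀ i, ∀ z ∈ Submodule.span F (matrixSet (L i)),
        conjAlgHom h z ∈ Submodule.span F (matrixSet (L (σ i))) := by
      intro i z hz
      induction hz using Submodule.span_induction with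
      | mem y hy =>
        obtain ⟨g, hg, rfl⟩ := hy
        apply Submodule.subset_span
        refine ⟨h * g * h⁻¹, ?_, ?_⟩
        · rw [← hσ i]
          exact Subgroup.mem_map.2 ⟨g, hg, by simp [MulAut.conj_apply]⟩
        · show ((h * g * h⁻¹ : GL (Fin n) F) : Matrix (Fin n) (Fin n) F) = _
          rw [conjAlgHom_apply, Units.val_mul, Units.val_mul]
      | zero => rw [map_zero]; exact Submodule.zero_mem _
      | add a b _ _ ha hb => rw [map_add]; exact Submodule.add_mem _ ha hb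
      | smul c a _ ha => rw [map_smul]; exact Submodule.smul_mem _ c ha
    set G0 : GL (Fin n) F := Q⁻¹ * h * Q with hG0
    have hG0' : ∀ i a, ∃ a', (G0 : Matrix (Fin n) (Fin n) F) * Rq (posEmb i a) =
        Rq (posEmb (σ i) a') * (G0 : Matrix (Fin n) (Fin n) F) := by
      intro i a
      obtain ⟨a', ha'⟩ := hφ2' (σ i) _ (hconj i _ (hφ2 i a))
      refine ⟨a', ?_⟩
      rw [hQ', hQ'] at ha'
      have h1 : Rq (posEmb (σ i) a') = conjAlgHom G0 (Rq (posEmb i a)) := by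
        rw [hG0, conjAlgHom_mul, conjAlgHom_mul, ← ha', conjAlgHom_inv_conj]
      rw [h1, conjAlgHom_mul_self]
    let g : GL (Fin t → Fin m) F := glReindex e' G0
    have hgval : (g : Matrix (Fin t → Fin m) (Fin t → Fin m) F) =
        Rq.symm (G0 : Matrix (Fin n) (Fin n) F) := rfl
    have hg : ∀ i (a : Matrix (Fin m) (Fin m) F), ∃ a' : Matrix (Fin m) (Fin m) F,
        (g : Matrix (Fin t → Fin m) (Fin t → Fin m) F) * posEmb i a =
          posEmb (σ i) a' * (g : Matrix (Fin t → Fin m) (Fin t → Fin m) F) := by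
      intro i a
      obtain ⟨a', ha'⟩ := hG0' i a
      refine ⟨a', ?_⟩
      apply Rq.injective
      rw [hgval, map_mul, map_mul, AlgEquiv.apply_symm_apply]
      exact ha'
    obtain ⟨gs, hgs⟩ := perm_pure_of_permutes (by omega) ht0 g σ hg
    refine ⟨σ, gs, ?_⟩
    have h2 : (G0 : Matrix (Fin n) (Fin n) F) =
        Rq (permMat σ * pureT (fun i => ((gs i : GL (Fin m) F) : Matrix (Fin m) (Fin m) F))) := by
      rw [← hgs, hgval, AlgEquiv.apply_symm_apply]
    have h3 : h = Q * G0 * Q⁻¹ := by rw [hG0]; group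
    rw [h3, Units.val_mul, Units.val_mul, h2]
  refine ⟨m, e', Q, ρ, hm2, hρabs, habsL, hLsN, ?_, ?_, hmem, ?_⟩
  · intro i y hy
    obtain ⟨x, hx⟩ := hφ1 i y hy
    refine ⟨x, ?_⟩
    rw [hx, hQ', conjAlgHom_apply]
  · intro i x
    obtain ⟨y, hy, hyx⟩ := hφ1' i x
    refine ⟨y, hy, ?_⟩
    rw [hyx, hQ', conjAlgHom_apply]
  · intro h hh
    obtain ⟨σ, gs, hσ⟩ := hmem h hh
    apply mem_tensorWreathSubgroup_of_eq e' Q h σ gs
    rw [hσ]
    rfl

end Cfsg.Agent.Lib.H11.AschS
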