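/-
EO project (Aschbacher for even-dimensional orthogonal groups, architect helper26), module **EM8.3** (helper11),
def-independent, ALL `q`, any `n ≥ 3`: `t ≥ 2` components of a subgroup `H` of the isometry group of a non-degenerate
quadratic form `Q`.  In the tensor basis of the components the polar form is `c • (t-th tensor power of B)`,
`B` invertible, `Bᵀ = ε B`, `ε ^ t = 1`; `m = 2` forces `B` skew (a perfect group acts on `F²` with determinant one);
`q` even: `B` is alternating and `Q` VANISHES ON PURE TENSORS.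
-/
import Cfsg.Agent.Lib.H11.AschTD
import Cfsg.Agent.Lib.H11.AschEM83a
import Cfsg.Agent.Lib.H25.AschUT5b

set_option autoImplicit false

namespace Cfsg.Agent.Lib.H11.AschE

open Cfsg Cfsg.Geo Cfsg.Agent.Lib.Lead.Asch Cfsg.Agent.Lib.H16.Asch Cfsg.Agent.Lib.H21.Asch
  Cfsg.Agent.Lib.H6.Asch Cfsg.Agent.Lib.H11.AschS
open scoped MatrixGroups Matrix Kronecker

variable {F : Type*} [Field F] [Fintype F] {n : ℕ}

/-- **EM8.3**, matrix form. -/
theorem components_tensor_quad (Q : (Fin n → F) → F) (hQ : IsNondegenerateQuadraticForm Q) (hn : 3 ≤ n)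
    (H : Subgroup (GL (Fin n) F))
    (hH : ∀ x ∈ H, ∀ v, Q ((x : Matrix (Fin n) (Fin n) F) *ᵥ v) = Q v) (hgood : Good H)
    (t : ℕ) (L : Fin t → Subgroup (GL (Fin n) F)) (hL : Cfsg.Agent.Lib.H26.Asch.Components H t L)
    (ht : 2 ≤ t) :
    ∃ (m : ℕ) (e : Fin n ≃ (Fin t → Fin m)) (P : GL (Fin n) F) (B : Matrix (Fin m) (Fin m) F) (ε : F),
      2 ≤ m ∧ IsUnit B.det ∧ (ε = 1 ∨ ε = -1) ∧ Bᵀ = ε • B ∧ ε ^ t = 1 ∧
      IsTensorPowerFormStructure id (QuadraticMap.polar Q) (formOf (RingHom.id F) B) e P ∧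
      H ≤ tensorWreathSubgroup m t e P ∧ (m = 2 → Bᵀ = -B) ∧
      (¬ Odd (Fintype.card F) → (∀ v : Fin m → F, v ⬝ᵥ (B *ᵥ v) = 0) ∧
        ∀ x : Fin t → Fin m → F,
          Q ((P : Matrix (Fin n) (Fin n) F) *ᵥ ((fun a : Fin t → Fin m => ∏ i, x i (a i)) ∘ e)) = 0) := by
  classical
  have hn0 : 0 < n := by omega
  have ht0 : 0 < t := by omega
  set i0 : Fin t := ⟨0, ht0⟩ with hi0
  obtain ⟨m, e', Q₁, ρ, hm2, hρabs, habsL, hLsN, hc, hb, -, hmem⟩ :=
    exists_tensorData hn0 H hgood t L ht hL.le hL.comm hL.perm hL.trans hL.not_scal i0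
  have hLsH : (⨆ i, L i) ≤ H := iSup_le hL.le
  have hfixQH : FixesQuadForm (matrixSet H) Q := by
    rintro _ ⟨x, hx, rfl⟩ v
    exact hH x hx v
  have hfixH : FixesForm (matrixSet H) (QuadraticMap.polar Q) := fixesForm_polar _ Q hfixQH
  have hfixL : ∀ i, FixesForm (matrixSet (L i)) (QuadraticMap.polar Q) := by
    rintro i _ ⟨y, hy, rfl⟩ u v
    exact hfixH _ ⟨y, hL.le i hy, rfl⟩ u v
  obtain ⟨J, B, ε, c, hJ, hJdet, hBdet, hε, hBT, hBfix, hc0, hcG⟩ :=
    exists_tensorPower_gram hn0 (QuadraticMap.polar Q) hQ.polar_bilinear hQ.nondegenerate t L i0 hfixL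
      habsL m e' Q₁ ρ hρabs hb hc
  set Rq : Matrix (Fin t → Fin m) (Fin t → Fin m) F ≃ₐ[F] Matrix (Fin n) (Fin n) F :=
    Matrix.reindexAlgEquiv F F e'.symm with hRq
  have hRqT : ∀ X : Matrix (Fin t → Fin m) (Fin t → Fin m) F, (Rq X)ᵀ = Rq Xᵀ := fun X => rfl
  set T : Matrix (Fin t → Fin m) (Fin t → Fin m) F := pureT (fun _ : Fin t => B) with hT
  -- `J` is symmetric
  have hJT : Jᵀ = J := by
    ext a b
    rw [Matrix.transpose_apply, ← hJ.apply_single, ← hJ.apply_single]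
    exact QuadraticMap.polar_comm _ _ _
  have hB0 : B ≠ 0 := by
    intro h0
    rw [h0] at hBdet
    haveI : Nonempty (Fin m) := ⟨⟨0, by omega⟩⟩
    rw [Matrix.det_zero] at hBdet
    exact not_isUnit_zero hBdet
  have hT0 : T ≠ 0 := pureT_const_ne_zero B hB0
  -- `Tᵀ = T`
  have hTT : Tᵀ = T := by
    have h1 := congrArg Matrix.transpose hcG
    rw [Matrix.transpose_mul, Matrix.transpose_mul, Matrix.transpose_transpose, hJT,
      Matrix.transpose_smul, hRqT, ← Matrix.mul_assoc, hcG] at h1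
    have h3 : Rq T = Rq Tᵀ := by
      have := congrArg (fun X => c⁻¹ • X) h1
      simp only [smul_smul, inv_mul_cancel₀ hc0, one_smul] at this
      exact this
    exact (Rq.injective h3).symm
  -- `ε ^ t = 1`
  have hεt : ε ^ t = 1 := by
    have h1 : Tᵀ = ε ^ t • T := by
      rw [hT, pureT_transpose]
      simp only [hBT]
      exact pureT_smul_const ε B
    have h2 : (ε ^ t - 1) • T = 0 := by
      rw [sub_smul, one_smul, ← h1, hTT, sub_self]
    rcases smul_eq_zero.1 h2 with h | h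
    · linear_combination h
    · exact absurd h hT0
  -- `m = 2`: `B` is skew
  have hm2skew : m = 2 → Bᵀ = -B := by
    intro hm
    subst hm
    have hdet : ∀ s ∈ repSet ρ, s.det = 1 := by
      rintro _ ⟨x, rfl⟩
      exact det_eq_one_of_perfect (L i0) (hL.perfect i0) ρ x
    have hunits : ∀ s ∈ repSet ρ, IsUnit s.det := by
      intro s hs
      rw [hdet s hs]
      exact isUnit_one
    have hJ2det : IsUnit (!![0, 1; -1, 0] : Matrix (Fin 2) (Fin 2) F).det := by
      rw [Matrix.det_fin_two_of]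
      simp
    have hfixJ2 : ∀ g ∈ repSet ρ, gᵀ * (!![0, 1; -1, 0] : Matrix (Fin 2) (Fin 2) F) *
        g.map (RingHom.id F) = !![0, 1; -1, 0] := by
      intro g hg
      rw [map_id_eq]
      exact two_transpose_J_mul g (hdet g hg)
    have hfixB' : ∀ g ∈ repSet ρ, gᵀ * B * g.map (RingHom.id F) = B := by
      intro g hg
      rw [map_id_eq]
      exact hBfix g hg
    obtain ⟨c', hc'⟩ := core (RingHom.id F) (repSet ρ) hρabs.2 hunits _ B hJ2det hfixJ2 hfixB'
    have hJ2T : (!![0, 1; -1, 0] : Matrix (Fin 2) (Fin 2) F)ᵀ = -!![0, 1; -1, 0] := by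
      ext i j
      fin_cases i <;> fin_cases j <;> simp
    rw [hc', Matrix.transpose_smul, hJ2T, smul_neg]
  refine ⟨m, e', Q₁, B, ε, hm2, hBdet, hε, hBT, hεt,
    isTensorPowerFormStructure_of_gram J hJ e' Q₁ B c hc0 hcG, hmem, hm2skew, ?_⟩
  -- `q` even
  intro hodd
  have h2 : (2 : F) = 0 := two_eq_zero_of_not_odd_card hodd
  have hneg : (-1 : F) = 1 := by linear_combination -h2
  have hBsymm : Bᵀ = B := by
    rcases hε with h | h
    · rw [hBT, h, one_smul]
    · rw [hBT, h, hneg, one_smul]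
  have halt := Cfsg.Agent.Lib.H25.Asch.alternating_of_fix_char_two hm2 h2 (repSet ρ) hρabs.1 B hBsymm hBfix
  refine ⟨halt, ?_⟩
  have hBdiag : ∀ a, B a a = 0 := by
    intro a
    have := halt (Pi.single a 1)
    rw [Matrix.mulVec_single_one, single_dotProduct, one_mul] at this
    exact this
  -- an index different from `i0`
  set l₀ : Fin t := ⟨1, by omega⟩ with hl₀
  have hl₀ne : l₀ ≠ i0 := by
    intro h
    have := congrArg Fin.val h
    simp [hl₀, hi0] at this
  -- the matrix `U` with `U + Uᵀ = G`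
  set gs : Fin t → Matrix (Fin m) (Fin m) F := Function.update (fun _ => B) i0 (upper B) with hgs
  have hgsl : gs l₀ = B := by rw [hgs, Function.update_of_ne hl₀ne]
  set G : Matrix (Fin n) (Fin n) F :=
    (Q₁ : Matrix (Fin n) (Fin n) F)ᵀ * J * (Q₁ : Matrix (Fin n) (Fin n) F) with hG
  set U : Matrix (Fin n) (Fin n) F := c • Rq (pureT gs) with hU
  have hUU : U + Uᵀ = G := by
    have h1 : (fun i => (gs i)ᵀ) = Function.update (fun _ => B) i0 (upper B)ᵀ := by
      funext i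
      by_cases hi : i = i0
      · subst hi
        rw [hgs, Function.update_self, Function.update_self]
      · rw [hgs, Function.update_of_ne hi, Function.update_of_ne hi, hBsymm]
    have h2 : upper B + (upper B)ᵀ = B := upper_add_transpose B hBsymm hBdiag
    rw [hcG, hU, Matrix.transpose_smul, hRqT, pureT_transpose, h1, ← smul_add, ← map_add, hgs,
      ← pureT_update_add, h2, Function.update_eq_self_iff.mpr rfl]
  have hRqapp : ∀ (X : Matrix (Fin t → Fin m) (Fin t → Fin m) F) j k, (Rq X) j k = X (e' j) (e' k) :=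
    fun X j k => rfl
  -- `U` vanishes on pure tensors
  have hUpure : ∀ ξ : Fin t → Fin m → F, quadOf U (pureV ξ ∘ e') = 0 := by
    intro ξ
    rw [hU, quadOf_pureT_pure, Finset.prod_eq_zero (Finset.mem_univ l₀), mul_zero]
    rw [hgsl]
    exact halt _
  have hUdiag : ∀ j, U j j = 0 := by
    intro j
    rw [hU, Matrix.smul_apply, smul_eq_mul, hRqapp, pureT_apply,
      Finset.prod_eq_zero (Finset.mem_univ l₀), mul_zero]
    rw [hgsl]
    exact hBdiag _
  have hQQ' : (Q₁ : Matrix (Fin n) (Fin n) F) * ((Q₁⁻¹ : GL (Fin n) F) : Matrix (Fin n) (Fin n) F) = 1 := by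
    rw [← Units.val_mul, mul_inv_cancel, Units.val_one]
  have hQQ : ((Q₁⁻¹ : GL (Fin n) F) : Matrix (Fin n) (Fin n) F) * (Q₁ : Matrix (Fin n) (Fin n) F) = 1 := by
    rw [← Units.val_mul, inv_mul_cancel, Units.val_one]
  -- the quadratic form
  set Q₀ : (Fin n → F) → F := fun v =>
    quadOf U (((Q₁⁻¹ : GL (Fin n) F) : Matrix (Fin n) (Fin n) F) *ᵥ v) with hQ₀
  have hs₀ : ∀ (a : F) v, Q₀ (a • v) = a ^ 2 * Q₀ v := by
    intro a v
    show quadOf U (((Q₁⁻¹ : GL (Fin n) F) : Matrix (Fin n) (Fin n) F) *ᵥ (a • v)) =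
      a ^ 2 * quadOf U (((Q₁⁻¹ : GL (Fin n) F) : Matrix (Fin n) (Fin n) F) *ᵥ v)
    rw [Matrix.mulVec_smul, quadOf_smul]
  have hpolar : ∀ u v, QuadraticMap.polar Q₀ u v = QuadraticMap.polar Q u v := by
    intro u v
    have h1 : QuadraticMap.polar Q₀ u v = QuadraticMap.polar (quadOf U)
        (((Q₁⁻¹ : GL (Fin n) F) : Matrix (Fin n) (Fin n) F) *ᵥ u)
        (((Q₁⁻¹ : GL (Fin n) F) : Matrix (Fin n) (Fin n) F) *ᵥ v) := by
      simp only [QuadraticMap.polar, hQ₀, Matrix.mulVec_add]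
    have hQinv : ∀ w : Fin n → F, (Q₁ : Matrix (Fin n) (Fin n) F) *ᵥ
        (((Q₁⁻¹ : GL (Fin n) F) : Matrix (Fin n) (Fin n) F) *ᵥ w) = w := by
      intro w
      rw [Matrix.mulVec_mulVec, hQQ', Matrix.one_mulVec]
    rw [h1, polar_quadOf_any, hUU, hG, dot_congr_mulVec, hQinv, hQinv, hJ]
    rfl
  -- the components fix `Q₀`
  have hkey : ∀ (i : Fin t) (s : Matrix (Fin m) (Fin m) F), sᵀ * B * s = B → ∀ w : Fin n → F,
      quadOf U (Rq (posEmb i s) *ᵥ w) = quadOf U w := by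
    intro i s hs w
    have hpG : (Rq (posEmb i s))ᵀ * G * Rq (posEmb i s) = G := by
      rw [hcG, Matrix.mul_smul, Matrix.smul_mul, hRqT, ← map_mul, ← map_mul]
      congr 2
      have := posEmb_fixes_pureT (RingHom.id F) i s B (by rw [map_id_eq]; exact hs)
      rw [map_id_eq] at this
      exact this
    refine eq_of_polar_eq_of_basis (fun w => quadOf U (Rq (posEmb i s) *ᵥ w)) (quadOf U) ?_ ?_ ?_ ?_ w
    · intro a v
      show quadOf U (Rq (posEmb i s) *ᵥ (a • v)) = a ^ 2 * quadOf U (Rq (posEmb i s) *ᵥ v)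
      rw [Matrix.mulVec_smul, quadOf_smul]
    · intro a v
      exact quadOf_smul _ a v
    · intro u v
      have h1 : QuadraticMap.polar (fun w => quadOf U (Rq (posEmb i s) *ᵥ w)) u v =
          QuadraticMap.polar (quadOf U) (Rq (posEmb i s) *ᵥ u) (Rq (posEmb i s) *ᵥ v) := by
        simp only [QuadraticMap.polar, Matrix.mulVec_add]
      rw [h1, polar_quadOf_any, polar_quadOf_any, hUU, ← dot_congr_mulVec, hpG]
    · intro j
      show quadOf U (Rq (posEmb i s) *ᵥ Pi.single j 1) = quadOf U (Pi.single j 1)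
      rw [quadOf_single, hUdiag]
      have hcol : Rq (posEmb i s) *ᵥ Pi.single j 1 =
          pureV (fun l a => (Function.update (fun _ => (1 : Matrix (Fin m) (Fin m) F)) i s l) a (e' j l)) ∘ e' := by
        funext k
        rw [Matrix.mulVec_single_one]
        rfl
      rw [hcol]
      exact hUpure _
  have hfixQ₀ : ∀ s ∈ matrixSet (⨆ i, L i), ∀ v, Q₀ (s *ᵥ v) = Q₀ v := by
    rintro _ ⟨g, hg, rfl⟩
    refine Subgroup.iSup_induction L
      (C := fun g : GL (Fin n) F => ∀ v, Q₀ ((g : Matrix (Fin n) (Fin n) F) *ᵥ v) = Q₀ v) hg ?_ ?_ ?_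
    · intro i y hy v
      obtain ⟨x, hx⟩ := hc i y hy
      have h1 : ((Q₁⁻¹ : GL (Fin n) F) : Matrix (Fin n) (Fin n) F) *ᵥ ((y : Matrix (Fin n) (Fin n) F) *ᵥ v) =
          Rq (posEmb i ((ρ x : GL (Fin m) F) : Matrix (Fin m) (Fin m) F)) *ᵥ
            (((Q₁⁻¹ : GL (Fin n) F) : Matrix (Fin n) (Fin n) F) *ᵥ v) := by
        rw [hx, Matrix.mulVec_mulVec, Matrix.mulVec_mulVec]
        congr 1
        rw [← Matrix.mul_assoc, ← Matrix.mul_assoc, hQQ, Matrix.one_mul]
      show quadOf U (((Q₁⁻¹ : GL (Fin n) F) : Matrix (Fin n) (Fin n) F) *ᵥ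
        ((y : Matrix (Fin n) (Fin n) F) *ᵥ v)) = _
      rw [h1]
      exact hkey i _ (hBfix _ ⟨x, rfl⟩) _
    · intro v
      rw [Units.val_one, Matrix.one_mulVec]
    · intro a b ha hb v
      rw [Units.val_mul, ← Matrix.mulVec_mulVec, ha, hb]
  have hfixQ : ∀ s ∈ matrixSet (⨆ i, L i), ∀ v, Q (s *ᵥ v) = Q v := by
    rintro _ ⟨g, hg, rfl⟩ v
    exact hH g (hLsH hg) v
  have hQeq : ∀ v, Q v = Q₀ v :=
    quad_eq_of_polar_eq_of_invariant h2 (by omega) (matrixSet (⨆ i, L i)) habsL.1 Q Q₀ hQ.smul hs₀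
      (fun u v => (hpolar u v).symm) hfixQ hfixQ₀
  intro x
  rw [hQeq]
  show quadOf U (((Q₁⁻¹ : GL (Fin n) F) : Matrix (Fin n) (Fin n) F) *ᵥ
    ((Q₁ : Matrix (Fin n) (Fin n) F) *ᵥ ((fun a : Fin t → Fin m => ∏ i, x i (a i)) ∘ e'))) = 0
  rw [Matrix.mulVec_mulVec, hQQ, Matrix.one_mulVec]
  exact hUpure x

/-- **EM8.3**, form version: the tensor power structure with `f₁` symmetric (`q` odd, `m ≥ 3`), or symplectic with
`t` even (`q` odd), or symplectic with `Q` vanishing on pure tensors (`q` even). -/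
theorem components_tensor_quad' (Q : (Fin n → F) → F) (hQ : IsNondegenerateQuadraticForm Q) (hn : 3 ≤ n)
    (H : Subgroup (GL (Fin n) F))
    (hH : ∀ x ∈ H, ∀ v, Q ((x : Matrix (Fin n) (Fin n) F) *ᵥ v) = Q v) (hgood : Good H)
    (t : ℕ) (L : Fin t → Subgroup (GL (Fin n) F)) (hL : Cfsg.Agent.Lib.H26.Asch.Components H t L)
    (ht : 2 ≤ t) :
    ∃ (m : ℕ) (e : Fin n ≃ (Fin t → Fin m)) (P : GL (Fin n) F) (f₁ : (Fin m → F) → (Fin m → F) → F),
      2 ≤ m ∧ n = m ^ t ∧ IsTensorPowerFormStructure id (QuadraticMap.polar Q) f₁ e P ∧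
      H ≤ tensorWreathSubgroup m t e P ∧
      ((Odd (Fintype.card F) ∧ 3 ≤ m ∧ IsSymmetricForm f₁) ∨
       (Odd (Fintype.card F) ∧ Even t ∧ IsSymplecticForm f₁) ∨
       (¬ Odd (Fintype.card F) ∧ IsSymplecticForm f₁ ∧ ∀ x : Fin t → Fin m → F,
          Q ((P : Matrix (Fin n) (Fin n) F) *ᵥ ((fun a : Fin t → Fin m => ∏ i, x i (a i)) ∘ e)) = 0)) := by
  obtain ⟨m, e, P, B, ε, hm2, hBdet, hε, hBT, hεt, hstr, hmem, hm2skew, heven⟩ :=
    components_tensor_quad Q hQ hn H hH hgood t L hL ht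
  have hcard : n = m ^ t := by
    have := Fintype.card_congr e
    simpa using this
  refine ⟨m, e, P, formOf (RingHom.id F) B, hm2, hcard, hstr, hmem, ?_⟩
  by_cases hodd : Odd (Fintype.card F)
  · have h2 : (2 : F) ≠ 0 := two_ne_zero_of_odd_card' hodd
    have hneg : (-1 : F) ≠ 1 := by
      intro h
      apply h2
      linear_combination -h
    rcases hε with h | h
    · left
      have hBsymm : Bᵀ = B := by rw [hBT, h, one_smul]
      refine ⟨hodd, ?_, isSymmetricForm_formOf B hBdet hBsymm⟩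
      by_contra hlt
      have hm : m = 2 := by omega
      have h3 := hm2skew hm
      rw [hBsymm] at h3
      have h4 : (2 : F) • B = 0 := by
        rw [two_smul]
        nth_rw 1 [h3]
        exact neg_add_cancel B
      rcases smul_eq_zero.1 h4 with h5 | h5
      · exact h2 h5
      · rw [h5] at hBdet
        haveI : Nonempty (Fin m) := ⟨⟨0, by omega⟩⟩
        rw [Matrix.det_zero] at hBdet
        exact not_isUnit_zero hBdet
    · right; left
      have hBskew : Bᵀ = -B := by rw [hBT, h, neg_smul, one_smul]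
      refine ⟨hodd, ?_, isSymplecticForm_formOf_of_skew B hBdet hBskew h2⟩
      by_contra hne
      rw [Nat.not_even_iff_odd] at hne
      rw [h, hne.neg_one_pow] at hεt
      exact hneg hεt
  · right; right
    obtain ⟨halt, hvan⟩ := heven hodd
    have h2 : (2 : F) = 0 := two_eq_zero_of_not_odd_card hodd
    have hneg : (-1 : F) = 1 := by linear_combination -h2
    have hBskew : Bᵀ = -B := by
      rcases hε with h | h
      · rw [hBT, h, ← hneg, neg_smul, one_smul]
      · rw [hBT, h, neg_smul, one_smul]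
    exact ⟨hodd, isSymplecticForm_formOf_of_alt B hBdet hBskew halt, hvan⟩

end Cfsg.Agent.Lib.H11.AschE
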