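/-
EO project (architect helper26), module **EM8.3**, exact-signature wrapper (helper11) of
`Cfsg.Agent.Lib.H11.AschE.components_tensor_quad` (Lib/H11/AschEM83): at least two components ⇒ class 7.
-/
import Cfsg.Agent.Lib.H26.AschEDefs
import Cfsg.Agent.Lib.H11.AschEM83
import Cfsg.Agent.Lib.H24.AschOBasic

set_option autoImplicit false

namespace Cfsg.Agent.Lib.H11.AschE

open Cfsg Cfsg.Geo Cfsg.Agent.Lib.Lead.Asch Cfsg.Agent.Lib.H26.AschE Cfsg.Agent.Lib.H16.Asch
  Cfsg.Agent.Lib.H21.Asch Cfsg.Agent.Lib.H6.Asch Cfsg.Agent.Lib.H11.AschS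
open scoped MatrixGroups Matrix Kronecker

variable {F : Type*} [Field F] [Fintype F] {n : ℕ}

/-- a tensor power form evaluated on a pure tensor -/
theorem tensorPower_form_pure_self {m t : ℕ} (f : (Fin n → F) → (Fin n → F) → F)
    (B : Matrix (Fin m) (Fin m) F) (e : Fin n ≃ (Fin t → Fin m)) (P : GL (Fin n) F)
    (hstr : IsTensorPowerFormStructure id f (formOf (RingHom.id F) B) e P) (ht : 0 < t)
    (halt : ∀ v : Fin m → F, v ⬝ᵥ (B *ᵥ v) = 0) (x : Fin t → Fin m → F) :
    f ((P : Matrix (Fin n) (Fin n) F) *ᵥ ((fun a : Fin t → Fin m => ∏ i, x i (a i)) ∘ e))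
      ((P : Matrix (Fin n) (Fin n) F) *ᵥ ((fun a : Fin t → Fin m => ∏ i, x i (a i)) ∘ e)) = 0 := by
  obtain ⟨c, -, hc⟩ := hstr
  rw [hc]
  have h1 : ∑ a, ∑ b, (fun a : Fin t → Fin m => ∏ i, x i (a i)) a *
      (∏ i, gramMatrix (formOf (RingHom.id F) B) (a i) (b i)) *
      id ((fun a : Fin t → Fin m => ∏ i, x i (a i)) b) =
      ∑ a, ∑ b, pureV x a * pureT (fun _ : Fin t => B) a b * pureV x b := by
    refine Finset.sum_congr rfl fun a _ => Finset.sum_congr rfl fun b _ => ?_
    rw [gramMatrix_formOf, pureT_apply]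
    rfl
  rw [h1, pureT_form_pure, Finset.prod_eq_zero (Finset.mem_univ (⟨0, ht⟩ : Fin t)), mul_zero]
  rw [← dot_mulVec_eq_sum]
  exact halt _

/-- **EM8.3** (exact signature of tools/blueprints/EO_sigs.lean). -/
theorem ec7_of_components (Q : (Fin n → F) → F) (hQ : IsNondegenerateQuadraticForm Q) (hn : 5 ≤ n)
    (H : Subgroup (GL (Fin n) F)) (hH : H ≤ isometryGroup F Q) (hgood : Good H)
    (t : ℕ) (L : Fin t → Subgroup (GL (Fin n) F)) (hL : Cfsg.Agent.Lib.H26.Asch.Components H t L)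
    (ht : 2 ≤ t) : EC7 Q H := by
  have hH' : ∀ x ∈ H, ∀ v, Q ((x : Matrix (Fin n) (Fin n) F) *ᵥ v) = Q v := by
    intro x hx
    exact (Cfsg.Agent.Lib.H24.Asch.mem_isometryGroup_iff Q x).1 (hH hx)
  obtain ⟨m, e, P, B, ε, hm2, hBdet, hε, hBT, hεt, hstr, hmem, hm2skew, heven⟩ :=
    components_tensor_quad Q hQ (by omega) H hH' hgood t L hL ht
  by_cases hodd : Odd (Fintype.card F)
  · have h2 : (2 : F) ≠ 0 := two_ne_zero_of_odd_card' hodd
    rcases hε with h | h
    · -- symmetric: class 7b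
      right
      have hBsymm : Bᵀ = B := by rw [hBT, h, one_smul]
      refine ⟨m, t, e, P, formOf (RingHom.id F) B, hodd, ?_, ht, isSymmetricForm_formOf B hBdet hBsymm,
        hstr, hmem⟩
      by_contra hlt
      have hm : m = 2 := by omega
      have h3 := hm2skew hm
      rw [hBsymm] at h3
      have h4 : (2 : F) • B = 0 := by
        rw [two_smul]
        nth_rw 1 [h3]
        exact neg_add_cancel B
      rcases smul_eq_zero.1 h4 with h5 | h5
      · exact h2 h5
      · rw [h5] at hBdet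
        haveI : Nonempty (Fin m) := ⟨⟨0, by omega⟩⟩
        rw [Matrix.det_zero] at hBdet
        exact not_isUnit_zero hBdet
    · -- skew: class 7a, `Q = f / 2`
      left
      have hBskew : Bᵀ = -B := by rw [hBT, h, neg_smul, one_smul]
      have hsymp := isSymplecticForm_formOf_of_skew B hBdet hBskew h2
      have halt : ∀ v : Fin m → F, v ⬝ᵥ (B *ᵥ v) = 0 := fun v => hsymp.alternating v
      refine ⟨m, t, e, P, formOf (RingHom.id F) B, hm2, ht, hsymp, hstr, ?_, hmem⟩
      intro x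
      have h1 := tensorPower_form_pure_self (QuadraticMap.polar Q) B e P hstr (by omega) halt x
      rw [Cfsg.Agent.Lib.H24.Asch.polar_self hQ] at h1
      rcases mul_eq_zero.1 h1 with h5 | h5
      · exact absurd h5 h2
      · exact h5
  · -- `q` even: class 7a
    left
    obtain ⟨halt, hvan⟩ := heven hodd
    have h2 : (2 : F) = 0 := two_eq_zero_of_not_odd_card hodd
    have hneg : (-1 : F) = 1 := by linear_combination -h2
    have hBskew : Bᵀ = -B := by
      rcases hε with h | h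
      · rw [hBT, h, ← hneg, neg_smul, one_smul]
      · rw [hBT, h, neg_smul, one_smul]
    exact ⟨m, t, e, P, formOf (RingHom.id F) B, hm2, ht,
      isSymplecticForm_formOf_of_alt B hBdet hBskew halt, hstr, hvan, hmem⟩

end Cfsg.Agent.Lib.H11.AschE
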