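/-
EO2-E3 of the even orthogonal phase 2 farm-out (helper21 architect): over F_3 the stabiliser (in the isometry group) of an
orthogonal decomposition into isometric MINUS-type planes stabilises a decomposition into orthogonal isometric lines.
-/
import Cfsg.Agent.Lib.H7.AschO2E3

set_option autoImplicit false

namespace Cfsg.Agent.Lib.H11.EOP2

open Cfsg Cfsg.Geo QuadraticMap
open scoped MatrixGroups Matrix

section Generic

variable {ι : Type} [Fintype ι] [DecidableEq ι] {F : Type*} [Field F]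

/-- an isometry permuting the blocks permutes the lines of a frame of vectors of norm `d`, as soon as the vectors of norm `d`
of every block are the multiples of the frame vectors of that block (any block size `m`). -/
theorem lines_stab_of_norm (Q : QuadraticForm F (ι → F)) (h2 : (2 : F) ≠ 0) {t m : ℕ}
    (D : Fin t → Submodule F (ι → F)) (e : Fin t → Fin m → (ι → F)) (d : F) (hd : d ≠ 0)
    (heD : ∀ i j, e i j ∈ D i) (heQ : ∀ i j, Q (e i j) = d)
    (hEo : ∀ p p' : Fin t × Fin m, p ≠ p' → polar Q (e p.1 p.2) (e p'.1 p'.2) = 0)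
    (hnorm : ∀ i, ∀ x ∈ D i, Q x = d → ∃ (j : Fin m) (c : F), c ≠ 0 ∧ x = c • e i j)
    (g : GL ι F) (hgD : g ∈ decompositionStabilizer D) (hgI : g ∈ isometryGroup F (⇑Q)) :
    g ∈ decompositionStabilizer (fun k : Fin (t * m) =>
      Submodule.span F {e (finProdFinEquiv.symm k).1 (finProdFinEquiv.symm k).2}) := by
  classical
  obtain ⟨σ, hσ⟩ := hgD
  -- the image of a frame vector is, up to a scalar, a frame vector
  have step1 : ∀ i j, ∃ (j' : Fin m) (c : F), c ≠ 0 ∧
      (g : Matrix ι ι F) *ᵥ e i j = c • e (σ i) j' := by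
    intro i j
    have hmem : (g : Matrix ι ι F) *ᵥ e i j ∈ D (σ i) := by
      rw [← hσ i]
      exact ⟨e i j, heD i j, by rw [Matrix.toLin'_apply]⟩
    have hQ : Q ((g : Matrix ι ι F) *ᵥ e i j) = d := by
      rw [(Cfsg.Agent.Lib.H29.Orth.mem_isometryGroup_iff Q g).1 hgI, heQ]
    exact hnorm (σ i) _ hmem hQ
  choose J C hC0 hgE using step1
  let E : Fin t × Fin m → (ι → F) := fun p => e p.1 p.2
  let ρ : Fin t × Fin m → Fin t × Fin m := fun p => (σ p.1, J p.1 p.2)
  have hgE' : ∀ p, (g : Matrix ι ι F) *ᵥ E p = C p.1 p.2 • E (ρ p) := fun p => hgE p.1 p.2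
  have hpol : ∀ p, polar Q (E p) (E p) = 2 * d := by
    intro p
    rw [Cfsg.Agent.Lib.H29.Orth.polar_self', heQ]
  have hinj : Function.Injective ρ := by
    intro p p' hpp
    by_contra hne
    have h1 : (g : Matrix ι ι F) *ᵥ (C p'.1 p'.2 • E p - C p.1 p.2 • E p') = 0 := by
      rw [Matrix.mulVec_sub, Matrix.mulVec_smul, Matrix.mulVec_smul, hgE' p, hgE' p', hpp, smul_smul,
        smul_smul, mul_comm, sub_self]
    have h3 : C p'.1 p'.2 • E p - C p.1 p.2 • E p' = 0 := by
      have := congrArg (fun v => ((g⁻¹ : GL ι F) : Matrix ι ι F) *ᵥ v) h1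
      simp only [Cfsg.Agent.Lib.H29.Orth.gl_inv_mulVec, Matrix.mulVec_zero] at this
      exact this
    have h4 := congrArg (fun v => polar Q (E p) v) h3
    have hE0' : polar Q (E p) (E p') = 0 := hEo p p' hne
    simp only [polar_sub_right, polar_smul_right, polar_zero_right, hpol, hE0', smul_eq_mul,
      mul_zero, sub_zero] at h4
    rcases mul_eq_zero.1 h4 with h | h
    · exact hC0 p'.1 p'.2 h
    · exact mul_ne_zero h2 hd h
  let ρe : Equiv.Perm (Fin t × Fin m) := Equiv.ofBijective ρ (Finite.injective_iff_bijective.1 hinj)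
  refine ⟨(finProdFinEquiv.symm.trans (ρe.trans finProdFinEquiv) : Equiv.Perm (Fin (t * m))), ?_⟩
  intro k
  have hk : finProdFinEquiv.symm
      ((finProdFinEquiv.symm.trans (ρe.trans finProdFinEquiv) : Equiv.Perm (Fin (t * m))) k) =
      ρ (finProdFinEquiv.symm k) := by
    simp [ρe]
  beta_reduce
  rw [hk, Submodule.map_span, Set.image_singleton, Matrix.toLin'_apply]
  have := hgE' (finProdFinEquiv.symm k)
  show Submodule.span F {(g : Matrix ι ι F) *ᵥ E (finProdFinEquiv.symm k)} =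
    Submodule.span F {E (ρ (finProdFinEquiv.symm k))}
  rw [this]
  exact Submodule.span_singleton_smul_eq (IsUnit.mk0 _ (hC0 _ _)) _

/-- over `F_3`: `c 0 ^ 2 + c 1 ^ 2 = 1` forces exactly one non-zero coordinate -/
theorem f3_two_sq [Fintype F] (hq : Fintype.card F = 3) (c : Fin 2 → F) (h : c 0 * c 0 + c 1 * c 1 = 1) :
    (c 0 ≠ 0 ∧ c 1 = 0) ∨ (c 0 = 0 ∧ c 1 ≠ 0) := by
  have h3 := Cfsg.Agent.Lib.H29.Orth.f3_three (F := F) hq
  have h2 := Cfsg.Agent.Lib.H29.Orth.f3_two_ne (F := F) hq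
  have h1 : (1 : F) ≠ 0 := one_ne_zero
  have hm1 : (-1 : F) ≠ 0 := neg_ne_zero.mpr one_ne_zero
  have hbad : (1 : F) + 1 ≠ 1 := by
    intro hh
    exact h1 (by linear_combination hh)
  rcases Cfsg.Agent.Lib.H29.Orth.f3_cases hq (c 0) with h0 | h0 | h0 <;>
    rcases Cfsg.Agent.Lib.H29.Orth.f3_cases hq (c 1) with h1' | h1' | h1' <;>
    rw [h0, h1'] at h ⊢
  · exfalso; simp at h
  · right; exact ⟨rfl, h1⟩
  · right; exact ⟨rfl, hm1⟩
  · left; exact ⟨h1, rfl⟩
  · exfalso; apply hbad; simp at h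
  · exfalso; apply hbad; simp at h
  · left; exact ⟨hm1, rfl⟩
  · exfalso; apply hbad; simp at h
  · exfalso; apply hbad; simp at h

/-- the generic statement (any index type) -/
theorem lines_of_minus_planes_gen [Fintype F] (hq : Fintype.card F = 3) (Q : QuadraticForm F (ι → F)) {t : ℕ}
    (D : Fin t → Submodule F (ι → F)) (hD : IsOrthogonalMDecomposition (⇑Q) 2 D)
    (hminus : ∀ i, ¬ IsPlusTypeOn (⇑Q) (D i)) :
    ∃ D' : Fin (t * 2) → Submodule F (ι → F),
      IsOrthogonalMDecomposition (⇑Q) 1 D' ∧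
      decompositionStabilizer D ⊓ isometryGroup F (⇑Q) ≤ decompositionStabilizer D' := by
  classical
  have h2 := Cfsg.Agent.Lib.H29.Orth.f3_two_ne (F := F) hq
  have hdec := hD.decomp.decomp
  have ht2 := hdec.two_le
  let i0 : Fin t := ⟨0, by omega⟩
  obtain ⟨b, hbD, hbo, hbQ⟩ := Cfsg.Agent.Lib.H29.Orth.exists_orth_basis Q h2 (D i0)
    (hdec.finrank_eq i0) (hD.decomp.nondegenerate i0)
  have hbeq := Cfsg.Agent.Lib.H29.Orth.equalize_two hq Q (D i0) (hdec.finrank_eq i0) (hminus i0) b hbD hbo hbQ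
  set d : F := Q (b 0) with hd_def
  have hd : d ≠ 0 := hbQ 0
  have hall : ∀ i, ∃ bi : Fin 2 → (ι → F), (∀ j, bi j ∈ D i) ∧
      (∀ j j', j ≠ j' → polar Q (bi j) (bi j') = 0) ∧ ∀ j, Q (bi j) = d :=
    fun i => Cfsg.Agent.Lib.H29.Orth.transport_frame Q (D i0) (D i) (hD.isometric i0 i) b hbD hbo d hbeq
  choose e heD heo heQ using hall
  have hspan : ∀ i, ∀ x ∈ D i, ∃ c : Fin 2 → F, x = ∑ j, c j • e i j := fun i =>
    Cfsg.Agent.Lib.H29.Orth.span_of_orth Q h2 (D i) (hdec.finrank_eq i) (e i) (heD i) (heo i)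
      (fun j => by rw [heQ]; exact hd)
  have hEo : ∀ p p' : Fin t × Fin 2, p ≠ p' → polar Q (e p.1 p.2) (e p'.1 p'.2) = 0 := by
    rintro ⟨i, j⟩ ⟨i', j'⟩ hne
    by_cases hi : i = i'
    · subst hi
      exact heo i j j' (fun h => hne (by rw [h]))
    · exact hD.decomp.orthogonal i i' hi _ (heD i j) _ (heD i' j')
  have hcard : Fintype.card ι = t * 2 :=
    Cfsg.Agent.Lib.H29.Orth.card_eq_of_decomp D hdec.indep hdec.iSup_eq_top hdec.finrank_eq
  have hnorm : ∀ i, ∀ x ∈ D i, Q x = d → ∃ (j : Fin 2) (c : F), c ≠ 0 ∧ x = c • e i j := by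
    intro i x hx hQx
    obtain ⟨c, hc⟩ := hspan i x hx
    rw [hc, Cfsg.Agent.Lib.H29.Orth.Q_sum_orth Q (e i) (heo i) c, Fin.sum_univ_two, heQ, heQ] at hQx
    have hsum : c 0 * c 0 + c 1 * c 1 = 1 := by
      have h1 : (c 0 * c 0 + c 1 * c 1) * d = 1 * d := by linear_combination hQx
      exact mul_right_cancel₀ hd h1
    rw [Fin.sum_univ_two] at hc
    rcases f3_two_sq hq c hsum with ⟨h0, h1⟩ | ⟨h0, h1⟩
    · exact ⟨0, c 0, h0, by rw [hc, h1, zero_smul, add_zero]⟩
    · exact ⟨1, c 1, h1, by rw [hc, h0, zero_smul, zero_add]⟩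
  refine ⟨fun k : Fin (t * 2) =>
      Submodule.span F {e (finProdFinEquiv.symm k).1 (finProdFinEquiv.symm k).2}, ?_, ?_⟩
  · apply Cfsg.Agent.Lib.H7.OP2.o2e3_lines Q h2 (by omega) hcard
      (fun k : Fin (t * 2) => e (finProdFinEquiv.symm k).1 (finProdFinEquiv.symm k).2) d hd
    · intro k
      exact heQ _ _
    · intro k k' hne
      apply hEo
      intro h
      exact hne (finProdFinEquiv.symm.injective h)
  · rintro g ⟨hgD, hgI⟩
    exact lines_stab_of_norm Q h2 D e d hd heD heQ hEo hnorm g hgD hgI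

end Generic

variable {F : Type*} [Field F] [Fintype F] {n : ℕ}

/-- **EO2-E3**. -/
theorem exists_lines_of_minus_planes (hq : Fintype.card F = 3) (Q : (Fin n → F) → F) (hQ : IsNondegenerateQuadraticForm Q)
    {t : ℕ} (D : Fin t → Submodule F (Fin n → F)) (hD : IsOrthogonalMDecomposition Q 2 D)
    (hminus : ∀ i, ¬ IsPlusTypeOn Q (D i)) :
    ∃ D' : Fin n → Submodule F (Fin n → F), IsOrthogonalMDecomposition Q 1 D' ∧
      decompositionStabilizer D ⊓ isometryGroup F Q ≤ decompositionStabilizer D' := by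
  have hdec := hD.decomp.decomp
  have hn : n = t * 2 := by
    have := Cfsg.Agent.Lib.H29.Orth.card_eq_of_decomp D hdec.indep hdec.iSup_eq_top hdec.finrank_eq
    rwa [Fintype.card_fin] at this
  subst hn
  exact lines_of_minus_planes_gen hq (Cfsg.Agent.Lib.H29.Orth.toQF Q hQ) D hD hminus

end Cfsg.Agent.Lib.H11.EOP2
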