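/-
EO2-E5 (helper21 architect), part a: helper25's SP2-E2 (`c4_three_q3_aux` of Lib/H25/AschSP2E2d.lean: over the field with three
elements a tensor member `(GL_n₁ ⊗ GL_3)^P` preserving `f = c · f₁ ⊗ f₂`, `f₂` symmetric of dimension 3, stabilises a
non-degenerate decomposition into three blocks) with the blocks and the values of the form on them exposed.
The proof is helper25's, verbatim up to the statement.
-/
import Cfsg.Agent.Lib.H25.AschSP2E2d

set_option autoImplicit false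

namespace Cfsg.Agent.Lib.H11.EOP2

open Cfsg Cfsg.Geo Cfsg.Agent.Lib.H11.AschS Cfsg.Agent.Lib.H6.Asch Cfsg.Agent.Lib.H7.Asch Cfsg.Agent.Lib.H25.AschSP2
open scoped MatrixGroups Matrix Kronecker

variable {F : Type*} [Field F] {ι : Type} [Fintype ι] [DecidableEq ι] {n₁ n₂ : ℕ}

variable [Fintype F]

/-- **SP2-E2** of helper25 (Lib/H25/AschSP2E2d `c4_three_q3_aux`), with the frame, the blocks and the values of the form on the
blocks EXPOSED. -/
theorem c4_three_q3_explicit (f : (ι → F) → (ι → F) → F) (n₁ : ℕ) (hn₁ : 0 < n₁) (e : ι ≃ Fin n₁ × Fin 3)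
    (P : GL ι F) (f₁ : (Fin n₁ → F) → (Fin n₁ → F) → F) (f₂ : (Fin 3 → F) → (Fin 3 → F) → F)
    (hb₁ : IsBilinearForm f₁) (hnd₁ : IsNondegenerateForm f₁) (hf₂ : IsSymmetricForm f₂)
    (hT : IsTensorFormStructure id f f₁ f₂ e P) (hq : Fintype.card F = 3) :
    ∃ (P₂ : GL (Fin 3) F) (κ : F), κ ≠ 0 ∧
      (∀ i j x y, f (frameL e P (P₂ : Matrix (Fin 3) (Fin 3) F) i x) (frameL e P (P₂ : Matrix (Fin 3) (Fin 3) F) j y) =
        κ * f₁ x y * (if i = j then 1 else 0)) ∧
      IsNondegenerateMDecomposition f n₁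
        (fun j => LinearMap.range (frameL e P (P₂ : Matrix (Fin 3) (Fin 3) F) j)) ∧
      ∀ g ∈ tensorProductSubgroup n₁ 3 e P,
        (∀ u v, f ((g : Matrix ι ι F) *ᵥ u) ((g : Matrix ι ι F) *ᵥ v) = f u v) →
        g ∈ decompositionStabilizer
          (fun j => LinearMap.range (frameL e P (P₂ : Matrix (Fin 3) (Fin 3) F) j)) := by
  classical
  obtain ⟨c, hc0, hform⟩ := hT
  set G₁ : Matrix (Fin n₁) (Fin n₁) F := gramMatrix f₁ with hG₁
  set G₂ : Matrix (Fin 3) (Fin 3) F := gramMatrix f₂ with hG₂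
  have hf₁G : ∀ x y, f₁ x y = x ⬝ᵥ (G₁ *ᵥ y) := bilin_eq_gram f₁ hb₁
  obtain ⟨P₂, ε, hε0, hframe⟩ := exists_frame_three hq f₂ hf₂
  rw [← hG₂] at hframe
  set P₂m : Matrix (Fin 3) (Fin 3) F := (P₂ : Matrix (Fin 3) (Fin 3) F) with hP₂m
  have hWW : ∀ i j, wcol P₂m i ⬝ᵥ (G₂ *ᵥ wcol P₂m j) = if i = j then ε else 0 := by
    intro i j
    rw [wcol_dot, hframe, Matrix.smul_apply, Matrix.one_apply, smul_eq_mul]
    split_ifs <;> simp
  have hLL : ∀ i j x y, f (frameL e P P₂m i x) (frameL e P P₂m j y) =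
      c * f₁ x y * (if i = j then ε else 0) := by
    intro i j x y
    rw [frameL_apply, frameL_apply, PhiL_apply, PhiL_apply, hform, formOfGram_kron_pt, ← hf₁G, hWW]
    ring
  have hdec := isMDecomposition_frame e P P₂ (by norm_num : 2 ≤ 3) hn₁
  refine ⟨P₂, c * ε, mul_ne_zero hc0 hε0, ?_, ⟨hdec, ?_, ?_⟩, ?_⟩
  · intro i j x y
    rw [hLL]
    split_ifs <;> ring
  · -- non-degenerate
    rintro j _ ⟨x, rfl⟩ hx0
    have hx : x ≠ 0 := by
      rintro rfl
      exact hx0 (map_zero _)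
    obtain ⟨⟨x', hx'⟩, ⟨x'', hx''⟩⟩ := hnd₁ x hx
    refine ⟨⟨frameL e P P₂m j x', ⟨x', rfl⟩, ?_⟩, ⟨frameL e P P₂m j x'', ⟨x'', rfl⟩, ?_⟩⟩
    · rw [hLL, if_pos rfl]
      exact mul_ne_zero (mul_ne_zero hc0 hx') hε0
    · rw [hLL, if_pos rfl]
      exact mul_ne_zero (mul_ne_zero hc0 hx'') hε0
  · -- orthogonal
    rintro i j hij _ ⟨x, rfl⟩ _ ⟨y, rfl⟩
    rw [hLL, if_neg hij, mul_zero]
  · -- the stabiliser
    intro g hg hgf
    obtain ⟨a, b, hab⟩ := exists_kron_of_mem_tensorProductSubgroup e P g hg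
    set am : Matrix (Fin n₁) (Fin n₁) F := (a : Matrix (Fin n₁) (Fin n₁) F) with ham
    set bm : Matrix (Fin 3) (Fin 3) F := (b : Matrix (Fin 3) (Fin 3) F) with hbm
    have hkron : ∀ y y', formOfGram id (G₁ ⊗ₖ G₂) ((am ⊗ₖ bm) *ᵥ y) ((am ⊗ₖ bm) *ᵥ y') =
        formOfGram id (G₁ ⊗ₖ G₂) y y' := by
      intro y y'
      have h1 := hgf (PhiL e P y) (PhiL e P y')
      rw [hab, hab, PhiL_apply, PhiL_apply, hform, PhiL_apply, PhiL_apply, hform] at h1
      exact mul_left_cancel₀ hc0 h1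
    have hentry : ∀ u v p q, (amᵀ * G₁ * am) u v * (bmᵀ * G₂ * bm) p q = G₁ u v * G₂ p q := by
      intro u v p q
      have h1 := hkron (pt (Pi.single u 1) (Pi.single p 1)) (pt (Pi.single v 1) (Pi.single q 1))
      rw [kron_mulVec_pt, kron_mulVec_pt, formOfGram_kron_pt, formOfGram_kron_pt, mulVec_single_dot,
        mulVec_single_dot, single_dot_single, single_dot_single] at h1
      exact h1
    -- `G₁ ≠ 0`, `G₂ ≠ 0`
    obtain ⟨u, v, huv⟩ : ∃ u v, G₁ u v ≠ 0 := by
      by_contra hcon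
      push Not at hcon
      have hG0 : G₁ = 0 := Matrix.ext hcon
      set x0 : Fin n₁ → F := Pi.single ⟨0, hn₁⟩ 1 with hx0
      have hx0ne : x0 ≠ 0 := by
        intro h0
        have := congrFun h0 ⟨0, hn₁⟩
        simp [hx0] at this
      obtain ⟨⟨x', hx'⟩, -⟩ := hnd₁ x0 hx0ne
      apply hx'
      rw [hf₁G, hG0, Matrix.zero_mulVec, dotProduct_zero]
    have hG₂0 : ∃ p q, G₂ p q ≠ 0 := by
      by_contra hcon
      push Not at hcon
      have hG0 : G₂ = 0 := Matrix.ext hcon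
      rw [hG0, Matrix.mul_zero, Matrix.zero_mul] at hframe
      have := congrFun (congrFun hframe 0) 0
      simp at this
      exact hε0 this.symm
    set α : F := (amᵀ * G₁ * am) u v with hα
    have hα0 : α ≠ 0 := by
      intro h0
      obtain ⟨p, q, hpq⟩ := hG₂0
      have := hentry u v p q
      rw [← hα, h0, zero_mul] at this
      exact mul_ne_zero huv hpq this.symm
    set lam : F := G₁ u v / α with hlam
    have hb2 : bmᵀ * G₂ * bm = lam • G₂ := by
      ext p q
      rw [Matrix.smul_apply, smul_eq_mul, hlam]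
      have := hentry u v p q
      rw [← hα] at this
      field_simp
      linear_combination this
    -- the matrix of `b` in the frame
    set b' : GL (Fin 3) F := P₂⁻¹ * b * P₂ with hb'
    have hPb : P₂m * (b' : Matrix (Fin 3) (Fin 3) F) = bm * P₂m := by
      rw [hb', hP₂m, hbm, ← Units.val_mul, ← Units.val_mul]
      congr 1
      group
    have hb'2 : (b' : Matrix (Fin 3) (Fin 3) F)ᵀ * (b' : Matrix (Fin 3) (Fin 3) F) =
        lam • (1 : Matrix (Fin 3) (Fin 3) F) := by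
      have h1 : ε • ((b' : Matrix (Fin 3) (Fin 3) F)ᵀ * (b' : Matrix (Fin 3) (Fin 3) F)) =
          ε • (lam • (1 : Matrix (Fin 3) (Fin 3) F)) := by
        calc ε • ((b' : Matrix (Fin 3) (Fin 3) F)ᵀ * (b' : Matrix (Fin 3) (Fin 3) F))
            = (b' : Matrix (Fin 3) (Fin 3) F)ᵀ * (ε • (1 : Matrix (Fin 3) (Fin 3) F)) *
                (b' : Matrix (Fin 3) (Fin 3) F) := by
              rw [Matrix.mul_smul, Matrix.mul_one, Matrix.smul_mul]
          _ = (P₂m * (b' : Matrix (Fin 3) (Fin 3) F))ᵀ * G₂ * (P₂m * (b' : Matrix (Fin 3) (Fin 3) F)) := by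
              rw [← hframe, Matrix.transpose_mul]
              simp only [Matrix.mul_assoc]
          _ = P₂mᵀ * (bmᵀ * G₂ * bm) * P₂m := by
              rw [hPb, Matrix.transpose_mul]
              simp only [Matrix.mul_assoc]
          _ = ε • (lam • (1 : Matrix (Fin 3) (Fin 3) F)) := by
              rw [hb2, Matrix.mul_smul, Matrix.smul_mul, hframe, smul_comm]
      exact smul_right_injective _ hε0 h1
    obtain ⟨-, σ, hσ⟩ := monomial_of_similarity_three hq b' lam hb'2
    have hbW : ∀ j, bm *ᵥ wcol P₂m j = (b' : Matrix (Fin 3) (Fin 3) F) (σ j) j • wcol P₂m (σ j) := by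
      intro j
      funext i
      have h1 : (bm *ᵥ wcol P₂m j) i = (bm * P₂m) i j := by
        simp only [Matrix.mulVec, dotProduct, wcol, Matrix.mul_apply]
      rw [h1, ← hPb, Matrix.mul_apply, Finset.sum_eq_single (σ j)]
      · simp only [Pi.smul_apply, wcol, smul_eq_mul]
        ring
      · intro k _ hk
        have : (b' : Matrix (Fin 3) (Fin 3) F) k j = 0 := by
          by_contra hne
          exact hk ((hσ k j).1 hne)
        rw [this, mul_zero]
      · intro h
        exact absurd (Finset.mem_univ _) h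
    refine ⟨σ, fun j => ?_⟩
    have hginj : Function.Injective (Matrix.toLin' (g : Matrix ι ι F)) := by
      intro x y hxy
      rw [Matrix.toLin'_apply, Matrix.toLin'_apply] at hxy
      have := congrArg (fun v => ((g⁻¹ : GL ι F) : Matrix ι ι F) *ᵥ v) hxy
      simpa [Matrix.mulVec_mulVec, ← Units.val_mul] using this
    apply Submodule.eq_of_le_of_finrank_eq
    · rintro _ ⟨_, ⟨x, rfl⟩, rfl⟩
      refine ⟨(b' : Matrix (Fin 3) (Fin 3) F) (σ j) j • (am *ᵥ x), ?_⟩
      rw [Matrix.toLin'_apply, frameL_apply, frameL_apply, hab, kron_mulVec_pt, hbW, pt_smul_right,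
        ← pt_smul_left]
    · rw [← (Submodule.equivMapOfInjective _ hginj _).finrank_eq]
      exact (hdec.finrank_eq j).trans (hdec.finrank_eq (σ j)).symm

end Cfsg.Agent.Lib.H11.EOP2
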