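/-
EO2-E5 of the even orthogonal phase 2 farm-out (helper21 architect): over F_3 a tensor member with a symmetric first factor of
dimension 3 stabilises an orthogonal decomposition into three isometric blocks of the type of the second factor.
-/
import Cfsg.Agent.Lib.H11.AschEO2E5a
import Cfsg.Agent.Lib.H20.AschUM4S
import Cfsg.Agent.Lib.H20.AschM4a
import Cfsg.Agent.Lib.H24.AschOBasic
import Cfsg.Agent.Lib.H29.OrthFrame

set_option autoImplicit false

namespace Cfsg.Agent.Lib.H11.EOP2

open Cfsg Cfsg.Geo Cfsg.Agent.Lib.H25.AschSP2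
open scoped MatrixGroups Matrix Kronecker

variable {F : Type*} [Field F] {n : ℕ}

/-- swapping the two factors of a tensor product subgroup -/
theorem tensorProductSubgroup_swap_le (n₁ n₂ : ℕ) (e : Fin n ≃ Fin n₁ × Fin n₂) (P : GL (Fin n) F) :
    tensorProductSubgroup n₁ n₂ e P ≤
      tensorProductSubgroup n₂ n₁ (e.trans (Equiv.prodComm (Fin n₁) (Fin n₂))) P := by
  rintro g ⟨_, ⟨k, hk, rfl⟩, rfl⟩
  refine ⟨_, ⟨glReindex (Equiv.prodComm (Fin n₁) (Fin n₂)) k,
    Cfsg.Agent.Lib.H20.Asch.prodComm_mem_kronecker k hk, rfl⟩, ?_⟩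
  congr 1

variable [Fintype F]

/-- **EO2-E5**. -/
theorem exists_blocks_of_tensor_three (hq : Fintype.card F = 3) (Q : (Fin n → F) → F) (hQ : IsNondegenerateQuadraticForm Q)
    (n₂ : ℕ) (hn₂ : 0 < n₂) (e : Fin n ≃ Fin 3 × Fin n₂) (P : GL (Fin n) F)
    (f₁ : (Fin 3 → F) → (Fin 3 → F) → F) (f₂ : (Fin n₂ → F) → (Fin n₂ → F) → F)
    (h₁ : IsSymmetricForm f₁) (h₂ : IsSymmetricForm f₂)
    (hT : IsTensorFormStructure id (QuadraticMap.polar Q) f₁ f₂ e P) :
    ∃ D : Fin 3 → Submodule F (Fin n → F), IsOrthogonalMDecomposition Q n₂ D ∧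
      (∀ i, IsPlusTypeOn Q (D i) ↔ IsPlusTypeOn (fun v : Fin n₂ → F => f₂ v v) ⊤) ∧
      tensorProductSubgroup 3 n₂ e P ⊓ isometryGroup F Q ≤ decompositionStabilizer D := by
  classical
  have h2 : (2 : F) ≠ 0 := Cfsg.Agent.Lib.H29.Orth.f3_two_ne hq
  set e' : Fin n ≃ Fin n₂ × Fin 3 := e.trans (Equiv.prodComm (Fin 3) (Fin n₂)) with he'
  have hT' : IsTensorFormStructure id (QuadraticMap.polar Q) f₂ f₁ e' P :=
    Cfsg.Agent.Lib.H20.Asch.isTensorFormStructure_swap id (QuadraticMap.polar Q) f₁ f₂ e P hT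
  obtain ⟨P₁, κ, hκ, hLL, hND, hstab⟩ := c4_three_q3_explicit (QuadraticMap.polar Q) n₂ hn₂ e' P f₂ f₁
    h₂.bilinear h₂.nondegenerate h₁ hT' hq
  set L : Fin 3 → (Fin n₂ → F) →ₗ[F] (Fin n → F) :=
    fun j => frameL e' P (P₁ : Matrix (Fin 3) (Fin 3) F) j with hL
  -- the value of `Q` on the blocks
  have hQL : ∀ j x, 2 * Q (L j x) = κ * f₂ x x := by
    intro j x
    rw [← Cfsg.Agent.Lib.H24.Asch.polar_self hQ, hLL, if_pos rfl, mul_one]
  have hQL' : ∀ i j x, Q (L i x) = Q (L j x) := by
    intro i j x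
    have h := (hQL i x).trans (hQL j x).symm
    exact mul_left_cancel₀ h2 h
  have hQL0 : ∀ j x, Q (L j x) = 0 ↔ f₂ x x = 0 := by
    intro j x
    constructor
    · intro h
      have h1 := hQL j x
      rw [h, mul_zero] at h1
      rcases mul_eq_zero.1 h1.symm with h' | h'
      · exact absurd h' hκ
      · exact h'
    · intro h
      have h1 := hQL j x
      rw [h, mul_zero] at h1
      rcases mul_eq_zero.1 h1 with h' | h'
      · exact absurd h' h2
      · exact h'
  -- the block maps are injective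
  have hLinj : ∀ j, Function.Injective (L j) := by
    intro j
    have hfr : Module.finrank F (LinearMap.range (L j)) = n₂ := hND.decomp.finrank_eq j
    have hker : LinearMap.ker (L j) = ⊥ := by
      have h1 := LinearMap.finrank_range_add_finrank_ker (L j)
      rw [hfr, Module.finrank_fin_fun] at h1
      exact Submodule.finrank_eq_zero.1 (by omega)
    exact LinearMap.ker_eq_bot.1 hker
  refine ⟨fun j => LinearMap.range (L j), ⟨hND, ?_⟩, ?_, ?_⟩
  · -- isometric
    intro i j
    refine ⟨(LinearEquiv.ofInjective (L i) (hLinj i)).symm.trans (LinearEquiv.ofInjective (L j) (hLinj j)), ?_⟩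
    intro w
    obtain ⟨x, hx⟩ : ∃ x, (LinearEquiv.ofInjective (L i) (hLinj i)) x = w :=
      (LinearEquiv.ofInjective (L i) (hLinj i)).surjective w
    rw [← hx, LinearEquiv.trans_apply, LinearEquiv.symm_apply_apply]
    show Q (L j x) = Q (L i x)
    exact hQL' j i x
  · -- the type
    intro i
    have hfr : Module.finrank F (LinearMap.range (L i)) = n₂ := hND.decomp.finrank_eq i
    constructor
    · rintro ⟨U, hUle, hUts, hUdim⟩
      refine ⟨U.comap (L i), le_top, ?_, ?_⟩
      · intro v hv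
        exact (hQL0 i v).1 (hUts _ hv)
      · rw [finrank_top, Module.finrank_fin_fun]
        have h1 : (U.comap (L i)).map (L i) = U := by
          rw [Submodule.map_comap_eq, inf_eq_right]
          exact hUle
        have h3 : Module.finrank F ((U.comap (L i)).map (L i)) = Module.finrank F (U.comap (L i)) :=
          (Submodule.equivMapOfInjective (L i) (hLinj i) _).finrank_eq.symm
        rw [h1] at h3
        rw [← h3, hUdim, hfr]
    · rintro ⟨U, -, hUts, hUdim⟩
      refine ⟨U.map (L i), ?_, ?_, ?_⟩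
      · rintro _ ⟨x, -, rfl⟩
        exact ⟨x, rfl⟩
      · rintro _ ⟨x, hx, rfl⟩
        exact (hQL0 i x).2 (hUts x hx)
      · have h3 : Module.finrank F (U.map (L i)) = Module.finrank F U :=
          (Submodule.equivMapOfInjective (L i) (hLinj i) _).finrank_eq.symm
        rw [finrank_top, Module.finrank_fin_fun] at hUdim
        rw [h3, hUdim, hfr]
  · -- the stabiliser
    rintro g ⟨hgT, hgI⟩
    exact hstab g (tensorProductSubgroup_swap_le 3 n₂ e P hgT)
      (fun u v => Cfsg.Agent.Lib.H24.Asch.polar_isometry Q g hgI u v)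

end Cfsg.Agent.Lib.H11.EOP2
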