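/-
EO phase 2 (helper21 architect), gaps of the PLUS rows S5847 (Ω10+) / S5871 (Ω12+) that sit on the two families of maximal
totally singular subspaces (Lib/H11/OmPar*):
* EO2-G1: the stabiliser in Ω of a totally singular subspace of dimension `n/2 - 1` stabilises a totally singular subspace
  of dimension `n/2`;
* EO2-G2: for `n/2` odd, the stabiliser in Ω of a pair of complementary totally singular `n/2`-spaces fixes both.
-/
import Cfsg.Agent.Lib.H11.OmPar5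
import Cfsg.Agent.Lib.H29.Orth

set_option autoImplicit false
set_option linter.unusedSimpArgs false
set_option linter.unusedSectionVars false
set_option linter.unusedVariables false

namespace Cfsg.Agent.Lib.H11.EOP2

open Matrix Module
open Cfsg Cfsg.Geo
open Cfsg.Agent.Lib.H28 Cfsg.Agent.Lib.H11.SubspMax
open Cfsg.Agent.Lib.H11.CD Cfsg.Agent.Lib.H11.SiegelGen Cfsg.Agent.Lib.H11.OrMax
open Cfsg.Agent.Lib.H11.OmTs Cfsg.Agent.Lib.H13 Cfsg.Agent.Lib.H11.OmPar

variable {F : Type*} [Field F] [Fintype F] {n : ℕ}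

/-- a totally singular subspace of half the dimension, from plus type -/
theorem exists_ts_half_of_plus (Q : (Fin n → F) → F) {m : ℕ} (hn : n = 2 * m) (hplus : IsPlusTypeOn Q ⊤) :
    ∃ T₀ : Submodule F (Fin n → F), IsTotallySingularQuad Q T₀ ∧ finrank F T₀ = m := by
  obtain ⟨T₀, -, hT₀, hd⟩ := hplus
  refine ⟨T₀, hT₀, ?_⟩
  rw [finrank_top, Module.finrank_fin_fun] at hd
  omega

/-- **EO2-G1**. -/
theorem exists_max_ts_of_submax (Q : (Fin n → F) → F) (hQ : IsNondegenerateQuadraticForm Q) {m : ℕ}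
    (hn : n = 2 * m) (hm : 3 ≤ m) (hplus : IsPlusTypeOn Q ⊤) (W : Submodule F (Fin n → F))
    (hW : IsTotallySingularQuad Q W) (hdim : Module.finrank F W + 1 = m) :
    ∃ T : Submodule F (Fin n → F), T ≠ ⊥ ∧ IsTotallySingularQuad Q T ∧ Module.finrank F T = m ∧ W ≤ T ∧
      subspaceStabilizer W ⊓ omegaGL Q ≤ subspaceStabilizer T := by
  set Qf := Cfsg.Agent.Lib.H29.Orth.toQF Q hQ with hQf_def
  have hQf : (QuadraticMap.polarBilin Qf).Nondegenerate := Cfsg.Agent.Lib.H29.Orth.toQF_nondegenerate Q hQ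
  obtain ⟨T₀, hT₀, hdim₀⟩ := exists_ts_half_of_plus Q hn hplus
  obtain ⟨T, hWT, hT, hTd⟩ := exists_max_ts_ge Qf hQf hn T₀ hT₀ hdim₀ W hW
  have hT0 : T ≠ ⊥ := by
    intro h
    rw [h, finrank_bot] at hTd
    omega
  refine ⟨T, hT0, hT, hTd, hWT, ?_⟩
  rintro h ⟨hhW, hΩ⟩
  obtain ⟨g, hg, rfl⟩ := exists_of_mem_omegaGL Qf h hΩ
  apply stab_of_codim_le_one Qf hQf hn hm T hT hTd g hg
  have hle : W ≤ T ⊓ T.map
      (Matrix.mulVecLin ((g : GL (Fin n) F) : Matrix (Fin n) (Fin n) F)) := by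
    intro w hw
    refine ⟨hWT hw, ?_⟩
    refine ⟨(((g : GL (Fin n) F))⁻¹ : GL (Fin n) F).1 *ᵥ w, hWT ?_, ?_⟩
    · apply ((mem_subspaceStabilizer_iff _ W).1 hhW _).2
      rw [gl_mulVec_inv]
      exact hw
    · rw [Matrix.mulVecLin_apply, gl_mulVec_inv]
  have := Submodule.finrank_mono hle
  omega

/-- **EO2-G2**. -/
theorem ts_pair_stab_le (Q : (Fin n → F) → F) (hQ : IsNondegenerateQuadraticForm Q) {m : ℕ}
    (hn : n = 2 * m) (hm : 3 ≤ m) (hodd : Odd m) (D : Fin 2 → Submodule F (Fin n → F))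
    (hD : IsMDecomposition m D) (hts : ∀ i, IsTotallySingularQuad Q (D i)) :
    decompositionStabilizer D ⊓ omegaGL Q ≤ subspaceStabilizer (D 0) := by
  set Qf := Cfsg.Agent.Lib.H29.Orth.toQF Q hQ with hQf_def
  have hQf : (QuadraticMap.polarBilin Qf).Nondegenerate := Cfsg.Agent.Lib.H29.Orth.toQF_nondegenerate Q hQ
  have hdisj : D 0 ⊓ D 1 = ⊥ := by
    have := hD.indep.pairwiseDisjoint (show (0 : Fin 2) ≠ 1 by decide)
    exact disjoint_iff.1 this
  have hfin : ∀ i : Fin 2, i = 0 ∨ i = 1 := by decide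
  rintro h ⟨hhD, hΩ⟩
  obtain ⟨σ, hσ⟩ := hhD
  by_cases hσ0 : σ 0 = 0
  · apply stab_of_le
    intro w hw
    have h1 : (h : Matrix (Fin n) (Fin n) F) *ᵥ w ∈
        (D 0).map (Matrix.toLin' (h : Matrix (Fin n) (Fin n) F)) :=
      ⟨w, hw, by rw [Matrix.toLin'_apply]⟩
    rw [hσ 0, hσ0] at h1
    exact h1
  · exfalso
    have hσ1 : σ 0 = 1 := (hfin (σ 0)).resolve_left hσ0
    obtain ⟨g, hg, rfl⟩ := exists_of_mem_omegaGL Qf h hΩ
    have hpar := even_of_mem_omega Qf hQf hn hm (D 0) (hts 0) (hD.finrank_eq 0) g hg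
    have h0 := hσ 0
    rw [Matrix.toLin'_apply', hσ1] at h0
    rw [h0, hdisj, finrank_bot, Nat.sub_zero] at hpar
    exact (Nat.not_even_iff_odd.2 hodd) hpar

end Cfsg.Agent.Lib.H11.EOP2
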