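/-
EO phase 2 (helper21 architect), gap EO2-G3 of the PLUS row S5847 (Ω10+): a quadratic field `K` of similitudes of a quadratic
form of PLUS type in dimension `2m` forces `m` even (so the unitary kind `EC3b` does not occur in Ω10+).
Proof without hermitian forms: `T` totally singular of dimension `m`, `k ∈ K \ F`; the form `a (x, y) = f (x, k y)` on `T` is
alternating (`f (v, k v)` is a multiple of `Q v`), its radical is `T ∩ k⁻¹ T`, which is `K`-stable, hence of even dimension,
and `dim T - dim rad` is even.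
-/
import Cfsg.Agent.Lib.H11.AschEO2G
import Cfsg.Agent.Lib.H11.AltForm
import Cfsg.Agent.Lib.H26.AschEO2F1

set_option autoImplicit false
set_option linter.unusedSimpArgs false
set_option linter.unusedSectionVars false
set_option linter.unusedVariables false

namespace Cfsg.Agent.Lib.H11.EOP2

open Matrix Module
open Cfsg Cfsg.Geo

/-- for an alternating form, `dim V - dim (radical)` is even -/
theorem even_finrank_sub_ker_of_isAlt {K : Type*} [Field K] {V : Type*} [AddCommGroup V] [Module K V]
    [FiniteDimensional K V] (B : LinearMap.BilinForm K V) (hAlt : B.IsAlt) :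
    Even (finrank K V - finrank K (LinearMap.ker B)) := by
  obtain ⟨C, hC⟩ := Submodule.exists_isCompl (LinearMap.ker B)
  have hsum := Submodule.finrank_add_eq_of_isCompl hC
  have hCdim : finrank K C = finrank K V - finrank K (LinearMap.ker B) := by omega
  have hskew : ∀ x y, B x y = - B y x := fun x y => by
    have := hAlt.neg_eq y x
    rw [← this]
  have hker : ∀ r ∈ LinearMap.ker B, ∀ x, B x r = 0 := by
    intro r hr x
    rw [hskew, LinearMap.mem_ker.1 hr]
    simp
  have hzero : ∀ x : C, (∀ y : C, B x y = 0) → x = 0 := by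
    intro x hx
    have hxk : (x : V) ∈ LinearMap.ker B := by
      rw [LinearMap.mem_ker]
      ext v
      have hv : v ∈ LinearMap.ker B ⊔ C := by rw [hC.sup_eq_top]; trivial
      obtain ⟨r, hr, c, hc, rfl⟩ := Submodule.mem_sup.1 hv
      rw [map_add, hker r hr, hx ⟨c, hc⟩]
      simp
    have : (x : V) ∈ LinearMap.ker B ⊓ C := ⟨hxk, x.2⟩
    rw [hC.inf_eq_bot] at this
    exact Subtype.ext ((Submodule.mem_bot K).1 this)
  have hnd : (B.restrict C).Nondegenerate := by
    refine ⟨?_, ?_⟩
    · intro x hx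
      exact hzero x (fun y => hx y)
    · intro x hx
      apply hzero x
      intro y
      rw [hskew]
      have := hx y
      simp only [LinearMap.BilinForm.restrict_apply, LinearMap.domRestrict_apply] at this
      rw [this, neg_zero]
  have halt' : (B.restrict C).IsAlt := fun x => hAlt x
  rw [← hCdim]
  exact Cfsg.Agent.Lib.H11.even_finrank_of_nondegenerate_isAlt _ (B.restrict C) halt' hnd rfl

variable {F : Type*} [Field F] [Fintype F] {n : ℕ}

/-- a field subalgebra of degree 2 is `F + F k` for any non-scalar `k` in it -/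
theorem exists_gen_of_degree_two (K : Subalgebra F (Matrix (Fin n) (Fin n) F)) (hK : IsFieldSubalgebra 2 K) :
    ∃ k ∈ K, ∀ k' ∈ K, ∃ α β : F, k' = α • (1 : Matrix (Fin n) (Fin n) F) + β • k := by
  classical
  have hfr : finrank F (Subalgebra.toSubmodule K) = 2 := hK.finrank_eq
  -- a non-scalar element
  obtain ⟨k, hkK, hk⟩ : ∃ k ∈ K, k ∉ Submodule.span F {(1 : Matrix (Fin n) (Fin n) F)} := by
    by_contra hcon
    push Not at hcon
    have hle : Subalgebra.toSubmodule K ≤ Submodule.span F {(1 : Matrix (Fin n) (Fin n) F)} := hcon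
    have h1 := Submodule.finrank_mono hle
    have h2 : finrank F (Submodule.span F {(1 : Matrix (Fin n) (Fin n) F)}) ≤ 1 := by
      have := finrank_span_le_card (R := F) ({(1 : Matrix (Fin n) (Fin n) F)} : Set (Matrix (Fin n) (Fin n) F))
      simpa using this
    omega
  have h1ne : (1 : Matrix (Fin n) (Fin n) F) ≠ 0 := by
    intro h
    apply hk
    rw [h]
    have : k ∈ Subalgebra.toSubmodule K := hkK
    have hK0 : finrank F (Subalgebra.toSubmodule K) ≤ finrank F (Submodule.span F {(0 : Matrix (Fin n) (Fin n) F)}) := by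
      apply Submodule.finrank_mono
      intro x hx
      have hx1 : x = x * 1 := (mul_one x).symm
      rw [h, mul_zero] at hx1
      rw [hx1]
      exact Submodule.zero_mem _
    rw [Submodule.span_zero_singleton, finrank_bot] at hK0
    omega
  have hli : LinearIndependent F ![(1 : Matrix (Fin n) (Fin n) F), k] := by
    rw [LinearIndependent.pair_iff]
    intro s t hst
    have ht : t = 0 := by
      by_contra ht
      apply hk
      rw [Submodule.mem_span_singleton]
      refine ⟨-(t⁻¹ * s), ?_⟩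
      have h1 : t • k = -(s • (1 : Matrix (Fin n) (Fin n) F)) := eq_neg_of_add_eq_zero_right hst
      have h2 : k = t⁻¹ • (t • k) := by rw [smul_smul, inv_mul_cancel₀ ht, one_smul]
      rw [h2, h1, smul_neg, smul_smul, neg_smul]
    refine ⟨?_, ht⟩
    rw [ht, zero_smul, add_zero] at hst
    exact (smul_eq_zero.1 hst).resolve_right h1ne
  have hspan : Submodule.span F (Set.range ![(1 : Matrix (Fin n) (Fin n) F), k]) = Subalgebra.toSubmodule K := by
    apply Submodule.eq_of_le_of_finrank_eq
    · rw [Submodule.span_le]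
      rintro _ ⟨i, rfl⟩
      fin_cases i
      · exact K.one_mem
      · exact hkK
    · rw [finrank_span_eq_card hli, hfr]
      simp
  refine ⟨k, hkK, fun k' hk' => ?_⟩
  have hmem : k' ∈ Submodule.span F (Set.range ![(1 : Matrix (Fin n) (Fin n) F), k]) := by
    rw [hspan]; exact hk'
  have hrange : Set.range ![(1 : Matrix (Fin n) (Fin n) F), k] = {1, k} := by
    ext x
    simp only [Set.mem_range, Set.mem_insert_iff, Set.mem_singleton_iff]
    constructor
    · rintro ⟨i, rfl⟩
      fin_cases i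
      · left; rfl
      · right; rfl
    · rintro (rfl | rfl)
      · exact ⟨0, rfl⟩
      · exact ⟨1, rfl⟩
  rw [hrange, Submodule.mem_span_pair] at hmem
  obtain ⟨α, β, h⟩ := hmem
  exact ⟨α, β, h.symm⟩

/-- **EO2-G3**. -/
theorem even_of_similitude_field (Q : (Fin n → F) → F) (hQ : IsNondegenerateQuadraticForm Q) {m : ℕ}
    (hn : n = 2 * m) (K : Subalgebra F (Matrix (Fin n) (Fin n) F)) (hK : IsFieldSubalgebra 2 K)
    (hsc : ∀ k ∈ K, ∃ c : F, ∀ v : Fin n → F, Q (k *ᵥ v) = c * Q v) (hplus : IsPlusTypeOn Q ⊤) :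
    Even m := by
  classical
  by_cases hm0 : m = 0
  · rw [hm0]; exact ⟨0, rfl⟩
  have : Nonempty (Fin n) := ⟨⟨0, by omega⟩⟩
  set Qf := Cfsg.Agent.Lib.H29.Orth.toQF Q hQ with hQf_def
  have hQf : (QuadraticMap.polarBilin Qf).Nondegenerate := Cfsg.Agent.Lib.H29.Orth.toQF_nondegenerate Q hQ
  obtain ⟨T, hT, hTd⟩ := exists_ts_half_of_plus Q hn hplus
  have hperp := Cfsg.Agent.Lib.H11.OmPar.orth_le_of_max Qf hQf hn T hT hTd
  obtain ⟨k, hkK, hgen⟩ := exists_gen_of_degree_two K hK
  -- `f (v, k' v)` is a multiple of `Q v`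
  have hpol : ∀ k' ∈ K, ∀ v ∈ T, QuadraticMap.polar Q v (k' *ᵥ v) = 0 := by
    intro k' hk' v hv
    obtain ⟨c, hc⟩ := hsc k' hk'
    obtain ⟨c', hc'⟩ := hsc (1 + k') (K.add_mem K.one_mem hk')
    have h1 := hc' v
    rw [Matrix.add_mulVec, Matrix.one_mulVec] at h1
    have h2 : Q (v + k' *ᵥ v) = Q v + Q (k' *ᵥ v) + QuadraticMap.polar Q v (k' *ᵥ v) := by
      unfold QuadraticMap.polar
      ring
    rw [h2, hc v, hT v hv] at h1
    linear_combination h1
  -- the alternating form on `T`
  set kL : (Fin n → F) →ₗ[F] (Fin n → F) := Matrix.mulVecLin k with hkL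
  set B : LinearMap.BilinForm F T :=
    (QuadraticMap.polarBilin Qf).compl₁₂ T.subtype (kL ∘ₗ T.subtype) with hB
  have hBapp : ∀ x y : T, B x y = QuadraticMap.polar Q (x : Fin n → F) (k *ᵥ (y : Fin n → F)) := by
    intro x y
    rfl
  have hAlt : B.IsAlt := by
    intro x
    rw [hBapp]
    exact hpol k hkK x x.2
  have hskew : ∀ x y, B x y = - B y x := fun x y => by
    have := hAlt.neg_eq y x
    rw [← this]
  have heven1 := even_finrank_sub_ker_of_isAlt B hAlt
  -- the radical
  set R : Submodule F (Fin n → F) := T ⊓ T.comap kL with hR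
  have hker : (LinearMap.ker B).map T.subtype = R := by
    ext x
    constructor
    · rintro ⟨y, hy, rfl⟩
      refine ⟨y.2, ?_⟩
      show kL (y : Fin n → F) ∈ T
      apply hperp
      rw [LinearMap.BilinForm.mem_orthogonal_iff]
      intro t ht
      show (QuadraticMap.polarBilin Qf) t (kL (y : Fin n → F)) = 0
      have h1 : B ⟨t, ht⟩ y = 0 := by
        rw [hskew, LinearMap.mem_ker.1 hy]
        simp
      exact h1
    · rintro ⟨hxT, hxk⟩
      refine ⟨⟨x, hxT⟩, LinearMap.mem_ker.2 ?_, rfl⟩
      ext y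
      rw [hskew]
      have h1 : B y ⟨x, hxT⟩ = 0 := by
        rw [hBapp]
        show QuadraticMap.polar (⇑Qf) (y : Fin n → F) (kL x) = 0
        exact Cfsg.Agent.Lib.H11.OmTs.P_eq_zero_of_ts Qf hT y.2 hxk
      rw [h1]
      simp
  have hkerdim : finrank F (LinearMap.ker B) = finrank F R := by
    rw [← hker]
    exact (Submodule.finrank_map_subtype_eq T (LinearMap.ker B)).symm
  -- `R` is `K`-stable
  obtain ⟨α₂, β₂, hk2⟩ := hgen (k * k) (K.mul_mem hkK hkK)
  have hstable : ∀ k' ∈ K, ∀ v ∈ R, k' *ᵥ v ∈ R := by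
    intro k' hk' v hv
    obtain ⟨α, β, rfl⟩ := hgen k' hk'
    obtain ⟨hvT, hvk⟩ := hv
    have hvk' : k *ᵥ v ∈ T := hvk
    have hkk : k *ᵥ (k *ᵥ v) ∈ T := by
      rw [Matrix.mulVec_mulVec, hk2, Matrix.add_mulVec, Matrix.smul_mulVec, Matrix.smul_mulVec,
        Matrix.one_mulVec]
      exact T.add_mem (T.smul_mem _ hvT) (T.smul_mem _ hvk')
    refine ⟨?_, ?_⟩
    · rw [Matrix.add_mulVec, Matrix.smul_mulVec, Matrix.smul_mulVec, Matrix.one_mulVec]
      exact T.add_mem (T.smul_mem _ hvT) (T.smul_mem _ hvk')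
    · show k *ᵥ ((α • (1 : Matrix (Fin n) (Fin n) F) + β • k) *ᵥ v) ∈ T
      rw [Matrix.add_mulVec, Matrix.smul_mulVec, Matrix.smul_mulVec, Matrix.one_mulVec, Matrix.mulVec_add,
        Matrix.mulVec_smul, Matrix.mulVec_smul]
      exact T.add_mem (T.smul_mem _ hvk') (T.smul_mem _ hkk)
  have heven2 : 2 ∣ finrank F R := Cfsg.Agent.Lib.H26.EOP2.dvd_finrank_of_stable 2 K hK R hstable
  have hle : finrank F (LinearMap.ker B) ≤ finrank F T := Submodule.finrank_le _
  have hsplit : m = (finrank F T - finrank F (LinearMap.ker B)) + finrank F R := by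
    rw [← hkerdim]
    omega
  rw [hsplit]
  exact heven1.add (even_iff_two_dvd.2 heven2)

end Cfsg.Agent.Lib.H11.EOP2
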