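/-
EO project, phase 2 (helper11): class `EC2b` (a pair of complementary totally singular subspaces) forces PLUS type.
-/
import Cfsg.Agent.Lib.H26.AschEDefs
import Cfsg.Agent.Lib.H17.AschSP2F1

set_option autoImplicit false

namespace Cfsg.Agent.Lib.H11.EOP2

open Cfsg Cfsg.Geo Cfsg.Agent.Lib.Lead.Asch Cfsg.Agent.Lib.H26.AschE
open scoped MatrixGroups Matrix Kronecker

variable {F : Type*} [Field F] [Fintype F] {ι : Type} [Fintype ι] [DecidableEq ι]

/-- a pair of complementary totally singular subspaces gives plus type. -/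
theorem isPlusTypeOn_top_of_ts_pair (Q : (ι → F) → F) {m : ℕ} (D : Fin 2 → Submodule F (ι → F))
    (hD : IsMDecomposition m D) (hts : ∀ i, IsTotallySingularQuad Q (D i)) : IsPlusTypeOn Q ⊤ := by
  refine ⟨D 0, le_top, hts 0, ?_⟩
  have h1 := Cfsg.Agent.Lib.H17.AschSP2.mul_eq_of_isMDecomposition D hD
  rw [hD.finrank_eq 0, finrank_top, Module.finrank_fintype_fun_eq_card]
  omega

theorem isPlusTypeOn_of_ec2b (Q : (ι → F) → F) (H : Subgroup (GL ι F)) (h : EC2b Q H) :
    IsPlusTypeOn Q ⊤ := by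
  obtain ⟨m, D, hD, hts, -⟩ := h
  exact isPlusTypeOn_top_of_ts_pair Q D hD hts

theorem isPlusTypeOn_of_ec6 (Q : (ι → F) → F) (H : Subgroup (GL ι F)) (h : EC6 Q H) :
    IsPlusTypeOn Q ⊤ := h.2.2.1

end Cfsg.Agent.Lib.H11.EOP2
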