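/-
EO project, phase 2 (helper11), def-independent: a quadratic form whose polar form is a tensor power of a
symplectic form on `F²` and which vanishes on the pure tensors is of PLUS type: the span of the tensor basis
vectors with first index `0` is totally singular of half the dimension.  Consequence: class `EC7a` in dimension 8
forces plus type.
-/
import Cfsg.Agent.Lib.H26.AschEDefs
import Cfsg.Agent.Lib.H6.AschU3a

set_option autoImplicit false

namespace Cfsg.Agent.Lib.H11.EOP2

open Cfsg Cfsg.Geo Cfsg.Agent.Lib.Lead.Asch Cfsg.Agent.Lib.H26.AschE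
open scoped MatrixGroups Matrix Kronecker

variable {F : Type*} [Field F] {n : ℕ}

/-- flipping the coordinate `i0` -/
def flipEquiv {t : ℕ} (i0 : Fin t) :
    {a : Fin t → Fin 2 // a i0 = 0} ≃ {a : Fin t → Fin 2 // ¬ a i0 = 0} where
  toFun a := ⟨Function.update a.1 i0 1, by simp⟩
  invFun a := ⟨Function.update a.1 i0 0, by simp⟩
  left_inv a := by
    apply Subtype.ext
    show Function.update (Function.update a.1 i0 1) i0 0 = a.1
    rw [Function.update_idem, Function.update_eq_self_iff]
    exact a.2.symm
  right_inv a := by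
    apply Subtype.ext
    show Function.update (Function.update a.1 i0 0) i0 1 = a.1
    rw [Function.update_idem, Function.update_eq_self_iff]
    exact (Fin.eq_one_of_ne_zero _ a.2).symm

theorem two_mul_card_zero {t : ℕ} (i0 : Fin t) :
    2 * Fintype.card {a : Fin t → Fin 2 // a i0 = 0} = Fintype.card (Fin t → Fin 2) := by
  have h1 := Fintype.card_subtype_compl (fun a : Fin t → Fin 2 => a i0 = 0)
  have h2 := Fintype.card_congr (flipEquiv i0)
  have h3 : Fintype.card {a : Fin t → Fin 2 // a i0 = 0} ≤ Fintype.card (Fin t → Fin 2) :=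
    Fintype.card_subtype_le _
  omega

theorem quad_add_eq {ι : Type} [Fintype ι] (Q : (ι → F) → F) (u v : ι → F) :
    Q (u + v) = Q u + Q v + QuadraticMap.polar Q u v := by
  simp only [QuadraticMap.polar]; ring

/-- `Q` vanishes on a linear combination of singular, pairwise orthogonal vectors. -/
theorem quad_sum_eq_zero {ι κ : Type} [Fintype ι] [DecidableEq ι] [DecidableEq κ] (Q : (ι → F) → F)
    (hQ : IsNondegenerateQuadraticForm Q) (v : κ → ι → F) (hv : ∀ a, Q (v a) = 0)
    (hvv : ∀ a b, QuadraticMap.polar Q (v a) (v b) = 0) (c : κ → F) (s : Finset κ) :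
    Q (∑ a ∈ s, c a • v a) = 0 ∧ ∀ b, QuadraticMap.polar Q (v b) (∑ a ∈ s, c a • v a) = 0 := by
  have hQ0 : Q 0 = 0 := by
    have := hQ.smul 0 0
    rw [zero_smul] at this
    rw [this]; ring
  have hp0 : ∀ b, QuadraticMap.polar Q (v b) 0 = 0 := by
    intro b
    have := hQ.polar_bilinear.smul_right 0 (v b) 0
    rw [zero_smul, zero_mul] at this
    exact this
  induction s using Finset.induction_on with
  | empty =>
    simp only [Finset.sum_empty]
    exact ⟨hQ0, hp0⟩
  | insert a s ha ih =>
    rw [Finset.sum_insert ha]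
    obtain ⟨ih1, ih2⟩ := ih
    constructor
    · rw [quad_add_eq Q, hQ.smul, hv, ih1, hQ.polar_bilinear.smul_left, ih2]
      ring
    · intro b
      rw [hQ.polar_bilinear.add_right, hQ.polar_bilinear.smul_right, hvv, ih2]
      ring

/-- **plus type** from a tensor power structure over `F²` with `Q` vanishing on pure tensors. -/
theorem isPlusTypeOn_top_of_pure_vanish {t : ℕ} (ht : 1 ≤ t) (Q : (Fin n → F) → F)
    (hQ : IsNondegenerateQuadraticForm Q) (e : Fin n ≃ (Fin t → Fin 2)) (P : GL (Fin n) F)
    (f₁ : (Fin 2 → F) → (Fin 2 → F) → F) (hf₁ : IsSymplecticForm f₁)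
    (hstr : IsTensorPowerFormStructure id (QuadraticMap.polar Q) f₁ e P)
    (hvan : ∀ x : Fin t → Fin 2 → F,
      Q ((P : Matrix (Fin n) (Fin n) F) *ᵥ ((fun a : Fin t → Fin 2 => ∏ i, x i (a i)) ∘ e)) = 0) :
    IsPlusTypeOn Q ⊤ := by
  classical
  set i0 : Fin t := ⟨0, by omega⟩ with hi0
  -- the tensor basis vectors with first index `0`
  let v : {a : Fin t → Fin 2 // a i0 = 0} → (Fin n → F) := fun a =>
    (P : Matrix (Fin n) (Fin n) F) *ᵥ ((Pi.single a.1 (1 : F) : (Fin t → Fin 2) → F) ∘ e)
  have hsingle : ∀ a : Fin t → Fin 2,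
      (fun b : Fin t → Fin 2 => ∏ i, (Pi.single (a i) (1 : F) : Fin 2 → F) (b i)) = Pi.single a 1 := by
    intro a
    funext b
    by_cases hab : b = a
    · subst hab
      simp
    · rw [Pi.single_eq_of_ne hab]
      obtain ⟨i, hi⟩ : ∃ i, b i ≠ a i := by
        by_contra hcon
        push Not at hcon
        exact hab (funext hcon)
      exact Finset.prod_eq_zero (Finset.mem_univ i) (Pi.single_eq_of_ne hi _)
  have hv : ∀ a, Q (v a) = 0 := by
    intro a
    have := hvan (fun i => Pi.single (a.1 i) 1)
    rw [hsingle] at this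
    exact this
  have hvv : ∀ a b, QuadraticMap.polar Q (v a) (v b) = 0 := by
    intro a b
    obtain ⟨c, -, hc⟩ := hstr
    show QuadraticMap.polar Q ((P : Matrix (Fin n) (Fin n) F) *ᵥ ((Pi.single a.1 (1 : F) : (Fin t → Fin 2) → F) ∘ e))
      ((P : Matrix (Fin n) (Fin n) F) *ᵥ ((Pi.single b.1 (1 : F) : (Fin t → Fin 2) → F) ∘ e)) = 0
    rw [hc]
    have h1 : ∑ a', ∑ b', (Pi.single a.1 (1 : F) : (Fin t → Fin 2) → F) a' *
        (∏ i, gramMatrix f₁ (a' i) (b' i)) * id ((Pi.single b.1 (1 : F) : (Fin t → Fin 2) → F) b') =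
        ∏ i, gramMatrix f₁ (a.1 i) (b.1 i) := by
      rw [Finset.sum_eq_single a.1]
      · rw [Finset.sum_eq_single b.1]
        · simp
        · intro b' _ hb'
          simp [Pi.single_eq_of_ne hb']
        · intro h; exact absurd (Finset.mem_univ _) h
      · intro a' _ ha'
        apply Finset.sum_eq_zero
        intro b' _
        simp [Pi.single_eq_of_ne ha']
      · intro h; exact absurd (Finset.mem_univ _) h
    rw [h1, Finset.prod_eq_zero (Finset.mem_univ i0), mul_zero]
    rw [a.2, b.2]
    exact hf₁.alternating _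
  refine ⟨Submodule.span F (Set.range v), le_top, ?_, ?_⟩
  · -- totally singular
    intro w hw
    obtain ⟨c, rfl⟩ := (Submodule.mem_span_range_iff_exists_fun F).1 hw
    exact (quad_sum_eq_zero Q hQ v hv hvv c Finset.univ).1
  · -- dimension
    have hli : LinearIndependent F v := by
      have h1 : LinearIndependent F (fun j : Fin n => (Pi.single j (1 : F) : Fin n → F)) :=
        Pi.linearIndependent_single_one (Fin n) F
      have hinj : Function.Injective (fun a : {a : Fin t → Fin 2 // a i0 = 0} => e.symm a.1) := by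
        intro a b hab
        exact Subtype.ext (e.symm.injective hab)
      have h2 := h1.comp _ hinj
      have hker : LinearMap.ker (Matrix.toLin' (P : Matrix (Fin n) (Fin n) F)) = ⊥ := by
        rw [LinearMap.ker_eq_bot]
        intro x y hxy
        simp only [Matrix.toLin'_apply] at hxy
        have := congrArg (fun w => ((P⁻¹ : GL (Fin n) F) : Matrix (Fin n) (Fin n) F) *ᵥ w) hxy
        simp only [Matrix.mulVec_mulVec, ← Units.val_mul, inv_mul_cancel, Units.val_one,
          Matrix.one_mulVec] at this
        exact this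
      have h3 := h2.map' (Matrix.toLin' (P : Matrix (Fin n) (Fin n) F)) hker
      have hveq : v = (Matrix.toLin' (P : Matrix (Fin n) (Fin n) F)) ∘
          ((fun j : Fin n => (Pi.single j (1 : F) : Fin n → F)) ∘
            (fun a : {a : Fin t → Fin 2 // a i0 = 0} => e.symm a.1)) := by
        funext a
        simp only [Function.comp_apply, Matrix.toLin'_apply, v]
        congr 1
        funext j
        simp only [Function.comp_apply, Pi.single_apply]
        by_cases hj : j = e.symm a.1
        · subst hj; simp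
        · have : e j ≠ a.1 := fun h => hj (by rw [← h, Equiv.symm_apply_apply])
          simp [hj, this]
      rw [hveq]
      exact h3
    rw [finrank_span_eq_card hli, finrank_top, Module.finrank_fintype_fun_eq_card,
      two_mul_card_zero i0, Fintype.card_congr e]

/-- class `EC7a` in dimension 8 forces plus type. -/
theorem isPlusTypeOn_of_ec7a_eight [Fintype F] (Q : (Fin 8 → F) → F) (hQ : IsNondegenerateQuadraticForm Q)
    (H : Subgroup (GL (Fin 8) F)) (h : EC7a Q H) : IsPlusTypeOn Q ⊤ := by
  obtain ⟨k, t, e, P, f₁, hk, ht, hf₁, hstr, hvan, -⟩ := h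
  have hcard : 8 = k ^ t := by
    have := Fintype.card_congr e
    simpa using this
  have hk2 : k = 2 := by
    by_contra hne
    have h3 : 3 ≤ k := by omega
    have : 3 ^ 2 ≤ k ^ t :=
      (Nat.pow_le_pow_left h3 2).trans (Nat.pow_le_pow_right (by omega) ht)
    omega
  subst hk2
  exact isPlusTypeOn_top_of_pure_vanish (by omega) Q hQ e P f₁ hf₁ hstr hvan

end Cfsg.Agent.Lib.H11.EOP2
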