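/-
EO project, phase 2 (helper11): class `EC4a` (symplectic ⊗ symplectic, `Q` vanishing on pure tensors) with first
factor of dimension 2 forces PLUS type: the span of `P (e₀ ⊗ e_b)` is totally singular of half the dimension.
In the dimensions 8, 10, 12 of the rows the first factor has dimension 2 (for `12 = 3 · 4` there is no symplectic
form on `F³`), so `EC4a` always forces plus type there.
-/
import Cfsg.Agent.Lib.H11.AschEO2P7
import Cfsg.Agent.Lib.H17.AschSP2F0

set_option autoImplicit false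

namespace Cfsg.Agent.Lib.H11.EOP2

open Cfsg Cfsg.Geo Cfsg.Agent.Lib.Lead.Asch Cfsg.Agent.Lib.H26.AschE
open scoped MatrixGroups Matrix Kronecker

variable {F : Type*} [Field F] {n : ℕ}

/-- **plus type** from a tensor structure `F² ⊗ F^(n₂)` with alternating first factor and `Q` vanishing on pure
tensors. -/
theorem isPlusTypeOn_top_of_tensor_two {n₂ : ℕ} (Q : (Fin n → F) → F)
    (hQ : IsNondegenerateQuadraticForm Q) (e : Fin n ≃ Fin 2 × Fin n₂) (P : GL (Fin n) F)
    (f₁ : (Fin 2 → F) → (Fin 2 → F) → F) (f₂ : (Fin n₂ → F) → (Fin n₂ → F) → F)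
    (hf₁ : ∀ v, f₁ v v = 0)
    (hstr : IsTensorFormStructure id (QuadraticMap.polar Q) f₁ f₂ e P)
    (hvan : ∀ (x₁ : Fin 2 → F) (x₂ : Fin n₂ → F),
      Q ((P : Matrix (Fin n) (Fin n) F) *ᵥ ((fun a : Fin 2 × Fin n₂ => x₁ a.1 * x₂ a.2) ∘ e)) = 0) :
    IsPlusTypeOn Q ⊤ := by
  classical
  let v : Fin n₂ → (Fin n → F) := fun b =>
    (P : Matrix (Fin n) (Fin n) F) *ᵥ ((Pi.single ((0 : Fin 2), b) (1 : F) : Fin 2 × Fin n₂ → F) ∘ e)
  have hsingle : ∀ b : Fin n₂,
      (fun a : Fin 2 × Fin n₂ => (Pi.single (0 : Fin 2) (1 : F) : Fin 2 → F) a.1 *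
        (Pi.single b (1 : F) : Fin n₂ → F) a.2) = Pi.single ((0 : Fin 2), b) 1 := by
    intro b
    funext a
    obtain ⟨a1, a2⟩ := a
    by_cases h1 : a1 = 0
    · by_cases h2 : a2 = b
      · subst h1; subst h2; simp
      · have hne : (a1, a2) ≠ ((0 : Fin 2), b) := fun h => h2 (Prod.ext_iff.1 h).2
        rw [Pi.single_eq_of_ne hne]
        simp [Pi.single_eq_of_ne h2]
    · have hne : (a1, a2) ≠ ((0 : Fin 2), b) := fun h => h1 (Prod.ext_iff.1 h).1
      rw [Pi.single_eq_of_ne hne]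
      simp [Pi.single_eq_of_ne h1]
  have hv : ∀ b, Q (v b) = 0 := by
    intro b
    have := hvan (Pi.single 0 1) (Pi.single b 1)
    rw [hsingle] at this
    exact this
  have hvv : ∀ b b', QuadraticMap.polar Q (v b) (v b') = 0 := by
    intro b b'
    obtain ⟨c, -, hc⟩ := hstr
    show QuadraticMap.polar Q
      ((P : Matrix (Fin n) (Fin n) F) *ᵥ ((Pi.single ((0 : Fin 2), b) (1 : F) : Fin 2 × Fin n₂ → F) ∘ e))
      ((P : Matrix (Fin n) (Fin n) F) *ᵥ ((Pi.single ((0 : Fin 2), b') (1 : F) : Fin 2 × Fin n₂ → F) ∘ e)) = 0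
    rw [hc]
    have h1 : formOfGram id (gramMatrix f₁ ⊗ₖ gramMatrix f₂)
        (Pi.single ((0 : Fin 2), b) (1 : F)) (Pi.single ((0 : Fin 2), b') (1 : F)) =
        gramMatrix f₁ 0 0 * gramMatrix f₂ b b' := by
      unfold formOfGram
      rw [Finset.sum_eq_single ((0 : Fin 2), b)]
      · rw [Finset.sum_eq_single ((0 : Fin 2), b')]
        · simp [Matrix.kroneckerMap_apply]
        · intro x _ hx
          simp [Pi.single_eq_of_ne hx]
        · intro h; exact absurd (Finset.mem_univ _) h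
      · intro x _ hx
        apply Finset.sum_eq_zero
        intro y _
        simp [Pi.single_eq_of_ne hx]
      · intro h; exact absurd (Finset.mem_univ _) h
    rw [h1]
    have h0 : gramMatrix f₁ 0 0 = 0 := hf₁ _
    rw [h0, zero_mul, mul_zero]
  refine ⟨Submodule.span F (Set.range v), le_top, ?_, ?_⟩
  · intro w hw
    obtain ⟨c, rfl⟩ := (Submodule.mem_span_range_iff_exists_fun F).1 hw
    exact (quad_sum_eq_zero Q hQ v hv hvv c Finset.univ).1
  · have hli : LinearIndependent F v := by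
      have h1 : LinearIndependent F (fun j : Fin n => (Pi.single j (1 : F) : Fin n → F)) :=
        Pi.linearIndependent_single_one (Fin n) F
      have hinj : Function.Injective (fun b : Fin n₂ => e.symm ((0 : Fin 2), b)) := by
        intro b b' hbb
        exact (Prod.ext_iff.1 (e.symm.injective hbb)).2
      have h2 := h1.comp _ hinj
      have hker : LinearMap.ker (Matrix.toLin' (P : Matrix (Fin n) (Fin n) F)) = ⊥ := by
        rw [LinearMap.ker_eq_bot]
        intro x y hxy
        simp only [Matrix.toLin'_apply] at hxy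
        have := congrArg (fun w => ((P⁻¹ : GL (Fin n) F) : Matrix (Fin n) (Fin n) F) *ᵥ w) hxy
        simp only [Matrix.mulVec_mulVec, ← Units.val_mul, inv_mul_cancel, Units.val_one,
          Matrix.one_mulVec] at this
        exact this
      have h3 := h2.map' (Matrix.toLin' (P : Matrix (Fin n) (Fin n) F)) hker
      have hveq : v = (Matrix.toLin' (P : Matrix (Fin n) (Fin n) F)) ∘
          ((fun j : Fin n => (Pi.single j (1 : F) : Fin n → F)) ∘
            (fun b : Fin n₂ => e.symm ((0 : Fin 2), b))) := by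
        funext b
        simp only [Function.comp_apply, Matrix.toLin'_apply, v]
        congr 1
        funext j
        simp only [Function.comp_apply, Pi.single_apply]
        by_cases hj : j = e.symm ((0 : Fin 2), b)
        · subst hj; simp
        · have : e j ≠ ((0 : Fin 2), b) := fun h => hj (by rw [← h, Equiv.symm_apply_apply])
          simp [hj, this]
      rw [hveq]
      exact h3
    have hc := Fintype.card_congr e
    rw [Fintype.card_prod, Fintype.card_fin, Fintype.card_fin, Fintype.card_fin] at hc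
    rw [finrank_span_eq_card hli, finrank_top, Module.finrank_fintype_fun_eq_card, Fintype.card_fin,
      Fintype.card_fin, hc]

/-- class `EC4a` with first factor of dimension 2 forces plus type. -/
theorem isPlusTypeOn_of_ec4a_two [Fintype F] (Q : (Fin n → F) → F) (hQ : IsNondegenerateQuadraticForm Q)
    (H : Subgroup (GL (Fin n) F)) (h : EC4a Q H)
    (hn : ∀ n₁ n₂ : ℕ, 2 ≤ n₁ → n₁ < n₂ → Even n₁ → n = n₁ * n₂ → n₁ = 2) : IsPlusTypeOn Q ⊤ := by
  obtain ⟨n₁, n₂, e, P, f₁, f₂, h1, h2, hf₁, hf₂, hstr, hvan, -⟩ := h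
  have hcard : n = n₁ * n₂ := by
    have := Fintype.card_congr e
    simpa using this
  have heven : Even n₁ := by
    have := Cfsg.Agent.Lib.H17.AschSP2.even_card_of_isSymplecticForm f₁ hf₁
    simpa using this
  have hn1 := hn n₁ n₂ h1 h2 heven hcard
  subst hn1
  exact isPlusTypeOn_top_of_tensor_two Q hQ e P f₁ f₂ hf₁.alternating hstr hvan

theorem isPlusTypeOn_of_ec4a_eight [Fintype F] (Q : (Fin 8 → F) → F) (hQ : IsNondegenerateQuadraticForm Q)
    (H : Subgroup (GL (Fin 8) F)) (h : EC4a Q H) : IsPlusTypeOn Q ⊤ := by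
  refine isPlusTypeOn_of_ec4a_two Q hQ H h ?_
  intro n₁ n₂ h1 h2 _ h8
  by_contra hne
  have h3 : 3 ≤ n₁ := by omega
  have : 3 * 4 ≤ n₁ * n₂ := Nat.mul_le_mul h3 (by omega)
  omega

theorem isPlusTypeOn_of_ec4a_ten [Fintype F] (Q : (Fin 10 → F) → F) (hQ : IsNondegenerateQuadraticForm Q)
    (H : Subgroup (GL (Fin 10) F)) (h : EC4a Q H) : IsPlusTypeOn Q ⊤ := by
  refine isPlusTypeOn_of_ec4a_two Q hQ H h ?_
  intro n₁ n₂ h1 h2 _ h10
  by_contra hne
  have h3 : 3 ≤ n₁ := by omega
  have : 3 * 4 ≤ n₁ * n₂ := Nat.mul_le_mul h3 (by omega)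
  omega

theorem isPlusTypeOn_of_ec4a_twelve [Fintype F] (Q : (Fin 12 → F) → F) (hQ : IsNondegenerateQuadraticForm Q)
    (H : Subgroup (GL (Fin 12) F)) (h : EC4a Q H) : IsPlusTypeOn Q ⊤ := by
  refine isPlusTypeOn_of_ec4a_two Q hQ H h ?_
  intro n₁ n₂ h1 h2 heven h12
  by_contra hne
  obtain ⟨r, hr⟩ := heven
  have h4 : 4 ≤ n₁ := by omega
  have : 4 * 5 ≤ n₁ * n₂ := Nat.mul_le_mul h4 (by omega)
  omega

end Cfsg.Agent.Lib.H11.EOP2
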