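/-
EO project, phase 2 (helper11): class 7 in the dimensions of the rows.  `EC7 Q H` on `Fin n` gives `n = k ^ t` with
`2 ≤ k`, `2 ≤ t`; so it is impossible for `n = 10, 12`, and for `n = 8` it forces `k = 2`, `t = 3`, class `EC7a`,
hence PLUS type.
-/
import Cfsg.Agent.Lib.H11.AschEO2P7

set_option autoImplicit false

namespace Cfsg.Agent.Lib.H11.EOP2

open Cfsg Cfsg.Geo Cfsg.Agent.Lib.Lead.Asch Cfsg.Agent.Lib.H26.AschE
open scoped MatrixGroups Matrix Kronecker

variable {F : Type*} [Field F] [Fintype F] {n : ℕ}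

theorem ec7_dim (Q : (Fin n → F) → F) (H : Subgroup (GL (Fin n) F)) (h : EC7 Q H) :
    ∃ k t : ℕ, 2 ≤ k ∧ 2 ≤ t ∧ n = k ^ t := by
  rcases h with ⟨k, t, e, P, f₁, hk, ht, -, -, -, -⟩ | ⟨k, t, e, P, f₁, -, hk, ht, -, -, -⟩
  · refine ⟨k, t, hk, ht, ?_⟩
    have := Fintype.card_congr e
    simpa using this
  · refine ⟨k, t, by omega, ht, ?_⟩
    have := Fintype.card_congr e
    simpa using this

theorem pow_ne_of_lt {k t N : ℕ} (hk : 2 ≤ k) (ht : 2 ≤ t) (h4 : N < 16) (h8 : N ≠ 8) (h9 : N ≠ 9)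
    (h4' : N ≠ 4) : N ≠ k ^ t := by
  intro h
  by_cases hk4 : 4 ≤ k
  · have : 4 ^ 2 ≤ k ^ t := (Nat.pow_le_pow_left hk4 2).trans (Nat.pow_le_pow_right (by omega) ht)
    omega
  · have hk23 : k = 2 ∨ k = 3 := by omega
    rcases hk23 with rfl | rfl
    · by_cases ht4 : 4 ≤ t
      · have : 2 ^ 4 ≤ 2 ^ t := Nat.pow_le_pow_right (by omega) ht4
        omega
      · have : t = 2 ∨ t = 3 := by omega
        rcases this with rfl | rfl <;> omega
    · by_cases ht3 : 3 ≤ t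
      · have : 3 ^ 3 ≤ 3 ^ t := Nat.pow_le_pow_right (by omega) ht3
        omega
      · have : t = 2 := by omega
        subst this
        omega

theorem not_ec7_ten (Q : (Fin 10 → F) → F) (H : Subgroup (GL (Fin 10) F)) : ¬ EC7 Q H := by
  intro h
  obtain ⟨k, t, hk, ht, hkt⟩ := ec7_dim Q H h
  exact pow_ne_of_lt hk ht (by omega) (by omega) (by omega) (by omega) hkt

theorem not_ec7_twelve (Q : (Fin 12 → F) → F) (H : Subgroup (GL (Fin 12) F)) : ¬ EC7 Q H := by
  intro h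
  obtain ⟨k, t, hk, ht, hkt⟩ := ec7_dim Q H h
  exact pow_ne_of_lt hk ht (by omega) (by omega) (by omega) (by omega) hkt

/-- class 7 in dimension 8 forces plus type. -/
theorem isPlusTypeOn_of_ec7_eight (Q : (Fin 8 → F) → F) (hQ : IsNondegenerateQuadraticForm Q)
    (H : Subgroup (GL (Fin 8) F)) (h : EC7 Q H) : IsPlusTypeOn Q ⊤ := by
  rcases h with h | ⟨k, t, e, P, f₁, -, hk, ht, -, -, -⟩
  · exact isPlusTypeOn_of_ec7a_eight Q hQ H h
  · exfalso
    have hcard : 8 = k ^ t := by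
      have := Fintype.card_congr e
      simpa using this
    have : 3 ^ 2 ≤ k ^ t := (Nat.pow_le_pow_left hk 2).trans (Nat.pow_le_pow_right (by omega) ht)
    omega

end Cfsg.Agent.Lib.H11.EOP2
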