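/-
S5662 project (Aschbacher, symplectic case), module **SM4** (tensor case): ASSEMBLY (helper11, from helper8's
proof in tools/blueprints/S5662_SM4_sigs.lean) of the landed pieces ST4 + SM4a (helper8: class 4, swap, Kronecker
similitudes), SM4-C (helper18), SM4-D (helper3), SM4-E (helper8).
-/
import Cfsg.Agent.Lib.H8.AschSM4a
import Cfsg.Agent.Lib.H8.AschSM2
import Cfsg.Agent.Lib.H8.AschSM4E
import Cfsg.Agent.Lib.H3.AschSM4D
import Cfsg.Agent.Lib.H18.AschSM4C

set_option autoImplicit false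

namespace Cfsg.Agent.Lib.H11.AschS

open Cfsg Cfsg.Geo Cfsg.Agent.Lib.Lead.Asch Cfsg.Agent.Lib.H6.Asch Cfsg.Agent.Lib.H20.Asch
  Cfsg.Agent.Lib.H8.AschS
open scoped MatrixGroups Matrix Kronecker

variable {F : Type*} [Field F] [Fintype F] {n : ℕ} {f : (Fin n → F) → (Fin n → F) → F}

/-- **SM4** (exact signature of S5662_sigs.lean). -/
theorem stame_of_homog_tensor (hf : IsSymplecticForm f) (hn : 4 ≤ n)
    (H N : Subgroup (GL (Fin n) F)) (hH : FixesForm (matrixSet H) f)
    (hirr : ActsIrreducibly (matrixSet H)) (hNH : N ≤ H)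
    (hnorm : NormalizedBy H N) (D : HomogData N)
    (habs : ActsAbsolutelyIrreducibly (repSet D.ρ)) (hd : 2 ≤ D.d) (hk : 2 ≤ D.k) :
    SC2b f H ∨ SC3b f H ∨ SC4 f H ∨ SC8 f H := by
  have hN : FixesForm (matrixSet N) f := by
    rintro _ ⟨x, hx, rfl⟩ u v
    exact hH _ ⟨x, hNH hx, rfl⟩ u v
  obtain ⟨G₁, C, ε, hε, hG₁, hC, hG₁det, hCdet, hfix, hform⟩ :=
    exists_tensor_form_symplectic hf N hN D habs
  have hkron : ∀ h ∈ H, glReindex D.e (D.P * h * D.P⁻¹) ∈ kroneckerSubgroup D.d D.k F :=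
    fun h hh => mem_kronecker_of_homog H N hnorm D habs (by omega) (by omega) h hh
  by_cases hq : Odd (Fintype.card F)
  · -- `q` odd
    rcases hε with rfl | rfl
    · -- `G₁` symmetric, `C` alternating: swap the factors
      rw [one_smul] at hG₁
      rw [neg_smul, one_smul] at hC
      have hform' := hform_swap D.e D.P G₁ C hform
      have hkron' := hkron_swap H D.e D.P hkron
      by_cases h3 : 3 ≤ D.d
      · exact Or.inr (Or.inr (Or.inl (sc4_of_tensor hq H h3 _ D.P C G₁ hC hG₁ hCdet hG₁det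
          hform' hkron')))
      · have h2 : D.d = 2 := by omega
        obtain ⟨d, k, e, P, ρ, irr, eq⟩ := D
        simp only at h2 hform' hkron' hG₁ hG₁det
        subst h2
        rcases Cfsg.Agent.Lib.H18.AschS.sc2b_or_sc3b_of_tensor_two hf hq H hH (by omega) _ P C G₁ hC hG₁ hCdet hG₁det
          hform' hkron' with h | h
        · exact Or.inl h
        · exact Or.inr (Or.inl h)
    · -- `G₁` alternating, `C` symmetric
      rw [neg_smul, one_smul] at hG₁
      rw [neg_neg, one_smul] at hC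
      by_cases h3 : 3 ≤ D.k
      · exact Or.inr (Or.inr (Or.inl (sc4_of_tensor hq H h3 _ D.P G₁ C hG₁ hC hG₁det hCdet
          hform hkron)))
      · have h2 : D.k = 2 := by omega
        obtain ⟨d, k, e, P, ρ, irr, eq⟩ := D
        simp only at h2 hform hkron hC hCdet
        subst h2
        rcases Cfsg.Agent.Lib.H18.AschS.sc2b_or_sc3b_of_tensor_two hf hq H hH (by omega) _ P G₁ C hG₁ hC hG₁det hCdet
          hform hkron with h | h
        · exact Or.inl h
        · exact Or.inr (Or.inl h)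
  · -- `q` even
    have hneg := neg_eq_self_of_not_odd hq
    have hG₁' : G₁ᵀ = G₁ := by
      rcases hε with rfl | rfl
      · rw [hG₁, one_smul]
      · rw [hG₁, neg_smul, one_smul]; ext i j; exact hneg _
    have hC' : Cᵀ = C := by
      rcases hε with rfl | rfl
      · rw [hC, neg_smul, one_smul]; ext i j; exact hneg _
      · rw [hC, neg_neg, one_smul]
    obtain ⟨h1, h2⟩ := alt_of_even hq H N hH hirr D hd hk G₁ C hG₁' hC' hG₁det hCdet hfix hform
      hkron
    exact Or.inr (Or.inr (Or.inr (Cfsg.Agent.Lib.H3.AschS.sc8_of_tensor_alt hf hq H hH D.e D.P G₁ C hG₁' hC' h1 h2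
      hform hkron)))

end Cfsg.Agent.Lib.H11.AschS
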