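/-
S5662 project (Aschbacher, symplectic case), module **SM8.3** (helper11): `t ≥ 2` components.
In the tensor basis of the components the symplectic form is `c • (t-th tensor power of B)`, `B` invertible,
`ρ`-invariant, `Bᵀ = ε B`, `ε ^ t = -1`.  `q` odd: `ε = -1`, `t` odd, class 7.  `q` even: `B` is alternating, the
quadratic form vanishing on pure tensors is fixed by all components, class 8 (tool ST8).
-/
import Cfsg.Agent.Lib.H11.AschTD
import Cfsg.Agent.Lib.H11.AschSM83d
import Cfsg.Agent.Lib.H11.AschSDefs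
import Cfsg.Agent.Lib.H6.AschST8
import Cfsg.Agent.Lib.H25.AschUT5b

set_option autoImplicit false

namespace Cfsg.Agent.Lib.H11.AschS

open Cfsg Cfsg.Geo Cfsg.Agent.Lib.Lead.Asch Cfsg.Agent.Lib.H16.Asch Cfsg.Agent.Lib.H21.Asch
  Cfsg.Agent.Lib.H6.Asch
open scoped MatrixGroups Matrix Kronecker

variable {F : Type*} [Field F] [Fintype F] {n : ℕ} {f : (Fin n → F) → (Fin n → F) → F}

/-- the image of a perfect subgroup under a homomorphism is perfect. -/
theorem range_perfect_of_perfect {G G' : Type*} [Group G] [Group G'] (A : Subgroup G)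
    (hperf : ⁅A, A⁆ = A) (ρ : A →* G') : ⁅ρ.range, ρ.range⁆ = ρ.range := by
  have hc : ⁅(⊤ : Subgroup A), (⊤ : Subgroup A)⁆ = (⊤ : Subgroup A) := by
    apply Subgroup.map_injective A.subtype_injective
    rw [Subgroup.map_commutator, ← MonoidHom.range_eq_map, Subgroup.range_subtype, hperf]
  rw [MonoidHom.range_eq_map, ← Subgroup.map_commutator (⊤ : Subgroup A) ⊤ ρ, hc]

/-- **SM8.3** -/
theorem stame_of_components (hf : IsSymplecticForm f) (hn : 4 ≤ n)
    (H : Subgroup (GL (Fin n) F)) (hH : FixesForm (matrixSet H) f) (hgood : Good H)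
    (t : ℕ) (L : Fin t → Subgroup (GL (Fin n) F)) (hL : Cfsg.Agent.Lib.H26.Asch.Components H t L)
    (ht : 2 ≤ t) : SC7 f H ∨ SC8 f H := by
  classical
  have hn0 : 0 < n := by omega
  have ht0 : 0 < t := by omega
  set i0 : Fin t := ⟨0, ht0⟩ with hi0
  obtain ⟨m, e', Q, ρ, hm2, hρabs, habsL, hLsN, hc, hb, -, hmem⟩ :=
    exists_tensorData hn0 H hgood t L ht hL.le hL.comm hL.perm hL.trans hL.not_scal i0
  have hLsH : (⨆ i, L i) ≤ H := iSup_le hL.le
  have hfixL : ∀ i, FixesForm (matrixSet (L i)) f := by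
    rintro i _ ⟨y, hy, rfl⟩ u v
    exact hH _ ⟨y, hL.le i hy, rfl⟩ u v
  obtain ⟨J, B, ε, c, hJ, hJdet, hBdet, hε, hBT, hBfix, hc0, hcG⟩ :=
    exists_tensorPower_gram hn0 f hf.bilinear hf.nondegenerate t L i0 hfixL habsL m e' Q ρ hρabs hb hc
  set Rq : Matrix (Fin t → Fin m) (Fin t → Fin m) F ≃ₐ[F] Matrix (Fin n) (Fin n) F :=
    Matrix.reindexAlgEquiv F F e'.symm with hRq
  have hRqT : ∀ X : Matrix (Fin t → Fin m) (Fin t → Fin m) F, (Rq X)ᵀ = Rq Xᵀ := fun X => rfl
  set T : Matrix (Fin t → Fin m) (Fin t → Fin m) F := pureT (fun _ : Fin t => B) with hT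
  -- `J` is skew-symmetric
  have hJT : Jᵀ = -J := by
    ext a b
    rw [Matrix.transpose_apply, Matrix.neg_apply, ← hJ.apply_single, ← hJ.apply_single]
    exact hf.skew _ _
  have hB0 : B ≠ 0 := by
    intro h0
    rw [h0] at hBdet
    haveI : Nonempty (Fin m) := ⟨⟨0, by omega⟩⟩
    rw [Matrix.det_zero] at hBdet
    exact not_isUnit_zero hBdet
  have hT0 : T ≠ 0 := pureT_const_ne_zero B hB0
  -- `Tᵀ = -T`
  have hTT : Tᵀ = -T := by
    have h1 := congrArg Matrix.transpose hcG
    rw [Matrix.transpose_mul, Matrix.transpose_mul, Matrix.transpose_transpose, hJT,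
      Matrix.transpose_smul, hRqT] at h1
    have h2 : c • Rq Tᵀ = c • Rq (-T) := by
      rw [← h1, map_neg, smul_neg, ← hcG]
      simp only [Matrix.neg_mul, Matrix.mul_neg, Matrix.mul_assoc]
    have h3 : Rq Tᵀ = Rq (-T) := by
      have := congrArg (fun X => c⁻¹ • X) h2
      simp only [smul_smul, inv_mul_cancel₀ hc0, one_smul] at this
      exact this
    exact Rq.injective h3
  -- `ε ^ t = -1`
  have hεt : ε ^ t = -1 := by
    have h1 : Tᵀ = ε ^ t • T := by
      rw [hT, pureT_transpose]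
      simp only [hBT]
      exact pureT_smul_const ε B
    have h2 : (ε ^ t + 1) • T = 0 := by
      rw [add_smul, one_smul, ← h1, hTT, neg_add_cancel]
    rcases smul_eq_zero.1 h2 with h | h
    · linear_combination h
    · exact absurd h hT0
  by_cases hodd : Odd (Fintype.card F)
  · -- `q` odd: class 7
    left
    have h2 : (2 : F) ≠ 0 := two_ne_zero_of_odd_card' hodd
    have hneg : (-1 : F) ≠ 1 := by
      intro h
      apply h2
      linear_combination -h
    have hε' : ε = -1 := by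
      rcases hε with h | h
      · exfalso
        rw [h, one_pow] at hεt
        exact hneg hεt.symm
      · exact h
    have htodd : Odd t := by
      by_contra hne
      rw [Nat.not_odd_iff_even] at hne
      rw [hε', hne.neg_one_pow] at hεt
      exact hneg hεt.symm
    have ht3 : 3 ≤ t := by
      obtain ⟨k, hk⟩ := htodd
      omega
    have hBskew : Bᵀ = -B := by rw [hBT, hε', neg_smul, one_smul]
    refine ⟨m, t, e', Q, formOf (RingHom.id F) B, hodd, htodd, ht3, ?_,
      isSymplecticForm_formOf_of_skew B hBdet hBskew h2,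
      isTensorPowerFormStructure_of_gram J hJ e' Q B c hc0 hcG, hmem⟩
    rintro ⟨h3, rfl⟩
    have hperfR : ⁅ρ.range, ρ.range⁆ = ρ.range := range_perfect_of_perfect (L i0) (hL.perfect i0) ρ
    have hbot := bot_of_perfect_GL2_F3 h3 ρ.range hperfR
    obtain ⟨c', hc'⟩ := hρabs.2 (Matrix.single 0 1 1) (by
      rintro _ ⟨x, rfl⟩
      have h1 : ρ x = 1 := by
        have h2 : ρ x ∈ ρ.range := ⟨x, rfl⟩
        rw [hbot] at h2
        exact Subgroup.mem_bot.1 h2
      show Matrix.single 0 1 1 * ((ρ x : GL (Fin 2) F) : Matrix (Fin 2) (Fin 2) F) =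
        ((ρ x : GL (Fin 2) F) : Matrix (Fin 2) (Fin 2) F) * Matrix.single 0 1 1
      rw [h1, Units.val_one, mul_one, one_mul])
    have h4 := congrFun (congrFun hc' 0) 1
    simp at h4
  · -- `q` even: class 8
    right
    have h2 : (2 : F) = 0 := two_eq_zero_of_not_odd_card hodd
    have hneg : (-1 : F) = 1 := by linear_combination -h2
    have hBsymm : Bᵀ = B := by
      rcases hε with h | h
      · rw [hBT, h, one_smul]
      · rw [hBT, h, hneg, one_smul]
    have halt := Cfsg.Agent.Lib.H25.Asch.alternating_of_fix_char_two hm2 h2 (repSet ρ) hρabs.1 B hBsymm hBfix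
    have hBdiag : ∀ a, B a a = 0 := by
      intro a
      have := halt (Pi.single a 1)
      rw [Matrix.mulVec_single_one, single_dotProduct, one_mul] at this
      exact this
    set G : Matrix (Fin n) (Fin n) F :=
      (Q : Matrix (Fin n) (Fin n) F)ᵀ * J * (Q : Matrix (Fin n) (Fin n) F) with hG
    have hRqapp : ∀ (X : Matrix (Fin t → Fin m) (Fin t → Fin m) F) j k, (Rq X) j k = X (e' j) (e' k) :=
      fun X j k => rfl
    have hGapp : ∀ k k', G k k' = c * ∏ l, B (e' k l) (e' k' l) := by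
      intro k k'
      rw [hcG, Matrix.smul_apply, smul_eq_mul, hRqapp, hT, pureT_apply]
    have hTsymm : Tᵀ = T := by
      rw [hT, pureT_transpose]
      simp only [hBsymm]
    have hGsymm : Gᵀ = G := by
      rw [hcG, Matrix.transpose_smul, hRqT, hTsymm]
    have hGdiag : ∀ k, G k k = 0 := by
      intro k
      rw [hGapp, Finset.prod_eq_zero (Finset.mem_univ i0) (hBdiag _), mul_zero]
    have hUU : upper G + (upper G)ᵀ = G := upper_add_transpose G hGsymm hGdiag
    have hQQ' : (Q : Matrix (Fin n) (Fin n) F) * ((Q⁻¹ : GL (Fin n) F) : Matrix (Fin n) (Fin n) F) = 1 := by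
      rw [← Units.val_mul, mul_inv_cancel, Units.val_one]
    have hQQ : ((Q⁻¹ : GL (Fin n) F) : Matrix (Fin n) (Fin n) F) * (Q : Matrix (Fin n) (Fin n) F) = 1 := by
      rw [← Units.val_mul, inv_mul_cancel, Units.val_one]
    -- the quadratic form
    set Q₀ : (Fin n → F) → F := fun v =>
      quadOf (upper G) (((Q⁻¹ : GL (Fin n) F) : Matrix (Fin n) (Fin n) F) *ᵥ v) with hQ₀
    have hpolar : ∀ u v, QuadraticMap.polar Q₀ u v = f u v := by
      intro u v
      have h1 : QuadraticMap.polar Q₀ u v = QuadraticMap.polar (quadOf (upper G))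
          (((Q⁻¹ : GL (Fin n) F) : Matrix (Fin n) (Fin n) F) *ᵥ u)
          (((Q⁻¹ : GL (Fin n) F) : Matrix (Fin n) (Fin n) F) *ᵥ v) := by
        simp only [QuadraticMap.polar, hQ₀, Matrix.mulVec_add]
      have hQinv : ∀ w : Fin n → F, (Q : Matrix (Fin n) (Fin n) F) *ᵥ
          (((Q⁻¹ : GL (Fin n) F) : Matrix (Fin n) (Fin n) F) *ᵥ w) = w := by
        intro w
        rw [Matrix.mulVec_mulVec, hQQ', Matrix.one_mulVec]
      rw [h1, polar_quadOf_any, hUU, hG, dot_congr_mulVec, hQinv, hQinv, hJ]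
      rfl
    have hpolar' : QuadraticMap.polar Q₀ = f := by
      funext u v
      exact hpolar u v
    have hQ₀nd : IsNondegenerateQuadraticForm Q₀ := by
      refine ⟨fun a v => ?_, ?_, ?_⟩
      · show quadOf (upper G) (((Q⁻¹ : GL (Fin n) F) : Matrix (Fin n) (Fin n) F) *ᵥ (a • v)) =
          a ^ 2 * quadOf (upper G) (((Q⁻¹ : GL (Fin n) F) : Matrix (Fin n) (Fin n) F) *ᵥ v)
        rw [Matrix.mulVec_smul, quadOf_smul]
      · rw [hpolar']
        exact hf.bilinear
      · rw [hpolar']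
        exact hf.nondegenerate
    -- the components fix `Q₀`
    have hfixQ : FixesQuadForm (matrixSet (⨆ i, L i)) Q₀ := by
      rintro _ ⟨g, hg, rfl⟩
      refine Subgroup.iSup_induction L
        (C := fun g : GL (Fin n) F => ∀ v, Q₀ ((g : Matrix (Fin n) (Fin n) F) *ᵥ v) = Q₀ v) hg ?_ ?_ ?_
      · intro i y hy v
        obtain ⟨x, hx⟩ := hc i y hy
        have h1 : ((Q⁻¹ : GL (Fin n) F) : Matrix (Fin n) (Fin n) F) *ᵥ ((y : Matrix (Fin n) (Fin n) F) *ᵥ v) =
            Rq (posEmb i ((ρ x : GL (Fin m) F) : Matrix (Fin m) (Fin m) F)) *ᵥ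
              (((Q⁻¹ : GL (Fin n) F) : Matrix (Fin n) (Fin n) F) *ᵥ v) := by
          rw [hx, Matrix.mulVec_mulVec, Matrix.mulVec_mulVec]
          congr 1
          rw [← Matrix.mul_assoc, ← Matrix.mul_assoc, hQQ, Matrix.one_mul]
        show quadOf (upper G) (((Q⁻¹ : GL (Fin n) F) : Matrix (Fin n) (Fin n) F) *ᵥ
          ((y : Matrix (Fin n) (Fin n) F) *ᵥ v)) = _
        rw [h1]
        exact quadOf_upper_posEmb_fix ht e' B hBsymm hBdiag c G hcG i _ (hBfix _ ⟨x, rfl⟩) _
      · intro v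
        rw [Units.val_one, Matrix.one_mulVec]
      · intro a b ha hb v
        rw [Units.val_mul, ← Matrix.mulVec_mulVec, ha, hb]
    exact Cfsg.Agent.Lib.H6.AschS.sc8_of_fixes_quad hf (by omega) H (⨆ i, L i) hH hLsH hLsN habsL Q₀
      hQ₀nd hfixQ

end Cfsg.Agent.Lib.H11.AschS
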