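/-
S5662 project (Aschbacher's theorem, SYMPLECTIC case), ASSEMBLY (helper11, architect).
Everything except module SM4 (tensor case) is landed; the assembly is proved here from SM4 as a HYPOTHESIS
(`SM4All F`), so that the final theorem is a few lines once SM4 lands:
* `smain_strong_of`  : every `H` fixing a symplectic form `f` on `F^n`, `n ≥ 4`, is `STameS f H` or residual;
* `smain_strong'_of` : the same on `Fin m ⊕ Fin m` for `H ≤ spGL m F` (class-by-class, for the Phase 2 rows);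
* `smain_of`         : the statement of S5662 for every subgroup of `Sp_2m(F)`.
Modules: SM1 helper17, SM2 helper8, SM3 helper4, SM7 helper1, M8.1 + SM8.2 helper26, SM8.3 helper11,
SD/ST5/ST5' helper25 + helper18, ST8 helper6, ST0 helper11.
-/
import Cfsg.Agent.Lib.H11.AschSDefs
import Cfsg.Agent.Lib.H8.AschM5
import Cfsg.Agent.Lib.H17.AschM1
import Cfsg.Agent.Lib.H17.AschM6
import Cfsg.Agent.Lib.H26.AschM8Defs
import Cfsg.Agent.Lib.H26.AschM8A3
import Cfsg.Agent.Lib.H11.AschST0e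
import Cfsg.Agent.Lib.H11.SimMax5
import Cfsg.Agent.Lib.H17.AschSM1
import Cfsg.Agent.Lib.H8.AschSM2
import Cfsg.Agent.Lib.H4.AschSM3
import Cfsg.Agent.Lib.H1.AschSM7
import Cfsg.Agent.Lib.H26.AschSM82
import Cfsg.Agent.Lib.H11.AschSM83

set_option autoImplicit false

namespace Cfsg.Agent.Lib.H11.AschS

open Cfsg Cfsg.Geo Cfsg.Agent.Lib.Lead.Asch
open scoped MatrixGroups Matrix Kronecker

/-- The statement of module **SM4** (tensor case) for all dimensions and forms over `F`. -/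
def SM4All (F : Type*) [Field F] [Fintype F] : Prop :=
  ∀ (n : ℕ) (f : (Fin n → F) → (Fin n → F) → F), IsSymplecticForm f → 4 ≤ n →
    ∀ (H N : Subgroup (GL (Fin n) F)), FixesForm (matrixSet H) f → ActsIrreducibly (matrixSet H) →
      N ≤ H → NormalizedBy H N → ∀ D : HomogData N, ActsAbsolutelyIrreducibly (repSet D.ρ) →
        2 ≤ D.d → 2 ≤ D.k → SC2b f H ∨ SC3b f H ∨ SC4 f H ∨ SC8 f H

variable {F : Type*} [Field F] [Fintype F] {n : ℕ} {f : (Fin n → F) → (Fin n → F) → F}

/-- **SM8** (from M8.1, SM8.2, SM8.3). -/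
theorem stame_or_residual_of_nonabelian_minimal (hf : IsSymplecticForm f) (hn : 4 ≤ n)
    (H N : Subgroup (GL (Fin n) F)) (hH : FixesForm (matrixSet H) f) (hgood : Good H)
    (hmin : MinimalModScalars H N)
    (hnab : ¬ ∀ x ∈ N, ∀ y ∈ N, x * y * x⁻¹ * y⁻¹ ∈ scalars (Fin n) F) :
    (SC5 f H ∨ SC7 f H ∨ SC8 f H) ∨ InSymplecticResidualClass H := by
  obtain ⟨t, L, hL⟩ := Cfsg.Agent.Lib.H26.Asch.exists_components H N hmin hnab
  by_cases ht : 2 ≤ t
  · exact Or.inl ((stame_of_components hf hn H hH hgood t L hL ht).elim (fun h => Or.inr (Or.inl h))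
      (fun h => Or.inr (Or.inr h)))
  · have h1 : t = 1 := by have := hL.pos; omega
    subst h1
    exact (Cfsg.Agent.Lib.H26.AschS.residual_of_components_one_symplectic hf hn H hH hgood L hL).elim
      (fun h => Or.inl (h.elim Or.inl (fun h => Or.inr (Or.inr h)))) Or.inr

theorem good_of_not_stame_of (h4 : SM4All F) (hf : IsSymplecticForm f) (hn : 4 ≤ n)
    (H : Subgroup (GL (Fin n) F)) (hH : FixesForm (matrixSet H) f) (hnt : ¬ STameS f H) : Good H := by
  have hirr : ActsIrreducibly (matrixSet H) := by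
    by_contra h
    refine hnt ((Cfsg.Agent.Lib.H17.AschS.stame_of_reducible hf H hH h).elim Or.inl
      (fun h2 => h2.elim (fun h3 => Or.inr (Or.inl h3)) (fun h3 => Or.inr (Or.inr (Or.inl h3)))))
  have hnt2 : ¬ (SC2a f H ∨ SC2b f H ∨ SC8 f H) := by
    intro h
    refine hnt (h.elim (fun h => ?_) (fun h => h.elim (fun h => ?_) (fun h => ?_)))
    · exact Or.inr (Or.inr (Or.inl h))
    · exact Or.inr (Or.inr (Or.inr (Or.inl h)))
    · exact Or.inr (Or.inr (Or.inr (Or.inr (Or.inr (Or.inr (Or.inr (Or.inr (Or.inr (Or.inr h)))))))))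
  refine ⟨hirr, fun N hNH hnorm => ?_⟩
  obtain ⟨D⟩ := Cfsg.Agent.Lib.H8.AschS.exists_homogData_symplectic hf (by omega) H N hH hirr hnt2 hNH hnorm
  by_cases habs : ActsAbsolutelyIrreducibly (repSet D.ρ)
  · by_cases hd : D.d ≤ 1
    · exact Or.inl (Cfsg.Agent.Lib.H8.Asch.le_scalars_of_homog_d_le_one N D hd)
    · by_cases hk : D.k ≤ 1
      · exact Or.inr (Cfsg.Agent.Lib.H8.Asch.absIrr_of_homog_k_le_one (by omega) N D habs hk)
      · refine absurd ?_ hnt
        have h4' := h4 n f hf hn H N hH hirr hNH hnorm D habs (by omega) (by omega)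
        refine h4'.elim (fun h => ?_) (fun h4 => h4.elim (fun h => ?_) (fun h4 => h4.elim (fun h => ?_) (fun h => ?_)))
        · exact Or.inr (Or.inr (Or.inr (Or.inl h)))
        · exact Or.inr (Or.inr (Or.inr (Or.inr (Or.inr (Or.inl h)))))
        · exact Or.inr (Or.inr (Or.inr (Or.inr (Or.inr (Or.inr (Or.inl h))))))
        · exact Or.inr (Or.inr (Or.inr (Or.inr (Or.inr (Or.inr (Or.inr (Or.inr (Or.inr (Or.inr h)))))))))
  · refine absurd ?_ hnt
    have h3 := Cfsg.Agent.Lib.H4.AschS.stame_of_homog_not_absIrr hf (by omega) H N hH hirr hNH hnorm D habs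
    refine h3.elim (fun h => ?_) (fun h3 => h3.elim (fun h => ?_) (fun h => ?_))
    · exact Or.inr (Or.inr (Or.inr (Or.inr (Or.inl h))))
    · exact Or.inr (Or.inr (Or.inr (Or.inr (Or.inr (Or.inl h)))))
    · exact Or.inr (Or.inr (Or.inr (Or.inr (Or.inr (Or.inr (Or.inr (Or.inr (Or.inr (Or.inr h)))))))))

/-- The class-by-class form of S5662, for every subgroup of the isometry group of a symplectic form on `F^n`, `n ≥ 4`
(modulo SM4). -/
theorem smain_strong_of (h4 : SM4All F) (hf : IsSymplecticForm f) (hn : 4 ≤ n)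
    (H : Subgroup (GL (Fin n) F)) (hH : FixesForm (matrixSet H) f) :
    STameS f H ∨ InSymplecticResidualClass H := by
  by_cases hnt : STameS f H
  · exact Or.inl hnt
  have hgood : Good H := good_of_not_stame_of h4 hf hn H hH hnt
  have hns : ¬ H ≤ scalars (Fin n) F :=
    Cfsg.Agent.Lib.H17.Asch.not_le_scalars_of_irreducible (by omega) H hgood.irr
  obtain ⟨N, hmin⟩ := Cfsg.Agent.Lib.H17.Asch.exists_minimalModScalars H hns
  by_cases hab : ∀ x ∈ N, ∀ y ∈ N, x * y * x⁻¹ * y⁻¹ ∈ scalars (Fin n) F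
  · refine Or.inl ((Cfsg.Agent.Lib.H1.AschS.stame_of_abelian_minimal hf hn H N hH hgood hmin hab).elim
      (fun h => ?_) (fun h => ?_))
    · exact Or.inr (Or.inr (Or.inr (Or.inr (Or.inr (Or.inr (Or.inr (Or.inl h)))))))
    · exact Or.inr (Or.inr (Or.inr (Or.inr (Or.inr (Or.inr (Or.inr (Or.inr (Or.inl h))))))))
  · refine (stame_or_residual_of_nonabelian_minimal hf hn H N hH hgood hmin hab).elim
      (fun h => Or.inl (h.elim (fun h => ?_) (fun h => h.elim (fun h => ?_) (fun h => ?_)))) Or.inr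
    · exact Or.inr (Or.inr (Or.inr (Or.inr (Or.inr (Or.inr (Or.inr (Or.inl h)))))))
    · exact Or.inr (Or.inr (Or.inr (Or.inr (Or.inr (Or.inr (Or.inr (Or.inr (Or.inr (Or.inl h)))))))))
    · exact Or.inr (Or.inr (Or.inr (Or.inr (Or.inr (Or.inr (Or.inr (Or.inr (Or.inr (Or.inr h)))))))))

theorem fixesForm_of_le_spGL {m : ℕ} (H : Subgroup (GL (Fin m ⊕ Fin m) F)) (hH : H ≤ spGL m F) :
    FixesForm (matrixSet H) (sympForm m F) := by
  rintro _ ⟨g, hg, rfl⟩ u v
  exact hH hg u v

/-- The class-by-class form on `Fin m ⊕ Fin m` for subgroups of `Sp_2m(F)`, `m ≥ 2` (modulo SM4). -/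
theorem smain_strong'_of (h4 : SM4All F) (m : ℕ) (hm : 2 ≤ m) (H : Subgroup (GL (Fin m ⊕ Fin m) F))
    (hH : H ≤ spGL m F) : STameS (sympForm m F) H ∨ InSymplecticResidualClass H := by
  have e : Fin m ⊕ Fin m ≃ Fin (m + m) := finSumFinEquiv
  have hf := isSymplecticForm_reF e (sympForm m F) (Cfsg.Agent.Lib.H11.SimMax.sympForm_isSymplectic F m)
  have hH' := fixesForm_reH e (sympForm m F) H (fixesForm_of_le_spGL H hH)
  rcases smain_strong_of h4 hf (by omega) (reH e H) hH' with h | h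
  · exact Or.inl (stameS_of_reindex e (sympForm m F) H h)
  · exact Or.inr (residual_of_reindex e H h)

/-- **S5662** for every subgroup of `Sp_2m(F)`, `m ≥ 2` (modulo SM4). -/
theorem smain_of (h4 : SM4All F) (m : ℕ) (hm : 2 ≤ m) (H : Subgroup (GL (Fin m ⊕ Fin m) F))
    (hH : H ≤ spGL m F) :
    (∃ M : Subgroup (GL (Fin m ⊕ Fin m) F), InSymplecticClass m F M ∧ H ≤ M) ∨
      InSymplecticResidualClass H :=
  (smain_strong'_of h4 m hm H hH).elim (fun h => Or.inl (STameS.tame hH h)) Or.inr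

end Cfsg.Agent.Lib.H11.AschS
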