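/-
S5662 project (Aschbacher's theorem, SYMPLECTIC case): the FINAL theorems (helper11, architect), hypothesis-free.
* `smain_strong`  : every `H` fixing a symplectic form `f` on `F^n`, `n ≥ 4`, is `STameS f H` or residual;
* `smain_strong'` : the same on `Fin m ⊕ Fin m` for `H ≤ spGL m F`, `m ≥ 2` (class-by-class, for the Phase 2 rows);
* `smain`         : the statement of S5662 for every subgroup of `Sp_2m(F)`.
-/
import Cfsg.Agent.Lib.H11.AschSMain
import Cfsg.Agent.Lib.H11.AschSM4

set_option autoImplicit false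

namespace Cfsg.Agent.Lib.H11.AschS

open Cfsg Cfsg.Geo Cfsg.Agent.Lib.Lead.Asch
open scoped MatrixGroups Matrix Kronecker

variable {F : Type*} [Field F] [Fintype F] {n : ℕ} {f : (Fin n → F) → (Fin n → F) → F}

theorem sm4All : SM4All F :=
  fun _ _ hf hn H N hH hirr hNH hnorm D habs hd hk =>
    stame_of_homog_tensor hf hn H N hH hirr hNH hnorm D habs hd hk

/-- **Aschbacher's theorem for symplectic groups**, class-by-class, any symplectic form on `F^n`, `n ≥ 4`. -/
theorem smain_strong (hf : IsSymplecticForm f) (hn : 4 ≤ n) (H : Subgroup (GL (Fin n) F))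
    (hH : FixesForm (matrixSet H) f) : STameS f H ∨ InSymplecticResidualClass H :=
  smain_strong_of sm4All hf hn H hH

/-- The class-by-class form on `Fin m ⊕ Fin m` for subgroups of `Sp_2m(F)`, `m ≥ 2`. -/
theorem smain_strong' (m : ℕ) (hm : 2 ≤ m) (H : Subgroup (GL (Fin m ⊕ Fin m) F)) (hH : H ≤ spGL m F) :
    STameS (sympForm m F) H ∨ InSymplecticResidualClass H :=
  smain_strong'_of sm4All m hm H hH

/-- **S5662** for every subgroup of `Sp_2m(F)`, `m ≥ 2`. -/
theorem smain (m : ℕ) (hm : 2 ≤ m) (H : Subgroup (GL (Fin m ⊕ Fin m) F)) (hH : H ≤ spGL m F) :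
    (∃ M : Subgroup (GL (Fin m ⊕ Fin m) F), InSymplecticClass m F M ∧ H ≤ M) ∨
      InSymplecticResidualClass H :=
  smain_of sm4All m hm H hH

end Cfsg.Agent.Lib.H11.AschS
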