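/-
S5662 project, module ST0 (transport along a bijection of index types), part e: the residual class, and the
two top-level statements ST0-a, ST0-b.  (helper11)
-/
import Cfsg.Agent.Lib.H11.AschST0d

set_option autoImplicit false
set_option linter.unusedSectionVars false

namespace Cfsg.Agent.Lib.H11.AschS

open Cfsg Cfsg.Geo Cfsg.Agent.Lib.Lead.Asch
open scoped MatrixGroups Matrix Kronecker

variable {F : Type*} [Field F]
variable {ι ι' : Type} [Fintype ι] [DecidableEq ι] [Fintype ι'] [DecidableEq ι']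

/-- **ST0-a** every class predicate is transported back along `glReindex e`. -/
theorem stameS_of_reindex [Fintype F] (e : ι' ≃ ι) (f' : (ι' → F) → (ι' → F) → F)
    (H : Subgroup (GL ι' F)) (h : STameS (reF e f') (reH e H)) : STameS f' H := by
  rcases h with h | h | h | h | h | h | h | h | h | h | h
  · exact Or.inl (SC1a_reindex e f' H h)
  · exact Or.inr (Or.inl (SC1b_reindex e f' H h))
  · exact Or.inr (Or.inr (Or.inl (SC2a_reindex e f' H h)))
  · exact Or.inr (Or.inr (Or.inr (Or.inl (SC2b_reindex e f' H h))))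
  · exact Or.inr (Or.inr (Or.inr (Or.inr (Or.inl (SC3a_reindex e f' H h)))))
  · exact Or.inr (Or.inr (Or.inr (Or.inr (Or.inr (Or.inl (SC3b_reindex e f' H h))))))
  · exact Or.inr (Or.inr (Or.inr (Or.inr (Or.inr (Or.inr (Or.inl (SC4_reindex e f' H h)))))))
  · exact Or.inr (Or.inr (Or.inr (Or.inr (Or.inr (Or.inr (Or.inr (Or.inl (SC5_reindex e f' H h))))))))
  · exact Or.inr (Or.inr (Or.inr (Or.inr (Or.inr (Or.inr (Or.inr (Or.inr (Or.inl
      (SC6_reindex e f' H h)))))))))
  · exact Or.inr (Or.inr (Or.inr (Or.inr (Or.inr (Or.inr (Or.inr (Or.inr (Or.inr (Or.inl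
      (SC7_reindex e f' H h))))))))))
  · exact Or.inr (Or.inr (Or.inr (Or.inr (Or.inr (Or.inr (Or.inr (Or.inr (Or.inr (Or.inr
      (SC8_reindex e f' H h))))))))))

/-! ### the residual class -/

theorem map_comap_glReindex (e : ι' ≃ ι) (P : Subgroup (GL ι F)) :
    (P.comap (glReindex (F := F) e).toMonoidHom).map (glReindex (F := F) e).toMonoidHom = P :=
  Subgroup.map_comap_eq_self_of_surjective (glReindex (F := F) e).surjective P

theorem map_subgroupOf_scalars (e : ι' ≃ ι) (P : Subgroup (GL ι F)) :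
    ((scalars ι' F).subgroupOf (P.comap (glReindex (F := F) e).toMonoidHom)).map
        ((comapEquiv (glReindex (F := F) e) P : _ ≃* _) : _ →* _) =
      (scalars ι F).subgroupOf P := by
  ext y
  constructor
  · rintro ⟨x, hx, rfl⟩
    rw [Subgroup.mem_subgroupOf]
    rw [SetLike.mem_coe, Subgroup.mem_subgroupOf] at hx
    show glReindex e x.1 ∈ scalars ι F
    rw [← map_scalars e]
    exact ⟨x.1, hx, rfl⟩
  · intro hy
    rw [Subgroup.mem_subgroupOf] at hy
    refine ⟨(comapEquiv (glReindex (F := F) e) P).symm y, ?_, ?_⟩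
    · rw [SetLike.mem_coe, Subgroup.mem_subgroupOf]
      apply mem_scalars_of_glReindex e
      show glReindex e ((glReindex (F := F) e).symm y.1) ∈ scalars ι F
      rw [MulEquiv.apply_symm_apply]; exact hy
    · exact MulEquiv.apply_symm_apply _ y

theorem realisableOver_of_comap (e : ι' ≃ ι) (P : Subgroup (GL ι F)) (F₀ : Subfield F)
    (h : RealisableOver F₀ (matrixSet (P.comap (glReindex (F := F) e).toMonoidHom))) :
    RealisableOver F₀ (matrixSet P) := by
  obtain ⟨B', hB'⟩ := h
  refine ⟨glReindex e B', ?_⟩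
  rintro _ ⟨g, hg, rfl⟩ i j
  set g' : GL ι' F := (glReindex (F := F) e).symm g with hg'
  have hgg : glReindex e g' = g := by rw [hg', MulEquiv.apply_symm_apply]
  have hmem : g' ∈ P.comap (glReindex (F := F) e).toMonoidHom := by
    show glReindex e g' ∈ P
    rw [hgg]; exact hg
  have := hB' _ ⟨g', hmem, rfl⟩ (e.symm i) (e.symm j)
  have h2 : ((glReindex e B' : GL ι F) : Matrix ι ι F) * (g : Matrix ι ι F) *
      (((glReindex e B')⁻¹ : GL ι F) : Matrix ι ι F) =
      Matrix.reindexAlgEquiv F F e ((B' : Matrix ι' ι' F) * (g' : Matrix ι' ι' F) *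
        ((B'⁻¹ : GL ι' F) : Matrix ι' ι' F)) := by
    rw [map_mul, map_mul, ← hgg, glReindex_inv_val]
    rfl
  rw [h2]
  exact this

theorem fixesQuadForm_of_comap (e : ι' ≃ ι) (P : Subgroup (GL ι F)) (Q' : (ι' → F) → F)
    (h : FixesQuadForm (matrixSet (P.comap (glReindex (F := F) e).toMonoidHom)) Q') :
    FixesQuadForm (matrixSet P) (pbQ e.symm Q') := by
  rintro _ ⟨g, hg, rfl⟩ v
  set g' : GL ι' F := (glReindex (F := F) e).symm g with hg'
  have hgg : glReindex e g' = g := by rw [hg', MulEquiv.apply_symm_apply]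
  have hmem : g' ∈ P.comap (glReindex (F := F) e).toMonoidHom := by
    show glReindex e g' ∈ P
    rw [hgg]; exact hg
  have := h _ ⟨g', hmem, rfl⟩ (v ∘ e)
  unfold pbQ
  show Q' (((g : Matrix ι ι F) *ᵥ v) ∘ e) = Q' (v ∘ e)
  rw [← hgg, glReindex_mulVec_comp]
  exact this

theorem fixesForm_of_comap (e : ι' ≃ ι) (P : Subgroup (GL ι F)) (f' : (ι' → F) → (ι' → F) → F)
    (h : FixesForm (matrixSet (P.comap (glReindex (F := F) e).toMonoidHom)) f') :
    FixesForm (matrixSet P) (reF e f') := by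
  rintro _ ⟨g, hg, rfl⟩ u v
  set g' : GL ι' F := (glReindex (F := F) e).symm g with hg'
  have hgg : glReindex e g' = g := by rw [hg', MulEquiv.apply_symm_apply]
  have hmem : g' ∈ P.comap (glReindex (F := F) e).toMonoidHom := by
    show glReindex e g' ∈ P
    rw [hgg]; exact hg
  have := h _ ⟨g', hmem, rfl⟩ (u ∘ e) (v ∘ e)
  unfold reF
  rw [← hgg, glReindex_mulVec_comp, glReindex_mulVec_comp]
  exact this

theorem isUnitaryForm_reF (e : ι' ≃ ι) (σ : F ≃+* F) (f' : (ι' → F) → (ι' → F) → F)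
    (hf : IsUnitaryForm σ f') : IsUnitaryForm σ (reF e f') := by
  refine ⟨hf.ne_refl, hf.involutive, ?_, ?_, ?_, ?_⟩
  · intro x y v; exact hf.add_left _ _ _
  · intro c x v; exact hf.smul_left _ _ _
  · intro v w; exact hf.herm _ _
  · intro v hv
    have hv' : v ∘ e ≠ 0 := by
      intro h
      apply hv
      funext i
      have := congrFun h (e.symm i)
      simpa using this
    obtain ⟨⟨x, hx⟩, ⟨y, hy⟩⟩ := hf.nondegenerate (v ∘ e) hv'
    refine ⟨⟨x ∘ e.symm, ?_⟩, ⟨y ∘ e.symm, ?_⟩⟩
    · unfold reF; rw [comp_symm_comp']; exact hx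
    · unfold reF; rw [comp_symm_comp']; exact hy

theorem isResidualCore_comap [Fintype F] (e : ι' ≃ ι) (H : Subgroup (GL ι' F)) (P : Subgroup (GL ι F))
    (h : IsResidualCore (reH e H) P) :
    IsResidualCore H (P.comap (glReindex (F := F) e).toMonoidHom) := by
  set Θ := glReindex (F := F) e with hΘ
  set P' : Subgroup (GL ι' F) := P.comap Θ.toMonoidHom with hP'
  set ψ : ↥P' ≃* ↥P := comapEquiv Θ P with hψ
  have hquot : (↥P' ⧸ (scalars ι' F).subgroupOf P') ≃* (↥P ⧸ (scalars ι F).subgroupOf P) :=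
    QuotientGroup.congr _ _ ψ (map_subgroupOf_scalars e P)
  refine ⟨?_, ?_, ?_, ?_, ?_, ?_, absIrr_comap e P h.absIrred, ?_⟩
  · intro x hx
    exact (mem_reH e H x).1 (h.le hx)
  · intro g hg x hx
    show Θ (g * x * g⁻¹) ∈ P
    rw [map_mul, map_mul, map_inv]
    exact h.normal _ ((mem_reH e H g).2 hg) _ hx
  · have h1 : (⁅P', P'⁆).map Θ.toMonoidHom = P'.map Θ.toMonoidHom := by
      rw [Subgroup.map_commutator, map_comap_glReindex, h.perfect]
    exact Subgroup.map_injective Θ.injective h1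
  · haveI := h.simple
    exact hquot.isSimpleGroup
  · intro hc
    apply h.nonabelian
    rw [isMulCommutative_iff] at hc ⊢
    intro a b
    have := hc (hquot.symm a) (hquot.symm b)
    rw [← map_mul, ← map_mul] at this
    exact hquot.symm.injective this
  · intro g hg hcen
    apply mem_scalars_of_glReindex e
    apply h.centralizer_scalar _ ((mem_reH e H g).2 hg)
    intro x hx
    set x' : GL ι' F := Θ.symm x with hx'
    have hxx : Θ x' = x := by rw [hx', MulEquiv.apply_symm_apply]
    have hmem : x' ∈ P' := by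
      show Θ x' ∈ P
      rw [hxx]; exact hx
    have := hcen x' hmem
    rw [← map_scalars e]
    refine ⟨_, this, ?_⟩
    show Θ (g * x' * g⁻¹ * x'⁻¹) = _
    rw [map_mul, map_mul, map_mul, map_inv, map_inv, hxx]
  · intro F₀ hF₀ hreal
    exact h.no_subfield F₀ hF₀ (realisableOver_of_comap e P F₀ hreal)

/-- **ST0-b** the residual class is transported back along `glReindex e`. -/
theorem residual_of_reindex [Fintype F] (e : ι' ≃ ι) (H : Subgroup (GL ι' F))
    (h : InSymplecticResidualClass (reH e H)) : InSymplecticResidualClass H := by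
  obtain ⟨P, hcore, hq, hu⟩ := h
  refine ⟨P.comap (glReindex (F := F) e).toMonoidHom, isResidualCore_comap e H P hcore, ?_, ?_⟩
  · rintro ⟨Q', hQ', hfix⟩
    exact hq ⟨pbQ e.symm Q', isNondegenerateQuadraticForm_pbQ e.symm Q' hQ',
      fixesQuadForm_of_comap e P Q' hfix⟩
  · rintro ⟨σ, f', hf', hfix⟩
    exact hu ⟨σ, reF e f', isUnitaryForm_reF e σ f' hf', fixesForm_of_comap e P f' hfix⟩

end Cfsg.Agent.Lib.H11.AschS
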