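import Mathlib
import Cfsg.Prelude.Def_Transfer
import Cfsg.Prelude.Def_Local
import Cfsg.Prelude.Def_LocalEven
import Cfsg.Prelude.Def_PLocal
import Cfsg.Agent.Lib.H14.SFour7

/-!
# S4411 piece S3C (helper11): a criterion for `S₄`-freeness.
-/

set_option autoImplicit false

namespace Cfsg.Agent.Lib.H11.AutQ

/-- **S3C**.  If every `3`-element normalizing a `2`-subgroup centralizes it, then `S₄` is not involved in `X`. -/
theorem not_involves_sfour_of_three {X : Type*} [Group X] [Finite X]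
    (h : ∀ T : Subgroup X, IsPGroup 2 ↥T → ∀ y ∈ Subgroup.normalizer (T : Set X),
      (∃ k : ℕ, orderOf y = 3 ^ k) → y ∈ Subgroup.centralizer (T : Set X)) :
    ¬ Cfsg.Involves (Equiv.Perm (Fin 4)) X := by
  intro hinv
  obtain ⟨T, hT, h3⟩ := Cfsg.Agent.Lib.H14.SFour.sfour_involved_iff.mp hinv
  obtain ⟨Kb, f, hf⟩ := Cfsg.Agent.Lib.H26.involves_iff.mp h3
  obtain ⟨e₁, t₁, he₁3, ht₁2, hinv₁, he₁f⟩ :=
    Cfsg.Agent.Lib.H14.SFour.exists_pair_of_map_pair f hf (finRotate 3)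
      (Equiv.swap (0 : Fin 3) 1) ⟨1, Cfsg.Agent.Lib.H14.SFour.perm3_facts.1⟩
      Cfsg.Agent.Lib.H14.SFour.perm3_facts.2.1 Cfsg.Agent.Lib.H14.SFour.perm3_facts.2.2
  have he₁1 : (e₁ : ↥(Subgroup.normalizer (T : Set X)) ⧸
      (Subgroup.centralizer (T : Set X)).subgroupOf (Subgroup.normalizer (T : Set X))) ≠ 1 := by
    intro h1
    apply he₁f
    have : e₁ = 1 := Subtype.ext h1
    rw [this, map_one]
  obtain ⟨n, hn⟩ := he₁3
  obtain ⟨e₂, t₂, he₂3, ht₂2, hinv₂, he₂C⟩ := Cfsg.Agent.Lib.H14.SFour.exists_pair_of_map_pair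
    (QuotientGroup.mk' ((Subgroup.centralizer (T : Set X)).subgroupOf
      (Subgroup.normalizer (T : Set X)))) (QuotientGroup.mk'_surjective _)
    (e₁ : ↥(Subgroup.normalizer (T : Set X)) ⧸
      (Subgroup.centralizer (T : Set X)).subgroupOf (Subgroup.normalizer (T : Set X)))
    (t₁ : ↥(Subgroup.normalizer (T : Set X)) ⧸
      (Subgroup.centralizer (T : Set X)).subgroupOf (Subgroup.normalizer (T : Set X)))
    ⟨n, by have := congrArg Subtype.val hn; simpa using this⟩ he₁1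
    (by have := congrArg Subtype.val hinv₁; simpa using this)
  obtain ⟨n₂, hn₂⟩ := he₂3
  apply he₂C
  rw [QuotientGroup.mk'_apply, QuotientGroup.eq_one_iff, Subgroup.mem_subgroupOf]
  apply h T hT (e₂ : X) e₂.2
  have hpow : (e₂ : X) ^ 3 ^ n₂ = 1 := by
    have := congrArg Subtype.val hn₂; simpa using this
  have hdvd : orderOf (e₂ : X) ∣ 3 ^ n₂ := orderOf_dvd_of_pow_eq_one hpow
  obtain ⟨k, _, hk⟩ := (Nat.dvd_prime_pow Nat.prime_three).mp hdvd
  exact ⟨k, hk⟩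

end Cfsg.Agent.Lib.H11.AutQ
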