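import Mathlib
import Cfsg.Agent.Lib.H1.JordanC

/-!
# S4484 part (X): the analytic lemmas (KI) and (N) for Blichfeldt's 60-degree theorem (helper11)

`E` finite-dimensional complex inner product space, `T : E ≃ₗᵢ[ℂ] E`, `ε` a unit complex number,
`F := eigenspace (lin T) ε`, `P := F.starProjection`.

* `starProjection_eigenspace` : `P w = ∑_{a k = ε} ⟪b k, w⟫ • b k` for an orthonormal eigenbasis `(b, a)`;
* `key_inequality` (KI): all eigenvalues `μ` of `T` with `1/2 ≤ Re (conj ε * μ)` ⟹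
  `(‖w‖² + ‖P w‖²)/2 ≤ Re (conj ε * ⟪w, T w⟫)`;
* `key_inequality_unit` : for `‖w‖ = 1`: `(1 + ‖P w‖²)/2 ≤ ‖⟪w, T w⟫‖`;
* `exists_contraction` (N): all eigenvalues `μ` with `‖μ - ε‖ < 1` ⟹
  `∃ c, 0 ≤ c ∧ c < 1 ∧ ∀ v, ‖ε⁻¹ • T v - v‖ ≤ c * ‖v - P v‖`.
-/

set_option autoImplicit false

namespace Cfsg.Agent.Lib.H11.B60

open Module.End Cfsg.Agent.Lib.H1.Jordan
open scoped ComplexConjugate

variable {E : Type*} [NormedAddCommGroup E] [InnerProductSpace ℂ E]

section basis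

variable {n : ℕ} {T : E ≃ₗᵢ[ℂ] E} {b : OrthonormalBasis (Fin n) ℂ E} {a : Fin n → ℂ}

/-- every diagonal entry is an eigenvalue -/
theorem hasEigenvalue_eig (ha : ∀ k, T (b k) = a k • b k) (k : Fin n) :
    HasEigenvalue (lin T) (a k) := by
  apply hasEigenvalue_of_hasEigenvector (x := b k)
  exact ⟨mem_eigenspace_iff.2 (by rw [lin_apply, ha k]), b.orthonormal.ne_zero k⟩

/-- an eigenvector for `ε` is orthogonal to the basis vectors with `a k ≠ ε` -/
theorem inner_basis_eq_zero (ha : ∀ k, T (b k) = a k • b k) {ε : ℂ} {f : E} (hf : T f = ε • f)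
    (k : Fin n) (hk : a k ≠ ε) : inner ℂ (b k) f = 0 := by
  have h1 := inner_eig ha k f
  rw [hf, inner_smul_right] at h1
  have h2 : (ε - a k) * inner ℂ (b k) f = 0 := by rw [sub_mul, h1, sub_self]
  rcases mul_eq_zero.1 h2 with h | h
  · exact absurd (sub_eq_zero.1 h).symm hk
  · exact h

/-- coordinates of a partial sum -/
theorem inner_basis_sum (b : OrthonormalBasis (Fin n) ℂ E) (S : Finset (Fin n)) (c : Fin n → ℂ)
    (k : Fin n) : inner ℂ (b k) (∑ j ∈ S, c j • b j) = if k ∈ S then c k else 0 := by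
  rw [inner_sum]
  have h1 : ∀ j ∈ S, inner ℂ (b k) (c j • b j) = if k = j then c j else 0 := by
    intro j _
    rw [inner_smul_right, orthonormal_iff_ite.1 b.orthonormal k j]
    split_ifs <;> simp
  rw [Finset.sum_congr rfl h1, Finset.sum_ite_eq]

/-- `⟪w, T w⟫` in coordinates -/
theorem inner_self_map (ha : ∀ k, T (b k) = a k • b k) (w : E) :
    inner ℂ w (T w) = ∑ k, a k * ((‖inner ℂ (b k) w‖ ^ 2 : ℝ) : ℂ) := by
  rw [← b.sum_inner_mul_inner w (T w)]
  refine Finset.sum_congr rfl fun k _ => ?_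
  rw [inner_eig ha k w, ← inner_conj_symm w (b k)]
  have h1 : (starRingEnd ℂ) (inner ℂ (b k) w) * inner ℂ (b k) w
      = ((‖inner ℂ (b k) w‖ ^ 2 : ℝ) : ℂ) := by
    rw [Complex.conj_mul']
    push_cast
    rfl
  rw [← h1]
  ring

variable [FiniteDimensional ℂ E]

/-- the orthogonal projection on the `ε`-eigenspace in an orthonormal eigenbasis -/
theorem starProjection_eigenspace (ha : ∀ k, T (b k) = a k • b k) (ε : ℂ) (w : E) :
    (eigenspace (lin T) ε).starProjection w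
      = ∑ k ∈ Finset.univ.filter (fun k => a k = ε), inner ℂ (b k) w • b k := by
  apply Submodule.eq_starProjection_of_mem_of_inner_eq_zero
  · refine Submodule.sum_mem _ fun k hk => Submodule.smul_mem _ _ ?_
    rw [mem_eigenspace_iff, lin_apply, ha k, (Finset.mem_filter.1 hk).2]
  · intro f hf
    have hf' : T f = ε • f := by
      have := mem_eigenspace_iff.1 hf
      rwa [lin_apply] at this
    rw [inner_sub_left, ← b.sum_inner_mul_inner w f, sum_inner, sub_eq_zero]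
    rw [Finset.sum_filter]
    refine Finset.sum_congr rfl fun k _ => ?_
    split_ifs with hk
    · rw [inner_smul_left, inner_conj_symm]
    · rw [inner_basis_eq_zero ha hf' k hk, mul_zero]

/-- the squared norm of the projection -/
theorem norm_sq_starProjection_eigenspace (ha : ∀ k, T (b k) = a k • b k) (ε : ℂ) (w : E) :
    ‖(eigenspace (lin T) ε).starProjection w‖ ^ 2
      = ∑ k ∈ Finset.univ.filter (fun k => a k = ε), ‖inner ℂ (b k) w‖ ^ 2 := by
  rw [Finset.sum_filter, ← b.sum_sq_norm_inner_right, starProjection_eigenspace ha ε w]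
  refine Finset.sum_congr rfl fun k _ => ?_
  rw [inner_basis_sum b _ (fun j => inner ℂ (b j) w) k]
  by_cases hk : a k = ε
  · simp [hk]
  · simp [hk]

/-- the squared norm of the complementary part -/
theorem norm_sq_sub_starProjection_eigenspace (ha : ∀ k, T (b k) = a k • b k) (ε : ℂ) (w : E) :
    ‖w - (eigenspace (lin T) ε).starProjection w‖ ^ 2
      = ∑ k ∈ Finset.univ.filter (fun k => a k ≠ ε), ‖inner ℂ (b k) w‖ ^ 2 := by
  rw [Finset.sum_filter, ← b.sum_sq_norm_inner_right, starProjection_eigenspace ha ε w]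
  refine Finset.sum_congr rfl fun k _ => ?_
  rw [inner_sub_right, inner_basis_sum b _ (fun j => inner ℂ (b j) w) k]
  by_cases hk : a k = ε
  · simp [hk]
  · simp [hk]

end basis

variable [FiniteDimensional ℂ E]

/-- **(KI)** the key inequality. -/
theorem key_inequality (T : E ≃ₗᵢ[ℂ] E) (ε : ℂ) (hε : ‖ε‖ = 1)
    (h60 : ∀ μ : ℂ, HasEigenvalue (lin T) μ → 1 / 2 ≤ (conj ε * μ).re) (w : E) :
    (‖w‖ ^ 2 + ‖(eigenspace (lin T) ε).starProjection w‖ ^ 2) / 2
      ≤ (conj ε * inner ℂ w (T w)).re := by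
  obtain ⟨b, hb⟩ := exists_joint_eigenbasis (fun _ : Unit => T) (fun _ _ => rfl)
    (rfl : Module.finrank ℂ E = Module.finrank ℂ E)
  choose a ha using fun k => hb () k
  rw [norm_sq_starProjection_eigenspace ha ε w, ← b.sum_sq_norm_inner_right w, inner_self_map ha w,
    Finset.mul_sum, Complex.re_sum, Finset.sum_filter, ← Finset.sum_add_distrib, Finset.sum_div]
  refine Finset.sum_le_sum fun k _ => ?_
  have hre : (conj ε * (a k * ((‖inner ℂ (b k) w‖ ^ 2 : ℝ) : ℂ))).re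
      = (conj ε * a k).re * ‖inner ℂ (b k) w‖ ^ 2 := by
    rw [← mul_assoc, Complex.re_mul_ofReal]
  rw [hre]
  have hnn : 0 ≤ ‖inner ℂ (b k) w‖ ^ 2 := by positivity
  by_cases hk : a k = ε
  · have h1 : (conj ε * a k).re = 1 := by
      rw [hk, Complex.conj_mul', hε]
      norm_num
    rw [if_pos hk, h1]
    linarith
  · have h1 := h60 (a k) (hasEigenvalue_eig ha k)
    rw [if_neg hk]
    nlinarith

/-- (KI) for unit vectors, in the form used in the extremal argument. -/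
theorem key_inequality_unit (T : E ≃ₗᵢ[ℂ] E) (ε : ℂ) (hε : ‖ε‖ = 1)
    (h60 : ∀ μ : ℂ, HasEigenvalue (lin T) μ → 1 / 2 ≤ (conj ε * μ).re) (w : E) (hw : ‖w‖ = 1) :
    (1 + ‖(eigenspace (lin T) ε).starProjection w‖ ^ 2) / 2 ≤ ‖inner ℂ w (T w)‖ := by
  have h1 := key_inequality T ε hε h60 w
  rw [hw, one_pow] at h1
  refine h1.trans ((Complex.re_le_norm _).trans ?_)
  rw [norm_mul, RCLike.norm_conj, hε, one_mul]

/-- **(N)** the contraction estimate. -/
theorem exists_contraction (T : E ≃ₗᵢ[ℂ] E) (ε : ℂ) (hε : ‖ε‖ = 1)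
    (h60 : ∀ μ : ℂ, HasEigenvalue (lin T) μ → ‖μ - ε‖ < 1) :
    ∃ c : ℝ, 0 ≤ c ∧ c < 1 ∧
      ∀ v : E, ‖ε⁻¹ • T v - v‖ ≤ c * ‖v - (eigenspace (lin T) ε).starProjection v‖ := by
  obtain ⟨b, hb⟩ := exists_joint_eigenbasis (fun _ : Unit => T) (fun _ _ => rfl)
    (rfl : Module.finrank ℂ E = Module.finrank ℂ E)
  choose a ha using fun k => hb () k
  have hε0 : ε ≠ 0 := by
    intro h
    rw [h, norm_zero] at hε
    exact zero_ne_one hε
  -- the constant
  obtain ⟨c, hc0, hc1, hc⟩ : ∃ c : ℝ, 0 ≤ c ∧ c < 1 ∧ ∀ k, ‖ε⁻¹ * a k - 1‖ ≤ c := by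
    have hlt : ∀ k, ‖ε⁻¹ * a k - 1‖ < 1 := by
      intro k
      have h1 := h60 (a k) (hasEigenvalue_eig ha k)
      have h2 : ε⁻¹ * a k - 1 = ε⁻¹ * (a k - ε) := by
        rw [mul_sub, inv_mul_cancel₀ hε0]
      rw [h2, norm_mul, norm_inv, hε, inv_one, one_mul]
      exact h1
    rcases isEmpty_or_nonempty (Fin (Module.finrank ℂ E)) with hE | hE
    · exact ⟨0, le_refl _, zero_lt_one, fun k => (hE.false k).elim⟩
    · obtain ⟨k0, -, hk0⟩ := Finset.exists_max_image Finset.univ (fun k => ‖ε⁻¹ * a k - 1‖)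
        Finset.univ_nonempty
      exact ⟨‖ε⁻¹ * a k0 - 1‖, norm_nonneg _, hlt k0, fun k => hk0 k (Finset.mem_univ k)⟩
  refine ⟨c, hc0, hc1, fun v => ?_⟩
  have hsq : ‖ε⁻¹ • T v - v‖ ^ 2
      ≤ (c * ‖v - (eigenspace (lin T) ε).starProjection v‖) ^ 2 := by
    rw [mul_pow, norm_sq_sub_starProjection_eigenspace ha ε v, ← b.sum_sq_norm_inner_right,
      Finset.sum_filter, Finset.mul_sum]
    refine Finset.sum_le_sum fun k _ => ?_
    have h1 : inner ℂ (b k) (ε⁻¹ • T v - v) = (ε⁻¹ * a k - 1) * inner ℂ (b k) v := by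
      rw [inner_sub_right, inner_smul_right, inner_eig ha k v]
      ring
    rw [h1, norm_mul, mul_pow]
    have hnn : 0 ≤ ‖inner ℂ (b k) v‖ ^ 2 := by positivity
    by_cases hk : a k = ε
    · have h2 : ε⁻¹ * a k - 1 = 0 := by rw [hk, inv_mul_cancel₀ hε0, sub_self]
      rw [h2, norm_zero]
      simp [hk]
    · rw [if_pos hk]
      have h3 : ‖ε⁻¹ * a k - 1‖ ^ 2 ≤ c ^ 2 :=
        pow_le_pow_left₀ (norm_nonneg _) (hc k) 2
      exact mul_le_mul_of_nonneg_right h3 hnn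
  exact (sq_le_sq₀ (norm_nonneg _) (mul_nonneg hc0 (norm_nonneg _))).1 hsq

/-- unit complex numbers: `‖μ - ε‖ < 1 ↔ 1/2 < Re (conj ε * μ)` -/
theorem norm_sub_lt_one_iff {μ ε : ℂ} (hμ : ‖μ‖ = 1) (hε : ‖ε‖ = 1) :
    ‖μ - ε‖ < 1 ↔ 1 / 2 < (conj ε * μ).re := by
  have h0 : (conj μ * ε).re = (conj ε * μ).re := by
    rw [← Complex.conj_re (conj ε * μ), map_mul, Complex.conj_conj, mul_comm]
  have h1 : ‖μ - ε‖ ^ 2 = 2 - 2 * (conj ε * μ).re := by
    rw [@norm_sub_sq ℂ, hμ, hε]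
    simp only [RCLike.re_to_complex, RCLike.inner_apply']
    rw [h0]
    ring
  constructor
  · intro h
    have h2 : ‖μ - ε‖ ^ 2 < 1 := by
      have := norm_nonneg (μ - ε)
      nlinarith
    linarith
  · intro h
    have h2 : ‖μ - ε‖ ^ 2 < 1 := by linarith
    have := norm_nonneg (μ - ε)
    nlinarith

omit [FiniteDimensional ℂ E] in
/-- eigenvalues of an isometry have norm one -/
theorem norm_eigenvalue (T : E ≃ₗᵢ[ℂ] E) {μ : ℂ} (h : HasEigenvalue (lin T) μ) : ‖μ‖ = 1 := by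
  obtain ⟨v, hv⟩ := h.exists_hasEigenvector
  have h1 : T v = μ • v := by
    have := mem_eigenspace_iff.1 hv.1
    rwa [lin_apply] at this
  have h2 : ‖T v‖ = ‖v‖ := T.norm_map v
  rw [h1, norm_smul] at h2
  have hv0 : ‖v‖ ≠ 0 := norm_ne_zero_iff.2 hv.2
  exact mul_right_cancel₀ hv0 (by rw [h2, one_mul])

end Cfsg.Agent.Lib.H11.B60
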