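import Mathlib
import Cfsg.Agent.Lib.H11.B60KI
import Cfsg.Agent.Lib.H16.B60Atoms

/-!
# S4484 part (X1): Blichfeldt's 60-degree theorem with the spectral hypothesis (helper11)

`blichfeldt60` = helper16's `H16.B60.blichfeldt60_core` with the key inequality discharged by
`H11.B60.key_inequality_unit` (the spectrum of `R (g y g⁻¹)` is the spectrum of `R y`).
-/

set_option autoImplicit false

namespace Cfsg.Agent.Lib.H11.B60

open Module.End Cfsg.Agent.Lib.H1.Jordan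
open scoped ComplexConjugate InnerProductSpace

variable {E : Type*} [NormedAddCommGroup E] [InnerProductSpace ℂ E]
variable {G : Type*} [Group G]

/-- conjugate elements have the same eigenvalues -/
theorem hasEigenvalue_conj (R : G →* (E ≃ₗᵢ[ℂ] E)) (g y : G) {μ : ℂ}
    (h : HasEigenvalue (lin (R (g * y * g⁻¹))) μ) : HasEigenvalue (lin (R y)) μ := by
  obtain ⟨v, hv⟩ := h.exists_hasEigenvector
  have h1 : R (g * y * g⁻¹) v = μ • v := by
    have := mem_eigenspace_iff.1 hv.1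
    rwa [lin_apply] at this
  apply hasEigenvalue_of_hasEigenvector (x := R g⁻¹ v)
  refine ⟨mem_eigenspace_iff.2 ?_, ?_⟩
  · rw [lin_apply]
    have h2 : R y (R g⁻¹ v) = R g⁻¹ (R (g * y * g⁻¹) v) := by
      rw [← mul_apply', ← mul_apply', ← map_mul, ← map_mul]
      congr 2
      group
    rw [h2, h1, map_smul]
  · intro h0
    apply hv.2
    have h3 : R g (R g⁻¹ v) = v := by
      rw [← mul_apply', ← map_mul, mul_inv_cancel, map_one]
      rfl
    rw [← h3, h0, map_zero]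

variable [Finite G] [FiniteDimensional ℂ E]

/-- **Blichfeldt's 60-degree theorem** (X1): `R` irreducible, `ε` a unit complex number, every eigenvalue
of `R y` within 60 degrees of `ε`, the `ε`-eigenspace of `R y` neither `⊥` nor `⊤`. Then `E` is an
orthogonal direct sum of at least two nonzero subspaces permuted by `G`. -/
theorem blichfeldt60 (R : G →* (E ≃ₗᵢ[ℂ] E)) (y : G) (ε : ℂ) (hε : ‖ε‖ = 1)
    (hirr : ∀ W : Submodule ℂ E, (∀ g, W.map (lin (R g)) ≤ W) → W = ⊥ ∨ W = ⊤)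
    (hFbot : eigenspace (lin (R y)) ε ≠ ⊥) (hFtop : eigenspace (lin (R y)) ε ≠ ⊤)
    (h60 : ∀ μ : ℂ, HasEigenvalue (lin (R y)) μ → 1 / 2 ≤ (conj ε * μ).re) :
    ∃ 𝓦 : Finset (Submodule ℂ E), 2 ≤ 𝓦.card ∧ (∀ W ∈ 𝓦, W ≠ ⊥) ∧
      (∀ W ∈ 𝓦, ∀ W' ∈ 𝓦, W ≠ W' → W ⟂ W') ∧ sSup (𝓦 : Set (Submodule ℂ E)) = ⊤ ∧
      ∀ g, ∀ W ∈ 𝓦, W.map (lin (R g)) ∈ 𝓦 :=
  Cfsg.Agent.Lib.H16.B60.blichfeldt60_core R y ε hirr hFbot hFtop
    (fun g w hw => key_inequality_unit (R (g * y * g⁻¹)) ε hε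
      (fun μ hμ => h60 μ (hasEigenvalue_conj R g y hμ)) w hw)

end Cfsg.Agent.Lib.H11.B60
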