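import Mathlib

/-!
# S4484 pieces (A0) `exists_central_elt` and (A0') `index_split` (helper11)
-/

set_option autoImplicit false

namespace Cfsg.Agent.Lib.H11.BB

/-- (A0) a central element of order `p` of a Sylow `p`-subgroup: its class has size prime to `p`. -/
theorem exists_central_elt {G : Type*} [Group G] [Finite G] {p : ℕ} (hp : p.Prime)
    (hpG : p ∣ Nat.card G) :
    ∃ x : G, orderOf x = p ∧ ¬ p ∣ (Subgroup.centralizer ({x} : Set G)).index := by
  have : Fact p.Prime := ⟨hp⟩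
  obtain ⟨P⟩ : Nonempty (Sylow p G) := inferInstance
  have hPne : (P : Subgroup G) ≠ ⊥ := P.ne_bot_of_dvd_card hpG
  have : Nontrivial (P : Subgroup G) := (Subgroup.nontrivial_iff_ne_bot _).mpr hPne
  have := P.isPGroup'.center_nontrivial
  -- the centre of `P` is a nontrivial `p`-group
  have hZp : IsPGroup p (Subgroup.center (P : Subgroup G)) :=
    P.isPGroup'.to_subgroup (Subgroup.center (P : Subgroup G))
  have hdvd : p ∣ Nat.card (Subgroup.center (P : Subgroup G)) := by
    obtain ⟨k, hk⟩ := IsPGroup.iff_card.mp hZp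
    rw [hk]
    rcases Nat.eq_zero_or_pos k with h0 | h0
    · exfalso
      rw [h0, pow_zero] at hk
      have h1 := (Nat.card_eq_one_iff_unique.mp hk).1
      exact not_subsingleton _ h1
    · exact dvd_pow_self p h0.ne'
  obtain ⟨z', hz'⟩ := exists_prime_orderOf_dvd_card' p hdvd
  refine ⟨((z' : (P : Subgroup G)) : G), ?_, ?_⟩
  · rw [Subgroup.orderOf_coe, Subgroup.orderOf_coe]
    exact hz'
  · have hle : (P : Subgroup G) ≤ Subgroup.centralizer ({((z' : (P : Subgroup G)) : G)} : Set G) := by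
      intro y hy
      rw [Subgroup.mem_centralizer_iff]
      intro w hw
      rw [Set.mem_singleton_iff] at hw
      rw [hw]
      have h1 := (Subgroup.mem_center_iff.mp z'.2) ⟨y, hy⟩
      have h2 := congrArg (fun t : (P : Subgroup G) => (t : G)) h1
      simpa using h2.symm
    intro h
    exact P.not_dvd_index (h.trans (Subgroup.index_dvd_of_le hle))

/-- (A0') arithmetic: a divisor `m` of `p^a q^b g₀` prime to `p` is `q^β e` with `q ∤ e`, `e ∣ g₀`. -/
theorem index_split {p q a b g₀ m : ℕ} (hp : p.Prime) (hq : q.Prime)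
    (hm : m ∣ p ^ a * q ^ b * g₀) (hpm : ¬ p ∣ m) :
    ∃ β e : ℕ, m = q ^ β * e ∧ ¬ q ∣ e ∧ e ∣ g₀ := by
  have hcop : Nat.Coprime m (p ^ a) :=
    Nat.Coprime.pow_right a ((Nat.Prime.coprime_iff_not_dvd hp).mpr hpm).symm
  have hm1 : m ∣ q ^ b * g₀ := by
    rw [mul_assoc] at hm
    exact hcop.dvd_of_dvd_mul_left hm
  rcases Nat.eq_zero_or_pos m with h0 | h0
  · exact absurd (h0 ▸ dvd_zero p) hpm
  obtain ⟨β, e, hqe, hme⟩ := Nat.exists_eq_pow_mul_and_not_dvd h0.ne' q hq.ne_one
  refine ⟨β, e, hme, hqe, ?_⟩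
  have hcop2 : Nat.Coprime e (q ^ b) :=
    Nat.Coprime.pow_right b ((Nat.Prime.coprime_iff_not_dvd hq).mpr hqe).symm
  have he : e ∣ q ^ b * g₀ := (Dvd.intro_left _ hme.symm).trans hm1
  exact hcop2.dvd_of_dvd_mul_left he

end Cfsg.Agent.Lib.H11.BB
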