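import Mathlib
import Cfsg.Agent.Lib.H8.BQ0
import Cfsg.Agent.Lib.H4.BQG5
import Cfsg.Agent.Lib.H6.BQG7

/-!
S4719 Part II piece (CASE B) `card_le_of_nonabelian` in the exact signature of
`tools/blueprints/S4719_Q_sigs.lean` (sub-architect helper8).
-/
set_option autoImplicit false

universe u

namespace Cfsg.Agent.Lib.H11.BQ

open Subgroup Cfsg.Agent.Lib.H8.BQ

theorem card_mul_relIndex' {Γ : Type u} [Group Γ] {P K : Subgroup Γ} (h : P ≤ K) :
    Nat.card P * P.relIndex K = Nat.card K := by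
  have := Subgroup.relIndex_mul_relIndex ⊥ P K bot_le h
  rwa [Subgroup.relIndex_bot_left, Subgroup.relIndex_bot_left] at this

/-- the product formula for `H ⊔ N` when `H` normalizes `N` (pure Mathlib; as `H16.BG.card_sup_mul_card_inf`). -/
theorem card_sup_mul_card_inf' {Γ : Type u} [Group Γ] {H N : Subgroup Γ}
    (h : H ≤ normalizer (N : Set Γ)) :
    Nat.card (H ⊔ N : Subgroup Γ) * Nat.card (H ⊓ N : Subgroup Γ) = Nat.card H * Nat.card N := by
  have := Subgroup.normal_subgroupOf_of_le_normalizer h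
  have := Subgroup.normal_subgroupOf_sup_of_le_normalizer h
  have h0 : N.relIndex (H ⊔ N) = N.relIndex H := by
    unfold Subgroup.relIndex Subgroup.index
    exact (Nat.card_congr (QuotientGroup.quotientInfEquivProdNormalizerQuotient H N h).toEquiv).symm
  have h1 : Nat.card N * N.relIndex (H ⊔ N) = Nat.card (H ⊔ N : Subgroup Γ) :=
    card_mul_relIndex' le_sup_right
  have h2 : Nat.card (H ⊓ N : Subgroup Γ) * (H ⊓ N).relIndex H = Nat.card H :=
    card_mul_relIndex' inf_le_left
  have h3 : (H ⊓ N).relIndex H = N.relIndex H := by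
    rw [inf_comm]; exact Subgroup.inf_relIndex_right N H
  rw [← h1, ← h2, h0, h3]
  ring

/-- if `T ≤ G` is a 2-group of order `2 ^ v₂|G|` normalizing `X ≤ G`, then `T ⊓ X` is a Sylow 2-subgroup of `X`. -/
theorem not_two_dvd_card_div_card_inf {Γ : Type u} [Group Γ] [Finite Γ] (G X T : Subgroup Γ)
    (hXG : X ≤ G) (hTG : T ≤ G) (hTX : T ≤ normalizer (X : Set Γ))
    (hT : Nat.card T = 2 ^ (Nat.card G).factorization 2) :
    ¬ 2 ∣ Nat.card X / Nat.card (T ⊓ X : Subgroup Γ) := by
  have hprod := card_sup_mul_card_inf' hTX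
  have hg0 : Nat.card G ≠ 0 := Nat.card_pos.ne'
  have hB0 : 0 < Nat.card (T ⊓ X : Subgroup Γ) := Nat.card_pos
  have hTA : Nat.card T ∣ Nat.card (T ⊔ X : Subgroup Γ) := Subgroup.card_dvd_of_le le_sup_left
  have hAG : Nat.card (T ⊔ X : Subgroup Γ) ∣ Nat.card G := Subgroup.card_dvd_of_le (sup_le hTG hXG)
  obtain ⟨A', hA'⟩ := hTA
  -- `A'` divides the odd part of `|G|`
  have hsplit := Nat.ordProj_mul_ordCompl_eq_self (Nat.card G) 2
  have hodd : ¬ 2 ∣ Nat.card G / 2 ^ (Nat.card G).factorization 2 := Nat.not_dvd_ordCompl Nat.prime_two hg0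
  have hA'dvd : A' ∣ Nat.card G / 2 ^ (Nat.card G).factorization 2 := by
    rw [hA', hT] at hAG
    have h2 : 2 ^ (Nat.card G).factorization 2 * A' ∣
        2 ^ (Nat.card G).factorization 2 * (Nat.card G / 2 ^ (Nat.card G).factorization 2) := by
      rw [hsplit]; exact hAG
    exact Nat.dvd_of_mul_dvd_mul_left (pow_pos (by norm_num) _) h2
  have hA'odd : ¬ 2 ∣ A' := fun h => hodd (dvd_trans h hA'dvd)
  -- `|X| / |T ⊓ X| = A'`
  have hx : Nat.card X = A' * Nat.card (T ⊓ X : Subgroup Γ) := by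
    rw [hA'] at hprod
    have hT0 : 0 < Nat.card T := Nat.card_pos
    have : Nat.card T * (A' * Nat.card (T ⊓ X : Subgroup Γ)) = Nat.card T * Nat.card X := by
      rw [← hprod]; ring
    exact (Nat.eq_of_mul_eq_mul_left hT0 this).symm
  rw [hx, Nat.mul_div_cancel _ hB0]
  exact hA'odd

/-- CASE B (`X` non-abelian). -/
theorem card_le_of_nonabelian {Γ : Type u} [Group Γ] [Finite Γ] (G V X : Subgroup Γ)
    (a n F C : ℕ) (hIH : QStmt.{u} a n F) (h : QHyp G V (a + 1) n) (hfree : OddFree G V)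
    (hXG : X ≤ G) (hGX : G ≤ normalizer (X : Set Γ)) (hVX : V ≤ normalizer (X : Set Γ))
    (hnab : ¬ X ≤ centralizer (X : Set Γ))
    (hC : Nat.card G ≤ C * Nat.card ↥(G ⊓ centralizer (X : Set Γ))) :
    Nat.card G ≤ C * F := by
  classical
  have : Fact (Nat.Prime 2) := ⟨Nat.prime_two⟩
  set N : Subgroup Γ := G ⊓ centralizer (X : Set Γ) with hN
  have hNG : N ≤ G := inf_le_left
  have hNC : N ≤ centralizer (X : Set Γ) := inf_le_right
  have hg0 : Nat.card G ≠ 0 := Nat.card_pos.ne'
  have hn0 : Nat.card N ≠ 0 := Nat.card_pos.ne'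
  have hdvd : Nat.card N ∣ Nat.card G := Subgroup.card_dvd_of_le hNG
  have hle : (Nat.card N).factorization 2 ≤ (Nat.card G).factorization 2 :=
    (Nat.factorization_le_iff_dvd hn0 hg0).2 hdvd 2
  -- the 2-part of `|N|` is at most `2 ^ a`
  have hval : (Nat.card N).factorization 2 ≤ a := by
    by_contra hcon
    have hk : (Nat.card N).factorization 2 = (Nat.card G).factorization 2 := by
      have := h.val
      omega
    -- a Sylow 2-subgroup of `N`
    obtain T0 : Sylow 2 N := default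
    set T : Subgroup Γ := (T0 : Subgroup N).map N.subtype with hTdef
    have hTN : T ≤ N := by
      rw [hTdef]; exact Subgroup.map_subtype_le _
    have hTcard : Nat.card T = 2 ^ (Nat.card G).factorization 2 := by
      rw [hTdef, Nat.card_congr ((T0 : Subgroup N).equivMapOfInjective N.subtype
        N.subtype_injective).symm.toEquiv, T0.card_eq_multiplicity, hk]
    have hT2 : IsPGroup 2 T := by
      rw [hTdef]; exact T0.isPGroup'.map _
    have hidx := not_two_dvd_card_div_card_inf G X T hXG (hTN.trans hNG)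
      ((hTN.trans hNG).trans hGX) hTcard
    have hXeq := Cfsg.Agent.Lib.H6.BQ.eq_of_central_sylow G V X (T ⊓ X) hfree hXG hGX hVX
      inf_le_right (hT2.to_le inf_le_left) hidx ((inf_le_left.trans hTN).trans hNC)
    apply hnab
    intro x hx
    rw [hXeq] at hx
    exact hNC (hTN hx.1)
  -- `QHyp N V a n`
  have hQ : QHyp N V a n := by
    refine ⟨?_, h.card4, h.exp2, hval, ?_⟩
    · exact Cfsg.Agent.Lib.H4.BQ.le_normalizer_inf_centralizer G X V h.norm hVX
    · intro v hv hv1
      refine le_trans ?_ (h.cent v hv hv1)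
      exact Subgroup.card_le_of_le (inf_le_inf_right _ hNG)
  have hNF : Nat.card N ≤ F := hIH Γ N V hQ
  calc Nat.card G ≤ C * Nat.card N := hC
    _ ≤ C * F := Nat.mul_le_mul_left _ hNF

end Cfsg.Agent.Lib.H11.BQ
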