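import Cfsg.Agent.Lib.H10.BUDefs
/-!
# S1857 piece P2 CENTER (helper11): `Z(O_p(M))` as a subgroup of `G`.
-/
set_option autoImplicit false

namespace Cfsg.Agent.Lib.H11.BU
open Cfsg Cfsg.Agent.Lib.H7 Cfsg.Agent.Lib.H7.PrimPair Cfsg.Agent.Lib.H10.BU

universe u
variable {G : Type u} [Group G]

theorem ZpG_ne_bot [Finite G] (p : ℕ) [Fact p.Prime] {M : Subgroup G} (h : OpG p M ≠ ⊥) :
    ZpG p M ≠ ⊥ := by
  have h1 : pCore p ↥M ≠ ⊥ := by
    intro h0
    apply h
    show (pCore p ↥M).map M.subtype = ⊥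
    rw [h0, Subgroup.map_bot]
  have hnt : Nontrivial ↥(pCore p ↥M) := (Subgroup.nontrivial_iff_ne_bot _).2 h1
  have hcn : Nontrivial ↥(Subgroup.center ↥(pCore p ↥M)) :=
    (Cfsg.Agent.Lib.H1.pCore_isPGroup p ↥M).center_nontrivial
  have h2 : Subgroup.center ↥(pCore p ↥M) ≠ ⊥ := (Subgroup.nontrivial_iff_ne_bot _).1 hcn
  intro h3
  apply h2
  have h4 := (Subgroup.map_eq_bot_iff_of_injective _ (Subgroup.subtype_injective M)).1 h3
  exact (Subgroup.map_eq_bot_iff_of_injective _ (Subgroup.subtype_injective _)).1 h4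

theorem ZpG_le_OpG (p : ℕ) (M : Subgroup G) : ZpG p M ≤ OpG p M :=
  Subgroup.map_mono (Subgroup.map_subtype_le _)

theorem le_normalizer_ZpG (p : ℕ) (M : Subgroup G) :
    M ≤ Subgroup.normalizer ((ZpG p M : Subgroup G) : Set G) := by
  have hn : (pCore p ↥M).Normal := Cfsg.Agent.Lib.H1.pCore_normal _ _
  have hn2 : ((Subgroup.center ↥(pCore p ↥M)).map (pCore p ↥M).subtype).Normal :=
    ConjAct.normal_of_characteristic_of_normal
  exact le_normalizer_map_subtype _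

theorem p2_FitG_le_sup [Finite G] (p : ℕ) [Fact p.Prime] (M : Subgroup G) :
    FitG M ≤ OpG p M ⊔ OpcG p M := by
  show (fittingSubgroup ↥M).map M.subtype ≤ _
  rw [Cfsg.Agent.Lib.H1.fittingSubgroup_eq_iSup_pCore, Subgroup.map_iSup]
  apply iSup_le
  intro q
  by_cases hq : (q : ℕ) = p
  · rw [hq]; exact le_sup_left
  · refine le_trans ?_ le_sup_right
    apply Subgroup.map_mono
    exact le_iSup (fun q : {q : Nat.Primes // (q : ℕ) ≠ p} =>
      pCore ((q : Nat.Primes) : ℕ) ↥M) ⟨q, hq⟩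

theorem ZpG_le_centralizer_FitG [Finite G] (p : ℕ) [Fact p.Prime] (M : Subgroup G) :
    ZpG p M ≤ Subgroup.centralizer (FitG M : Set G) := by
  intro z hz
  have h1 : z ∈ Subgroup.centralizer ((OpG p M : Subgroup G) : Set G) := by
    obtain ⟨z₁, hz₁, rfl⟩ := hz
    obtain ⟨z₂, hz₂, rfl⟩ := hz₁
    rw [Subgroup.mem_centralizer_iff]
    rintro y ⟨y₁, hy₁, rfl⟩
    have := Subgroup.mem_center_iff.1 hz₂ ⟨y₁, hy₁⟩
    have h2 := congrArg (fun t : ↥(pCore p ↥M) => ((t : ↥M) : G)) this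
    simpa using h2
  have h2 : z ∈ Subgroup.centralizer ((OpcG p M : Subgroup G) : Set G) :=
    OpG_le_centralizer_OpcG p M (ZpG_le_OpG p M hz)
  have h3 := mem_centralizer_sup h1 h2
  exact Subgroup.centralizer_le (p2_FitG_le_sup p M) h3

end Cfsg.Agent.Lib.H11.BU
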