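import Cfsg.Agent.Lib.H10.BUDefs
/-!
# S1857 piece P8 STEP5 (helper11): core lemma with `step3` as a hypothesis.
-/
set_option autoImplicit false

namespace Cfsg.Agent.Lib.H11.BU
open Cfsg Cfsg.Agent.Lib.H7 Cfsg.Agent.Lib.H7.PrimPair Cfsg.Agent.Lib.H10.BU

universe u
variable {G : Type u} [Group G]

theorem p8_FsG_eq_sup (M : Subgroup G) : FsG M = LayG M ⊔ FitG M := by
  show (generalizedFittingSubgroup ↥M).map M.subtype = _
  unfold generalizedFittingSubgroup
  rw [Subgroup.map_sup]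

/-- P8 with the conclusion of `step3` (for `r = q`) as a hypothesis. -/
theorem OpcG_eq_bot_of_core [Finite G] {M N : Subgroup G} (q : ℕ) [Fact q.Prime]
    (hstep : OpG q N ⊓ M ≤ Subgroup.centralizer ((LayG M ⊔ OpcG q M : Subgroup G) : Set G))
    (hlay : LayG N = ⊥) (hF : FitG N = OpG q N) (hFM : OpG q N ≤ M) (hS : OpcG q M ≤ N) :
    OpcG q M = ⊥ := by
  -- O_q(N) centralizes S
  have h1 : OpG q N ≤ Subgroup.centralizer ((OpcG q M : Subgroup G) : Set G) := by
    intro x hx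
    have hx' : x ∈ OpG q N ⊓ M := Subgroup.mem_inf.2 ⟨hx, hFM hx⟩
    have h2 := hstep hx'
    rw [Subgroup.mem_centralizer_iff] at h2 ⊢
    intro y hy
    exact h2 y ((le_sup_right : OpcG q M ≤ LayG M ⊔ OpcG q M) hy)
  -- F*(N) = O_q(N)
  have hFs : FsG N = OpG q N := by
    rw [p8_FsG_eq_sup, hlay, bot_sup_eq, hF]
  -- S ≤ O_q(N)
  have h3 : OpcG q M ≤ OpG q N := by
    intro y hy
    have hyC : y ∈ Subgroup.centralizer ((FsG N : Subgroup G) : Set G) := by
      rw [hFs, Subgroup.mem_centralizer_iff]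
      intro x hx
      have := Subgroup.mem_centralizer_iff.1 (h1 hx) y hy
      exact this.symm
    have := inf_centralizer_FsG_le N (Subgroup.mem_inf.2 ⟨hS hy, hyC⟩)
    rwa [hFs] at this
  -- S is both a q-group and a q'-group
  have h4 : Nat.card (OpcG q M) ∣ Nat.card (OpG q N) := Subgroup.card_dvd_of_le h3
  obtain ⟨k, hk⟩ := IsPGroup.iff_card.1 (isPGroup_OpG q N)
  rw [hk] at h4
  have h5 : (Nat.card (OpcG q M)).Coprime (q ^ k) :=
    Nat.Coprime.pow_right k (card_OpcG_coprime q M)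
  have h6 : Nat.card (OpcG q M) = 1 := Nat.Coprime.eq_one_of_dvd h5 h4
  exact Subgroup.card_eq_one.1 h6

end Cfsg.Agent.Lib.H11.BU
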