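import Mathlib

/-!
# Bit-sliced permutation networks (helper11)

A fast kernel-evaluable way to verify relations between permutations of `2 ^ K` points:
a permutation is *defined* as a product of "delta swap" involutions (`swPerm m d` swaps `p` and
`p + d` for every `p` in the bit mask `m`), and a word in such involutions is evaluated on bit
planes (one `Nat` per bit of the point number) by a handful of native big-number operations per
stage.  `prod_eq_of_check` turns the kernel computation into an equation in `Equiv.Perm ℕ`.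
-/

set_option autoImplicit false

namespace Cfsg.Agent.Lib.H11.BitNet

/-- evaluate `n` before continuing with `k n` -/
def force {β : Type} (n : ℕ) (k : ℕ → β) : β :=
  Nat.rec (motive := fun _ => β) (k 0) (fun m _ => k (Nat.succ m)) n

theorem force_eq {β : Type} (n : ℕ) (k : ℕ → β) : force n k = k n := by
  cases n <;> rfl

/-- the delta swap of the bit vector `v`: exchange the bits `p` and `p + d` for all `p` in `m` -/
def dswap (m d v : ℕ) : ℕ :=
  force (Nat.land (Nat.xor (Nat.shiftRight v d) v) m) fun t =>
    Nat.xor (Nat.xor v t) (Nat.shiftLeft t d)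

theorem dswap_eq (m d v : ℕ) :
    dswap m d v = (v ^^^ (((v >>> d) ^^^ v) &&& m)) ^^^ ((((v >>> d) ^^^ v) &&& m) <<< d) := by
  unfold dswap
  rw [force_eq]
  rfl

/-- the point map of a delta swap -/
def sw (m d p : ℕ) : ℕ :=
  if m.testBit p then p + d else if d ≤ p ∧ m.testBit (p - d) then p - d else p

/-- validity of a stage: no point is in two pairs -/
def Valid (m d : ℕ) : Prop := m &&& (m >>> d) = 0

instance (m d : ℕ) : Decidable (Valid m d) := by unfold Valid; infer_instance

theorem valid_testBit {m d : ℕ} (h : Valid m d) (p : ℕ) (hp : m.testBit p = true) :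
    m.testBit (p + d) = false := by
  have h1 : (m &&& (m >>> d)).testBit p = false := by rw [h]; exact Nat.zero_testBit p
  rw [Nat.testBit_and, Nat.testBit_shiftRight, hp, Bool.true_and, Nat.add_comm] at h1
  exact h1

theorem sw_sw {m d : ℕ} (h : Valid m d) (p : ℕ) : sw m d (sw m d p) = p := by
  unfold sw
  by_cases h1 : m.testBit p = true
  · rw [if_pos h1]
    have h2 := valid_testBit h p h1
    rw [if_neg (by rw [h2]; simp)]
    have h3 : d ≤ p + d ∧ m.testBit (p + d - d) = true := ⟨Nat.le_add_left _ _, by
      rw [Nat.add_sub_cancel]; exact h1⟩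
    rw [if_pos h3, Nat.add_sub_cancel]
  · rw [if_neg h1]
    by_cases h2 : d ≤ p ∧ m.testBit (p - d) = true
    · rw [if_pos h2, if_pos h2.2, Nat.sub_add_cancel h2.1]
    · rw [if_neg h2, if_neg h1, if_neg h2]

theorem dswap_testBit {m d : ℕ} (h : Valid m d) (v p : ℕ) :
    (dswap m d v).testBit p = v.testBit (sw m d p) := by
  rw [dswap_eq]
  simp only [Nat.testBit_xor, Nat.testBit_and, Nat.testBit_shiftRight, Nat.testBit_shiftLeft]
  unfold sw
  by_cases h1 : m.testBit p = true
  · rw [if_pos h1, h1]
    have h3 : (decide (p ≥ d) && ((v.testBit (d + (p - d)) ^^ v.testBit (p - d)) && m.testBit (p - d))) = false := by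
      by_cases hd : d ≤ p
      · have : m.testBit (p - d) = false := by
          by_contra hc
          have hc' : m.testBit (p - d) = true := by simpa using hc
          have := valid_testBit h (p - d) hc'
          rw [Nat.sub_add_cancel hd, h1] at this
          exact Bool.noConfusion this
        rw [this]; simp
      · simp [hd]
    rw [h3, Nat.add_comm d p]
    cases v.testBit p <;> cases v.testBit (p + d) <;> rfl
  · have h1' : m.testBit p = false := by simpa using h1
    rw [if_neg h1, h1']
    by_cases h2 : d ≤ p ∧ m.testBit (p - d) = true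
    · rw [if_pos h2]
      have hd : decide (p ≥ d) = true := by simpa using h2.1
      rw [hd, h2.2, Nat.add_sub_cancel' h2.1]
      cases v.testBit p <;> cases v.testBit (p - d) <;> cases v.testBit (d + p) <;> rfl
    · rw [if_neg h2]
      have h3 : (decide (p ≥ d) && ((v.testBit (d + (p - d)) ^^ v.testBit (p - d)) && m.testBit (p - d))) = false := by
        by_cases hd : d ≤ p
        · have : m.testBit (p - d) = false := by
            by_contra hc
            exact h2 ⟨hd, by simpa using hc⟩
          rw [this]; simp
        · simp [hd]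
      rw [h3]
      simp

/-- the involution of a stage (the identity if the stage is not valid) -/
noncomputable def swPerm (s : ℕ × ℕ) : Equiv.Perm ℕ := by
  classical
  exact if h : Valid s.1 s.2 then
    ⟨sw s.1 s.2, sw s.1 s.2, sw_sw h, sw_sw h⟩ else 1

theorem swPerm_apply {s : ℕ × ℕ} (h : Valid s.1 s.2) (p : ℕ) : swPerm s p = sw s.1 s.2 p := by
  unfold swPerm
  rw [dif_pos h]
  rfl

theorem swPerm_mul_self (s : ℕ × ℕ) : swPerm s * swPerm s = 1 := by
  classical
  by_cases h : Valid s.1 s.2
  · ext p
    rw [Equiv.Perm.mul_apply, swPerm_apply h, swPerm_apply h, sw_sw h]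
    rfl
  · unfold swPerm
    rw [dif_neg h, mul_one]

theorem swPerm_inv (s : ℕ × ℕ) : (swPerm s)⁻¹ = swPerm s :=
  inv_eq_of_mul_eq_one_left (swPerm_mul_self s)

/-- the permutation of a list of stages -/
noncomputable def netPerm (L : List (ℕ × ℕ)) : Equiv.Perm ℕ := (L.map swPerm).prod

theorem netPerm_nil : netPerm [] = 1 := rfl

theorem netPerm_cons (s : ℕ × ℕ) (L : List (ℕ × ℕ)) : netPerm (s :: L) = swPerm s * netPerm L := by
  unfold netPerm
  rw [List.map_cons, List.prod_cons]

theorem netPerm_append (L L' : List (ℕ × ℕ)) : netPerm (L ++ L') = netPerm L * netPerm L' := by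
  unfold netPerm
  rw [List.map_append, List.prod_append]

theorem netPerm_reverse (L : List (ℕ × ℕ)) : netPerm L.reverse = (netPerm L)⁻¹ := by
  induction L with
  | nil => simp [netPerm]
  | cons s L ih =>
    have h1 : netPerm [s] = swPerm s := by rw [netPerm_cons, netPerm_nil, mul_one]
    rw [List.reverse_cons, netPerm_append, ih, h1, netPerm_cons s L, mul_inv_rev, swPerm_inv]

/-- evaluation of a list of stages on a bit plane -/
noncomputable def evalPlane (L : List (ℕ × ℕ)) : ℕ → ℕ :=
  List.rec (motive := fun _ => ℕ → ℕ) (fun v => v)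
    (fun s _ ih v => force (dswap s.1 s.2 v) ih) L

theorem evalPlane_nil (v : ℕ) : evalPlane [] v = v := rfl

theorem evalPlane_cons (s : ℕ × ℕ) (L : List (ℕ × ℕ)) (v : ℕ) :
    evalPlane (s :: L) v = evalPlane L (dswap s.1 s.2 v) := by
  show force (dswap s.1 s.2 v) (evalPlane L) = _
  rw [force_eq]

theorem evalPlane_testBit (L : List (ℕ × ℕ)) (hL : ∀ s ∈ L, Valid s.1 s.2) (v p : ℕ) :
    (evalPlane L v).testBit p = v.testBit (netPerm L p) := by
  induction L generalizing v p with
  | nil => rfl
  | cons s L ih =>
    have hs : Valid s.1 s.2 := hL s (List.mem_cons_self ..)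
    rw [evalPlane_cons, ih (fun t ht => hL t (List.mem_cons_of_mem _ ht)), dswap_testBit hs,
      netPerm_cons, Equiv.Perm.mul_apply, swPerm_apply hs]

/-! ## Stages bounded by `S` points -/

/-- a stage that is valid and only moves points `< S` -/
def Good (S : ℕ) (s : ℕ × ℕ) : Prop := Valid s.1 s.2 ∧ s.2 ≤ S ∧ s.1 < 2 ^ (S - s.2)

instance (S : ℕ) (s : ℕ × ℕ) : Decidable (Good S s) := by unfold Good; infer_instance

theorem testBit_false_of_good {S : ℕ} {s : ℕ × ℕ} (h : Good S s) (q : ℕ) (hq : S - s.2 ≤ q) :
    s.1.testBit q = false := by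
  apply Nat.testBit_lt_two_pow
  exact lt_of_lt_of_le h.2.2 (Nat.pow_le_pow_right (by norm_num) hq)

theorem sw_of_ge {S : ℕ} {s : ℕ × ℕ} (h : Good S s) (p : ℕ) (hp : S ≤ p) : sw s.1 s.2 p = p := by
  unfold sw
  have h1 : s.1.testBit p = false := testBit_false_of_good h p (by omega)
  rw [if_neg (by rw [h1]; simp)]
  by_cases h2 : s.2 ≤ p ∧ s.1.testBit (p - s.2) = true
  · exfalso
    have := testBit_false_of_good h (p - s.2) (by omega)
    rw [h2.2] at this
    exact Bool.noConfusion this
  · rw [if_neg h2]

theorem sw_lt {S : ℕ} {s : ℕ × ℕ} (h : Good S s) (p : ℕ) (hp : p < S) : sw s.1 s.2 p < S := by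
  unfold sw
  by_cases h1 : s.1.testBit p = true
  · rw [if_pos h1]
    by_contra hc
    have := testBit_false_of_good h p (by omega)
    rw [h1] at this
    exact Bool.noConfusion this
  · rw [if_neg h1]
    by_cases h2 : s.2 ≤ p ∧ s.1.testBit (p - s.2) = true
    · rw [if_pos h2]; omega
    · rw [if_neg h2]; exact hp

theorem netPerm_of_ge {S : ℕ} (L : List (ℕ × ℕ)) (hL : ∀ s ∈ L, Good S s) (p : ℕ) (hp : S ≤ p) :
    netPerm L p = p := by
  induction L with
  | nil => rfl
  | cons s L ih =>
    have hs := hL s (List.mem_cons_self ..)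
    rw [netPerm_cons, Equiv.Perm.mul_apply, ih (fun t ht => hL t (List.mem_cons_of_mem _ ht)),
      swPerm_apply hs.1, sw_of_ge hs p hp]

theorem netPerm_lt {S : ℕ} (L : List (ℕ × ℕ)) (hL : ∀ s ∈ L, Good S s) (p : ℕ) (hp : p < S) :
    netPerm L p < S := by
  induction L with
  | nil => exact hp
  | cons s L ih =>
    have hs := hL s (List.mem_cons_self ..)
    rw [netPerm_cons, Equiv.Perm.mul_apply, swPerm_apply hs.1]
    exact sw_lt hs _ (ih (fun t ht => hL t (List.mem_cons_of_mem _ ht)))

/-! ## The identity bit planes -/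

/-- the bit plane number `b` of the identity map on `2 ^ k` points: bit `p` is bit `b` of `p` -/
def idPlane (b : ℕ) : ℕ → ℕ
  | 0 => 0
  | k + 1 =>
    if k = b then (2 ^ (2 ^ k) - 1) <<< (2 ^ k)
    else if b < k then idPlane b k ||| (idPlane b k <<< (2 ^ k)) else 0

theorem idPlane_testBit (b k p : ℕ) :
    (idPlane b k).testBit p = (decide (p < 2 ^ k) && p.testBit b) := by
  induction k generalizing p with
  | zero =>
    show (0 : ℕ).testBit p = _
    rw [Nat.zero_testBit]
    by_cases hp : p < 2 ^ 0
    · have : p = 0 := by simpa using hp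
      subst this
      simp
    · have hp' : p ≠ 0 := by
        intro h0; apply hp; rw [h0]; norm_num
      simp [hp']
  | succ k ih =>
    have hpow : 2 ^ (k + 1) = 2 ^ k + 2 ^ k := by rw [pow_succ]; ring
    unfold idPlane
    by_cases h1 : k = b
    · rw [if_pos h1]
      subst h1
      rw [Nat.testBit_shiftLeft, Nat.testBit_two_pow_sub_one]
      rcases lt_trichotomy p (2 ^ k) with hlt | heq | hgt
      · have h2 : p.testBit k = false := Nat.testBit_lt_two_pow hlt
        have h3 : ¬ p ≥ 2 ^ k := by omega
        simp [h2, h3]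
      · subst heq
        have h2 : (2 ^ k).testBit k = true := by simp [Nat.testBit_two_pow_self]
        have h4 : (0 : ℕ) < 2 ^ k := Nat.two_pow_pos k
        simp [h2, hpow, h4]
      · by_cases hlt2 : p < 2 ^ (k + 1)
        · have hq : p = 2 ^ k + (p - 2 ^ k) := by omega
          have h2 : p.testBit k = true := by
            rw [hq, Nat.testBit_two_pow_add_eq]
            have : (p - 2 ^ k).testBit k = false := Nat.testBit_lt_two_pow (by omega)
            rw [this]; rfl
          have h3 : p ≥ 2 ^ k := by omega
          have h4 : p - 2 ^ k < 2 ^ k := by omega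
          simp [h2, h3, h4, hlt2]
        · have h4 : ¬ p - 2 ^ k < 2 ^ k := by omega
          simp [h4, hlt2]
    · rw [if_neg h1]
      by_cases h2 : b < k
      · rw [if_pos h2, Nat.testBit_or, Nat.testBit_shiftLeft, ih, ih]
        rcases lt_or_ge p (2 ^ k) with hlt | hge
        · have h3 : ¬ p ≥ 2 ^ k := by omega
          have h4 : p < 2 ^ (k + 1) := by omega
          simp [hlt, h3, h4]
        · by_cases hlt2 : p < 2 ^ (k + 1)
          · have hq : p = 2 ^ k + (p - 2 ^ k) := by omega
            have h5 : (p - 2 ^ k).testBit b = p.testBit b := by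
              conv_rhs => rw [hq]
              exact (Nat.testBit_two_pow_add_gt h2 _).symm
            have h3 : ¬ p < 2 ^ k := by omega
            have h4 : p - 2 ^ k < 2 ^ k := by omega
            simp [h3, hge, h4, h5, hlt2]
          · have h3 : ¬ p < 2 ^ k := by omega
            have h4 : ¬ p - 2 ^ k < 2 ^ k := by omega
            simp [h3, h4, hlt2]
      · rw [if_neg h2, Nat.zero_testBit]
        by_cases hlt2 : p < 2 ^ (k + 1)
        · have hb : k + 1 ≤ b := by omega
          have : p.testBit b = false :=
            Nat.testBit_lt_two_pow (lt_of_lt_of_le hlt2 (Nat.pow_le_pow_right (by norm_num) hb))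
          simp [this]
        · simp [hlt2]

/-- **Soundness.** Two lists of good stages on `2 ^ K` points with the same values on the `K`
identity bit planes define the same permutation. -/
theorem netPerm_eq_of_planes (K : ℕ) (A B : List (ℕ × ℕ)) (hA : ∀ s ∈ A, Good (2 ^ K) s)
    (hB : ∀ s ∈ B, Good (2 ^ K) s)
    (h : ∀ b < K, evalPlane A (idPlane b K) = evalPlane B (idPlane b K)) :
    netPerm A = netPerm B := by
  apply Equiv.ext
  intro p
  by_cases hp : p < 2 ^ K
  · have ha := netPerm_lt A hA p hp
    have hb := netPerm_lt B hB p hp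
    apply Nat.eq_of_testBit_eq
    intro b
    by_cases hbK : b < K
    · have h1 := congrArg (fun v => Nat.testBit v p) (h b hbK)
      rw [evalPlane_testBit A (fun s hs => (hA s hs).1), evalPlane_testBit B (fun s hs => (hB s hs).1),
        idPlane_testBit, idPlane_testBit] at h1
      simpa [ha, hb] using h1
    · have hKb : K ≤ b := by omega
      have hle : 2 ^ K ≤ 2 ^ b := Nat.pow_le_pow_right (by norm_num) hKb
      rw [Nat.testBit_lt_two_pow (lt_of_lt_of_le ha hle),
        Nat.testBit_lt_two_pow (lt_of_lt_of_le hb hle)]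
  · rw [netPerm_of_ge A hA p (by omega), netPerm_of_ge B hB p (by omega)]

/-- the identity bit planes -/
def planes (K : ℕ) : List ℕ := (List.range K).map fun b => idPlane b K

/-- the Boolean check: both lists of stages have the same values on the identity planes -/
noncomputable def chkEq (K : ℕ) (A B : List (ℕ × ℕ)) : Bool :=
  (planes K).all fun v => force v fun v' => Nat.beq (evalPlane A v') (evalPlane B v')

theorem netPerm_eq_of_chk (K : ℕ) (A B : List (ℕ × ℕ)) (hA : ∀ s ∈ A, Good (2 ^ K) s)
    (hB : ∀ s ∈ B, Good (2 ^ K) s) (h : chkEq K A B = true) : netPerm A = netPerm B := by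
  apply netPerm_eq_of_planes K A B hA hB
  intro b hb
  unfold chkEq at h
  rw [List.all_eq_true] at h
  have h1 := h (idPlane b K) (by
    unfold planes
    exact List.mem_map.mpr ⟨b, List.mem_range.mpr hb, rfl⟩)
  rw [force_eq] at h1
  exact Nat.eq_of_beq_eq_true h1

/-- if the check fails the permutations differ -/
theorem netPerm_ne_of_chk (K : ℕ) (A B : List (ℕ × ℕ)) (hA : ∀ s ∈ A, Valid s.1 s.2)
    (hB : ∀ s ∈ B, Valid s.1 s.2) (h : chkEq K A B = false) : netPerm A ≠ netPerm B := by
  intro heq
  have : chkEq K A B = true := by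
    unfold chkEq
    rw [List.all_eq_true]
    intro v _
    rw [force_eq]
    have : evalPlane A v = evalPlane B v := by
      apply Nat.eq_of_testBit_eq
      intro p
      rw [evalPlane_testBit A hA, evalPlane_testBit B hB, heq]
    rw [this]
    exact Nat.beq_refl _
  rw [this] at h
  exact Bool.noConfusion h

end Cfsg.Agent.Lib.H11.BitNet
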