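import Mathlib
import Cfsg.Agent.Lib.H12.SL2Syl2

set_option autoImplicit false
set_option linter.dupNamespace false

/-!
# S3211 piece A1: no element of `SL₂(q)` has order `|Q|`, `Q` a Sylow 2-subgroup
(helper11 for helper28)
-/

namespace Cfsg.Agent.Lib.H11.CSL2

open Cfsg.Agent.Lib.H12

variable {F : Type*} [Field F] [Fintype F]

theorem sl2_npow (hodd : Odd (Fintype.card F)) (Q : Sylow 2 (Matrix.SpecialLinearGroup (Fin 2) F))
    (d : Matrix.SpecialLinearGroup (Fin 2) F) :
    d ^ (Nat.card (Q : Subgroup (Matrix.SpecialLinearGroup (Fin 2) F)) / 4) *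
      d ^ (Nat.card (Q : Subgroup (Matrix.SpecialLinearGroup (Fin 2) F)) / 4) ≠ -1 := by
  intro hd
  have h2 : (2 : F) ≠ 0 := two_ne_zero_of_odd hodd
  have h8 := eight_dvd_card_sylow hodd Q
  have hNk : Nat.card (Q : Subgroup (Matrix.SpecialLinearGroup (Fin 2) F)) =
      2 ^ (Nat.card (Matrix.SpecialLinearGroup (Fin 2) F)).factorization 2 := Q.card_eq_multiplicity
  generalize hk : (Nat.card (Matrix.SpecialLinearGroup (Fin 2) F)).factorization 2 = k at hNk
  generalize hN : Nat.card (Q : Subgroup (Matrix.SpecialLinearGroup (Fin 2) F)) = N at *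
  obtain ⟨m, hm⟩ := h8
  have hM : N / 4 = 2 * m := by omega
  have hk1 : 1 ≤ k := by
    rcases Nat.eq_zero_or_pos k with h | h
    · subst h
      omega
    · exact h
  have hpow : 2 ^ k = 2 * 2 ^ (k - 1) := by
    rw [← pow_succ']
    congr 1
    omega
  have hhalf : N / 4 + N / 4 = 2 ^ (k - 1) := by omega
  have hdN : d ^ N = 1 := by
    have e : N = N / 4 + N / 4 + (N / 4 + N / 4) := by omega
    rw [e, pow_add, pow_add, hd]
    simp
  have hord : orderOf d = N := by
    have hdvd : orderOf d ∣ 2 ^ k := by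
      rw [← hNk]
      exact orderOf_dvd_of_pow_eq_one hdN
    obtain ⟨j, hj, hoj⟩ := (Nat.dvd_prime_pow Nat.prime_two).1 hdvd
    by_contra hne
    have hjlt : j ≤ k - 1 := by
      have : j ≠ k := by
        rintro rfl
        exact hne (hoj.trans hNk.symm)
      omega
    have h3 : orderOf d ∣ N / 4 + N / 4 := by
      rw [hoj, hhalf]
      exact pow_dvd_pow 2 hjlt
    have h4 := orderOf_dvd_iff_pow_eq_one.1 h3
    rw [pow_add, hd] at h4
    exact sl2_neg_one_ne_one h2 h4
  have hcard : Nat.card (Subgroup.zpowers d) =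
      2 ^ (Nat.card (Matrix.SpecialLinearGroup (Fin 2) F)).factorization 2 := by
    rw [Nat.card_zpowers, hord, hk, hNk]
  obtain ⟨x, s₀, hD⟩ := exists_syl2Data hodd (Sylow.ofCard (Subgroup.zpowers d) hcard)
  have hxS := hD.xS
  have hsS := hD.sS
  rw [Sylow.coe_ofCard] at hxS hsS
  obtain ⟨a, ha⟩ := Subgroup.mem_zpowers_iff.1 hxS
  obtain ⟨b, hb⟩ := Subgroup.mem_zpowers_iff.1 hsS
  apply hD.x_ne_inv h2
  rw [← hD.sx, ← ha, ← hb, ← zpow_add, ← zpow_neg, ← zpow_add]
  congr 1
  ring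

end Cfsg.Agent.Lib.H11.CSL2
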