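import Mathlib
import Cfsg.Agent.Lib.H12.SL2Syl2

set_option autoImplicit false
set_option linter.dupNamespace false

/-!
# S3211 piece A2: a cyclic subgroup of order `|Q|/2` in the Sylow 2-subgroup of `SL₂(q)`
(helper11 for helper28)
-/

namespace Cfsg.Agent.Lib.H11.CSL2

open Cfsg.Agent.Lib.H12

variable {F : Type*} [Field F] [Fintype F]

theorem sl2_ex (hodd : Odd (Fintype.card F)) (Q : Sylow 2 (Matrix.SpecialLinearGroup (Fin 2) F)) :
    Even (Nat.card (Q : Subgroup (Matrix.SpecialLinearGroup (Fin 2) F)) / 4) ∧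
    ∃ x c y : Matrix.SpecialLinearGroup (Fin 2) F, x * x = -1 ∧ c * x = x * c ∧
      c ^ (Nat.card (Q : Subgroup (Matrix.SpecialLinearGroup (Fin 2) F)) / 4) = -1 ∧
      y * x * y⁻¹ = x⁻¹ := by
  have h2 : (2 : F) ≠ 0 := two_ne_zero_of_odd hodd
  obtain ⟨x, s₀, hD⟩ := exists_syl2Data hodd Q
  have h8 := eight_dvd_card_sylow hodd Q
  have hcardT := hD.card h2
  have hcyc : IsCyclic (Subgroup.centralizer ({x} : Set (Matrix.SpecialLinearGroup (Fin 2) F))) :=
    (regular_centralizer hodd x (hD.ht h2)).1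
  set T : Subgroup (Matrix.SpecialLinearGroup (Fin 2) F) :=
    (Q : Subgroup (Matrix.SpecialLinearGroup (Fin 2) F)) ⊓
      Subgroup.centralizer ({x} : Set (Matrix.SpecialLinearGroup (Fin 2) F)) with hT
  have hTle : T ≤ Subgroup.centralizer ({x} : Set (Matrix.SpecialLinearGroup (Fin 2) F)) :=
    inf_le_right
  have hTcyc : IsCyclic T :=
    isCyclic_of_injective (Subgroup.inclusion hTle) (Subgroup.inclusion_injective hTle)
  obtain ⟨c, hc⟩ := hTcyc.exists_generator
  have hordc : orderOf c = Nat.card T := orderOf_eq_card_of_forall_mem_zpowers hc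
  have hordc' : orderOf (c : Matrix.SpecialLinearGroup (Fin 2) F) = Nat.card T := by
    rw [← hordc, Subgroup.orderOf_coe]
  generalize hN : Nat.card (Q : Subgroup (Matrix.SpecialLinearGroup (Fin 2) F)) = N at *
  generalize hNT : Nat.card T = NT at *
  obtain ⟨m, hm⟩ := h8
  have hM : N / 4 = 2 * m := by omega
  have hmpos : 0 < m := by
    have : 0 < N := by
      rw [← hN]
      exact Nat.card_pos
    omega
  refine ⟨⟨m, by omega⟩, x, (c : Matrix.SpecialLinearGroup (Fin 2) F), s₀, hD.xx, ?_, ?_, hD.sx⟩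
  · exact Subgroup.mem_centralizer_singleton_iff.1 (hTle c.2)
  · have h1 : (c : Matrix.SpecialLinearGroup (Fin 2) F) ^ (N / 4) *
        (c : Matrix.SpecialLinearGroup (Fin 2) F) ^ (N / 4) = 1 := by
      rw [← pow_add]
      apply orderOf_dvd_iff_pow_eq_one.1
      rw [hordc']
      exact ⟨1, by omega⟩
    have h3 : (c : Matrix.SpecialLinearGroup (Fin 2) F) ^ (N / 4) ≠ 1 := by
      apply pow_ne_one_of_lt_orderOf
      · omega
      · rw [hordc']
        omega
    rcases (sl2_mul_self_eq_one_iff h2 _).1 h1 with h | h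
    · exact absurd h h3
    · exact h

end Cfsg.Agent.Lib.H11.CSL2
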