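import Mathlib
import Cfsg.Prelude.Def_BrauerPairs
import Cfsg.Prelude.Def_BlockLocal
import Cfsg.Prelude.Def_BlockRank
import Cfsg.Agent.Lib.H23.CYE23
import Cfsg.Agent.Lib.H22.SubsecBasic
import Cfsg.Agent.Lib.L0.BrauerDefect
import Cfsg.Agent.Lib.L0.BrauerAbelian
import Cfsg.Agent.Lib.L0.BrauerAutomizer
import Cfsg.Agent.Lib.L0.BrauerStab

/-!
S4645 piece (E3): the upper bound `k(f) ≤ |D|` for a block `f` with cyclic defect group `D` all of whose
characters have height zero (glue around helper23's core `H23.CY.card_le_pow_of_major_central`).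
(Exact signature of `tools/blueprints/S4645_sigs.lean`; architect helper22.)
-/
set_option autoImplicit false

namespace Cfsg.Agent.Lib.H11.CY
open Cfsg Cfsg.Agent.Lib.L0 Cfsg.Agent.Lib.L0.BrauerAbelian Cfsg.Agent.Lib.L0.BrauerAutomizer
  Cfsg.Agent.Lib.L0.BrauerStab Cfsg.Agent.Lib.L0.BrauerDefect Cfsg.Agent.Lib.H22.Subsec

section trivialInertial
variable {K : Type*} [Group K] [Fintype K] {p : ℕ} {M : Ideal Cfsg.AlgInt}

omit [Fintype K] in
/-- Transport of a defect group along an equality of subgroups. -/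
theorem isDefectGroup_castB {H H' : Subgroup K} (h : H = H') (b : Set (IrrCharacter H))
    (X : Subgroup K) :
    IsDefectGroup p M (castB h b) (X.subgroupOf H') ↔ IsDefectGroup p M b (X.subgroupOf H) := by
  subst h
  rfl

/-- (E3) UPPER BOUND `k(f) ≤ |D|` for CYCLIC `D`. -/
theorem card_le_of_cyclic [Fact p.Prime] (hM : Cfsg.IsPModular p M) {f : Set (Cfsg.IrrCharacter K)}
    {D : Subgroup K} {e : Set (Cfsg.IrrCharacter (Subgroup.centralizer (D : Set K)))}
    (hmax : Cfsg.IsMaximalBrauerPair p M f D e) (hcyc : IsCyclic D)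
    (hh : ∀ χ ∈ f, Cfsg.blockHeight p f (χ : K → ℂ) = 0) :
    Nat.card f ≤ Nat.card D := by
  classical
  have hPr := Cfsg.Agent.Lib.H23.isPrime_of_isPModular hM
  have hf : IsPBlock M f := hmax.1.2.1
  have hDp : IsPGroup p D := hmax.1.1.1
  have he : IsPBlock M e := hmax.1.1.2
  -- `D` is a defect group of `f`
  have hfD : IsDefectGroup p M f D := isDefectGroup_of_maximal hM hmax
  obtain ⟨χ₀, hχ₀⟩ := hf
  have hDcard : Nat.card D = p ^ blockDefect p f := by
    have := Cfsg.Agent.Lib.H23.card_defectGroup hM χ₀ D (hχ₀ ▸ hfD)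
    rw [← hχ₀] at this
    exact this
  -- a generator
  obtain ⟨y0, hy0⟩ := hcyc.exists_generator
  set y : K := (y0 : K) with hy
  have hzp : Subgroup.zpowers y = D := by
    apply le_antisymm
    · exact (Subgroup.zpowers_le).mpr y0.2
    · intro d hd
      obtain ⟨i, hi⟩ := Subgroup.mem_zpowers_iff.mp (hy0 ⟨d, hd⟩)
      refine Subgroup.mem_zpowers_iff.mpr ⟨i, ?_⟩
      have := congrArg Subtype.val hi
      simpa using this
  have hyord : ∃ k : ℕ, orderOf y = p ^ k := by
    obtain ⟨k, hk⟩ := (IsPGroup.iff_orderOf).mp hDp y0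
    exact ⟨k, by rw [hy, Subgroup.orderOf_coe, hk]⟩
  have hCeq : Subgroup.centralizer (D : Set K) = Subgroup.centralizer ({y} : Set K) := by
    rw [← hzp]; exact centralizer_zpowers' y
  -- abelian
  have hDC : D ≤ Subgroup.centralizer (D : Set K) := by
    intro a ha
    rw [Subgroup.mem_centralizer_iff]
    intro c hc
    have hcomm : ∀ u v : D, u * v = v * u := fun u v => by
      have := hcyc
      exact (IsCyclic.commGroup (α := D)).mul_comm u v
    have := congrArg Subtype.val (hcomm ⟨c, hc⟩ ⟨a, ha⟩)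
    simpa using this
  -- the transported block
  set b : Set (IrrCharacter (Subgroup.centralizer ({y} : Set K))) := castB hCeq e with hb
  have hind0 : IsInducedBlock M (Subgroup.centralizer (D : Set K)) e f :=
    isInducedBlock_of_pair hM hmax.1
  have hind : IsInducedBlock M (Subgroup.centralizer ({y} : Set K)) b f :=
    (isInducedBlock_castB hCeq e f).mpr hind0
  -- `e` has defect group `D`
  have hT := fun z : K => mem_stabSub_iff (M := M) D he z
  obtain ⟨hdef, _⟩ := fong_of_localMax hM hmax.1.1 he (Relation.ReflTransGen.refl)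
    (localMax_of_maximal hM hmax _) (stabSub D e) hT
  have hinf : D ⊓ Subgroup.centralizer (D : Set K) = D := inf_eq_left.mpr hDC
  rw [hinf] at hdef
  have hdefb : IsDefectGroup p M b (D.subgroupOf (Subgroup.centralizer ({y} : Set K))) :=
    (isDefectGroup_castB hCeq e D).mpr hdef
  -- defects agree
  obtain ⟨θ₀, hθ₀⟩ := hind.1
  have hD'card : Nat.card (D.subgroupOf (Subgroup.centralizer ({y} : Set K))) = p ^ blockDefect p b := by
    have := Cfsg.Agent.Lib.H23.card_defectGroup hM θ₀ _ (hθ₀ ▸ hdefb)
    rw [← hθ₀] at this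
    exact this
  have hDle : D ≤ Subgroup.centralizer ({y} : Set K) := hCeq ▸ hDC
  have hD'D : Nat.card (D.subgroupOf (Subgroup.centralizer ({y} : Set K))) = Nat.card D :=
    Nat.card_congr (Subgroup.subgroupOfEquivOfLe hDle).toEquiv
  have hp : p.Prime := Fact.out
  have hbd : blockDefect p b = blockDefect p f := by
    have : p ^ blockDefect p b = p ^ blockDefect p f := by rw [← hD'card, hD'D, hDcard]
    exact Nat.pow_right_injective hp.two_le this
  -- central
  have hDZ : D.subgroupOf (Subgroup.centralizer ({y} : Set K)) ≤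
      Subgroup.center ↥(Subgroup.centralizer ({y} : Set K)) := by
    intro a ha
    rw [Subgroup.mem_subgroupOf] at ha
    rw [Subgroup.mem_center_iff]
    intro c
    apply Subtype.ext
    have hc : (c : K) ∈ Subgroup.centralizer (D : Set K) := by rw [hCeq]; exact c.2
    have := (Subgroup.mem_centralizer_iff.mp hc) (a : K) ha
    simpa using this.symm
  have hmain := Cfsg.Agent.Lib.H23.CY.card_le_pow_of_major_central p M hM f ⟨χ₀, hχ₀⟩
    (blockDefect p f) rfl hh y hyord b hind hbd _ hdefb hDZ
  rw [hDcard]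
  exact hmain

end trivialInertial

end Cfsg.Agent.Lib.H11.CY
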