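import Cfsg.Agent.Lib.H6.CYSTAR
import Cfsg.Agent.Lib.H22.CYPAIRC
import Cfsg.Agent.Lib.H12.CYDefs

/-!
# S1950, piece EQUI (helper11, twin seat): the count behind (**)

`z` of order `p`, cyclic Sylow `p`-subgroups, pairs of elements of order `p` generate `p`-solvable
subgroups; `E = fusE p z`.  Then for `b, c ≠ 0`:

`e * #{y ∈ cls (z^b) | z^a * y ∈ pSection p (z^c)} = #cls (z^b) * #{j ∈ E | ∃ t ∈ E, j * a + b = c * t}`

(exactly the hypothesis `hequi` of helper6's `H6.CY.star_identity`, with `E := fusE p z`).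

Route (on helper22's landed `H22.CY.pairc`): for every `y ∈ cls (z^b)` the pair lemma for `(z, y)` gives
`j ∈ bE` with `z^a * y^r ∈ pSection p (z^c) ↔ a + j r ∈ cE` for all `r`; so the number of such `r ∈ E` is
the same number `N` for every `y`; the power maps `y ↦ y^r` (`r ∈ E`) permute `cls (z^b)`; double count.
-/

set_option autoImplicit false

namespace Cfsg.Agent.Lib.H11.CY

open Cfsg Cfsg.Agent.Lib.H23 Cfsg.Agent.Lib.H6.CY Cfsg.Agent.Lib.H12.CY Cfsg.Agent.Lib.H9.AECS

section pure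

variable {p : ℕ} [Fact p.Prime]

/-- the structure count does not depend on the representative `j ∈ bE` -/
theorem card_filter_coset (E : Finset (ZMod p)) (h0 : (0 : ZMod p) ∉ E)
    (hmul : ∀ s ∈ E, ∀ t ∈ E, s * t ∈ E) (hinv : ∀ s ∈ E, s⁻¹ ∈ E)
    (a b c j : ZMod p) (hj : ∃ s ∈ E, j = b * s)
    [DecidablePred (fun r : ZMod p => ∃ t ∈ E, a + j * r = c * t)]
    [DecidablePred (fun j' : ZMod p => ∃ t ∈ E, j' * a + b = c * t)] :
    (E.filter (fun r => ∃ t ∈ E, a + j * r = c * t)).card =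
      (E.filter (fun j' => ∃ t ∈ E, j' * a + b = c * t)).card := by
  obtain ⟨s₀, hs₀, rfl⟩ := hj
  have hne : ∀ s ∈ E, s ≠ 0 := fun s hs h => h0 (h ▸ hs)
  refine Finset.card_nbij' (fun r => (s₀ * r)⁻¹) (fun j' => (s₀ * j')⁻¹) ?_ ?_ ?_ ?_
  · intro r hr
    simp only [Finset.coe_filter, Set.mem_ofPred_eq] at hr ⊢
    obtain ⟨hrE, t, ht, h⟩ := hr
    have hw : s₀ * r ≠ 0 := mul_ne_zero (hne _ hs₀) (hne _ hrE)
    refine ⟨hinv _ (hmul _ hs₀ _ hrE), t * (s₀ * r)⁻¹, hmul _ ht _ (hinv _ (hmul _ hs₀ _ hrE)), ?_⟩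
    have h1 : (s₀ * r)⁻¹ * a + b = (s₀ * r)⁻¹ * (a + b * s₀ * r) := by
      rw [mul_add, mul_assoc b s₀ r, mul_left_comm, inv_mul_cancel₀ hw, mul_one]
    rw [h1, h]
    ring
  · intro j' hj'
    simp only [Finset.coe_filter, Set.mem_ofPred_eq] at hj' ⊢
    obtain ⟨hjE, t, ht, h⟩ := hj'
    have hs0 : s₀ ≠ 0 := hne _ hs₀
    have hj0 : j' ≠ 0 := hne _ hjE
    refine ⟨hinv _ (hmul _ hs₀ _ hjE), t * j'⁻¹, hmul _ ht _ (hinv _ hjE), ?_⟩
    have h1 : a + b * s₀ * (s₀ * j')⁻¹ = j'⁻¹ * (j' * a + b) := by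
      field_simp
    rw [h1, h]
    ring
  · intro r hr
    simp only [Finset.coe_filter, Set.mem_ofPred_eq] at hr
    have hs0 : s₀ ≠ 0 := hne _ hs₀
    have hr0 : r ≠ 0 := hne _ hr.1
    field_simp
  · intro j' hj'
    simp only [Finset.coe_filter, Set.mem_ofPred_eq] at hj'
    have hs0 : s₀ ≠ 0 := hne _ hs₀
    have hj0 : j' ≠ 0 := hne _ hj'.1
    field_simp

end pure

section group

variable {G : Type*} [Group G] {p : ℕ} [Fact p.Prime]

theorem orderOf_of_isConj {a y : G} (h : IsConj a y) : orderOf y = orderOf a := by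
  obtain ⟨g, rfl⟩ := isConj_iff.1 h
  exact (SemiconjBy.orderOf_eq g (show SemiconjBy g a (g * a * g⁻¹) by
    unfold SemiconjBy; group)).symm

theorem pow_natCast_val' {z : G} (hz : z ^ p = 1) (n : ℕ) : z ^ ((n : ZMod p)).val = z ^ n := by
  rw [ZMod.val_natCast, ← pow_eq_pow_mod _ hz]

theorem orderOf_pow_val' {z : G} (hz : orderOf z = p) {a : ZMod p} (ha : a ≠ 0) :
    orderOf (z ^ a.val) = p := by
  have hp : p.Prime := Fact.out
  have hcop : (orderOf z).Coprime a.val := by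
    rw [hz]
    refine (Nat.Prime.coprime_iff_not_dvd hp).2 ?_
    intro hdvd
    apply ha
    have := (ZMod.natCast_eq_zero_iff a.val p).2 hdvd
    rwa [ZMod.natCast_zmod_val] at this
  rw [hcop.orderOf_pow, hz]

end group

section main

variable {G : Type*} [Group G] [Finite G] {p : ℕ} [Fact p.Prime]

/-- the per-`y` description of the sections of the products `z^a * y^r` -/
theorem mem_pSection_iff_of_pair (P : Sylow p G) (hP : IsCyclic ↥(P : Subgroup G))
    (hc : ∀ x y : G, orderOf x = p → orderOf y = p →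
      Cfsg.IsPSolvable p ↥(Subgroup.closure ({x, y} : Set G)))
    {z : G} (hz : orderOf z = p) (b c : ZMod p) (hb : b ≠ 0) (hc' : c ≠ 0) (y : G)
    (hy : IsConj (z ^ b.val) y) :
    ∃ j : ZMod p, (∃ s ∈ fusE p z, j = b * s) ∧ ∀ a r : ZMod p,
      (z ^ a.val * y ^ r.val ∈ pSection p (z ^ c.val) ↔ ∃ t ∈ fusE p z, a + j * r = c * t) := by
  have hp : p.Prime := Fact.out
  have hzp : z ^ p = 1 := by rw [← hz]; exact pow_orderOf_eq_one z
  have hE : ∀ j : ZMod p, j ∈ fusE p z ↔ j ≠ 0 ∧ IsConj (z ^ j.val) z := fun j => mem_fusE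
  have hyo : orderOf y = p := by rw [orderOf_of_isConj hy, orderOf_pow_val' hz hb]
  obtain ⟨j, hj, hjuv⟩ := Cfsg.Agent.Lib.H22.CY.pairc P hP hz hyo (hc z y hz hyo)
  have hjz : ((j : ℕ) : ZMod p) ≠ 0 := by
    intro h
    exact hj ((ZMod.natCast_eq_zero_iff j p).1 h)
  refine ⟨(j : ZMod p), ?_, ?_⟩
  · -- `(u, v) = (0, 1)`
    obtain ⟨s, t, hs, hts⟩ := (hjuv 0 1).2 (by simpa using hj)
    simp only [pow_zero, one_mul, pow_one, zero_add, mul_one] at hs hts
    have hsy : y = s := IsPPart.unique hp (isPPart_self hp ⟨1, by rw [hyo, pow_one]⟩) hs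
    have h1 : IsConj (z ^ j) y := by
      rw [hsy]
      exact isConj_iff.2 ⟨t, hts⟩
    have h2 : IsConj (z ^ ((j : ZMod p)).val) (z ^ b.val) := by
      rw [pow_natCast_val' hzp]
      exact h1.trans hy.symm
    exact (isConj_pow_iff hzp (fusE p z) hE _ _ hjz hb).1 h2
  · intro a r
    have hcast : (((a.val + j * r.val : ℕ)) : ZMod p) = a + (j : ZMod p) * r := by
      push_cast
      rw [ZMod.natCast_zmod_val, ZMod.natCast_zmod_val]
    have hco : orderOf (z ^ c.val) = p := orderOf_pow_val' hz hc'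
    by_cases hdiv : p ∣ a.val + j * r.val
    · have hm : a + (j : ZMod p) * r = 0 := by
        rw [← hcast]
        exact (ZMod.natCast_eq_zero_iff _ p).2 hdiv
      have hreg := (hjuv a.val r.val).1 hdiv
      constructor
      · rintro ⟨x, hx, hxc⟩
        exfalso
        have h1 : IsPPart p (z ^ a.val * y ^ r.val) 1 :=
          ⟨_, one_mul _, Commute.one_left _, ⟨0, by simp⟩, hreg⟩
        have hx1 : x = 1 := IsPPart.unique hp hx h1
        rw [hx1] at hxc
        have h2 : z ^ c.val = 1 := isConj_one_right.1 hxc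
        rw [h2, orderOf_one] at hco
        exact hp.one_lt.ne hco
      · rintro ⟨t, ht, h⟩
        exfalso
        rw [hm] at h
        have ht0 : t = 0 := by
          rcases mul_eq_zero.1 h.symm with h' | h'
          · exact absurd h' hc'
          · exact h'
        rw [ht0] at ht
        exact ((hE 0).1 ht).1 rfl
    · have hm : a + (j : ZMod p) * r ≠ 0 := by
        rw [← hcast]
        intro h
        exact hdiv ((ZMod.natCast_eq_zero_iff _ p).1 h)
      obtain ⟨s, t, hs, hts⟩ := (hjuv a.val r.val).2 hdiv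
      have hpow : z ^ (a.val + j * r.val) = z ^ (a + (j : ZMod p) * r).val := by
        rw [← hcast, pow_natCast_val' hzp]
      have h3 : IsConj (z ^ (a + (j : ZMod p) * r).val) s := by
        rw [← hpow]
        exact isConj_iff.2 ⟨t, hts⟩
      rw [← isConj_pow_iff hzp (fusE p z) hE _ _ hm hc']
      constructor
      · rintro ⟨x, hx, hxc⟩
        have hxs : x = s := IsPPart.unique hp hx hs
        rw [hxs] at hxc
        exact h3.trans hxc
      · intro h
        exact ⟨s, hs, h3.symm.trans h⟩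

variable [Fintype G] [DecidableEq G]

/-- power maps by elements of `E` preserve the class of `z^b` -/
theorem pow_mem_cls {z : G} (hz : orderOf z = p) (b r : ZMod p) (hr : r ∈ fusE p z) {y : G}
    (hy : y ∈ cls (z ^ b.val)) : y ^ r.val ∈ cls (z ^ b.val) := by
  have hzp : z ^ p = 1 := by rw [← hz]; exact pow_orderOf_eq_one z
  rw [mem_cls] at hy ⊢
  obtain ⟨g, rfl⟩ := isConj_iff.1 hy
  obtain ⟨_, hconj⟩ := mem_fusE.1 hr
  obtain ⟨h, hh⟩ := isConj_iff.1 hconj
  -- `h * z^(r b) * h⁻¹ = z^b`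
  have h1 : h * (z ^ r.val) ^ b.val * h⁻¹ = z ^ b.val := by
    rw [← conj_pow, hh]
  rw [pow_val_mul hzp, mul_comm] at h1
  have h2 : (g * z ^ b.val * g⁻¹) ^ r.val = g * z ^ (b * r).val * g⁻¹ := by
    rw [conj_pow, pow_val_mul hzp]
  rw [h2]
  have h3 : IsConj (z ^ (b * r).val) (z ^ b.val) := isConj_iff.2 ⟨h, h1⟩
  exact h3.symm.trans (isConj_iff.2 ⟨g, rfl⟩)

/-- **EQUI**: the hypothesis `hequi` of `H6.CY.star_identity` for `E = fusE p z`. -/
theorem equi (P : Sylow p G) (hP : IsCyclic ↥(P : Subgroup G))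
    (hc : ∀ x y : G, orderOf x = p → orderOf y = p →
      Cfsg.IsPSolvable p ↥(Subgroup.closure ({x, y} : Set G)))
    {z : G} (hz : orderOf z = p) (a b c : ZMod p) (hb : b ≠ 0) (hc' : c ≠ 0)
    [inst1 : DecidablePred (fun j : ZMod p => ∃ t ∈ fusE p z, j * a + b = c * t)]
    [inst2 : DecidablePred (· ∈ pSection p (z ^ c.val))] :
    (fusE p z).card * ((cls (z ^ b.val)).filter
        (fun y => z ^ a.val * y ∈ pSection p (z ^ c.val))).card =
      (cls (z ^ b.val)).card *
        ((fusE p z).filter (fun j => ∃ t ∈ fusE p z, j * a + b = c * t)).card := by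
  classical
  obtain rfl : inst1 = fun _ => Classical.propDecidable _ := Subsingleton.elim _ _
  obtain rfl : inst2 = fun _ => Classical.propDecidable _ := Subsingleton.elim _ _
  have hp : p.Prime := Fact.out
  have hzp : z ^ p = 1 := by rw [← hz]; exact pow_orderOf_eq_one z
  set E := fusE p z with hEdef
  set S := cls (z ^ b.val) with hSdef
  set N := (E.filter (fun j => ∃ t ∈ E, j * a + b = c * t)).card with hN
  set A := S.filter (fun y => z ^ a.val * y ∈ pSection p (z ^ c.val)) with hA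
  have hE : ∀ j : ZMod p, j ∈ E ↔ j ≠ 0 ∧ IsConj (z ^ j.val) z := fun j => mem_fusE
  have h0 : (0 : ZMod p) ∉ E := fun h => ((hE 0).1 h).1 rfl
  have hone : (1 : ZMod p).val = 1 := by
    haveI : Fact (1 < p) := ⟨hp.one_lt⟩
    exact ZMod.val_one p
  -- `E` is closed under multiplication and inverses
  have hmul : ∀ s ∈ E, ∀ t ∈ E, s * t ∈ E := by
    intro s hs t ht
    obtain ⟨hs0, hsc⟩ := (hE s).1 hs
    obtain ⟨ht0, htc⟩ := (hE t).1 ht
    refine (hE _).2 ⟨mul_ne_zero hs0 ht0, ?_⟩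
    obtain ⟨g, hg⟩ := isConj_iff.1 hsc
    have h1 : g * (z ^ s.val) ^ t.val * g⁻¹ = z ^ t.val := by rw [← conj_pow, hg]
    rw [pow_val_mul hzp] at h1
    exact (isConj_iff.2 ⟨g, h1⟩).trans htc
  have hinv : ∀ s ∈ E, s⁻¹ ∈ E := by
    intro s hs
    obtain ⟨hs0, hsc⟩ := (hE s).1 hs
    refine (hE _).2 ⟨inv_ne_zero hs0, ?_⟩
    obtain ⟨g, hg⟩ := isConj_iff.1 hsc
    have h1 : g * (z ^ s.val) ^ (s⁻¹).val * g⁻¹ = z ^ (s⁻¹).val := by rw [← conj_pow, hg]
    rw [pow_val_mul hzp, mul_inv_cancel₀ hs0, hone, pow_one] at h1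
    exact (isConj_iff.2 ⟨g, h1⟩).symm
  -- elements of `S` have `p`-th power one
  have hSp : ∀ y ∈ S, y ^ p = 1 := by
    intro y hy
    obtain ⟨g, rfl⟩ := isConj_iff.1 (mem_cls.1 hy)
    rw [conj_pow, ← pow_mul, mul_comm, pow_mul, hzp, one_pow, mul_one, mul_inv_cancel]
  -- (1) the power maps
  have h1 : ∀ r ∈ E, (S.filter
      (fun y => z ^ a.val * y ^ r.val ∈ pSection p (z ^ c.val))).card = A.card := by
    intro r hr
    have hr0 : r ≠ 0 := ((hE r).1 hr).1
    refine Finset.card_nbij' (fun y => y ^ r.val) (fun y => y ^ (r⁻¹).val) ?_ ?_ ?_ ?_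
    · intro y hy
      simp only [Finset.coe_filter, Set.mem_ofPred_eq, hA] at hy ⊢
      exact ⟨pow_mem_cls hz b r hr hy.1, hy.2⟩
    · intro y hy
      simp only [Finset.coe_filter, Set.mem_ofPred_eq, hA] at hy ⊢
      refine ⟨pow_mem_cls hz b r⁻¹ (hinv r hr) hy.1, ?_⟩
      have : (y ^ (r⁻¹).val) ^ r.val = y := by
        have hy1 := pow_val_mul (hSp y hy.1) (1 : ZMod p) r⁻¹
        rw [hone, pow_one, one_mul] at hy1
        rw [hy1, pow_val_mul (hSp y hy.1), inv_mul_cancel₀ hr0, hone, pow_one]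
      rw [this]
      exact hy.2
    · intro y hy
      simp only [Finset.coe_filter, Set.mem_ofPred_eq] at hy
      have hy1 := pow_val_mul (hSp y hy.1) (1 : ZMod p) r
      rw [hone, pow_one, one_mul] at hy1
      show (y ^ r.val) ^ (r⁻¹).val = y
      rw [hy1, pow_val_mul (hSp y hy.1), mul_inv_cancel₀ hr0, hone, pow_one]
    · intro y hy
      simp only [Finset.coe_filter, Set.mem_ofPred_eq, hA] at hy
      have hy1 := pow_val_mul (hSp y hy.1) (1 : ZMod p) r⁻¹
      rw [hone, pow_one, one_mul] at hy1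
      show (y ^ (r⁻¹).val) ^ r.val = y
      rw [hy1, pow_val_mul (hSp y hy.1), inv_mul_cancel₀ hr0, hone, pow_one]
  -- (2) the count along `r` is the same for every `y`
  have h2 : ∀ y ∈ S, (E.filter
      (fun r => z ^ a.val * y ^ r.val ∈ pSection p (z ^ c.val))).card = N := by
    intro y hy
    obtain ⟨j, hj, hjar⟩ := mem_pSection_iff_of_pair P hP hc hz b c hb hc' y (mem_cls.1 hy)
    have : E.filter (fun r => z ^ a.val * y ^ r.val ∈ pSection p (z ^ c.val)) =
        E.filter (fun r => ∃ t ∈ E, a + j * r = c * t) := by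
      apply Finset.filter_congr
      intro r _
      exact hjar a r
    rw [this, hN]
    exact card_filter_coset E h0 hmul hinv a b c j hj
  -- (3) double count
  calc E.card * A.card = ∑ _r ∈ E, A.card := by
        rw [Finset.sum_const, smul_eq_mul]
    _ = ∑ r ∈ E, (S.filter
          (fun y => z ^ a.val * y ^ r.val ∈ pSection p (z ^ c.val))).card :=
        Finset.sum_congr rfl (fun r hr => (h1 r hr).symm)
    _ = ∑ r ∈ E, ∑ y ∈ S,
          (if z ^ a.val * y ^ r.val ∈ pSection p (z ^ c.val) then 1 else 0) := by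
        simp only [Finset.card_filter]
    _ = ∑ y ∈ S, ∑ r ∈ E,
          (if z ^ a.val * y ^ r.val ∈ pSection p (z ^ c.val) then 1 else 0) := Finset.sum_comm
    _ = ∑ y ∈ S, (E.filter
          (fun r => z ^ a.val * y ^ r.val ∈ pSection p (z ^ c.val))).card := by
        simp only [Finset.card_filter]
    _ = ∑ _y ∈ S, N := Finset.sum_congr rfl h2
    _ = S.card * N := by rw [Finset.sum_const, smul_eq_mul]
    _ = _ := by
        rw [hN]
        congr!

end main

end Cfsg.Agent.Lib.H11.CY
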