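import Mathlib
import Cfsg.Prelude.Def_Local
import Cfsg.Prelude.Def_Transfer
import Cfsg.Agent.Lib.H1.PSolvOfSolv
import Cfsg.Agent.Lib.H26.PSolvableExt
import Cfsg.Agent.Lib.H4.PSolvSub
import Cfsg.Agent.Lib.H1.PCore
import Cfsg.Agent.Lib.H9.PPrimeCore
import Cfsg.Agent.Lib.H22.PPrimeCore
import Cfsg.Agent.Lib.H28.CYBURN
import Cfsg.Agent.Lib.L0.CyclicSylowTwo

/-!
# S1950, piece RED (helper11): reduction to a non-abelian simple group

`PairHyp p G` : every two elements of order `p` of `G` generate a `p`-solvable subgroup.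
If all `p`-subgroups of `G` are cyclic and `PairHyp p G` holds, then `G` is `p`-solvable, PROVIDED
(a) `hburn`: centralizers of elements of order `p` have normal `p`-complements in groups with cyclic
Sylow `p`-subgroups (helper28's BURN), and (b) `hsimple`: no non-abelian simple group with cyclic
non-trivial Sylow `p`-subgroups satisfies `PairHyp`.
-/

set_option autoImplicit false

namespace Cfsg.Agent.Lib.H11.CY

open Cfsg

universe u

/-- every two elements of order `p` generate a `p`-solvable subgroup -/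
def PairHyp (p : ℕ) (G : Type*) [Group G] : Prop :=
  ∀ x y : G, orderOf x = p → orderOf y = p →
    Cfsg.IsPSolvable p ↥(Subgroup.closure ({x, y} : Set G))

/-- all `p`-subgroups are cyclic -/
def CycHyp (p : ℕ) (G : Type*) [Group G] : Prop :=
  ∀ Q : Subgroup G, IsPGroup p Q → IsCyclic ↥Q

section basic

variable {G : Type*} [Group G] {p : ℕ} [Fact p.Prime]

/-- if one Sylow `p`-subgroup is cyclic, all `p`-subgroups are -/
theorem cycHyp_of_sylow [Finite G] (P : Sylow p G) (hP : IsCyclic ↥(P : Subgroup G)) :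
    CycHyp p G := by
  intro Q hQ
  obtain ⟨P', hP'⟩ := hQ.exists_le_sylow
  have e : ↥(P : Subgroup G) ≃* ↥(P' : Subgroup G) := Sylow.equiv P P'
  have hP'c : IsCyclic ↥(P' : Subgroup G) := isCyclic_of_surjective e e.surjective
  have : IsCyclic ↥(Q.subgroupOf (P' : Subgroup G)) := Subgroup.isCyclic _
  exact isCyclic_of_surjective (Subgroup.subgroupOfEquivOfLe hP').toMonoidHom
    (Subgroup.subgroupOfEquivOfLe hP').surjective

/-- `PairHyp` passes to the domain of an injective homomorphism -/
theorem pairHyp_of_injective {H : Type*} [Group H] (f : H →* G) (hf : Function.Injective f)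
    (h : PairHyp p G) : PairHyp p H := by
  intro x y hx hy
  have hx' : orderOf (f x) = p := by rw [orderOf_injective f hf x, hx]
  have hy' : orderOf (f y) = p := by rw [orderOf_injective f hf y, hy]
  have hsol := h (f x) (f y) hx' hy'
  set K : Subgroup H := Subgroup.closure ({x, y} : Set H) with hK
  have hmap : K.map f = Subgroup.closure ({f x, f y} : Set G) := by
    rw [hK, MonoidHom.map_closure, Set.image_pair]
  have hsol' : Cfsg.IsPSolvable p ↥(K.map f) := by rw [hmap]; exact hsol
  exact Cfsg.Agent.Lib.H4.PSolvSub.isPSolvable_of_injective (f.subgroupMap K)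
    (by
      intro a b hab
      have := congrArg Subtype.val hab
      simp only [MonoidHom.subgroupMap_apply_coe] at this
      exact Subtype.ext (hf this)) hsol'

/-- `CycHyp` passes to the domain of an injective homomorphism -/
theorem cycHyp_of_injective {H : Type*} [Group H] (f : H →* G) (hf : Function.Injective f)
    (h : CycHyp p G) : CycHyp p H := by
  intro Q hQ
  have hQ' : IsPGroup p (Q.map f) := hQ.map f
  have hc := h (Q.map f) hQ'
  have e : ↥Q ≃* ↥(Q.map f) := Subgroup.equivMapOfInjective Q f hf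
  exact isCyclic_of_surjective e.symm.toMonoidHom e.symm.surjective

/-- a subgroup of a cyclic subgroup is cyclic -/
theorem isCyclic_of_le {A B : Subgroup G} (hAB : A ≤ B) (hB : IsCyclic ↥B) : IsCyclic ↥A := by
  have : IsCyclic ↥(A.subgroupOf B) := Subgroup.isCyclic _
  exact isCyclic_of_surjective (Subgroup.subgroupOfEquivOfLe hAB).toMonoidHom
    (Subgroup.subgroupOfEquivOfLe hAB).surjective

/-- elements of order `p` lift modulo a normal `p'`-subgroup -/
theorem exists_lift_orderOf [Finite G] (N : Subgroup G) [N.Normal] (hN : (Nat.card N).Coprime p)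
    (xb : G ⧸ N) (hxb : orderOf xb = p) : ∃ x : G, orderOf x = p ∧ (x : G ⧸ N) = xb := by
  have hp : p.Prime := Fact.out
  obtain ⟨g, rfl⟩ := QuotientGroup.mk_surjective xb
  set m := Nat.card N with hm
  obtain ⟨m', -, hm'⟩ := Nat.exists_mul_mod_eq_one_of_coprime hN hp.one_lt
  refine ⟨g ^ (m * m'), ?_, ?_⟩
  · have hgp : g ^ p ∈ N := by
      rw [← QuotientGroup.eq_one_iff, QuotientGroup.mk_pow, ← hxb, pow_orderOf_eq_one]
    have h1 : (g ^ p) ^ m = 1 := by
      have h0 : (⟨g ^ p, hgp⟩ : ↥N) ^ Nat.card ↥N = 1 := pow_card_eq_one'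
      have h0' := congrArg Subtype.val h0
      rw [Subgroup.coe_pow, Subgroup.coe_one] at h0'
      exact h0'
    have h2 : (g ^ (m * m')) ^ p = 1 := by
      rw [← pow_mul, mul_comm (m * m') p, ← mul_assoc, pow_mul, pow_mul, h1, one_pow]
    have hdvd : orderOf (g ^ (m * m')) ∣ p := orderOf_dvd_of_pow_eq_one h2
    rcases (Nat.dvd_prime hp).1 hdvd with h | h
    · exfalso
      rw [orderOf_eq_one_iff] at h
      have h3 : ((g ^ (m * m') : G) : G ⧸ N) = 1 := by rw [h]; rfl
      rw [QuotientGroup.mk_pow, ← pow_mod_orderOf, hxb, hm', pow_one] at h3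
      rw [h3, orderOf_one] at hxb
      exact hp.one_lt.ne hxb
    · exact h
  · rw [QuotientGroup.mk_pow, ← pow_mod_orderOf, hxb, hm', pow_one]

/-- `PairHyp` passes to the quotient by a normal `p'`-subgroup -/
theorem pairHyp_quotient [Finite G] (N : Subgroup G) [N.Normal] (hN : (Nat.card N).Coprime p)
    (h : PairHyp p G) : PairHyp p (G ⧸ N) := by
  intro xb yb hxb hyb
  obtain ⟨x, hx, rfl⟩ := exists_lift_orderOf N hN xb hxb
  obtain ⟨y, hy, rfl⟩ := exists_lift_orderOf N hN yb hyb
  have hsol := h x y hx hy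
  set K : Subgroup G := Subgroup.closure ({x, y} : Set G) with hK
  have hmap : K.map (QuotientGroup.mk' N) =
      Subgroup.closure ({(x : G ⧸ N), (y : G ⧸ N)} : Set (G ⧸ N)) := by
    rw [hK, MonoidHom.map_closure, Set.image_pair]
    rfl
  rw [← hmap]
  exact Cfsg.Agent.Lib.H26.isPSolvable_of_surjective ((QuotientGroup.mk' N).subgroupMap K)
    ((QuotientGroup.mk' N).subgroupMap_surjective K) hsol

/-- `CycHyp` passes to quotients -/
theorem cycHyp_quotient [Finite G] (N : Subgroup G) [N.Normal] (h : CycHyp p G) :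
    CycHyp p (G ⧸ N) := by
  intro Qb hQb
  obtain ⟨Pb, hPb⟩ := hQb.exists_le_sylow
  obtain ⟨P, rfl⟩ := Sylow.mapSurjective_surjective (QuotientGroup.mk'_surjective N) p Pb
  have hPc : IsCyclic ↥(P : Subgroup G) := h P P.2
  have hPbc : IsCyclic ↥((P : Subgroup G).map (QuotientGroup.mk' N)) :=
    isCyclic_of_surjective ((QuotientGroup.mk' N).subgroupMap (P : Subgroup G))
      ((QuotientGroup.mk' N).subgroupMap_surjective _)
  exact isCyclic_of_le hPb hPbc

end basic

section core

variable {G : Type*} [Group G] [Finite G] {p : ℕ} [Fact p.Prime]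

/-- an element whose order is prime to the index of a normal subgroup lies in it -/
theorem mem_of_coprime_index (N : Subgroup G) [N.Normal] {g : G}
    (h : (orderOf g).Coprime N.index) : g ∈ N := by
  rw [← QuotientGroup.eq_one_iff, ← orderOf_eq_one_iff]
  have h1 : orderOf (g : G ⧸ N) ∣ orderOf g := orderOf_map_dvd (QuotientGroup.mk' N) g
  have h2 : orderOf (g : G ⧸ N) ∣ N.index := by
    rw [Subgroup.index_eq_card]
    exact orderOf_dvd_natCard _
  exact Nat.eq_one_of_dvd_coprimes h h1 h2

/-- a nontrivial `p`-solvable group has a nontrivial `O_p` or `O_{p'}` -/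
theorem pCore_or_pPrimeCore_ne_bot {X : Type*} [Group X] [Finite X] [Nontrivial X]
    (h : Cfsg.IsPSolvable p X) : Cfsg.pCore p X ≠ ⊥ ∨ Cfsg.pPrimeCore p X ≠ ⊥ := by
  by_contra hcon
  push Not at hcon
  obtain ⟨h1, h2⟩ := hcon
  obtain ⟨n, H, h0, hlast, hmono, hnorm, hstep⟩ := h
  have key : ∀ i : Fin (n + 1), H i = ⊥ := by
    intro i
    induction i using Fin.induction with
    | zero => exact h0
    | succ j ih =>
      have hs := hstep j
      rw [ih, Subgroup.relIndex_bot_left] at hs
      rcases hs with ⟨m, hm⟩ | hc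
      · have hpg : IsPGroup p ↥(H j.succ) := IsPGroup.of_card hm
        have hle := Cfsg.Agent.Lib.H1.le_pCore (hnorm j.succ) hpg
        rw [h1] at hle
        exact le_bot_iff.mp hle
      · have hle := Cfsg.Agent.Lib.H22.le_pPrimeCore p (H j.succ) (hnorm _) hc
        rw [h2] at hle
        exact le_bot_iff.mp hle
  have hk := key (Fin.last n)
  rw [hlast] at hk
  exact top_ne_bot hk

/-- a nontrivial `p`-solvable normal subgroup of `G` yields a nontrivial normal `p`-subgroup or
a nontrivial normal `p'`-subgroup of `G` -/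
theorem exists_normal_of_normal_pSolvable (N : Subgroup G) [N.Normal] (hN : N ≠ ⊥)
    (hsol : Cfsg.IsPSolvable p ↥N) :
    (∃ M : Subgroup G, M.Normal ∧ M ≠ ⊥ ∧ IsPGroup p ↥M) ∨
      (∃ M : Subgroup G, M.Normal ∧ M ≠ ⊥ ∧ (Nat.card ↥M).Coprime p) := by
  haveI : Nontrivial ↥N := (Subgroup.nontrivial_iff_ne_bot N).2 hN
  rcases pCore_or_pPrimeCore_ne_bot hsol with h | h
  · left
    haveI := Cfsg.Agent.Lib.H1.pCore_characteristic p ↥N
    refine ⟨(Cfsg.pCore p ↥N).map N.subtype, ConjAct.normal_of_characteristic_of_normal, ?_, ?_⟩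
    · intro h0
      exact h ((Subgroup.map_eq_bot_iff_of_injective _ N.subtype_injective).1 h0)
    · exact (Cfsg.Agent.Lib.H1.pCore_isPGroup p ↥N).map N.subtype
  · right
    refine ⟨(Cfsg.pPrimeCore p ↥N).map N.subtype, ConjAct.normal_of_characteristic_of_normal, ?_, ?_⟩
    · intro h0
      exact h ((Subgroup.map_eq_bot_iff_of_injective _ N.subtype_injective).1 h0)
    · rw [Subgroup.card_map_of_injective N.subtype_injective]
      exact Cfsg.Agent.Lib.H22.card_pPrimeCore_coprime p

/-- Case B: no nontrivial normal `p'`-subgroup, but a nontrivial normal `p`-subgroup. -/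
theorem isPSolvable_of_normal_pGroup (hcyc : CycHyp p G)
    (hO : ∀ N : Subgroup G, N.Normal → (Nat.card ↥N).Coprime p → N = ⊥)
    (N0 : Subgroup G) (hN0 : N0.Normal) (hN0p : IsPGroup p ↥N0) (hN0ne : N0 ≠ ⊥) :
    Cfsg.IsPSolvable p G := by
  have hp : p.Prime := Fact.out
  haveI := hN0
  have hN0c : IsCyclic ↥N0 := hcyc N0 hN0p
  -- an element `s` of order `p` in `N0`
  have hdvd : p ∣ Nat.card ↥N0 := by
    obtain ⟨k, hk⟩ := IsPGroup.iff_card.mp hN0p
    rcases k with _ | k
    · exfalso
      apply hN0ne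
      rw [pow_zero] at hk
      exact Subgroup.card_eq_one.mp hk
    · rw [hk, pow_succ]
      exact dvd_mul_left _ _
  obtain ⟨s0, hs0⟩ := exists_prime_orderOf_dvd_card' p hdvd
  have hso : orderOf (s0 : G) = p := by rw [Subgroup.orderOf_coe]; exact hs0
  -- the conjugation action on `N0`
  let f : G →* MulAut ↥N0 := MulAut.conjNormal
  have hcomm : ∀ a b : MulAut ↥N0, a * b = b * a := by
    intro a b
    apply (IsCyclic.mulAutMulEquiv ↥N0).injective
    rw [map_mul, map_mul, mul_comm]
  set D : Subgroup G := f.ker with hD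
  set C : Subgroup G := Subgroup.centralizer ({(s0 : G)} : Set G) with hC
  have hDC : D ≤ C := by
    intro d hd
    rw [hD, MonoidHom.mem_ker] at hd
    have h1 : f d s0 = s0 := by rw [hd]; rfl
    have h2 := congrArg Subtype.val h1
    rw [MulAut.conjNormal_apply] at h2
    rw [Subgroup.mem_centralizer_singleton_iff]
    exact mul_inv_eq_iff_eq_mul.mp h2
  -- Burnside
  obtain ⟨P⟩ : Nonempty (Sylow p G) := inferInstance
  obtain ⟨Q, K, hKn, hKQ⟩ :=
    Cfsg.Agent.Lib.H28.CY.centralizer_hasNormalPComplement P (hcyc P P.2) (s0 : G) hso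
  haveI := hKn
  obtain ⟨k, hk⟩ := IsPGroup.iff_card.mp Q.2
  have hKi : K.index = p ^ k := by rw [hKQ.symm.index_eq_card, hk]
  have hKc : (Nat.card ↥K).Coprime p := by
    rw [← hKQ.index_eq_card]
    exact ((Nat.Prime.coprime_iff_not_dvd hp).2 Q.not_dvd_index).symm
  -- `p'`-elements of `C` lie in `K`
  have hmemK : ∀ c : ↥C, (orderOf c).Coprime p → c ∈ K := by
    intro c hc
    apply mem_of_coprime_index
    rw [hKi]
    exact Nat.Coprime.pow_right k hc
  -- the normal `p'`-subgroup `T`
  let T : Subgroup G := D ⊓ K.map C.subtype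
  have hTn : T.Normal := by
    refine ⟨fun t ht g => ?_⟩
    obtain ⟨htD, c, hcK, hct⟩ := ht
    have hD' : g * t * g⁻¹ ∈ D := (inferInstance : D.Normal).conj_mem t htD g
    refine ⟨hD', ⟨g * t * g⁻¹, hDC hD'⟩, ?_, rfl⟩
    apply hmemK
    have hconj : orderOf (g * t * g⁻¹) = orderOf t :=
      (SemiconjBy.orderOf_eq g (show SemiconjBy g t (g * t * g⁻¹) by
        unfold SemiconjBy; group)).symm
    rw [Subgroup.orderOf_mk, hconj, ← hct]
    have h1 : orderOf ((C.subtype c : G)) = orderOf c := Subgroup.orderOf_coe c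
    rw [h1]
    have h2 : orderOf c ∣ Nat.card ↥K := by
      have := orderOf_dvd_natCard (⟨c, hcK⟩ : ↥K)
      rwa [Subgroup.orderOf_mk] at this
    exact Nat.Coprime.coprime_dvd_left h2 hKc
  have hTc : (Nat.card ↥T).Coprime p := by
    have h1 : Nat.card ↥T ∣ Nat.card ↥(K.map C.subtype) := Subgroup.card_dvd_of_le inf_le_right
    rw [Subgroup.card_map_of_injective C.subtype_injective] at h1
    exact Nat.Coprime.coprime_dvd_left h1 hKc
  have hT : T = ⊥ := hO T hTn hTc
  -- `D` is a `p`-group
  have hDp : IsPGroup p ↥D := by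
    intro d
    have hn : orderOf (d : G) ≠ 0 := (orderOf_pos (d : G)).ne'
    obtain ⟨a, m, hm, hnm⟩ := Nat.exists_eq_pow_mul_and_not_dvd hn p hp.ne_one
    refine ⟨a, ?_⟩
    have hd' : (d : G) ^ p ^ a ∈ D := Subgroup.pow_mem _ d.2 _
    have hord : orderOf ((d : G) ^ p ^ a) ∣ m := by
      apply orderOf_dvd_of_pow_eq_one
      rw [← pow_mul, ← hnm, pow_orderOf_eq_one]
    have hcop : (orderOf ((d : G) ^ p ^ a)).Coprime p :=
      Nat.Coprime.coprime_dvd_left hord ((Nat.Prime.coprime_iff_not_dvd hp).2 hm).symm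
    have hmem : (d : G) ^ p ^ a ∈ T := by
      refine ⟨hd', ⟨(d : G) ^ p ^ a, hDC hd'⟩, ?_, rfl⟩
      apply hmemK
      rw [Subgroup.orderOf_mk]
      exact hcop
    rw [hT, Subgroup.mem_bot] at hmem
    apply Subtype.ext
    rw [Subgroup.coe_pow, hmem, Subgroup.coe_one]
  -- `G ⧸ D` is abelian
  have hQcomm : ∀ a b : G ⧸ D, a * b = b * a := by
    intro a b
    apply QuotientGroup.kerLift_injective f
    rw [map_mul, map_mul]
    exact hcomm _ _
  haveI : Group.IsSolvable (G ⧸ D) := Group.isSolvable_of_comm hQcomm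
  have hQsol : Cfsg.IsPSolvable p (G ⧸ D) :=
    Cfsg.Agent.Lib.H1.PSolvOfSolv.isPSolvable_of_isSolvable p (G ⧸ D)
  have hker : IsPGroup p ↥(QuotientGroup.mk' D).ker := by
    rw [QuotientGroup.ker_mk']
    exact hDp
  exact Cfsg.Agent.Lib.H26.isPSolvable_of_ker_isPGroup (QuotientGroup.mk' D)
    (QuotientGroup.mk'_surjective D) hker hQsol

end core

/-- **RED, induction form.** -/
theorem reduce_aux (p : ℕ) [Fact p.Prime]
    (hsimple : ∀ (G : Type u) [Group G] [Finite G] [IsSimpleGroup G], ¬ IsMulCommutative G →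
      p ≠ 2 → p ∣ Nat.card G → CycHyp p G → PairHyp p G → False) :
    ∀ (n : ℕ) (G : Type u) [Group G] [Finite G], Nat.card G = n → CycHyp p G → PairHyp p G →
      Cfsg.IsPSolvable p G := by
  have hp : p.Prime := Fact.out
  intro n
  induction n using Nat.strong_induction_on with
  | _ n ih =>
    intro G _ _ hn hcyc hpair
    -- Case A: a nontrivial normal `p'`-subgroup
    by_cases hA : ∃ N : Subgroup G, N.Normal ∧ N ≠ ⊥ ∧ (Nat.card ↥N).Coprime p
    · obtain ⟨N, hNn, hNne, hNc⟩ := hA
      haveI := hNn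
      have hlt : Nat.card (G ⧸ N) < n := by
        rw [← hn, ← Subgroup.index_eq_card, ← Subgroup.card_mul_index N]
        have h1 : 1 < Nat.card ↥N := by
          rw [Subgroup.one_lt_card_iff_ne_bot]
          exact hNne
        have h2 : 0 < N.index := Nat.pos_of_ne_zero Subgroup.index_ne_zero_of_finite
        nlinarith
      have hq := ih _ hlt (G ⧸ N) rfl (cycHyp_quotient N hcyc) (pairHyp_quotient N hNc hpair)
      exact Cfsg.Agent.Lib.H1.PSolvOfSolv.isPSolvable_of_ker_coprime (QuotientGroup.mk' N)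
        (QuotientGroup.mk'_surjective N) (by rw [QuotientGroup.ker_mk']; exact hNc) hq
    have hA' : ∀ N : Subgroup G, N.Normal → (Nat.card ↥N).Coprime p → N = ⊥ := by
      intro N hN hc
      by_contra hne
      exact hA ⟨N, hN, hne, hc⟩
    -- Case B: a nontrivial normal `p`-subgroup
    by_cases hB : ∃ N : Subgroup G, N.Normal ∧ N ≠ ⊥ ∧ IsPGroup p ↥N
    · obtain ⟨N0, h1, h2, h3⟩ := hB
      exact isPSolvable_of_normal_pGroup hcyc hA' N0 h1 h3 h2
    -- Case C: `G` is trivial or simple
    by_cases htriv : Subsingleton G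
    · haveI := htriv
      exact Cfsg.Agent.Lib.H1.PSolvOfSolv.isPSolvable_of_isSolvable p G
    haveI : Nontrivial G := not_subsingleton_iff_nontrivial.mp htriv
    have hsimp : IsSimpleGroup G := by
      refine ⟨fun N hN => ?_⟩
      by_contra hcon
      push Not at hcon
      haveI := hN
      have hlt : Nat.card ↥N < n := by
        rw [← hn]
        have hi : N.index ≠ 1 := fun h => hcon.2 (Subgroup.index_eq_one.mp h)
        have h2 : 0 < N.index := Nat.pos_of_ne_zero Subgroup.index_ne_zero_of_finite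
        have h1 : 0 < Nat.card ↥N := Nat.card_pos
        rw [← Subgroup.card_mul_index N]
        have : 2 ≤ N.index := by omega
        nlinarith
      have hsolN := ih _ hlt ↥N rfl (cycHyp_of_injective N.subtype N.subtype_injective hcyc)
        (pairHyp_of_injective N.subtype N.subtype_injective hpair)
      rcases exists_normal_of_normal_pSolvable N hcon.1 hsolN with
        ⟨M, h1, h2, h3⟩ | ⟨M, h1, h2, h3⟩
      · exact hB ⟨M, h1, h2, h3⟩
      · exact hA ⟨M, h1, h2, h3⟩
    by_cases hab : IsMulCommutative G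
    · haveI : Group.IsSolvable G := Group.isSolvable_of_comm (fun a b => hab.is_comm.comm a b)
      exact Cfsg.Agent.Lib.H1.PSolvOfSolv.isPSolvable_of_isSolvable p G
    exfalso
    -- `p` divides `|G|`
    have hdvd : p ∣ Nat.card G := by
      by_contra hnd
      have htop := hA' ⊤ inferInstance (by
        rw [Subgroup.card_top]
        exact ((Nat.Prime.coprime_iff_not_dvd hp).2 hnd).symm)
      exact top_ne_bot htop
    -- `p ≠ 2`
    have hp2 : p ≠ 2 := by
      rintro rfl
      obtain ⟨Q⟩ : Nonempty (Sylow 2 G) := inferInstance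
      obtain ⟨K, hKn, hKQ, hK⟩ :=
        Cfsg.Agent.Lib.L0.exists_odd_normal_complement_of_cyclic_sylow Q (hcyc Q Q.2) hdvd
      have hKc : (Nat.card ↥K).Coprime 2 := by
        rw [← hKQ.index_eq_card]
        exact ((Nat.Prime.coprime_iff_not_dvd Nat.prime_two).2 Q.not_dvd_index).symm
      have hKbot : K = ⊥ := hA' K hKn hKc
      rw [hKbot, Subgroup.isComplement'_bot_left] at hKQ
      apply hab
      have hQc : IsCyclic ↥(Q : Subgroup G) := hcyc Q Q.2
      have hQcomm : IsMulCommutative ↥(Q : Subgroup G) := IsCyclic.isMulCommutative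
      refine ⟨⟨fun a b => ?_⟩⟩
      have ha : a ∈ (Q : Subgroup G) := by rw [hKQ]; trivial
      have hb : b ∈ (Q : Subgroup G) := by rw [hKQ]; trivial
      exact congrArg Subtype.val (hQcomm.is_comm.comm (⟨a, ha⟩ : ↥(Q : Subgroup G)) ⟨b, hb⟩)
    exact hsimple G hab hp2 hdvd hcyc hpair

/-- **RED**: if no non-abelian finite simple group with cyclic Sylow `p`-subgroups (`p` odd, `p`
dividing the order) satisfies the pair hypothesis, then every finite group with a cyclic Sylow
`p`-subgroup satisfying the pair hypothesis is `p`-solvable. -/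
theorem reduce_to_simple {p : ℕ} [Fact p.Prime]
    (hsimple : ∀ (G : Type u) [Group G] [Finite G] [IsSimpleGroup G], ¬ IsMulCommutative G →
      p ≠ 2 → p ∣ Nat.card G → ∀ P : Sylow p G, IsCyclic ↥(P : Subgroup G) →
      (∀ x y : G, orderOf x = p → orderOf y = p →
        Cfsg.IsPSolvable p ↥(Subgroup.closure ({x, y} : Set G))) → False)
    (G : Type u) [Group G] [Finite G] (P : Sylow p G) (hP : IsCyclic ↥(P : Subgroup G))
    (hpair : ∀ x y : G, orderOf x = p → orderOf y = p →
      Cfsg.IsPSolvable p ↥(Subgroup.closure ({x, y} : Set G))) :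
    Cfsg.IsPSolvable p G := by
  refine reduce_aux p ?_ (Nat.card G) G rfl (cycHyp_of_sylow P hP) hpair
  intro H _ _ _ hab hp2 hdvd hcyc hpr
  obtain ⟨Q⟩ : Nonempty (Sylow p H) := inferInstance
  exact hsimple H hab hp2 hdvd Q (hcyc Q Q.2) hpr

end Cfsg.Agent.Lib.H11.CY
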