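import Mathlib
import Cfsg.Prelude.Def_LieTypeDatum
import Cfsg.Prelude.Def_KGroupFacts

/-!
# Conformal orthogonal groups acting on `PΩ(Q)` (part 1)

For an arbitrary function `Q : (ι → F) → F` we construct the homomorphism
`Phi : Sim(Q) →* MulAut (PΩ(Q))` given by conjugation, and identify the subgroups
`pgoAut`, `poAut`, `psoAut`, `Inn` of `MulAut (PΩ(Q))` as images under `Phi`.
-/

set_option autoImplicit false

namespace Cfsg.Agent.Lib.H11.ConfOrth

open Matrix
open scoped MatrixGroups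

variable {F : Type*} [Field F] {ι : Type} [Fintype ι] [DecidableEq ι] (Q : (ι → F) → F)

/-- the similarity group -/
abbrev Sim : Subgroup (GL ι F) := Cfsg.Geo.quadSimilarityGroup (F := F) Q

theorem mem_iso_iff (g : GL ι F) :
    g ∈ Cfsg.isometryGroup F Q ↔ ∀ x, Q (g.1 *ᵥ x) = Q x := by
  constructor
  · intro h x; exact h x 0
  · intro h x _; exact h x

theorem mem_sim_iff (g : GL ι F) :
    g ∈ Sim Q ↔ ∃ c : Fˣ, ∀ v, Q (g.1 *ᵥ v) = (c : F) * Q v := Iff.rfl

theorem iso_le_sim : Cfsg.isometryGroup F Q ≤ Sim Q := by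
  intro g hg
  rw [mem_iso_iff] at hg
  exact ⟨1, fun v => by rw [hg, Units.val_one, one_mul]⟩

theorem inv_mulVec_mulVec (g : GL ι F) (x : ι → F) : (g⁻¹).1 *ᵥ (g.1 *ᵥ x) = x := by
  rw [Matrix.mulVec_mulVec, ← Units.val_mul, inv_mul_cancel, Units.val_one, Matrix.one_mulVec]

theorem mulVec_inv_mulVec (g : GL ι F) (x : ι → F) : g.1 *ᵥ ((g⁻¹).1 *ᵥ x) = x := by
  rw [Matrix.mulVec_mulVec, ← Units.val_mul, mul_inv_cancel, Units.val_one, Matrix.one_mulVec]

theorem conj_mem_iso {g s : GL ι F} (hg : g ∈ Sim Q) (hs : s ∈ Cfsg.isometryGroup F Q) :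
    g * s * g⁻¹ ∈ Cfsg.isometryGroup F Q := by
  rw [mem_iso_iff] at hs ⊢
  obtain ⟨c, hc⟩ := hg
  intro x
  have h1 : (g * s * g⁻¹).1 *ᵥ x = g.1 *ᵥ (s.1 *ᵥ ((g⁻¹).1 *ᵥ x)) := by
    rw [Units.val_mul, Units.val_mul, ← Matrix.mulVec_mulVec, ← Matrix.mulVec_mulVec]
  rw [h1, hc, hs]
  have h2 := hc ((g⁻¹).1 *ᵥ x)
  rw [mulVec_inv_mulVec] at h2
  exact h2.symm

/-- conjugation by a similarity, as an automorphism of the isometry group -/
def conjOEquiv (g : ↥(Sim Q)) : ↥(Cfsg.isometryGroup F Q) ≃* ↥(Cfsg.isometryGroup F Q) where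
  toFun s := ⟨g.1 * s.1 * g.1⁻¹, conj_mem_iso Q g.2 s.2⟩
  invFun s := ⟨g.1⁻¹ * s.1 * (g.1⁻¹)⁻¹, conj_mem_iso Q (inv_mem g.2) s.2⟩
  left_inv s := by
    apply Subtype.ext
    simp only [inv_inv]
    group
  right_inv s := by
    apply Subtype.ext
    simp only [inv_inv]
    group
  map_mul' s t := by
    apply Subtype.ext
    simp only [Subgroup.coe_mul]
    group

theorem conjOEquiv_val (g : ↥(Sim Q)) (s : ↥(Cfsg.isometryGroup F Q)) :
    ((conjOEquiv Q g s : ↥(Cfsg.isometryGroup F Q)) : GL ι F) = g.1 * s.1 * g.1⁻¹ := rfl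

/-- the conjugation action of the similarity group on the isometry group -/
def conjO : ↥(Sim Q) →* MulAut ↥(Cfsg.isometryGroup F Q) where
  toFun g := conjOEquiv Q g
  map_one' := by
    apply MulEquiv.ext
    intro s
    apply Subtype.ext
    rw [conjOEquiv_val]
    simp
  map_mul' g h := by
    apply MulEquiv.ext
    intro s
    apply Subtype.ext
    rw [MulAut.mul_apply, conjOEquiv_val, conjOEquiv_val, conjOEquiv_val]
    simp only [Subgroup.coe_mul, _root_.mul_inv_rev]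
    group

theorem conjO_val (g : ↥(Sim Q)) (s : ↥(Cfsg.isometryGroup F Q)) :
    ((conjO Q g s : ↥(Cfsg.isometryGroup F Q)) : GL ι F) = g.1 * s.1 * g.1⁻¹ := rfl

instance commutator_char (G : Type*) [Group G] : (commutator G).Characteristic := by
  rw [commutator_def]
  infer_instance

/-- the conjugation action on `Ω` -/
def conjOmega : ↥(Sim Q) →* MulAut ↥(Cfsg.Omega F Q) :=
  (MulAut.characteristic (commutator ↥(Cfsg.isometryGroup F Q))).comp (conjO Q)

theorem conjOmega_val (g : ↥(Sim Q)) (s : ↥(Cfsg.Omega F Q)) :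
    (((conjOmega Q g s : ↥(Cfsg.Omega F Q)) : ↥(Cfsg.isometryGroup F Q)) : GL ι F) =
      g.1 * s.1.1 * g.1⁻¹ := rfl

/-- automorphisms act on the quotient by a characteristic subgroup -/
def quotAut {H : Type*} [Group H] (K : Subgroup H) [hK : K.Characteristic] :
    MulAut H →* MulAut (H ⧸ K) where
  toFun φ := QuotientGroup.congr K K φ (Subgroup.characteristic_iff_map_eq.1 hK φ)
  map_one' := by
    apply MulEquiv.ext
    intro x
    induction x using QuotientGroup.induction_on with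
    | H x => rfl
  map_mul' φ ψ := by
    apply MulEquiv.ext
    intro x
    induction x using QuotientGroup.induction_on with
    | H x => rfl

theorem quotAut_mk {H : Type*} [Group H] (K : Subgroup H) [hK : K.Characteristic] (φ : MulAut H)
    (x : H) : quotAut K φ (QuotientGroup.mk x) = QuotientGroup.mk (φ x) := rfl

/-- the action of the similarity group on `PΩ` -/
def Phi : ↥(Sim Q) →* MulAut (Cfsg.POmega F Q) :=
  (quotAut (Subgroup.center ↥(Cfsg.Omega F Q))).comp (conjOmega Q)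

theorem Phi_mk (g : ↥(Sim Q)) (s : ↥(Cfsg.Omega F Q)) :
    Phi Q g (QuotientGroup.mk s) = QuotientGroup.mk (conjOmega Q g s) := rfl

omit [Fintype ι] [DecidableEq ι] in
theorem map_refl (M : Matrix ι ι F) : M.map (RingEquiv.refl F) = M := by
  ext i j
  rfl

theorem induced_iff (g : GL ι F) (hg : g ∈ Sim Q) (β : Cfsg.POmega F Q ≃* Cfsg.POmega F Q) :
    Cfsg.IsInducedBySemilinearPOmega Q g (RingEquiv.refl F) β ↔ β = Phi Q ⟨g, hg⟩ := by
  constructor
  · intro h
    apply MulEquiv.ext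
    intro x
    induction x using QuotientGroup.induction_on with
    | H s =>
      rw [Phi_mk]
      apply h s (conjOmega Q ⟨g, hg⟩ s)
      rw [map_refl, conjOmega_val]
      rfl
  · rintro rfl s s' hss'
    rw [Phi_mk]
    congr 1
    apply Subtype.ext
    apply Subtype.ext
    apply Units.ext
    rw [hss', map_refl, conjOmega_val]
    rfl

theorem closure_image_eq_map {G M : Type*} [Group G] [Group M] (f : G →* M) (S : Subgroup G)
    (P : M → Prop) (hP : ∀ β, P β ↔ ∃ g ∈ S, β = f g) :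
    Subgroup.closure {β | P β} = S.map f := by
  apply le_antisymm
  · rw [Subgroup.closure_le]
    intro β hβ
    obtain ⟨g, hg, rfl⟩ := (hP β).1 hβ
    exact Subgroup.mem_map_of_mem f hg
  · rintro _ ⟨g, hg, rfl⟩
    exact Subgroup.subset_closure ((hP _).2 ⟨g, hg, rfl⟩)

/-- automorphisms induced by the elements of a subgroup `S` of the similarity group -/
theorem autSubgroupOf_eq (S : Subgroup (GL ι F)) (hS : S ≤ Sim Q) :
    Cfsg.autSubgroupOf (fun β : Cfsg.POmega F Q ≃* Cfsg.POmega F Q =>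
      ∃ g : GL ι F, g ∈ S ∧ Cfsg.IsInducedBySemilinearPOmega Q g (RingEquiv.refl F) β) =
    (S.subgroupOf (Sim Q)).map (Phi Q) := by
  unfold Cfsg.autSubgroupOf
  apply closure_image_eq_map
  intro β
  constructor
  · rintro ⟨g, hg, hβ⟩
    exact ⟨⟨g, hS hg⟩, Subgroup.mem_subgroupOf.2 hg, (induced_iff Q g (hS hg) β).1 hβ⟩
  · rintro ⟨g, hg, rfl⟩
    exact ⟨g.1, Subgroup.mem_subgroupOf.1 hg, (induced_iff Q g.1 g.2 _).2 rfl⟩

theorem pgoAut_eq : Cfsg.pgoAut F Q = (Phi Q).range := by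
  have h := autSubgroupOf_eq Q (Sim Q) le_rfl
  rw [Subgroup.subgroupOf_self, ← MonoidHom.range_eq_map] at h
  exact h

theorem poAut_eq : Cfsg.poAut F Q =
    ((Cfsg.isometryGroup F Q).subgroupOf (Sim Q)).map (Phi Q) :=
  autSubgroupOf_eq Q _ (iso_le_sim Q)

theorem sO_le_sim : Cfsg.specialIsometryGL F Q ≤ Sim Q :=
  le_trans inf_le_left (iso_le_sim Q)

theorem psoAut_eq : Cfsg.psoAut F Q =
    ((Cfsg.specialIsometryGL F Q).subgroupOf (Sim Q)).map (Phi Q) :=
  autSubgroupOf_eq Q _ (sO_le_sim Q)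

theorem omegaGL_le_iso : Cfsg.Geo.omegaGL Q ≤ Cfsg.isometryGroup F Q := by
  rintro _ ⟨s, -, rfl⟩
  exact s.2

theorem omegaGL_le_sim : Cfsg.Geo.omegaGL Q ≤ Sim Q :=
  le_trans (omegaGL_le_iso Q) (iso_le_sim Q)

theorem mem_omegaGL_iff (g : GL ι F) :
    g ∈ Cfsg.Geo.omegaGL Q ↔ ∃ h : g ∈ Cfsg.isometryGroup F Q,
      (⟨g, h⟩ : ↥(Cfsg.isometryGroup F Q)) ∈ Cfsg.Omega F Q := by
  constructor
  · rintro ⟨s, hs, rfl⟩
    exact ⟨s.2, hs⟩
  · rintro ⟨h, hs⟩
    exact ⟨⟨g, h⟩, hs, rfl⟩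

/-- inner automorphisms of `PΩ` are induced by the elements of `Ω` -/
theorem inn_eq : Cfsg.Inn (Cfsg.POmega F Q) =
    ((Cfsg.Geo.omegaGL Q).subgroupOf (Sim Q)).map (Phi Q) := by
  ext β
  constructor
  · rintro ⟨x, rfl⟩
    induction x using QuotientGroup.induction_on with
    | H s =>
      refine ⟨⟨s.1.1, iso_le_sim Q s.1.2⟩, ?_, ?_⟩
      · rw [SetLike.mem_coe, Subgroup.mem_subgroupOf]
        exact ⟨s.1, s.2, rfl⟩
      · apply MulEquiv.ext
        intro y
        induction y using QuotientGroup.induction_on with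
        | H t =>
          rw [Phi_mk, MulAut.conj_apply, ← QuotientGroup.mk_mul, ← QuotientGroup.mk_inv,
            ← QuotientGroup.mk_mul]
          congr 1
  · rintro ⟨g, hg, rfl⟩
    rw [SetLike.mem_coe, Subgroup.mem_subgroupOf, mem_omegaGL_iff] at hg
    obtain ⟨h, hs⟩ := hg
    refine ⟨QuotientGroup.mk ⟨⟨g.1, h⟩, hs⟩, ?_⟩
    apply MulEquiv.ext
    intro y
    induction y using QuotientGroup.induction_on with
    | H t =>
      rw [Phi_mk, MulAut.conj_apply, ← QuotientGroup.mk_mul, ← QuotientGroup.mk_inv,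
        ← QuotientGroup.mk_mul]
      congr 1

end Cfsg.Agent.Lib.H11.ConfOrth
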