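import Cfsg.Agent.Lib.H11.SpinSign
import Cfsg.Agent.Lib.H11.IsoReindex

/-!
The criterion for `-1 ∈ Ω(Q)` for a quadratic form on `ι → F` (any finite index type),
in terms of a diagonalisation of `Q`.
-/

set_option autoImplicit false

namespace Cfsg.Agent.Lib.H11.SpinSignGen

open Matrix
open scoped MatrixGroups
open Cfsg.Agent.Lib.H11.SpinSign Cfsg.Agent.Lib.H11.IsoReindex Cfsg.Agent.Lib.H11.SqCount

variable {F : Type*} [Field F] [Fintype F] {ι : Type} [Fintype ι] [DecidableEq ι]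

theorem neg_one_mem_iff_general (Q : QuadraticForm F (ι → F))
    (hQ : (QuadraticMap.polarBilin Q).Nondegenerate) (h2 : (2 : F) ≠ 0)
    (hcard : 2 ≤ Fintype.card ι) (heven : Even (Fintype.card ι)) (c : F) (hc : c ≠ 0) :
    (∃ g : ↥(Cfsg.isometryGroup F ⇑Q), g ∈ Cfsg.Omega F ⇑Q ∧
      ((g : GL ι F) : Matrix ι ι F) = -1) ↔
      Even (Nat.card {x : ι → F // Q x = c} / 2) := by
  rw [neg_one_transfer (Fintype.equivFin ι) ⇑Q, ← coe_trQF,
    neg_one_mem_iff (trQF (Fintype.equivFin ι) Q) (nondeg_trQF _ Q hQ) h2 hcard heven c hc]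
  have : Nat.card (Lvl (trQF (Fintype.equivFin ι) Q) c) = Nat.card {x : ι → F // Q x = c} :=
    card_lvl_tr (Fintype.equivFin ι) ⇑Q c
  rw [this]

/-- criterion via a diagonalisation -/
theorem neg_one_mem_iff_diag (Q : QuadraticForm F (ι → F))
    (hQ : (QuadraticMap.polarBilin Q).Nondegenerate) (h2 : (2 : F) ≠ 0)
    (hcard : 2 ≤ Fintype.card ι) (heven : Even (Fintype.card ι)) (c : F) (hc : c ≠ 0)
    {κ : Type*} [Fintype κ] (a : κ → F) (Ψ : (ι → F) ≃ (κ → F))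
    (hΨ : ∀ x, ∑ j, a j * (Ψ x j * Ψ x j) = Q x) :
    (∃ g : ↥(Cfsg.isometryGroup F ⇑Q), g ∈ Cfsg.Omega F ⇑Q ∧
      ((g : GL ι F) : Matrix ι ι F) = -1) ↔ Even (R a c) := by
  rw [neg_one_mem_iff_general Q hQ h2 hcard heven c hc]
  have h1 : Nat.card {x : ι → F // Q x = c} = N a c := by
    unfold N
    exact Nat.card_congr (Ψ.subtypeEquiv (fun x => by rw [hΨ]))
  have h3 := N_mod_four' h2 a c hc
  rw [h1, Nat.even_iff, Nat.even_iff]
  omega

end Cfsg.Agent.Lib.H11.SpinSignGen
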