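import Cfsg.Agent.Lib.H11.ConfOrth9
import Cfsg.Agent.S0791
import Cfsg.Agent.S0288

/-!
# Conformal orthogonal groups (part 10): the minus-type form
-/

set_option autoImplicit false

namespace Cfsg.Agent.Lib.H11.ConfOrth

open Matrix
open scoped MatrixGroups
open Cfsg.Agent.Lib.H13

section minus

variable {F : Type*} [Field F] {m : ℕ}

/-- the anisotropic binary form is universal: it represents every element -/
theorem exists_binary_eq [Fintype F] (h2 : (2 : F) ≠ 0) (a b : F)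
    (hab : ∀ z₁ z₂ : F, z₁ ^ 2 + a * z₁ * z₂ + b * z₂ ^ 2 = 0 → z₁ = 0 ∧ z₂ = 0) (n : F) :
    ∃ c₁ c₂ : F, c₁ ^ 2 + a * c₁ * c₂ + b * c₂ ^ 2 = n := by
  classical
  have hchar : ringChar F ≠ 2 := Cfsg.Agent.Lib.H13.OmegaCrit.ringChar_ne_two' h2
  have hodd : Fintype.card F % 2 = 1 := FiniteField.odd_card_of_char_ne_two hchar
  set k : F := b - a ^ 2 / 4 with hk
  have h4 : (4 : F) ≠ 0 := by
    have : (4 : F) = 2 * 2 := by norm_num
    rw [this]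
    exact mul_ne_zero h2 h2
  have hk0 : k ≠ 0 := by
    intro hk0
    have := hab (-a / 2) 1 (by
      rw [hk] at hk0
      field_simp
      field_simp at hk0
      linear_combination hk0)
    exact one_ne_zero this.2
  obtain ⟨u, w, huw⟩ := FiniteField.exists_root_sum_quadratic (R := F)
    (f := Polynomial.X ^ 2) (g := Polynomial.C k * Polynomial.X ^ 2 - Polynomial.C n)
    (Polynomial.degree_X_pow 2)
    (by
      rw [Polynomial.degree_sub_C, Polynomial.degree_C_mul_X_pow 2 hk0]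
      · rfl
      · rw [Polynomial.degree_C_mul_X_pow 2 hk0]
        norm_num) hodd
  simp only [Polynomial.eval_pow, Polynomial.eval_X, Polynomial.eval_sub, Polynomial.eval_C,
    Polynomial.eval_mul] at huw
  refine ⟨u - a / 2 * w, w, ?_⟩
  rw [hk] at huw
  field_simp
  field_simp at huw
  linear_combination huw

/-- the matrix of the similarity -/
def dMinusM (a b : F) (ν c₁ c₂ : F) :
    Matrix ((Fin m ⊕ Fin m) ⊕ Fin 2) ((Fin m ⊕ Fin m) ⊕ Fin 2) F :=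
  Matrix.fromBlocks (Matrix.diagonal (Sum.elim (fun _ => ν) (fun _ => 1))) 0 0
    !![c₁, -b * c₂; c₂, c₁ + a * c₂]

theorem dMinusM_det (a b ν c₁ c₂ : F) (hν : c₁ ^ 2 + a * c₁ * c₂ + b * c₂ ^ 2 = ν) :
    (dMinusM (m := m) a b ν c₁ c₂).det = ν ^ (m + 1) := by
  unfold dMinusM
  rw [Matrix.det_fromBlocks_zero₂₁, Matrix.det_diagonal, Fintype.prod_sum_type,
    Matrix.det_fin_two_of]
  simp only [Sum.elim_inl, Sum.elim_inr, Finset.prod_const, Finset.card_univ, Fintype.card_fin,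
    one_pow, mul_one]
  rw [pow_succ, ← hν]
  ring

theorem dMinusM_Q (a b ν c₁ c₂ : F) (hν : c₁ ^ 2 + a * c₁ * c₂ + b * c₂ ^ 2 = ν)
    (x : (Fin m ⊕ Fin m) ⊕ Fin 2 → F) :
    minusQF F m a b (dMinusM a b ν c₁ c₂ *ᵥ x) = ν * minusQF F m a b x := by
  rw [minusQF_apply, minusQF_apply]
  unfold dMinusM Cfsg.quadFormMinus
  rw [Matrix.fromBlocks_mulVec]
  simp only [Matrix.zero_mulVec, add_zero, zero_add, Sum.elim_inl, Sum.elim_inr,
    Matrix.mulVec_diagonal, Function.comp_apply]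
  have h0 : (!![c₁, -b * c₂; c₂, c₁ + a * c₂] *ᵥ (x ∘ Sum.inr)) 0 =
      c₁ * x (Sum.inr 0) + -b * c₂ * x (Sum.inr 1) := by
    simp [Matrix.mulVec, dotProduct, Fin.sum_univ_two]
  have h1 : (!![c₁, -b * c₂; c₂, c₁ + a * c₂] *ᵥ (x ∘ Sum.inr)) 1 =
      c₂ * x (Sum.inr 0) + (c₁ + a * c₂) * x (Sum.inr 1) := by
    simp [Matrix.mulVec, dotProduct, Fin.sum_univ_two]
  rw [h0, h1]
  have hs : ∑ i : Fin m, ν * x (Sum.inl (Sum.inl i)) * (1 * x (Sum.inl (Sum.inr i))) =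
      ν * ∑ i : Fin m, x (Sum.inl (Sum.inl i)) * x (Sum.inl (Sum.inr i)) := by
    rw [Finset.mul_sum]
    apply Finset.sum_congr rfl
    intro i _
    ring
  rw [hs, ← hν]
  ring

/-- the similarity of the minus-type form with multiplier `ν = N(c₁, c₂)` -/
noncomputable def dMinus (a b : F) (ν : Fˣ) (c₁ c₂ : F)
    (hν : c₁ ^ 2 + a * c₁ * c₂ + b * c₂ ^ 2 = (ν : F)) : GL ((Fin m ⊕ Fin m) ⊕ Fin 2) F :=
  Matrix.GeneralLinearGroup.mkOfDetNeZero (dMinusM a b (ν : F) c₁ c₂) (by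
    rw [dMinusM_det a b _ c₁ c₂ hν]
    exact pow_ne_zero _ (Units.ne_zero ν))

theorem dMinus_val (a b : F) (ν : Fˣ) (c₁ c₂ : F)
    (hν : c₁ ^ 2 + a * c₁ * c₂ + b * c₂ ^ 2 = (ν : F)) :
    ((dMinus (m := m) a b ν c₁ c₂ hν : GL ((Fin m ⊕ Fin m) ⊕ Fin 2) F) :
      Matrix ((Fin m ⊕ Fin m) ⊕ Fin 2) ((Fin m ⊕ Fin m) ⊕ Fin 2) F) =
      dMinusM a b (ν : F) c₁ c₂ := rfl

theorem dMinus_mem (a b : F) (ν : Fˣ) (c₁ c₂ : F)
    (hν : c₁ ^ 2 + a * c₁ * c₂ + b * c₂ ^ 2 = (ν : F)) :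
    (dMinus (m := m) a b ν c₁ c₂ hν) ∈ Sim ⇑(minusQF F m a b) :=
  ⟨ν, fun v => by rw [dMinus_val]; exact dMinusM_Q a b _ c₁ c₂ hν v⟩

theorem dMinus_mult (a b : F) (hne : ∃ v, minusQF F m a b v ≠ 0) (ν : Fˣ) (c₁ c₂ : F)
    (hν : c₁ ^ 2 + a * c₁ * c₂ + b * c₂ ^ 2 = (ν : F)) :
    mult (⇑(minusQF F m a b)) hne ⟨dMinus a b ν c₁ c₂ hν, dMinus_mem a b ν c₁ c₂ hν⟩ = ν :=
  mult_eq _ hne _ ν (fun v => by
    show minusQF F m a b (((dMinus (m := m) a b ν c₁ c₂ hν : GL ((Fin m ⊕ Fin m) ⊕ Fin 2) F) :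
      Matrix ((Fin m ⊕ Fin m) ⊕ Fin 2) ((Fin m ⊕ Fin m) ⊕ Fin 2) F) *ᵥ v) = _
    rw [dMinus_val]; exact dMinusM_Q a b _ c₁ c₂ hν v)

theorem dMinus_delta (a b : F) (hne : ∃ v, minusQF F m a b v ≠ 0) (ν : Fˣ) (c₁ c₂ : F)
    (hν : c₁ ^ 2 + a * c₁ * c₂ + b * c₂ ^ 2 = (ν : F)) :
    delta (minusQF F m a b) hne (m + 1)
      ⟨dMinus a b ν c₁ c₂ hν, dMinus_mem a b ν c₁ c₂ hν⟩ = 1 := by
  rw [delta_eq_one_iff, dMinus_mult]
  show (dMinusM a b (ν : F) c₁ c₂).det = _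
  rw [dMinusM_det a b _ c₁ c₂ hν]

theorem card_minus : Fintype.card ((Fin m ⊕ Fin m) ⊕ Fin 2) = 2 * (m + 1) := by
  rw [Fintype.card_sum, Fintype.card_sum, Fintype.card_fin, Fintype.card_fin]; ring

variable [Fintype F]

/-- the criterion for `-1 ∈ Ω⁻` -/
theorem negOne_mem_minus_iff {q : ℕ} (hF : Fintype.card F = q) (hodd : Odd q) (a b : F)
    (hab : ∀ z₁ z₂ : F, z₁ ^ 2 + a * z₁ * z₂ + b * z₂ ^ 2 = 0 → z₁ = 0 ∧ z₂ = 0) :
    negOne ((Fin m ⊕ Fin m) ⊕ Fin 2) F ∈ Cfsg.Geo.omegaGL ⇑(minusQF F m a b) ↔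
      q ^ (m + 1) % 4 = 3 := by
  rw [negOne_mem_iff, Cfsg.Agent.S0288.coe_minusQF]
  exact Cfsg.Agent.S0791.result hF hodd (m + 1) (by omega) a b hab

/-- the data for the generic theorems -/
theorem exists_minus_data (h2 : (2 : F) ≠ 0) (a b : F)
    (hab : ∀ z₁ z₂ : F, z₁ ^ 2 + a * z₁ * z₂ + b * z₂ ^ 2 = 0 → z₁ = 0 ∧ z₂ = 0)
    (hne : ∃ v, minusQF F m a b v ≠ 0) :
    ∃ g₀ : ↥(Sim ⇑(minusQF F m a b)), ¬ IsSquare (mult (⇑(minusQF F m a b)) hne g₀ : F) ∧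
      delta (minusQF F m a b) hne (m + 1) g₀ = 1 := by
  obtain ⟨ν, hν⟩ := exists_nonsquare_unit (F := F) h2
  obtain ⟨c₁, c₂, hc⟩ := exists_binary_eq h2 a b hab (ν : F)
  refine ⟨⟨dMinus a b ν c₁ c₂ hc, dMinus_mem a b ν c₁ c₂ hc⟩, ?_, dMinus_delta a b hne ν c₁ c₂ hc⟩
  rw [dMinus_mult]
  exact hν

variable [DecidableEq F]

theorem minus_pgo_pso (hodd : Odd (Fintype.card F)) (hm : 3 ≤ m) (a b : F)
    (hab : ∀ z₁ z₂ : F, z₁ ^ 2 + a * z₁ * z₂ + b * z₂ ^ 2 = 0 → z₁ = 0 ∧ z₂ = 0) :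
    ∃ φ : ↥(Cfsg.pgoAut F ⇑(minusQF F m a b)) →* Multiplicative (ZMod 2 × ZMod 2),
      Function.Surjective φ ∧
      φ.ker = (Cfsg.psoAut F ⇑(minusQF F m a b)).subgroupOf
        (Cfsg.pgoAut F ⇑(minusQF F m a b)) := by
  have h2 : (2 : F) ≠ 0 := Cfsg.Agent.Lib.H13.HypPairs.two_ne_zero_of_odd_card rfl hodd
  have hQ := Cfsg.Agent.S0288.nondeg (F := F) a b hab m
  have hne := exists_ne_of_nondeg (minusQF F m a b) hQ (by rw [card_minus]; omega)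
  obtain ⟨g₀, hg₀, hd₀⟩ := exists_minus_data h2 a b hab hne
  exact pgo_pso (minusQF F m a b) hQ h2 (m + 1) (by omega) card_minus hne g₀ hg₀ hd₀

theorem minus_relIndex (hodd : Odd (Fintype.card F)) (hm : 3 ≤ m) (a b : F)
    (hab : ∀ z₁ z₂ : F, z₁ ^ 2 + a * z₁ * z₂ + b * z₂ ^ 2 = 0 → z₁ = 0 ∧ z₂ = 0) :
    ((Even m ∧ Fintype.card F % 4 = 3) →
      (Cfsg.Inn (Cfsg.POmega F ⇑(minusQF F m a b))).relIndex
        (Cfsg.psoAut F ⇑(minusQF F m a b)) = 2) ∧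
    (¬ (Even m ∧ Fintype.card F % 4 = 3) →
      (Cfsg.Inn (Cfsg.POmega F ⇑(minusQF F m a b))).relIndex
        (Cfsg.psoAut F ⇑(minusQF F m a b)) = 1) := by
  have h2 : (2 : F) ≠ 0 := Cfsg.Agent.Lib.H13.HypPairs.two_ne_zero_of_odd_card rfl hodd
  have hQ := Cfsg.Agent.S0288.nondeg (F := F) a b hab m
  have hne := exists_ne_of_nondeg (minusQF F m a b) hQ (by rw [card_minus]; omega)
  obtain ⟨g₀, hg₀, hd₀⟩ := exists_minus_data h2 a b hab hne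
  have hcrit := negOne_mem_minus_iff (F := F) (m := m) rfl hodd a b hab
  rw [pow_succ_mod_four_eq_three_iff hodd] at hcrit
  constructor
  · intro h
    exact relIndex_eq_two (minusQF F m a b) hQ h2 (m + 1) (by omega) card_minus hne
      (hcrit.2 h) g₀ hg₀ hd₀
  · intro h
    exact relIndex_eq_one (minusQF F m a b) hQ h2 (m + 1) (by omega) card_minus hne
      (fun h' => h (hcrit.1 h')) g₀ hg₀ hd₀

theorem minus_pgo_inn (hodd : Odd (Fintype.card F)) (hm : 3 ≤ m) (a b : F)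
    (hab : ∀ z₁ z₂ : F, z₁ ^ 2 + a * z₁ * z₂ + b * z₂ ^ 2 = 0 → z₁ = 0 ∧ z₂ = 0) :
    ((Even m ∧ Fintype.card F % 4 = 3) →
      (∃ φ : ↥(Cfsg.pgoAut F ⇑(minusQF F m a b)) →* DihedralGroup 4,
        Function.Surjective φ ∧ φ.ker = (Cfsg.Inn (Cfsg.POmega F ⇑(minusQF F m a b))).subgroupOf
          (Cfsg.pgoAut F ⇑(minusQF F m a b)))) ∧
    (¬ (Even m ∧ Fintype.card F % 4 = 3) →
      (∃ φ : ↥(Cfsg.pgoAut F ⇑(minusQF F m a b)) →* Multiplicative (ZMod 2 × ZMod 2),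
        Function.Surjective φ ∧ φ.ker = (Cfsg.Inn (Cfsg.POmega F ⇑(minusQF F m a b))).subgroupOf
          (Cfsg.pgoAut F ⇑(minusQF F m a b)))) := by
  have h2 : (2 : F) ≠ 0 := Cfsg.Agent.Lib.H13.HypPairs.two_ne_zero_of_odd_card rfl hodd
  have hQ := Cfsg.Agent.S0288.nondeg (F := F) a b hab m
  have hne := exists_ne_of_nondeg (minusQF F m a b) hQ (by rw [card_minus]; omega)
  obtain ⟨g₀, hg₀, hd₀⟩ := exists_minus_data h2 a b hab hne
  have hcrit := negOne_mem_minus_iff (F := F) (m := m) rfl hodd a b hab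
  rw [pow_succ_mod_four_eq_three_iff hodd] at hcrit
  constructor
  · intro h
    exact pgo_inn_d4 (minusQF F m a b) hQ h2 (m + 1) (by omega) card_minus hne
      (hcrit.2 h) g₀ hg₀ hd₀
  · intro h
    exact pgo_inn_klein (minusQF F m a b) hQ h2 (m + 1) (by omega) card_minus hne
      (fun h' => h (hcrit.1 h')) g₀ hg₀ hd₀

end minus

end Cfsg.Agent.Lib.H11.ConfOrth
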