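import Cfsg.Agent.Lib.H11.ConfOrth8

/-!
# Conformal orthogonal groups (part 11): the subgroup `δ = 1` of the similarity group modulo `PΩ`
-/

set_option autoImplicit false

namespace Cfsg.Agent.Lib.H11.ConfOrth

open Matrix
open scoped MatrixGroups
open Cfsg.Agent.Lib.H13.HypPairs

section abstract

variable {Γ : Type*} [Group Γ]

/-- the order of an extension of `K` by a group of order two -/
theorem card_of_ext {K : Type*} [Group K] (π : Γ →* K) (hπ : Function.Surjective π) (Z : Γ)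
    (hker : ∀ u, π u = 1 → u = 1 ∨ u = Z) (hπZ : π Z = 1) (hZ1 : Z ≠ 1) :
    Z * Z = 1 ∧ Nat.card Γ = 2 * Nat.card K := by
  have hZZ : Z * Z = 1 := by
    have h1 : π (Z * Z) = 1 := by rw [map_mul, hπZ, one_mul]
    rcases hker _ h1 with h | h
    · exact h
    · exfalso
      apply hZ1
      have := congrArg (fun t => t * Z⁻¹) h
      simpa using this
  refine ⟨hZZ, ?_⟩
  have hker' : π.ker = Subgroup.zpowers Z := by
    ext u
    rw [MonoidHom.mem_ker, Subgroup.mem_zpowers_iff]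
    constructor
    · intro h
      rcases hker u h with h | h
      · exact ⟨0, by rw [zpow_zero, h]⟩
      · exact ⟨1, by rw [zpow_one, h]⟩
    · rintro ⟨k, rfl⟩
      rw [map_zpow, hπZ, _root_.one_zpow]
  have h1 := Subgroup.card_mul_index π.ker
  have h2 : π.ker.index = Nat.card K := by
    rw [Subgroup.index_ker, MonoidHom.range_eq_top.2 hπ, Subgroup.card_top]
  have h3 : Nat.card π.ker = 2 := by
    rw [hker', Nat.card_zpowers]
    exact orderOf_eq_prime (by rw [sq]; exact hZZ) hZ1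
  rw [← h1, h2, h3]

theorem card_units_int : Nat.card ℤˣ = 2 := by
  rw [Nat.card_eq_fintype_card]; rfl

/-- cyclic of order four -/
theorem cyclic4_of_ext (π : Γ →* ℤˣ) (hπ : Function.Surjective π) (Z : Γ)
    (hker : ∀ u, π u = 1 → u = 1 ∨ u = Z) (hπZ : π Z = 1) (hZ1 : Z ≠ 1) (X : Γ)
    (hX : X * X ≠ 1) : Nonempty (Γ ≃* Multiplicative (ZMod 4)) := by
  obtain ⟨hZZ, hcard⟩ := card_of_ext π hπ Z hker hπZ hZ1
  rw [card_units_int] at hcard
  have hXX : X * X = Z := by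
    have h1 : π (X * X) = 1 := by rw [map_mul, Int.units_mul_self]
    rcases hker _ h1 with h | h
    · exact absurd h hX
    · exact h
  have hfin : Finite Γ := Nat.finite_of_card_ne_zero (by rw [hcard]; norm_num)
  have hord : orderOf X = 2 ^ (1 + 1) := by
    have : Fact (Nat.Prime 2) := ⟨Nat.prime_two⟩
    apply orderOf_eq_prime_pow
    · rw [pow_one, sq]; exact hX
    · have : X ^ 2 ^ (1 + 1) = (X * X) * (X * X) := by
        rw [show (2 : ℕ) ^ (1 + 1) = 2 + 2 from rfl, pow_add, sq]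
      rw [this, hXX, hZZ]
  have hcyc : IsCyclic Γ := by
    apply isCyclic_of_orderOf_eq_card X
    rw [hord, hcard]
    rfl
  have h4 : Nat.card (Multiplicative (ZMod 4)) = 4 := by
    rw [Nat.card_eq_fintype_card]; rfl
  exact ⟨mulEquivOfCyclicCardEq (by rw [hcard, h4])⟩

/-- a Klein four-group -/
theorem klein_of_ext (π : Γ →* ℤˣ) (hπ : Function.Surjective π) (Z : Γ)
    (hker : ∀ u, π u = 1 → u = 1 ∨ u = Z) (hπZ : π Z = 1) (hZ1 : Z ≠ 1) (X : Γ)
    (hπX : π X = -1) (hXX : X * X = 1) : Nonempty (Γ ≃* Multiplicative (ZMod 2 × ZMod 2)) := by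
  obtain ⟨hZZ, hcard⟩ := card_of_ext π hπ Z hker hπZ hZ1
  rw [card_units_int] at hcard
  have hcomm : X * Z = Z * X := by
    have h1 : π (X * Z * X⁻¹) = 1 := by
      rw [map_mul, map_mul, hπZ, mul_one, map_inv, mul_inv_cancel]
    rcases hker _ h1 with h | h
    · exfalso
      apply hZ1
      have := congrArg (fun t => X⁻¹ * t * X) h
      simpa [mul_assoc] using this
    · calc X * Z = (X * Z * X⁻¹) * X := by group
        _ = Z * X := by rw [h]
  have hsq : ∀ u : Γ, u * u = 1 := by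
    intro u
    rcases Int.units_eq_one_or (π u) with h | h
    · rcases hker u h with h | h
      · rw [h, one_mul]
      · rw [h, hZZ]
    · have h1 : π (u * X⁻¹) = 1 := by
        rw [map_mul, map_inv, h, hπX]
        rfl
      rcases hker _ h1 with h3 | h3
      · have : u = X := by
          rw [mul_inv_eq_one] at h3
          exact h3
        rw [this, hXX]
      · have : u = Z * X := by
          rw [← h3]; group
        rw [this]
        calc Z * X * (Z * X) = Z * (X * Z) * X := by group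
          _ = Z * (Z * X) * X := by rw [hcomm]
          _ = (Z * Z) * (X * X) := by group
          _ = 1 := by rw [hZZ, hXX, one_mul]
  have hk : IsKleinFour Γ := by
    refine ⟨by rw [hcard], ?_⟩
    apply le_antisymm
    · apply Nat.le_of_dvd (by norm_num)
      apply Monoid.exponent_dvd_of_forall_pow_eq_one
      intro u
      rw [sq, hsq]
    · by_contra h
      have h3 := Monoid.pow_exponent_eq_one Z
      have hfin : Finite Γ := Nat.finite_of_card_ne_zero (by rw [hcard]; norm_num)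
      have h4 : Monoid.exponent Γ ≠ 0 := by
        intro h0
        have := Monoid.ExponentExists.of_finite (G := Γ)
        rw [← Monoid.exponent_ne_zero] at this
        exact this h0
      have h5 : Monoid.exponent Γ = 1 := by omega
      rw [h5, pow_one] at h3
      exact hZ1 h3
  exact IsKleinFour.nonempty_mulEquiv

/-- the quotient of order four, abstractly -/
theorem quot_four {G : Type*} [Group G] (N : Subgroup G) [N.Normal] (ψ : G →* ℤˣ)
    (hψ : Function.Surjective ψ) (hN : N ≤ ψ.ker) (z₀ g₀ : G) (hz₀ : ψ z₀ = 1) (hz₀N : z₀ ∉ N)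
    (hker : ∀ s, ψ s = 1 → s ∈ N ∨ s * z₀⁻¹ ∈ N) (hg₀ : ψ g₀ = -1) :
    (g₀ * g₀ ∉ N → Nonempty (G ⧸ N ≃* Multiplicative (ZMod 4))) ∧
    (g₀ * g₀ ∈ N → Nonempty (G ⧸ N ≃* Multiplicative (ZMod 2 × ZMod 2))) := by
  have hπsurj : Function.Surjective (QuotientGroup.lift N ψ hN) := by
    intro k
    obtain ⟨g, rfl⟩ := hψ k
    exact ⟨QuotientGroup.mk g, rfl⟩
  have hkerπ : ∀ u, QuotientGroup.lift N ψ hN u = 1 → u = 1 ∨ u = QuotientGroup.mk z₀ := by
    intro u hu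
    induction u using QuotientGroup.induction_on with
    | H s =>
      have hs : ψ s = 1 := hu
      rcases hker s hs with h | h
      · left
        exact (QuotientGroup.eq_one_iff s).2 h
      · right
        rw [← mul_inv_eq_one, ← QuotientGroup.mk_inv, ← QuotientGroup.mk_mul]
        exact (QuotientGroup.eq_one_iff _).2 h
  have hπZ : QuotientGroup.lift N ψ hN (QuotientGroup.mk z₀) = 1 := hz₀
  have hZ1 : (QuotientGroup.mk z₀ : G ⧸ N) ≠ 1 := by
    intro h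
    exact hz₀N ((QuotientGroup.eq_one_iff z₀).1 h)
  have hXX : (QuotientGroup.mk g₀ : G ⧸ N) * QuotientGroup.mk g₀ = 1 ↔ g₀ * g₀ ∈ N := by
    rw [← QuotientGroup.mk_mul, QuotientGroup.eq_one_iff]
  constructor
  · intro h
    exact cyclic4_of_ext _ hπsurj _ hkerπ hπZ hZ1 (QuotientGroup.mk g₀) (fun h' => h (hXX.1 h'))
  · intro h
    exact klein_of_ext _ hπsurj _ hkerπ hπZ hZ1 (QuotientGroup.mk g₀) hg₀ (hXX.2 h)

/-- descend an isomorphism of a quotient of a subgroup to the image -/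
theorem hom_of_quot_iso {G M B : Type*} [Group G] [Group M] [Group B] (Φ : G →* M)
    (S : Subgroup G) (N' : Subgroup ↥S) [N'.Normal] (A C : Subgroup M) (hA : A = S.map Φ)
    (hCA : C ≤ A) (hN' : ∀ s : ↥S, s ∈ N' ↔ Φ s.1 ∈ C) (e : ↥S ⧸ N' ≃* B) :
    ∃ φ : ↥A →* B, Function.Surjective φ ∧ φ.ker = C.subgroupOf A := by
  apply exists_hom_comap_sub Φ S (e.toMonoidHom.comp (QuotientGroup.mk' N')) _ A C hA hCA
  · intro s
    rw [MonoidHom.comp_apply, MulEquiv.coe_toMonoidHom, MulEquiv.map_eq_one_iff,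
      QuotientGroup.mk'_apply, QuotientGroup.eq_one_iff, hN']
  · intro b
    obtain ⟨u, rfl⟩ := e.surjective b
    induction u using QuotientGroup.induction_on with
    | H g => exact ⟨g, rfl⟩

end abstract

variable {F : Type*} [Field F] [Fintype F] [DecidableEq F] {ι : Type} [Fintype ι] [DecidableEq ι]
  (Q : QuadraticForm F (ι → F))

section main

variable (hQ : (QuadraticMap.polarBilin Q).Nondegenerate) (h2 : (2 : F) ≠ 0) (m : ℕ)
  (hm : 4 ≤ m) (hcard : Fintype.card ι = 2 * m) (hne : ∃ v, Q v ≠ 0)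

/-- the similarities with `det g = τ(g) ^ m` -/
noncomputable def DD : Subgroup ↥(Sim ⇑Q) := (delta Q hne m).ker

omit [Fintype F] [DecidableEq F] in
theorem mem_DD (g : ↥(Sim ⇑Q)) : g ∈ DD Q m hne ↔ delta Q hne m g = 1 := MonoidHom.mem_ker

omit [DecidableEq F] in
include hQ h2 hm hcard in
theorem inn_le_DD_map : Cfsg.Inn (Cfsg.POmega F ⇑Q) ≤ (DD Q m hne).map (Phi ⇑Q) := by
  rw [inn_eq]
  apply Subgroup.map_mono
  intro g hg
  rw [Subgroup.mem_subgroupOf] at hg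
  have := omegaGL_le_sO Q hQ h2 (by omega) hg
  rw [mem_sO_iff' Q hne m] at this
  exact (mem_DD Q m hne g).2 this.2

/-- the square class of the multiplier on `DD` -/
noncomputable def psi1 : ↥(DD Q m hne) →* ℤˣ :=
  ((quadraticChar F).toUnitHom.comp (mult (⇑Q) hne)).comp (DD Q m hne).subtype

include hQ h2 hcard in
theorem psi1_eq_one_iff (s : ↥(DD Q m hne)) :
    psi1 Q m hne s = 1 ↔ ∃ c : Fˣ, ∃ h ∈ Cfsg.specialIsometryGL F ⇑Q,
      s.1.1 = Matrix.GeneralLinearGroup.scalar ι c * h := by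
  rw [← psi_eq_one_iff' Q hne m hQ h2 hcard, psi_eq_one_iff]
  unfold psi1
  rw [MonoidHom.comp_apply, MonoidHom.comp_apply, qc_eq_one_iff]
  constructor
  · intro h
    exact ⟨h, (mem_DD Q m hne s.1).1 s.2⟩
  · intro h
    exact h.1

theorem psi1_surjective (g₀ : ↥(Sim ⇑Q)) (hg₀ : ¬ IsSquare (mult (⇑Q) hne g₀ : F))
    (hd₀ : delta Q hne m g₀ = 1) : Function.Surjective (psi1 Q m hne) := by
  intro a
  rcases Int.units_eq_one_or a with rfl | rfl
  · exact ⟨1, map_one _⟩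
  · refine ⟨⟨g₀, (mem_DD Q m hne g₀).2 hd₀⟩, ?_⟩
    unfold psi1
    rw [MonoidHom.comp_apply, MonoidHom.comp_apply]
    rcases Int.units_eq_one_or ((quadraticChar F).toUnitHom (mult (⇑Q) hne g₀)) with h | h
    · exact absurd ((qc_eq_one_iff _).1 h) hg₀
    · exact h

include hQ h2 hm hcard in
/-- the quotient is of order two when `-1 ∉ Ω` -/
theorem dd_inn_z2 (hneg : negOne ι F ∉ Cfsg.Geo.omegaGL ⇑Q) (g₀ : ↥(Sim ⇑Q))
    (hg₀ : ¬ IsSquare (mult (⇑Q) hne g₀ : F)) (hd₀ : delta Q hne m g₀ = 1) :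
    ∃ φ : ↥((DD Q m hne).map (Phi ⇑Q)) →* Multiplicative (ZMod 2), Function.Surjective φ ∧
      φ.ker = (Cfsg.Inn (Cfsg.POmega F ⇑Q)).subgroupOf ((DD Q m hne).map (Phi ⇑Q)) := by
  obtain ⟨κ⟩ := exists_z2_iso
  apply exists_hom_comap_sub (Phi ⇑Q) (DD Q m hne) (κ.toMonoidHom.comp (psi1 Q m hne)) _ _ _ rfl
    (inn_le_DD_map Q hQ h2 m hm hcard hne)
  · intro s
    rw [MonoidHom.comp_apply, MulEquiv.coe_toMonoidHom, MulEquiv.map_eq_one_iff,
      psi1_eq_one_iff Q hQ h2 m hcard hne, zso_iff_zomega Q hQ h2 m hm hcard hne hneg,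
      ← mem_comap_map Q (ker_Phi_main Q hQ h2 m hm hcard), ← inn_eq, Subgroup.mem_comap]
  · intro b
    obtain ⟨x, rfl⟩ := κ.surjective b
    obtain ⟨g, rfl⟩ := psi1_surjective Q m hne g₀ hg₀ hd₀ x
    exact ⟨g, rfl⟩

omit [DecidableEq F] in
include hQ h2 hm hcard in
/-- an element of `SO ∖ Ω` -/
theorem exists_z0 (g₀ : ↥(Sim ⇑Q)) (hg₀ : ¬ IsSquare (mult (⇑Q) hne g₀ : F)) :
    ∃ z₀ : ↥(Sim ⇑Q), z₀.1 ∈ Cfsg.specialIsometryGL F ⇑Q ∧ z₀.1 ∉ Cfsg.Geo.omegaGL ⇑Q := by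
  have hc2 : 2 ≤ Fintype.card ι := by omega
  obtain ⟨v, hv⟩ := id hne
  set r : ↥(Sim ⇑Q) := oS Q (reflG Q v hv).1 (reflG Q v hv).2 with hr
  refine ⟨g₀ * r * g₀⁻¹ * r⁻¹, ?_, ?_⟩
  · rw [mem_sO_iff' Q hne m]
    simp only [map_mul, map_inv]
    constructor
    · rw [mul_comm (mult (⇑Q) hne g₀), mul_inv_cancel_right, mul_inv_cancel]
    · rw [mul_comm (delta Q hne m g₀), mul_inv_cancel_right, mul_inv_cancel]
  · have hval : (g₀ * r * g₀⁻¹ * r⁻¹).1 =
        g₀.1 * (reflG Q v hv).1 * g₀.1⁻¹ * (reflG Q v hv).1⁻¹ := rfl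
    rw [hval]
    exact comm_refl_not_mem Q hne hQ h2 hc2 g₀ hg₀ v hv

omit [Fintype F] [DecidableEq F] in
theorem exists_normal_sub : ∃ N' : Subgroup ↥(DD Q m hne), N'.Normal ∧
    ∀ s : ↥(DD Q m hne), s ∈ N' ↔ Phi (⇑Q) s.1 ∈ Cfsg.Inn (Cfsg.POmega F ⇑Q) := by
  have hInn := inn_normal (Cfsg.POmega F ⇑Q)
  have h1 : ((Cfsg.Inn (Cfsg.POmega F ⇑Q)).comap (Phi ⇑Q)).Normal := Subgroup.Normal.comap hInn _
  refine ⟨((Cfsg.Inn (Cfsg.POmega F ⇑Q)).comap (Phi ⇑Q)).subgroupOf (DD Q m hne),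
    Subgroup.Normal.subgroupOf h1 _, ?_⟩
  intro s
  rw [Subgroup.mem_subgroupOf, Subgroup.mem_comap]

include hQ h2 hm hcard in
/-- the quotient of order four when `-1 ∈ Ω`: cyclic or Klein according to whether `g₀²` is
inner -/
theorem dd_inn_four (hneg : negOne ι F ∈ Cfsg.Geo.omegaGL ⇑Q) (g₀ : ↥(Sim ⇑Q))
    (hg₀ : ¬ IsSquare (mult (⇑Q) hne g₀ : F)) (hd₀ : delta Q hne m g₀ = 1) :
    ((¬ ∃ c : Fˣ, ∃ ω ∈ Cfsg.Geo.omegaGL ⇑Q, g₀.1 * g₀.1 =
        Matrix.GeneralLinearGroup.scalar ι c * ω) →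
      ∃ φ : ↥((DD Q m hne).map (Phi ⇑Q)) →* Multiplicative (ZMod 4), Function.Surjective φ ∧
        φ.ker = (Cfsg.Inn (Cfsg.POmega F ⇑Q)).subgroupOf ((DD Q m hne).map (Phi ⇑Q))) ∧
    ((∃ c : Fˣ, ∃ ω ∈ Cfsg.Geo.omegaGL ⇑Q, g₀.1 * g₀.1 =
        Matrix.GeneralLinearGroup.scalar ι c * ω) →
      ∃ φ : ↥((DD Q m hne).map (Phi ⇑Q)) →* Multiplicative (ZMod 2 × ZMod 2),
        Function.Surjective φ ∧
        φ.ker = (Cfsg.Inn (Cfsg.POmega F ⇑Q)).subgroupOf ((DD Q m hne).map (Phi ⇑Q))) := by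
  have hker := ker_Phi_main Q hQ h2 m hm hcard
  have hc2 : 2 ≤ Fintype.card ι := by omega
  obtain ⟨z₀, hz₀so, hz₀not⟩ := exists_z0 Q hQ h2 m hm hcard hne g₀ hg₀
  have hz₀D : z₀ ∈ DD Q m hne := (mem_DD Q m hne z₀).2 ((mem_sO_iff' Q hne m z₀).1 hz₀so).2
  -- membership in the preimage of `Inn`
  have hmemN : ∀ g : ↥(Sim ⇑Q), Phi (⇑Q) g ∈ Cfsg.Inn (Cfsg.POmega F ⇑Q) ↔
      ∃ c : Fˣ, ∃ ω ∈ Cfsg.Geo.omegaGL ⇑Q, g.1 = Matrix.GeneralLinearGroup.scalar ι c * ω := by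
    intro g
    rw [← mem_comap_map Q hker, ← inn_eq, Subgroup.mem_comap]
  obtain ⟨N', hN'n, hN'mem⟩ := exists_normal_sub Q m hne
  have hN'le : N' ≤ (psi1 Q m hne).ker := by
    intro s hs
    rw [hN'mem, hmemN] at hs
    obtain ⟨c, ω, hω, hsc⟩ := hs
    rw [MonoidHom.mem_ker, psi1_eq_one_iff Q hQ h2 m hcard hne]
    exact ⟨c, ω, omegaGL_le_sO Q hQ h2 hc2 hω, hsc⟩
  have hg₀D : g₀ ∈ DD Q m hne := (mem_DD Q m hne g₀).2 hd₀
  have hq := quot_four N' (psi1 Q m hne) (psi1_surjective Q m hne g₀ hg₀ hd₀) hN'le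
    ⟨z₀, hz₀D⟩ ⟨g₀, hg₀D⟩
    (by
      rw [psi1_eq_one_iff Q hQ h2 m hcard hne]
      exact ⟨1, z₀.1, hz₀so, by rw [map_one, one_mul]⟩)
    (by
      intro h
      rw [hN'mem, hmemN] at h
      obtain ⟨c, ω, hω, hzc⟩ := h
      apply hz₀not
      have hzc' : z₀.1 = Matrix.GeneralLinearGroup.scalar ι c * ω := hzc
      rw [hzc']
      apply scalar_mul_mem Q hQ h2 m hm hcard hne hneg c ω hω
      rw [← hzc']
      exact hz₀so)
    (by
      intro s hs
      rw [psi1_eq_one_iff Q hQ h2 m hcard hne] at hs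
      obtain ⟨c, h, hh, hsc⟩ := hs
      by_cases h1 : h ∈ Cfsg.Geo.omegaGL ⇑Q
      · left
        rw [hN'mem, hmemN]
        exact ⟨c, h, h1, hsc⟩
      · right
        rw [hN'mem, hmemN]
        refine ⟨c, h * z₀.1⁻¹, ?_, ?_⟩
        · rw [mul_mem_omegaGL_iff Q hQ h2 hc2 _ _ hh (inv_mem hz₀so)]
          constructor
          · intro h3; exact absurd h3 h1
          · intro h3
            exact absurd (by simpa using inv_mem h3) hz₀not
        · show s.1.1 * z₀.1⁻¹ = _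
          rw [hsc, mul_assoc])
    (by
      unfold psi1
      rw [MonoidHom.comp_apply, MonoidHom.comp_apply]
      rcases Int.units_eq_one_or ((quadraticChar F).toUnitHom (mult (⇑Q) hne g₀)) with h | h
      · exact absurd ((qc_eq_one_iff _).1 h) hg₀
      · exact h)
  have hsq : (⟨g₀, hg₀D⟩ : ↥(DD Q m hne)) * ⟨g₀, hg₀D⟩ ∈ N' ↔
      ∃ c : Fˣ, ∃ ω ∈ Cfsg.Geo.omegaGL ⇑Q, g₀.1 * g₀.1 =
        Matrix.GeneralLinearGroup.scalar ι c * ω := by
    rw [hN'mem, hmemN]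
    rfl
  constructor
  · intro hns
    obtain ⟨e⟩ := hq.1 (fun h => hns (hsq.1 h))
    exact hom_of_quot_iso (Phi ⇑Q) (DD Q m hne) N' _ _ rfl
      (inn_le_DD_map Q hQ h2 m hm hcard hne) hN'mem e
  · intro hs
    obtain ⟨e⟩ := hq.2 (hsq.2 hs)
    exact hom_of_quot_iso (Phi ⇑Q) (DD Q m hne) N' _ _ rfl
      (inn_le_DD_map Q hQ h2 m hm hcard hne) hN'mem e

end main

end Cfsg.Agent.Lib.H11.ConfOrth
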