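import Cfsg.Agent.Lib.H11.ConfOrth8
import Cfsg.Agent.S0790

/-!
# Conformal orthogonal groups (part 9): the plus-type form
-/

set_option autoImplicit false

namespace Cfsg.Agent.Lib.H11.ConfOrth

open Matrix
open scoped MatrixGroups
open Cfsg.Agent.Lib.H13

section arith

theorem odd_mod_four {q : ℕ} (hq : Odd q) : q % 4 = 1 ∨ q % 4 = 3 := by
  obtain ⟨k, rfl⟩ := hq
  omega

theorem three_pow_mod_four (m : ℕ) : 3 ^ m % 4 = if Even m then 1 else 3 := by
  induction m with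
  | zero => simp
  | succ k ih =>
    rw [pow_succ, Nat.mul_mod, ih]
    by_cases hk : Even k
    · have : ¬ Even (k + 1) := by
        rw [Nat.even_add_one]; exact not_not.2 hk
      rw [if_pos hk, if_neg this]
    · have : Even (k + 1) := by
        rw [Nat.even_add_one]; exact hk
      rw [if_neg hk, if_pos this]

theorem pow_mod_four_eq_one_iff {q : ℕ} (hq : Odd q) (m : ℕ) :
    q ^ m % 4 = 1 ↔ ¬ (Odd m ∧ q % 4 = 3) := by
  rw [Nat.pow_mod]
  rcases odd_mod_four hq with h | h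
  · rw [h, one_pow]
    constructor
    · intro _ h'; omega
    · intro _; rfl
  · rw [h, three_pow_mod_four]
    by_cases hm : Even m
    · rw [if_pos hm]
      constructor
      · intro _ h'
        exact (Nat.not_odd_iff_even.2 hm) h'.1
      · intro _; rfl
    · rw [if_neg hm]
      constructor
      · intro h'; omega
      · intro h'
        exact absurd ⟨Nat.not_even_iff_odd.1 hm, rfl⟩ h'

theorem pow_succ_mod_four_eq_three_iff {q : ℕ} (hq : Odd q) (m : ℕ) :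
    q ^ (m + 1) % 4 = 3 ↔ (Even m ∧ q % 4 = 3) := by
  rw [Nat.pow_mod]
  rcases odd_mod_four hq with h | h
  · rw [h, one_pow]
    constructor
    · intro h'; omega
    · intro h'; omega
  · rw [h, three_pow_mod_four]
    by_cases hm : Even m
    · have : ¬ Even (m + 1) := by
        rw [Nat.even_add_one]; exact not_not.2 hm
      rw [if_neg this]
      exact ⟨fun _ => ⟨hm, rfl⟩, fun _ => rfl⟩
    · have : Even (m + 1) := by
        rw [Nat.even_add_one]; exact hm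
      rw [if_pos this]
      constructor
      · intro h'; omega
      · intro h'; exact absurd h'.1 hm

end arith

section gen

variable {F : Type*} [Field F] {ι : Type} [Fintype ι] [DecidableEq ι] (Q : (ι → F) → F)

theorem negOne_val : ((negOne ι F : GL ι F) : Matrix ι ι F) = -1 := by
  unfold negOne
  rw [Matrix.GeneralLinearGroup.coe_scalar]
  ext i j
  by_cases h : i = j <;> simp [h, Matrix.scalar_apply]

/-- `-1 ∈ Ω` in the two formulations -/
theorem negOne_mem_iff : negOne ι F ∈ Cfsg.Geo.omegaGL Q ↔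
    ∃ g : ↥(Cfsg.isometryGroup F Q), g ∈ Cfsg.Omega F Q ∧
      ((g : GL ι F) : Matrix ι ι F) = -1 := by
  constructor
  · rintro ⟨g, hg, hgv⟩
    refine ⟨g, hg, ?_⟩
    have : (g : GL ι F) = negOne ι F := hgv
    rw [this, negOne_val]
  · rintro ⟨g, hg, hgv⟩
    refine ⟨g, hg, ?_⟩
    apply Units.ext
    show ((g : GL ι F) : Matrix ι ι F) = _
    rw [hgv, negOne_val]

end gen

section plus

variable {F : Type*} [Field F] {m : ℕ}

/-- the similarity `diag(ν, …, ν, 1, …, 1)` of the plus-type form -/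
noncomputable def dPlus (ν : Fˣ) : GL (Fin m ⊕ Fin m) F :=
  ⟨Matrix.diagonal (Sum.elim (fun _ => (ν : F)) (fun _ => 1)),
    Matrix.diagonal (Sum.elim (fun _ => ((ν⁻¹ : Fˣ) : F)) (fun _ => 1)),
    by
      rw [Matrix.diagonal_mul_diagonal, ← Matrix.diagonal_one]
      congr 1
      funext k
      rcases k with k | k <;> simp,
    by
      rw [Matrix.diagonal_mul_diagonal, ← Matrix.diagonal_one]
      congr 1
      funext k
      rcases k with k | k <;> simp⟩

theorem dPlus_val (ν : Fˣ) : ((dPlus ν : GL (Fin m ⊕ Fin m) F) : Matrix (Fin m ⊕ Fin m) (Fin m ⊕ Fin m) F) =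
    Matrix.diagonal (Sum.elim (fun _ => (ν : F)) (fun _ => 1)) := rfl

theorem dPlus_Q (ν : Fˣ) (x : Fin m ⊕ Fin m → F) :
    plusQF F m (((dPlus ν : GL (Fin m ⊕ Fin m) F) : Matrix (Fin m ⊕ Fin m) (Fin m ⊕ Fin m) F) *ᵥ x) =
      (ν : F) * plusQF F m x := by
  rw [plusQF_apply, plusQF_apply, dPlus_val]
  unfold Cfsg.quadFormPlus
  rw [Finset.mul_sum]
  apply Finset.sum_congr rfl
  intro i _
  rw [Matrix.mulVec_diagonal, Matrix.mulVec_diagonal]
  simp only [Sum.elim_inl, Sum.elim_inr]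
  ring

theorem dPlus_mem (ν : Fˣ) : (dPlus ν : GL (Fin m ⊕ Fin m) F) ∈ Sim ⇑(plusQF F m) :=
  ⟨ν, fun v => dPlus_Q ν v⟩

theorem dPlus_mult (hne : ∃ v, plusQF F m v ≠ 0) (ν : Fˣ) :
    mult (⇑(plusQF F m)) hne ⟨dPlus ν, dPlus_mem ν⟩ = ν :=
  mult_eq _ hne _ ν (fun v => dPlus_Q ν v)

theorem dPlus_det (ν : Fˣ) :
    ((dPlus ν : GL (Fin m ⊕ Fin m) F) : Matrix (Fin m ⊕ Fin m) (Fin m ⊕ Fin m) F).det = (ν : F) ^ m := by
  rw [dPlus_val, Matrix.det_diagonal, Fintype.prod_sum_type]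
  simp

theorem dPlus_delta (hne : ∃ v, plusQF F m v ≠ 0) (ν : Fˣ) :
    delta (plusQF F m) hne m ⟨dPlus ν, dPlus_mem ν⟩ = 1 := by
  rw [delta_eq_one_iff, dPlus_mult, dPlus_det]

variable [Fintype F]

/-- the criterion for `-1 ∈ Ω⁺` -/
theorem negOne_mem_plus_iff {q : ℕ} (hF : Fintype.card F = q) (hodd : Odd q) (hm : 1 ≤ m) :
    negOne (Fin m ⊕ Fin m) F ∈ Cfsg.Geo.omegaGL ⇑(plusQF F m) ↔ q ^ m % 4 = 1 := by
  rw [negOne_mem_iff, Cfsg.Agent.S0287.coe_plusQF]
  exact Cfsg.Agent.S0790.result hF hodd m hm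

theorem exists_nonsquare_unit (h2 : (2 : F) ≠ 0) : ∃ ν : Fˣ, ¬ IsSquare (ν : F) := by
  classical
  obtain ⟨a, ha⟩ := FiniteField.exists_nonsquare (F := F)
    (Cfsg.Agent.Lib.H13.OmegaCrit.ringChar_ne_two' h2)
  have ha0 : a ≠ 0 := by
    rintro rfl
    exact ha ⟨0, by simp⟩
  exact ⟨Units.mk0 a ha0, ha⟩

theorem card_plus : Fintype.card (Fin m ⊕ Fin m) = 2 * m := by
  rw [Fintype.card_sum, Fintype.card_fin]; ring

variable [DecidableEq F]

theorem plus_pgo_pso (hodd : Odd (Fintype.card F)) (hm : 4 ≤ m) :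
    ∃ φ : ↥(Cfsg.pgoAut F ⇑(plusQF F m)) →* Multiplicative (ZMod 2 × ZMod 2),
      Function.Surjective φ ∧
      φ.ker = (Cfsg.psoAut F ⇑(plusQF F m)).subgroupOf (Cfsg.pgoAut F ⇑(plusQF F m)) := by
  have h2 : (2 : F) ≠ 0 := Cfsg.Agent.Lib.H13.HypPairs.two_ne_zero_of_odd_card rfl hodd
  have hQ := Cfsg.Agent.S0287.nondeg (F := F) m
  have hne := exists_ne_of_nondeg (plusQF F m) hQ (by rw [card_plus]; omega)
  obtain ⟨ν, hν⟩ := exists_nonsquare_unit (F := F) h2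
  exact pgo_pso (plusQF F m) hQ h2 m hm card_plus hne ⟨dPlus ν, dPlus_mem ν⟩
    (by rw [dPlus_mult]; exact hν) (dPlus_delta hne ν)

theorem plus_relIndex (hodd : Odd (Fintype.card F)) (hm : 4 ≤ m) :
    ((Odd m ∧ Fintype.card F % 4 = 3) →
      (Cfsg.Inn (Cfsg.POmega F ⇑(plusQF F m))).relIndex (Cfsg.psoAut F ⇑(plusQF F m)) = 1) ∧
    (¬ (Odd m ∧ Fintype.card F % 4 = 3) →
      (Cfsg.Inn (Cfsg.POmega F ⇑(plusQF F m))).relIndex (Cfsg.psoAut F ⇑(plusQF F m)) = 2) := by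
  have h2 : (2 : F) ≠ 0 := Cfsg.Agent.Lib.H13.HypPairs.two_ne_zero_of_odd_card rfl hodd
  have hQ := Cfsg.Agent.S0287.nondeg (F := F) m
  have hne := exists_ne_of_nondeg (plusQF F m) hQ (by rw [card_plus]; omega)
  obtain ⟨ν, hν⟩ := exists_nonsquare_unit (F := F) h2
  have hcrit := negOne_mem_plus_iff (F := F) (m := m) rfl hodd (by omega)
  rw [pow_mod_four_eq_one_iff hodd] at hcrit
  constructor
  · intro h
    exact relIndex_eq_one (plusQF F m) hQ h2 m hm card_plus hne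
      (fun h' => (hcrit.1 h') h) ⟨dPlus ν, dPlus_mem ν⟩
      (by rw [dPlus_mult]; exact hν) (dPlus_delta hne ν)
  · intro h
    exact relIndex_eq_two (plusQF F m) hQ h2 m hm card_plus hne
      (hcrit.2 h) ⟨dPlus ν, dPlus_mem ν⟩
      (by rw [dPlus_mult]; exact hν) (dPlus_delta hne ν)

theorem plus_pgo_inn (hodd : Odd (Fintype.card F)) (hm : 4 ≤ m) :
    ((Odd m ∧ Fintype.card F % 4 = 3) →
      (∃ φ : ↥(Cfsg.pgoAut F ⇑(plusQF F m)) →* Multiplicative (ZMod 2 × ZMod 2),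
        Function.Surjective φ ∧ φ.ker = (Cfsg.Inn (Cfsg.POmega F ⇑(plusQF F m))).subgroupOf
          (Cfsg.pgoAut F ⇑(plusQF F m)))) ∧
    (¬ (Odd m ∧ Fintype.card F % 4 = 3) →
      (∃ φ : ↥(Cfsg.pgoAut F ⇑(plusQF F m)) →* DihedralGroup 4,
        Function.Surjective φ ∧ φ.ker = (Cfsg.Inn (Cfsg.POmega F ⇑(plusQF F m))).subgroupOf
          (Cfsg.pgoAut F ⇑(plusQF F m)))) := by
  have h2 : (2 : F) ≠ 0 := Cfsg.Agent.Lib.H13.HypPairs.two_ne_zero_of_odd_card rfl hodd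
  have hQ := Cfsg.Agent.S0287.nondeg (F := F) m
  have hne := exists_ne_of_nondeg (plusQF F m) hQ (by rw [card_plus]; omega)
  obtain ⟨ν, hν⟩ := exists_nonsquare_unit (F := F) h2
  have hcrit := negOne_mem_plus_iff (F := F) (m := m) rfl hodd (by omega)
  rw [pow_mod_four_eq_one_iff hodd] at hcrit
  constructor
  · intro h
    exact pgo_inn_klein (plusQF F m) hQ h2 m hm card_plus hne
      (fun h' => (hcrit.1 h') h) ⟨dPlus ν, dPlus_mem ν⟩
      (by rw [dPlus_mult]; exact hν) (dPlus_delta hne ν)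
  · intro h
    exact pgo_inn_d4 (plusQF F m) hQ h2 m hm card_plus hne
      (hcrit.2 h) ⟨dPlus ν, dPlus_mem ν⟩
      (by rw [dPlus_mult]; exact hν) (dPlus_delta hne ν)

end plus

end Cfsg.Agent.Lib.H11.ConfOrth
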