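import Cfsg.Agent.Lib.H11.ConfOrth11
import Cfsg.Agent.Lib.H11.ConfOrth9
import Cfsg.Agent.S0750

/-!
# Conformal orthogonal groups (part 12): similarities preserving the classes of maximal totally
singular subspaces (plus type)
-/

set_option autoImplicit false

namespace Cfsg.Agent.Lib.H11.ConfOrth

open Matrix Module
open scoped MatrixGroups
open Cfsg.Agent.Lib.H13 Cfsg.Agent.Lib.H13.PlusTS Cfsg.Agent.Lib.H13.MaxTS
open Cfsg.Agent.Lib.H13.HypPairs

variable {F : Type*} [Field F] {m : ℕ}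

local notation "KK" => (Fin m ⊕ Fin m)

/-- `U0` is a maximal totally singular subspace -/
theorem U0_isMax : Cfsg.IsMaxTotallySingular (⇑(plusQF F m)) (U0 F m) := by
  refine ⟨fun w hw => U0_ts w hw, ?_⟩
  intro W hW hle
  apply le_antisymm
  · intro w hw
    apply U0_perp
    intro u hu
    exact polar_eq_zero_of_ts (plusQF F m) W hW u w (hle hu) hw
  · exact hle

theorem single_inl_mem_U0 (j : Fin m) : (Pi.single (Sum.inl j) (1 : F) : KK → F) ∈ U0 F m := by
  rw [mem_U0_iff]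
  funext i
  simp

/-- maximal totally singular subspaces have dimension `m` -/
theorem finrank_of_isMax [Finite F] (U : Submodule F (KK → F))
    (hU : Cfsg.IsMaxTotallySingular (⇑(plusQF F m)) U) : finrank F U = m := by
  classical
  have hQ := Cfsg.Agent.S0287.nondeg (F := F) m
  have hU0 : ∀ u ∈ U, plusQF F m u = 0 := hU.1
  -- `finrank U ≤ m`
  have hk : finrank F U ≤ m := by
    have hle : U ≤ LinearMap.BilinForm.orthogonal (QuadraticMap.polarBilin (plusQF F m)) U := by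
      intro x hx
      rw [LinearMap.BilinForm.mem_orthogonal_iff]
      intro w hw
      show QuadraticMap.polar (⇑(plusQF F m)) w x = 0
      exact polar_eq_zero_of_ts (plusQF F m) U hU0 w x hw hx
    have hfr := LinearMap.BilinForm.finrank_orthogonal hQ U
    rw [Module.finrank_fintype_fun_eq_card, Fintype.card_sum, Fintype.card_fin] at hfr
    have := Submodule.finrank_mono hle
    omega
  set k := finrank F U with hkdef
  let b := Module.finBasis F U
  let x : Fin k → (KK → F) := fun i => ((b i : U) : KK → F)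
  let y : Fin k → (KK → F) := fun i => Pi.single (Sum.inl (Fin.castLE hk i)) 1
  have hx : LinearIndependent F x := by
    have := b.linearIndependent.map' U.subtype (Submodule.ker_subtype U)
    exact this
  have hy : LinearIndependent F y := by
    have h1 := (Pi.basisFun F KK).linearIndependent.comp
      (fun i : Fin k => (Sum.inl (Fin.castLE hk i) : KK))
      (fun i j hij => Fin.castLE_injective hk (Sum.inl_injective hij))
    have h3 : (⇑(Pi.basisFun F KK) ∘ fun i : Fin k => (Sum.inl (Fin.castLE hk i) : KK)) = y := by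
      funext i
      simp only [Function.comp_apply, Pi.basisFun_apply]
      rfl
    rwa [h3] at h1
  have hyU0 : ∀ i, y i ∈ U0 F m := fun i => single_inl_mem_U0 _
  have hxU : ∀ i, x i ∈ U := fun i => (b i).2
  obtain ⟨g, hgQ, hgx⟩ := Cfsg.Agent.S0750.witt_family (plusQF F m) hQ k x y hx hy
    (fun i => by rw [U0_ts _ (hyU0 i), hU0 _ (hxU i)])
    (fun i j => by
      rw [polar_eq_zero_of_ts (plusQF F m) (U0 F m) U0_ts _ _ (hyU0 i) (hyU0 j),
        polar_eq_zero_of_ts (plusQF F m) U hU0 _ _ (hxU i) (hxU j)])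
  -- the subspace `g⁻¹ U0`
  set W : Submodule F (KK → F) := (U0 F m).map (g.symm : (KK → F) →ₗ[F] (KK → F)) with hW
  have hWts : Cfsg.Geo.IsTotallySingularQuad (⇑(plusQF F m)) W := by
    rintro _ ⟨w, hw, rfl⟩
    have h1 := hgQ (g.symm w)
    rw [LinearEquiv.apply_symm_apply] at h1
    show plusQF F m (g.symm w) = 0
    rw [← h1]
    exact U0_ts w hw
  have hUW : U ≤ W := by
    intro u hu
    refine ⟨g u, ?_, g.symm_apply_apply u⟩
    have h1 := b.sum_repr ⟨u, hu⟩
    have h3 : u = ∑ i, (b.repr ⟨u, hu⟩ i) • x i := by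
      have := congrArg (fun t : U => (t : KK → F)) h1
      simp only [Submodule.coe_sum, Submodule.coe_smul] at this
      exact this.symm
    rw [h3, map_sum]
    apply Submodule.sum_mem
    intro i _
    rw [map_smul, hgx]
    exact Submodule.smul_mem _ _ (hyU0 i)
  have hWU := hU.2 W hWts hUW
  have h5 : finrank F W = m := by
    rw [hW, LinearEquiv.finrank_map_eq, finrank_U0]
  rw [hkdef, ← hWU]
  exact h5


section chain

variable {ι : Type} [Fintype ι] [DecidableEq ι]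

theorem finrank_inf_map (x : GL ι F) (U W : Submodule F (ι → F)) :
    finrank F ↥(U.map (Matrix.mulVecLin (x : Matrix ι ι F)) ⊓
      W.map (Matrix.mulVecLin (x : Matrix ι ι F))) = finrank F ↥(U ⊓ W) := by
  rw [← toEquiv_coe x, ← Submodule.map_inf _ (Cfsg.Agent.Lib.H13.Char2Mat.toEquiv x).injective]
  exact LinearEquiv.finrank_map_eq _ _

theorem map_mul_GL (x y : GL ι F) (U : Submodule F (ι → F)) :
    U.map (Matrix.mulVecLin ((x * y : GL ι F) : Matrix ι ι F)) =
      (U.map (Matrix.mulVecLin (y : Matrix ι ι F))).map (Matrix.mulVecLin (x : Matrix ι ι F)) := by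
  rw [Units.val_mul, Matrix.mulVecLin_mul, Submodule.map_comp]

end chain

/-- `diag(τ, 1)` fixes `U0` -/
theorem dPlus_U0 (τ : Fˣ) :
    (U0 F m).map (Matrix.mulVecLin ((dPlus τ : GL KK F) : Matrix KK KK F)) = U0 F m := by
  apply Submodule.eq_of_le_of_finrank_eq
  · rintro _ ⟨u, hu, rfl⟩
    rw [SetLike.mem_coe, mem_U0_iff] at hu
    rw [mem_U0_iff]
    funext i
    show (((dPlus τ : GL KK F) : Matrix KK KK F) *ᵥ u) (Sum.inr i) = 0
    rw [dPlus_val, Matrix.mulVec_diagonal]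
    have := congrFun hu i
    simp only [Function.comp_apply, Pi.zero_apply] at this
    simp [this]
  · rw [← toEquiv_coe]
    exact LinearEquiv.finrank_map_eq _ _

variable [Fintype F]

omit [Fintype F] in
/-- the parity of `U ∩ gU` for a similarity `g` and a maximal totally singular subspace `U` -/
theorem parity_sim (h2 : (2 : F) ≠ 0) (hne : ∃ v, plusQF F m v ≠ 0)
    (g : ↥(Sim ⇑(plusQF F m))) (U : Submodule F (KK → F)) (hU : ∀ u ∈ U, plusQF F m u = 0)
    (hfr : finrank F U = m) :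
    Even (m - finrank F ↥(U ⊓ U.map (Matrix.mulVecLin ((g.1 : GL KK F) : Matrix KK KK F)))) ↔
      delta (plusQF F m) hne m g = 1 := by
  obtain ⟨vs, hvs, -, hmap⟩ := Cfsg.Agent.Lib.H13.MaxTS.exists_refl_list (plusQF F m) (U0 F m) U0_ts U0_perp _ U hU
    (by rw [hfr, finrank_U0]) rfl
  have hvs' : ∀ v ∈ vs, plusQF F m v ≠ 0 := fun v hv => by rw [hvs v hv]; exact one_ne_zero
  obtain ⟨h, hh⟩ := exists_of_list (plusQF F m) vs hvs'
  obtain ⟨hS, hhS⟩ : ∃ hS : ↥(Sim ⇑(plusQF F m)), hS.1 = h.1 := ⟨oS _ h.1 h.2, rfl⟩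
  have hhU : U.map (Matrix.mulVecLin ((hS.1 : GL KK F) : Matrix KK KK F)) = U0 F m := by
    rw [hhS, hh]; exact hmap
  obtain ⟨τ, hτ⟩ : ∃ τ : Fˣ, τ = mult (⇑(plusQF F m)) hne g := ⟨_, rfl⟩
  obtain ⟨d, hd⟩ : ∃ d : ↥(Sim ⇑(plusQF F m)), d.1 = dPlus τ := ⟨⟨dPlus τ, dPlus_mem τ⟩, rfl⟩
  have hdm : mult (⇑(plusQF F m)) hne d = τ := by
    have : d = ⟨dPlus τ, dPlus_mem τ⟩ := Subtype.ext hd
    rw [this, dPlus_mult]
  have hdd : delta (plusQF F m) hne m d = 1 := by
    have : d = ⟨dPlus τ, dPlus_mem τ⟩ := Subtype.ext hd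
    rw [this, dPlus_delta]
  obtain ⟨g'', hg''⟩ : ∃ g'' : ↥(Sim ⇑(plusQF F m)), g'' = hS * g * hS⁻¹ := ⟨_, rfl⟩
  obtain ⟨h', hh'⟩ : ∃ h' : ↥(Sim ⇑(plusQF F m)), h' = d⁻¹ * g'' := ⟨_, rfl⟩
  have hm1 : mult (⇑(plusQF F m)) hne h' = 1 := by
    rw [hh', hg'', map_mul, map_mul, map_mul, map_inv, map_inv, hdm, hτ,
      mul_comm (mult (⇑(plusQF F m)) hne hS), mul_inv_cancel_right, inv_mul_cancel]
  have hd1 : delta (plusQF F m) hne m h' = delta (plusQF F m) hne m g := by
    rw [hh', hg'', map_mul, map_mul, map_mul, map_inv, map_inv, hdd, inv_one, one_mul,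
      mul_comm (delta (plusQF F m) hne m hS), mul_inv_cancel_right]
  have hh'O : h'.1 ∈ Cfsg.isometryGroup F ⇑(plusQF F m) := (mult_eq_one_iff _ hne h').1 hm1
  have hh'O' : h'.1 ∈ Cfsg.isometryGroup F (Cfsg.quadFormPlus m F) := by
    rw [← Cfsg.Agent.S0287.coe_plusQF]; exact hh'O
  have hdet : delta (plusQF F m) hne m h' = 1 ↔ ((h'.1 : GL KK F) : Matrix KK KK F).det = 1 := by
    rw [delta_eq_one_iff, hm1, Units.val_one, one_pow]
  -- the dimensions
  have hkey : finrank F ↥(U ⊓ U.map (Matrix.mulVecLin ((g.1 : GL KK F) : Matrix KK KK F))) =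
      finrank F ↥(U0 F m ⊓ (U0 F m).map
        (Matrix.mulVecLin ((h'.1 : GL KK F) : Matrix KK KK F))) := by
    rw [← finrank_inf_map hS.1 U, ← map_mul_GL, hhU]
    have h5 : hS.1 * g.1 = (d.1 * h'.1) * hS.1 := by
      rw [← Subgroup.coe_mul, ← Subgroup.coe_mul, ← Subgroup.coe_mul, hh', hg'']
      congr 1
      group
    rw [h5, map_mul_GL, hhU, map_mul_GL, hd]
    have h6 : U0 F m ⊓ ((U0 F m).map (Matrix.mulVecLin ((h'.1 : GL KK F) : Matrix KK KK F))).map
        (Matrix.mulVecLin ((dPlus τ : GL KK F) : Matrix KK KK F)) =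
        (U0 F m).map (Matrix.mulVecLin ((dPlus τ : GL KK F) : Matrix KK KK F)) ⊓
        ((U0 F m).map (Matrix.mulVecLin ((h'.1 : GL KK F) : Matrix KK KK F))).map
        (Matrix.mulVecLin ((dPlus τ : GL KK F) : Matrix KK KK F)) := by
      rw [dPlus_U0]
    rw [h6, finrank_inf_map]
  rw [hkey, ← hd1, hdet]
  exact even_iff_det h2 ⟨h'.1, hh'O'⟩

omit [Fintype F] in
/-- a similarity preserves the two classes iff `det g = τ(g) ^ m` -/
theorem pres_iff [Finite F] (h2 : (2 : F) ≠ 0) (hne : ∃ v, plusQF F m v ≠ 0)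
    (g : ↥(Sim ⇑(plusQF F m))) :
    Cfsg.PreservesSingularClasses (⇑(plusQF F m)) ((g.1 : GL KK F) : Matrix KK KK F) ↔
      delta (plusQF F m) hne m g = 1 := by
  unfold Cfsg.PreservesSingularClasses Cfsg.SameParityClass Cfsg.imageSubmodule
  rw [Matrix.toLin'_apply']
  constructor
  · intro h
    have h1 := h (U0 F m) U0_isMax
    rw [finrank_U0] at h1
    exact (parity_sim h2 hne g (U0 F m) U0_ts finrank_U0).1 h1
  · intro h U hU
    have hfr := finrank_of_isMax U hU
    rw [hfr]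
    exact (parity_sim h2 hne g U hU.1 hfr).2 h


/-! ### the square of `diag(ν, 1)` -/

open Cfsg.Agent.Lib.H13.PlusLevi in
omit [Fintype F] in
theorem dPlus_sq (ν : Fˣ) : (dPlus ν : GL KK F) * dPlus ν =
    Matrix.GeneralLinearGroup.scalar KK ν *
      (levi (Matrix.GeneralLinearGroup.scalar (Fin m) ν)).1 := by
  apply Units.ext
  rw [Units.val_mul, Units.val_mul, dPlus_val, levi_val, Matrix.GeneralLinearGroup.coe_scalar]
  unfold leviM
  rw [← map_inv, Matrix.GeneralLinearGroup.coe_scalar, Matrix.GeneralLinearGroup.coe_scalar]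
  have h1 : (Matrix.scalar (Fin m)) (ν : F) = Matrix.diagonal (fun _ => (ν : F)) := rfl
  have h3 : (Matrix.scalar (Fin m)) ((ν⁻¹ : Fˣ) : F) = Matrix.diagonal (fun _ => ((ν⁻¹ : Fˣ) : F)) :=
    rfl
  have h4 : (Matrix.scalar KK) (ν : F) = Matrix.diagonal (fun _ => (ν : F)) := rfl
  rw [h1, h3, h4, Matrix.diagonal_transpose, Matrix.fromBlocks_diagonal,
    Matrix.diagonal_mul_diagonal, Matrix.diagonal_mul_diagonal]
  congr 1
  funext k
  rcases k with k | k <;> simp

open Cfsg.Agent.Lib.H13.PlusLevi in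
theorem levi_scalar_mem_iff (hm : 3 ≤ m) (ν : Fˣ) (hν : ¬ IsSquare (ν : F)) :
    ((levi (Matrix.GeneralLinearGroup.scalar (Fin m) ν)).1 : GL KK F) ∈
      Cfsg.Geo.omegaGL ⇑(plusQF F m) ↔ Even m := by
  have hmem : ((levi (Matrix.GeneralLinearGroup.scalar (Fin m) ν)).1 : GL KK F) ∈
      Cfsg.Geo.omegaGL ⇑(plusQF F m) ↔
      levi (Matrix.GeneralLinearGroup.scalar (Fin m) ν) ∈ Cfsg.Omega F ⇑(plusQF F m) := by
    rw [mem_omegaGL_iff]
    exact ⟨fun ⟨_, h⟩ => h, fun h => ⟨(levi _).2, h⟩⟩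
  rw [hmem, levi_mem_iff (by omega) (Or.inr (by omega))]
  have hdet : ((Matrix.GeneralLinearGroup.scalar (Fin m) ν : GL (Fin m) F) :
      Matrix (Fin m) (Fin m) F).det = (ν : F) ^ m := by
    have := congrArg Units.val (Matrix.GeneralLinearGroup.det_scalar (n := Fin m) ν)
    rw [Matrix.GeneralLinearGroup.val_det_apply, Units.val_pow_eq_pow_val, Fintype.card_fin] at this
    exact this
  rw [hdet]
  constructor
  · intro h
    by_contra hodd
    rw [Nat.not_even_iff_odd] at hodd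
    obtain ⟨k, rfl⟩ := hodd
    apply hν
    have hk0 : ((ν : F) ^ k) * ((ν : F) ^ k) ≠ 0 :=
      mul_ne_zero (pow_ne_zero _ (Units.ne_zero ν)) (pow_ne_zero _ (Units.ne_zero ν))
    have h5 : (ν : F) ^ (2 * k + 1) = (ν : F) * (((ν : F) ^ k) * ((ν : F) ^ k)) := by ring
    rw [h5, isSquare_mul_iff _ _ (Units.ne_zero ν) hk0] at h
    exact h.2 ⟨_, rfl⟩
  · intro h
    exact h.isSquare_pow _

section variant

variable {ι : Type} [Fintype ι] [DecidableEq ι] (Q : QuadraticForm F (ι → F))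

omit [Fintype F] in
/-- variant of `scalar_mul_mem` for the full isometry group -/
theorem scalar_mul_mem' (hne : ∃ v, Q v ≠ 0) (hneg : negOne ι F ∈ Cfsg.Geo.omegaGL ⇑Q) (c : Fˣ) (ω : GL ι F)
    (hω : ω ∈ Cfsg.Geo.omegaGL ⇑Q)
    (hc : Matrix.GeneralLinearGroup.scalar ι c * ω ∈ Cfsg.isometryGroup F ⇑Q) :
    Matrix.GeneralLinearGroup.scalar ι c * ω ∈ Cfsg.Geo.omegaGL ⇑Q := by
  have hωs := omegaGL_le_iso ⇑Q hω
  have h1 : Matrix.GeneralLinearGroup.scalar ι c ∈ Cfsg.isometryGroup F ⇑Q := by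
    have := mul_mem hc (inv_mem hωs)
    rwa [mul_inv_cancel_right] at this
  have h3 := (mult_eq_one_iff (⇑Q) hne (zS Q c)).2 h1
  rw [mult_zS] at h3
  have h4 : (c : F) * (c : F) = 1 := by
    have := congrArg Units.val h3
    rwa [Units.val_pow_eq_pow_val, Units.val_one, sq] at this
  rcases mul_self_eq_one_iff.1 h4 with h5 | h5
  · have : c = 1 := Units.ext h5
    rw [this, map_one, one_mul]
    exact hω
  · have : c = -1 := by
      apply Units.ext
      rw [h5]; simp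
    rw [this]
    exact mul_mem hneg hω

end variant

/-! ### the final statement -/

open Cfsg.Agent.Lib.H13.PlusLevi in
theorem plus_inndiag_aux [DecidableEq F] (hodd : Odd (Fintype.card F)) (hm : 4 ≤ m)
    (Q₀ : (KK → F) → F) (hQ₀ : ⇑(plusQF F m) = Q₀)
    (A : Subgroup (MulAut (Cfsg.POmega F Q₀)))
    (hA : A = Cfsg.autSubgroupOf (fun β : Cfsg.POmega F Q₀ ≃* Cfsg.POmega F Q₀ =>
      ∃ g : GL KK F, g ∈ Cfsg.Geo.quadSimilarityGroup (F := F) Q₀ ∧
        Cfsg.PreservesSingularClasses Q₀ (g : Matrix KK KK F) ∧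
        Cfsg.IsInducedBySemilinearPOmega Q₀ g (RingEquiv.refl F) β)) :
    ((Odd m ∧ Fintype.card F % 4 = 3) →
      (∃ φ : ↥A →* Multiplicative (ZMod 2), Function.Surjective φ ∧
        φ.ker = (Cfsg.Inn (Cfsg.POmega F Q₀)).subgroupOf A)) ∧
    ((Odd m ∧ Fintype.card F % 4 = 1) →
      (∃ φ : ↥A →* Multiplicative (ZMod 4), Function.Surjective φ ∧
        φ.ker = (Cfsg.Inn (Cfsg.POmega F Q₀)).subgroupOf A)) ∧
    (Even m →
      (∃ φ : ↥A →* Multiplicative (ZMod 2 × ZMod 2), Function.Surjective φ ∧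
        φ.ker = (Cfsg.Inn (Cfsg.POmega F Q₀)).subgroupOf A)) := by
  subst hQ₀
  have h2 : (2 : F) ≠ 0 := Cfsg.Agent.Lib.H13.HypPairs.two_ne_zero_of_odd_card rfl hodd
  have hQ := Cfsg.Agent.S0287.nondeg (F := F) m
  have hne := exists_ne_of_nondeg (plusQF F m) hQ (by rw [card_plus]; omega)
  obtain ⟨ν, hν⟩ := exists_nonsquare_unit (F := F) h2
  have hcrit := negOne_mem_plus_iff (F := F) (m := m) rfl hodd (by omega)
  rw [pow_mod_four_eq_one_iff hodd] at hcrit
  have hAeq : A = (DD (plusQF F m) m hne).map (Phi ⇑(plusQF F m)) := by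
    rw [hA]
    unfold Cfsg.autSubgroupOf
    apply closure_image_eq_map
    intro β
    constructor
    · rintro ⟨g, hg, hpres, hind⟩
      exact ⟨⟨g, hg⟩, (mem_DD _ m hne _).2 ((pres_iff h2 hne ⟨g, hg⟩).1 hpres),
        (induced_iff _ g hg β).1 hind⟩
    · rintro ⟨g, hgD, rfl⟩
      exact ⟨g.1, g.2, (pres_iff h2 hne g).2 ((mem_DD _ m hne _).1 hgD),
        (induced_iff _ g.1 g.2 _).2 rfl⟩
  subst hAeq
  have hg₀m : ¬ IsSquare (mult (⇑(plusQF F m)) hne ⟨dPlus ν, dPlus_mem ν⟩ : F) := by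
    rw [dPlus_mult]; exact hν
  have hsq : (∃ c : Fˣ, ∃ ω ∈ Cfsg.Geo.omegaGL ⇑(plusQF F m),
      (dPlus ν : GL KK F) * dPlus ν = Matrix.GeneralLinearGroup.scalar KK c * ω) ↔
      (Even m ∨ negOne KK F ∉ Cfsg.Geo.omegaGL ⇑(plusQF F m)) := by
    constructor
    · rintro ⟨c, ω, hω, hcω⟩
      by_cases hneg : negOne KK F ∈ Cfsg.Geo.omegaGL ⇑(plusQF F m)
      · left
        rw [← levi_scalar_mem_iff (by omega) ν hν]
        have h5 : ((levi (Matrix.GeneralLinearGroup.scalar (Fin m) ν)).1 : GL KK F) =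
            Matrix.GeneralLinearGroup.scalar KK (ν⁻¹ * c) * ω := by
          rw [dPlus_sq] at hcω
          rw [map_mul, mul_assoc, ← hcω, ← mul_assoc, ← map_mul, inv_mul_cancel, map_one, one_mul]
        rw [h5]
        apply scalar_mul_mem' (plusQF F m) hne hneg _ ω hω
        rw [← h5]
        exact (levi _).2
      · exact Or.inr hneg
    · rintro (he | hneg)
      · exact ⟨ν, _, (levi_scalar_mem_iff (by omega) ν hν).2 he, dPlus_sq ν⟩
      · -- not needed below, but true: `SO = Ω × ⟨-1⟩`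
        have hL : ((levi (Matrix.GeneralLinearGroup.scalar (Fin m) ν)).1 : GL KK F) ∈
            Cfsg.specialIsometryGL F ⇑(plusQF F m) := by
          rw [mem_sO_iff]
          refine ⟨(levi _).2, ?_⟩
          rw [levi_val]
          unfold leviM
          rw [Matrix.det_fromBlocks_zero₂₁, Matrix.det_transpose, ← Matrix.det_mul,
            ← Units.val_mul, mul_inv_cancel, Units.val_one, Matrix.det_one]
        rcases mem_or_neg_mem (plusQF F m) hQ h2 m hm card_plus hne hneg _ hL with h5 | h5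
        · exact ⟨ν, _, h5, dPlus_sq ν⟩
        · refine ⟨ν * (-1), _, h5, ?_⟩
          rw [dPlus_sq, map_mul, mul_assoc, ← mul_assoc (Matrix.GeneralLinearGroup.scalar KK (-1 : Fˣ)),
            ← map_mul]
          simp
  refine ⟨?_, ?_, ?_⟩
  · intro h
    exact dd_inn_z2 (plusQF F m) hQ h2 m hm card_plus hne (fun h' => (hcrit.1 h') h)
      ⟨dPlus ν, dPlus_mem ν⟩ hg₀m (dPlus_delta hne ν)
  · intro h
    have hneg : negOne KK F ∈ Cfsg.Geo.omegaGL ⇑(plusQF F m) :=
      hcrit.2 (fun h' => by omega)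
    apply (dd_inn_four (plusQF F m) hQ h2 m hm card_plus hne hneg
      ⟨dPlus ν, dPlus_mem ν⟩ hg₀m (dPlus_delta hne ν)).1
    intro h'
    rcases hsq.1 h' with h5 | h5
    · exact (Nat.not_even_iff_odd.2 h.1) h5
    · exact h5 hneg
  · intro h
    have hneg : negOne KK F ∈ Cfsg.Geo.omegaGL ⇑(plusQF F m) :=
      hcrit.2 (fun h' => (Nat.not_odd_iff_even.2 h) h'.1)
    exact (dd_inn_four (plusQF F m) hQ h2 m hm card_plus hne hneg
      ⟨dPlus ν, dPlus_mem ν⟩ hg₀m (dPlus_delta hne ν)).2 (hsq.2 (Or.inl h))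

end Cfsg.Agent.Lib.H11.ConfOrth
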