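import Cfsg.Agent.Lib.H11.ConfOrth12
import Cfsg.Agent.Lib.H13.QuadField

/-!
# Conformal orthogonal groups (part 13): similarities of the minus-type form preserving the classes
of maximal totally singular subspaces over a quadratic extension
-/

set_option autoImplicit false

namespace Cfsg.Agent.Lib.H11.ConfOrth

open Matrix Module
open scoped MatrixGroups
open Cfsg.Agent.Lib.H13

section transport

variable {K : Type*} [Field K] {ι ι' : Type} [Fintype ι] [DecidableEq ι] [Fintype ι']
  [DecidableEq ι']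

omit [Fintype ι] [DecidableEq ι] [Fintype ι'] [DecidableEq ι'] in
theorem isMax_transport (Q : (ι → K) → K) (P : (ι' → K) → K) (L : (ι → K) ≃ₗ[K] (ι' → K))
    (hL : ∀ x, P (L x) = Q x) (W : Submodule K (ι' → K)) (hW : Cfsg.IsMaxTotallySingular P W) :
    Cfsg.IsMaxTotallySingular Q (W.map (L.symm : (ι' → K) →ₗ[K] (ι → K))) := by
  refine ⟨?_, ?_⟩
  · rintro _ ⟨w, hw, rfl⟩
    show Q (L.symm w) = 0
    rw [← hL, LinearEquiv.apply_symm_apply]
    exact hW.1 w hw
  · intro U hU hle
    have h1 : Cfsg.Geo.IsTotallySingularQuad P (U.map (L : (ι → K) →ₗ[K] (ι' → K))) := by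
      rintro _ ⟨u, hu, rfl⟩
      show P (L u) = 0
      rw [hL]
      exact hU u hu
    have h3 : W ≤ U.map (L : (ι → K) →ₗ[K] (ι' → K)) := by
      intro w hw
      refine ⟨L.symm w, hle ⟨w, hw, rfl⟩, L.apply_symm_apply w⟩
    have h4 := hW.2 _ h1 h3
    rw [← h4]
    ext x
    constructor
    · intro hx
      exact ⟨L x, ⟨x, hx, rfl⟩, L.symm_apply_apply x⟩
    · rintro ⟨_, ⟨u, hu, rfl⟩, rfl⟩
      rw [LinearEquiv.coe_coe, LinearEquiv.coe_coe, L.symm_apply_apply]
      exact hu

/-- transport of `PreservesSingularClasses` along a linear isometry -/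
theorem pres_transport (Q : (ι → K) → K) (P : (ι' → K) → K) (L : (ι → K) ≃ₗ[K] (ι' → K))
    (hL : ∀ x, P (L x) = Q x) (g : Matrix ι ι K) (g' : Matrix ι' ι' K)
    (hg : ∀ x, L (g *ᵥ x) = g' *ᵥ L x) (h : Cfsg.PreservesSingularClasses Q g) :
    Cfsg.PreservesSingularClasses P g' := by
  intro W hW
  have hU := isMax_transport Q P L hL W hW
  have h1 := h _ hU
  unfold Cfsg.SameParityClass Cfsg.imageSubmodule at h1 ⊢
  set U := W.map (L.symm : (ι' → K) →ₗ[K] (ι → K)) with hUdef
  have hWU : W = U.map (L : (ι → K) →ₗ[K] (ι' → K)) := by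
    ext x
    constructor
    · intro hx
      exact ⟨L.symm x, ⟨x, hx, rfl⟩, L.apply_symm_apply x⟩
    · rintro ⟨_, ⟨w, hw, rfl⟩, rfl⟩
      rw [LinearEquiv.coe_coe, LinearEquiv.coe_coe, L.apply_symm_apply]
      exact hw
  have h3 : W.map (Matrix.toLin' g') =
      (U.map (Matrix.toLin' g)).map (L : (ι → K) →ₗ[K] (ι' → K)) := by
    have h5 : (Matrix.toLin' g') ∘ₗ (L : (ι → K) →ₗ[K] (ι' → K)) =
        (L : (ι → K) →ₗ[K] (ι' → K)) ∘ₗ (Matrix.toLin' g) := by
      apply LinearMap.ext
      intro x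
      simp only [LinearMap.comp_apply, Matrix.toLin'_apply, LinearEquiv.coe_coe]
      exact (hg x).symm
    rw [← Submodule.map_comp, ← h5, Submodule.map_comp, ← hWU]
  have h4 : W ⊓ W.map (Matrix.toLin' g') =
      (U ⊓ U.map (Matrix.toLin' g)).map (L : (ι → K) →ₗ[K] (ι' → K)) := by
    rw [Submodule.map_inf _ L.injective, ← hWU, h3]
  rw [h4, LinearEquiv.finrank_map_eq, hWU, LinearEquiv.finrank_map_eq]
  exact h1

end transport

section baseChange

variable {F K : Type*} [Field F] [Field K] [Algebra F K] {ι : Type} [Fintype ι] [DecidableEq ι]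

omit [DecidableEq ι] in
theorem map_mulVec_alg (g : Matrix ι ι F) (x : ι → F) :
    g.map (algebraMap F K) *ᵥ (fun i => algebraMap F K (x i)) =
      fun i => algebraMap F K ((g *ᵥ x) i) := by
  funext i
  exact (RingHom.map_mulVec (algebraMap F K) g x i).symm

/-- a similarity over `F` remains one over an extension field -/
theorem sim_baseChange (Q : QuadraticForm F (ι → F)) (QK : QuadraticForm K (ι → K))
    (hQ : ∀ x : ι → F, QK (fun i => algebraMap F K (x i)) = algebraMap F K (Q x))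
    (g : Matrix ι ι F) (τ : F) (hg : ∀ x, Q (g *ᵥ x) = τ * Q x) (y : ι → K) :
    QK (g.map (algebraMap F K) *ᵥ y) = algebraMap F K τ * QK y := by
  have hpt : ∀ x : ι → F, QK (g.map (algebraMap F K) *ᵥ (fun i => algebraMap F K (x i))) =
      algebraMap F K τ * QK (fun i => algebraMap F K (x i)) := by
    intro x
    rw [map_mulVec_alg, hQ, hQ, hg, map_mul]
  have hsingle : ∀ i : ι, (Pi.basisFun K ι) i = fun k => algebraMap F K ((Pi.single i (1 : F) : ι → F) k) := by
    intro i
    funext k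
    rw [Pi.basisFun_apply]
    by_cases hk : k = i
    · subst hk; simp
    · simp [hk]
  have hadd : ∀ i j : ι, (Pi.basisFun K ι) i + (Pi.basisFun K ι) j =
      fun k => algebraMap F K ((Pi.single i (1 : F) + Pi.single j (1 : F) : ι → F) k) := by
    intro i j
    rw [hsingle i, hsingle j]
    funext k
    simp only [Pi.add_apply, map_add]
  have key : QK.comp (Matrix.toLin' (g.map (algebraMap F K))) = (algebraMap F K τ) • QK := by
    apply quadraticMap_ext_basis (Pi.basisFun K ι)
    · intro i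
      rw [QuadraticMap.comp_apply, Matrix.toLin'_apply, _root_.smul_apply, smul_eq_mul,
        hsingle i]
      exact hpt _
    · intro i j
      unfold QuadraticMap.polar
      rw [hadd i j, hsingle i, hsingle j]
      simp only [QuadraticMap.comp_apply, Matrix.toLin'_apply, _root_.smul_apply, smul_eq_mul]
      rw [hpt, hpt, hpt]
  have := congrArg (fun q : QuadraticForm K (ι → K) => q y) key
  simpa only [QuadraticMap.comp_apply, Matrix.toLin'_apply, _root_.smul_apply, smul_eq_mul]
    using this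

end baseChange

section overK

variable {K : Type*} [Field K] {m : ℕ}

local notation "IM" => ((Fin m ⊕ Fin m) ⊕ Fin 2)
local notation "IP" => (Fin (m + 1) ⊕ Fin (m + 1))

/-- the linear map splitting the binary part over a field containing the roots `ρ, ρ'` -/
def splitLin (ρ ρ' : K) : (IM → K) →ₗ[K] (IP → K) where
  toFun x := Sum.elim
    (Fin.snoc (α := fun _ => K) (fun i => x (Sum.inl (Sum.inl i))) (x (Sum.inr 0) - ρ * x (Sum.inr 1)))
    (Fin.snoc (α := fun _ => K) (fun i => x (Sum.inl (Sum.inr i))) (x (Sum.inr 0) - ρ' * x (Sum.inr 1)))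
  map_add' x y := by
    funext k
    rcases k with j | j
    · refine Fin.lastCases ?_ (fun i => ?_) j
      · simp only [Sum.elim_inl, Fin.snoc_last, Pi.add_apply]; ring
      · simp only [Sum.elim_inl, Fin.snoc_castSucc, Pi.add_apply]
    · refine Fin.lastCases ?_ (fun i => ?_) j
      · simp only [Sum.elim_inr, Fin.snoc_last, Pi.add_apply]; ring
      · simp only [Sum.elim_inr, Fin.snoc_castSucc, Pi.add_apply]
  map_smul' c x := by
    funext k
    rcases k with j | j
    · refine Fin.lastCases ?_ (fun i => ?_) j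
      · simp only [Sum.elim_inl, Fin.snoc_last, Pi.smul_apply, smul_eq_mul, RingHom.id_apply]; ring
      · simp only [Sum.elim_inl, Fin.snoc_castSucc, Pi.smul_apply, smul_eq_mul, RingHom.id_apply]
    · refine Fin.lastCases ?_ (fun i => ?_) j
      · simp only [Sum.elim_inr, Fin.snoc_last, Pi.smul_apply, smul_eq_mul, RingHom.id_apply]; ring
      · simp only [Sum.elim_inr, Fin.snoc_castSucc, Pi.smul_apply, smul_eq_mul, RingHom.id_apply]

theorem splitLin_inl_cast (ρ ρ' : K) (x : IM → K) (i : Fin m) :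
    splitLin ρ ρ' x (Sum.inl (Fin.castSucc i)) = x (Sum.inl (Sum.inl i)) := by
  simp [splitLin]

theorem splitLin_inr_cast (ρ ρ' : K) (x : IM → K) (i : Fin m) :
    splitLin ρ ρ' x (Sum.inr (Fin.castSucc i)) = x (Sum.inl (Sum.inr i)) := by
  simp [splitLin]

theorem splitLin_inl_last (ρ ρ' : K) (x : IM → K) :
    splitLin ρ ρ' x (Sum.inl (Fin.last m)) = x (Sum.inr 0) - ρ * x (Sum.inr 1) := by
  simp [splitLin]

theorem splitLin_inr_last (ρ ρ' : K) (x : IM → K) :
    splitLin ρ ρ' x (Sum.inr (Fin.last m)) = x (Sum.inr 0) - ρ' * x (Sum.inr 1) := by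
  simp [splitLin]

theorem splitLin_injective (ρ ρ' : K) (hne : ρ ≠ ρ') : Function.Injective (splitLin (m := m) ρ ρ') := by
  rw [← LinearMap.ker_eq_bot, LinearMap.ker_eq_bot']
  intro x hx
  have h1 : ∀ i, x (Sum.inl (Sum.inl i)) = 0 := fun i => by
    rw [← splitLin_inl_cast ρ ρ' x i, hx]; rfl
  have h3 : ∀ i, x (Sum.inl (Sum.inr i)) = 0 := fun i => by
    rw [← splitLin_inr_cast ρ ρ' x i, hx]; rfl
  have h4 : x (Sum.inr 0) - ρ * x (Sum.inr 1) = 0 := by
    rw [← splitLin_inl_last ρ ρ' x, hx]; rfl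
  have h5 : x (Sum.inr 0) - ρ' * x (Sum.inr 1) = 0 := by
    rw [← splitLin_inr_last ρ ρ' x, hx]; rfl
  have h6 : (ρ - ρ') * x (Sum.inr 1) = 0 := by linear_combination h5 - h4
  have h7 : x (Sum.inr 1) = 0 := by
    rcases mul_eq_zero.1 h6 with h | h
    · exact absurd (sub_eq_zero.1 h) hne
    · exact h
  have h8 : x (Sum.inr 0) = 0 := by rw [h7] at h4; linear_combination h4
  funext k
  rcases k with (i | i) | k
  · exact h1 i
  · exact h3 i
  · fin_cases k
    · exact h8
    · exact h7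

/-- the linear equivalence splitting the binary part -/
noncomputable def splitEquiv (ρ ρ' : K) (hne : ρ ≠ ρ') : (IM → K) ≃ₗ[K] (IP → K) :=
  LinearMap.linearEquivOfInjective (splitLin ρ ρ') (splitLin_injective ρ ρ' hne) (by
    rw [Module.finrank_fintype_fun_eq_card, Module.finrank_fintype_fun_eq_card]
    simp only [Fintype.card_sum, Fintype.card_fin]
    ring)

theorem splitEquiv_apply (ρ ρ' : K) (hne : ρ ≠ ρ') (x : IM → K) :
    splitEquiv ρ ρ' hne x = splitLin ρ ρ' x := rfl

theorem plus_splitLin (a b ρ ρ' : K) (hsum : ρ + ρ' = -a) (hprod : ρ * ρ' = b) (x : IM → K) :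
    plusQF K (m + 1) (splitLin ρ ρ' x) = Cfsg.quadFormMinus m K a b x := by
  rw [plusQF_apply]
  unfold Cfsg.quadFormPlus Cfsg.quadFormMinus
  rw [Fin.sum_univ_castSucc]
  simp only [splitLin_inl_cast, splitLin_inr_cast, splitLin_inl_last, splitLin_inr_last]
  have ha : a = -(ρ + ρ') := by rw [hsum, neg_neg]
  rw [ha, ← hprod]
  ring

/-- over a field containing the roots of the binary part, a similarity of the minus-type form
preserves the two classes iff `det g = τ ^ (m + 1)` -/
theorem pres_minus_K [Finite K] (h2 : (2 : K) ≠ 0) (a b ρ ρ' : K) (hsum : ρ + ρ' = -a)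
    (hprod : ρ * ρ' = b) (hne : ρ ≠ ρ') (g : Matrix IM IM K) (hdet : g.det ≠ 0) (τ : Kˣ)
    (hg : ∀ x, Cfsg.quadFormMinus m K a b (g *ᵥ x) = (τ : K) * Cfsg.quadFormMinus m K a b x) :
    Cfsg.PreservesSingularClasses (Cfsg.quadFormMinus m K a b) g ↔ g.det = (τ : K) ^ (m + 1) := by
  classical
  obtain ⟨L, hL⟩ : ∃ L : (IM → K) ≃ₗ[K] (IP → K),
      ∀ x, plusQF K (m + 1) (L x) = Cfsg.quadFormMinus m K a b x :=
    ⟨splitEquiv ρ ρ' hne, fun x => plus_splitLin a b ρ ρ' hsum hprod x⟩
  have hL' : ∀ y, Cfsg.quadFormMinus m K a b (L.symm y) = plusQF K (m + 1) y := by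
    intro y
    rw [← hL, L.apply_symm_apply]
  obtain ⟨g', hg'⟩ : ∃ g' : Matrix IP IP K, g' = LinearMap.toMatrix'
      ((L : (IM → K) →ₗ[K] (IP → K)) ∘ₗ Matrix.toLin' g ∘ₗ (L.symm : (IP → K) →ₗ[K] (IM → K))) :=
    ⟨_, rfl⟩
  have hgL : ∀ x, L (g *ᵥ x) = g' *ᵥ L x := by
    intro x
    have h1 : g' *ᵥ L x = Matrix.toLin' g' (L x) := (Matrix.toLin'_apply g' (L x)).symm
    rw [h1, hg', Matrix.toLin'_toMatrix']
    simp only [LinearMap.comp_apply, LinearEquiv.coe_coe, L.symm_apply_apply, Matrix.toLin'_apply]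
  have hgL' : ∀ y, L.symm (g' *ᵥ y) = g *ᵥ L.symm y := by
    intro y
    have := hgL (L.symm y)
    rw [L.apply_symm_apply] at this
    rw [← this, L.symm_apply_apply]
  have hdet' : g'.det = g.det := by
    rw [hg', LinearMap.det_toMatrix', LinearMap.det_conj, LinearMap.det_toLin']
  have hsim : ∀ y, plusQF K (m + 1) (g' *ᵥ y) = (τ : K) * plusQF K (m + 1) y := by
    intro y
    rw [← hL', hgL', hg, hL']
  have hQ := Cfsg.Agent.S0287.nondeg (F := K) (m + 1)
  have hneP := exists_ne_of_nondeg (plusQF K (m + 1)) hQ (by rw [card_plus]; omega)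
  obtain ⟨G, hG⟩ : ∃ G : GL IP K, (G : Matrix IP IP K) = g' :=
    ⟨Matrix.GeneralLinearGroup.mkOfDetNeZero g' (by rw [hdet']; exact hdet), rfl⟩
  have hGmem : G ∈ Sim ⇑(plusQF K (m + 1)) := ⟨τ, fun v => by rw [hG]; exact hsim v⟩
  have hmult : mult (⇑(plusQF K (m + 1))) hneP ⟨G, hGmem⟩ = τ :=
    mult_eq _ hneP _ τ (fun v => by
      show plusQF K (m + 1) ((G : Matrix IP IP K) *ᵥ v) = _
      rw [hG]; exact hsim v)
  have hiff := pres_iff h2 hneP ⟨G, hGmem⟩
  rw [delta_eq_one_iff, hmult] at hiff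
  have hiff' : Cfsg.PreservesSingularClasses (⇑(plusQF K (m + 1))) g' ↔
      g.det = (τ : K) ^ (m + 1) := by
    rw [← hdet', ← hG]
    exact hiff
  rw [← hiff']
  constructor
  · intro h
    exact pres_transport _ _ L hL g g' hgL h
  · intro h
    exact pres_transport _ _ L.symm hL' g' g hgL' h

end overK

section overF

universe u

variable {F : Type u} [Field F] [Fintype F] {m : ℕ}

local notation "IM" => ((Fin m ⊕ Fin m) ⊕ Fin 2)

omit [Fintype F] in
theorem minusQF_alg {K : Type*} [Field K] [Algebra F K] (a b : F) (x : IM → F) :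
    minusQF K m (algebraMap F K a) (algebraMap F K b) (fun i => algebraMap F K (x i)) =
      algebraMap F K (minusQF F m a b x) := by
  rw [minusQF_apply, minusQF_apply]
  unfold Cfsg.quadFormMinus
  simp only [map_add, map_sum, map_mul, map_pow]

/-- the criterion over an arbitrary quadratic extension -/
theorem pres_minus_ext (h2 : (2 : F) ≠ 0) (a b : F)
    (hab : ∀ z₁ z₂ : F, z₁ ^ 2 + a * z₁ * z₂ + b * z₂ ^ 2 = 0 → z₁ = 0 ∧ z₂ = 0)
    (hne : ∃ v, minusQF F m a b v ≠ 0) (g : ↥(Sim ⇑(minusQF F m a b)))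
    (K : Type*) [Field K] [Algebra F K] (hK : finrank F K = 2) :
    Cfsg.PreservesSingularClasses (Cfsg.quadFormMinus m K (algebraMap F K a) (algebraMap F K b))
      (((g.1 : GL IM F) : Matrix IM IM F).map (algebraMap F K)) ↔
      delta (minusQF F m a b) hne (m + 1) g = 1 := by
  classical
  have : Module.Finite F K := Module.finite_of_finrank_pos (by rw [hK]; norm_num)
  have : Finite K := Module.finite_of_finite F
  let _ : Fintype K := Fintype.ofFinite K
  have hcard : Fintype.card K = Fintype.card F ^ 2 := by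
    rw [Module.card_eq_pow_finrank (K := F) (V := K), hK]
  have hinj : Function.Injective (algebraMap F K) := (algebraMap F K).injective
  obtain ⟨ρ, hρ⟩ := exists_root_of_aniso (K := K) rfl hcard a b hab
  have h2K : (2 : K) ≠ 0 := by
    have : (2 : K) = algebraMap F K 2 := (map_ofNat (algebraMap F K) 2).symm
    rw [this]
    intro h
    exact h2 (hinj (by rw [h, map_zero]))
  have hρne : ρ ≠ -algebraMap F K a - ρ := by
    intro h
    have h5 : ρ = algebraMap F K (-a / 2) := by
      rw [map_div₀, map_neg, map_ofNat]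
      field_simp
      linear_combination h
    rw [h5, ← map_pow, ← map_mul, ← map_add, ← map_add] at hρ
    have h6 : (-a / 2) ^ 2 + a * (-a / 2) + b = 0 := hinj (by rw [hρ, map_zero])
    have h7 := hab (-a / 2) 1 (by rw [← h6]; ring)
    exact one_ne_zero h7.2
  obtain ⟨τ, hτ⟩ : ∃ τ : Fˣ, τ = mult (⇑(minusQF F m a b)) hne g := ⟨_, rfl⟩
  have hgK : ∀ y : IM → K, Cfsg.quadFormMinus m K (algebraMap F K a) (algebraMap F K b)
      (((g.1 : GL IM F) : Matrix IM IM F).map (algebraMap F K) *ᵥ y) =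
      ((Units.map (algebraMap F K : F →* K) τ : Kˣ) : K) *
        Cfsg.quadFormMinus m K (algebraMap F K a) (algebraMap F K b) y := by
    intro y
    have := sim_baseChange (minusQF F m a b) (minusQF K m (algebraMap F K a) (algebraMap F K b))
      (minusQF_alg a b) ((g.1 : GL IM F) : Matrix IM IM F) (τ : F)
      (fun x => by rw [hτ]; exact mult_spec _ hne g x) y
    rw [minusQF_apply, minusQF_apply] at this
    exact this
  have hdetK : (((g.1 : GL IM F) : Matrix IM IM F).map (algebraMap F K)).det =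
      algebraMap F K ((g.1 : GL IM F) : Matrix IM IM F).det := by
    rw [RingHom.map_det]
    rfl
  have hdet0 : (((g.1 : GL IM F) : Matrix IM IM F).map (algebraMap F K)).det ≠ 0 := by
    rw [hdetK]
    intro h
    have h5 : ((g.1 : GL IM F) : Matrix IM IM F).det = 0 := hinj (by rw [h, map_zero])
    exact (Matrix.GeneralLinearGroup.det g.1).ne_zero h5
  rw [pres_minus_K h2K _ _ ρ (-algebraMap F K a - ρ) (by ring) (by linear_combination -hρ) hρne _
    hdet0 _ hgK, delta_eq_one_iff, hdetK, ← hτ]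
  rw [Units.coe_map]
  show algebraMap F K _ = (algebraMap F K (τ : F)) ^ (m + 1) ↔ _
  rw [← map_pow]
  exact hinj.eq_iff

omit [Fintype F] in
/-- a quadratic extension of `F` in the same universe -/
theorem exists_quadExt (a b : F)
    (hab : ∀ z₁ z₂ : F, z₁ ^ 2 + a * z₁ * z₂ + b * z₂ ^ 2 = 0 → z₁ = 0 ∧ z₂ = 0) :
    ∃ (K : Type u) (_ : Field K) (_ : Algebra F K), finrank F K = 2 := by
  classical
  open Polynomial in
  let f : F[X] := X ^ 2 + C a * X + C b
  have hfdeg : f.natDegree = 2 := by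
    simp only [f]
    compute_degree!
  have hnr : ∀ x, ¬ f.IsRoot x := by
    intro x hx
    have h1 : x ^ 2 + a * x + b = 0 := by
      simpa [f, Polynomial.IsRoot] using hx
    have h2 := hab x 1 (by rw [← h1]; ring)
    exact one_ne_zero h2.2
  have hirr : Irreducible f :=
    Polynomial.irreducible_of_degree_le_three_of_not_isRoot (by rw [hfdeg]; decide) hnr
  have : Fact (Irreducible f) := ⟨hirr⟩
  have hfr : finrank F (AdjoinRoot f) = 2 := by
    rw [(AdjoinRoot.powerBasis hirr.ne_zero).finrank, AdjoinRoot.powerBasis_dim, hfdeg]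
  exact ⟨AdjoinRoot f, inferInstance, inferInstance, hfr⟩

/-- a similarity of the minus-type form preserves the two classes (over a quadratic extension) iff
`det g = τ(g) ^ (m + 1)` -/
theorem presMinus_iff (h2 : (2 : F) ≠ 0) (a b : F)
    (hab : ∀ z₁ z₂ : F, z₁ ^ 2 + a * z₁ * z₂ + b * z₂ ^ 2 = 0 → z₁ = 0 ∧ z₂ = 0)
    (hne : ∃ v, minusQF F m a b v ≠ 0) (g : ↥(Sim ⇑(minusQF F m a b))) :
    Cfsg.PreservesSingularClassesMinus m a b ((g.1 : GL IM F) : Matrix IM IM F) ↔
      delta (minusQF F m a b) hne (m + 1) g = 1 := by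
  constructor
  · rintro ⟨K, hKf, hKa, hfr, hpres⟩
    exact (pres_minus_ext h2 a b hab hne g K hfr).1 hpres
  · intro h
    obtain ⟨K, hKf, hKa, hfr⟩ := exists_quadExt a b hab
    exact ⟨K, hKf, hKa, hfr, (pres_minus_ext h2 a b hab hne g K hfr).2 h⟩

end overF

end Cfsg.Agent.Lib.H11.ConfOrth
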