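import Cfsg.Agent.Lib.H11.ConfOrth13
import Cfsg.Agent.Lib.H11.ConfOrth10

/-!
# Conformal orthogonal groups (part 14): `Inndiag / Inn` for the minus-type groups
-/

set_option autoImplicit false

namespace Cfsg.Agent.Lib.H11.ConfOrth

open Matrix Module
open scoped MatrixGroups
open Cfsg.Agent.Lib.H13 Cfsg.Agent.Lib.H13.HypPairs

section antidiag

variable {F : Type*} [Field F] {m : ℕ}

local notation "I1" => (1 : Matrix (Fin m) (Fin m) F)
local notation "Z0" => (0 : Matrix (Fin m) (Fin m) F)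

/-- the determinant of the block swap -/
theorem det_swapBlocks (h2 : (2 : F) ≠ 0) :
    (Matrix.fromBlocks Z0 I1 I1 Z0).det = (-1) ^ m := by
  have h1 : Matrix.fromBlocks Z0 I1 I1 Z0 * Matrix.fromBlocks I1 I1 I1 (-I1) =
      Matrix.fromBlocks I1 I1 I1 (-I1) * Matrix.fromBlocks I1 Z0 Z0 (-I1) := by
    rw [Matrix.fromBlocks_multiply, Matrix.fromBlocks_multiply]
    simp
  have h3 : (Matrix.fromBlocks I1 I1 I1 (-I1)).det ≠ 0 := by
    rw [Matrix.det_fromBlocks_one₁₁]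
    have : (-I1 - I1 * I1) = (-2 : F) • I1 := by
      rw [mul_one, neg_smul, two_smul]
      abel
    rw [this, Matrix.det_smul, Matrix.det_one, mul_one]
    exact pow_ne_zero _ (neg_ne_zero.2 h2)
  have h4 : (Matrix.fromBlocks I1 Z0 Z0 (-I1)).det = (-1) ^ m := by
    rw [Matrix.det_fromBlocks_zero₂₁, Matrix.det_one, one_mul, Matrix.det_neg, Matrix.det_one,
      mul_one, Fintype.card_fin]
  have h5 := congrArg Matrix.det h1
  rw [Matrix.det_mul, Matrix.det_mul, h4, mul_comm] at h5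
  exact mul_left_cancel₀ h3 h5

theorem det_antidiag (h2 : (2 : F) ≠ 0) (B C : Matrix (Fin m) (Fin m) F) :
    (Matrix.fromBlocks Z0 B C Z0).det = (-1) ^ m * (C.det * B.det) := by
  have h1 : Matrix.fromBlocks Z0 B C Z0 =
      Matrix.fromBlocks Z0 I1 I1 Z0 * Matrix.fromBlocks C Z0 Z0 B := by
    rw [Matrix.fromBlocks_multiply]
    simp
  rw [h1, Matrix.det_mul, det_swapBlocks h2, Matrix.det_fromBlocks_zero₂₁]

end antidiag

section tmat

variable {F : Type*} [Field F] {m : ℕ}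

local notation "IM" => ((Fin m ⊕ Fin m) ⊕ Fin 2)

/-- a similarity of the minus-type form with multiplier `ν = N(c₁, c₂)` and square `ν` -/
def tMinusM (a b ν c₁ c₂ : F) : Matrix IM IM F :=
  Matrix.fromBlocks
    (Matrix.fromBlocks (0 : Matrix (Fin m) (Fin m) F) (ν • (1 : Matrix (Fin m) (Fin m) F))
      (1 : Matrix (Fin m) (Fin m) F) (0 : Matrix (Fin m) (Fin m) F)) 0 0
    !![c₁, a * c₁ + b * c₂; c₂, -c₁]

theorem tMinusM_det (h2 : (2 : F) ≠ 0) (a b ν c₁ c₂ : F)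
    (hν : c₁ ^ 2 + a * c₁ * c₂ + b * c₂ ^ 2 = ν) :
    (tMinusM (m := m) a b ν c₁ c₂).det = (-1) ^ (m + 1) * ν ^ (m + 1) := by
  unfold tMinusM
  rw [Matrix.det_fromBlocks_zero₂₁, det_antidiag h2, Matrix.det_fin_two_of, Matrix.det_one,
    Matrix.det_smul, Matrix.det_one, Fintype.card_fin]
  rw [pow_succ, pow_succ, ← hν]
  ring

theorem tMinusM_mulVec_ll (a b ν c₁ c₂ : F) (x : IM → F) (i : Fin m) :
    (tMinusM a b ν c₁ c₂ *ᵥ x) (Sum.inl (Sum.inl i)) = ν * x (Sum.inl (Sum.inr i)) := by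
  unfold tMinusM
  rw [Matrix.fromBlocks_mulVec]
  simp only [Matrix.zero_mulVec, add_zero, Sum.elim_inl]
  rw [Matrix.fromBlocks_mulVec]
  simp only [Matrix.zero_mulVec, zero_add, Sum.elim_inl, Matrix.smul_mulVec, Matrix.one_mulVec,
    Pi.smul_apply, Function.comp_apply, smul_eq_mul]

theorem tMinusM_mulVec_lr (a b ν c₁ c₂ : F) (x : IM → F) (i : Fin m) :
    (tMinusM a b ν c₁ c₂ *ᵥ x) (Sum.inl (Sum.inr i)) = x (Sum.inl (Sum.inl i)) := by
  unfold tMinusM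
  rw [Matrix.fromBlocks_mulVec]
  simp only [Matrix.zero_mulVec, add_zero, Sum.elim_inl]
  rw [Matrix.fromBlocks_mulVec]
  simp only [Matrix.zero_mulVec, add_zero, Sum.elim_inr, Matrix.one_mulVec,
    Function.comp_apply]

theorem tMinusM_mulVec_r0 (a b ν c₁ c₂ : F) (x : IM → F) :
    (tMinusM a b ν c₁ c₂ *ᵥ x) (Sum.inr 0) =
      c₁ * x (Sum.inr 0) + (a * c₁ + b * c₂) * x (Sum.inr 1) := by
  unfold tMinusM
  rw [Matrix.fromBlocks_mulVec]
  simp [dotProduct, Fin.sum_univ_two]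

theorem tMinusM_mulVec_r1 (a b ν c₁ c₂ : F) (x : IM → F) :
    (tMinusM a b ν c₁ c₂ *ᵥ x) (Sum.inr 1) = c₂ * x (Sum.inr 0) + -c₁ * x (Sum.inr 1) := by
  unfold tMinusM
  rw [Matrix.fromBlocks_mulVec]
  simp [dotProduct, Fin.sum_univ_two]

theorem tMinusM_Q (a b ν c₁ c₂ : F) (hν : c₁ ^ 2 + a * c₁ * c₂ + b * c₂ ^ 2 = ν) (x : IM → F) :
    minusQF F m a b (tMinusM a b ν c₁ c₂ *ᵥ x) = ν * minusQF F m a b x := by
  rw [minusQF_apply, minusQF_apply]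
  unfold Cfsg.quadFormMinus
  simp only [tMinusM_mulVec_ll, tMinusM_mulVec_lr, tMinusM_mulVec_r0, tMinusM_mulVec_r1]
  have hs : ∑ i : Fin m, ν * x (Sum.inl (Sum.inr i)) * x (Sum.inl (Sum.inl i)) =
      ν * ∑ i : Fin m, x (Sum.inl (Sum.inl i)) * x (Sum.inl (Sum.inr i)) := by
    rw [Finset.mul_sum]
    apply Finset.sum_congr rfl
    intro i _
    ring
  rw [hs, ← hν]
  ring

theorem tMinusM_sq (a b ν c₁ c₂ : F) (hν : c₁ ^ 2 + a * c₁ * c₂ + b * c₂ ^ 2 = ν) :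
    tMinusM (m := m) a b ν c₁ c₂ * tMinusM a b ν c₁ c₂ = ν • (1 : Matrix IM IM F) := by
  unfold tMinusM
  rw [Matrix.fromBlocks_multiply, Matrix.fromBlocks_multiply]
  have h1 : !![c₁, a * c₁ + b * c₂; c₂, -c₁] * !![c₁, a * c₁ + b * c₂; c₂, -c₁] =
      ν • (1 : Matrix (Fin 2) (Fin 2) F) := by
    ext i j
    fin_cases i <;> fin_cases j <;>
      simp [Matrix.mul_apply, Fin.sum_univ_two] <;>
      first | linear_combination hν | ring
  rw [h1]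
  simp only [Matrix.zero_mul, Matrix.mul_zero, add_zero, zero_add, Matrix.mul_one, Matrix.one_mul]
  rw [← Matrix.fromBlocks_one, Matrix.fromBlocks_smul, ← Matrix.fromBlocks_one,
    Matrix.fromBlocks_smul]
  simp

end tmat

section tgl

variable {F : Type*} [Field F] {m : ℕ}

local notation "IM" => ((Fin m ⊕ Fin m) ⊕ Fin 2)

/-- the similarity `t` as an element of `GL` -/
noncomputable def tMinus (h2 : (2 : F) ≠ 0) (a b : F) (ν : Fˣ) (c₁ c₂ : F)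
    (hν : c₁ ^ 2 + a * c₁ * c₂ + b * c₂ ^ 2 = (ν : F)) : GL IM F :=
  Matrix.GeneralLinearGroup.mkOfDetNeZero (tMinusM a b (ν : F) c₁ c₂) (by
    rw [tMinusM_det h2 a b _ c₁ c₂ hν]
    exact mul_ne_zero (pow_ne_zero _ (neg_ne_zero.2 one_ne_zero)) (pow_ne_zero _ (Units.ne_zero ν)))

theorem tMinus_val (h2 : (2 : F) ≠ 0) (a b : F) (ν : Fˣ) (c₁ c₂ : F)
    (hν : c₁ ^ 2 + a * c₁ * c₂ + b * c₂ ^ 2 = (ν : F)) :
    ((tMinus (m := m) h2 a b ν c₁ c₂ hν : GL IM F) : Matrix IM IM F) =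
      tMinusM a b (ν : F) c₁ c₂ := rfl

theorem tMinus_mem (h2 : (2 : F) ≠ 0) (a b : F) (ν : Fˣ) (c₁ c₂ : F)
    (hν : c₁ ^ 2 + a * c₁ * c₂ + b * c₂ ^ 2 = (ν : F)) :
    (tMinus (m := m) h2 a b ν c₁ c₂ hν) ∈ Sim ⇑(minusQF F m a b) :=
  ⟨ν, fun v => by rw [tMinus_val]; exact tMinusM_Q a b _ c₁ c₂ hν v⟩

theorem tMinus_mult (h2 : (2 : F) ≠ 0) (a b : F) (hne : ∃ v, minusQF F m a b v ≠ 0) (ν : Fˣ)
    (c₁ c₂ : F) (hν : c₁ ^ 2 + a * c₁ * c₂ + b * c₂ ^ 2 = (ν : F)) :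
    mult (⇑(minusQF F m a b)) hne ⟨tMinus h2 a b ν c₁ c₂ hν, tMinus_mem h2 a b ν c₁ c₂ hν⟩ = ν :=
  mult_eq _ hne _ ν (fun v => by
    show minusQF F m a b (((tMinus (m := m) h2 a b ν c₁ c₂ hν : GL IM F) : Matrix IM IM F) *ᵥ v) = _
    rw [tMinus_val]; exact tMinusM_Q a b _ c₁ c₂ hν v)

theorem tMinus_delta (h2 : (2 : F) ≠ 0) (a b : F) (hne : ∃ v, minusQF F m a b v ≠ 0) (ν : Fˣ)
    (c₁ c₂ : F) (hν : c₁ ^ 2 + a * c₁ * c₂ + b * c₂ ^ 2 = (ν : F)) (hm : Even m) :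
    delta (minusQF F m a b) hne (m + 1)
      ⟨tMinus h2 a b ν c₁ c₂ hν, tMinus_mem h2 a b ν c₁ c₂ hν⟩ = -1 := by
  rw [delta_apply, tMinus_mult]
  apply Units.ext
  rw [Units.val_mul, Matrix.GeneralLinearGroup.val_det_apply, tMinus_val,
    tMinusM_det h2 a b _ c₁ c₂ hν, Units.val_inv_eq_inv_val, Units.val_pow_eq_pow_val,
    Units.val_neg, Units.val_one, pow_succ (-1 : F) m, Even.neg_one_pow hm, one_mul]
  have : ((ν : F) ^ (m + 1)) ≠ 0 := pow_ne_zero _ (Units.ne_zero ν)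
  field_simp

theorem tMinus_sq (h2 : (2 : F) ≠ 0) (a b : F) (ν : Fˣ) (c₁ c₂ : F)
    (hν : c₁ ^ 2 + a * c₁ * c₂ + b * c₂ ^ 2 = (ν : F)) :
    tMinus (m := m) h2 a b ν c₁ c₂ hν * tMinus h2 a b ν c₁ c₂ hν =
      Matrix.GeneralLinearGroup.scalar IM ν := by
  apply Units.ext
  rw [Units.val_mul, tMinus_val, tMinusM_sq a b _ c₁ c₂ hν, Matrix.GeneralLinearGroup.coe_scalar,
    Matrix.smul_one_eq_diagonal]
  rfl

end tgl

section main

universe u

variable {F : Type u} [Field F] [Fintype F] {m : ℕ}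

local notation "IM" => ((Fin m ⊕ Fin m) ⊕ Fin 2)

/-- the element of order four modulo inner automorphisms -/
theorem minus_not_scalar_mul [DecidableEq F] (h2 : (2 : F) ≠ 0) (hm : 3 ≤ m) (hme : Even m)
    (a b : F) (hab : ∀ z₁ z₂ : F, z₁ ^ 2 + a * z₁ * z₂ + b * z₂ ^ 2 = 0 → z₁ = 0 ∧ z₂ = 0)
    (hne : ∃ v, minusQF F m a b v ≠ 0)
    (hneg : negOne IM F ∈ Cfsg.Geo.omegaGL ⇑(minusQF F m a b)) :
    ∃ g₀ : ↥(Sim ⇑(minusQF F m a b)), ¬ IsSquare (mult (⇑(minusQF F m a b)) hne g₀ : F) ∧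
      delta (minusQF F m a b) hne (m + 1) g₀ = 1 ∧
      ¬ ∃ c : Fˣ, ∃ ω ∈ Cfsg.Geo.omegaGL ⇑(minusQF F m a b), g₀.1 * g₀.1 =
        Matrix.GeneralLinearGroup.scalar IM c * ω := by
  have hQ := Cfsg.Agent.S0288.nondeg (F := F) a b hab m
  obtain ⟨ν, hν⟩ := exists_nonsquare_unit (F := F) h2
  obtain ⟨c₁, c₂, hc⟩ := exists_binary_eq h2 a b hab (ν : F)
  obtain ⟨v, hv⟩ := id hne
  obtain ⟨t, ht⟩ : ∃ t : ↥(Sim ⇑(minusQF F m a b)),
      t = ⟨tMinus h2 a b ν c₁ c₂ hc, tMinus_mem h2 a b ν c₁ c₂ hc⟩ := ⟨_, rfl⟩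
  obtain ⟨r, hr⟩ : ∃ r : ↥(Sim ⇑(minusQF F m a b)),
      r = oS (minusQF F m a b) (reflG (minusQF F m a b) v hv).1 (reflG (minusQF F m a b) v hv).2 :=
    ⟨_, rfl⟩
  have htm : mult (⇑(minusQF F m a b)) hne t = ν := by rw [ht, tMinus_mult]
  have htd : delta (minusQF F m a b) hne (m + 1) t = -1 := by rw [ht, tMinus_delta _ _ _ _ _ _ _ _ hme]
  have hrm : mult (⇑(minusQF F m a b)) hne r = 1 := by rw [hr, mult_oS]
  have hrd : delta (minusQF F m a b) hne (m + 1) r = -1 := by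
    rw [hr, delta_oS]
    apply Units.ext
    rw [Matrix.GeneralLinearGroup.val_det_apply, reflG_val,
      Cfsg.Agent.Lib.H13.PlusTS.det_reflectionMatrix _ v hv]
    simp
  have htt : t.1 * t.1 = Matrix.GeneralLinearGroup.scalar IM ν := by
    rw [ht]; exact tMinus_sq h2 a b ν c₁ c₂ hc
  have hrinv : (r.1 : GL IM F)⁻¹ = r.1 := by
    rw [inv_eq_iff_mul_eq_one, hr]
    apply Units.ext
    show Cfsg.reflectionMatrix ⇑(minusQF F m a b) v * Cfsg.reflectionMatrix ⇑(minusQF F m a b) v = 1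
    exact refl_mul_self (minusQF F m a b) v hv
  have htsq : ¬ IsSquare (mult (⇑(minusQF F m a b)) hne t : F) := by rw [htm]; exact hν
  refine ⟨t * r, ?_, ?_, ?_⟩
  · rw [map_mul, htm, hrm, mul_one]; exact hν
  · rw [map_mul, htd, hrd]; simp
  · rintro ⟨c, ω, hω, hcω⟩
    have hcomm := comm_refl_not_mem (minusQF F m a b) hne hQ h2 (by rw [card_minus]; omega) t htsq v hv
    apply hcomm
    have hr1 : (reflG (minusQF F m a b) v hv).1 = r.1 := by rw [hr]; rfl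
    rw [hr1]
    have hprod : (t * r).1 * (t * r).1 =
        (t.1 * r.1 * t.1⁻¹ * r.1⁻¹) * Matrix.GeneralLinearGroup.scalar IM ν := by
      rw [hrinv, mul_assoc (t.1 * r.1 * t.1⁻¹), ← Matrix.GeneralLinearGroup.scalar_commute,
        ← htt, Subgroup.coe_mul]
      group
    have h5 : t.1 * r.1 * t.1⁻¹ * r.1⁻¹ = Matrix.GeneralLinearGroup.scalar IM (c * ν⁻¹) * ω := by
      rw [hprod] at hcω
      have h7 := eq_mul_inv_of_mul_eq hcω
      rw [h7, ← map_inv, mul_assoc, ← Matrix.GeneralLinearGroup.scalar_commute, ← mul_assoc,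
        ← map_mul]
    rw [h5]
    apply scalar_mul_mem' (minusQF F m a b) hne hneg _ ω hω
    rw [← h5]
    obtain ⟨x, hx⟩ : ∃ x : ↥(Sim ⇑(minusQF F m a b)), x = t * r * t⁻¹ * r⁻¹ := ⟨_, rfl⟩
    have h6 : mult (⇑(minusQF F m a b)) hne x = 1 := by
      rw [hx, map_mul, map_mul, map_mul, map_inv, map_inv, hrm, inv_one, mul_one, mul_one,
        mul_inv_cancel]
    have h8 : x.1 = t.1 * r.1 * t.1⁻¹ * r.1⁻¹ := by
      rw [hx]
      simp only [Subgroup.coe_mul, Subgroup.coe_inv]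
    rw [← h8]
    exact (mult_eq_one_iff _ hne x).1 h6

/-- `Inndiag / Inn` for the minus-type groups, in a form suitable for the Prelude definitions -/
theorem minus_inndiag_aux [DecidableEq F] (hodd : Odd (Fintype.card F)) (hm : 3 ≤ m) (a b : F)
    (hab : ∀ z₁ z₂ : F, z₁ ^ 2 + a * z₁ * z₂ + b * z₂ ^ 2 = 0 → z₁ = 0 ∧ z₂ = 0)
    (Q₀ : (IM → F) → F) (hQ₀ : ⇑(minusQF F m a b) = Q₀)
    (A : Subgroup (MulAut (Cfsg.POmega F Q₀)))
    (hA : A = Cfsg.autSubgroupOf (fun β : Cfsg.POmega F Q₀ ≃* Cfsg.POmega F Q₀ =>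
      ∃ g : GL IM F, g ∈ Cfsg.Geo.quadSimilarityGroup (F := F) Q₀ ∧
        Cfsg.PreservesSingularClassesMinus m a b (g : Matrix IM IM F) ∧
        Cfsg.IsInducedBySemilinearPOmega Q₀ g (RingEquiv.refl F) β)) :
    ((Even m ∧ Fintype.card F % 4 = 3) →
      (∃ φ : ↥A →* Multiplicative (ZMod 4), Function.Surjective φ ∧
        φ.ker = (Cfsg.Inn (Cfsg.POmega F Q₀)).subgroupOf A)) ∧
    (¬ (Even m ∧ Fintype.card F % 4 = 3) →
      (∃ φ : ↥A →* Multiplicative (ZMod 2), Function.Surjective φ ∧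
        φ.ker = (Cfsg.Inn (Cfsg.POmega F Q₀)).subgroupOf A)) := by
  subst hQ₀
  have h2 : (2 : F) ≠ 0 := Cfsg.Agent.Lib.H13.HypPairs.two_ne_zero_of_odd_card rfl hodd
  have hQ := Cfsg.Agent.S0288.nondeg (F := F) a b hab m
  have hne := exists_ne_of_nondeg (minusQF F m a b) hQ (by rw [card_minus]; omega)
  have hcrit := negOne_mem_minus_iff (F := F) (m := m) rfl hodd a b hab
  rw [pow_succ_mod_four_eq_three_iff hodd] at hcrit
  have hAeq : A = (DD (minusQF F m a b) (m + 1) hne).map (Phi ⇑(minusQF F m a b)) := by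
    rw [hA]
    unfold Cfsg.autSubgroupOf
    apply closure_image_eq_map
    intro β
    constructor
    · rintro ⟨g, hg, hpres, hind⟩
      exact ⟨⟨g, hg⟩, (mem_DD _ (m + 1) hne _).2 ((presMinus_iff h2 a b hab hne ⟨g, hg⟩).1 hpres),
        (induced_iff _ g hg β).1 hind⟩
    · rintro ⟨g, hgD, rfl⟩
      exact ⟨g.1, g.2, (presMinus_iff h2 a b hab hne g).2 ((mem_DD _ (m + 1) hne _).1 hgD),
        (induced_iff _ g.1 g.2 _).2 rfl⟩
  subst hAeq
  constructor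
  · intro h
    have hneg := hcrit.2 h
    obtain ⟨g₀, hg₀, hd₀, hnot⟩ := minus_not_scalar_mul h2 hm h.1 a b hab hne hneg
    exact (dd_inn_four (minusQF F m a b) hQ h2 (m + 1) (by omega) card_minus hne hneg
      g₀ hg₀ hd₀).1 hnot
  · intro h
    have hnneg : negOne IM F ∉ Cfsg.Geo.omegaGL ⇑(minusQF F m a b) := fun h' => h (hcrit.1 h')
    have hex : ∃ g₀ : ↥(Sim ⇑(minusQF F m a b)), ¬ IsSquare (mult (⇑(minusQF F m a b)) hne g₀ : F) ∧
      delta (minusQF F m a b) hne (m + 1) g₀ = 1 := exists_minus_data h2 a b hab hne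
    obtain ⟨g₀, hg₀, hd₀⟩ := hex
    exact dd_inn_z2 (minusQF F m a b) hQ h2 (m + 1) (by omega) card_minus hne
      hnneg g₀ hg₀ hd₀

end main

end Cfsg.Agent.Lib.H11.ConfOrth
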