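import Cfsg.Agent.Lib.H11.ConfOrth14

/-!
# Conformal orthogonal groups (part 15): reflections centralising a similarity with scalar square
-/

set_option autoImplicit false
set_option linter.unusedSectionVars false

namespace Cfsg.Agent.Lib.H11.ConfOrth

open Matrix Module
open scoped MatrixGroups

variable {F : Type*} [Field F] {ι : Type} [Fintype ι] [DecidableEq ι] (Q : QuadraticForm F (ι → F))

set_option quotPrecheck false in
local notation "B" => QuadraticMap.polar (⇑Q)

/-- reflections do not depend on the scaling of the vector -/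
theorem refl_smul (c : F) (hc : c ≠ 0) (v : ι → F) :
    Cfsg.reflectionMatrix ⇑Q (c • v) = Cfsg.reflectionMatrix ⇑Q v := by
  apply Matrix.ext_iff_mulVec.mpr
  intro x
  rw [Cfsg.Agent.Lib.H4.reflectionMatrix_mulVec, Cfsg.Agent.Lib.H4.reflectionMatrix_mulVec,
    QuadraticMap.map_smul, QuadraticMap.polar_smul_left, smul_smul, smul_eq_mul, smul_eq_mul]
  congr 2
  by_cases hv : Q v = 0
  · rw [hv, mul_zero, _root_.inv_zero, zero_mul, zero_mul, zero_mul]
  · field_simp

/-- reflections in orthogonal vectors commute -/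
theorem refl_comm (a b : ι → F) (hab : B a b = 0) :
    Cfsg.reflectionMatrix ⇑Q a * Cfsg.reflectionMatrix ⇑Q b =
      Cfsg.reflectionMatrix ⇑Q b * Cfsg.reflectionMatrix ⇑Q a := by
  have hba : B b a = 0 := by rw [QuadraticMap.polar_comm]; exact hab
  apply Matrix.ext_iff_mulVec.mpr
  intro x
  rw [← Matrix.mulVec_mulVec, ← Matrix.mulVec_mulVec]
  simp only [Cfsg.Agent.Lib.H4.reflectionMatrix_mulVec, QuadraticMap.polar_sub_right,
    QuadraticMap.polar_smul_right, hab, hba, smul_eq_mul, mul_zero, sub_zero]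
  abel

/-- in dimension at least three, the orthogonal complement of a non-degenerate plane contains a
non-singular vector -/
theorem perp_nonsing (hQ : (QuadraticMap.polarBilin Q).Nondegenerate) (h3 : 3 ≤ Fintype.card ι)
    (a b : ι → F) (hΔ : B a a * B b b - B a b * B a b ≠ 0) :
    ∃ w, B a w = 0 ∧ B b w = 0 ∧ Q w ≠ 0 := by
  by_contra hcon
  push Not at hcon
  obtain ⟨Δ, hΔdef⟩ : ∃ Δ, Δ = B a a * B b b - B a b * B a b := ⟨_, rfl⟩
  rw [← hΔdef] at hΔ
  have hba : B b a = B a b := QuadraticMap.polar_comm _ _ _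
  -- the projection
  let al : (ι → F) → F := fun x => (B b b * B a x - B a b * B b x) / Δ
  let be : (ι → F) → F := fun x => (B a a * B b x - B a b * B a x) / Δ
  let pr : (ι → F) → (ι → F) := fun x => x - al x • a - be x • b
  have hpa : ∀ x, B a (pr x) = 0 := by
    intro x
    simp only [pr, al, be, QuadraticMap.polar_sub_right, QuadraticMap.polar_smul_right, smul_eq_mul]
    field_simp
    rw [hΔdef]
    ring
  have hpb : ∀ x, B b (pr x) = 0 := by
    intro x
    simp only [pr, al, be, QuadraticMap.polar_sub_right, QuadraticMap.polar_smul_right, smul_eq_mul,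
      hba]
    field_simp
    rw [hΔdef]
    ring
  have hpp : ∀ x y, B (pr x) (pr y) = 0 := by
    intro x y
    have h1 : B a (pr x + pr y) = 0 := by
      rw [QuadraticMap.polar_add_right, hpa, hpa, add_zero]
    have h2 : B b (pr x + pr y) = 0 := by
      rw [QuadraticMap.polar_add_right, hpb, hpb, add_zero]
    unfold QuadraticMap.polar
    rw [hcon _ h1 h2, hcon _ (hpa x) (hpb x), hcon _ (hpa y) (hpb y)]
    ring
  have hzero : ∀ x, pr x = 0 := by
    intro x
    apply hQ.1
    intro y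
    show B (pr x) y = 0
    have hy : y = pr y + (al y • a + be y • b) := by
      simp only [pr]
      abel
    rw [hy, QuadraticMap.polar_add_right, QuadraticMap.polar_add_right,
      QuadraticMap.polar_smul_right, QuadraticMap.polar_smul_right, hpp,
      QuadraticMap.polar_comm _ (pr x) a, QuadraticMap.polar_comm _ (pr x) b, hpa, hpb]
    simp
  classical
  have hspan : (⊤ : Submodule F (ι → F)) ≤
      Submodule.span F ((({a, b} : Finset (ι → F))) : Set (ι → F)) := by
    intro x _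
    have hx : x = al x • a + be x • b := by
      have := hzero x
      simp only [pr] at this
      rw [sub_sub, sub_eq_zero] at this
      exact this
    rw [hx]
    apply Submodule.add_mem
    · exact Submodule.smul_mem _ _ (Submodule.subset_span (by simp))
    · exact Submodule.smul_mem _ _ (Submodule.subset_span (by simp))
  have h4 := Submodule.finrank_mono hspan
  rw [finrank_top, Module.finrank_fintype_fun_eq_card] at h4
  have h5 : finrank F ↥(Submodule.span F ((({a, b} : Finset (ι → F))) : Set (ι → F))) ≤ 2 :=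
    (finrank_span_finset_le_card _).trans Finset.card_le_two
  omega

/-- a diagonal binary form over a finite field of odd characteristic is universal -/
theorem exists_diag_eq [Fintype F] (h2 : (2 : F) ≠ 0) (a c : F) (ha : a ≠ 0) (hc : c ≠ 0) (t : F) :
    ∃ x y : F, a * x ^ 2 + c * y ^ 2 = t := by
  classical
  have hchar : ringChar F ≠ 2 := Cfsg.Agent.Lib.H13.OmegaCrit.ringChar_ne_two' h2
  have hodd : Fintype.card F % 2 = 1 := FiniteField.odd_card_of_char_ne_two hchar
  obtain ⟨u, w, huw⟩ := FiniteField.exists_root_sum_quadratic (R := F)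
    (f := Polynomial.C a * Polynomial.X ^ 2) (g := Polynomial.C c * Polynomial.X ^ 2 - Polynomial.C t)
    (Polynomial.degree_C_mul_X_pow 2 ha)
    (by
      rw [Polynomial.degree_sub_C, Polynomial.degree_C_mul_X_pow 2 hc]
      · rfl
      · rw [Polynomial.degree_C_mul_X_pow 2 hc]; norm_num)
    hodd
  refine ⟨u, w, ?_⟩
  simp only [Polynomial.eval_mul, Polynomial.eval_C, Polynomial.eval_pow, Polynomial.eval_X,
    Polynomial.eval_sub] at huw
  linear_combination huw

section selfadjoint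

variable (M : Matrix ι ι F)

theorem polar_of_sim (τ : F) (hM1 : ∀ v, Q (M *ᵥ v) = τ * Q v) (x y : ι → F) :
    B (M *ᵥ x) (M *ᵥ y) = τ * B x y := by
  unfold QuadraticMap.polar
  rw [← Matrix.mulVec_add, hM1, hM1, hM1]
  ring

theorem selfadj_of_sq (τ : F) (hτ : τ ≠ 0) (hM1 : ∀ v, Q (M *ᵥ v) = τ * Q v)
    (hM2 : ∀ v, M *ᵥ (M *ᵥ v) = τ • v) (x y : ι → F) :
    B (M *ᵥ x) y = B x (M *ᵥ y) := by
  have hy : y = M *ᵥ (τ⁻¹ • (M *ᵥ y)) := by
    rw [Matrix.mulVec_smul, hM2, smul_smul, inv_mul_cancel₀ hτ, one_smul]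
  conv_lhs => rw [hy]
  rw [polar_of_sim Q M τ hM1, QuadraticMap.polar_smul_right, smul_eq_mul, ← mul_assoc,
    mul_inv_cancel₀ hτ, one_mul]

/-- value of the form on a combination of two orthogonal vectors -/
theorem map_comb (p p' : ι → F) (hpp : B p p' = 0) (α β : F) :
    Q (α • p + β • p') = α ^ 2 * Q p + β ^ 2 * Q p' := by
  have h1 : Q (α • p + β • p') = Q (α • p) + Q (β • p') + B (α • p) (β • p') := by
    unfold QuadraticMap.polar
    ring
  rw [h1, QuadraticMap.map_smul, QuadraticMap.map_smul, QuadraticMap.polar_smul_left,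
    QuadraticMap.polar_smul_right, hpp]
  simp only [smul_eq_mul]
  ring

/-- two orthogonal non-singular vectors span a plane representing both square classes -/
theorem two_classes [Fintype F] (h2 : (2 : F) ≠ 0) (p p' : ι → F) (hp : Q p ≠ 0) (hp' : Q p' ≠ 0)
    (hpp : B p p' = 0) :
    ∃ α β α' β' : F, Q (α • p + β • p') ≠ 0 ∧ Q (α' • p + β' • p') ≠ 0 ∧
      ¬ IsSquare (Q (α • p + β • p') * Q (α' • p + β' • p')) := by
  obtain ⟨ν, hν⟩ := exists_nonsquare_unit (F := F) h2
  obtain ⟨α, β, h1⟩ := exists_diag_eq h2 (Q p) (Q p') hp hp' 1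
  obtain ⟨α', β', h3⟩ := exists_diag_eq h2 (Q p) (Q p') hp hp' (ν : F)
  refine ⟨α, β, α', β', ?_, ?_, ?_⟩
  · rw [map_comb Q p p' hpp]
    have : α ^ 2 * Q p + β ^ 2 * Q p' = 1 := by linear_combination h1
    rw [this]; exact one_ne_zero
  · rw [map_comb Q p p' hpp]
    have : α' ^ 2 * Q p + β' ^ 2 * Q p' = (ν : F) := by linear_combination h3
    rw [this]; exact ν.ne_zero
  · rw [map_comb Q p p' hpp, map_comb Q p p' hpp]
    have e1 : α ^ 2 * Q p + β ^ 2 * Q p' = 1 := by linear_combination h1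
    have e2 : α' ^ 2 * Q p + β' ^ 2 * Q p' = (ν : F) := by linear_combination h3
    rw [e1, e2, one_mul]
    exact hν

/-- an involutory isometry different from `-ε` has a non-singular `ε`-eigenvector -/
theorem exists_eigen_nonsing (hQ : (QuadraticMap.polarBilin Q).Nondegenerate) (h2 : (2 : F) ≠ 0)
    (hM1 : ∀ v, Q (M *ᵥ v) = Q v) (hM2 : ∀ v, M *ᵥ (M *ᵥ v) = v) (ε : F) (hε : ε * ε = 1)
    (hne : ∃ x, M *ᵥ x ≠ (-ε) • x) : ∃ u, Q u ≠ 0 ∧ M *ᵥ u = ε • u := by
  have hM1' : ∀ v, Q (M *ᵥ v) = 1 * Q v := fun v => by rw [hM1, one_mul]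
  have hM2' : ∀ v, M *ᵥ (M *ᵥ v) = (1 : F) • v := fun v => by rw [hM2, one_smul]
  have hpol : ∀ x y, B (M *ᵥ x) (M *ᵥ y) = B x y := fun x y => by
    rw [polar_of_sim Q M 1 hM1', one_mul]
  have hsa := selfadj_of_sq Q M 1 one_ne_zero hM1' hM2'
  by_contra hcon
  push Not at hcon
  have heig : ∀ x, M *ᵥ (x + ε • M *ᵥ x) = ε • (x + ε • M *ᵥ x) := by
    intro x
    rw [Matrix.mulVec_add, Matrix.mulVec_smul, hM2, smul_add, smul_smul, hε, one_smul, add_comm]
  have hall : ∀ x, Q (x + ε • M *ᵥ x) = 0 := by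
    intro x
    by_contra h
    exact hcon _ h (heig x)
  obtain ⟨x, hx⟩ := hne
  apply hx
  have hz : x + ε • M *ᵥ x = 0 := by
    apply hQ.1
    intro y
    show B (x + ε • M *ᵥ x) y = 0
    have h1 : B (x + ε • M *ᵥ x) (y + ε • M *ᵥ y) = 0 := by
      have e1 : (x + ε • M *ᵥ x) + (y + ε • M *ᵥ y) = (x + y) + ε • M *ᵥ (x + y) := by
        rw [Matrix.mulVec_add, smul_add]
        abel
      unfold QuadraticMap.polar
      rw [e1, hall, hall, hall]
      ring
    have h3 : B (x + ε • M *ᵥ x) (y - ε • M *ᵥ y) = 0 := by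
      simp only [QuadraticMap.polar_add_left, QuadraticMap.polar_sub_right,
        QuadraticMap.polar_smul_left, QuadraticMap.polar_smul_right, hpol, hsa, smul_eq_mul]
      linear_combination (-(B x y)) * hε
    have h5 : B (x + ε • M *ᵥ x) ((2 : F) • y) = 0 := by
      have e2 : (2 : F) • y = (y + ε • M *ᵥ y) + (y - ε • M *ᵥ y) := by
        rw [two_smul]; abel
      rw [e2, QuadraticMap.polar_add_right, h1, h3, add_zero]
    rw [QuadraticMap.polar_smul_right, smul_eq_mul] at h5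
    exact (mul_eq_zero.1 h5).resolve_left h2
  have h6 : ε • (x + ε • M *ᵥ x) = 0 := by rw [hz, smul_zero]
  rw [smul_add, smul_smul, hε, one_smul] at h6
  rw [neg_smul, eq_neg_iff_add_eq_zero, add_comm]
  exact h6

/-- an involutory isometry different from `±1` is centralised by a product of two reflections with
non-trivial spinor norm: there are eigenvectors `u, w` with `Q u * Q w` a non-square -/
theorem invol_eigen [Fintype F] (hQ : (QuadraticMap.polarBilin Q).Nondegenerate) (h2 : (2 : F) ≠ 0)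
    (h3 : 3 ≤ Fintype.card ι)
    (hM1 : ∀ v, Q (M *ᵥ v) = Q v) (hM2 : ∀ v, M *ᵥ (M *ᵥ v) = v)
    (hne1 : ∃ x, M *ᵥ x ≠ x) (hne2 : ∃ x, M *ᵥ x ≠ -x) :
    ∃ (u w : ι → F) (ε : F), Q u ≠ 0 ∧ Q w ≠ 0 ∧ ¬ IsSquare (Q u * Q w) ∧ ε ≠ 0 ∧
      M *ᵥ u = ε • u ∧ M *ᵥ w = ε • w := by
  have hM1' : ∀ v, Q (M *ᵥ v) = 1 * Q v := fun v => by rw [hM1, one_mul]
  have hM2' : ∀ v, M *ᵥ (M *ᵥ v) = (1 : F) • v := fun v => by rw [hM2, one_smul]
  have hpol : ∀ x y, B (M *ᵥ x) (M *ᵥ y) = B x y := fun x y => by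
    rw [polar_of_sim Q M 1 hM1', one_mul]
  have hsa := selfadj_of_sq Q M 1 one_ne_zero hM1' hM2'
  obtain ⟨up, hup, hMup⟩ := exists_eigen_nonsing Q M hQ h2 hM1 hM2 1 (one_mul 1) (by
    obtain ⟨x, hx⟩ := hne2
    exact ⟨x, by rwa [neg_smul, one_smul]⟩)
  obtain ⟨um, hum, hMum⟩ := exists_eigen_nonsing Q M hQ h2 hM1 hM2 (-1) (by ring) (by
    obtain ⟨x, hx⟩ := hne1
    exact ⟨x, by rwa [neg_neg, one_smul]⟩)
  rw [one_smul] at hMup
  rw [neg_smul, one_smul] at hMum
  have horth : B up um = 0 := by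
    have h1 := hpol up um
    rw [hMup, hMum, QuadraticMap.polar_neg_right] at h1
    have h4 : (2 : F) * B up um = 0 := by linear_combination -h1
    exact (mul_eq_zero.1 h4).resolve_left h2
  have hΔ : B up up * B um um - B up um * B up um ≠ 0 := by
    rw [horth, Cfsg.Agent.Lib.H4.polar_self, Cfsg.Agent.Lib.H4.polar_self, mul_zero, sub_zero]
    exact mul_ne_zero (mul_ne_zero h2 hup) (mul_ne_zero h2 hum)
  obtain ⟨x', hx1, hx2, hx3⟩ := perp_nonsing Q hQ h3 up um hΔ
  have hsum : Q (x' + M *ᵥ x') + Q (x' - M *ᵥ x') = 4 * Q x' := by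
    have e1 : Q (x' + M *ᵥ x') = Q x' + Q (M *ᵥ x') + B x' (M *ᵥ x') := by
      unfold QuadraticMap.polar; ring
    have e2 : Q (x' - M *ᵥ x') = Q x' + Q (M *ᵥ x') - B x' (M *ᵥ x') := by
      have : x' - M *ᵥ x' = x' + -(M *ᵥ x') := sub_eq_add_neg _ _
      have e3 : Q (x' + -(M *ᵥ x')) = Q x' + Q (-(M *ᵥ x')) + B x' (-(M *ᵥ x')) := by
        unfold QuadraticMap.polar; ring
      rw [this, e3, QuadraticMap.map_neg, QuadraticMap.polar_neg_right]
      ring
    rw [e1, e2, hM1]
    ring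
  have h4 : (4 : F) ≠ 0 := by
    have : (4 : F) = 2 * 2 := by norm_num
    rw [this]
    exact mul_ne_zero h2 h2
  have hcases : Q (x' + M *ᵥ x') ≠ 0 ∨ Q (x' - M *ᵥ x') ≠ 0 := by
    by_contra hc
    push Not at hc
    rw [hc.1, hc.2, add_zero] at hsum
    exact (mul_ne_zero h4 hx3) hsum.symm
  rcases hcases with hc | hc
  · -- both in the `+1`-eigenspace
    have hM3 : M *ᵥ (x' + M *ᵥ x') = x' + M *ᵥ x' := by
      rw [Matrix.mulVec_add, hM2, add_comm]
    have ho : B up (x' + M *ᵥ x') = 0 := by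
      rw [QuadraticMap.polar_add_right, ← hsa, hMup, hx1, add_zero]
    obtain ⟨α, β, α', β', hq1, hq2, hq3⟩ := two_classes Q h2 up _ hup hc ho
    refine ⟨_, _, 1, hq1, hq2, hq3, one_ne_zero, ?_, ?_⟩
    · rw [Matrix.mulVec_add, Matrix.mulVec_smul, Matrix.mulVec_smul, hMup, hM3, one_smul]
    · rw [Matrix.mulVec_add, Matrix.mulVec_smul, Matrix.mulVec_smul, hMup, hM3, one_smul]
  · -- both in the `-1`-eigenspace
    have hM3 : M *ᵥ (x' - M *ᵥ x') = -(x' - M *ᵥ x') := by
      rw [Matrix.mulVec_sub, hM2, neg_sub]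
    have ho : B um (x' - M *ᵥ x') = 0 := by
      rw [QuadraticMap.polar_sub_right, ← hsa, hMum, QuadraticMap.polar_neg_left, hx2, neg_zero,
        sub_zero]
    obtain ⟨α, β, α', β', hq1, hq2, hq3⟩ := two_classes Q h2 um _ hum hc ho
    refine ⟨_, _, -1, hq1, hq2, hq3, neg_ne_zero.2 one_ne_zero, ?_, ?_⟩
    · rw [Matrix.mulVec_add, Matrix.mulVec_smul, Matrix.mulVec_smul, hMum, hM3, neg_smul, one_smul,
        smul_neg, smul_neg, neg_add]
    · rw [Matrix.mulVec_add, Matrix.mulVec_smul, Matrix.mulVec_smul, hMum, hM3, neg_smul, one_smul,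
        smul_neg, smul_neg, neg_add]

end selfadjoint

end Cfsg.Agent.Lib.H11.ConfOrth
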