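import Cfsg.Agent.Lib.H11.ConfOrth15
import Cfsg.Agent.Lib.H11.AltForm

/-!
# Conformal orthogonal groups (part 16): similarities of the hyperbolic form with scalar square
-/

set_option autoImplicit false
set_option linter.unusedSectionVars false
set_option linter.unusedSimpArgs false

namespace Cfsg.Agent.Lib.H11.ConfOrth

open Matrix Module
open scoped MatrixGroups
open Cfsg.Agent.Lib.H13 Cfsg.Agent.Lib.H13.PlusTS

variable {F : Type*} [Field F] {m : ℕ}

local notation "KK" => (Fin m ⊕ Fin m)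

theorem polar_plus_single_inl (i : Fin m) (y : KK → F) :
    QuadraticMap.polar (⇑(plusQF F m)) (Pi.single (Sum.inl i) 1) y = y (Sum.inr i) := by
  rw [Cfsg.Agent.S0287.coe_plusQF, polar_quadFormPlus_formula]
  simp [Pi.single_apply]

theorem polar_plus_single_inr (i : Fin m) (y : KK → F) :
    QuadraticMap.polar (⇑(plusQF F m)) (Pi.single (Sum.inr i) 1) y = y (Sum.inl i) := by
  rw [Cfsg.Agent.S0287.coe_plusQF, polar_quadFormPlus_formula]
  simp [Pi.single_apply]

theorem plusQF_single (k : KK) : plusQF F m (Pi.single k 1) = 0 := by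
  rw [plusQF_apply]
  unfold Cfsg.quadFormPlus
  apply Finset.sum_eq_zero
  intro i _
  rcases k with k | k
  · simp [Pi.single_apply]
  · simp [Pi.single_apply]

section selfadjoint


/-- a self-adjoint similarity with non-square multiplier `τ` and square `τ` does not kill
`B(u, M u)` on all singular vectors -/
theorem exists_sing_ne (M : Matrix KK KK F) (τ : F) (hm : 1 ≤ m) (h2 : (2 : F) ≠ 0) (hτ : ¬ IsSquare τ)
    (hM1 : ∀ v, plusQF F m (M *ᵥ v) = τ * plusQF F m v)
    (hM2 : ∀ v, M *ᵥ (M *ᵥ v) = τ • v) :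
    ∃ u, plusQF F m u = 0 ∧ QuadraticMap.polar (⇑(plusQF F m)) u (M *ᵥ u) ≠ 0 := by
  have hτ0 : τ ≠ 0 := by
    rintro rfl
    exact hτ ⟨0, by simp⟩
  have hsa := selfadj_of_sq (plusQF F m) M τ hτ0 hM1 hM2
  by_contra hcon
  push Not at hcon
  have key : ∀ x y, plusQF F m x = 0 → plusQF F m y = 0 →
      QuadraticMap.polar (⇑(plusQF F m)) x y = 0 →
      QuadraticMap.polar (⇑(plusQF F m)) x (M *ᵥ y) = 0 := by
    intro x y hx hy hxy
    have h1 : plusQF F m (x + y) = 0 := by
      have : plusQF F m (x + y) = plusQF F m x + plusQF F m y +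
          QuadraticMap.polar (⇑(plusQF F m)) x y := by
        unfold QuadraticMap.polar; ring
      rw [this, hx, hy, hxy, add_zero, add_zero]
    have h3 := hcon _ h1
    rw [Matrix.mulVec_add, QuadraticMap.polar_add_left, QuadraticMap.polar_add_right,
      QuadraticMap.polar_add_right, hcon x hx, hcon y hy, zero_add, add_zero,
      QuadraticMap.polar_comm _ y (M *ᵥ x), hsa] at h3
    have h4 : (2 : F) * QuadraticMap.polar (⇑(plusQF F m)) x (M *ᵥ y) = 0 := by
      linear_combination h3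
    exact (mul_eq_zero.1 h4).resolve_left h2
  obtain ⟨j₀⟩ : Nonempty (Fin m) := ⟨⟨0, hm⟩⟩
  obtain ⟨e, he⟩ : ∃ e : KK → F, e = Pi.single (Sum.inl j₀) 1 := ⟨_, rfl⟩
  have heQ : plusQF F m e = 0 := by rw [he]; exact plusQF_single _
  have hy1 : ∀ i, (M *ᵥ e) (Sum.inr i) = 0 := by
    intro i
    rw [← polar_plus_single_inl i (M *ᵥ e)]
    apply key _ _ (plusQF_single _) heQ
    rw [polar_plus_single_inl, he, Pi.single_apply, if_neg (by simp)]
  have hy2 : ∀ i, i ≠ j₀ → (M *ᵥ e) (Sum.inl i) = 0 := by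
    intro i hi
    rw [← polar_plus_single_inr i (M *ᵥ e)]
    apply key _ _ (plusQF_single _) heQ
    rw [polar_plus_single_inr, he, Pi.single_apply, if_neg (by
      intro h
      exact hi (Sum.inl_injective h))]
  have hy : M *ᵥ e = ((M *ᵥ e) (Sum.inl j₀)) • e := by
    funext k
    rw [Pi.smul_apply, smul_eq_mul, he]
    rcases k with k | k
    · by_cases hk : k = j₀
      · rw [hk, Pi.single_apply, if_pos rfl, mul_one]
      · rw [← he, hy2 k hk, he, Pi.single_apply, if_neg (by
          intro h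
          exact hk (Sum.inl_injective h)), mul_zero]
    · rw [← he, hy1 k, he, Pi.single_apply, if_neg (by simp), mul_zero]
  obtain ⟨c, hc⟩ : ∃ c : F, M *ᵥ e = c • e := ⟨_, hy⟩
  have h5 := hM2 e
  rw [hc, Matrix.mulVec_smul, hc, smul_smul] at h5
  have h6 := congrFun h5 (Sum.inl j₀)
  rw [Pi.smul_apply, Pi.smul_apply, he, Pi.single_apply, if_pos rfl, smul_eq_mul, smul_eq_mul,
    mul_one, mul_one] at h6
  exact hτ ⟨c, h6.symm⟩

/-- a self-adjoint similarity with non-square multiplier `τ` and square `τ`: there is a non-singular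
vector orthogonal to its image -/
theorem selfadj_nonsq [Fintype F] (M : Matrix KK KK F) (τ : F) (hm : 2 ≤ m) (h2 : (2 : F) ≠ 0)
    (hτ : ¬ IsSquare τ)
    (hM1 : ∀ v, plusQF F m (M *ᵥ v) = τ * plusQF F m v)
    (hM2 : ∀ v, M *ᵥ (M *ᵥ v) = τ • v) :
    ∃ v, plusQF F m v ≠ 0 ∧ QuadraticMap.polar (⇑(plusQF F m)) v (M *ᵥ v) = 0 := by
  have hτ0 : τ ≠ 0 := by
    rintro rfl
    exact hτ ⟨0, by simp⟩
  have hQ := Cfsg.Agent.S0287.nondeg (F := F) m
  have hsa := selfadj_of_sq (plusQF F m) M τ hτ0 hM1 hM2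
  have hpol := polar_of_sim (plusQF F m) M τ hM1
  obtain ⟨u, hu0, hus⟩ := exists_sing_ne M τ (by omega) h2 hτ hM1 hM2
  obtain ⟨s, hs⟩ : ∃ s, s = QuadraticMap.polar (⇑(plusQF F m)) u (M *ᵥ u) := ⟨_, rfl⟩
  rw [← hs] at hus
  obtain ⟨u', hu'⟩ : ∃ u', u' = M *ᵥ u := ⟨_, rfl⟩
  have hMu' : M *ᵥ u' = τ • u := by rw [hu', hM2]
  have huu : QuadraticMap.polar (⇑(plusQF F m)) u u = 0 := by
    rw [Cfsg.Agent.Lib.H4.polar_self, hu0, mul_zero]
  have hu'0 : plusQF F m u' = 0 := by rw [hu', hM1, hu0, mul_zero]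
  have hu'u' : QuadraticMap.polar (⇑(plusQF F m)) u' u' = 0 := by
    rw [Cfsg.Agent.Lib.H4.polar_self, hu'0, mul_zero]
  have huu' : QuadraticMap.polar (⇑(plusQF F m)) u u' = s := by rw [hu', hs]
  have hu'u : QuadraticMap.polar (⇑(plusQF F m)) u' u = s := by
    rw [QuadraticMap.polar_comm]; exact huu'
  have hΔ : QuadraticMap.polar (⇑(plusQF F m)) u u * QuadraticMap.polar (⇑(plusQF F m)) u' u' -
      QuadraticMap.polar (⇑(plusQF F m)) u u' * QuadraticMap.polar (⇑(plusQF F m)) u u' ≠ 0 := by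
    rw [huu, huu', zero_mul, zero_sub]
    exact neg_ne_zero.2 (mul_ne_zero hus hus)
  obtain ⟨w, hw1, hw2, hw3⟩ := perp_nonsing (plusQF F m) hQ
    (by rw [Fintype.card_sum, Fintype.card_fin]; omega) u u' hΔ
  obtain ⟨w', hw'⟩ : ∃ w', w' = M *ᵥ w := ⟨_, rfl⟩
  obtain ⟨r, hr⟩ : ∃ r, r = QuadraticMap.polar (⇑(plusQF F m)) w w' := ⟨_, rfl⟩
  have hwu : QuadraticMap.polar (⇑(plusQF F m)) w u = 0 := by
    rw [QuadraticMap.polar_comm]; exact hw1
  have hwu' : QuadraticMap.polar (⇑(plusQF F m)) w u' = 0 := by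
    rw [QuadraticMap.polar_comm]; exact hw2
  have huw' : QuadraticMap.polar (⇑(plusQF F m)) u w' = 0 := by
    rw [hw', ← hsa, ← hu']; exact hw2
  have hu'w' : QuadraticMap.polar (⇑(plusQF F m)) u' w' = 0 := by
    rw [hw', hu', hpol, hw1, mul_zero]
  obtain ⟨x, y, hxy⟩ := exists_diag_eq h2 1 τ one_ne_zero hτ0 (-r / s)
  -- the two candidates
  have hcomp : ∀ y' : F, y' ^ 2 = y ^ 2 →
      QuadraticMap.polar (⇑(plusQF F m)) (x • u + y' • u' + w)
        (M *ᵥ (x • u + y' • u' + w)) = 0 ∧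
      plusQF F m (x • u + y' • u' + w) = x * y' * s + plusQF F m w := by
    intro y' hy'
    constructor
    · have hMv : M *ᵥ (x • u + y' • u' + w) = x • u' + (y' * τ) • u + w' := by
        rw [Matrix.mulVec_add, Matrix.mulVec_add, Matrix.mulVec_smul, Matrix.mulVec_smul, hMu',
          ← hu', ← hw', smul_smul]
      rw [hMv]
      simp only [QuadraticMap.polar_add_left, QuadraticMap.polar_add_right,
        QuadraticMap.polar_smul_left, QuadraticMap.polar_smul_right, smul_eq_mul, huu, hu'u',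
        huu', hu'u, hw1, hw2, hwu, hwu', huw', hu'w', ← hr]
      have h5 : s * (x ^ 2 + τ * y ^ 2) = -r := by
        have : (1 : F) * x ^ 2 + τ * y ^ 2 = -r / s := hxy
        rw [one_mul] at this
        rw [this]
        field_simp
      linear_combination h5 + s * τ * hy'
    · have h6 : plusQF F m (x • u + y' • u' + w) = plusQF F m (x • u + y' • u') + plusQF F m w +
          QuadraticMap.polar (⇑(plusQF F m)) (x • u + y' • u') w := by
        unfold QuadraticMap.polar; ring
      have h7 : plusQF F m (x • u + y' • u') = plusQF F m (x • u) + plusQF F m (y' • u') +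
          QuadraticMap.polar (⇑(plusQF F m)) (x • u) (y' • u') := by
        unfold QuadraticMap.polar; ring
      rw [h6, h7, QuadraticMap.map_smul, QuadraticMap.map_smul, hu0, hu'0]
      simp only [QuadraticMap.polar_add_left, QuadraticMap.polar_smul_left,
        QuadraticMap.polar_smul_right, smul_eq_mul, huu', hw1, hw2]
      ring
  by_cases hcase : x * y * s + plusQF F m w = 0
  · obtain ⟨h8, h9⟩ := hcomp (-y) (by ring)
    refine ⟨_, ?_, h8⟩
    rw [h9]
    have h10 : x * -y * s + plusQF F m w = 2 * plusQF F m w := by linear_combination -hcase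
    rw [h10]
    exact mul_ne_zero h2 hw3
  · obtain ⟨h8, h9⟩ := hcomp y rfl
    refine ⟨_, ?_, h8⟩
    rw [h9]
    exact hcase

end selfadjoint

/-! ### similarities with `B(x, g x) = 0` preserve the two classes -/

/-- the embedding `a ↦ (a, 0)` -/
def inlL (F : Type*) [Field F] (m : ℕ) : (Fin m → F) →ₗ[F] (Fin m ⊕ Fin m → F) where
  toFun a := Sum.elim a 0
  map_add' a b := by
    funext k
    rcases k with k | k <;> simp
  map_smul' c a := by
    funext k
    rcases k with k | k <;> simp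

theorem inlL_apply (a : Fin m → F) : inlL F m a = Sum.elim a 0 := rfl

theorem inlL_injective : Function.Injective (inlL F m) := by
  intro a b hab
  funext i
  have := congrFun hab (Sum.inl i)
  simpa [inlL_apply] using this

theorem mulVec_elim_inr (M : Matrix KK KK F) (a : Fin m → F) (i : Fin m) :
    (M *ᵥ Sum.elim a 0) (Sum.inr i) = (M.toBlocks₂₁ *ᵥ a) i := by
  simp [Matrix.mulVec, dotProduct, Fintype.sum_sum_type, Matrix.toBlocks₂₁]

theorem U0_inf_map (M : Matrix KK KK F) :
    U0 F m ⊓ (U0 F m).map (Matrix.mulVecLin M) =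
      (LinearMap.ker (Matrix.mulVecLin M.toBlocks₂₁)).map
        ((Matrix.mulVecLin M).comp (inlL F m)) := by
  apply le_antisymm
  · rintro z ⟨hz, x, hx, rfl⟩
    rw [SetLike.mem_coe, mem_U0_iff] at hx
    have hxa : x = Sum.elim (x ∘ Sum.inl) 0 := by
      funext k
      rcases k with k | k
      · rfl
      · exact congrFun hx k
    refine ⟨x ∘ Sum.inl, ?_, ?_⟩
    · rw [SetLike.mem_coe, LinearMap.mem_ker, Matrix.mulVecLin_apply]
      funext i
      rw [← mulVec_elim_inr, ← hxa]
      rw [SetLike.mem_coe, mem_U0_iff] at hz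
      exact congrFun hz i
    · rw [LinearMap.comp_apply, inlL_apply, ← hxa]
  · rintro z ⟨a, ha, rfl⟩
    rw [SetLike.mem_coe, LinearMap.mem_ker, Matrix.mulVecLin_apply] at ha
    rw [LinearMap.comp_apply, inlL_apply, Matrix.mulVecLin_apply]
    constructor
    · rw [SetLike.mem_coe, mem_U0_iff]
      funext i
      show (M *ᵥ Sum.elim a 0) (Sum.inr i) = 0
      rw [mulVec_elim_inr, ha]
      rfl
    · refine ⟨Sum.elim a 0, ?_, rfl⟩
      rw [SetLike.mem_coe, mem_U0_iff]
      rfl

theorem finrank_U0_inf_map (M : Matrix KK KK F) (hM : IsUnit M) :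
    m - finrank F ↥(U0 F m ⊓ (U0 F m).map (Matrix.mulVecLin M)) = M.toBlocks₂₁.rank := by
  rw [U0_inf_map]
  have hinj : Function.Injective ((Matrix.mulVecLin M).comp (inlL F m)) := by
    intro a b hab
    rw [LinearMap.comp_apply, LinearMap.comp_apply, Matrix.mulVecLin_apply,
      Matrix.mulVecLin_apply] at hab
    exact inlL_injective ((Matrix.mulVec_injective_iff_isUnit.mpr hM) hab)
  have e := Submodule.equivMapOfInjective _ hinj (LinearMap.ker (Matrix.mulVecLin M.toBlocks₂₁))
  rw [← LinearEquiv.finrank_eq e]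
  have h1 := LinearMap.finrank_range_add_finrank_ker (Matrix.mulVecLin M.toBlocks₂₁)
  rw [Module.finrank_fintype_fun_eq_card, Fintype.card_fin] at h1
  unfold Matrix.rank
  omega

theorem delta_eq_one_of_skew (h2 : (2 : F) ≠ 0) (hne : ∃ v, plusQF F m v ≠ 0)
    (g : ↥(Sim ⇑(plusQF F m)))
    (hskew : ∀ x, QuadraticMap.polar (⇑(plusQF F m)) x (((g.1 : GL KK F) : Matrix KK KK F) *ᵥ x) = 0) :
    delta (plusQF F m) hne m g = 1 := by
  rw [← parity_sim h2 hne g (U0 F m) U0_ts finrank_U0,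
    finrank_U0_inf_map _ ((g.1 : GL KK F).isUnit)]
  apply Cfsg.Agent.Lib.H11.even_rank_of_alternating
  intro a
  have hpf : ∀ x y : KK → F, QuadraticMap.polar (⇑(plusQF F m)) x y =
      ∑ i : Fin m, (x (.inl i) * y (.inr i) + y (.inl i) * x (.inr i)) := by
    intro x y
    rw [Cfsg.Agent.S0287.coe_plusQF, polar_quadFormPlus_formula]
  have h1 := hskew (Sum.elim a 0)
  rw [hpf] at h1
  simp only [Sum.elim_inl, Sum.elim_inr, Pi.zero_apply, mul_zero, add_zero] at h1
  rw [← h1]
  unfold dotProduct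
  apply Finset.sum_congr rfl
  intro i _
  rw [mulVec_elim_inr]

end Cfsg.Agent.Lib.H11.ConfOrth
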