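import Cfsg.Agent.Lib.H11.ConfOrth16

/-!
# Conformal orthogonal groups (part 17): an element of `SO ∖ Ω` centralising a class-swapping
similarity with scalar square
-/

set_option autoImplicit false
set_option linter.unusedSectionVars false
set_option linter.unusedSimpArgs false

namespace Cfsg.Agent.Lib.H11.ConfOrth

open Matrix Module
open scoped MatrixGroups
open Cfsg.Agent.Lib.H13 Cfsg.Agent.Lib.H13.PlusTS Cfsg.Agent.Lib.H13.HypPairs

section general

variable {F : Type*} [Field F] [Fintype F] {ι : Type} [Fintype ι] [DecidableEq ι]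
  (Q : QuadraticForm F (ι → F))

/-- a product of two reflections with non-square product of norms lies in `SO ∖ Ω` -/
theorem two_refl (hQ : (QuadraticMap.polarBilin Q).Nondegenerate) (h2 : (2 : F) ≠ 0)
    (hcard : 2 ≤ Fintype.card ι) (u w : ι → F) (hu : Q u ≠ 0) (hw : Q w ≠ 0)
    (hns : ¬ IsSquare (Q u * Q w)) :
    ((reflG Q u hu).1 * (reflG Q w hw).1 ∈ Cfsg.specialIsometryGL F ⇑Q) ∧
      ((reflG Q u hu).1 * (reflG Q w hw).1 ∉ Cfsg.Geo.omegaGL ⇑Q) := by
  have hO : (reflG Q u hu).1 * (reflG Q w hw).1 ∈ Cfsg.isometryGroup F ⇑Q :=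
    mul_mem (reflG Q u hu).2 (reflG Q w hw).2
  have hvs : ∀ v ∈ [u, w], Q v ≠ 0 := by
    intro v hv
    simp only [List.mem_cons, List.not_mem_nil, or_false] at hv
    rcases hv with rfl | rfl
    · exact hu
    · exact hw
  have hrep : (((reflG Q u hu).1 * (reflG Q w hw).1 : GL ι F) : Matrix ι ι F) =
      ([u, w].map (fun v => Cfsg.reflectionMatrix ⇑Q v)).prod := by
    rw [Units.val_mul, reflG_val, reflG_val]
    simp
  constructor
  · rw [sO_iff_even Q h2 _ hO [u, w] hvs hrep]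
    exact ⟨1, rfl⟩
  · rw [omegaGL_iff_list Q hQ h2 hcard _ hO [u, w] hvs hrep]
    rintro ⟨-, hsq⟩
    apply hns
    simpa using hsq

/-- a similarity moves reflections to reflections -/
theorem sim_mul_refl (s : ↥(Sim ⇑Q)) (v : ι → F) (hv : Q v ≠ 0) :
    (s.1 : Matrix ι ι F) * Cfsg.reflectionMatrix ⇑Q v =
      Cfsg.reflectionMatrix ⇑Q ((s.1 : Matrix ι ι F) *ᵥ v) * (s.1 : Matrix ι ι F) := by
  have h1 := sim_conj_refl Q s v hv
  rw [← h1, Matrix.mul_assoc, ← Units.val_mul, inv_mul_cancel, Units.val_one, Matrix.mul_one]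

theorem comm_two_refl (s : ↥(Sim ⇑Q)) (u w : ι → F) (hu : Q u ≠ 0) (hw : Q w ≠ 0)
    (hc : Cfsg.reflectionMatrix ⇑Q ((s.1 : Matrix ι ι F) *ᵥ u) *
      Cfsg.reflectionMatrix ⇑Q ((s.1 : Matrix ι ι F) *ᵥ w) =
      Cfsg.reflectionMatrix ⇑Q u * Cfsg.reflectionMatrix ⇑Q w) :
    s.1 * ((reflG Q u hu).1 * (reflG Q w hw).1) = ((reflG Q u hu).1 * (reflG Q w hw).1) * s.1 := by
  apply Units.ext
  simp only [Units.val_mul, reflG_val]
  rw [← Matrix.mul_assoc, sim_mul_refl Q s u hu, Matrix.mul_assoc, sim_mul_refl Q s w hw,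
    ← Matrix.mul_assoc, hc]

end general

section plus

variable {F : Type*} [Field F] [Fintype F] {m : ℕ}

local notation "KK" => (Fin m ⊕ Fin m)

/-- a similarity equal to a scalar on all vectors has trivial `delta` -/
theorem delta_eq_one_of_scalar (hne : ∃ v, plusQF F m v ≠ 0) (g : ↥(Sim ⇑(plusQF F m)))
    (l : F) (hl : l ≠ 0) (hg : ∀ x, ((g.1 : GL KK F) : Matrix KK KK F) *ᵥ x = l • x) :
    delta (plusQF F m) hne m g = 1 := by
  have h1 : g = zS (plusQF F m) (Units.mk0 l hl) := by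
    apply Subtype.ext
    apply Units.ext
    apply Matrix.ext_iff_mulVec.mpr
    intro x
    rw [hg]
    show _ = (Matrix.GeneralLinearGroup.scalar KK (Units.mk0 l hl)).1 *ᵥ x
    rw [scalar_mulVec, Units.val_mk0]
  rw [h1, delta_zS (plusQF F m) hne m card_plus]

theorem exists_comm_not_omega (h2 : (2 : F) ≠ 0) (hm : 4 ≤ m) (hne : ∃ v, plusQF F m v ≠ 0)
    (g : ↥(Sim ⇑(plusQF F m))) (hδ : delta (plusQF F m) hne m g ≠ 1) (c : Fˣ)
    (hsq : g.1 * g.1 = Matrix.GeneralLinearGroup.scalar KK c) :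
    ∃ h : GL KK F, h ∈ Cfsg.specialIsometryGL F ⇑(plusQF F m) ∧
      h ∉ Cfsg.Geo.omegaGL ⇑(plusQF F m) ∧ g.1 * h = h * g.1 := by
  have hQ := Cfsg.Agent.S0287.nondeg (F := F) m
  have hcard : Fintype.card KK = 2 * m := card_plus
  have hc2 : 2 ≤ Fintype.card KK := by omega
  have hc3 : 3 ≤ Fintype.card KK := by omega
  obtain ⟨M, hM⟩ : ∃ M : Matrix KK KK F, M = ((g.1 : GL KK F) : Matrix KK KK F) := ⟨_, rfl⟩
  obtain ⟨τ, hτ⟩ : ∃ τ : Fˣ, τ = mult (⇑(plusQF F m)) hne g := ⟨_, rfl⟩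
  have hM1 : ∀ v, plusQF F m (M *ᵥ v) = (τ : F) * plusQF F m v := by
    intro v
    rw [hM, hτ]
    exact mult_spec _ hne g v
  have hMM : ∀ v, M *ᵥ (M *ᵥ v) = (c : F) • v := by
    intro v
    rw [hM, Matrix.mulVec_mulVec, ← Units.val_mul, hsq, scalar_mulVec]
  have hcτ : ((c : F) - τ) * ((c : F) + τ) = 0 := by
    obtain ⟨v₀, hv₀⟩ := hne
    have h1 : plusQF F m (M *ᵥ (M *ᵥ v₀)) = (τ : F) * ((τ : F) * plusQF F m v₀) := by
      rw [hM1, hM1]
    rw [hMM, QuadraticMap.map_smul, smul_eq_mul] at h1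
    have h3 : (((c : F) - τ) * ((c : F) + τ)) * plusQF F m v₀ = 0 := by linear_combination h1
    exact (mul_eq_zero.1 h3).resolve_right hv₀
  have hτ0 : (τ : F) ≠ 0 := τ.ne_zero
  rcases mul_eq_zero.1 hcτ with hc | hc
  swap
  · -- the skew case is impossible
    exfalso
    apply hδ
    apply delta_eq_one_of_skew h2 hne g
    intro x
    rw [← hM]
    have h1 := polar_of_sim (plusQF F m) M τ hM1 x (M *ᵥ x)
    have hc' : (c : F) = -τ := by linear_combination hc
    rw [hMM, hc', QuadraticMap.polar_smul_right, smul_eq_mul,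
      QuadraticMap.polar_comm _ (M *ᵥ x) x] at h1
    have h3 : (2 * (τ : F)) * QuadraticMap.polar (⇑(plusQF F m)) x (M *ᵥ x) = 0 := by
      linear_combination -h1
    exact (mul_eq_zero.1 h3).resolve_left (mul_ne_zero h2 hτ0)
  · have hc' : (c : F) = τ := by linear_combination hc
    have hM2 : ∀ v, M *ᵥ (M *ᵥ v) = (τ : F) • v := by
      intro v; rw [hMM, hc']
    by_cases hsqτ : IsSquare (τ : F)
    · -- square multiplier: an involution up to scalars
      obtain ⟨l, hl⟩ := hsqτ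
      have hl0 : l ≠ 0 := by
        rintro rfl
        rw [mul_zero] at hl
        exact hτ0 hl
      have hsm : ∀ v, (l⁻¹ • M) *ᵥ v = l⁻¹ • (M *ᵥ v) := fun v => Matrix.smul_mulVec _ _ _
      have hM1' : ∀ v, plusQF F m ((l⁻¹ • M) *ᵥ v) = plusQF F m v := by
        intro v
        rw [hsm, QuadraticMap.map_smul, hM1, hl, smul_eq_mul]
        field_simp
      have hM2' : ∀ v, (l⁻¹ • M) *ᵥ ((l⁻¹ • M) *ᵥ v) = v := by
        intro v
        rw [hsm, hsm, Matrix.mulVec_smul, hM2, smul_smul, smul_smul, hl]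
        have : l⁻¹ * l⁻¹ * (l * l) = 1 := by field_simp
        rw [this, one_smul]
      have hne1 : ∃ x, (l⁻¹ • M) *ᵥ x ≠ x := by
        by_contra hcon
        push Not at hcon
        apply hδ
        apply delta_eq_one_of_scalar hne g l hl0
        intro x
        rw [← hM]
        have := hcon x
        rw [hsm] at this
        rw [← this, smul_smul, mul_inv_cancel₀ hl0, one_smul, this]
      have hne2 : ∃ x, (l⁻¹ • M) *ᵥ x ≠ -x := by
        by_contra hcon
        push Not at hcon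
        apply hδ
        apply delta_eq_one_of_scalar hne g (-l) (neg_ne_zero.2 hl0)
        intro x
        rw [← hM]
        have := hcon x
        rw [hsm] at this
        have h5 : M *ᵥ x = l • (l⁻¹ • M *ᵥ x) := by
          rw [smul_smul, mul_inv_cancel₀ hl0, one_smul]
        rw [h5, this, smul_neg, neg_smul]
      obtain ⟨u, w, ε, hu, hw, hns, hε, hMu, hMw⟩ :=
        invol_eigen (plusQF F m) (l⁻¹ • M) hQ h2 hc3 hM1' hM2' hne1 hne2
      have hMu' : M *ᵥ u = (l * ε) • u := by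
        have h5 : M *ᵥ u = l • (l⁻¹ • M *ᵥ u) := by
          rw [smul_smul, mul_inv_cancel₀ hl0, one_smul]
        rw [h5, ← hsm, hMu, smul_smul]
      have hMw' : M *ᵥ w = (l * ε) • w := by
        have h5 : M *ᵥ w = l • (l⁻¹ • M *ᵥ w) := by
          rw [smul_smul, mul_inv_cancel₀ hl0, one_smul]
        rw [h5, ← hsm, hMw, smul_smul]
      obtain ⟨hso, hom⟩ := two_refl (plusQF F m) hQ h2 hc2 u w hu hw hns
      refine ⟨_, hso, hom, ?_⟩
      apply comm_two_refl (plusQF F m) g u w hu hw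
      rw [← hM, hMu', hMw', refl_smul _ _ (mul_ne_zero hl0 hε), refl_smul _ _ (mul_ne_zero hl0 hε)]
    · -- non-square multiplier
      obtain ⟨v, hv, hvo⟩ := selfadj_nonsq M τ (by omega) h2 hsqτ hM1 hM2
      have hw : plusQF F m (M *ᵥ v) ≠ 0 := by
        rw [hM1]
        exact mul_ne_zero hτ0 hv
      have hns : ¬ IsSquare (plusQF F m v * plusQF F m (M *ᵥ v)) := by
        rw [hM1]
        intro hsq'
        apply hsqτ
        have h5 : plusQF F m v * ((τ : F) * plusQF F m v) =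
            (τ : F) * (plusQF F m v * plusQF F m v) := by ring
        rw [h5, isSquare_mul_iff _ _ hτ0 (mul_ne_zero hv hv)] at hsq'
        exact hsq'.2 ⟨_, rfl⟩
      obtain ⟨hso, hom⟩ := two_refl (plusQF F m) hQ h2 hc2 v (M *ᵥ v) hv hw hns
      refine ⟨_, hso, hom, ?_⟩
      apply comm_two_refl (plusQF F m) g v (M *ᵥ v) hv hw
      rw [← hM, hM2, refl_smul _ _ hτ0]
      apply refl_comm
      rw [QuadraticMap.polar_comm]
      exact hvo

end plus

end Cfsg.Agent.Lib.H11.ConfOrth
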