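import Cfsg.Agent.Lib.H11.ConfOrth17

/-!
# Conformal orthogonal groups (part 18): elements of `Inndiag` commuting with a class-swapping
similarity have square multiplier
-/

set_option autoImplicit false
set_option linter.unusedSectionVars false
set_option linter.unusedSimpArgs false

namespace Cfsg.Agent.Lib.H11.ConfOrth

open Matrix Module
open scoped MatrixGroups
open Cfsg.Agent.Lib.H13 Cfsg.Agent.Lib.H13.HypPairs

variable {F : Type*} [Field F] [Fintype F] [DecidableEq F] {ι : Type} [Fintype ι] [DecidableEq ι]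
  (Q : QuadraticForm F (ι → F))

section main

variable (hQ : (QuadraticMap.polarBilin Q).Nondegenerate) (h2 : (2 : F) ≠ 0) (m : ℕ)
  (hm : 4 ≤ m) (hcard : Fintype.card ι = 2 * m) (hne : ∃ v, Q v ≠ 0)

omit [Fintype F] [DecidableEq F] in
/-- conjugation by a similarity preserves `Ω` -/
theorem sim_conj_mem_omegaGL (s : ↥(Sim ⇑Q)) (ω : GL ι F) (hω : ω ∈ Cfsg.Geo.omegaGL ⇑Q) :
    s.1 * ω * s.1⁻¹ ∈ Cfsg.Geo.omegaGL ⇑Q := by
  obtain ⟨h, hs⟩ := (mem_omegaGL_iff (⇑Q) ω).1 hω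
  rw [mem_omegaGL_iff]
  exact ⟨(conjOmega (⇑Q) s ⟨⟨ω, h⟩, hs⟩).1.2, (conjOmega (⇑Q) s ⟨⟨ω, h⟩, hs⟩).2⟩

include hQ h2 hm hcard in
/-- when `-1 ∈ Ω`, commutators of elements of `DD` lie in `Ω` -/
theorem comm_mem_omega_of_DD (hneg : negOne ι F ∈ Cfsg.Geo.omegaGL ⇑Q) (g₀ : ↥(Sim ⇑Q))
    (hg₀ : ¬ IsSquare (mult (⇑Q) hne g₀ : F)) (hd₀ : delta Q hne m g₀ = 1)
    (a b : ↥(Sim ⇑Q)) (ha : a ∈ DD Q m hne) (hb : b ∈ DD Q m hne) :
    a.1 * b.1 * a.1⁻¹ * b.1⁻¹ ∈ Cfsg.Geo.omegaGL ⇑Q := by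
  have hker := ker_Phi_main Q hQ h2 m hm hcard
  have key : ∃ (B : Type) (_ : CommGroup B) (φ : ↥((DD Q m hne).map (Phi ⇑Q)) →* B),
      φ.ker = (Cfsg.Inn (Cfsg.POmega F ⇑Q)).subgroupOf ((DD Q m hne).map (Phi ⇑Q)) := by
    by_cases hsq : ∃ c : Fˣ, ∃ ω ∈ Cfsg.Geo.omegaGL ⇑Q, g₀.1 * g₀.1 =
        Matrix.GeneralLinearGroup.scalar ι c * ω
    · obtain ⟨φ, -, hk⟩ := (dd_inn_four Q hQ h2 m hm hcard hne hneg g₀ hg₀ hd₀).2 hsq
      exact ⟨_, inferInstance, φ, hk⟩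
    · obtain ⟨φ, -, hk⟩ := (dd_inn_four Q hQ h2 m hm hcard hne hneg g₀ hg₀ hd₀).1 hsq
      exact ⟨_, inferInstance, φ, hk⟩
  obtain ⟨B, _, φ, hk⟩ := key
  obtain ⟨x, hx⟩ : ∃ x : ↥((DD Q m hne).map (Phi ⇑Q)), x.1 = Phi (⇑Q) a :=
    ⟨⟨_, Subgroup.mem_map_of_mem _ ha⟩, rfl⟩
  obtain ⟨y, hy⟩ : ∃ y : ↥((DD Q m hne).map (Phi ⇑Q)), y.1 = Phi (⇑Q) b :=
    ⟨⟨_, Subgroup.mem_map_of_mem _ hb⟩, rfl⟩
  have h1 : x * y * x⁻¹ * y⁻¹ ∈ φ.ker := by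
    rw [MonoidHom.mem_ker, map_mul, map_mul, map_mul, map_inv, map_inv,
      mul_comm (φ x) (φ y), mul_inv_cancel_right, mul_inv_cancel]
  rw [hk, Subgroup.mem_subgroupOf] at h1
  have h3 : Phi (⇑Q) (a * b * a⁻¹ * b⁻¹) ∈ Cfsg.Inn (Cfsg.POmega F ⇑Q) := by
    have : ((x * y * x⁻¹ * y⁻¹ : ↥((DD Q m hne).map (Phi ⇑Q))) : MulAut (Cfsg.POmega F ⇑Q)) =
        Phi (⇑Q) (a * b * a⁻¹ * b⁻¹) := by
      simp only [Subgroup.coe_mul, Subgroup.coe_inv, hx, hy, map_mul, map_inv]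
    rw [← this]
    exact h1
  rw [inn_eq, ← Subgroup.mem_comap, mem_comap_map Q hker] at h3
  obtain ⟨c, ω, hω, hcω⟩ := h3
  have hval : (a * b * a⁻¹ * b⁻¹).1 = a.1 * b.1 * a.1⁻¹ * b.1⁻¹ := by
    simp only [Subgroup.coe_mul, Subgroup.coe_inv]
  rw [← hval, hcω]
  apply scalar_mul_mem' Q hne hneg c ω hω
  rw [← hcω]
  apply (mult_eq_one_iff (⇑Q) hne _).1
  rw [map_mul, map_mul, map_mul, map_inv, map_inv, mul_comm (mult (⇑Q) hne a),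
    mul_inv_cancel_right, mul_inv_cancel]

include hQ h2 hm hcard in
/-- when `-1 ∈ Ω`: an element of `DD` commuting modulo scalars with a class-swapping similarity has
square multiplier -/
theorem mult_isSquare_of_comm (hneg : negOne ι F ∈ Cfsg.Geo.omegaGL ⇑Q) (g₀ : ↥(Sim ⇑Q))
    (hg₀ : ¬ IsSquare (mult (⇑Q) hne g₀ : F)) (hd₀ : delta Q hne m g₀ = 1)
    (g : ↥(Sim ⇑Q)) (hδ : delta Q hne m g ≠ 1) (h : ↥(Sim ⇑Q)) (hh : h ∈ DD Q m hne) (c : Fˣ)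
    (hc : h.1 * g.1 * h.1⁻¹ * g.1⁻¹ = Matrix.GeneralLinearGroup.scalar ι c) :
    IsSquare (mult (⇑Q) hne h : F) := by
  by_contra hns
  have hc2 : 2 ≤ Fintype.card ι := by omega
  obtain ⟨v, hv⟩ := id hne
  obtain ⟨r, hr⟩ : ∃ r : ↥(Sim ⇑Q), r = oS Q (reflG Q v hv).1 (reflG Q v hv).2 := ⟨_, rfl⟩
  have hr1 : r.1 = (reflG Q v hv).1 := by rw [hr]; rfl
  have hδg : delta Q hne m g = -1 := (delta_cases Q hne m hQ hcard g).resolve_left hδ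
  have hδr : delta Q hne m r = -1 := by
    rw [hr, delta_oS]
    apply Units.ext
    rw [Matrix.GeneralLinearGroup.val_det_apply, reflG_val,
      Cfsg.Agent.Lib.H13.PlusTS.det_reflectionMatrix Q v hv]
    simp
  obtain ⟨d, hd⟩ : ∃ d : ↥(Sim ⇑Q), d = r⁻¹ * g := ⟨_, rfl⟩
  have hdD : d ∈ DD Q m hne := by
    rw [mem_DD, hd, map_mul, map_inv, hδg, hδr]
    simp
  have hg : g.1 = r.1 * d.1 := by
    rw [hd, Subgroup.coe_mul, Subgroup.coe_inv, mul_inv_cancel_left]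
  have hident : h.1 * g.1 * h.1⁻¹ * g.1⁻¹ =
      (h.1 * r.1 * h.1⁻¹ * r.1⁻¹) * (r.1 * (h.1 * d.1 * h.1⁻¹ * d.1⁻¹) * r.1⁻¹) := by
    rw [hg]; group
  have hX : h.1 * r.1 * h.1⁻¹ * r.1⁻¹ ∉ Cfsg.Geo.omegaGL ⇑Q := by
    rw [hr1]
    exact comm_refl_not_mem Q hne hQ h2 hc2 h hns v hv
  have hY := comm_mem_omega_of_DD Q hQ h2 m hm hcard hne hneg g₀ hg₀ hd₀ h d hh hdD
  have hY' := sim_conj_mem_omegaGL Q r _ hY
  -- the scalar is `±1`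
  have hcO : Matrix.GeneralLinearGroup.scalar ι c ∈ Cfsg.Geo.omegaGL ⇑Q := by
    have h5 : mult (⇑Q) hne (zS Q c) = 1 := by
      have h6 : zS Q c = h * g * h⁻¹ * g⁻¹ := by
        apply Subtype.ext
        simp only [Subgroup.coe_mul, Subgroup.coe_inv]
        rw [hc]; rfl
      rw [h6, map_mul, map_mul, map_mul, map_inv, map_inv, mul_comm (mult (⇑Q) hne h),
        mul_inv_cancel_right, mul_inv_cancel]
    rw [mult_zS] at h5
    have h7 : (c : F) * (c : F) = 1 := by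
      have := congrArg Units.val h5
      rwa [Units.val_pow_eq_pow_val, Units.val_one, sq] at this
    rcases mul_self_eq_one_iff.1 h7 with h8 | h8
    · have : c = 1 := Units.ext h8
      rw [this, map_one]
      exact one_mem _
    · have : c = -1 := by
        apply Units.ext
        rw [h8]; simp
      rw [this]
      exact hneg
  apply hX
  have h9 : h.1 * r.1 * h.1⁻¹ * r.1⁻¹ =
      (h.1 * g.1 * h.1⁻¹ * g.1⁻¹) * (r.1 * (h.1 * d.1 * h.1⁻¹ * d.1⁻¹) * r.1⁻¹)⁻¹ := by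
    rw [hident, mul_inv_cancel_right]
  rw [h9, hc]
  exact mul_mem hcO (inv_mem hY')

end main

end Cfsg.Agent.Lib.H11.ConfOrth
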