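import Cfsg.Agent.Lib.H11.ConfOrth18
import Cfsg.Agent.Lib.H13.AutPSLCentr

/-!
# Conformal orthogonal groups (part 19): splitting of the class of an involutory similarity graph
automorphism of `PΩ⁺`
-/

set_option autoImplicit false
set_option linter.unusedSectionVars false
set_option linter.unusedSimpArgs false

namespace Cfsg.Agent.Lib.H11.ConfOrth

open Matrix Module
open scoped MatrixGroups
open Cfsg.Agent.Lib.H13 Cfsg.Agent.Lib.H13.HypPairs

variable {F : Type*} [Field F] [Fintype F] [DecidableEq F] {m : ℕ}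

local notation "KK" => (Fin m ⊕ Fin m)

/-- the similarities with `det = τ^m` and square multiplier -/
noncomputable def Tsq (hne : ∃ v, plusQF F m v ≠ 0) : Subgroup ↥(Sim ⇑(plusQF F m)) :=
  DD (plusQF F m) m hne ⊓
    ((quadraticChar F).toUnitHom.comp (mult (⇑(plusQF F m)) hne)).ker

theorem mem_Tsq (hne : ∃ v, plusQF F m v ≠ 0) (t : ↥(Sim ⇑(plusQF F m))) :
    t ∈ Tsq hne ↔ t ∈ DD (plusQF F m) m hne ∧ IsSquare (mult (⇑(plusQF F m)) hne t : F) := by
  unfold Tsq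
  rw [Subgroup.mem_inf, MonoidHom.mem_ker, MonoidHom.comp_apply, qc_eq_one_iff]

theorem card_mul_zmod4 : Nat.card (Multiplicative (ZMod 4)) = 4 := by
  rw [Nat.card_eq_fintype_card]; rfl

theorem card_mul_zmod22 : Nat.card (Multiplicative (ZMod 2 × ZMod 2)) = 4 := by
  rw [Nat.card_eq_fintype_card]; rfl

theorem card_mul_zmod2 : Nat.card (Multiplicative (ZMod 2)) = 2 := by
  rw [Nat.card_eq_fintype_card]; rfl

theorem plus_graph_split_aux (hodd : Odd (Fintype.card F)) (hm : 4 ≤ m)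
    (Q₀ : (KK → F) → F) (hQ₀ : ⇑(plusQF F m) = Q₀)
    (A : Subgroup (MulAut (Cfsg.POmega F Q₀)))
    (hA : A = Cfsg.autSubgroupOf (fun β : Cfsg.POmega F Q₀ ≃* Cfsg.POmega F Q₀ =>
      ∃ g : GL KK F, g ∈ Cfsg.Geo.quadSimilarityGroup (F := F) Q₀ ∧
        Cfsg.PreservesSingularClasses Q₀ (g : Matrix KK KK F) ∧
        Cfsg.IsInducedBySemilinearPOmega Q₀ g (RingEquiv.refl F) β))
    (γ : MulAut (Cfsg.POmega F Q₀))
    (hγ : ∃ g : GL KK F, g ∈ Cfsg.Geo.quadSimilarityGroup (F := F) Q₀ ∧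
        ¬ Cfsg.PreservesSingularClasses Q₀ (g : Matrix KK KK F) ∧
        Cfsg.IsInducedBySemilinearPOmega Q₀ g (RingEquiv.refl F) γ)
    (hγ2 : orderOf γ = 2) :
    (Cfsg.splitClassCount A (Cfsg.Inn (Cfsg.POmega F Q₀)) γ = 1 ∨
      Cfsg.splitClassCount A (Cfsg.Inn (Cfsg.POmega F Q₀)) γ = 2) ∧
    (¬ (Odd m ∧ Fintype.card F % 4 = 3) →
      Cfsg.splitClassCount A (Cfsg.Inn (Cfsg.POmega F Q₀)) γ = 2) := by
  subst hQ₀
  have h2 : (2 : F) ≠ 0 := Cfsg.Agent.Lib.H13.HypPairs.two_ne_zero_of_odd_card rfl hodd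
  have hQ := Cfsg.Agent.S0287.nondeg (F := F) m
  have hne := exists_ne_of_nondeg (plusQF F m) hQ (by rw [card_plus]; omega)
  obtain ⟨ν, hν⟩ := exists_nonsquare_unit (F := F) h2
  have hcrit := negOne_mem_plus_iff (F := F) (m := m) rfl hodd (by omega)
  rw [pow_mod_four_eq_one_iff hodd] at hcrit
  have hker := ker_Phi_main (plusQF F m) hQ h2 m hm card_plus
  have hAeq : A = (DD (plusQF F m) m hne).map (Phi ⇑(plusQF F m)) := by
    rw [hA]
    unfold Cfsg.autSubgroupOf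
    apply closure_image_eq_map
    intro β
    constructor
    · rintro ⟨g, hg, hpres, hind⟩
      exact ⟨⟨g, hg⟩, (mem_DD _ m hne _).2 ((pres_iff h2 hne ⟨g, hg⟩).1 hpres),
        (induced_iff _ g hg β).1 hind⟩
    · rintro ⟨g, hgD, rfl⟩
      exact ⟨g.1, g.2, (pres_iff h2 hne g).2 ((mem_DD _ m hne _).1 hgD),
        (induced_iff _ g.1 g.2 _).2 rfl⟩
  subst hAeq
  -- the similarity inducing `γ`
  obtain ⟨g₁, hg₁, hnp, hind⟩ := hγ
  obtain ⟨g, hg⟩ : ∃ g : ↥(Sim ⇑(plusQF F m)), g = ⟨g₁, hg₁⟩ := ⟨_, rfl⟩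
  have hγg : γ = Phi (⇑(plusQF F m)) g := by
    rw [hg]; exact (induced_iff _ g₁ hg₁ γ).1 hind
  have hδ : delta (plusQF F m) hne m g ≠ 1 := by
    intro h
    apply hnp
    have := (pres_iff h2 hne g).2 h
    rw [hg] at this
    exact this
  have hγγ : γ * γ = 1 := by rw [← sq, ← hγ2, pow_orderOf_eq_one]
  have hgg : g * g ∈ (Phi (⇑(plusQF F m))).ker := by
    rw [MonoidHom.mem_ker, map_mul, ← hγg, hγγ]
  rw [hker, Subgroup.mem_subgroupOf, mem_Zs_iff] at hgg
  obtain ⟨c, hc⟩ := hgg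
  have hsq : g.1 * g.1 = Matrix.GeneralLinearGroup.scalar KK c := by
    rw [← hc, Subgroup.coe_mul]
  obtain ⟨h, hso, hom, hcomm⟩ := exists_comm_not_omega h2 hm hne g hδ c hsq
  -- the standard diagonal similarity
  obtain ⟨g₀, hg₀⟩ : ∃ g₀ : ↥(Sim ⇑(plusQF F m)), g₀ = ⟨dPlus ν, dPlus_mem ν⟩ := ⟨_, rfl⟩
  have hg₀m : ¬ IsSquare (mult (⇑(plusQF F m)) hne g₀ : F) := by
    rw [hg₀, dPlus_mult]; exact hν
  have hg₀d : delta (plusQF F m) hne m g₀ = 1 := by rw [hg₀]; exact dPlus_delta hne ν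
  -- group theory
  have hKn : (Cfsg.Inn (Cfsg.POmega F ⇑(plusQF F m))).Normal := inn_normal _
  have hKG := inn_le_DD_map (plusQF F m) hQ h2 m hm card_plus hne
  rw [Cfsg.Agent.Lib.H13.AutPSL.splitClassCount_eq _ _ hKG γ]
  obtain ⟨S, hS⟩ : ∃ S, S = Cfsg.Inn (Cfsg.POmega F ⇑(plusQF F m)) ⊔
      ((DD (plusQF F m) m hne).map (Phi ⇑(plusQF F m)) ⊓ Subgroup.centralizer {γ}) := ⟨_, rfl⟩
  rw [← hS]
  have hKS : Cfsg.Inn (Cfsg.POmega F ⇑(plusQF F m)) ≤ S := by rw [hS]; exact le_sup_left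
  have hSG : S ≤ (DD (plusQF F m) m hne).map (Phi ⇑(plusQF F m)) := by
    rw [hS]; exact sup_le hKG inf_le_left
  have hmul := Subgroup.relIndex_mul_relIndex _ S _ hKS hSG
  by_cases hneg : negOne KK F ∈ Cfsg.Geo.omegaGL ⇑(plusQF F m)
  swap
  · -- index two
    obtain ⟨φ, hφ, hφk⟩ := dd_inn_z2 (plusQF F m) hQ h2 m hm card_plus hne hneg g₀ hg₀m hg₀d
    have h4 := relIndex_of_hom _ _ φ hφ hφk
    rw [card_mul_zmod2] at h4
    rw [h4] at hmul
    have hdvd : S.relIndex ((DD (plusQF F m) m hne).map (Phi ⇑(plusQF F m))) ∣ 2 :=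
      Dvd.intro_left _ hmul
    have hle := Nat.le_of_dvd (by norm_num) hdvd
    have hpos : S.relIndex ((DD (plusQF F m) m hne).map (Phi ⇑(plusQF F m))) ≠ 0 := by
      intro h0
      rw [h0, mul_zero] at hmul
      exact absurd hmul (by norm_num)
    refine ⟨by omega, fun hno => absurd (hcrit.2 hno) hneg⟩
  · -- index four
    have h4 : (Cfsg.Inn (Cfsg.POmega F ⇑(plusQF F m))).relIndex
        ((DD (plusQF F m) m hne).map (Phi ⇑(plusQF F m))) = 4 := by
      by_cases hsqc : ∃ c : Fˣ, ∃ ω ∈ Cfsg.Geo.omegaGL ⇑(plusQF F m), g₀.1 * g₀.1 =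
          Matrix.GeneralLinearGroup.scalar KK c * ω
      · obtain ⟨φ, hφ, hφk⟩ :=
          (dd_inn_four (plusQF F m) hQ h2 m hm card_plus hne hneg g₀ hg₀m hg₀d).2 hsqc
        rw [relIndex_of_hom _ _ φ hφ hφk, card_mul_zmod22]
      · obtain ⟨φ, hφ, hφk⟩ :=
          (dd_inn_four (plusQF F m) hQ h2 m hm card_plus hne hneg g₀ hg₀m hg₀d).1 hsqc
        rw [relIndex_of_hom _ _ φ hφ hφk, card_mul_zmod4]
    rw [h4] at hmul
    have hmemN : ∀ t : ↥(Sim ⇑(plusQF F m)),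
        Phi (⇑(plusQF F m)) t ∈ Cfsg.Inn (Cfsg.POmega F ⇑(plusQF F m)) ↔
        ∃ c : Fˣ, ∃ ω ∈ Cfsg.Geo.omegaGL ⇑(plusQF F m),
          t.1 = Matrix.GeneralLinearGroup.scalar KK c * ω := by
      intro t
      rw [← mem_comap_map (plusQF F m) hker, ← inn_eq, Subgroup.mem_comap]
    -- (b): `S ≠ K`
    have hb : (Cfsg.Inn (Cfsg.POmega F ⇑(plusQF F m))).relIndex S ≠ 1 := by
      intro h1
      rw [Subgroup.relIndex_eq_one] at h1
      have hhO := ((mem_sO_iff (plusQF F m) h).1 hso).1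
      obtain ⟨hS', hhS⟩ : ∃ hS' : ↥(Sim ⇑(plusQF F m)), hS'.1 = h :=
        ⟨⟨h, iso_le_sim _ hhO⟩, rfl⟩
      have hhD : hS' ∈ DD (plusQF F m) m hne := by
        rw [mem_DD]
        exact ((mem_sO_iff' (plusQF F m) hne m hS').1 (by rw [hhS]; exact hso)).2
      have hβS : Phi (⇑(plusQF F m)) hS' ∈ S := by
        rw [hS]
        apply Subgroup.mem_sup_right
        refine ⟨Subgroup.mem_map_of_mem _ hhD, ?_⟩
        show Phi (⇑(plusQF F m)) hS' ∈ Subgroup.centralizer {γ}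
        rw [Subgroup.mem_centralizer_iff]
        intro x hx
        rw [Set.mem_singleton_iff] at hx
        rw [hx, hγg, ← map_mul, ← map_mul]
        congr 1
        apply Subtype.ext
        rw [Subgroup.coe_mul, Subgroup.coe_mul, hhS]
        exact hcomm
      obtain ⟨c', ω, hω, hcω⟩ := (hmemN hS').1 (h1 hβS)
      apply hom
      rw [← hhS, hcω]
      apply scalar_mul_mem (plusQF F m) hQ h2 m hm card_plus hne hneg c' ω hω
      rw [← hcω, hhS]
      exact hso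
    -- (a): `S ≠ G`
    have ha : S.relIndex ((DD (plusQF F m) m hne).map (Phi ⇑(plusQF F m))) ≠ 1 := by
      intro h1
      rw [Subgroup.relIndex_eq_one] at h1
      have hST : S ≤ (Tsq hne).map (Phi ⇑(plusQF F m)) := by
        rw [hS]
        apply sup_le
        · rw [inn_eq]
          apply Subgroup.map_mono
          intro ω hω
          rw [Subgroup.mem_subgroupOf] at hω
          have hωso := omegaGL_le_sO (plusQF F m) hQ h2 (by rw [card_plus]; omega) hω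
          obtain ⟨hm1, hd1⟩ := (mem_sO_iff' (plusQF F m) hne m ω).1 hωso
          rw [mem_Tsq]
          refine ⟨(mem_DD _ m hne ω).2 hd1, ?_⟩
          rw [hm1, Units.val_one]
          exact ⟨1, (mul_one 1).symm⟩
        · rintro β ⟨⟨t, htD, rfl⟩, hβC⟩
          have hβC' : Phi (⇑(plusQF F m)) t ∈ Subgroup.centralizer {γ} := hβC
          rw [Subgroup.mem_centralizer_iff] at hβC'
          have h5 := hβC' γ (Set.mem_singleton γ)
          have h6 : t * g * t⁻¹ * g⁻¹ ∈ (Phi (⇑(plusQF F m))).ker := by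
            rw [MonoidHom.mem_ker, map_mul, map_mul, map_mul, map_inv, map_inv, ← hγg, ← h5,
              mul_inv_cancel_right, mul_inv_cancel]
          rw [hker, Subgroup.mem_subgroupOf, mem_Zs_iff] at h6
          obtain ⟨c', hc'⟩ := h6
          have h7 : t.1 * g.1 * t.1⁻¹ * g.1⁻¹ = Matrix.GeneralLinearGroup.scalar KK c' := by
            rw [← hc']
            simp only [Subgroup.coe_mul, Subgroup.coe_inv]
          have h8 := mult_isSquare_of_comm (plusQF F m) hQ h2 m hm card_plus hne hneg g₀ hg₀m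
            hg₀d g hδ t htD c' h7
          exact Subgroup.mem_map_of_mem _ ((mem_Tsq hne t).2 ⟨htD, h8⟩)
      have hg₀G : Phi (⇑(plusQF F m)) g₀ ∈ (DD (plusQF F m) m hne).map (Phi ⇑(plusQF F m)) :=
        Subgroup.mem_map_of_mem _ ((mem_DD _ m hne g₀).2 hg₀d)
      obtain ⟨t, ht, htg⟩ := hST (h1 hg₀G)
      rw [SetLike.mem_coe, mem_Tsq] at ht
      have h9 : g₀ * t⁻¹ ∈ (Phi (⇑(plusQF F m))).ker := by
        rw [MonoidHom.mem_ker, map_mul, map_inv, htg, mul_inv_cancel]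
      rw [hker, Subgroup.mem_subgroupOf, mem_Zs_iff] at h9
      obtain ⟨c', hc'⟩ := h9
      have h10 : g₀ = zS (plusQF F m) c' * t := by
        apply Subtype.ext
        rw [Subgroup.coe_mul]
        show g₀.1 = Matrix.GeneralLinearGroup.scalar KK c' * t.1
        rw [← hc', Subgroup.coe_mul, Subgroup.coe_inv, inv_mul_cancel_right]
      apply hg₀m
      rw [h10, map_mul, mult_zS, Units.val_mul, Units.val_pow_eq_pow_val]
      exact (IsSquare.sq _).mul ht.2
    obtain ⟨a, ha'⟩ : ∃ a, a = (Cfsg.Inn (Cfsg.POmega F ⇑(plusQF F m))).relIndex S := ⟨_, rfl⟩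
    obtain ⟨b, hb'⟩ : ∃ b, b = S.relIndex ((DD (plusQF F m) m hne).map (Phi ⇑(plusQF F m))) :=
      ⟨_, rfl⟩
    rw [← ha'] at hb hmul
    rw [← hb'] at ha hmul ⊢
    have hb2 : b = 2 := by
      have hble : b ≤ 4 := Nat.le_of_dvd (by norm_num) (Dvd.intro_left _ hmul)
      interval_cases b
      · omega
      · exact absurd rfl ha
      · rfl
      · omega
      · exfalso
        apply hb
        omega
    exact ⟨Or.inr hb2, fun _ => hb2⟩

end Cfsg.Agent.Lib.H11.ConfOrth
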