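import Cfsg.Agent.Lib.H11.ConfOrth1

/-!
# Conformal orthogonal groups acting on `PΩ(Q)` (part 2)

The kernel of `Phi` (scalars, given that `Ω` is perfect and has scalar centraliser in `GL`) and
generic lemmas producing homomorphisms out of images.
-/

set_option autoImplicit false

namespace Cfsg.Agent.Lib.H11.ConfOrth

open Matrix
open scoped MatrixGroups

/-! ### generic group theory -/

section generic

variable {G M B : Type*} [Group G] [Group M] [Group B]

/-- a homomorphism on a subgroup `S`, trivial on the kernel of `Φ`, descends to the image of `S` -/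
theorem exists_hom_map (Φ : G →* M) (S : Subgroup G) (ψ : ↥S →* B)
    (hK : ∀ s : ↥S, Φ s.1 = 1 → ψ s = 1) (hψ : Function.Surjective ψ)
    (A C : Subgroup M) (hA : A = S.map Φ) (hC : C = (ψ.ker.map S.subtype).map Φ) :
    ∃ φ : ↥A →* B, Function.Surjective φ ∧ φ.ker = C.subgroupOf A := by
  subst hA hC
  have hex : ∀ x : ↥(S.map Φ), ∃ s : ↥S, Φ s.1 = x.1 := by
    rintro ⟨x, s, hs, rfl⟩
    exact ⟨⟨s, hs⟩, rfl⟩
  have hwd : ∀ s t : ↥S, Φ s.1 = Φ t.1 → ψ s = ψ t := by
    intro s t h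
    have h1 : Φ (s⁻¹ * t).1 = 1 := by
      rw [Subgroup.coe_mul, Subgroup.coe_inv, map_mul, map_inv, h, inv_mul_cancel]
    have h3 := hK _ h1
    rw [map_mul, map_inv, inv_mul_eq_one] at h3
    exact h3
  let φ : ↥(S.map Φ) →* B := MonoidHom.mk' (fun x => ψ (Classical.choose (hex x))) (by
    intro x y
    rw [← map_mul]
    apply hwd
    simp only [Subgroup.coe_mul, map_mul, Classical.choose_spec (hex x),
      Classical.choose_spec (hex y), Classical.choose_spec (hex (x * y))])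
  have hφ : ∀ (s : ↥S) (h : Φ s.1 ∈ S.map Φ), φ ⟨Φ s.1, h⟩ = ψ s := by
    intro s h
    show ψ (Classical.choose (hex ⟨Φ s.1, h⟩)) = ψ s
    apply hwd
    exact Classical.choose_spec (hex ⟨Φ s.1, h⟩)
  refine ⟨φ, ?_, ?_⟩
  · intro b
    obtain ⟨s, rfl⟩ := hψ b
    exact ⟨⟨Φ s.1, Subgroup.mem_map_of_mem Φ s.2⟩, hφ s _⟩
  · ext x
    obtain ⟨s, hs⟩ := hex x
    have hx : x = ⟨Φ s.1, Subgroup.mem_map_of_mem Φ s.2⟩ := Subtype.ext hs.symm
    rw [MonoidHom.mem_ker, Subgroup.mem_subgroupOf, hx, hφ]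
    constructor
    · intro h
      exact ⟨s.1, ⟨s, h, rfl⟩, rfl⟩
    · rintro ⟨_, ⟨t, ht, rfl⟩, h⟩
      rw [hwd s t h.symm]
      exact ht

/-- a homomorphism trivial on the kernel of `Φ` descends to the range of `Φ` -/
theorem exists_hom_range (Φ : G →* M) (ψ : G →* B) (hK : Φ.ker ≤ ψ.ker)
    (hψ : Function.Surjective ψ) (A C : Subgroup M) (hA : A = Φ.range) (hC : C = ψ.ker.map Φ) :
    ∃ φ : ↥A →* B, Function.Surjective φ ∧ φ.ker = C.subgroupOf A := by
  apply exists_hom_map Φ ⊤ (ψ.comp (⊤ : Subgroup G).subtype)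
  · intro s hs
    exact hK hs
  · intro b
    obtain ⟨g, rfl⟩ := hψ b
    exact ⟨⟨g, Subgroup.mem_top g⟩, rfl⟩
  · rw [hA, MonoidHom.range_eq_map]
  · rw [hC]
    congr 1
    ext g
    constructor
    · intro hg
      exact ⟨⟨g, Subgroup.mem_top g⟩, hg, rfl⟩
    · rintro ⟨s, hs, rfl⟩
      exact hs

end generic

variable {F : Type*} [Field F] {ι : Type} [Fintype ι] [DecidableEq ι] (Q : (ι → F) → F)

/-- the scalar matrices -/
def Zs (ι : Type) [Fintype ι] [DecidableEq ι] (F : Type*) [Field F] : Subgroup (GL ι F) :=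
  (Matrix.GeneralLinearGroup.scalar ι : Fˣ →* GL ι F).range

theorem mem_Zs_iff (g : GL ι F) : g ∈ Zs ι F ↔ ∃ c : Fˣ, g = Matrix.GeneralLinearGroup.scalar ι c :=
  ⟨fun ⟨c, hc⟩ => ⟨c, hc.symm⟩, fun ⟨c, hc⟩ => ⟨c, hc.symm⟩⟩

theorem scalar_mulVec (c : Fˣ) (x : ι → F) :
    (Matrix.GeneralLinearGroup.scalar ι c).1 *ᵥ x = (c : F) • x := by
  rw [Matrix.GeneralLinearGroup.coe_scalar]
  funext i
  simp [Matrix.mulVec, dotProduct, Matrix.scalar_apply, Matrix.diagonal_apply]

/-- for a form homogeneous of degree two, scalars are similarities -/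
theorem Zs_le_sim (hhom : ∀ (c : F) (x : ι → F), Q (c • x) = c ^ 2 * Q x) : Zs ι F ≤ Sim Q := by
  rintro _ ⟨c, rfl⟩
  refine ⟨c ^ 2, fun v => ?_⟩
  rw [scalar_mulVec, hhom, Units.val_pow_eq_pow_val]

theorem Zs_normal_subgroupOf : ((Zs ι F).subgroupOf (Sim Q)).Normal := by
  constructor
  intro z hz g
  rw [Subgroup.mem_subgroupOf] at hz ⊢
  obtain ⟨c, hc⟩ := hz
  refine ⟨c, ?_⟩
  rw [Subgroup.coe_mul, Subgroup.coe_mul, Subgroup.coe_inv, ← hc,
    ← Matrix.GeneralLinearGroup.scalar_commute, mul_inv_cancel_right]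

/-- an automorphism of a perfect group which is trivial modulo the centre is trivial -/
theorem aut_eq_one_of_perfect {H : Type*} [Group H] (hperf : commutator H = ⊤) (α : MulAut H)
    (hc : ∀ s : H, s⁻¹ * α s ∈ Subgroup.center H) (s : H) : α s = s := by
  obtain ⟨κ, hκ⟩ : ∃ κ : H →* H, ∀ s, κ s = s⁻¹ * α s :=
    ⟨MonoidHom.mk' (fun s => s⁻¹ * α s) (by
      intro s t
      show (s * t)⁻¹ * α (s * t) = s⁻¹ * α s * (t⁻¹ * α t)
      have h1 := Subgroup.mem_center_iff.1 (hc s) t⁻¹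
      rw [map_mul, _root_.mul_inv_rev, mul_assoc, ← mul_assoc s⁻¹, ← mul_assoc t⁻¹, h1]
      group), fun s => rfl⟩
  have h1 : commutator H ≤ κ.ker := by
    rw [commutator_eq_closure, Subgroup.closure_le]
    rintro _ ⟨x, y, rfl⟩
    rw [SetLike.mem_coe, MonoidHom.mem_ker, commutatorElement_def, map_mul, map_mul, map_mul,
      map_inv, map_inv]
    have h2 := Subgroup.mem_center_iff.1 (hc x) (κ y)
    rw [← hκ] at h2
    rw [← h2, mul_inv_cancel_right, mul_inv_cancel]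
  rw [hperf] at h1
  have h2 : κ s = 1 := h1 (Subgroup.mem_top s)
  rw [hκ, inv_mul_eq_one] at h2
  exact h2.symm

/-- the kernel of `Phi` consists of the scalars -/
theorem ker_Phi (hperf : commutator ↥(Cfsg.Omega F Q) = ⊤)
    (hschur : ∀ A : GL ι F, (∀ w ∈ Cfsg.Geo.omegaGL Q, A * w = w * A) → A ∈ Zs ι F) :
    (Phi Q).ker = (Zs ι F).subgroupOf (Sim Q) := by
  ext g
  rw [MonoidHom.mem_ker, Subgroup.mem_subgroupOf]
  constructor
  · intro hg
    have hc : ∀ s : ↥(Cfsg.Omega F Q), s⁻¹ * conjOmega Q g s ∈ Subgroup.center ↥(Cfsg.Omega F Q) := by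
      intro s
      have h1 := Phi_mk Q g s
      rw [hg, MulAut.one_apply] at h1
      exact QuotientGroup.eq.1 h1
    have hfix := aut_eq_one_of_perfect hperf (conjOmega Q g) hc
    apply hschur
    rintro w ⟨s, hs, rfl⟩
    have h3 : g.1 * s.1 * g.1⁻¹ = s.1 := by
      have := hfix ⟨s, hs⟩
      rw [← conjOmega_val Q g ⟨s, hs⟩, this]
    show g.1 * s.1 = s.1 * g.1
    rw [← h3, inv_mul_cancel_right, h3]
  · rintro ⟨c, hc⟩
    apply MulEquiv.ext
    intro x
    induction x using QuotientGroup.induction_on with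
    | H s =>
      rw [Phi_mk, MulAut.one_apply]
      congr 1
      apply Subtype.ext
      apply Subtype.ext
      rw [conjOmega_val, ← hc, Matrix.GeneralLinearGroup.scalar_commute, mul_inv_cancel_right]

end Cfsg.Agent.Lib.H11.ConfOrth
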