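import Cfsg.Agent.Lib.H11.ConfOrth2

/-!
# Conformal orthogonal groups (part 20): semisimilarities acting on `PΩ(Q)`

For a semisimilarity pair `(g, σ)` of `Q` we construct the automorphism `semiAut` of `PΩ(Q)`
induced by `s ↦ g σ(s) g⁻¹`, show that these automorphisms are closed under composition, and
describe `gammaPOmega` as the set of all of them (for a finite field).
-/

set_option autoImplicit false
set_option linter.unusedSectionVars false

namespace Cfsg.Agent.Lib.H11.ConfOrth

open Matrix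
open scoped MatrixGroups

section semi

variable {F : Type*} [Field F] {ι : Type} [Fintype ι] [DecidableEq ι] (Q : (ι → F) → F)

/-- entrywise application of a field automorphism to a vector -/
def vmap (σ : F ≃+* F) (v : ι → F) : ι → F := fun i => σ (v i)

omit [Fintype ι] [DecidableEq ι] in
theorem vmap_apply (σ : F ≃+* F) (v : ι → F) (i : ι) : vmap σ v i = σ (v i) := rfl

omit [Fintype ι] [DecidableEq ι] in
theorem vmap_add (σ : F ≃+* F) (v w : ι → F) : vmap σ (v + w) = vmap σ v + vmap σ w := by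
  funext i
  simp [vmap]

omit [Fintype ι] [DecidableEq ι] in
theorem vmap_smul (σ : F ≃+* F) (c : F) (v : ι → F) : vmap σ (c • v) = σ c • vmap σ v := by
  funext i
  simp [vmap]

omit [Fintype ι] [DecidableEq ι] in
theorem vmap_symm_vmap (σ : F ≃+* F) (v : ι → F) : vmap σ.symm (vmap σ v) = v := by
  funext i
  simp [vmap]

omit [Fintype ι] [DecidableEq ι] in
theorem vmap_vmap_symm (σ : F ≃+* F) (v : ι → F) : vmap σ (vmap σ.symm v) = v := by
  funext i
  simp [vmap]

omit [Fintype ι] [DecidableEq ι] in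
theorem vmap_trans (σ τ : F ≃+* F) (v : ι → F) : vmap (τ.trans σ) v = vmap σ (vmap τ v) := rfl

omit [Fintype ι] [DecidableEq ι] in
theorem vmap_refl (v : ι → F) : vmap (RingEquiv.refl F) v = v := rfl

omit [DecidableEq ι] in
theorem map_mulVec_vmap (σ : F ≃+* F) (M : Matrix ι ι F) (v : ι → F) :
    M.map σ *ᵥ vmap σ v = vmap σ (M *ᵥ v) := by
  funext i
  exact (RingHom.map_mulVec (σ : F →+* F) M v i).symm

/-- entrywise application of a field automorphism to an invertible matrix -/
def glmap (σ : F ≃+* F) : GL ι F →* GL ι F := Matrix.GeneralLinearGroup.map (σ : F →+* F)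

theorem glmap_val (σ : F ≃+* F) (g : GL ι F) :
    ((glmap σ g : GL ι F) : Matrix ι ι F) = (g : Matrix ι ι F).map σ := by
  ext i j
  rfl

theorem glmap_trans (σ τ : F ≃+* F) (g : GL ι F) :
    glmap (τ.trans σ) g = glmap σ (glmap τ g) := by
  apply Units.ext
  rw [glmap_val, glmap_val, glmap_val]
  ext i j
  rfl

theorem glmap_refl (g : GL ι F) : glmap (RingEquiv.refl F) g = g := by
  apply Units.ext
  rw [glmap_val]
  ext i j
  rfl

theorem glmap_injective (σ : F ≃+* F) : Function.Injective (glmap (ι := ι) σ) := by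
  intro g h hgh
  apply Units.ext
  have h1 := congrArg (fun x : GL ι F => (x : Matrix ι ι F)) hgh
  simp only [glmap_val] at h1
  ext i j
  have h2 := congrFun (congrFun h1 i) j
  simp only [Matrix.map_apply] at h2
  exact σ.injective h2

/-- the semilinear map attached to `(g, σ)` -/
def sact (g : GL ι F) (σ : F ≃+* F) (v : ι → F) : ι → F := (g : Matrix ι ι F) *ᵥ vmap σ v

theorem sact_add (g : GL ι F) (σ : F ≃+* F) (v w : ι → F) :
    sact g σ (v + w) = sact g σ v + sact g σ w := by
  unfold sact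
  rw [vmap_add, Matrix.mulVec_add]

theorem sact_smul (g : GL ι F) (σ : F ≃+* F) (c : F) (v : ι → F) :
    sact g σ (c • v) = σ c • sact g σ v := by
  unfold sact
  rw [vmap_smul, Matrix.mulVec_smul]

theorem sact_surj (g : GL ι F) (σ : F ≃+* F) (x : ι → F) :
    sact g σ (vmap σ.symm ((g⁻¹ : GL ι F).1 *ᵥ x)) = x := by
  unfold sact
  rw [vmap_vmap_symm, mulVec_inv_mulVec]

theorem sact_mul (g h : GL ι F) (σ τ : F ≃+* F) (v : ι → F) :
    sact (g * glmap σ h) (τ.trans σ) v = sact g σ (sact h τ v) := by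
  unfold sact
  rw [Units.val_mul, glmap_val, ← Matrix.mulVec_mulVec, vmap_trans, map_mulVec_vmap]

theorem pair_iff (g : GL ι F) (σ : F ≃+* F) :
    Cfsg.IsSemisimilarityPair Q g σ ↔ ∃ c : Fˣ, ∀ v, Q (sact g σ v) = (c : F) * σ (Q v) := Iff.rfl

/-- conjugation of matrices by the semilinear map -/
theorem conj_sact (g s : GL ι F) (σ : F ≃+* F) (v : ι → F) :
    ((g * glmap σ s * g⁻¹ : GL ι F) : Matrix ι ι F) *ᵥ sact g σ v = sact g σ (s.1 *ᵥ v) := by
  unfold sact
  rw [Units.val_mul, Units.val_mul, ← Matrix.mulVec_mulVec, ← Matrix.mulVec_mulVec,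
    inv_mulVec_mulVec, glmap_val, map_mulVec_vmap]

theorem semi_conj_mem_iso {g : GL ι F} {σ : F ≃+* F} (hp : Cfsg.IsSemisimilarityPair Q g σ)
    {s : GL ι F} (hs : s ∈ Cfsg.isometryGroup F Q) :
    g * glmap σ s * g⁻¹ ∈ Cfsg.isometryGroup F Q := by
  rw [mem_iso_iff] at hs ⊢
  obtain ⟨c, hc⟩ := (pair_iff Q g σ).1 hp
  intro x
  obtain ⟨y, hy⟩ : ∃ y, sact g σ y = x := ⟨_, sact_surj g σ x⟩
  rw [← hy, conj_sact, hc, hc, hs]

/-- the endomorphism of the isometry group induced by a semisimilarity pair -/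
def semiHom (g : GL ι F) (σ : F ≃+* F) (hp : Cfsg.IsSemisimilarityPair Q g σ) :
    ↥(Cfsg.isometryGroup F Q) →* ↥(Cfsg.isometryGroup F Q) where
  toFun s := ⟨g * glmap σ s.1 * g⁻¹, semi_conj_mem_iso Q hp s.2⟩
  map_one' := by
    apply Subtype.ext
    simp
  map_mul' s t := by
    apply Subtype.ext
    simp only [Subgroup.coe_mul, map_mul]
    group

theorem semiHom_val (g : GL ι F) (σ : F ≃+* F) (hp : Cfsg.IsSemisimilarityPair Q g σ)
    (s : ↥(Cfsg.isometryGroup F Q)) :
    ((semiHom Q g σ hp s : ↥(Cfsg.isometryGroup F Q)) : GL ι F) = g * glmap σ s.1 * g⁻¹ := rfl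

theorem semiHom_injective (g : GL ι F) (σ : F ≃+* F) (hp : Cfsg.IsSemisimilarityPair Q g σ) :
    Function.Injective (semiHom Q g σ hp) := by
  intro s t hst
  have h1 := congrArg (fun x : ↥(Cfsg.isometryGroup F Q) => (x : GL ι F)) hst
  simp only [semiHom_val] at h1
  have h2 : glmap σ s.1 = glmap σ t.1 := by
    have := congrArg (fun x => g⁻¹ * x * g) h1
    simpa [mul_assoc] using this
  exact Subtype.ext (glmap_injective σ h2)

end semi

section finite

variable {F : Type*} [Field F] [Fintype F] {ι : Type} [Fintype ι] [DecidableEq ι]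
  (Q : (ι → F) → F)

/-- the automorphism of the isometry group induced by a semisimilarity pair -/
noncomputable def semiO (g : GL ι F) (σ : F ≃+* F) (hp : Cfsg.IsSemisimilarityPair Q g σ) :
    ↥(Cfsg.isometryGroup F Q) ≃* ↥(Cfsg.isometryGroup F Q) :=
  MulEquiv.ofBijective (semiHom Q g σ hp)
    (Finite.injective_iff_bijective.1 (semiHom_injective Q g σ hp))

theorem semiO_val (g : GL ι F) (σ : F ≃+* F) (hp : Cfsg.IsSemisimilarityPair Q g σ)
    (s : ↥(Cfsg.isometryGroup F Q)) :
    ((semiO Q g σ hp s : ↥(Cfsg.isometryGroup F Q)) : GL ι F) = g * glmap σ s.1 * g⁻¹ := rfl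

/-- the induced automorphism of `Ω` -/
noncomputable def semiOmega (g : GL ι F) (σ : F ≃+* F) (hp : Cfsg.IsSemisimilarityPair Q g σ) :
    MulAut ↥(Cfsg.Omega F Q) :=
  MulAut.characteristic (commutator ↥(Cfsg.isometryGroup F Q)) (semiO Q g σ hp)

theorem semiOmega_val (g : GL ι F) (σ : F ≃+* F) (hp : Cfsg.IsSemisimilarityPair Q g σ)
    (s : ↥(Cfsg.Omega F Q)) :
    (((semiOmega Q g σ hp s : ↥(Cfsg.Omega F Q)) : ↥(Cfsg.isometryGroup F Q)) : GL ι F) =
      g * glmap σ s.1.1 * g⁻¹ := rfl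

/-- the induced automorphism of `PΩ` -/
noncomputable def semiAut (g : GL ι F) (σ : F ≃+* F) (hp : Cfsg.IsSemisimilarityPair Q g σ) :
    MulAut (Cfsg.POmega F Q) :=
  quotAut (Subgroup.center ↥(Cfsg.Omega F Q)) (semiOmega Q g σ hp)

theorem semiAut_mk (g : GL ι F) (σ : F ≃+* F) (hp : Cfsg.IsSemisimilarityPair Q g σ)
    (s : ↥(Cfsg.Omega F Q)) :
    semiAut Q g σ hp (QuotientGroup.mk s) = QuotientGroup.mk (semiOmega Q g σ hp s) := rfl

theorem semi_induced_iff (g : GL ι F) (σ : F ≃+* F) (hp : Cfsg.IsSemisimilarityPair Q g σ)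
    (β : Cfsg.POmega F Q ≃* Cfsg.POmega F Q) :
    Cfsg.IsInducedBySemilinearPOmega Q g σ β ↔ β = semiAut Q g σ hp := by
  constructor
  · intro h
    apply MulEquiv.ext
    intro x
    induction x using QuotientGroup.induction_on with
    | H s =>
      rw [semiAut_mk]
      apply h s (semiOmega Q g σ hp s)
      rw [semiOmega_val, Units.val_mul, Units.val_mul, glmap_val]
  · rintro rfl s s' hs
    rw [semiAut_mk]
    congr 1
    apply Subtype.ext
    apply Subtype.ext
    apply Units.ext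
    rw [semiOmega_val, Units.val_mul, Units.val_mul, glmap_val]
    exact hs.symm

theorem pair_mul {g h : GL ι F} {σ τ : F ≃+* F} (hp : Cfsg.IsSemisimilarityPair Q g σ)
    (hq : Cfsg.IsSemisimilarityPair Q h τ) :
    Cfsg.IsSemisimilarityPair Q (g * glmap σ h) (τ.trans σ) := by
  obtain ⟨c, hc⟩ := (pair_iff Q g σ).1 hp
  obtain ⟨d, hd⟩ := (pair_iff Q h τ).1 hq
  rw [pair_iff]
  refine ⟨c * Units.map (σ : F →* F) d, fun v => ?_⟩
  rw [sact_mul, hc, hd, map_mul, Units.val_mul, mul_assoc]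
  rfl

theorem semiAut_mul (g h : GL ι F) (σ τ : F ≃+* F) (hp : Cfsg.IsSemisimilarityPair Q g σ)
    (hq : Cfsg.IsSemisimilarityPair Q h τ) :
    semiAut Q g σ hp * semiAut Q h τ hq =
      semiAut Q (g * glmap σ h) (τ.trans σ) (pair_mul Q hp hq) := by
  apply MulEquiv.ext
  intro x
  induction x using QuotientGroup.induction_on with
  | H s =>
    rw [MulAut.mul_apply, semiAut_mk, semiAut_mk, semiAut_mk]
    congr 1
    apply Subtype.ext
    apply Subtype.ext
    rw [semiOmega_val, semiOmega_val, semiOmega_val, glmap_trans, map_mul, map_mul, map_inv]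
    group

theorem pair_refl_of_sim (g : ↥(Sim Q)) : Cfsg.IsSemisimilarityPair Q g.1 (RingEquiv.refl F) := by
  obtain ⟨c, hc⟩ := g.2
  exact ⟨c, fun v => hc v⟩

theorem semiAut_refl (g : ↥(Sim Q)) :
    semiAut Q g.1 (RingEquiv.refl F) (pair_refl_of_sim Q g) = Phi Q g := by
  apply MulEquiv.ext
  intro x
  induction x using QuotientGroup.induction_on with
  | H s =>
    rw [semiAut_mk, Phi_mk]
    have h1 : semiOmega Q g.1 (RingEquiv.refl F) (pair_refl_of_sim Q g) s = conjOmega Q g s := by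
      apply Subtype.ext
      apply Subtype.ext
      rw [semiOmega_val, conjOmega_val, glmap_refl]
    rw [h1]

theorem sim_of_pair_refl {g : GL ι F} (hp : Cfsg.IsSemisimilarityPair Q g (RingEquiv.refl F)) :
    g ∈ Sim Q := by
  obtain ⟨c, hc⟩ := hp
  exact ⟨c, fun v => hc v⟩

/-- the elements of `gammaPOmega` are exactly the automorphisms `semiAut` -/
theorem mem_gamma_iff (β : MulAut (Cfsg.POmega F Q)) :
    β ∈ Cfsg.gammaPOmega F Q ↔
      ∃ (g : GL ι F) (σ : F ≃+* F) (hp : Cfsg.IsSemisimilarityPair Q g σ), β = semiAut Q g σ hp := by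
  have hfin : Finite (MulAut (Cfsg.POmega F Q)) := by
    have : Finite (Cfsg.POmega F Q) := by
      unfold Cfsg.POmega
      infer_instance
    exact Finite.of_injective (fun f : MulAut (Cfsg.POmega F Q) => (f : Cfsg.POmega F Q → Cfsg.POmega F Q))
      (fun f g h => MulEquiv.ext (congrFun h))
  constructor
  · intro hβ
    unfold Cfsg.gammaPOmega Cfsg.autSubgroupOf at hβ
    induction hβ using Subgroup.closure_induction'' with
    | one =>
      refine ⟨1, RingEquiv.refl F, pair_refl_of_sim Q 1, ?_⟩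
      have := semiAut_refl Q 1
      rw [map_one] at this
      exact this.symm
    | mem x hx =>
      obtain ⟨g, σ, hp, hind⟩ := hx
      exact ⟨g, σ, hp, (semi_induced_iff Q g σ hp x).1 hind⟩
    | inv_mem x hx =>
      obtain ⟨g, σ, hp, hind⟩ := hx
      have hx' := (semi_induced_iff Q g σ hp x).1 hind
      -- powers
      have hpow : ∀ k : ℕ, ∃ (g' : GL ι F) (σ' : F ≃+* F) (hp' : Cfsg.IsSemisimilarityPair Q g' σ'),
          x ^ (k + 1) = semiAut Q g' σ' hp' := by
        intro k
        induction k with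
        | zero => exact ⟨g, σ, hp, by rw [zero_add, pow_one, hx']⟩
        | succ k ih =>
          obtain ⟨g', σ', hp', h'⟩ := ih
          refine ⟨_, _, pair_mul Q hp' hp, ?_⟩
          rw [pow_succ, h', hx', semiAut_mul]
      have hord : 0 < orderOf x := orderOf_pos x
      obtain ⟨k, hk⟩ : ∃ k, orderOf x = k + 1 := ⟨orderOf x - 1, by omega⟩
      by_cases hk0 : k = 0
      · have h1 : x = 1 := by
          rw [← orderOf_eq_one_iff, hk, hk0]
        refine ⟨g, σ, hp, ?_⟩
        rw [h1, inv_one, ← h1, hx']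
      · obtain ⟨j, hj⟩ : ∃ j, k = j + 1 := ⟨k - 1, by omega⟩
        obtain ⟨g', σ', hp', h'⟩ := hpow j
        refine ⟨g', σ', hp', ?_⟩
        rw [← h']
        apply inv_eq_of_mul_eq_one_right
        rw [← pow_succ', ← hj, ← hk, pow_orderOf_eq_one]
    | mul x y _ _ hx hy =>
      obtain ⟨g, σ, hp, rfl⟩ := hx
      obtain ⟨h, τ, hq, rfl⟩ := hy
      exact ⟨_, _, pair_mul Q hp hq, semiAut_mul Q g h σ τ hp hq⟩
  · rintro ⟨g, σ, hp, rfl⟩
    unfold Cfsg.gammaPOmega Cfsg.autSubgroupOf
    apply Subgroup.subset_closure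
    exact ⟨g, σ, hp, (semi_induced_iff Q g σ hp _).2 rfl⟩

end finite

end Cfsg.Agent.Lib.H11.ConfOrth
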