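import Cfsg.Agent.Lib.H11.ConfOrth21
import Cfsg.Agent.Lib.H11.ConfOrth14
import Cfsg.Agent.Lib.H13.Disc

/-!
# Conformal orthogonal groups (part 22): involutions in `PΓO⁻` are induced by similarities

A semisimilarity `(g, σ)` of a minus-type form with `σ` of order two cannot have scalar square
(discriminant argument).  Consequently every involution in `gammaPOmega` of a minus-type form is
induced by a (linear) similarity.
-/

set_option autoImplicit false
set_option linter.unusedSectionVars false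

namespace Cfsg.Agent.Lib.H11.ConfOrth

open Matrix Module
open scoped MatrixGroups
open Cfsg.Agent.Lib.H13

/-- elements fixed by a field automorphism of order two are squares -/
theorem isSquare_of_fixed {F : Type*} [Field F] [Fintype F] (h2 : (2 : F) ≠ 0) (σ : F ≃+* F)
    (hσ : σ ≠ RingEquiv.refl F) (hσ2 : ∀ x, σ (σ x) = x) (x : F) (hx : σ x = x) : IsSquare x := by
  classical
  by_cases hx0 : x = 0
  · rw [hx0]; exact ⟨0, by simp⟩
  let G : Subgroup (RingAut F) := Subgroup.zpowers (σ : RingAut F)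
  have hord : orderOf (σ : RingAut F) = 2 := by
    apply orderOf_eq_prime
    · apply RingEquiv.ext
      intro y
      rw [sq]
      exact hσ2 y
    · exact hσ
  have hcardG : Nat.card G = 2 := by
    rw [Nat.card_zpowers, hord]
  have : Finite G := Nat.finite_of_card_ne_zero (by rw [hcardG]; norm_num)
  let _ : Fintype G := Fintype.ofFinite G
  have hfr := FixedPoints.finrank_eq_card G F
  rw [← Nat.card_eq_fintype_card, hcardG] at hfr
  have hmem : x ∈ FixedPoints.subfield G F := by
    intro g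
    obtain ⟨g, k, rfl⟩ := g
    show ((σ : RingAut F) ^ k) x = x
    induction k using Int.induction_on with
    | zero => simp
    | succ k ih =>
      rw [_root_.zpow_add_one, RingAut.mul_apply]
      show ((σ : RingAut F) ^ (k : ℤ)) (σ x) = x
      rw [hx, ih]
    | pred k ih =>
      rw [_root_.zpow_sub_one, RingAut.mul_apply]
      have : (σ : RingAut F)⁻¹ x = x := by
        show σ.symm x = x
        rw [RingEquiv.symm_apply_eq, hx]
      rw [this, ih]
  let _ : Fintype (FixedPoints.subfield G F) := Fintype.ofFinite _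
  have hcard : Fintype.card F = Fintype.card (FixedPoints.subfield G F) ^ 2 := by
    rw [← hfr]
    exact Module.card_eq_pow_finrank
  obtain ⟨q₀, hq₀⟩ : ∃ q₀, q₀ = Fintype.card (FixedPoints.subfield G F) := ⟨_, rfl⟩
  rw [← hq₀] at hcard
  have hpow : x ^ (q₀ - 1) = 1 := by
    have h1 : (⟨x, hmem⟩ : FixedPoints.subfield G F) ≠ 0 := by
      intro h
      exact hx0 (congrArg Subtype.val h)
    have h3 := FiniteField.pow_card_sub_one_eq_one (⟨x, hmem⟩ : FixedPoints.subfield G F) h1
    rw [← hq₀] at h3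
    have := congrArg Subtype.val h3
    simpa using this
  have hchar : ringChar F ≠ 2 := by
    intro h
    apply h2
    have := CharP.cast_eq_zero F (ringChar F)
    rw [h] at this
    exact_mod_cast this
  rw [FiniteField.isSquare_iff hchar hx0, hcard]
  have hodd : Fintype.card F % 2 = 1 := FiniteField.odd_card_of_char_ne_two hchar
  have hq₀odd : q₀ % 2 = 1 := by
    rw [hcard] at hodd
    rcases Nat.even_or_odd q₀ with h | h
    · exfalso
      have : Even (q₀ ^ 2) := (Nat.even_pow' (by norm_num)).2 h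
      rw [Nat.even_iff] at this
      omega
    · exact Nat.odd_iff.1 h
  obtain ⟨k, hk⟩ : ∃ k, q₀ = 2 * k + 1 := ⟨q₀ / 2, by omega⟩
  have h5 : q₀ ^ 2 / 2 = (q₀ - 1) * (k + 1) := by
    rw [hk]
    have : (2 * k + 1) ^ 2 = 2 * (2 * k * (k + 1)) + 1 := by ring
    rw [this]
    have h6 : (2 * (2 * k * (k + 1)) + 1) / 2 = 2 * k * (k + 1) := by omega
    rw [h6]
    have : 2 * k + 1 - 1 = 2 * k := by omega
    rw [this]
  rw [h5, pow_mul, hpow, one_pow]

/-- Hilbert 90 for a field automorphism of order two -/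
theorem hilbert90_two {F : Type*} [Field F] (σ : F ≃+* F) (hσ : σ ≠ RingEquiv.refl F)
    (hσ2 : ∀ x, σ (σ x) = x) (d : F) (hd : d * σ d = 1) : ∃ e : F, e ≠ 0 ∧ σ e = d * e := by
  have hd0 : d ≠ 0 := by
    rintro rfl
    rw [zero_mul] at hd
    exact zero_ne_one hd
  have hσd : σ d = d⁻¹ := by
    field_simp
    rw [mul_comm]; exact hd
  have key : ∀ y : F, σ (y + d⁻¹ * σ y) = d * (y + d⁻¹ * σ y) := by
    intro y
    rw [map_add, map_mul, map_inv₀, hσd, inv_inv, hσ2]
    field_simp
    ring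
  by_cases h1 : (1 : F) + d⁻¹ * σ 1 = 0
  · -- then `d = -1`
    rw [map_one, mul_one] at h1
    have hd1 : d = -1 := by
      have : d⁻¹ = -1 := by linear_combination h1
      rw [← inv_inv d, this]
      norm_num
    obtain ⟨y, hy⟩ : ∃ y, σ y ≠ y := by
      by_contra hcon
      push Not at hcon
      exact hσ (RingEquiv.ext hcon)
    refine ⟨y + d⁻¹ * σ y, ?_, key y⟩
    rw [hd1]
    intro h
    apply hy
    have : y - σ y = 0 := by
      have h3 : y + (-1 : F)⁻¹ * σ y = y - σ y := by
        rw [inv_neg, inv_one]; ring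
      rw [← h3]; exact h
    exact (sub_eq_zero.1 this).symm
  · exact ⟨_, h1, key 1⟩

section gram

variable {F : Type*} [Field F] {ι : Type} [Fintype ι] [DecidableEq ι]
  (Q : QuadraticForm F (ι → F))

theorem polar_sact (g : GL ι F) (σ : F ≃+* F) (c : F)
    (hc : ∀ v, Q (sact g σ v) = c * σ (Q v)) (u v : ι → F) :
    QuadraticMap.polar (⇑Q) (sact g σ u) (sact g σ v) = c * σ (QuadraticMap.polar (⇑Q) u v) := by
  unfold QuadraticMap.polar
  rw [← sact_add, hc, hc, hc, map_sub, map_sub]
  ring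

omit [Fintype ι] in
theorem vmap_single (σ : F ≃+* F) (i : ι) :
    vmap σ (Pi.single i (1 : F)) = Pi.single i 1 := by
  funext j
  by_cases h : j = i
  · subst h; simp [vmap]
  · simp [vmap, h]

/-- the Gram matrix identity for a semisimilarity -/
theorem gram_semi (g : GL ι F) (σ : F ≃+* F) (c : F)
    (hc : ∀ v, Q (sact g σ v) = c * σ (Q v)) :
    (g : Matrix ι ι F)ᵀ * LinearMap.BilinForm.toMatrix' (QuadraticMap.polarBilin Q) *
      (g : Matrix ι ι F) =
      c • (LinearMap.BilinForm.toMatrix' (QuadraticMap.polarBilin Q)).map σ := by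
  set B : LinearMap.BilinForm F (ι → F) := QuadraticMap.polarBilin Q with hB
  have h1 := LinearMap.BilinForm.toMatrix'_comp B (Matrix.toLin' (g : Matrix ι ι F))
    (Matrix.toLin' (g : Matrix ι ι F))
  rw [LinearMap.toMatrix'_toLin'] at h1
  rw [← h1]
  ext i j
  rw [LinearMap.BilinForm.toMatrix'_apply, LinearMap.BilinForm.comp_apply, Matrix.toLin'_apply,
    Matrix.toLin'_apply, Matrix.smul_apply, Matrix.map_apply, LinearMap.BilinForm.toMatrix'_apply,
    smul_eq_mul]
  have h3 := polar_sact Q g σ c hc (Pi.single i 1) (Pi.single j 1)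
  unfold sact at h3
  rw [vmap_single, vmap_single] at h3
  exact h3

theorem det_semi (g : GL ι F) (σ : F ≃+* F) (c : F)
    (hc : ∀ v, Q (sact g σ v) = c * σ (Q v)) :
    (g : Matrix ι ι F).det ^ 2 *
      (LinearMap.BilinForm.toMatrix' (QuadraticMap.polarBilin Q)).det =
      c ^ Fintype.card ι *
        σ (LinearMap.BilinForm.toMatrix' (QuadraticMap.polarBilin Q)).det := by
  have h1 := congrArg Matrix.det (gram_semi Q g σ c hc)
  rw [Matrix.det_mul, Matrix.det_mul, Matrix.det_transpose, Matrix.det_smul] at h1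
  have h3 : ((LinearMap.BilinForm.toMatrix' (QuadraticMap.polarBilin Q)).map σ).det =
      σ (LinearMap.BilinForm.toMatrix' (QuadraticMap.polarBilin Q)).det := by
    have := RingHom.map_det (σ : F →+* F) (LinearMap.BilinForm.toMatrix' (QuadraticMap.polarBilin Q))
    rw [RingHom.mapMatrix_apply] at this
    exact this.symm
  rw [h3] at h1
  rw [← h1]
  ring

end gram

section minus

variable {F : Type*} [Field F] [Fintype F] {m : ℕ}

local notation "IM" => ((Fin m ⊕ Fin m) ⊕ Fin 2)

theorem toMatrix'_minus (a b : F) :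
    LinearMap.BilinForm.toMatrix' (QuadraticMap.polarBilin (minusQF F m a b)) =
      gramMinus m F a b := by
  have h1 : QuadraticMap.polarBilin (minusQF F m a b) = Matrix.toBilin' (gramMinus m F a b) := by
    apply LinearMap.ext₂
    intro u v
    rw [QuadraticMap.polarBilin_apply_apply, Cfsg.Agent.S0288.coe_minusQF, polar_quadFormMinus]
  rw [h1, LinearMap.BilinForm.toMatrix'_toBilin']

/-- a semisimilarity of a minus-type form whose field automorphism has order two cannot have
scalar square -/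
theorem no_semi_invol_minus (h2 : (2 : F) ≠ 0) (a b : F)
    (hab : ∀ z₁ z₂ : F, z₁ ^ 2 + a * z₁ * z₂ + b * z₂ ^ 2 = 0 → z₁ = 0 ∧ z₂ = 0)
    (g : GL IM F) (σ : F ≃+* F)
    (hp : Cfsg.IsSemisimilarityPair (⇑(minusQF F m a b)) g σ)
    (hσ : σ ≠ RingEquiv.refl F) (hσ2 : ∀ x, σ (σ x) = x) (l : Fˣ)
    (hg : g * glmap σ g = Matrix.GeneralLinearGroup.scalar IM l) : False := by
  classical
  obtain ⟨c, hc⟩ := (pair_iff (⇑(minusQF F m a b)) g σ).1 hp
  have hQ := Cfsg.Agent.S0288.nondeg (F := F) a b hab m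
  have hcardI : Fintype.card IM = 2 * (m + 1) := by
    simp only [Fintype.card_sum, Fintype.card_fin]; ring
  -- `c σ(c) = l²`
  have hcl : (c : F) * σ c = (l : F) ^ 2 := by
    obtain ⟨v₀, hv₀⟩ := exists_ne_of_nondeg (minusQF F m a b) hQ (by rw [hcardI]; omega)
    have h1 : sact g σ (sact g σ v₀) = (l : F) • v₀ := by
      rw [← sact_mul, hg]
      unfold sact
      have : vmap (σ.trans σ) v₀ = v₀ := by
        funext i
        exact hσ2 (v₀ i)
      rw [this, scalar_mulVec]
    have h3 := hc (sact g σ v₀)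
    rw [h1, hc, QuadraticMap.map_smul, map_mul, hσ2, smul_eq_mul] at h3
    have h4 : ((c : F) * σ c - (l : F) ^ 2) * minusQF F m a b v₀ = 0 := by linear_combination -h3
    exact sub_eq_zero.1 ((mul_eq_zero.1 h4).resolve_right hv₀)
  -- determinants
  have hdet1 : (g : Matrix IM IM F).det * σ (g : Matrix IM IM F).det = (l : F) ^ (2 * (m + 1)) := by
    have h1 := congrArg (fun x : GL IM F => (x : Matrix IM IM F).det) hg
    simp only [Units.val_mul, glmap_val, Matrix.det_mul] at h1
    have h3 : ((g : Matrix IM IM F).map σ).det = σ (g : Matrix IM IM F).det := by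
      have := RingHom.map_det (σ : F →+* F) (g : Matrix IM IM F)
      rw [RingHom.mapMatrix_apply] at this
      exact this.symm
    rw [h3] at h1
    rw [h1, Matrix.GeneralLinearGroup.coe_scalar]
    have : (Matrix.scalar IM) (l : F) = Matrix.diagonal (fun _ : IM => (l : F)) := rfl
    rw [this, Matrix.det_diagonal, Finset.prod_const, Finset.card_univ, hcardI]
  have hdet2 := det_semi (minusQF F m a b) g σ (c : F) hc
  rw [toMatrix'_minus, det_gramMinus, hcardI] at hdet2
  have hdisc := disc_nonsquare h2 a b hab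
  have hD0 : a ^ 2 - 4 * b ≠ 0 := by
    intro h
    apply hdisc
    rw [h]
    exact ⟨0, by simp⟩
  have hc0 : (c : F) ≠ 0 := c.ne_zero
  have hdg0 : (g : Matrix IM IM F).det ≠ 0 := by
    have := g.isUnit
    rw [Matrix.isUnit_iff_isUnit_det] at this
    exact this.ne_zero
  have hs1 : σ ((-1 : F) ^ m) = (-1) ^ m := by
    rw [map_pow, map_neg, map_one]
  -- `σ(a² - 4b) = d² (a² - 4b)`
  obtain ⟨d, hd⟩ : ∃ d : F, d = (g : Matrix IM IM F).det / (c : F) ^ (m + 1) := ⟨_, rfl⟩
  have hdd : d * σ d = 1 := by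
    rw [hd, map_div₀, map_pow]
    have h5 : ((c : F) * σ c) ^ (m + 1) = (l : F) ^ (2 * (m + 1)) := by
      rw [hcl, ← pow_mul]
    have hσc0 : σ (c : F) ≠ 0 := by
      intro h
      apply hc0
      have := congrArg σ.symm h
      rw [RingEquiv.symm_apply_apply, map_zero] at this
      exact this
    field_simp
    rw [hdet1, ← h5]
    ring
  have hσD : σ (a ^ 2 - 4 * b) = d ^ 2 * (a ^ 2 - 4 * b) := by
    have h5 : σ ((-1) ^ m * (4 * b - a ^ 2)) = (-1) ^ m * -(σ (a ^ 2 - 4 * b)) := by
      rw [map_mul, hs1, ← map_neg]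
      congr 2
      ring
    rw [h5] at hdet2
    have hm1 : ((-1 : F) ^ m) ≠ 0 := pow_ne_zero _ (neg_ne_zero.2 one_ne_zero)
    have h6 : (g : Matrix IM IM F).det ^ 2 * (a ^ 2 - 4 * b) =
        (c : F) ^ (2 * (m + 1)) * σ (a ^ 2 - 4 * b) := by
      apply mul_left_cancel₀ hm1
      linear_combination -hdet2
    rw [hd, div_pow, ← pow_mul, mul_comm (m + 1) 2]
    field_simp
    linear_combination -h6
  obtain ⟨e, he0, he⟩ := hilbert90_two σ hσ hσ2 d hdd
  have hfix : σ ((a ^ 2 - 4 * b) / e ^ 2) = (a ^ 2 - 4 * b) / e ^ 2 := by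
    rw [map_div₀, map_pow, hσD, he]
    have hd0 : d ≠ 0 := by
      rintro rfl
      rw [zero_mul] at hdd
      exact zero_ne_one hdd
    field_simp
  obtain ⟨s, hs⟩ := isSquare_of_fixed h2 σ hσ hσ2 _ hfix
  apply hdisc
  refine ⟨s * e, ?_⟩
  have : a ^ 2 - 4 * b = (a ^ 2 - 4 * b) / e ^ 2 * e ^ 2 := by field_simp
  rw [this, hs]
  ring

/-- every involution in `PΓO⁻` is induced by a similarity -/
theorem gamma_invol_linear (h2 : (2 : F) ≠ 0) (hm : 3 ≤ m) (a b : F)
    (hab : ∀ z₁ z₂ : F, z₁ ^ 2 + a * z₁ * z₂ + b * z₂ ^ 2 = 0 → z₁ = 0 ∧ z₂ = 0)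
    (γ : MulAut (Cfsg.POmega F ⇑(minusQF F m a b)))
    (hγ : γ ∈ Cfsg.gammaPOmega F ⇑(minusQF F m a b)) (hγγ : γ * γ = 1) :
    ∃ g : ↥(Sim ⇑(minusQF F m a b)), γ = Phi (⇑(minusQF F m a b)) g := by
  classical
  have hQ := Cfsg.Agent.S0288.nondeg (F := F) a b hab m
  have hcardI : Fintype.card IM = 2 * (m + 1) := by
    simp only [Fintype.card_sum, Fintype.card_fin]; ring
  obtain ⟨g, σ, hp, rfl⟩ := (mem_gamma_iff (⇑(minusQF F m a b)) γ).1 hγ
  rw [semiAut_mul] at hγγ
  obtain ⟨hσσ, hgg⟩ := semi_ker (minusQF F m a b) hQ h2 (by rw [hcardI]; omega) _ _ _ hγγ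
  obtain ⟨l, hl⟩ := (mem_Zs_iff _).1 hgg
  have hσ2 : ∀ x, σ (σ x) = x := by
    intro x
    have := congrArg (fun τ : F ≃+* F => τ x) hσσ
    exact this
  by_cases hσ : σ = RingEquiv.refl F
  · subst hσ
    refine ⟨⟨g, sim_of_pair_refl _ hp⟩, ?_⟩
    exact semiAut_refl (⇑(minusQF F m a b)) ⟨g, sim_of_pair_refl _ hp⟩
  · exact absurd (no_semi_invol_minus h2 a b hab g σ hp hσ hσ2 l hl) id

end minus

end Cfsg.Agent.Lib.H11.ConfOrth
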