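import Cfsg.Agent.Lib.H11.ConfOrth22

/-!
# Conformal orthogonal groups (part 23): determinants of similarities with scalar square

For a matrix `M` with `M² = c` in even dimension `2n` the characteristic polynomial is
`(X² - c)ⁿ` as soon as `c` is a non-square, or `M` is conjugate to `-M`.  Consequences for the
invariant `delta` of a similarity with scalar square.
-/

set_option autoImplicit false
set_option linter.unusedSectionVars false

namespace Cfsg.Agent.Lib.H11.ConfOrth

open Matrix Module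
open scoped MatrixGroups

section charpoly

open Polynomial

variable {F : Type*} [Field F] {ι : Type} [Fintype ι] [DecidableEq ι]

theorem charpoly_mul_neg (M : Matrix ι ι F) (c : F) (hM : M * M = c • (1 : Matrix ι ι F)) :
    M.charpoly * (-M).charpoly = (X ^ 2 - C c) ^ Fintype.card ι := by
  unfold Matrix.charpoly
  rw [← Matrix.det_mul]
  have h1 : M.charmatrix * (-M).charmatrix = (X ^ 2 - C c : F[X]) • (1 : Matrix ι ι F[X]) := by
    unfold Matrix.charmatrix
    have hs : Matrix.scalar ι (X : F[X]) = (X : F[X]) • (1 : Matrix ι ι F[X]) := by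
      ext i j
      simp [Matrix.scalar_apply, Matrix.diagonal_apply, Matrix.one_apply]
    have hMM : (C : F →+* F[X]).mapMatrix M * (C : F →+* F[X]).mapMatrix M =
        (C c : F[X]) • (1 : Matrix ι ι F[X]) := by
      rw [← map_mul, hM]
      ext i j
      simp [Matrix.one_apply]
      split_ifs <;> simp
    rw [map_neg, hs, sub_neg_eq_add, sub_mul, mul_add, mul_add, Matrix.smul_mul, Matrix.smul_mul,
      Matrix.mul_smul, Matrix.mul_smul, Matrix.one_mul, Matrix.mul_one, Matrix.one_mul, hMM,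
      smul_smul, sub_smul, sq]
    abel
  rw [h1, Matrix.det_smul, Matrix.det_one, mul_one]

theorem charpoly_of_sq_symm (h2 : (2 : F) ≠ 0) (M : Matrix ι ι F) (c : F)
    (hM : M * M = c • (1 : Matrix ι ι F)) (n : ℕ) (hcard : Fintype.card ι = 2 * n)
    (hsym : (-M).charpoly = M.charpoly) : M.charpoly = (X ^ 2 - C c) ^ n := by
  have h1 := charpoly_mul_neg M c hM
  rw [hsym, hcard, mul_comm 2 n, pow_mul, ← sq] at h1
  rcases sq_eq_sq_iff_eq_or_eq_neg.1 h1 with h | h
  · exact h
  · exfalso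
    have hmon : (M.charpoly).Monic := Matrix.charpoly_monic M
    have hmon' : ((X ^ 2 - C c : F[X]) ^ n).Monic := (monic_X_pow_sub_C c (by norm_num)).pow n
    have h3 : (M.charpoly).leadingCoeff = -1 := by
      rw [h, leadingCoeff_neg, hmon'.leadingCoeff]
    rw [hmon.leadingCoeff] at h3
    apply h2
    linear_combination h3

theorem charpoly_of_sq_nonsq (M : Matrix ι ι F) (c : F)
    (hM : M * M = c • (1 : Matrix ι ι F)) (n : ℕ) (hcard : Fintype.card ι = 2 * n)
    (hc : ¬ IsSquare c) : M.charpoly = (X ^ 2 - C c) ^ n := by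
  have h1 := charpoly_mul_neg M c hM
  have hdeg : (X ^ 2 - C c : F[X]).natDegree = 2 := natDegree_X_pow_sub_C
  have hirr : Irreducible (X ^ 2 - C c : F[X]) := by
    apply irreducible_of_degree_le_three_of_not_isRoot
    · rw [hdeg]; decide
    · intro x hx
      apply hc
      refine ⟨x, ?_⟩
      have : x ^ 2 - c = 0 := by simpa [IsRoot] using hx
      linear_combination -this
  have hdvd : M.charpoly ∣ (X ^ 2 - C c : F[X]) ^ Fintype.card ι := Dvd.intro _ h1
  obtain ⟨i, -, hi⟩ := (dvd_prime_pow hirr.prime _).1 hdvd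
  have hmon : (M.charpoly).Monic := Matrix.charpoly_monic M
  have hmon0 : (X ^ 2 - C c : F[X]).Monic := monic_X_pow_sub_C c (by norm_num)
  have heq := eq_of_monic_of_associated hmon (hmon0.pow i) hi
  have hd := congrArg natDegree heq
  rw [Matrix.charpoly_natDegree_eq_dim, hmon0.natDegree_pow, hdeg, hcard] at hd
  have : i = n := by omega
  rw [heq, this]

theorem det_of_charpoly (M : Matrix ι ι F) (c : F) (n : ℕ) (hcard : Fintype.card ι = 2 * n)
    (h : M.charpoly = (X ^ 2 - C c) ^ n) : M.det = (-c) ^ n := by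
  rw [Matrix.det_eq_sign_charpoly_coeff, h, hcard, pow_mul, neg_one_sq, one_pow, one_mul,
    coeff_zero_eq_eval_zero, eval_pow, eval_sub, eval_pow, eval_X, eval_C]
  congr 1
  ring

end charpoly

section sim

variable {F : Type*} [Field F] {ι : Type} [Fintype ι] [DecidableEq ι]
  (Q : QuadraticForm F (ι → F))

variable (hQ : (QuadraticMap.polarBilin Q).Nondegenerate) (h2 : (2 : F) ≠ 0) (n : ℕ)
  (hcard : Fintype.card ι = 2 * n) (hne : ∃ v, Q v ≠ 0)

theorem sq_of_scalar (g : GL ι F) (c : Fˣ)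
    (hsq : g * g = Matrix.GeneralLinearGroup.scalar ι c) :
    (g : Matrix ι ι F) * (g : Matrix ι ι F) = (c : F) • (1 : Matrix ι ι F) := by
  rw [← Units.val_mul, hsq, Matrix.GeneralLinearGroup.coe_scalar]
  ext i j
  simp [Matrix.scalar_apply, Matrix.diagonal_apply, Matrix.one_apply]

/-- the multiplier of a similarity with square `c` is `± c` -/
theorem mult_sq_cases (g : ↥(Sim ⇑Q)) (c : Fˣ)
    (hsq : g.1 * g.1 = Matrix.GeneralLinearGroup.scalar ι c) :
    (c : F) = (mult (⇑Q) hne g : F) ∨ (c : F) = -(mult (⇑Q) hne g : F) := by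
  obtain ⟨v₀, hv₀⟩ := id hne
  have h1 : Q (g.1.1 *ᵥ (g.1.1 *ᵥ v₀)) =
      (mult (⇑Q) hne g : F) * ((mult (⇑Q) hne g : F) * Q v₀) := by
    rw [mult_spec (⇑Q) hne g, mult_spec (⇑Q) hne g]
  rw [Matrix.mulVec_mulVec, ← Units.val_mul, hsq, scalar_mulVec, QuadraticMap.map_smul,
    smul_eq_mul] at h1
  have h3 : (((c : F) - (mult (⇑Q) hne g : F)) * ((c : F) + (mult (⇑Q) hne g : F))) * Q v₀ = 0 := by
    linear_combination h1
  rcases mul_eq_zero.1 ((mul_eq_zero.1 h3).resolve_right hv₀) with h | h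
  · left; linear_combination h
  · right; linear_combination h

include hQ in
/-- the adjoint of a similarity with square `c` -/
theorem adjoint_rel (g : ↥(Sim ⇑Q)) (c : Fˣ)
    (hsq : g.1 * g.1 = Matrix.GeneralLinearGroup.scalar ι c) :
    (c : F) • ((g.1 : Matrix ι ι F)ᵀ *
        LinearMap.BilinForm.toMatrix' (QuadraticMap.polarBilin Q)) =
      (mult (⇑Q) hne g : F) •
        (LinearMap.BilinForm.toMatrix' (QuadraticMap.polarBilin Q) * (g.1 : Matrix ι ι F)) := by
  have hM := sq_of_scalar g.1 c hsq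
  have hc : ∀ v, Q (sact g.1 (RingEquiv.refl F) v) =
      (mult (⇑Q) hne g : F) * (RingEquiv.refl F) (Q v) := by
    intro v
    exact mult_spec (⇑Q) hne g v
  have h1 := gram_semi Q g.1 (RingEquiv.refl F) _ hc
  rw [map_refl] at h1
  have h3 := congrArg (fun N => N * (g.1 : Matrix ι ι F)) h1
  simp only [Matrix.mul_assoc, hM, Matrix.mul_smul, Matrix.mul_one, Matrix.smul_mul] at h3
  exact h3

include hQ in
/-- in the skew-adjoint case `M` and `-M` have the same characteristic polynomial -/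
theorem charpoly_neg_of_skew (g : ↥(Sim ⇑Q)) (c : Fˣ)
    (hsq : g.1 * g.1 = Matrix.GeneralLinearGroup.scalar ι c)
    (hc : (c : F) = -(mult (⇑Q) hne g : F)) :
    (-(g.1 : Matrix ι ι F)).charpoly = (g.1 : Matrix ι ι F).charpoly := by
  have h1 := adjoint_rel Q hQ hne g c hsq
  have hG : IsUnit (LinearMap.BilinForm.toMatrix' (QuadraticMap.polarBilin Q)) := by
    rw [Matrix.isUnit_iff_isUnit_det, isUnit_iff_ne_zero,
      ← Matrix.nondegenerate_iff_det_ne_zero, LinearMap.BilinForm.nondegenerate_toMatrix'_iff]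
    exact hQ
  obtain ⟨G, hG'⟩ := hG
  have hc0 : (c : F) ≠ 0 := c.ne_zero
  have h3 : (g.1 : Matrix ι ι F)ᵀ = (G : Matrix ι ι F) * (-(g.1 : Matrix ι ι F)) *
      ((G⁻¹ : (Matrix ι ι F)ˣ) : Matrix ι ι F) := by
    rw [← hG', hc] at h1
    have h4 : (g.1 : Matrix ι ι F)ᵀ * (G : Matrix ι ι F) =
        -((G : Matrix ι ι F) * (g.1 : Matrix ι ι F)) := by
      have h5 : (mult (⇑Q) hne g : F) ≠ 0 := (mult (⇑Q) hne g).ne_zero
      have h6 : (-(mult (⇑Q) hne g : F)) • ((g.1 : Matrix ι ι F)ᵀ * (G : Matrix ι ι F)) =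
          (-(mult (⇑Q) hne g : F)) • (-((G : Matrix ι ι F) * (g.1 : Matrix ι ι F))) := by
        rw [h1, smul_neg, neg_smul, neg_neg]
      exact smul_right_injective _ (neg_ne_zero.2 h5) h6
    calc (g.1 : Matrix ι ι F)ᵀ = (g.1 : Matrix ι ι F)ᵀ * ((G : Matrix ι ι F) *
          ((G⁻¹ : (Matrix ι ι F)ˣ) : Matrix ι ι F)) := by
          rw [← Units.val_mul, mul_inv_cancel, Units.val_one, Matrix.mul_one]
      _ = (G : Matrix ι ι F) * (-(g.1 : Matrix ι ι F)) *
          ((G⁻¹ : (Matrix ι ι F)ˣ) : Matrix ι ι F) := by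
          rw [← Matrix.mul_assoc, h4, Matrix.mul_neg]
  have h7 := Matrix.charpoly_units_conj G (-(g.1 : Matrix ι ι F))
  rw [Matrix.coe_units_inv] at h3
  rw [← h3, Matrix.charpoly_transpose] at h7
  exact h7.symm

include hQ h2 hcard in
/-- a similarity with scalar square in the skew-adjoint case has trivial `delta` -/
theorem delta_eq_one_of_skew_gen (g : ↥(Sim ⇑Q)) (c : Fˣ)
    (hsq : g.1 * g.1 = Matrix.GeneralLinearGroup.scalar ι c)
    (hc : (c : F) = -(mult (⇑Q) hne g : F)) : delta Q hne n g = 1 := by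
  rw [delta_eq_one_iff]
  have hM := sq_of_scalar g.1 c hsq
  have h1 := charpoly_of_sq_symm h2 _ _ hM n hcard (charpoly_neg_of_skew Q hQ hne g c hsq hc)
  rw [det_of_charpoly _ _ n hcard h1, hc, neg_neg]

include h2 hcard in
theorem odd_of_det (g : ↥(Sim ⇑Q)) (c : Fˣ) (hc : (c : F) = (mult (⇑Q) hne g : F))
    (hdet : (g.1 : Matrix ι ι F).det = (-(c : F)) ^ n) (hδ : delta Q hne n g ≠ 1) : Odd n := by
  rw [Ne, delta_eq_one_iff, hdet, ← hc] at hδ
  by_contra hn
  rw [Nat.not_odd_iff_even] at hn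
  apply hδ
  rw [neg_pow, Even.neg_one_pow hn, one_mul]

include h2 hcard in
/-- non-square `c`, self-adjoint case: `delta g ≠ 1` forces `n` odd -/
theorem odd_of_nonsq (g : ↥(Sim ⇑Q)) (c : Fˣ)
    (hsq : g.1 * g.1 = Matrix.GeneralLinearGroup.scalar ι c)
    (hc : (c : F) = (mult (⇑Q) hne g : F)) (hns : ¬ IsSquare (c : F))
    (hδ : delta Q hne n g ≠ 1) : Odd n := by
  have hM := sq_of_scalar g.1 c hsq
  have h1 := charpoly_of_sq_nonsq _ _ hM n hcard hns
  exact odd_of_det Q h2 n hcard hne g c hc (det_of_charpoly _ _ n hcard h1) hδ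

include h2 hcard in
/-- if some invertible matrix conjugates `g` to `-g` then `delta g ≠ 1` forces `n` odd -/
theorem odd_of_anticomm (g : ↥(Sim ⇑Q)) (c : Fˣ)
    (hsq : g.1 * g.1 = Matrix.GeneralLinearGroup.scalar ι c)
    (hc : (c : F) = (mult (⇑Q) hne g : F)) (h : GL ι F)
    (hh : (h : Matrix ι ι F) * (g.1 : Matrix ι ι F) * ((h⁻¹ : GL ι F) : Matrix ι ι F) =
      -(g.1 : Matrix ι ι F))
    (hδ : delta Q hne n g ≠ 1) : Odd n := by
  have hM := sq_of_scalar g.1 c hsq
  have h3 := Matrix.charpoly_units_conj h (g.1 : Matrix ι ι F)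
  rw [Matrix.coe_units_inv] at hh
  rw [hh] at h3
  have h1 := charpoly_of_sq_symm h2 _ _ hM n hcard h3
  exact odd_of_det Q h2 n hcard hne g c hc (det_of_charpoly _ _ n hcard h1) hδ

end sim

end Cfsg.Agent.Lib.H11.ConfOrth
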