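import Cfsg.Agent.Lib.H11.ConfOrth23
import Cfsg.Agent.Lib.H11.ConfOrth19
import Cfsg.Agent.Lib.H13.Witt

/-!
# Conformal orthogonal groups (part 24): similarities with scalar square, general forms

General-form versions of the results of parts 16 and 17: an element of `SO ∖ Ω` centralising a
similarity `g` with `g²` scalar and `delta g ≠ 1`.
-/

set_option autoImplicit false
set_option linter.unusedSectionVars false
set_option linter.unusedSimpArgs false

namespace Cfsg.Agent.Lib.H11.ConfOrth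

open Matrix Module
open scoped MatrixGroups
open Cfsg.Agent.Lib.H13 Cfsg.Agent.Lib.H13.HypPairs

section gen

variable {F : Type*} [Field F] [Fintype F] {ι : Type} [Fintype ι] [DecidableEq ι]
  (Q : QuadraticForm F (ι → F))

set_option quotPrecheck false in
local notation "B" => QuadraticMap.polar (⇑Q)

/-- two mutually orthogonal hyperbolic pairs -/
theorem exists_two_pairs_gen (hQ : (QuadraticMap.polarBilin Q).Nondegenerate)
    (hcard : 6 ≤ Fintype.card ι) :
    ∃ e₀ f₀ e₁ f₁ : ι → F, Q e₀ = 0 ∧ Q f₀ = 0 ∧ Q e₁ = 0 ∧ Q f₁ = 0 ∧ B e₀ f₀ = 1 ∧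
      B e₁ f₁ = 1 ∧ B e₀ e₁ = 0 ∧ B e₀ f₁ = 0 ∧ B f₀ e₁ = 0 ∧ B f₀ f₁ = 0 := by
  obtain ⟨k, r, b, hstd, htail, hfr⟩ := Cfsg.Agent.Lib.H13.witt Q hQ
  rw [Module.finrank_fintype_fun_eq_card] at hfr
  have hr : r ≤ 2 := by
    rcases r with _ | _ | _ | r
    · omega
    · omega
    · omega
    · exact htail.elim
  obtain ⟨k', rfl⟩ : ∃ k', k = k' + 2 := ⟨k - 2, by omega⟩
  have h01 : (0 : Fin (k' + 2)) ≠ 1 := by rw [Ne, Fin.ext_iff]; simp
  refine ⟨b (.inl (.inl 0)), b (.inl (.inr 0)), b (.inl (.inl 1)), b (.inl (.inr 1)),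
    hstd.sing_l _, hstd.sing_r _, hstd.sing_l _, hstd.sing_r _, ?_, ?_, hstd.iso_l _ _, ?_, ?_,
    hstd.iso_r _ _⟩
  · rw [hstd.pair]; simp
  · rw [hstd.pair]; simp
  · rw [hstd.pair, if_neg h01]
  · rw [QuadraticMap.polar_comm, hstd.pair, if_neg h01.symm]

/-- a self-adjoint similarity with non-square multiplier `τ` and square `τ` does not kill
`B(u, M u)` on all singular vectors -/
theorem exists_sing_ne_gen (hQ : (QuadraticMap.polarBilin Q).Nondegenerate) (h2 : (2 : F) ≠ 0)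
    (hcard : 6 ≤ Fintype.card ι) (M : Matrix ι ι F) (τ : F) (hτ : ¬ IsSquare τ)
    (hM1 : ∀ v, Q (M *ᵥ v) = τ * Q v)
    (hM2 : ∀ v, M *ᵥ (M *ᵥ v) = τ • v) :
    ∃ u, Q u = 0 ∧ B u (M *ᵥ u) ≠ 0 := by
  have hτ0 : τ ≠ 0 := by
    rintro rfl
    exact hτ ⟨0, by simp⟩
  have hsa := selfadj_of_sq Q M τ hτ0 hM1 hM2
  by_contra hcon
  push Not at hcon
  have key : ∀ x y, Q x = 0 → Q y = 0 → B x y = 0 → B x (M *ᵥ y) = 0 := by
    intro x y hx hy hxy
    have h1 : Q (x + y) = 0 := by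
      have : Q (x + y) = Q x + Q y + B x y := by
        unfold QuadraticMap.polar; ring
      rw [this, hx, hy, hxy, add_zero, add_zero]
    have h3 := hcon _ h1
    rw [Matrix.mulVec_add, QuadraticMap.polar_add_left, QuadraticMap.polar_add_right,
      QuadraticMap.polar_add_right, hcon x hx, hcon y hy, zero_add, add_zero,
      QuadraticMap.polar_comm _ y (M *ᵥ x), hsa] at h3
    have h4 : (2 : F) * B x (M *ᵥ y) = 0 := by
      linear_combination h3
    exact (mul_eq_zero.1 h4).resolve_left h2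
  obtain ⟨e₀, f₀, e₁, f₁, he₀, hf₀, he₁, hf₁, h00, h11, hee, hef, hfe, hff⟩ :=
    exists_two_pairs_gen Q hQ hcard
  have he₁e₀ : B e₁ e₀ = 0 := by rw [QuadraticMap.polar_comm]; exact hee
  have hf₁e₀ : B f₁ e₀ = 0 := by rw [QuadraticMap.polar_comm]; exact hef
  have hf₁e₁ : B f₁ e₁ = 1 := by rw [QuadraticMap.polar_comm]; exact h11
  have hf₀e₀ : B f₀ e₀ = 1 := by rw [QuadraticMap.polar_comm]; exact h00
  have he₀e₀ : B e₀ e₀ = 0 := by rw [Cfsg.Agent.Lib.H4.polar_self, he₀, mul_zero]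
  have he₁e₁ : B e₁ e₁ = 0 := by rw [Cfsg.Agent.Lib.H4.polar_self, he₁, mul_zero]
  have hf₁f₁ : B f₁ f₁ = 0 := by rw [Cfsg.Agent.Lib.H4.polar_self, hf₁, mul_zero]
  have hk1 : B e₁ (M *ᵥ e₀) = 0 := key _ _ he₁ he₀ he₁e₀
  have hk2 : B f₁ (M *ᵥ e₀) = 0 := key _ _ hf₁ he₀ hf₁e₀
  -- vectors orthogonal to `e₀, e₁, f₁`
  have hgen : ∀ z, B z e₀ = 0 → B z e₁ = 0 → B z f₁ = 0 → B z (M *ᵥ e₀) = 0 := by
    intro z h0 h1 h1'
    have hs : Q (z + e₁ - Q z • f₁) = 0 := by
      have h5 : Q (z + e₁ - Q z • f₁) = Q z + Q e₁ + Q z * Q z * Q f₁ + B z e₁ - Q z * B z f₁ -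
          Q z * B e₁ f₁ := by
        have h6 : Q (z + e₁ - Q z • f₁) = Q (z + e₁) + Q (-(Q z) • f₁) +
            B (z + e₁) (-(Q z) • f₁) := by
          have : z + e₁ - Q z • f₁ = (z + e₁) + (-(Q z)) • f₁ := by
            rw [neg_smul, sub_eq_add_neg]
          rw [this]
          unfold QuadraticMap.polar; ring
        have h7 : Q (z + e₁) = Q z + Q e₁ + B z e₁ := by
          unfold QuadraticMap.polar; ring
        rw [h6, h7, QuadraticMap.map_smul, QuadraticMap.polar_smul_right,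
          QuadraticMap.polar_add_left, smul_eq_mul, smul_eq_mul]
        ring
      rw [h5, he₁, hf₁, h1, h1', h11]
      ring
    have hse : B (z + e₁ - Q z • f₁) e₀ = 0 := by
      rw [QuadraticMap.polar_sub_left, QuadraticMap.polar_add_left, QuadraticMap.polar_smul_left,
        h0, he₁e₀, hf₁e₀, smul_zero, add_zero, sub_zero]
    have h3 := key _ _ hs he₀ hse
    rw [QuadraticMap.polar_sub_left, QuadraticMap.polar_add_left, QuadraticMap.polar_smul_left,
      hk1, hk2, smul_zero, add_zero, sub_zero] at h3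
    exact h3
  -- all vectors orthogonal to `e₀`
  have hperp : ∀ z, B z e₀ = 0 → B z (M *ᵥ e₀) = 0 := by
    intro z h0
    have h3 := hgen (z - B z f₁ • e₁ - B z e₁ • f₁)
      (by rw [QuadraticMap.polar_sub_left, QuadraticMap.polar_sub_left,
            QuadraticMap.polar_smul_left, QuadraticMap.polar_smul_left, h0, he₁e₀, hf₁e₀,
            smul_zero, smul_zero, sub_zero, sub_zero])
      (by rw [QuadraticMap.polar_sub_left, QuadraticMap.polar_sub_left,
            QuadraticMap.polar_smul_left, QuadraticMap.polar_smul_left, he₁e₁, hf₁e₁,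
            smul_zero, sub_zero, smul_eq_mul, mul_one, sub_self])
      (by rw [QuadraticMap.polar_sub_left, QuadraticMap.polar_sub_left,
            QuadraticMap.polar_smul_left, QuadraticMap.polar_smul_left, h11, hf₁f₁,
            smul_zero, sub_zero, smul_eq_mul, mul_one, sub_self])
    rw [QuadraticMap.polar_sub_left, QuadraticMap.polar_sub_left,
      QuadraticMap.polar_smul_left, QuadraticMap.polar_smul_left, hk1, hk2, smul_zero, smul_zero,
      sub_zero, sub_zero] at h3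
    exact h3
  obtain ⟨c, hc⟩ : ∃ c, c = B f₀ (M *ᵥ e₀) := ⟨_, rfl⟩
  have hy : M *ᵥ e₀ - c • e₀ = 0 := by
    apply hQ.1
    intro w
    show B (M *ᵥ e₀ - c • e₀) w = 0
    have hw : w = (w - B w e₀ • f₀) + B w e₀ • f₀ := by abel
    have hw' : B (w - B w e₀ • f₀) e₀ = 0 := by
      rw [QuadraticMap.polar_sub_left, QuadraticMap.polar_smul_left, hf₀e₀, smul_eq_mul, mul_one,
        sub_self]
    have h5 := hperp _ hw'
    rw [hw, QuadraticMap.polar_add_right, QuadraticMap.polar_sub_left,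
      QuadraticMap.polar_sub_left, QuadraticMap.polar_smul_left, QuadraticMap.polar_smul_left,
      QuadraticMap.polar_comm _ (M *ᵥ e₀) (w - B w e₀ • f₀), h5,
      QuadraticMap.polar_comm _ e₀ (w - B w e₀ • f₀), hw', smul_zero, sub_zero, zero_add,
      QuadraticMap.polar_smul_right, QuadraticMap.polar_smul_right,
      QuadraticMap.polar_comm _ (M *ᵥ e₀) f₀, ← hc, h00, smul_eq_mul, smul_eq_mul, smul_eq_mul]
    ring
  have hMe : M *ᵥ e₀ = c • e₀ := sub_eq_zero.1 hy
  have he₀ne : e₀ ≠ 0 := by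
    rintro rfl
    rw [QuadraticMap.polar_zero_left] at h00
    exact zero_ne_one h00
  have h5 := hM2 e₀
  rw [hMe, Matrix.mulVec_smul, hMe, smul_smul] at h5
  have h6 : (c * c - τ) • e₀ = 0 := by
    rw [sub_smul, h5, sub_self]
  rcases smul_eq_zero.1 h6 with h | h
  · exact hτ ⟨c, by linear_combination -h⟩
  · exact he₀ne h

/-- a self-adjoint similarity with non-square multiplier `τ` and square `τ`: there is a non-singular
vector orthogonal to its image -/
theorem selfadj_nonsq_gen (hQ : (QuadraticMap.polarBilin Q).Nondegenerate) (h2 : (2 : F) ≠ 0)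
    (hcard : 6 ≤ Fintype.card ι) (M : Matrix ι ι F) (τ : F)
    (hτ : ¬ IsSquare τ)
    (hM1 : ∀ v, Q (M *ᵥ v) = τ * Q v)
    (hM2 : ∀ v, M *ᵥ (M *ᵥ v) = τ • v) :
    ∃ v, Q v ≠ 0 ∧ B v (M *ᵥ v) = 0 := by
  have hτ0 : τ ≠ 0 := by
    rintro rfl
    exact hτ ⟨0, by simp⟩
  have hsa := selfadj_of_sq Q M τ hτ0 hM1 hM2
  have hpol := polar_of_sim Q M τ hM1
  obtain ⟨u, hu0, hus⟩ := exists_sing_ne_gen Q hQ h2 hcard M τ hτ hM1 hM2
  obtain ⟨s, hs⟩ : ∃ s, s = B u (M *ᵥ u) := ⟨_, rfl⟩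
  rw [← hs] at hus
  obtain ⟨u', hu'⟩ : ∃ u', u' = M *ᵥ u := ⟨_, rfl⟩
  have hMu' : M *ᵥ u' = τ • u := by rw [hu', hM2]
  have huu : B u u = 0 := by
    rw [Cfsg.Agent.Lib.H4.polar_self, hu0, mul_zero]
  have hu'0 : Q u' = 0 := by rw [hu', hM1, hu0, mul_zero]
  have hu'u' : B u' u' = 0 := by
    rw [Cfsg.Agent.Lib.H4.polar_self, hu'0, mul_zero]
  have huu' : B u u' = s := by rw [hu', hs]
  have hu'u : B u' u = s := by
    rw [QuadraticMap.polar_comm]; exact huu'
  have hΔ : B u u * B u' u' - B u u' * B u u' ≠ 0 := by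
    rw [huu, huu', zero_mul, zero_sub]
    exact neg_ne_zero.2 (mul_ne_zero hus hus)
  obtain ⟨w, hw1, hw2, hw3⟩ := perp_nonsing Q hQ (by omega) u u' hΔ
  obtain ⟨w', hw'⟩ : ∃ w', w' = M *ᵥ w := ⟨_, rfl⟩
  obtain ⟨r, hr⟩ : ∃ r, r = B w w' := ⟨_, rfl⟩
  have hwu : B w u = 0 := by
    rw [QuadraticMap.polar_comm]; exact hw1
  have hwu' : B w u' = 0 := by
    rw [QuadraticMap.polar_comm]; exact hw2
  have huw' : B u w' = 0 := by
    rw [hw', ← hsa, ← hu']; exact hw2
  have hu'w' : B u' w' = 0 := by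
    rw [hw', hu', hpol, hw1, mul_zero]
  obtain ⟨x, y, hxy⟩ := exists_diag_eq h2 1 τ one_ne_zero hτ0 (-r / s)
  -- the two candidates
  have hcomp : ∀ y' : F, y' ^ 2 = y ^ 2 →
      B (x • u + y' • u' + w) (M *ᵥ (x • u + y' • u' + w)) = 0 ∧
      Q (x • u + y' • u' + w) = x * y' * s + Q w := by
    intro y' hy'
    constructor
    · have hMv : M *ᵥ (x • u + y' • u' + w) = x • u' + (y' * τ) • u + w' := by
        rw [Matrix.mulVec_add, Matrix.mulVec_add, Matrix.mulVec_smul, Matrix.mulVec_smul, hMu',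
          ← hu', ← hw', smul_smul]
      rw [hMv]
      simp only [QuadraticMap.polar_add_left, QuadraticMap.polar_add_right,
        QuadraticMap.polar_smul_left, QuadraticMap.polar_smul_right, smul_eq_mul, huu, hu'u',
        huu', hu'u, hw1, hw2, hwu, hwu', huw', hu'w', ← hr]
      have h5 : s * (x ^ 2 + τ * y ^ 2) = -r := by
        have : (1 : F) * x ^ 2 + τ * y ^ 2 = -r / s := hxy
        rw [one_mul] at this
        rw [this]
        field_simp
      linear_combination h5 + s * τ * hy'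
    · have h6 : Q (x • u + y' • u' + w) = Q (x • u + y' • u') + Q w +
          B (x • u + y' • u') w := by
        unfold QuadraticMap.polar; ring
      have h7 : Q (x • u + y' • u') = Q (x • u) + Q (y' • u') +
          B (x • u) (y' • u') := by
        unfold QuadraticMap.polar; ring
      rw [h6, h7, QuadraticMap.map_smul, QuadraticMap.map_smul, hu0, hu'0]
      simp only [QuadraticMap.polar_add_left, QuadraticMap.polar_smul_left,
        QuadraticMap.polar_smul_right, smul_eq_mul, huu', hw1, hw2]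
      ring
  by_cases hcase : x * y * s + Q w = 0
  · obtain ⟨h8, h9⟩ := hcomp (-y) (by ring)
    refine ⟨_, ?_, h8⟩
    rw [h9]
    have h10 : x * -y * s + Q w = 2 * Q w := by linear_combination -hcase
    rw [h10]
    exact mul_ne_zero h2 hw3
  · obtain ⟨h8, h9⟩ := hcomp y rfl
    refine ⟨_, ?_, h8⟩
    rw [h9]
    exact hcase

/-- a similarity equal to a scalar on all vectors has trivial `delta` -/
theorem delta_eq_one_of_scalar_gen (n : ℕ) (hcard : Fintype.card ι = 2 * n)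
    (hne : ∃ v, Q v ≠ 0) (g : ↥(Sim ⇑Q))
    (l : F) (hl : l ≠ 0) (hg : ∀ x, ((g.1 : GL ι F) : Matrix ι ι F) *ᵥ x = l • x) :
    delta Q hne n g = 1 := by
  have h1 : g = zS Q (Units.mk0 l hl) := by
    apply Subtype.ext
    apply Units.ext
    apply Matrix.ext_iff_mulVec.mpr
    intro x
    rw [hg]
    show _ = (Matrix.GeneralLinearGroup.scalar ι (Units.mk0 l hl)).1 *ᵥ x
    rw [scalar_mulVec, Units.val_mk0]
  rw [h1, delta_zS Q hne n hcard]

theorem exists_comm_not_omega_gen (hQ : (QuadraticMap.polarBilin Q).Nondegenerate)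
    (h2 : (2 : F) ≠ 0) (n : ℕ) (hcard : Fintype.card ι = 2 * n) (hn : 3 ≤ n)
    (hne : ∃ v, Q v ≠ 0)
    (g : ↥(Sim ⇑Q)) (hδ : delta Q hne n g ≠ 1) (c : Fˣ)
    (hsq : g.1 * g.1 = Matrix.GeneralLinearGroup.scalar ι c) :
    ∃ h : GL ι F, h ∈ Cfsg.specialIsometryGL F ⇑Q ∧
      h ∉ Cfsg.Geo.omegaGL ⇑Q ∧ g.1 * h = h * g.1 := by
  have hc2 : 2 ≤ Fintype.card ι := by omega
  have hc3 : 3 ≤ Fintype.card ι := by omega
  obtain ⟨M, hM⟩ : ∃ M : Matrix ι ι F, M = ((g.1 : GL ι F) : Matrix ι ι F) := ⟨_, rfl⟩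
  obtain ⟨τ, hτ⟩ : ∃ τ : Fˣ, τ = mult (⇑Q) hne g := ⟨_, rfl⟩
  have hM1 : ∀ v, Q (M *ᵥ v) = (τ : F) * Q v := by
    intro v
    rw [hM, hτ]
    exact mult_spec _ hne g v
  have hMM : ∀ v, M *ᵥ (M *ᵥ v) = (c : F) • v := by
    intro v
    rw [hM, Matrix.mulVec_mulVec, ← Units.val_mul, hsq, scalar_mulVec]
  have hτ0 : (τ : F) ≠ 0 := τ.ne_zero
  rcases mult_sq_cases Q hne g c hsq with hc | hc
  swap
  · -- the skew case is impossible
    exfalso
    exact hδ (delta_eq_one_of_skew_gen Q hQ h2 n hcard hne g c hsq hc)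
  · have hc' : (c : F) = τ := by rw [hc, hτ]
    have hM2 : ∀ v, M *ᵥ (M *ᵥ v) = (τ : F) • v := by
      intro v; rw [hMM, hc']
    by_cases hsqτ : IsSquare (τ : F)
    · -- square multiplier: an involution up to scalars
      obtain ⟨l, hl⟩ := hsqτ
      have hl0 : l ≠ 0 := by
        rintro rfl
        rw [mul_zero] at hl
        exact hτ0 hl
      have hsm : ∀ v, (l⁻¹ • M) *ᵥ v = l⁻¹ • (M *ᵥ v) := fun v => Matrix.smul_mulVec _ _ _
      have hM1' : ∀ v, Q ((l⁻¹ • M) *ᵥ v) = Q v := by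
        intro v
        rw [hsm, QuadraticMap.map_smul, hM1, hl, smul_eq_mul]
        field_simp
      have hM2' : ∀ v, (l⁻¹ • M) *ᵥ ((l⁻¹ • M) *ᵥ v) = v := by
        intro v
        rw [hsm, hsm, Matrix.mulVec_smul, hM2, smul_smul, smul_smul, hl]
        have : l⁻¹ * l⁻¹ * (l * l) = 1 := by field_simp
        rw [this, one_smul]
      have hne1 : ∃ x, (l⁻¹ • M) *ᵥ x ≠ x := by
        by_contra hcon
        push Not at hcon
        apply hδ
        apply delta_eq_one_of_scalar_gen Q n hcard hne g l hl0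
        intro x
        rw [← hM]
        have := hcon x
        rw [hsm] at this
        rw [← this, smul_smul, mul_inv_cancel₀ hl0, one_smul, this]
      have hne2 : ∃ x, (l⁻¹ • M) *ᵥ x ≠ -x := by
        by_contra hcon
        push Not at hcon
        apply hδ
        apply delta_eq_one_of_scalar_gen Q n hcard hne g (-l) (neg_ne_zero.2 hl0)
        intro x
        rw [← hM]
        have := hcon x
        rw [hsm] at this
        have h5 : M *ᵥ x = l • (l⁻¹ • M *ᵥ x) := by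
          rw [smul_smul, mul_inv_cancel₀ hl0, one_smul]
        rw [h5, this, smul_neg, neg_smul]
      obtain ⟨u, w, ε, hu, hw, hns, hε, hMu, hMw⟩ :=
        invol_eigen Q (l⁻¹ • M) hQ h2 hc3 hM1' hM2' hne1 hne2
      have hMu' : M *ᵥ u = (l * ε) • u := by
        have h5 : M *ᵥ u = l • (l⁻¹ • M *ᵥ u) := by
          rw [smul_smul, mul_inv_cancel₀ hl0, one_smul]
        rw [h5, ← hsm, hMu, smul_smul]
      have hMw' : M *ᵥ w = (l * ε) • w := by
        have h5 : M *ᵥ w = l • (l⁻¹ • M *ᵥ w) := by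
          rw [smul_smul, mul_inv_cancel₀ hl0, one_smul]
        rw [h5, ← hsm, hMw, smul_smul]
      obtain ⟨hso, hom⟩ := two_refl Q hQ h2 hc2 u w hu hw hns
      refine ⟨_, hso, hom, ?_⟩
      apply comm_two_refl Q g u w hu hw
      rw [← hM, hMu', hMw', refl_smul _ _ (mul_ne_zero hl0 hε), refl_smul _ _ (mul_ne_zero hl0 hε)]
    · -- non-square multiplier
      obtain ⟨v, hv, hvo⟩ := selfadj_nonsq_gen Q hQ h2 (by omega) M τ hsqτ hM1 hM2
      have hw : Q (M *ᵥ v) ≠ 0 := by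
        rw [hM1]
        exact mul_ne_zero hτ0 hv
      have hns : ¬ IsSquare (Q v * Q (M *ᵥ v)) := by
        rw [hM1]
        intro hsq'
        apply hsqτ
        have h5 : Q v * ((τ : F) * Q v) =
            (τ : F) * (Q v * Q v) := by ring
        rw [h5, isSquare_mul_iff _ _ hτ0 (mul_ne_zero hv hv)] at hsq'
        exact hsq'.2 ⟨_, rfl⟩
      obtain ⟨hso, hom⟩ := two_refl Q hQ h2 hc2 v (M *ᵥ v) hv hw hns
      refine ⟨_, hso, hom, ?_⟩
      apply comm_two_refl Q g v (M *ᵥ v) hv hw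
      rw [← hM, hM2, refl_smul _ _ hτ0]
      apply refl_comm
      rw [QuadraticMap.polar_comm]
      exact hvo

end gen

end Cfsg.Agent.Lib.H11.ConfOrth
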