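import Cfsg.Agent.Lib.H11.ConfOrth24

/-!
# Conformal orthogonal groups (part 25): splitting of the class of an involutory graph
automorphism of `PΩ⁻`
-/

set_option autoImplicit false
set_option linter.unusedSectionVars false
set_option linter.unusedSimpArgs false

namespace Cfsg.Agent.Lib.H11.ConfOrth

open Matrix Module
open scoped MatrixGroups
open Cfsg.Agent.Lib.H13 Cfsg.Agent.Lib.H13.HypPairs

section gen

variable {F : Type*} [Field F] [Fintype F] [DecidableEq F] {ι : Type} [Fintype ι] [DecidableEq ι]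
  (Q : QuadraticForm F (ι → F))

omit [Fintype F] [DecidableEq F] in
theorem scalar_mul_val (c : Fˣ) (M : GL ι F) :
    ((Matrix.GeneralLinearGroup.scalar ι c * M : GL ι F) : Matrix ι ι F) =
      (c : F) • (M : Matrix ι ι F) := by
  rw [Units.val_mul, Matrix.GeneralLinearGroup.coe_scalar]
  ext i j
  simp [Matrix.scalar_apply, Matrix.diagonal_mul]

omit [DecidableEq F] in
/-- a similarity commuting with an isometry of determinant `-1` has square multiplier -/
theorem mult_isSquare_of_comm_iso (hne : ∃ v, Q v ≠ 0)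
    (hQ : (QuadraticMap.polarBilin Q).Nondegenerate) (h2 : (2 : F) ≠ 0)
    (hcard : 2 ≤ Fintype.card ι) (s : ↥(Sim ⇑Q)) (t : GL ι F)
    (ht : t ∈ Cfsg.isometryGroup F ⇑Q) (htso : t ∉ Cfsg.specialIsometryGL F ⇑Q)
    (hcomm : s.1 * t = t * s.1) : IsSquare (mult (⇑Q) hne s : F) := by
  obtain ⟨vs, hvs, hrep⟩ := exists_refl_list Q hQ h2 t ht
  have hoddL : ¬ Even vs.length := fun h => htso ((sO_iff_even Q h2 t ht vs hvs hrep).2 h)
  have h1 : s.1 * t * s.1⁻¹ * t⁻¹ = 1 := by rw [hcomm]; group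
  have h3 := (comm_mem_omegaGL_iff Q hne hQ h2 hcard s t vs hvs hrep).1
    (by rw [h1]; exact one_mem _)
  obtain ⟨k, hk⟩ := Nat.not_even_iff_odd.1 hoddL
  have hμ0 : (mult (⇑Q) hne s : F) ≠ 0 := (mult (⇑Q) hne s).ne_zero
  rw [hk, pow_succ, pow_mul, isSquare_mul_iff _ _ (pow_ne_zero _ (pow_ne_zero _ hμ0)) hμ0] at h3
  apply h3.1
  exact ⟨(mult (⇑Q) hne s : F) ^ k, by ring⟩

/-- the similarities with `det = τ^n` and square multiplier -/
noncomputable def TsqG (n : ℕ) (hne : ∃ v, Q v ≠ 0) : Subgroup ↥(Sim ⇑Q) :=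
  DD Q n hne ⊓ ((quadraticChar F).toUnitHom.comp (mult (⇑Q) hne)).ker

theorem mem_TsqG (n : ℕ) (hne : ∃ v, Q v ≠ 0) (t : ↥(Sim ⇑Q)) :
    t ∈ TsqG Q n hne ↔ t ∈ DD Q n hne ∧ IsSquare (mult (⇑Q) hne t : F) := by
  unfold TsqG
  rw [Subgroup.mem_inf, MonoidHom.mem_ker, MonoidHom.comp_apply, qc_eq_one_iff]

omit [Fintype F] [DecidableEq F] in
/-- a scalar commutator of similarities is `± 1` -/
theorem comm_scalar_cases (hne : ∃ v, Q v ≠ 0) (h g : ↥(Sim ⇑Q)) (c : Fˣ)
    (hc : h.1 * g.1 * h.1⁻¹ * g.1⁻¹ = Matrix.GeneralLinearGroup.scalar ι c) :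
    c = 1 ∨ c = -1 := by
  have h5 : mult (⇑Q) hne (zS Q c) = 1 := by
    have h6 : zS Q c = h * g * h⁻¹ * g⁻¹ := by
      apply Subtype.ext
      simp only [Subgroup.coe_mul, Subgroup.coe_inv]
      rw [hc]; rfl
    rw [h6, map_mul, map_mul, map_mul, map_inv, map_inv, mul_comm (mult (⇑Q) hne h),
      mul_inv_cancel_right, mul_inv_cancel]
  rw [mult_zS] at h5
  have h7 : (c : F) * (c : F) = 1 := by
    have := congrArg Units.val h5
    rwa [Units.val_pow_eq_pow_val, Units.val_one, sq] at this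
  rcases mul_self_eq_one_iff.1 h7 with h8 | h8
  · left; exact Units.ext h8
  · right
    apply Units.ext
    rw [h8]; simp

/-- splitting of the class of an involutory "graph" automorphism induced by a similarity `g` with
`delta g ≠ 1`, for a general even-dimensional form -/
theorem graph_split_gen (hQ : (QuadraticMap.polarBilin Q).Nondegenerate) (h2 : (2 : F) ≠ 0)
    (n : ℕ) (hn : 4 ≤ n) (hcard : Fintype.card ι = 2 * n) (hne : ∃ v, Q v ≠ 0)
    (g₀ : ↥(Sim ⇑Q)) (hg₀m : ¬ IsSquare (mult (⇑Q) hne g₀ : F)) (hg₀d : delta Q hne n g₀ = 1)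
    (g : ↥(Sim ⇑Q)) (hδ : delta Q hne n g ≠ 1) (c : Fˣ)
    (hsq : g.1 * g.1 = Matrix.GeneralLinearGroup.scalar ι c) :
    (Cfsg.splitClassCount ((DD Q n hne).map (Phi ⇑Q)) (Cfsg.Inn (Cfsg.POmega F ⇑Q))
        (Phi (⇑Q) g) = 1 ∨
      Cfsg.splitClassCount ((DD Q n hne).map (Phi ⇑Q)) (Cfsg.Inn (Cfsg.POmega F ⇑Q))
        (Phi (⇑Q) g) = 2) ∧
    ((negOne ι F ∈ Cfsg.Geo.omegaGL ⇑Q ∨ Even n) →
      Cfsg.splitClassCount ((DD Q n hne).map (Phi ⇑Q)) (Cfsg.Inn (Cfsg.POmega F ⇑Q))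
        (Phi (⇑Q) g) = 2) := by
  have hker := ker_Phi_main Q hQ h2 n hn hcard
  have hKn : (Cfsg.Inn (Cfsg.POmega F ⇑Q)).Normal := inn_normal _
  have hKG := inn_le_DD_map Q hQ h2 n hn hcard hne
  obtain ⟨γ, hγg⟩ : ∃ γ, γ = Phi (⇑Q) g := ⟨_, rfl⟩
  rw [← hγg]
  rw [Cfsg.Agent.Lib.H13.AutPSL.splitClassCount_eq _ _ hKG γ]
  obtain ⟨S, hS⟩ : ∃ S, S = Cfsg.Inn (Cfsg.POmega F ⇑Q) ⊔
      ((DD Q n hne).map (Phi ⇑Q) ⊓ Subgroup.centralizer {γ}) := ⟨_, rfl⟩
  rw [← hS]
  have hKS : Cfsg.Inn (Cfsg.POmega F ⇑Q) ≤ S := by rw [hS]; exact le_sup_left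
  have hSG : S ≤ (DD Q n hne).map (Phi ⇑Q) := by
    rw [hS]; exact sup_le hKG inf_le_left
  have hmul := Subgroup.relIndex_mul_relIndex _ S _ hKS hSG
  have hmemN : ∀ t : ↥(Sim ⇑Q),
      Phi (⇑Q) t ∈ Cfsg.Inn (Cfsg.POmega F ⇑Q) ↔
      ∃ c : Fˣ, ∃ ω ∈ Cfsg.Geo.omegaGL ⇑Q,
        t.1 = Matrix.GeneralLinearGroup.scalar ι c * ω := by
    intro t
    rw [← mem_comap_map Q hker, ← inn_eq, Subgroup.mem_comap]
  have hcμ : (c : F) = (mult (⇑Q) hne g : F) := by
    rcases mult_sq_cases Q hne g c hsq with hc | hc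
    · exact hc
    · exact absurd (delta_eq_one_of_skew_gen Q hQ h2 n hcard hne g c hsq hc) hδ
  -- elements of the centraliser give scalar commutators
  have hcent : ∀ t : ↥(Sim ⇑Q), Phi (⇑Q) t ∈ Subgroup.centralizer {γ} →
      ∃ c' : Fˣ, t.1 * g.1 * t.1⁻¹ * g.1⁻¹ = Matrix.GeneralLinearGroup.scalar ι c' := by
    intro t hβC'
    rw [Subgroup.mem_centralizer_iff] at hβC'
    have h5 := hβC' γ (Set.mem_singleton γ)
    have h6 : t * g * t⁻¹ * g⁻¹ ∈ (Phi (⇑Q)).ker := by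
      rw [MonoidHom.mem_ker, map_mul, map_mul, map_mul, map_inv, map_inv, ← hγg, ← h5,
        mul_inv_cancel_right, mul_inv_cancel]
    rw [hker, Subgroup.mem_subgroupOf, mem_Zs_iff] at h6
    obtain ⟨c', hc'⟩ := h6
    refine ⟨c', ?_⟩
    rw [← hc']
    simp only [Subgroup.coe_mul, Subgroup.coe_inv]
  by_cases hneg : negOne ι F ∈ Cfsg.Geo.omegaGL ⇑Q
  swap
  · -- index two
    obtain ⟨φ, hφ, hφk⟩ := dd_inn_z2 Q hQ h2 n hn hcard hne hneg g₀ hg₀m hg₀d
    have h4 := relIndex_of_hom _ _ φ hφ hφk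
    rw [card_mul_zmod2] at h4
    rw [h4] at hmul
    have hdvd : S.relIndex ((DD Q n hne).map (Phi ⇑Q)) ∣ 2 :=
      Dvd.intro_left _ hmul
    have hle := Nat.le_of_dvd (by norm_num) hdvd
    have hpos : S.relIndex ((DD Q n hne).map (Phi ⇑Q)) ≠ 0 := by
      intro h0
      rw [h0, mul_zero] at hmul
      exact absurd hmul (by norm_num)
    refine ⟨by omega, ?_⟩
    rintro (hno | hev)
    · exact absurd hno hneg
    · have hSK : (Cfsg.Inn (Cfsg.POmega F ⇑Q)).relIndex S = 1 := by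
        rw [Subgroup.relIndex_eq_one, hS]
        apply sup_le le_rfl
        rintro β ⟨⟨t, htD, rfl⟩, hβC⟩
        obtain ⟨c', h7⟩ := hcent t hβC
        rcases comm_scalar_cases Q hne t g c' h7 with rfl | rfl
        · -- `t` and `g` commute
          have hcomm : t.1 * g.1 = g.1 * t.1 := by
            rw [map_one] at h7
            calc t.1 * g.1 = (t.1 * g.1 * t.1⁻¹ * g.1⁻¹) * g.1 * t.1 := by group
              _ = g.1 * t.1 := by rw [h7, one_mul]
          by_cases hcs : IsSquare (c : F)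
          swap
          · exfalso
            have hoddn := odd_of_nonsq Q h2 n hcard hne g c hsq hcμ hcs hδ
            exact (Nat.not_even_iff_odd.2 hoddn) hev
          · obtain ⟨l, hl⟩ := hcs
            have hl0 : l ≠ 0 := by
              rintro rfl
              rw [mul_zero] at hl
              exact c.ne_zero hl
            obtain ⟨t₀, ht₀⟩ : ∃ t₀ : ↥(Sim ⇑Q),
                t₀ = zS Q (Units.mk0 l⁻¹ (inv_ne_zero hl0)) * g := ⟨_, rfl⟩
            have hm₀ : mult (⇑Q) hne t₀ = 1 := by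
              apply Units.ext
              rw [ht₀, map_mul, mult_zS, Units.val_mul, Units.val_pow_eq_pow_val, Units.val_mk0,
                ← hcμ, hl, Units.val_one]
              field_simp
            have hd₀ : delta Q hne n t₀ ≠ 1 := by
              rw [ht₀, map_mul, delta_zS Q hne n hcard, one_mul]
              exact hδ
            have ht₀O : t₀.1 ∈ Cfsg.isometryGroup F ⇑Q := (mult_eq_one_iff _ hne t₀).1 hm₀
            have ht₀S : t₀.1 ∉ Cfsg.specialIsometryGL F ⇑Q :=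
              fun h => hd₀ ((mem_sO_iff' Q hne n t₀).1 h).2
            have hcomm₀ : t.1 * t₀.1 = t₀.1 * t.1 := by
              have h8 : t₀.1 = Matrix.GeneralLinearGroup.scalar ι
                  (Units.mk0 l⁻¹ (inv_ne_zero hl0)) * g.1 := by
                rw [ht₀, Subgroup.coe_mul]; rfl
              rw [h8, ← mul_assoc, ← Matrix.GeneralLinearGroup.scalar_commute, mul_assoc, hcomm,
                mul_assoc]
            have hsqt := mult_isSquare_of_comm_iso Q hne hQ h2 (by omega) t t₀.1 ht₀O ht₀S hcomm₀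
            have hpsi : psi1 Q n hne ⟨t, htD⟩ = 1 := by
              unfold psi1
              rw [MonoidHom.comp_apply, MonoidHom.comp_apply, qc_eq_one_iff]
              exact hsqt
            rw [psi1_eq_one_iff Q hQ h2 n hcard hne,
              zso_iff_zomega Q hQ h2 n hn hcard hne hneg] at hpsi
            exact (hmemN t).2 hpsi
        · -- `t` and `g` anticommute
          exfalso
          have h8 : t.1 * g.1 * t.1⁻¹ =
              Matrix.GeneralLinearGroup.scalar ι (-1 : Fˣ) * g.1 := by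
            rw [← h7]; group
          have h9 : ((t.1 : GL ι F) : Matrix ι ι F) * ((g.1 : GL ι F) : Matrix ι ι F) *
              ((t.1⁻¹ : GL ι F) : Matrix ι ι F) = -((g.1 : GL ι F) : Matrix ι ι F) := by
            rw [← Units.val_mul, ← Units.val_mul, h8, scalar_mul_val, Units.val_neg, Units.val_one,
              neg_smul, one_smul]
          have hoddn := odd_of_anticomm Q h2 n hcard hne g c hsq hcμ t.1 h9 hδ
          exact (Nat.not_even_iff_odd.2 hoddn) hev
      rw [hSK, one_mul] at hmul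
      exact hmul
  · -- index four
    have h4 : (Cfsg.Inn (Cfsg.POmega F ⇑Q)).relIndex ((DD Q n hne).map (Phi ⇑Q)) = 4 := by
      by_cases hsqc : ∃ c : Fˣ, ∃ ω ∈ Cfsg.Geo.omegaGL ⇑Q, g₀.1 * g₀.1 =
          Matrix.GeneralLinearGroup.scalar ι c * ω
      · obtain ⟨φ, hφ, hφk⟩ :=
          (dd_inn_four Q hQ h2 n hn hcard hne hneg g₀ hg₀m hg₀d).2 hsqc
        rw [relIndex_of_hom _ _ φ hφ hφk, card_mul_zmod22]
      · obtain ⟨φ, hφ, hφk⟩ :=
          (dd_inn_four Q hQ h2 n hn hcard hne hneg g₀ hg₀m hg₀d).1 hsqc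
        rw [relIndex_of_hom _ _ φ hφ hφk, card_mul_zmod4]
    rw [h4] at hmul
    obtain ⟨h, hso, hom, hcomm⟩ :=
      exists_comm_not_omega_gen Q hQ h2 n hcard (by omega) hne g hδ c hsq
    -- (b): `S ≠ K`
    have hb : (Cfsg.Inn (Cfsg.POmega F ⇑Q)).relIndex S ≠ 1 := by
      intro h1
      rw [Subgroup.relIndex_eq_one] at h1
      have hhO := ((mem_sO_iff Q h).1 hso).1
      obtain ⟨hS', hhS⟩ : ∃ hS' : ↥(Sim ⇑Q), hS'.1 = h :=
        ⟨⟨h, iso_le_sim _ hhO⟩, rfl⟩
      have hhD : hS' ∈ DD Q n hne := by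
        rw [mem_DD]
        exact ((mem_sO_iff' Q hne n hS').1 (by rw [hhS]; exact hso)).2
      have hβS : Phi (⇑Q) hS' ∈ S := by
        rw [hS]
        apply Subgroup.mem_sup_right
        refine ⟨Subgroup.mem_map_of_mem _ hhD, ?_⟩
        show Phi (⇑Q) hS' ∈ Subgroup.centralizer {γ}
        rw [Subgroup.mem_centralizer_iff]
        intro x hx
        rw [Set.mem_singleton_iff] at hx
        rw [hx, hγg, ← map_mul, ← map_mul]
        congr 1
        apply Subtype.ext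
        rw [Subgroup.coe_mul, Subgroup.coe_mul, hhS]
        exact hcomm
      obtain ⟨c', ω, hω, hcω⟩ := (hmemN hS').1 (h1 hβS)
      apply hom
      rw [← hhS, hcω]
      apply scalar_mul_mem Q hQ h2 n hn hcard hne hneg c' ω hω
      rw [← hcω, hhS]
      exact hso
    -- (a): `S ≠ G`
    have ha : S.relIndex ((DD Q n hne).map (Phi ⇑Q)) ≠ 1 := by
      intro h1
      rw [Subgroup.relIndex_eq_one] at h1
      have hST : S ≤ (TsqG Q n hne).map (Phi ⇑Q) := by
        rw [hS]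
        apply sup_le
        · rw [inn_eq]
          apply Subgroup.map_mono
          intro ω hω
          rw [Subgroup.mem_subgroupOf] at hω
          have hωso := omegaGL_le_sO Q hQ h2 (by omega) hω
          obtain ⟨hm1, hd1⟩ := (mem_sO_iff' Q hne n ω).1 hωso
          rw [mem_TsqG]
          refine ⟨(mem_DD _ n hne ω).2 hd1, ?_⟩
          rw [hm1, Units.val_one]
          exact ⟨1, (mul_one 1).symm⟩
        · rintro β ⟨⟨t, htD, rfl⟩, hβC⟩
          obtain ⟨c', h7⟩ := hcent t hβC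
          have h8 := mult_isSquare_of_comm Q hQ h2 n hn hcard hne hneg g₀ hg₀m
            hg₀d g hδ t htD c' h7
          exact Subgroup.mem_map_of_mem _ ((mem_TsqG Q n hne t).2 ⟨htD, h8⟩)
      have hg₀G : Phi (⇑Q) g₀ ∈ (DD Q n hne).map (Phi ⇑Q) :=
        Subgroup.mem_map_of_mem _ ((mem_DD _ n hne g₀).2 hg₀d)
      obtain ⟨t, ht, htg⟩ := hST (h1 hg₀G)
      rw [SetLike.mem_coe, mem_TsqG] at ht
      have h9 : g₀ * t⁻¹ ∈ (Phi (⇑Q)).ker := by
        rw [MonoidHom.mem_ker, map_mul, map_inv, htg, mul_inv_cancel]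
      rw [hker, Subgroup.mem_subgroupOf, mem_Zs_iff] at h9
      obtain ⟨c', hc'⟩ := h9
      have h10 : g₀ = zS Q c' * t := by
        apply Subtype.ext
        rw [Subgroup.coe_mul]
        show g₀.1 = Matrix.GeneralLinearGroup.scalar ι c' * t.1
        rw [← hc', Subgroup.coe_mul, Subgroup.coe_inv, inv_mul_cancel_right]
      apply hg₀m
      rw [h10, map_mul, mult_zS, Units.val_mul, Units.val_pow_eq_pow_val]
      exact (IsSquare.sq _).mul ht.2
    obtain ⟨a, ha'⟩ : ∃ a, a = (Cfsg.Inn (Cfsg.POmega F ⇑Q)).relIndex S := ⟨_, rfl⟩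
    obtain ⟨b, hb'⟩ : ∃ b, b = S.relIndex ((DD Q n hne).map (Phi ⇑Q)) :=
      ⟨_, rfl⟩
    rw [← ha'] at hb hmul
    rw [← hb'] at ha hmul ⊢
    have hb2 : b = 2 := by
      have hble : b ≤ 4 := Nat.le_of_dvd (by norm_num) (Dvd.intro_left _ hmul)
      interval_cases b
      · omega
      · exact absurd rfl ha
      · rfl
      · omega
      · exfalso
        apply hb
        omega
    exact ⟨Or.inr hb2, fun _ => hb2⟩

end gen

section minus

variable {F : Type*} [Field F] [Fintype F] [DecidableEq F] {m : ℕ}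

local notation "IM" => ((Fin m ⊕ Fin m) ⊕ Fin 2)

theorem minus_graph_split_aux (hodd : Odd (Fintype.card F)) (hm : 3 ≤ m) (a b : F)
    (hab : ∀ z₁ z₂ : F, z₁ ^ 2 + a * z₁ * z₂ + b * z₂ ^ 2 = 0 → z₁ = 0 ∧ z₂ = 0)
    (Q₀ : (IM → F) → F) (hQ₀ : ⇑(minusQF F m a b) = Q₀)
    (A : Subgroup (MulAut (Cfsg.POmega F Q₀)))
    (hA : A = Cfsg.autSubgroupOf (fun β : Cfsg.POmega F Q₀ ≃* Cfsg.POmega F Q₀ =>
      ∃ g : GL IM F, g ∈ Cfsg.Geo.quadSimilarityGroup (F := F) Q₀ ∧
        Cfsg.PreservesSingularClassesMinus m a b (g : Matrix IM IM F) ∧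
        Cfsg.IsInducedBySemilinearPOmega Q₀ g (RingEquiv.refl F) β))
    (γ : MulAut (Cfsg.POmega F Q₀))
    (hγ1 : γ ∈ Cfsg.gammaPOmega F Q₀) (hγA : γ ∉ A)
    (hγ2 : orderOf γ = 2) :
    (Cfsg.splitClassCount A (Cfsg.Inn (Cfsg.POmega F Q₀)) γ = 1 ∨
      Cfsg.splitClassCount A (Cfsg.Inn (Cfsg.POmega F Q₀)) γ = 2) ∧
    (¬ (Even m ∧ Fintype.card F % 4 = 1) →
      Cfsg.splitClassCount A (Cfsg.Inn (Cfsg.POmega F Q₀)) γ = 2) := by
  subst hQ₀
  have h2 : (2 : F) ≠ 0 := Cfsg.Agent.Lib.H13.HypPairs.two_ne_zero_of_odd_card rfl hodd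
  have hQ := Cfsg.Agent.S0288.nondeg (F := F) a b hab m
  have hcardI : Fintype.card IM = 2 * (m + 1) := card_minus
  have hne := exists_ne_of_nondeg (minusQF F m a b) hQ (by rw [card_minus]; omega)
  have hcrit := negOne_mem_minus_iff (F := F) (m := m) rfl hodd a b hab
  rw [pow_succ_mod_four_eq_three_iff hodd] at hcrit
  have hker := ker_Phi_main (minusQF F m a b) hQ h2 (m + 1) (by omega) card_minus
  have hAeq : A = (DD (minusQF F m a b) (m + 1) hne).map (Phi ⇑(minusQF F m a b)) := by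
    rw [hA]
    unfold Cfsg.autSubgroupOf
    apply closure_image_eq_map
    intro β
    constructor
    · rintro ⟨g, hg, hpres, hind⟩
      exact ⟨⟨g, hg⟩, (mem_DD _ (m + 1) hne _).2 ((presMinus_iff h2 a b hab hne ⟨g, hg⟩).1 hpres),
        (induced_iff _ g hg β).1 hind⟩
    · rintro ⟨g, hgD, rfl⟩
      exact ⟨g.1, g.2, (presMinus_iff h2 a b hab hne g).2 ((mem_DD _ (m + 1) hne _).1 hgD),
        (induced_iff _ g.1 g.2 _).2 rfl⟩
  subst hAeq
  -- the similarity inducing `γ`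
  have hγγ : γ * γ = 1 := by
    have h := pow_orderOf_eq_one γ
    rw [hγ2, sq] at h
    exact h
  obtain ⟨g, hγg⟩ := gamma_invol_linear h2 hm a b hab γ hγ1 hγγ
  have hδ : delta (minusQF F m a b) hne (m + 1) g ≠ 1 := by
    intro h
    apply hγA
    rw [hγg]
    exact Subgroup.mem_map_of_mem _ ((mem_DD _ (m + 1) hne g).2 h)
  have hgg : g * g ∈ (Phi (⇑(minusQF F m a b))).ker := by
    rw [MonoidHom.mem_ker, map_mul, ← hγg, hγγ]
  rw [hker, Subgroup.mem_subgroupOf, mem_Zs_iff] at hgg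
  obtain ⟨c, hc⟩ := hgg
  have hsq : g.1 * g.1 = Matrix.GeneralLinearGroup.scalar IM c := by
    rw [← hc, Subgroup.coe_mul]
  obtain ⟨g₀, hg₀m, hg₀d⟩ := exists_minus_data h2 a b hab hne
  have hmain := graph_split_gen (minusQF F m a b) hQ h2 (m + 1) (by omega) card_minus hne
    g₀ hg₀m hg₀d g hδ c hsq
  rw [← hγg] at hmain
  refine ⟨hmain.1, fun hno => hmain.2 ?_⟩
  by_cases hme : Even m
  · left
    rw [hcrit]
    refine ⟨hme, ?_⟩
    have h4 : Fintype.card F % 4 = 1 ∨ Fintype.card F % 4 = 3 := by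
      obtain ⟨k, hk⟩ := hodd
      omega
    rcases h4 with h4 | h4
    · exact absurd ⟨hme, h4⟩ hno
    · exact h4
  · right
    rw [Nat.not_even_iff_odd] at hme
    exact hme.add_one

end minus

end Cfsg.Agent.Lib.H11.ConfOrth
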