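import Cfsg.Agent.Lib.H11.ConfOrth2

/-!
# Conformal orthogonal groups (part 3): the multiplier and the determinant sign
-/

set_option autoImplicit false

namespace Cfsg.Agent.Lib.H11.ConfOrth

open Matrix
open scoped MatrixGroups

variable {F : Type*} [Field F] {ι : Type} [Fintype ι] [DecidableEq ι]

section mult

variable (Q : (ι → F) → F)

/-- the multiplier of a similarity -/
noncomputable def multFun (g : ↥(Sim Q)) : Fˣ := Classical.choose g.2

theorem multFun_spec (g : ↥(Sim Q)) (v : ι → F) :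
    Q (g.1.1 *ᵥ v) = (multFun Q g : F) * Q v := Classical.choose_spec g.2 v

theorem multFun_unique (hne : ∃ v, Q v ≠ 0) (g : ↥(Sim Q)) (c : Fˣ)
    (h : ∀ v, Q (g.1.1 *ᵥ v) = (c : F) * Q v) : multFun Q g = c := by
  obtain ⟨v, hv⟩ := hne
  have h1 := multFun_spec Q g v
  rw [h v] at h1
  exact (Units.ext (mul_right_cancel₀ hv h1)).symm

/-- the multiplier homomorphism -/
noncomputable def mult (hne : ∃ v, Q v ≠ 0) : ↥(Sim Q) →* Fˣ where
  toFun := multFun Q
  map_one' := by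
    apply multFun_unique Q hne
    intro v
    rw [Units.val_one, one_mul]
    show Q ((1 : GL ι F).1 *ᵥ v) = Q v
    rw [Units.val_one, Matrix.one_mulVec]
  map_mul' g h := by
    apply multFun_unique Q hne
    intro v
    rw [Subgroup.coe_mul, Units.val_mul, ← Matrix.mulVec_mulVec, multFun_spec Q g,
      multFun_spec Q h, Units.val_mul, mul_assoc]

theorem mult_spec (hne : ∃ v, Q v ≠ 0) (g : ↥(Sim Q)) (v : ι → F) :
    Q (g.1.1 *ᵥ v) = (mult Q hne g : F) * Q v := multFun_spec Q g v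

theorem mult_eq (hne : ∃ v, Q v ≠ 0) (g : ↥(Sim Q)) (c : Fˣ)
    (h : ∀ v, Q (g.1.1 *ᵥ v) = (c : F) * Q v) : mult Q hne g = c := multFun_unique Q hne g c h

theorem mult_eq_one_iff (hne : ∃ v, Q v ≠ 0) (g : ↥(Sim Q)) :
    mult Q hne g = 1 ↔ g.1 ∈ Cfsg.isometryGroup F Q := by
  rw [mem_iso_iff]
  constructor
  · intro h v
    rw [mult_spec Q hne, h, Units.val_one, one_mul]
  · intro h
    apply mult_eq
    intro v
    rw [h, Units.val_one, one_mul]

theorem mult_scalar (hne : ∃ v, Q v ≠ 0)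
    (hhom : ∀ (c : F) (x : ι → F), Q (c • x) = c ^ 2 * Q x) (g : ↥(Sim Q)) (c : Fˣ)
    (hg : g.1 = Matrix.GeneralLinearGroup.scalar ι c) : mult Q hne g = c ^ 2 := by
  apply mult_eq
  intro v
  rw [hg, scalar_mulVec, hhom, Units.val_pow_eq_pow_val]

end mult

section det

variable (Q : QuadraticForm F (ι → F))

omit [Fintype ι] [DecidableEq ι] in
theorem hhom (c : F) (x : ι → F) : Q (c • x) = c ^ 2 * Q x := by
  rw [QuadraticMap.map_smul, smul_eq_mul, sq]

theorem polar_sim (hne : ∃ v, Q v ≠ 0) (g : ↥(Sim ⇑Q)) (x y : ι → F) :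
    QuadraticMap.polar (⇑Q) (g.1.1 *ᵥ x) (g.1.1 *ᵥ y) =
      (mult (⇑Q) hne g : F) * QuadraticMap.polar (⇑Q) x y := by
  unfold QuadraticMap.polar
  rw [← Matrix.mulVec_add, mult_spec (⇑Q) hne g, mult_spec (⇑Q) hne g, mult_spec (⇑Q) hne g]
  ring

/-- `det g ^ 2 = τ(g) ^ n` -/
theorem det_sq (hQ : (QuadraticMap.polarBilin Q).Nondegenerate) (hne : ∃ v, Q v ≠ 0)
    (g : ↥(Sim ⇑Q)) :
    (g.1.1.det) ^ 2 = (mult (⇑Q) hne g : F) ^ Fintype.card ι := by
  set B : LinearMap.BilinForm F (ι → F) := QuadraticMap.polarBilin Q with hB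
  set τ : F := (mult (⇑Q) hne g : F) with hτ
  have h1 : B.comp (Matrix.toLin' g.1.1) (Matrix.toLin' g.1.1) = τ • B := by
    apply LinearMap.ext₂
    intro x y
    rw [LinearMap.BilinForm.comp_apply, Matrix.toLin'_apply, Matrix.toLin'_apply]
    exact polar_sim Q hne g x y
  have h2 := congrArg LinearMap.BilinForm.toMatrix' h1
  rw [LinearMap.BilinForm.toMatrix'_comp, LinearMap.toMatrix'_toLin', map_smul] at h2
  have h3 := congrArg Matrix.det h2
  rw [Matrix.det_mul, Matrix.det_mul, Matrix.det_transpose, Matrix.det_smul] at h3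
  have hM : (LinearMap.BilinForm.toMatrix' B).det ≠ 0 := by
    rw [← Matrix.nondegenerate_iff_det_ne_zero, LinearMap.BilinForm.nondegenerate_toMatrix'_iff]
    exact hQ
  apply mul_right_cancel₀ hM
  rw [← h3]
  ring

end det

end Cfsg.Agent.Lib.H11.ConfOrth
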