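import Cfsg.Agent.Lib.H11.ConfOrth3

/-!
# Conformal orthogonal groups (part 4): abstract group theory

Klein four-groups, a recognition lemma for the dihedral group of order eight, and lemmas producing
homomorphisms from images.
-/

set_option autoImplicit false

namespace Cfsg.Agent.Lib.H11.ConfOrth

section klein

theorem kleinFour_units : IsKleinFour (ℤˣ × ℤˣ) where
  card_four := by
    rw [Nat.card_eq_fintype_card]
    rfl
  exponent_two := by
    apply le_antisymm
    · apply Nat.le_of_dvd (by norm_num)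
      apply Monoid.exponent_dvd_of_forall_pow_eq_one
      decide
    · by_contra h
      have h3 := Monoid.pow_exponent_eq_one ((-1, 1) : ℤˣ × ℤˣ)
      have h4 : Monoid.exponent (ℤˣ × ℤˣ) ≠ 0 := by
        intro h0
        have := Monoid.ExponentExists.of_finite (G := ℤˣ × ℤˣ)
        rw [← Monoid.exponent_ne_zero] at this
        exact this h0
      have h5 : Monoid.exponent (ℤˣ × ℤˣ) = 1 := by omega
      rw [h5] at h3
      revert h3
      decide

/-- the Klein four-group in the two standard forms -/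
theorem exists_klein_iso : Nonempty (ℤˣ × ℤˣ ≃* Multiplicative (ZMod 2 × ZMod 2)) := by
  have := kleinFour_units
  exact IsKleinFour.nonempty_mulEquiv

theorem exists_z2_iso : Nonempty (ℤˣ ≃* Multiplicative (ZMod 2)) := by
  have h1 : Nat.card ℤˣ = 2 := by
    rw [Nat.card_eq_fintype_card]; rfl
  have h2 : Nat.card (Multiplicative (ZMod 2)) = 2 := by
    rw [Nat.card_eq_fintype_card]; rfl
  have : IsCyclic ℤˣ := isCyclic_of_prime_card (p := 2) h1
  have : IsCyclic (Multiplicative (ZMod 2)) := isCyclic_of_prime_card (p := 2) h2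
  exact ⟨mulEquivOfCyclicCardEq (h1.trans h2.symm)⟩

end klein

section d4

variable {Γ : Type*} [Group Γ]

theorem pow_val_add (a : Γ) (ha4 : a ^ 4 = 1) (i j : ZMod 4) :
    a ^ (i + j).val = a ^ i.val * a ^ j.val := by
  rw [ZMod.val_add, ← pow_add, ← pow_eq_pow_mod _ ha4]

theorem pow_val_neg (a : Γ) (ha4 : a ^ 4 = 1) (i : ZMod 4) :
    a ^ (-i).val = (a ^ i.val)⁻¹ := by
  rw [eq_inv_iff_mul_eq_one, ← pow_val_add a ha4, neg_add_cancel, ZMod.val_zero, pow_zero]

theorem pow_mul_b (a b : Γ) (hab : b * a * b⁻¹ = a⁻¹) (k : ℕ) :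
    a ^ k * b = b * (a ^ k)⁻¹ := by
  have h1 : b * a ^ k * b⁻¹ = (a ^ k)⁻¹ := by
    rw [← conj_pow, hab, inv_pow]
  have h2 : b * (a ^ k)⁻¹ * b⁻¹ = a ^ k := by
    calc b * (a ^ k)⁻¹ * b⁻¹ = (b * a ^ k * b⁻¹)⁻¹ := by group
      _ = a ^ k := by rw [h1, inv_inv]
  calc a ^ k * b = (b * (a ^ k)⁻¹ * b⁻¹) * b := by rw [h2]
    _ = b * (a ^ k)⁻¹ := by group

/-- recognition of the dihedral group of order eight -/
theorem d4_of (hcard : Nat.card Γ = 8) (a b : Γ) (ha4 : a ^ 4 = 1) (ha2 : a ^ 2 ≠ 1)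
    (hb : b * b = 1) (hab : b * a * b⁻¹ = a⁻¹) : Nonempty (DihedralGroup 4 ≃* Γ) := by
  have hbinv : b⁻¹ = b := inv_eq_of_mul_eq_one_right hb
  let f : DihedralGroup 4 → Γ := fun x =>
    match x with
    | DihedralGroup.r i => a ^ i.val
    | DihedralGroup.sr i => b * a ^ i.val
  have hfr : ∀ i, f (DihedralGroup.r i) = a ^ i.val := fun _ => rfl
  have hfs : ∀ i, f (DihedralGroup.sr i) = b * a ^ i.val := fun _ => rfl
  have hmul : ∀ x y, f (x * y) = f x * f y := by
    intro x y
    rcases x with i | i <;> rcases y with j | j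
    · rw [DihedralGroup.r_mul_r, hfr, hfr, hfr, pow_val_add a ha4]
    · rw [DihedralGroup.r_mul_sr, hfr, hfs, hfs, sub_eq_add_neg, pow_val_add a ha4,
        pow_val_neg a ha4]
      have h1 : a ^ i.val * (b * a ^ j.val) = b * ((a ^ i.val)⁻¹ * a ^ j.val) := by
        rw [← mul_assoc, pow_mul_b a b hab, mul_assoc]
      rw [h1]
      congr 1
      have hc : Commute (a ^ j.val) ((a ^ i.val)⁻¹) :=
        ((Commute.refl a).pow_pow _ _).inv_right
      exact hc.eq
    · rw [DihedralGroup.sr_mul_r, hfr, hfs, hfs, pow_val_add a ha4, mul_assoc]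
    · rw [DihedralGroup.sr_mul_sr, hfr, hfs, hfs, sub_eq_add_neg, pow_val_add a ha4,
        pow_val_neg a ha4]
      have h1 : b * a ^ i.val * (b * a ^ j.val) = b * (a ^ i.val * b) * a ^ j.val := by group
      rw [h1, pow_mul_b a b hab, ← mul_assoc, hb, one_mul]
      have hc : Commute (a ^ j.val) ((a ^ i.val)⁻¹) :=
        ((Commute.refl a).pow_pow _ _).inv_right
      exact hc.eq
  have hord : ∀ k : ℕ, k < 4 → a ^ k = 1 → k = 0 := by
    intro k hk h
    interval_cases k
    · rfl
    · exfalso; apply ha2; rw [pow_one] at h; rw [h, one_pow]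
    · exact absurd h ha2
    · exfalso
      apply ha2
      have h1 : a = 1 := by
        have : a ^ 4 = a ^ 3 * a := pow_succ a 3
        rw [ha4, h, one_mul] at this
        exact this.symm
      rw [h1, one_pow]
  let F : DihedralGroup 4 →* Γ := MonoidHom.mk' f hmul
  have hinj : Function.Injective F := by
    rw [injective_iff_map_eq_one]
    intro x hx
    rcases x with i | i
    · have h1 : a ^ i.val = 1 := hx
      have h2 := hord _ (ZMod.val_lt i) h1
      have h3 : i = 0 := (ZMod.val_eq_zero i).mp h2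
      rw [h3]
      rfl
    · exfalso
      have h1 : b * a ^ i.val = 1 := hx
      have h2 : b = (a ^ i.val)⁻¹ := eq_inv_of_mul_eq_one_left h1
      apply ha2
      have h3 : b * a * b⁻¹ = a := by
        rw [h2, inv_inv]
        have hc : Commute (a ^ i.val) a := (Commute.refl a).pow_left _
        rw [mul_assoc, ← hc.eq, inv_mul_cancel_left]
      rw [hab] at h3
      have : a * a = 1 := by
        nth_rewrite 1 [← h3]
        exact inv_mul_cancel a
      rw [sq, this]
  have hbij : Function.Bijective F := by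
    have : Finite Γ := Nat.finite_of_card_ne_zero (by rw [hcard]; norm_num)
    rw [Nat.bijective_iff_injective_and_card]
    exact ⟨hinj, by rw [DihedralGroup.nat_card, hcard]⟩
  exact ⟨MulEquiv.ofBijective F hbij⟩

/-- an extension of a Klein four-group by a group of order two, containing an involution not
commuting with some element, is dihedral -/
theorem d4_of_klein_ext {K : Type*} [Group K] (hK4 : Nat.card K = 4) (hK : ∀ k : K, k * k = 1)
    (π : Γ →* K) (hπ : Function.Surjective π) (Z : Γ) (hker : ∀ u, π u = 1 → u = 1 ∨ u = Z)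
    (X Y : Γ) (hY : Y * Y = 1) (hZ : X * Y * X⁻¹ * Y⁻¹ = Z) (hZ1 : Z ≠ 1) :
    Nonempty (DihedralGroup 4 ≃* Γ) := by
  have hKinv : ∀ k : K, k⁻¹ = k := fun k => inv_eq_of_mul_eq_one_right (hK k)
  have hKcomm : ∀ k l : K, k * l = l * k := by
    intro k l
    have h1 := hK (k * l)
    have h2 : k * l = (k * l)⁻¹ := (hKinv _).symm
    rw [h2, mul_inv_rev, hKinv, hKinv]
  have hπZ : π Z = 1 := by
    rw [← hZ, map_mul, map_mul, map_mul, map_inv, map_inv, hKinv, hKinv, hKcomm (π X) (π Y),
      mul_assoc, mul_assoc, ← mul_assoc (π X), hK, one_mul, hK]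
  have hZZ : Z * Z = 1 := by
    have h1 : π (Z * Z) = 1 := by rw [map_mul, hπZ, one_mul]
    rcases hker _ h1 with h | h
    · exact h
    · exfalso
      apply hZ1
      have := congrArg (fun t => t * Z⁻¹) h
      simpa using this
  have hker' : π.ker = Subgroup.zpowers Z := by
    ext u
    rw [MonoidHom.mem_ker, Subgroup.mem_zpowers_iff]
    constructor
    · intro h
      rcases hker u h with h | h
      · exact ⟨0, by rw [zpow_zero, h]⟩
      · exact ⟨1, by rw [zpow_one, h]⟩
    · rintro ⟨k, rfl⟩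
      rw [map_zpow, hπZ, one_zpow]
  have hcard : Nat.card Γ = 8 := by
    have h1 := Subgroup.card_mul_index π.ker
    have h2 : π.ker.index = 4 := by
      rw [Subgroup.index_ker, ← hK4]
      exact Nat.card_congr (Equiv.ofBijective (fun x : π.range => (x : K))
        ⟨Subtype.val_injective, fun k => by
          obtain ⟨g, rfl⟩ := hπ k
          exact ⟨⟨π g, g, rfl⟩, rfl⟩⟩)
    have h3 : Nat.card π.ker = 2 := by
      rw [hker', Nat.card_zpowers]
      exact orderOf_eq_prime (by rw [sq]; exact hZZ) hZ1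
    rw [← h1, h2, h3]
  have hYinv : Y⁻¹ = Y := inv_eq_of_mul_eq_one_right hY
  have hXX : X * X = 1 ∨ X * X = Z := by
    apply hker
    rw [map_mul, hK]
  rcases hXX with hXX | hXX
  · -- `a = X Y`
    have hXinv : X⁻¹ = X := inv_eq_of_mul_eq_one_right hXX
    have hsq : (X * Y) ^ 2 = Z := by
      rw [sq, ← hZ, hXinv, hYinv]
      group
    apply d4_of hcard (X * Y) Y
    · have : (X * Y) ^ 4 = ((X * Y) ^ 2) ^ 2 := by rw [← pow_mul]
      rw [this, hsq, sq, hZZ]
    · rw [hsq]; exact hZ1
    · exact hY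
    · rw [mul_inv_rev, hXinv, hYinv, mul_assoc, mul_assoc, hY, mul_one]
  · -- `a = X`
    apply d4_of hcard X Y
    · have : X ^ 4 = (X * X) * (X * X) := by
        rw [show (4 : ℕ) = 2 + 2 from rfl, pow_add, sq]
      rw [this, hXX, hZZ]
    · rw [sq, hXX]; exact hZ1
    · exact hY
    · have h1 : Y * X * Y⁻¹ * X⁻¹ = Z⁻¹ := by
        rw [← hZ]; group
      have hZinv : Z⁻¹ = Z := inv_eq_of_mul_eq_one_right hZZ
      rw [hZinv, ← hXX] at h1
      have h2 : Y * X * Y⁻¹ = X * X * X := by
        rw [← h1]; group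
      rw [h2]
      have : X * X * X * X = 1 := by rw [mul_assoc (X * X), hXX, hZZ]
      exact eq_inv_of_mul_eq_one_left this

end d4

section homs

variable {G M B : Type*} [Group G] [Group M] [Group B]

/-- a surjective homomorphism whose kernel is the preimage of `C` descends to the range -/
theorem exists_hom_comap (Φ : G →* M) (ψ : G →* B) (hψ : Function.Surjective ψ)
    (A C : Subgroup M) (hA : A = Φ.range) (hCA : C ≤ A) (hker : ψ.ker = C.comap Φ) :
    ∃ φ : ↥A →* B, Function.Surjective φ ∧ φ.ker = C.subgroupOf A := by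
  apply exists_hom_range Φ ψ _ hψ A C hA
  · rw [hker, Subgroup.map_comap_eq, ← hA]
    exact (inf_eq_right.mpr hCA).symm
  · rw [hker]
    exact MonoidHom.ker_le_comap Φ C

/-- variant for a subgroup `S` of the source -/
theorem exists_hom_comap_sub (Φ : G →* M) (S : Subgroup G) (ψ : ↥S →* B)
    (hψ : Function.Surjective ψ) (A C : Subgroup M) (hA : A = S.map Φ) (hCA : C ≤ A)
    (hker : ∀ s : ↥S, ψ s = 1 ↔ Φ s.1 ∈ C) :
    ∃ φ : ↥A →* B, Function.Surjective φ ∧ φ.ker = C.subgroupOf A := by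
  apply exists_hom_map Φ S ψ _ hψ A C hA
  · ext β
    constructor
    · intro hβ
      obtain ⟨s, hs, rfl⟩ := (hA ▸ hCA hβ : β ∈ S.map Φ)
      refine ⟨s, ⟨⟨s, hs⟩, ?_, rfl⟩, rfl⟩
      rw [SetLike.mem_coe, MonoidHom.mem_ker, hker]
      exact hβ
    · rintro ⟨_, ⟨s, hs, rfl⟩, rfl⟩
      exact (hker s).1 hs
  · intro s hs
    rw [hker, hs]
    exact one_mem C

/-- the dihedral quotient -/
theorem exists_hom_d4 {K : Type*} [Group K] (Φ : G →* M) (ψ : G →* K) (hK4 : Nat.card K = 4)
    (hK : ∀ k : K, k * k = 1) (hψ : Function.Surjective ψ)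
    (A C : Subgroup M) [hCn : C.Normal] (hA : A = Φ.range) (hCA : C ≤ A)
    (hN : C.comap Φ ≤ ψ.ker) (x y : G) (hy : Φ (y * y) ∈ C)
    (hz : Φ (x * y * x⁻¹ * y⁻¹) ∉ C)
    (hker : ∀ g, ψ g = 1 → Φ g ∈ C ∨ Φ (g * (x * y * x⁻¹ * y⁻¹)⁻¹) ∈ C) :
    ∃ φ : ↥A →* DihedralGroup 4, Function.Surjective φ ∧ φ.ker = C.subgroupOf A := by
  set N : Subgroup G := C.comap Φ with hNdef
  have : N.Normal := Subgroup.Normal.comap hCn Φ
  set π : G ⧸ N →* K := QuotientGroup.lift N ψ hN with hπ
  have hπsurj : Function.Surjective π := by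
    intro k
    obtain ⟨g, rfl⟩ := hψ k
    exact ⟨QuotientGroup.mk g, rfl⟩
  obtain ⟨e⟩ := d4_of_klein_ext hK4 hK π hπsurj
    (QuotientGroup.mk (x * y * x⁻¹ * y⁻¹) : G ⧸ N) (by
      intro u hu
      induction u using QuotientGroup.induction_on with
      | H g =>
        have hg : ψ g = 1 := hu
        rcases hker g hg with h | h
        · left
          have h' : g ∈ N := h
          exact (QuotientGroup.eq_one_iff g).2 h'
        · right
          rw [← mul_inv_eq_one, ← QuotientGroup.mk_inv, ← QuotientGroup.mk_mul]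
          have h' : g * (x * y * x⁻¹ * y⁻¹)⁻¹ ∈ N := h
          exact (QuotientGroup.eq_one_iff _).2 h')
    (QuotientGroup.mk x) (QuotientGroup.mk y)
    (by
      rw [← QuotientGroup.mk_mul]
      have h' : y * y ∈ N := hy
      exact (QuotientGroup.eq_one_iff _).2 h')
    (by simp only [QuotientGroup.mk_mul, QuotientGroup.mk_inv])
    (by
      intro h
      have h' : x * y * x⁻¹ * y⁻¹ ∈ N := (QuotientGroup.eq_one_iff _).1 h
      exact hz h')
  apply exists_hom_comap Φ (e.symm.toMonoidHom.comp (QuotientGroup.mk' N)) _ A C hA hCA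
  · ext g
    rw [MonoidHom.mem_ker, MonoidHom.comp_apply, MulEquiv.coe_toMonoidHom,
      MulEquiv.map_eq_one_iff, QuotientGroup.mk'_apply, QuotientGroup.eq_one_iff]
  · intro d
    obtain ⟨u, rfl⟩ := e.symm.surjective d
    induction u using QuotientGroup.induction_on with
    | H g => exact ⟨g, rfl⟩

end homs

end Cfsg.Agent.Lib.H11.ConfOrth
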