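import Mathlib

/-!
Subgroups of index 2 in a group whose abelianisation is a Klein four group.
-/

set_option autoImplicit false

namespace Cfsg.Agent.Lib.H11.IndexTwo

theorem commutator_le_of_index_two {G : Type*} [Group G] (H : Subgroup G) (h : H.index = 2) :
    commutator G ≤ H := by
  rw [commutator_eq_closure, Subgroup.closure_le]
  rintro x ⟨g, k, rfl⟩
  rw [SetLike.mem_coe, commutatorElement_def, mul_assoc,
    Subgroup.mul_mem_iff_of_index_two h, Subgroup.mul_mem_iff_of_index_two h,
    Subgroup.mul_mem_iff_of_index_two h, inv_mem_iff, inv_mem_iff]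

theorem of_surj (G : Type*) [Group G] :
    Function.Surjective (Abelianization.of : G →* Abelianization G) := by
  intro x
  obtain ⟨g, hg⟩ : ∃ g, Abelianization.of g = x := QuotientGroup.mk_surjective x
  exact ⟨g, hg⟩

/-- subgroups of index 2 correspond to subgroups of index 2 of the abelianisation -/
noncomputable def equivAb (G : Type*) [Group G] :
    {H : Subgroup G // H.index = 2} ≃ {K : Subgroup (Abelianization G) // K.index = 2} where
  toFun H := ⟨H.1.map Abelianization.of, by
    rw [Subgroup.index_map_eq H.1 (of_surj G)
      (by rw [Abelianization.ker_of]; exact commutator_le_of_index_two H.1 H.2)]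
    exact H.2⟩
  invFun K := ⟨K.1.comap Abelianization.of, by
    rw [Subgroup.index_comap_of_surjective K.1 (of_surj G)]
    exact K.2⟩
  left_inv H := by
    apply Subtype.ext
    exact Subgroup.comap_map_eq_self
      (by rw [Abelianization.ker_of]; exact commutator_le_of_index_two H.1 H.2)
  right_inv K := by
    apply Subtype.ext
    exact Subgroup.map_comap_eq_self_of_surjective (of_surj G) K.1

theorem card_zpowers_eq_two {A : Type*} [Group A] (hexp : ∀ x : A, x * x = 1) (x : A)
    (hx : x ≠ 1) : Nat.card (Subgroup.zpowers x) = 2 := by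
  rw [Nat.card_zpowers]
  exact orderOf_eq_prime (by rw [sq]; exact hexp x) hx

theorem card_index_two_klein {A : Type*} [Group A] (h4 : Nat.card A = 4)
    (hexp : ∀ x : A, x * x = 1) : Nat.card {K : Subgroup A // K.index = 2} = 3 := by
  have hfin : Finite A := Nat.finite_of_card_ne_zero (by rw [h4]; norm_num)
  have e2 : {K : Subgroup A // K.index = 2} ≃ {K : Subgroup A // Nat.card K = 2} :=
    Equiv.subtypeEquivRight (fun K => by
      have := Subgroup.card_mul_index K
      rw [h4] at this
      constructor
      · intro h
        rw [h] at this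
        omega
      · intro h
        rw [h] at this
        omega)
  have e3 : {x : A // x ≠ 1} ≃ {K : Subgroup A // Nat.card K = 2} := by
    refine Equiv.ofBijective (fun x => ⟨Subgroup.zpowers x.1, card_zpowers_eq_two hexp x.1 x.2⟩)
      ⟨?_, ?_⟩
    · rintro ⟨x, hx⟩ ⟨y, hy⟩ h
      have h' : Subgroup.zpowers x = Subgroup.zpowers y := congrArg Subtype.val h
      apply Subtype.ext
      show x = y
      have hc := card_zpowers_eq_two hexp y hy
      rw [Nat.card_eq_two_iff' (1 : ↥(Subgroup.zpowers y))] at hc
      obtain ⟨z, -, hz⟩ := hc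
      have hxm : x ∈ Subgroup.zpowers y := by
        rw [← h']
        exact Subgroup.mem_zpowers x
      have h1 := hz ⟨x, hxm⟩ (by
        intro h
        exact hx (congrArg Subtype.val h))
      have h2 := hz ⟨y, Subgroup.mem_zpowers y⟩ (by
        intro h
        exact hy (congrArg Subtype.val h))
      have := h1.trans h2.symm
      exact congrArg Subtype.val this
    · rintro ⟨K, hK⟩
      have hc := hK
      rw [Nat.card_eq_two_iff' (1 : ↥K)] at hc
      obtain ⟨z, hz1, -⟩ := hc
      have hz1' : (z : A) ≠ 1 := by
        intro h
        apply hz1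
        exact Subtype.ext h
      refine ⟨⟨z.1, hz1'⟩, ?_⟩
      apply Subtype.ext
      show Subgroup.zpowers z.1 = K
      have hfinK : Finite K := inferInstance
      apply Subgroup.eq_of_le_of_card_ge
      · rw [Subgroup.zpowers_le]
        exact z.2
      · rw [hK, card_zpowers_eq_two hexp z.1 hz1']
  rw [Nat.card_congr e2, ← Nat.card_congr e3]
  classical
  have : Fintype A := Fintype.ofFinite A
  rw [Nat.card_eq_fintype_card, Fintype.card_subtype_compl, Fintype.card_subtype_eq,
    ← Nat.card_eq_fintype_card, h4]

theorem card_index_two_eq_three {G : Type*} [Group G] (h4 : Nat.card (Abelianization G) = 4)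
    (hexp : ∀ x : Abelianization G, x * x = 1) :
    Nat.card {H : Subgroup G // H.index = 2} = 3 := by
  rw [Nat.card_congr (equivAb G)]
  exact card_index_two_klein h4 hexp

end Cfsg.Agent.Lib.H11.IndexTwo
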