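import Mathlib

/-!
Counting solutions of a diagonal quadratic equation `∑ a i * (t i * t i) = c` over a finite
field of odd order, modulo 4.
-/

set_option autoImplicit false

namespace Cfsg.Agent.Lib.H11.SqCount

open Finset
open scoped Classical

variable {F : Type*} [Field F] [Fintype F]

/-- number of solutions of `∑ a i * (t i * t i) = c` -/
noncomputable def N {ι : Type*} [Fintype ι] (a : ι → F) (c : F) : ℕ :=
  Nat.card {t : ι → F // ∑ i, a i * (t i * t i) = c}

/-- number of indices `i` such that `c / a i` is a square -/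
noncomputable def R {ι : Type*} [Fintype ι] (a : ι → F) (c : F) : ℕ :=
  Nat.card {i : ι // ∃ s : F, a i * (s * s) = c}

/-- the set of nonzero squares -/
noncomputable def SQ (F : Type*) [Field F] [Fintype F] : Finset F := by
  classical
  exact (univ.filter (fun s : F => s ≠ 0)).image (fun s => s * s)

theorem sum_sq (h2 : (2 : F) ≠ 0) (h : F → ℕ) :
    ∑ s : F, h (s * s) = h 0 + 2 * ∑ u ∈ SQ F, h u := by
  classical
  have h1 : ∑ s : F, h (s * s) = h (0 * 0) + ∑ s ∈ univ.filter (fun s : F => s ≠ 0), h (s * s) := by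
    rw [← Finset.sum_filter_add_sum_filter_not univ (fun s : F => s = 0)]
    congr 1
    rw [Finset.filter_eq' univ (0 : F)]
    simp
  rw [h1, mul_zero, Finset.sum_comp h (fun s : F => s * s), Finset.mul_sum]
  congr 1
  unfold SQ
  apply Finset.sum_congr
  · congr
  intro u hu
  rw [Finset.mem_image] at hu
  obtain ⟨s0, hs0, rfl⟩ := hu
  rw [Finset.mem_filter] at hs0
  have hne : s0 ≠ -s0 := by
    intro hh
    have : (2 : F) * s0 = 0 := by linear_combination hh
    rcases mul_eq_zero.1 this with h | h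
    · exact h2 h
    · exact hs0.2 h
  have : (univ.filter (fun s : F => s ≠ 0)).filter (fun s => s * s = s0 * s0) = {s0, -s0} := by
    ext s
    simp only [Finset.mem_filter, Finset.mem_univ, true_and, Finset.mem_insert,
      Finset.mem_singleton]
    constructor
    · rintro ⟨-, hs⟩
      exact mul_self_eq_mul_self_iff.1 hs
    · rintro (rfl | rfl)
      · exact ⟨hs0.2, rfl⟩
      · exact ⟨neg_ne_zero.2 hs0.2, by ring⟩
  rw [this, Finset.card_pair hne, smul_eq_mul]

/-- slicing off the first coordinate -/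
noncomputable def sliceEquiv {k : ℕ} (a : Fin (k + 1) → F) (c : F) :
    {t : Fin (k + 1) → F // ∑ i, a i * (t i * t i) = c} ≃
      Σ s : F, {t : Fin k → F // ∑ i, a i.succ * (t i * t i) = c - a 0 * (s * s)} where
  toFun t := ⟨t.1 0, ⟨Fin.tail t.1, by
    have := t.2
    rw [Fin.sum_univ_succ] at this
    simp only [Fin.tail]
    linear_combination this⟩⟩
  invFun p := ⟨Fin.cons p.1 p.2.1, by
    have := p.2.2
    rw [Fin.sum_univ_succ]
    simp only [Fin.cons_zero, Fin.cons_succ]
    linear_combination this⟩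
  left_inv t := by
    apply Subtype.ext
    simp
  right_inv p := by
    obtain ⟨s, t, ht⟩ := p
    apply Sigma.subtype_ext
    · simp
    · simp

theorem N_succ (h2 : (2 : F) ≠ 0) {k : ℕ} (a : Fin (k + 1) → F) (c : F) :
    N a c = N (fun i : Fin k => a i.succ) c + 2 * ∑ u ∈ SQ F, N (fun i : Fin k => a i.succ) (c - a 0 * u) := by
  unfold N
  rw [Nat.card_congr (sliceEquiv a c), Nat.card_sigma]
  have := sum_sq h2 (fun u => Nat.card {t : Fin k → F // ∑ i, a i.succ * (t i * t i) = c - a 0 * u})
  simp only [mul_zero, sub_zero] at this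
  exact this

theorem N_zero (a : Fin 0 → F) (c : F) : N a c = if c = 0 then 1 else 0 := by
  unfold N
  split_ifs with h
  · subst h
    have : Unique {t : Fin 0 → F // ∑ i, a i * (t i * t i) = 0} :=
      ⟨⟨⟨fun i => i.elim0, by simp⟩⟩, fun t => Subtype.ext (funext fun i => i.elim0)⟩
    exact Nat.card_unique
  · have : IsEmpty {t : Fin 0 → F // ∑ i, a i * (t i * t i) = c} := by
      constructor
      rintro ⟨t, ht⟩
      simp at ht
      exact h ht.symm
    exact Nat.card_of_isEmpty

theorem N_parity (h2 : (2 : F) ≠ 0) : ∀ (k : ℕ) (a : Fin k → F) (c : F),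
    N a c % 2 = if c = 0 then 1 else 0 := by
  intro k
  induction k with
  | zero =>
    intro a c
    rw [N_zero]
    split_ifs <;> rfl
  | succ k ih =>
    intro a c
    rw [N_succ h2, Nat.add_mul_mod_self_left, ih]

theorem card_sq_filter (a0 c : F) (hc : c ≠ 0) :
    ((SQ F).filter (fun u => c - a0 * u = 0)).card = if ∃ s : F, a0 * (s * s) = c then 1 else 0 := by
  classical
  split_ifs with h
  · obtain ⟨s, hs⟩ := h
    have hs0 : s ≠ 0 := by
      rintro rfl
      apply hc
      rw [← hs]
      ring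
    have ha0 : a0 ≠ 0 := by
      rintro rfl
      apply hc
      rw [← hs]
      ring
    rw [Finset.card_eq_one]
    refine ⟨s * s, ?_⟩
    ext u
    simp only [Finset.mem_filter, Finset.mem_singleton]
    constructor
    · rintro ⟨-, hu⟩
      have : a0 * u = a0 * (s * s) := by rw [hs]; linear_combination -hu
      exact mul_left_cancel₀ ha0 this
    · rintro rfl
      refine ⟨?_, by rw [hs, sub_self]⟩
      unfold SQ
      rw [Finset.mem_image]
      exact ⟨s, by simp [hs0], rfl⟩
  · rw [Finset.card_eq_zero, Finset.filter_eq_empty_iff]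
    intro u hu hcu
    apply h
    unfold SQ at hu
    rw [Finset.mem_image] at hu
    obtain ⟨s, -, rfl⟩ := hu
    exact ⟨s, by linear_combination -hcu⟩

theorem R_succ {k : ℕ} (a : Fin (k + 1) → F) (c : F) :
    R a c = (if ∃ s : F, a 0 * (s * s) = c then 1 else 0) + R (fun i : Fin k => a i.succ) c := by
  classical
  unfold R
  rw [Nat.card_eq_fintype_card, Nat.card_eq_fintype_card, Fintype.card_subtype, Fintype.card_subtype,
    Finset.card_filter, Finset.card_filter, Fin.sum_univ_succ]

theorem N_mod_four (h2 : (2 : F) ≠ 0) : ∀ (k : ℕ) (a : Fin k → F) (c : F), c ≠ 0 →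
    N a c % 4 = (2 * R a c) % 4 := by
  classical
  intro k
  induction k with
  | zero =>
    intro a c hc
    rw [N_zero, if_neg hc]
    have : R a c = 0 := by
      unfold R
      have : IsEmpty {i : Fin 0 // ∃ s : F, a i * (s * s) = c} := ⟨fun i => i.1.elim0⟩
      exact Nat.card_of_isEmpty
    rw [this]
  | succ k ih =>
    intro a c hc
    rw [N_succ h2, R_succ]
    have h1 := ih (fun i : Fin k => a i.succ) c hc
    have h3 : (∑ u ∈ SQ F, N (fun i : Fin k => a i.succ) (c - a 0 * u)) % 2 =
        (if ∃ s : F, a 0 * (s * s) = c then 1 else 0) % 2 := by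
      rw [Finset.sum_nat_mod]
      simp_rw [N_parity h2]
      rw [Finset.sum_boole, card_sq_filter (a 0) c hc]
      simp
    omega

/-- general index type -/
theorem N_congr {ι κ : Type*} [Fintype ι] [Fintype κ] (e : ι ≃ κ) (a : κ → F) (c : F) :
    N (fun i => a (e i)) c = N a c := by
  unfold N
  apply Nat.card_congr
  refine (Equiv.piCongrLeft' (fun _ => F) e).subtypeEquiv ?_
  intro t
  simp only [Equiv.piCongrLeft'_apply]
  rw [← Equiv.sum_comp e]
  simp

theorem R_congr {ι κ : Type*} [Fintype ι] [Fintype κ] (e : ι ≃ κ) (a : κ → F) (c : F) :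
    R (fun i => a (e i)) c = R a c := by
  unfold R
  apply Nat.card_congr
  exact e.subtypeEquiv (fun i => Iff.rfl)

theorem N_mod_four' (h2 : (2 : F) ≠ 0) {ι : Type*} [Fintype ι] (a : ι → F) (c : F) (hc : c ≠ 0) :
    N a c % 4 = (2 * R a c) % 4 := by
  have e := (Fintype.equivFin ι).symm
  rw [← N_congr e a c, ← R_congr e a c]
  exact N_mod_four h2 _ _ c hc


theorem N_cons (h2 : (2 : F) ≠ 0) {k : ℕ} (a0 : F) (w : Fin k → F) (c : F) :
    N (Fin.cons a0 w : Fin (k + 1) → F) c = N w c + 2 * ∑ u ∈ SQ F, N w (c - a0 * u) := by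
  have := N_succ h2 (Fin.cons a0 w : Fin (k + 1) → F) c
  simpa only [Fin.cons_succ, Fin.cons_zero] using this

theorem R_cons {k : ℕ} (a0 : F) (w : Fin k → F) (c : F) :
    R (Fin.cons a0 w : Fin (k + 1) → F) c =
      (if ∃ s : F, a0 * (s * s) = c then 1 else 0) + R w c := by
  have := R_succ (Fin.cons a0 w : Fin (k + 1) → F) c
  simpa only [Fin.cons_succ, Fin.cons_zero] using this

theorem card_zero_slice {k : ℕ} (a0 : F) (w : Fin k → F) (c : F) :
    Nat.card {t : Fin (k + 1) → F //
      (∑ i, (Fin.cons a0 w : Fin (k + 1) → F) i * (t i * t i) = c) ∧ t 0 = 0} = N w c := by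
  unfold N
  apply Nat.card_congr
  refine ⟨fun t => ⟨Fin.tail t.1, ?_⟩, fun t => ⟨Fin.cons 0 t.1, ?_, ?_⟩, ?_, ?_⟩
  · have := t.2.1
    rw [Fin.sum_univ_succ, t.2.2] at this
    simp only [Fin.cons_succ, Fin.cons_zero, mul_zero, zero_add] at this
    exact this
  · rw [Fin.sum_univ_succ]
    simp only [Fin.cons_succ, Fin.cons_zero, mul_zero, zero_add]
    exact t.2
  · simp
  · intro t
    apply Subtype.ext
    show Fin.cons 0 (Fin.tail t.1) = t.1
    have h0 := t.2.2
    obtain ⟨t, ht⟩ := t
    simp only at h0 ⊢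
    rw [← h0, Fin.cons_self_tail]
  · intro t
    apply Subtype.ext
    simp

/-- the parity of half the difference -/
theorem half_diff_parity (h2 : (2 : F) ≠ 0) {k : ℕ} (a0 : F) (w : Fin k → F) (c : F) (hc : c ≠ 0) :
    ((N (Fin.cons a0 w : Fin (k + 1) → F) c - N w c) / 2) % 2 =
      if ∃ s : F, a0 * (s * s) = c then 1 else 0 := by
  have h1 := N_mod_four h2 _ (Fin.cons a0 w : Fin (k + 1) → F) c hc
  have h3 := N_mod_four h2 _ w c hc
  have h4 := R_cons a0 w c
  have h5 := N_cons h2 a0 w c
  have h6 : N w c ≤ N (Fin.cons a0 w : Fin (k + 1) → F) c := by rw [h5]; exact Nat.le_add_right _ _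
  split_ifs with h
  · rw [if_pos h] at h4
    omega
  · rw [if_neg h] at h4
    omega

theorem R_sum_elim {ι κ : Type*} [Fintype ι] [Fintype κ] (a : ι → F) (b : κ → F) (c : F) :
    R (Sum.elim a b) c = R a c + R b c := by
  unfold R
  rw [Nat.card_congr (Equiv.subtypeSum (p := fun j : ι ⊕ κ => ∃ s : F, Sum.elim a b j * (s * s) = c)),
    Nat.card_sum]
  rfl

theorem R_const {ι : Type*} [Fintype ι] (a0 c : F) :
    R (fun _ : ι => a0) c = if ∃ s : F, a0 * (s * s) = c then Fintype.card ι else 0 := by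
  unfold R
  split_ifs with h
  · rw [← Nat.card_eq_fintype_card]
    exact Nat.card_congr (Equiv.subtypeUnivEquiv (fun _ => h))
  · have : IsEmpty {_i : ι // ∃ s : F, a0 * (s * s) = c} := ⟨fun i => h i.2⟩
    exact Nat.card_of_isEmpty

end Cfsg.Agent.Lib.H11.SqCount
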