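import Cfsg.Agent.Lib.H11.CartanDieudonne
import Cfsg.Agent.Lib.H11.SqCount
import Cfsg.Agent.S0756

/-!
The "spinor sign" character of an orthogonal group over a finite field of odd order:
the sign of the permutation action on a level set `{x | Q x = c}`, `c ≠ 0`.
Together with the determinant it detects the commutator subgroup, which has index 4.
-/

set_option autoImplicit false

namespace Cfsg.Agent.Lib.H11.SpinSign

open Matrix
open scoped MatrixGroups
open Cfsg.Agent.Lib.H11.CD Cfsg.Agent.Lib.H11.SqCount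

variable {F : Type*} [Field F] {n : ℕ} (Q : QuadraticForm F (Fin n → F))

/-- the level set `{x | Q x = c}` -/
def Lvl (c : F) : Type _ := {x : Fin n → F // Q x = c}

instance instFiniteLvl [Finite F] (c : F) : Finite (Lvl Q c) :=
  inferInstanceAs (Finite {x : Fin n → F // Q x = c})

noncomputable instance instFintypeLvl [Finite F] (c : F) : Fintype (Lvl Q c) := Fintype.ofFinite _

noncomputable instance instDecEqLvl (c : F) : DecidableEq (Lvl Q c) := Classical.decEq _

instance instMulActionLvl (c : F) : MulAction ↥(Cfsg.isometryGroup F ⇑Q) (Lvl Q c) where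
  smul g x := ⟨act Q g x.1, by rw [Q_act]; exact x.2⟩
  one_smul x := Subtype.ext (act_one Q x.1)
  mul_smul g h x := Subtype.ext (act_mul Q g h x.1)

theorem smul_val (c : F) (g : ↥(Cfsg.isometryGroup F ⇑Q)) (x : Lvl Q c) :
    (g • x).1 = act Q g x.1 := rfl

/-- the sign character -/
noncomputable def chi [Finite F] (c : F) : ↥(Cfsg.isometryGroup F ⇑Q) →* ℤˣ :=
  Equiv.Perm.sign.comp (MulAction.toPermHom ↥(Cfsg.isometryGroup F ⇑Q) (Lvl Q c))

/-- the determinant character -/
noncomputable def detHom : ↥(Cfsg.isometryGroup F ⇑Q) →* Fˣ :=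
  Matrix.GeneralLinearGroup.det.comp (Cfsg.isometryGroup F ⇑Q).subtype

theorem detHom_val (g : ↥(Cfsg.isometryGroup F ⇑Q)) :
    ((detHom Q g : Fˣ) : F) = ((g : GL (Fin n) F) : Matrix (Fin n) (Fin n) F).det := rfl

theorem detHom_reflEl (v : Fin n → F) (hv : Q v ≠ 0) : detHom Q (reflEl Q v hv) = -1 := by
  apply Units.ext
  rw [detHom_val, reflEl_val, (Cfsg.Agent.S0784.result Q v hv).2.2.2]
  simp

theorem ext_act {g h : ↥(Cfsg.isometryGroup F ⇑Q)} (H : ∀ x, act Q g x = act Q h x) : g = h := by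
  apply Subtype.ext
  apply Units.ext
  rw [Matrix.ext_iff_mulVec]
  exact H

theorem reflEl_mul_self (v : Fin n → F) (hv : Q v ≠ 0) : reflEl Q v hv * reflEl Q v hv = 1 := by
  apply ext_act
  intro x
  rw [act_mul, act_one, reflEl_act Q v hv x, sub_eq_add_neg, act_add, act_neg, act_smul, reflEl_act_self,
    reflEl_act]
  simp

theorem reflEl_smul (v : Fin n → F) (hv : Q v ≠ 0) (a : F) (ha : a ≠ 0)
    (hav : Q (a • v) ≠ 0) : reflEl Q (a • v) hav = reflEl Q v hv := by
  apply ext_act
  intro x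
  rw [reflEl_act, reflEl_act, QuadraticMap.map_smul, QuadraticMap.polar_smul_left, smul_smul]
  congr 2
  simp only [smul_eq_mul]
  field_simp

theorem reflEl_conj (g : ↥(Cfsg.isometryGroup F ⇑Q)) (v : Fin n → F) (hv : Q v ≠ 0)
    (hgv : Q (act Q g v) ≠ 0) : g * reflEl Q v hv * g⁻¹ = reflEl Q (act Q g v) hgv := by
  apply ext_act
  intro x
  rw [act_mul, act_mul, reflEl_act, reflEl_act, sub_eq_add_neg, act_add, act_neg, act_smul,
    ← act_mul, mul_inv_cancel, act_one, Q_act]
  have : QuadraticMap.polar (⇑Q) (act Q g v) x = QuadraticMap.polar (⇑Q) v (act Q g⁻¹ x) := by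
    rw [← polar_act Q g v (act Q g⁻¹ x), ← act_mul, mul_inv_cancel, act_one]
  rw [this, sub_eq_add_neg]


/-- the hyperplane `v^⊥` -/
def perp (v : Fin n → F) : Submodule F (Fin n → F) :=
  LinearMap.ker (QuadraticMap.polarBilin Q v)

theorem mem_perp (v x : Fin n → F) : x ∈ perp Q v ↔ QuadraticMap.polar (⇑Q) v x = 0 := by
  rw [perp, LinearMap.mem_ker, QuadraticMap.polarBilin_apply_apply]

/-- coefficient along `v` -/
def coef (v x : Fin n → F) : F := (2 * Q v)⁻¹ * QuadraticMap.polar (⇑Q) v x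

theorem sub_coef_mem (h2 : (2 : F) ≠ 0) (v : Fin n → F) (hv : Q v ≠ 0) (x : Fin n → F) :
    x - coef Q v x • v ∈ perp Q v := by
  rw [mem_perp, QuadraticMap.polar_sub_right, QuadraticMap.polar_smul_right,
    Cfsg.Agent.Lib.H4.polar_self, coef, smul_eq_mul]
  field_simp
  ring

theorem coef_add (v : Fin n → F) (s : F) (h2 : (2 : F) ≠ 0) (hv : Q v ≠ 0) (y : Fin n → F)
    (hy : y ∈ perp Q v) : coef Q v (s • v + y) = s := by
  rw [mem_perp] at hy
  rw [coef, QuadraticMap.polar_add_right, QuadraticMap.polar_smul_right,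
    Cfsg.Agent.Lib.H4.polar_self, hy, smul_eq_mul]
  field_simp
  ring

theorem Q_decomp (v : Fin n → F) (s : F) (y : Fin n → F) (hy : y ∈ perp Q v) :
    Q (s • v + y) = Q v * (s * s) + Q y := by
  rw [mem_perp] at hy
  rw [QuadraticMap.map_add (⇑Q), QuadraticMap.map_smul, QuadraticMap.polar_smul_left, hy]
  simp only [smul_eq_mul]
  ring

/-- coordinates adapted to `v` and a diagonalisation of `v^⊥` -/
noncomputable def Phi (h2 : (2 : F) ≠ 0) (v : Fin n → F) (hv : Q v ≠ 0) {d : ℕ}
    (e : ↥(perp Q v) ≃ (Fin d → F)) : (Fin n → F) ≃ (Fin (d + 1) → F) where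
  toFun x := Fin.cons (coef Q v x) (e ⟨x - coef Q v x • v, sub_coef_mem Q h2 v hv x⟩)
  invFun t := t 0 • v + ((e.symm (Fin.tail t) : ↥(perp Q v)) : Fin n → F)
  left_inv x := by
    simp only [Fin.cons_zero, Fin.tail_cons, Equiv.symm_apply_apply]
    abel
  right_inv t := by
    have h1 := coef_add Q v (t 0) h2 hv _ (e.symm (Fin.tail t)).2
    have h3 : e ⟨_, sub_coef_mem Q h2 v hv
        (t 0 • v + ((e.symm (Fin.tail t) : ↥(perp Q v)) : Fin n → F))⟩ = Fin.tail t := by
      rw [← Equiv.eq_symm_apply, eq_comm]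
      apply Subtype.ext
      simp only [h1]
      abel
    funext i
    refine Fin.cases ?_ ?_ i
    · exact h1
    · intro j
      show e ⟨_, sub_coef_mem Q h2 v hv
        (t 0 • v + ((e.symm (Fin.tail t) : ↥(perp Q v)) : Fin n → F))⟩ j = t j.succ
      rw [h3]
      rfl

theorem Phi_zero (h2 : (2 : F) ≠ 0) (v : Fin n → F) (hv : Q v ≠ 0) {d : ℕ}
    (e : ↥(perp Q v) ≃ (Fin d → F)) (x : Fin n → F) : Phi Q h2 v hv e x 0 = coef Q v x := rfl

theorem sum_Phi (h2 : (2 : F) ≠ 0) (v : Fin n → F) (hv : Q v ≠ 0) {d : ℕ}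
    (e : ↥(perp Q v) ≃ (Fin d → F)) (w : Fin d → F)
    (he : ∀ y, ∑ i, w i * (e y i * e y i) = Q y.1) (x : Fin n → F) :
    ∑ i, (Fin.cons (Q v) w : Fin (d + 1) → F) i * (Phi Q h2 v hv e x i * Phi Q h2 v hv e x i) =
      Q x := by
  rw [Fin.sum_univ_succ]
  simp only [Phi, Equiv.coe_fn_mk, Fin.cons_zero, Fin.cons_succ]
  rw [he]
  have := Q_decomp Q v (coef Q v x) _ (sub_coef_mem Q h2 v hv x)
  rw [← this]
  congr 1
  abel


section finite

variable [Fintype F]

theorem card_Lvl (h2 : (2 : F) ≠ 0) (v : Fin n → F) (hv : Q v ≠ 0) {d : ℕ}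
    (e : ↥(perp Q v) ≃ (Fin d → F)) (w : Fin d → F)
    (he : ∀ y, ∑ i, w i * (e y i * e y i) = Q y.1) (c : F) :
    Nat.card (Lvl Q c) = N (Fin.cons (Q v) w : Fin (d + 1) → F) c := by
  unfold N Lvl
  exact Nat.card_congr ((Phi Q h2 v hv e).subtypeEquiv
    (fun x => by rw [sum_Phi Q h2 v hv e w he]))

theorem fixed_iff (v : Fin n → F) (hv : Q v ≠ 0) (c : F) (x : Lvl Q c) :
    reflEl Q v hv • x = x ↔ QuadraticMap.polar (⇑Q) v x.1 = 0 := by
  have hv0 : v ≠ 0 := by
    rintro rfl
    exact hv (map_zero Q)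
  constructor
  · intro h
    have h1 := congrArg Subtype.val h
    rw [smul_val, reflEl_act, sub_eq_self, smul_eq_zero] at h1
    rcases h1 with h1 | h1
    · rcases mul_eq_zero.1 h1 with h3 | h3
      · exact absurd (inv_eq_zero.1 h3) hv
      · exact h3
    · exact absurd h1 hv0
  · intro h
    apply Subtype.ext
    rw [smul_val, reflEl_act_of_polar_zero Q v hv _ h]

theorem card_fixed (h2 : (2 : F) ≠ 0) (v : Fin n → F) (hv : Q v ≠ 0) {d : ℕ}
    (e : ↥(perp Q v) ≃ (Fin d → F)) (w : Fin d → F)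
    (he : ∀ y, ∑ i, w i * (e y i * e y i) = Q y.1) (c : F) :
    Nat.card ↥(Function.fixedPoints
      (MulAction.toPerm (reflEl Q v hv) : Equiv.Perm (Lvl Q c))) = N w c := by
  rw [← card_zero_slice (Q v) w c]
  have e1 : ↥(Function.fixedPoints (MulAction.toPerm (reflEl Q v hv) : Equiv.Perm (Lvl Q c))) ≃
      {x : {x : Fin n → F // Q x = c} // QuadraticMap.polar (⇑Q) v x.1 = 0} :=
    Equiv.subtypeEquivRight (fun x => by
      rw [Function.mem_fixedPoints, Function.IsFixedPt, MulAction.toPerm_apply]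
      exact fixed_iff Q v hv c x)
  have e2 := Equiv.subtypeSubtypeEquivSubtypeInter (fun x : Fin n → F => Q x = c)
    (fun x => QuadraticMap.polar (⇑Q) v x = 0)
  have e3 : {x : Fin n → F // Q x = c ∧ QuadraticMap.polar (⇑Q) v x = 0} ≃
      {t : Fin (d + 1) → F //
        (∑ i, (Fin.cons (Q v) w : Fin (d + 1) → F) i * (t i * t i) = c) ∧ t 0 = 0} :=
    (Phi Q h2 v hv e).subtypeEquiv (fun x => by
      rw [sum_Phi Q h2 v hv e w he, Phi_zero, coef, mul_eq_zero]
      constructor
      · rintro ⟨h, h'⟩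
        exact ⟨h, Or.inr h'⟩
      · rintro ⟨h, h' | h'⟩
        · exact absurd (inv_eq_zero.1 h') (mul_ne_zero h2 hv)
        · exact ⟨h, h'⟩)
  exact Nat.card_congr ((e1.trans e2).trans e3)

open scoped Classical in
theorem chi_reflEl (h2 : (2 : F) ≠ 0) (v : Fin n → F) (hv : Q v ≠ 0) (c : F) (hc : c ≠ 0) :
    chi Q c (reflEl Q v hv) = if ∃ s : F, Q v * (s * s) = c then -1 else 1 := by
  have : Invertible (2 : F) := invertibleOfNonzero h2
  obtain ⟨w, ⟨e0⟩⟩ := QuadraticForm.equivalent_weightedSumSquares (Q.comp (perp Q v).subtype)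
  have he : ∀ y, ∑ i, w i * (e0.toLinearEquiv.toEquiv y i * e0.toLinearEquiv.toEquiv y i) =
      Q y.1 := by
    intro y
    have := e0.map_app y
    rw [QuadraticMap.weightedSumSquares_apply, QuadraticMap.comp_apply] at this
    simp only [smul_eq_mul] at this
    exact this
  have hσ : (MulAction.toPerm (reflEl Q v hv) : Equiv.Perm (Lvl Q c)) ^ 2 = 1 := by
    rw [sq]
    ext x
    simp only [Equiv.Perm.coe_mul, Function.comp_apply, MulAction.toPerm_apply, Equiv.Perm.coe_one,
      id_eq]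
    rw [← mul_smul, reflEl_mul_self, one_smul]
  have h1 : chi Q c (reflEl Q v hv) =
      Equiv.Perm.sign (MulAction.toPerm (reflEl Q v hv) : Equiv.Perm (Lvl Q c)) := rfl
  rw [h1, Equiv.Perm.sign_of_pow_two_eq_one hσ, ← Nat.card_eq_fintype_card,
    ← Nat.card_eq_fintype_card, card_Lvl Q h2 v hv _ w he c, card_fixed Q h2 v hv _ w he c]
  have h3 := half_diff_parity h2 (Q v) w c hc
  split_ifs with h
  · rw [if_pos h] at h3
    exact Odd.neg_one_pow (Nat.odd_iff.2 h3)
  · rw [if_neg h] at h3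
    exact Even.neg_one_pow (Nat.even_iff.2 h3)


end finite

theorem reflEl_congr (u v : Fin n → F) (hu : Q u ≠ 0) (hv : Q v ≠ 0) (h : u = v) :
    reflEl Q u hu = reflEl Q v hv := by
  subst h
  rfl

section finite2

variable [Fintype F]

/-- universality of nondegenerate forms in dimension at least 2 -/
theorem exists_Q_eq (hQ : (QuadraticMap.polarBilin Q).Nondegenerate) (h2 : (2 : F) ≠ 0)
    (hn : 2 ≤ n) (c : F) (hc : c ≠ 0) : ∃ v, Q v = c := by
  let B : LinearMap.BilinForm F (Fin n → F) := (2 * c)⁻¹ • QuadraticMap.polarBilin Q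
  have hk : (2 * c)⁻¹ ≠ 0 := inv_ne_zero (mul_ne_zero h2 hc)
  have hS : B.IsSymm := ⟨fun x y => by
    simp only [B, LinearMap.smul_apply, QuadraticMap.polarBilin_apply_apply]
    rw [QuadraticMap.polar_comm]⟩
  have hB : B.Nondegenerate := by
    constructor
    · intro x hx
      apply hQ.1 x
      intro y
      have := hx y
      simp only [B, LinearMap.smul_apply, smul_eq_mul] at this
      exact (mul_eq_zero.1 this).resolve_left hk
    · intro x hx
      apply hQ.2 x
      intro y
      have := hx y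
      simp only [B, LinearMap.smul_apply, smul_eq_mul] at this
      exact (mul_eq_zero.1 this).resolve_left hk
  obtain ⟨v, hv⟩ := Cfsg.Agent.S0756.exists_norm_one h2 B hS hB
    (by rw [Module.finrank_fin_fun]; exact hn)
  refine ⟨v, ?_⟩
  simp only [B, LinearMap.smul_apply, smul_eq_mul, QuadraticMap.polarBilin_apply_apply,
    Cfsg.Agent.Lib.H4.polar_self] at hv
  field_simp at hv
  linear_combination hv

theorem of_reflEl_eq (h2 : (2 : F) ≠ 0) (u v : Fin n → F) (hu : Q u ≠ 0) (hv : Q v ≠ 0) (a : F)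
    (ha : a ≠ 0) (h : Q u = a * a * Q v) :
    (Abelianization.of (reflEl Q u hu) : Abelianization ↥(Cfsg.isometryGroup F ⇑Q)) =
      Abelianization.of (reflEl Q v hv) := by
  have hQa : Q (a • v) = Q u := by rw [QuadraticMap.map_smul, h, smul_eq_mul]
  have hav : Q (a • v) ≠ 0 := by rw [hQa]; exact hu
  obtain ⟨s, -, hs, -⟩ := exists_move Q h2 ⊤ u (a • v) trivial trivial hu hQa
  have hgv : Q (act Q s (a • v)) ≠ 0 := by rw [hs]; exact hu
  have h1 : reflEl Q u hu = s * reflEl Q (a • v) hav * s⁻¹ := by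
    rw [reflEl_conj Q s (a • v) hav hgv]
    exact reflEl_congr Q _ _ _ _ hs.symm
  rw [h1, reflEl_smul Q v hv a ha hav, map_mul, map_mul, map_inv, mul_comm, inv_mul_cancel_left]

theorem four_mul {A : Type*} [CommGroup A] (a b : A) (ha : a * a = 1) (hb : b * b = 1) (x y : A)
    (hx : x = 1 ∨ x = a ∨ x = b ∨ x = a * b) (hy : y = 1 ∨ y = a ∨ y = b ∨ y = a * b) :
    x * y = 1 ∨ x * y = a ∨ x * y = b ∨ x * y = a * b := by
  rcases hx with rfl | rfl | rfl | rfl <;> rcases hy with rfl | rfl | rfl | rfl <;>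
    simp [ha, hb, mul_comm, mul_left_comm]

theorem four_inv {A : Type*} [CommGroup A] (a b : A) (ha : a * a = 1) (hb : b * b = 1) (x : A)
    (hx : x = 1 ∨ x = a ∨ x = b ∨ x = a * b) :
    x⁻¹ = 1 ∨ x⁻¹ = a ∨ x⁻¹ = b ∨ x⁻¹ = a * b := by
  have : x⁻¹ = x := by
    apply inv_eq_of_mul_eq_one_left
    rcases hx with rfl | rfl | rfl | rfl
    · simp
    · exact ha
    · exact hb
    · rw [mul_mul_mul_comm, ha, hb, one_mul]
  rw [this]
  exact hx

theorem of_mem_four (hQ : (QuadraticMap.polarBilin Q).Nondegenerate) (h2 : (2 : F) ≠ 0)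
    (ν : F) (hν : ¬ IsSquare ν) (v1 v2 : Fin n → F) (h1 : Q v1 ≠ 0) (h2' : Q v2 ≠ 0)
    (h12 : Q v2 = ν * Q v1) (g : ↥(Cfsg.isometryGroup F ⇑Q)) :
    Abelianization.of g = 1 ∨ Abelianization.of g = Abelianization.of (reflEl Q v1 h1) ∨
      Abelianization.of g = Abelianization.of (reflEl Q v2 h2') ∨
      Abelianization.of g =
        Abelianization.of (reflEl Q v1 h1) * Abelianization.of (reflEl Q v2 h2') := by
  have ha : (Abelianization.of (reflEl Q v1 h1) : Abelianization ↥(Cfsg.isometryGroup F ⇑Q)) *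
      Abelianization.of (reflEl Q v1 h1) = 1 := by
    rw [← map_mul, reflEl_mul_self, map_one]
  have hb : (Abelianization.of (reflEl Q v2 h2') : Abelianization ↥(Cfsg.isometryGroup F ⇑Q)) *
      Abelianization.of (reflEl Q v2 h2') = 1 := by
    rw [← map_mul, reflEl_mul_self, map_one]
  have hg := cartan_dieudonne Q hQ h2 g
  induction hg using Subgroup.closure_induction with
  | mem r hr =>
    obtain ⟨u, hu, hr⟩ := hr
    have hru : r = reflEl Q u hu := Subtype.ext (Units.ext hr)
    obtain ⟨l, hl, hl'⟩ := Cfsg.Agent.S0756.square_class h2 ν hν (Q u / Q v1)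
      (div_ne_zero hu h1)
    rcases hl' with hl' | hl'
    · right; left
      rw [hru]
      apply of_reflEl_eq Q h2 u v1 hu h1 l hl
      field_simp at hl'
      linear_combination hl'
    · right; right; left
      rw [hru]
      apply of_reflEl_eq Q h2 u v2 hu h2' l hl
      rw [h12]
      field_simp at hl'
      linear_combination hl'
  | one => left; exact map_one _
  | mul x y _ _ hx hy =>
    rw [map_mul]
    exact four_mul _ _ ha hb _ _ hx hy
  | inv x _ hx =>
    rw [map_inv]
    exact four_inv _ _ ha hb _ hx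


open scoped Classical in
/-- the abelianisation has order 4 and the commutator subgroup is the common kernel of the
determinant and the sign character -/
theorem main (hQ : (QuadraticMap.polarBilin Q).Nondegenerate) (h2 : (2 : F) ≠ 0) (hn : 2 ≤ n)
    (c : F) (hc : c ≠ 0) :
    Nat.card (Abelianization ↥(Cfsg.isometryGroup F ⇑Q)) = 4 ∧
    ∀ g : ↥(Cfsg.isometryGroup F ⇑Q), g ∈ commutator ↥(Cfsg.isometryGroup F ⇑Q) ↔
      (detHom Q g = 1 ∧ chi Q c g = 1) := by
  have hchar : ringChar F ≠ 2 := by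
    intro h
    apply h2
    have := CharP.cast_eq_zero F (ringChar F)
    rw [h] at this
    exact_mod_cast this
  obtain ⟨ν, hν⟩ := FiniteField.exists_nonsquare hchar
  have hν0 : ν ≠ 0 := by
    rintro rfl
    exact hν ⟨0, by simp⟩
  obtain ⟨v1, hv1⟩ := exists_Q_eq Q hQ h2 hn c hc
  obtain ⟨v2, hv2⟩ := exists_Q_eq Q hQ h2 hn (ν * c) (mul_ne_zero hν0 hc)
  have h1 : Q v1 ≠ 0 := by rw [hv1]; exact hc
  have h2' : Q v2 ≠ 0 := by rw [hv2]; exact mul_ne_zero hν0 hc
  have h12 : Q v2 = ν * Q v1 := by rw [hv1, hv2]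
  let φ : ↥(Cfsg.isometryGroup F ⇑Q) →* Fˣ × ℤˣ := (detHom Q).prod (chi Q c)
  have hφ1 : φ (reflEl Q v1 h1) = (-1, -1) := by
    show (detHom Q (reflEl Q v1 h1), chi Q c (reflEl Q v1 h1)) = (-1, -1)
    rw [detHom_reflEl, chi_reflEl Q h2 v1 h1 c hc, if_pos ⟨1, by rw [hv1]; ring⟩]
  have hφ2 : φ (reflEl Q v2 h2') = (-1, 1) := by
    show (detHom Q (reflEl Q v2 h2'), chi Q c (reflEl Q v2 h2')) = (-1, 1)
    rw [detHom_reflEl, chi_reflEl Q h2 v2 h2' c hc, if_neg]
    rintro ⟨s, hs⟩
    rw [hv2] at hs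
    have hs1 : ν * (s * s) = 1 := by
      apply mul_left_cancel₀ hc
      linear_combination hs
    have hs0 : s ≠ 0 := by
      rintro rfl
      simp at hs1
    apply hν
    refine ⟨s⁻¹, ?_⟩
    field_simp
    linear_combination hs1
  have hne : (-1 : Fˣ) ≠ 1 := by
    intro h
    have := congrArg Units.val h
    simp only [Units.val_neg, Units.val_one] at this
    apply h2
    linear_combination -this
  have hne' : (-1 : ℤˣ) ≠ 1 := by decide
  have key := of_mem_four Q hQ h2 ν hν v1 v2 h1 h2' h12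
  let ψ := Abelianization.lift φ
  have hψa : ψ (Abelianization.of (reflEl Q v1 h1)) = (-1, -1) := hφ1
  have hψb : ψ (Abelianization.of (reflEl Q v2 h2')) = (-1, 1) := hφ2
  have hψab : ψ (Abelianization.of (reflEl Q v1 h1) * Abelianization.of (reflEl Q v2 h2')) =
      (1, -1) := by
    rw [map_mul, hψa, hψb]
    simp
  have hψ1 : ψ 1 = (1, 1) := map_one ψ
  constructor
  · have : Fintype (Abelianization ↥(Cfsg.isometryGroup F ⇑Q)) := Fintype.ofFinite _
    have huniv : (Finset.univ : Finset (Abelianization ↥(Cfsg.isometryGroup F ⇑Q))) =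
        {1, Abelianization.of (reflEl Q v1 h1), Abelianization.of (reflEl Q v2 h2'),
          Abelianization.of (reflEl Q v1 h1) * Abelianization.of (reflEl Q v2 h2')} := by
      symm
      rw [Finset.eq_univ_iff_forall]
      intro x
      obtain ⟨g, hg⟩ : ∃ g, Abelianization.of g = x := QuotientGroup.mk_surjective x
      subst hg
      simp only [Finset.mem_insert, Finset.mem_singleton]
      exact key g
    rw [Nat.card_eq_fintype_card, ← Finset.card_univ, huniv, Finset.card_insert_of_notMem,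
      Finset.card_insert_of_notMem, Finset.card_insert_of_notMem, Finset.card_singleton]
    · simp only [Finset.mem_singleton]
      intro h
      have := congrArg ψ h
      rw [hψb, hψab, Prod.ext_iff] at this
      exact hne this.1
    · simp only [Finset.mem_insert, Finset.mem_singleton]
      rintro (h | h)
      · have := congrArg ψ h
        rw [hψa, hψb, Prod.ext_iff] at this
        exact hne' this.2
      · have := congrArg ψ h
        rw [hψa, hψab, Prod.ext_iff] at this
        exact hne this.1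
    · simp only [Finset.mem_insert, Finset.mem_singleton]
      rintro (h | h | h)
      · have := congrArg ψ h
        rw [hψ1, hψa, Prod.ext_iff] at this
        exact hne this.1.symm
      · have := congrArg ψ h
        rw [hψ1, hψb, Prod.ext_iff] at this
        exact hne this.1.symm
      · have := congrArg ψ h
        rw [hψ1, hψab, Prod.ext_iff] at this
        exact hne' this.2.symm
  · intro g
    constructor
    · intro hg
      have := Abelianization.commutator_subset_ker φ hg
      rw [MonoidHom.mem_ker] at this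
      exact Prod.ext_iff.1 this
    · rintro ⟨hd, hc'⟩
      have hφg : ψ (Abelianization.of g) = (1, 1) := Prod.ext hd hc'
      rcases key g with h | h | h | h
      · rw [← Abelianization.ker_of, MonoidHom.mem_ker]
        exact h
      · rw [h, hψa, Prod.ext_iff] at hφg
        exact absurd hφg.1 hne
      · rw [h, hψb, Prod.ext_iff] at hφg
        exact absurd hφg.1 hne
      · rw [h, hψab, Prod.ext_iff] at hφg
        exact absurd hφg.2 hne'

/-- the abelianisation has exponent 2 -/
theorem exp_two (hQ : (QuadraticMap.polarBilin Q).Nondegenerate) (h2 : (2 : F) ≠ 0)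
    (x : Abelianization ↥(Cfsg.isometryGroup F ⇑Q)) : x * x = 1 := by
  obtain ⟨g, hg⟩ : ∃ g, Abelianization.of g = x := QuotientGroup.mk_surjective x
  subst hg
  have hg := cartan_dieudonne Q hQ h2 g
  induction hg using Subgroup.closure_induction with
  | mem r hr =>
    obtain ⟨u, hu, hr⟩ := hr
    have hru : r = reflEl Q u hu := Subtype.ext (Units.ext hr)
    rw [hru, ← map_mul, reflEl_mul_self, map_one]
  | one => rw [map_one, mul_one]
  | mul x y _ _ hx hy =>
    rw [map_mul, mul_mul_mul_comm, hx, hy, mul_one]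
  | inv x _ hx =>
    rw [map_inv, ← mul_inv, hx, inv_one]

end finite2

/-! ### The element `-1` -/

/-- the element `-1` of the isometry group -/
def negOne : ↥(Cfsg.isometryGroup F ⇑Q) :=
  ⟨-1, by
    rw [Cfsg.Agent.S0785.mem_isometryGroup_iff]
    intro u
    rw [Units.val_neg, Units.val_one, Matrix.neg_mulVec, Matrix.one_mulVec, QuadraticMap.map_neg]⟩

theorem negOne_val :
    (((negOne Q : ↥(Cfsg.isometryGroup F ⇑Q)) : GL (Fin n) F) : Matrix (Fin n) (Fin n) F) = -1 := by
  simp [negOne]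

theorem negOne_act (x : Fin n → F) : act Q (negOne Q) x = -x := by
  rw [act, negOne_val, Matrix.neg_mulVec, Matrix.one_mulVec]

theorem detHom_negOne (heven : Even n) : detHom Q (negOne Q) = 1 := by
  apply Units.ext
  rw [detHom_val, negOne_val, Matrix.det_neg, Matrix.det_one, Fintype.card_fin, heven.neg_one_pow]
  simp

theorem eq_negOne (g : ↥(Cfsg.isometryGroup F ⇑Q))
    (hg : ((g : GL (Fin n) F) : Matrix (Fin n) (Fin n) F) = -1) : g = negOne Q := by
  apply Subtype.ext
  apply Units.ext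
  rw [hg, negOne_val]

section finite3

variable [Fintype F]

theorem chi_negOne (h2 : (2 : F) ≠ 0) (c : F) (hc : c ≠ 0) :
    chi Q c (negOne Q) = (-1) ^ (Nat.card (Lvl Q c) / 2) := by
  have hσ : (MulAction.toPerm (negOne Q) : Equiv.Perm (Lvl Q c)) ^ 2 = 1 := by
    rw [sq]
    ext x
    simp only [Equiv.Perm.coe_mul, Function.comp_apply, MulAction.toPerm_apply, Equiv.Perm.coe_one,
      id_eq]
    apply Subtype.ext
    rw [smul_val, smul_val, negOne_act, negOne_act, neg_neg]
  have h1 : chi Q c (negOne Q) =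
      Equiv.Perm.sign (MulAction.toPerm (negOne Q) : Equiv.Perm (Lvl Q c)) := rfl
  have hfix : IsEmpty ↥(Function.fixedPoints
      (MulAction.toPerm (negOne Q) : Equiv.Perm (Lvl Q c))) := by
    constructor
    rintro ⟨x, hx⟩
    rw [Function.mem_fixedPoints, Function.IsFixedPt, MulAction.toPerm_apply] at hx
    have h3 := congrArg Subtype.val hx
    rw [smul_val, negOne_act] at h3
    have h4 : x.1 = 0 := by
      have : (2 : F) • x.1 = 0 := by
        rw [two_smul]
        nth_rewrite 1 [← h3]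
        exact neg_add_cancel _
      exact (smul_eq_zero.1 this).resolve_left h2
    apply hc
    rw [← x.2, h4, map_zero]
  have h0 : Nat.card ↥(Function.fixedPoints
      (MulAction.toPerm (negOne Q) : Equiv.Perm (Lvl Q c))) = 0 := Nat.card_of_isEmpty
  rw [h1, Equiv.Perm.sign_of_pow_two_eq_one hσ, ← Nat.card_eq_fintype_card,
    ← Nat.card_eq_fintype_card, h0, Nat.sub_zero]

/-- `-1` lies in `Ω` iff half the size of a level set is even -/
theorem neg_one_mem_iff (hQ : (QuadraticMap.polarBilin Q).Nondegenerate) (h2 : (2 : F) ≠ 0)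
    (hn : 2 ≤ n) (heven : Even n) (c : F) (hc : c ≠ 0) :
    (∃ g : ↥(Cfsg.isometryGroup F ⇑Q), g ∈ Cfsg.Omega F ⇑Q ∧
      ((g : GL (Fin n) F) : Matrix (Fin n) (Fin n) F) = -1) ↔
      Even (Nat.card (Lvl Q c) / 2) := by
  have hm := (main Q hQ h2 hn c hc).2 (negOne Q)
  have hne' : (-1 : ℤˣ) ≠ 1 := by decide
  constructor
  · rintro ⟨g, hg, hg1⟩
    rw [eq_negOne Q g hg1] at hg
    have := (hm.1 hg).2
    rw [chi_negOne Q h2 c hc] at this
    exact (neg_one_pow_eq_one_iff_even hne').1 this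
  · intro h
    refine ⟨negOne Q, hm.2 ⟨detHom_negOne Q heven, ?_⟩, negOne_val Q⟩
    rw [chi_negOne Q h2 c hc]
    exact (neg_one_pow_eq_one_iff_even hne').2 h

end finite3

end Cfsg.Agent.Lib.H11.SpinSign
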