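import Cfsg.Agent.Lib.H11.ConfOrth5
import Cfsg.Agent.Lib.H13.PlusTS
import Cfsg.Agent.Lib.H13.SOIndexTwo

/-!
# Conformal orthogonal groups (part 6): reflections, lists and the subgroups `Ω ≤ SO ≤ O`
-/

set_option autoImplicit false

namespace Cfsg.Agent.Lib.H11.ConfOrth

open Matrix
open scoped MatrixGroups
open Cfsg.Agent.Lib.H11.IsoReindex Cfsg.Agent.Lib.H13.OmegaCrit Cfsg.Agent.Lib.H13.HypPairs
open Cfsg.Agent.Lib.H13.Char2Mat

variable {F : Type*} [Field F] [Fintype F] {ι : Type} [Fintype ι] [DecidableEq ι]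
  (Q : QuadraticForm F (ι → F))

omit [Fintype F] in
/-- Cartan–Dieudonné for a general index type (odd characteristic) -/
theorem closure_reflSet_odd (hQ : (QuadraticMap.polarBilin Q).Nondegenerate) (h2 : (2 : F) ≠ 0) :
    Subgroup.closure (reflSet Q) = ⊤ := by
  rw [eq_top_iff]
  intro g _
  set e := Fintype.equivFin ι with he
  let Θ : ↥(Cfsg.isometryGroup F ⇑Q) ≃* ↥(Cfsg.isometryGroup F ⇑(trQF e Q)) := isoEquiv e ⇑Q
  have h1 := Cfsg.Agent.Lib.H11.CD.cartan_dieudonne (trQF e Q) (nondeg_trQF e Q hQ) h2 (Θ g)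
  have key : ∀ x' ∈ Subgroup.closure {r : ↥(Cfsg.isometryGroup F ⇑(trQF e Q)) | ∃ v,
      (trQF e Q) v ≠ 0 ∧ ((r : GL (Fin (Fintype.card ι)) F) : Matrix _ _ F) =
        Cfsg.reflectionMatrix (⇑(trQF e Q)) v}, Θ.symm x' ∈ Subgroup.closure (reflSet Q) := by
    intro x' hx'
    induction hx' using Subgroup.closure_induction with
    | mem r' hr' =>
      obtain ⟨v', hv', hr'⟩ := hr'
      apply Subgroup.subset_closure
      refine ⟨v' ∘ e, hv', ?_⟩
      have h3 := isoEquiv_val e ⇑Q (Θ.symm r')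
      have h4 : isoEquiv e ⇑Q (Θ.symm r') = r' := Θ.apply_symm_apply r'
      rw [h4, hr'] at h3
      have h5 := reflectionMatrix_tr e (⇑Q) (v' ∘ e)
      have h6 : (v' ∘ e) ∘ e.symm = v' := by
        funext i; simp
      rw [h6] at h5
      have h7 : Matrix.reindex e e (((Θ.symm r' : ↥(Cfsg.isometryGroup F ⇑Q)) : GL ι F) :
          Matrix ι ι F) = Matrix.reindex e e (Cfsg.reflectionMatrix (⇑Q) (v' ∘ e)) :=
        h3.symm.trans h5
      exact (Matrix.reindex e e).injective h7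
    | one => rw [map_one]; exact one_mem _
    | mul x y _ _ hx hy => rw [map_mul]; exact mul_mem hx hy
    | inv x _ hx => rw [map_inv]; exact inv_mem hx
  have := key _ h1
  rwa [MulEquiv.symm_apply_apply] at this

/-- every isometry is a product of reflections -/
theorem exists_refl_list (hQ : (QuadraticMap.polarBilin Q).Nondegenerate) (h2 : (2 : F) ≠ 0)
    (g : GL ι F) (hg : g ∈ Cfsg.isometryGroup F ⇑Q) :
    ∃ vs : List (ι → F), (∀ v ∈ vs, Q v ≠ 0) ∧ (g : Matrix ι ι F) =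
      (vs.map (fun v => Cfsg.reflectionMatrix ⇑Q v)).prod := by
  have := Cfsg.Agent.Lib.H13.OmegaSum.exists_list Q ⟨g, hg⟩ (by
    rw [closure_reflSet_odd Q hQ h2]; exact Subgroup.mem_top _)
  exact this

omit [Fintype F] in
theorem neg_one_ne_one (h2 : (2 : F) ≠ 0) : (-1 : F) ≠ 1 := by
  intro h
  apply h2
  have : (2 : F) = 1 - (-1) := by ring
  rw [this, h, sub_self]

omit [Fintype F] in
theorem neg_one_pow_eq_one_iff (h2 : (2 : F) ≠ 0) (k : ℕ) : (-1 : F) ^ k = 1 ↔ Even k := by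
  constructor
  · intro h
    by_contra hk
    rw [Nat.not_even_iff_odd] at hk
    rw [hk.neg_one_pow] at h
    exact neg_one_ne_one h2 h
  · intro h
    exact h.neg_one_pow

omit [Fintype F] in
theorem mem_sO_iff (g : GL ι F) :
    g ∈ Cfsg.specialIsometryGL F ⇑Q ↔ g ∈ Cfsg.isometryGroup F ⇑Q ∧ (g : Matrix ι ι F).det = 1 := by
  unfold Cfsg.specialIsometryGL Cfsg.Geo.specialLinear
  rw [Subgroup.mem_inf, MonoidHom.mem_ker]
  constructor
  · rintro ⟨h1, h3⟩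
    refine ⟨h1, ?_⟩
    have := congrArg Units.val h3
    rwa [Matrix.GeneralLinearGroup.val_det_apply, Units.val_one] at this
  · rintro ⟨h1, h3⟩
    refine ⟨h1, ?_⟩
    apply Units.ext
    rw [Matrix.GeneralLinearGroup.val_det_apply, Units.val_one]
    exact h3

omit [Fintype F] in
theorem sO_iff_even (h2 : (2 : F) ≠ 0) (g : GL ι F) (hg : g ∈ Cfsg.isometryGroup F ⇑Q)
    (vs : List (ι → F)) (hvs : ∀ v ∈ vs, Q v ≠ 0)
    (hrep : (g : Matrix ι ι F) = (vs.map (fun v => Cfsg.reflectionMatrix ⇑Q v)).prod) :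
    g ∈ Cfsg.specialIsometryGL F ⇑Q ↔ Even vs.length := by
  rw [mem_sO_iff, hrep, Cfsg.Agent.Lib.H13.PlusTS.det_refl_list Q vs hvs,
    neg_one_pow_eq_one_iff h2]
  exact ⟨fun h => h.2, fun h => ⟨hg, h⟩⟩

theorem omegaGL_iff_list (hQ : (QuadraticMap.polarBilin Q).Nondegenerate) (h2 : (2 : F) ≠ 0)
    (hcard : 2 ≤ Fintype.card ι) (g : GL ι F) (hg : g ∈ Cfsg.isometryGroup F ⇑Q)
    (vs : List (ι → F)) (hvs : ∀ v ∈ vs, Q v ≠ 0)
    (hrep : (g : Matrix ι ι F) = (vs.map (fun v => Cfsg.reflectionMatrix ⇑Q v)).prod) :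
    g ∈ Cfsg.Geo.omegaGL ⇑Q ↔ (Even vs.length ∧ IsSquare (vs.map (fun v => Q v)).prod) := by
  classical
  rw [mem_omegaGL_iff]
  constructor
  · rintro ⟨h, hs⟩
    exact (mem_Omega_iff_list Q h2 hcard hQ ⟨g, h⟩ vs hvs hrep).1 hs
  · intro h
    exact ⟨hg, (mem_Omega_iff_list Q h2 hcard hQ ⟨g, hg⟩ vs hvs hrep).2 h⟩

theorem omegaGL_le_sO (hQ : (QuadraticMap.polarBilin Q).Nondegenerate) (h2 : (2 : F) ≠ 0)
    (hcard : 2 ≤ Fintype.card ι) : Cfsg.Geo.omegaGL ⇑Q ≤ Cfsg.specialIsometryGL F ⇑Q := by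
  intro g hg
  have hgO := omegaGL_le_iso ⇑Q hg
  obtain ⟨vs, hvs, hrep⟩ := exists_refl_list Q hQ h2 g hgO
  rw [sO_iff_even Q h2 g hgO vs hvs hrep]
  exact ((omegaGL_iff_list Q hQ h2 hcard g hgO vs hvs hrep).1 hg).1

omit [Fintype F] [Fintype ι] [DecidableEq ι] in
theorem list_prod_ne_zero (vs : List (ι → F)) (hvs : ∀ v ∈ vs, Q v ≠ 0) :
    (vs.map (fun v => Q v)).prod ≠ 0 := by
  apply List.prod_ne_zero
  intro h
  obtain ⟨v, hv, hv0⟩ := List.mem_map.1 h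
  exact hvs v hv hv0

omit [Fintype ι] [DecidableEq ι] in
theorem isSquare_mul_iff (x y : F) (hx : x ≠ 0) (hy : y ≠ 0) :
    IsSquare (x * y) ↔ (IsSquare x ↔ IsSquare y) := by
  constructor
  · intro hxy
    constructor
    · intro h
      have : y = (x * y) * x⁻¹ := by field_simp
      rw [this]
      exact hxy.mul (h.inv)
    · intro h
      have : x = (x * y) * y⁻¹ := by field_simp
      rw [this]
      exact hxy.mul (h.inv)
  · intro h
    by_cases h1 : IsSquare x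
    · exact h1.mul (h.1 h1)
    · exact Cfsg.Agent.Lib.H13.SOIndexTwo.isSquare_mul_of_not x y hx hy h1 (fun h3 => h1 (h.2 h3))

/-- `Ω` has index two in `SO` -/
theorem mul_mem_omegaGL_iff (hQ : (QuadraticMap.polarBilin Q).Nondegenerate) (h2 : (2 : F) ≠ 0)
    (hcard : 2 ≤ Fintype.card ι) (h₁ h₂ : GL ι F) (hh₁ : h₁ ∈ Cfsg.specialIsometryGL F ⇑Q)
    (hh₂ : h₂ ∈ Cfsg.specialIsometryGL F ⇑Q) :
    h₁ * h₂ ∈ Cfsg.Geo.omegaGL ⇑Q ↔ (h₁ ∈ Cfsg.Geo.omegaGL ⇑Q ↔ h₂ ∈ Cfsg.Geo.omegaGL ⇑Q) := by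
  have ho₁ := ((mem_sO_iff Q h₁).1 hh₁).1
  have ho₂ := ((mem_sO_iff Q h₂).1 hh₂).1
  obtain ⟨vs₁, hvs₁, hrep₁⟩ := exists_refl_list Q hQ h2 h₁ ho₁
  obtain ⟨vs₂, hvs₂, hrep₂⟩ := exists_refl_list Q hQ h2 h₂ ho₂
  have he₁ := (sO_iff_even Q h2 h₁ ho₁ vs₁ hvs₁ hrep₁).1 hh₁
  have he₂ := (sO_iff_even Q h2 h₂ ho₂ vs₂ hvs₂ hrep₂).1 hh₂
  have hvs : ∀ v ∈ vs₁ ++ vs₂, Q v ≠ 0 := by
    intro v hv
    rcases List.mem_append.1 hv with h | h
    · exact hvs₁ v h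
    · exact hvs₂ v h
  have hrep : ((h₁ * h₂ : GL ι F) : Matrix ι ι F) =
      ((vs₁ ++ vs₂).map (fun v => Cfsg.reflectionMatrix ⇑Q v)).prod := by
    rw [Units.val_mul, hrep₁, hrep₂, List.map_append, List.prod_append]
  rw [omegaGL_iff_list Q hQ h2 hcard _ (mul_mem ho₁ ho₂) _ hvs hrep,
    omegaGL_iff_list Q hQ h2 hcard _ ho₁ _ hvs₁ hrep₁,
    omegaGL_iff_list Q hQ h2 hcard _ ho₂ _ hvs₂ hrep₂, List.map_append, List.prod_append,
    List.length_append]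
  have h3 := isSquare_mul_iff _ _ (list_prod_ne_zero Q vs₁ hvs₁) (list_prod_ne_zero Q vs₂ hvs₂)
  constructor
  · rintro ⟨-, h⟩
    rw [h3] at h
    exact ⟨fun h4 => ⟨he₂, h.1 h4.2⟩, fun h4 => ⟨he₁, h.2 h4.2⟩⟩
  · intro h
    refine ⟨he₁.add he₂, h3.2 ⟨fun h4 => (h.1 ⟨he₁, h4⟩).2, fun h4 => (h.2 ⟨he₂, h4⟩).2⟩⟩

/-! ### similarities and reflections -/

section sim

omit [Fintype F] in
/-- conjugating a reflection by a similarity -/
theorem sim_conj_refl (s : ↥(Sim ⇑Q)) (v : ι → F) (hv : Q v ≠ 0) :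
    (s.1 : Matrix ι ι F) * Cfsg.reflectionMatrix ⇑Q v * ((s.1⁻¹ : GL ι F) : Matrix ι ι F) =
      Cfsg.reflectionMatrix ⇑Q ((s.1 : Matrix ι ι F) *ᵥ v) := by
  have hne : ∃ v, Q v ≠ 0 := ⟨v, hv⟩
  apply Matrix.ext_iff_mulVec.mpr
  intro x
  set τ : F := (mult (⇑Q) hne s : F) with hτ
  have hτ0 : τ ≠ 0 := Units.ne_zero _
  obtain ⟨y, rfl⟩ : ∃ y, x = (s.1 : Matrix ι ι F) *ᵥ y :=
    ⟨_, (mulVec_inv_mulVec s.1 x).symm⟩
  rw [← Matrix.mulVec_mulVec, ← Matrix.mulVec_mulVec, inv_mulVec_mulVec,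
    Cfsg.Agent.Lib.H4.reflectionMatrix_mulVec, Cfsg.Agent.Lib.H4.reflectionMatrix_mulVec,
    Matrix.mulVec_sub, Matrix.mulVec_smul, mult_spec (⇑Q) hne s, polar_sim Q hne s]
  congr 2
  rw [← hτ]
  field_simp

omit [Fintype F] in
theorem sim_conj_list (s : ↥(Sim ⇑Q)) (vs : List (ι → F)) (hvs : ∀ v ∈ vs, Q v ≠ 0) :
    (s.1 : Matrix ι ι F) * (vs.map (fun v => Cfsg.reflectionMatrix ⇑Q v)).prod *
      ((s.1⁻¹ : GL ι F) : Matrix ι ι F) =
      ((vs.map (fun v => (s.1 : Matrix ι ι F) *ᵥ v)).map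
        (fun v => Cfsg.reflectionMatrix ⇑Q v)).prod := by
  induction vs with
  | nil =>
    simp only [List.map_nil, List.prod_nil, mul_one]
    rw [← Units.val_mul, mul_inv_cancel, Units.val_one]
  | cons v vs ih =>
    rw [List.map_cons, List.prod_cons, List.map_cons, List.map_cons, List.prod_cons,
      ← ih (fun w hw => hvs w (List.mem_cons_of_mem _ hw)),
      ← sim_conj_refl Q s v (hvs v List.mem_cons_self)]
    have h1 : ((s.1⁻¹ : GL ι F) : Matrix ι ι F) * (s.1 : Matrix ι ι F) = 1 := by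
      rw [← Units.val_mul, inv_mul_cancel, Units.val_one]
    calc (s.1 : Matrix ι ι F) * (Cfsg.reflectionMatrix (⇑Q) v *
          (vs.map fun v => Cfsg.reflectionMatrix (⇑Q) v).prod) * ((s.1⁻¹ : GL ι F) : Matrix ι ι F)
        = (s.1 : Matrix ι ι F) * Cfsg.reflectionMatrix (⇑Q) v * 1 *
          (vs.map fun v => Cfsg.reflectionMatrix (⇑Q) v).prod *
            ((s.1⁻¹ : GL ι F) : Matrix ι ι F) := by
          simp only [mul_one, mul_assoc]
      _ = _ := by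
          rw [← h1]
          simp only [mul_assoc]

/-- the commutator of a similarity `s` with an isometry which is a product of `k` reflections lies
in `Ω` iff `τ(s) ^ k` is a square -/
theorem comm_mem_omegaGL_iff (hne : ∃ v, Q v ≠ 0) (hQ : (QuadraticMap.polarBilin Q).Nondegenerate) (h2 : (2 : F) ≠ 0)
    (hcard : 2 ≤ Fintype.card ι) (s : ↥(Sim ⇑Q)) (h : GL ι F)
    (vs : List (ι → F)) (hvs : ∀ v ∈ vs, Q v ≠ 0)
    (hrep : (h : Matrix ι ι F) = (vs.map (fun v => Cfsg.reflectionMatrix ⇑Q v)).prod) :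
    s.1 * h * s.1⁻¹ * h⁻¹ ∈ Cfsg.Geo.omegaGL ⇑Q ↔
      IsSquare ((mult (⇑Q) hne s : F) ^ vs.length) := by
  set τ : F := (mult (⇑Q) hne s : F) with hτ
  have hτ0 : τ ≠ 0 := Units.ne_zero _
  have hhO : h ∈ Cfsg.isometryGroup F ⇑Q := by
    obtain ⟨h', hh'⟩ := exists_of_list Q vs hvs
    have : h = h'.1 := Units.ext (hrep.trans hh'.symm)
    rw [this]
    exact h'.2
  -- the inverse of `h`
  have hinv : ((h⁻¹ : GL ι F) : Matrix ι ι F) =
      (vs.reverse.map (fun v => Cfsg.reflectionMatrix ⇑Q v)).prod := by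
    have h1 := Cfsg.Agent.Lib.H13.OmegaSum.refl_list_mul_reverse Q vs hvs
    rw [← hrep] at h1
    have h3 : ((h⁻¹ : GL ι F) : Matrix ι ι F) * (h : Matrix ι ι F) = 1 := by
      rw [← Units.val_mul, inv_mul_cancel, Units.val_one]
    calc ((h⁻¹ : GL ι F) : Matrix ι ι F) = ((h⁻¹ : GL ι F) : Matrix ι ι F) *
          ((h : Matrix ι ι F) * (vs.reverse.map (fun v => Cfsg.reflectionMatrix ⇑Q v)).prod) := by
          rw [h1, mul_one]
      _ = _ := by rw [← mul_assoc, h3, one_mul]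
  set ws : List (ι → F) := vs.map (fun v => (s.1 : Matrix ι ι F) *ᵥ v) ++ vs.reverse with hws
  have hwsne : ∀ w ∈ ws, Q w ≠ 0 := by
    intro w hw
    rcases List.mem_append.1 hw with hw | hw
    · obtain ⟨v, hv, rfl⟩ := List.mem_map.1 hw
      rw [mult_spec (⇑Q) hne s]
      exact mul_ne_zero hτ0 (hvs v hv)
    · exact hvs w (List.mem_reverse.1 hw)
  have hrep' : ((s.1 * h * s.1⁻¹ * h⁻¹ : GL ι F) : Matrix ι ι F) =
      (ws.map (fun v => Cfsg.reflectionMatrix ⇑Q v)).prod := by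
    rw [hws, List.map_append, List.prod_append, ← sim_conj_list Q s vs hvs, ← hinv, ← hrep]
    simp only [Units.val_mul]
  have hmem : s.1 * h * s.1⁻¹ * h⁻¹ ∈ Cfsg.isometryGroup F ⇑Q :=
    mul_mem (conj_mem_iso ⇑Q s.2 hhO) (inv_mem hhO)
  rw [omegaGL_iff_list Q hQ h2 hcard _ hmem ws hwsne hrep']
  have hlen : ws.length = 2 * vs.length := by
    rw [hws, List.length_append, List.length_map, List.length_reverse]; ring
  have hprod : (ws.map (fun v => Q v)).prod =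
      τ ^ vs.length * ((vs.map (fun v => Q v)).prod * (vs.map (fun v => Q v)).prod) := by
    rw [hws, List.map_append, List.prod_append, List.map_map, List.map_reverse, List.prod_reverse]
    have h5 : ∀ l : List (ι → F), (l.map ((fun v => Q v) ∘ fun v => (s.1 : Matrix ι ι F) *ᵥ v)).prod =
        τ ^ l.length * (l.map (fun v => Q v)).prod := by
      intro l
      induction l with
      | nil => simp
      | cons v l ih =>
        rw [List.map_cons, List.prod_cons, ih, List.map_cons, List.prod_cons, List.length_cons,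
          Function.comp_apply, mult_spec (⇑Q) hne s, pow_succ]
        ring
    rw [h5]
    ring
  rw [hprod, hlen]
  have hp0 := list_prod_ne_zero Q vs hvs
  constructor
  · rintro ⟨-, hsq⟩
    rw [isSquare_mul_iff _ _ (pow_ne_zero _ hτ0) (mul_ne_zero hp0 hp0)] at hsq
    exact hsq.2 ⟨_, rfl⟩
  · intro hsq
    exact ⟨⟨vs.length, by ring⟩, hsq.mul ⟨_, rfl⟩⟩

/-- commutators of similarities with elements of `SO` lie in `Ω` -/
theorem comm_mem_omegaGL (hne : ∃ v, Q v ≠ 0) (hQ : (QuadraticMap.polarBilin Q).Nondegenerate) (h2 : (2 : F) ≠ 0)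
    (hcard : 2 ≤ Fintype.card ι) (s : ↥(Sim ⇑Q)) (h : GL ι F)
    (hh : h ∈ Cfsg.specialIsometryGL F ⇑Q) :
    s.1 * h * s.1⁻¹ * h⁻¹ ∈ Cfsg.Geo.omegaGL ⇑Q := by
  have ho := ((mem_sO_iff Q h).1 hh).1
  obtain ⟨vs, hvs, hrep⟩ := exists_refl_list Q hQ h2 h ho
  have he := (sO_iff_even Q h2 h ho vs hvs hrep).1 hh
  rw [comm_mem_omegaGL_iff Q hne hQ h2 hcard s h vs hvs hrep]
  exact he.isSquare_pow _

/-- the commutator of a similarity with non-square multiplier and a reflection is not in `Ω` -/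
theorem comm_refl_not_mem (hne : ∃ v, Q v ≠ 0) (hQ : (QuadraticMap.polarBilin Q).Nondegenerate) (h2 : (2 : F) ≠ 0)
    (hcard : 2 ≤ Fintype.card ι) (s : ↥(Sim ⇑Q)) (hs : ¬ IsSquare (mult (⇑Q) hne s : F))
    (v : ι → F) (hv : Q v ≠ 0) :
    s.1 * (reflG Q v hv).1 * s.1⁻¹ * (reflG Q v hv).1⁻¹ ∉ Cfsg.Geo.omegaGL ⇑Q := by
  rw [comm_mem_omegaGL_iff Q hne hQ h2 hcard s (reflG Q v hv).1 [v]
    (by intro w hw; rw [List.mem_singleton] at hw; rw [hw]; exact hv)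
    (by rw [reflG_val]; simp)]
  simpa using hs

end sim

end Cfsg.Agent.Lib.H11.ConfOrth
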