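import Cfsg.Agent.Lib.H11.ConfOrth6

/-!
# Conformal orthogonal groups (part 7): the sign homomorphisms on the similarity group
-/

set_option autoImplicit false

namespace Cfsg.Agent.Lib.H11.ConfOrth

open Matrix
open scoped MatrixGroups
open Cfsg.Agent.Lib.H13.HypPairs

variable {F : Type*} [Field F] {ι : Type} [Fintype ι] [DecidableEq ι]
  (Q : QuadraticForm F (ι → F)) (hne : ∃ v, Q v ≠ 0) (m : ℕ)

/-- `δ(g) = det g / τ(g) ^ m` -/
noncomputable def delta : ↥(Sim ⇑Q) →* Fˣ where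
  toFun g := Matrix.GeneralLinearGroup.det g.1 * ((mult (⇑Q) hne g) ^ m)⁻¹
  map_one' := by simp
  map_mul' g h := by
    rw [Subgroup.coe_mul, map_mul, map_mul, mul_pow, mul_inv]
    exact mul_mul_mul_comm _ _ _ _

theorem delta_apply (g : ↥(Sim ⇑Q)) :
    delta Q hne m g = Matrix.GeneralLinearGroup.det g.1 * ((mult (⇑Q) hne g) ^ m)⁻¹ := rfl

theorem delta_eq_one_iff (g : ↥(Sim ⇑Q)) :
    delta Q hne m g = 1 ↔ (g.1 : Matrix ι ι F).det = (mult (⇑Q) hne g : F) ^ m := by
  rw [delta_apply, mul_inv_eq_one]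
  constructor
  · intro h
    have := congrArg Units.val h
    rwa [Matrix.GeneralLinearGroup.val_det_apply, Units.val_pow_eq_pow_val] at this
  · intro h
    apply Units.ext
    rwa [Matrix.GeneralLinearGroup.val_det_apply, Units.val_pow_eq_pow_val]

/-- the scalar matrix as a similarity -/
def zS (c : Fˣ) : ↥(Sim ⇑Q) := ⟨Matrix.GeneralLinearGroup.scalar ι c, Zs_le_sim' Q ⟨c, rfl⟩⟩

/-- an isometry as a similarity -/
def oS (h : GL ι F) (hh : h ∈ Cfsg.isometryGroup F ⇑Q) : ↥(Sim ⇑Q) := ⟨h, iso_le_sim _ hh⟩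

theorem mult_zS (c : Fˣ) : mult (⇑Q) hne (zS Q c) = c ^ 2 :=
  mult_scalar (⇑Q) hne (hhom Q) _ c rfl

theorem delta_zS (hcard : Fintype.card ι = 2 * m) (c : Fˣ) : delta Q hne m (zS Q c) = 1 := by
  rw [delta_apply, mult_zS]
  show Matrix.GeneralLinearGroup.det (Matrix.GeneralLinearGroup.scalar ι c) * _ = 1
  rw [Matrix.GeneralLinearGroup.det_scalar, hcard, ← pow_mul, mul_inv_cancel]

theorem mult_oS (h : GL ι F) (hh : h ∈ Cfsg.isometryGroup F ⇑Q) :
    mult (⇑Q) hne (oS Q h hh) = 1 := (mult_eq_one_iff (⇑Q) hne _).2 hh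

theorem delta_oS (h : GL ι F) (hh : h ∈ Cfsg.isometryGroup F ⇑Q) :
    delta Q hne m (oS Q h hh) = Matrix.GeneralLinearGroup.det h := by
  rw [delta_apply, mult_oS, one_pow, inv_one, mul_one]
  rfl

/-- membership of `SO` in terms of the two invariants -/
theorem mem_sO_iff' (g : ↥(Sim ⇑Q)) :
    g.1 ∈ Cfsg.specialIsometryGL F ⇑Q ↔ mult (⇑Q) hne g = 1 ∧ delta Q hne m g = 1 := by
  rw [mem_sO_iff, ← mult_eq_one_iff (⇑Q) hne]
  constructor
  · rintro ⟨h1, h3⟩
    refine ⟨h1, ?_⟩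
    rw [delta_eq_one_iff, h1, Units.val_one, one_pow]
    exact h3
  · rintro ⟨h1, h3⟩
    refine ⟨h1, ?_⟩
    rw [delta_eq_one_iff, h1, Units.val_one, one_pow] at h3
    exact h3

theorem delta_sq (hQ : (QuadraticMap.polarBilin Q).Nondegenerate)
    (hcard : Fintype.card ι = 2 * m) (g : ↥(Sim ⇑Q)) : delta Q hne m g * delta Q hne m g = 1 := by
  have h1 := det_sq Q hQ hne g
  rw [hcard] at h1
  rw [delta_apply]
  apply Units.ext
  simp only [Units.val_mul, Units.val_inv_eq_inv_val, Units.val_pow_eq_pow_val, Units.val_one,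
    Matrix.GeneralLinearGroup.val_det_apply]
  have hτ0 : (mult (⇑Q) hne g : F) ≠ 0 := Units.ne_zero _
  have h3 : (g.1 : Matrix ι ι F).det * (g.1 : Matrix ι ι F).det =
      (mult (⇑Q) hne g : F) ^ m * (mult (⇑Q) hne g : F) ^ m := by
    rw [← sq, h1, pow_mul', sq]
  field_simp
  rw [sq, sq, h3]

theorem delta_cases (hQ : (QuadraticMap.polarBilin Q).Nondegenerate)
    (hcard : Fintype.card ι = 2 * m) (g : ↥(Sim ⇑Q)) :
    delta Q hne m g = 1 ∨ delta Q hne m g = -1 := by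
  have h1 := congrArg Units.val (delta_sq Q hne m hQ hcard g)
  rw [Units.val_mul, Units.val_one, mul_self_eq_one_iff] at h1
  rcases h1 with h1 | h1
  · left; exact Units.ext h1
  · right; apply Units.ext; rw [h1]; simp

/-- the determinant sign as a homomorphism to `ℤˣ` -/
noncomputable def dsign (hQ : (QuadraticMap.polarBilin Q).Nondegenerate) (h2 : (2 : F) ≠ 0)
    (hcard : Fintype.card ι = 2 * m) : ↥(Sim ⇑Q) →* ℤˣ := by
  classical
  exact MonoidHom.mk' (fun g => if delta Q hne m g = 1 then 1 else -1) (by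
    intro g h
    have hn : (-1 : Fˣ) ≠ 1 := by
      intro h
      have := congrArg Units.val h
      simp only [Units.val_neg, Units.val_one] at this
      exact neg_one_ne_one h2 this
    simp only [map_mul]
    rcases delta_cases Q hne m hQ hcard g with h1 | h1 <;>
    rcases delta_cases Q hne m hQ hcard h with h3 | h3 <;>
    simp [h1, h3, hn])

theorem dsign_eq_one_iff (hQ : (QuadraticMap.polarBilin Q).Nondegenerate) (h2 : (2 : F) ≠ 0)
    (hcard : Fintype.card ι = 2 * m) (g : ↥(Sim ⇑Q)) :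
    dsign Q hne m hQ h2 hcard g = 1 ↔ delta Q hne m g = 1 := by
  classical
  show (if delta Q hne m g = 1 then (1 : ℤˣ) else -1) = 1 ↔ _
  by_cases h : delta Q hne m g = 1
  · rw [if_pos h]; exact ⟨fun _ => h, fun _ => rfl⟩
  · rw [if_neg h]
    exact ⟨fun h' => absurd h' (by decide), fun h' => absurd h' h⟩


section psi

variable [Fintype F] [DecidableEq F]

/-- the homomorphism onto the Klein four-group -/
noncomputable def psi (hQ : (QuadraticMap.polarBilin Q).Nondegenerate) (h2 : (2 : F) ≠ 0)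
    (hcard : Fintype.card ι = 2 * m) : ↥(Sim ⇑Q) →* ℤˣ × ℤˣ :=
  ((quadraticChar F).toUnitHom.comp (mult (⇑Q) hne)).prod (dsign Q hne m hQ h2 hcard)

theorem qc_eq_one_iff (u : Fˣ) : (quadraticChar F).toUnitHom u = 1 ↔ IsSquare (u : F) := by
  rw [← quadraticChar_one_iff_isSquare (Units.ne_zero u), ← MulChar.coe_toUnitHom]
  constructor
  · intro h; rw [h]; rfl
  · intro h; exact Units.ext h

theorem psi_eq_one_iff (hQ : (QuadraticMap.polarBilin Q).Nondegenerate) (h2 : (2 : F) ≠ 0)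
    (hcard : Fintype.card ι = 2 * m) (g : ↥(Sim ⇑Q)) :
    psi Q hne m hQ h2 hcard g = 1 ↔
      IsSquare (mult (⇑Q) hne g : F) ∧ delta Q hne m g = 1 := by
  unfold psi
  rw [MonoidHom.prod_apply, Prod.mk_eq_one, MonoidHom.comp_apply, qc_eq_one_iff,
    dsign_eq_one_iff]

/-- the kernel of `psi` is `Z · SO` -/
theorem psi_eq_one_iff' (hQ : (QuadraticMap.polarBilin Q).Nondegenerate) (h2 : (2 : F) ≠ 0)
    (hcard : Fintype.card ι = 2 * m) (g : ↥(Sim ⇑Q)) :
    psi Q hne m hQ h2 hcard g = 1 ↔ ∃ c : Fˣ, ∃ h ∈ Cfsg.specialIsometryGL F ⇑Q,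
      g.1 = Matrix.GeneralLinearGroup.scalar ι c * h := by
  rw [psi_eq_one_iff]
  constructor
  · rintro ⟨⟨r, hr⟩, hd⟩
    have hr0 : r ≠ 0 := by
      rintro rfl
      rw [mul_zero] at hr
      exact Units.ne_zero _ hr
    set c : Fˣ := Units.mk0 r hr0 with hc
    have hmc : mult (⇑Q) hne g = c ^ 2 := by
      apply Units.ext
      rw [hr, Units.val_pow_eq_pow_val, hc, Units.val_mk0, sq]
    refine ⟨c, ((zS Q c)⁻¹ * g).1, ?_, ?_⟩
    · rw [mem_sO_iff' Q hne m, map_mul, map_mul, map_inv, map_inv, mult_zS, delta_zS Q hne m hcard,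
        hmc, hd]
      simp
    · rw [Subgroup.coe_mul, Subgroup.coe_inv]
      show g.1 = Matrix.GeneralLinearGroup.scalar ι c * ((Matrix.GeneralLinearGroup.scalar ι c)⁻¹ * g.1)
      rw [mul_inv_cancel_left]
  · rintro ⟨c, h, hh, hg⟩
    have hhO := ((mem_sO_iff Q h).1 hh).1
    have hgs : g = zS Q c * oS Q h hhO := Subtype.ext hg
    have h1 := (mem_sO_iff' Q hne m (oS Q h hhO)).1 hh
    rw [hgs, map_mul, map_mul, mult_zS, delta_zS Q hne m hcard, h1.1, h1.2, mul_one, mul_one]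
    refine ⟨?_, rfl⟩
    rw [Units.val_pow_eq_pow_val, sq]
    exact ⟨_, rfl⟩

/-- `psi` is surjective -/
theorem psi_surjective (hQ : (QuadraticMap.polarBilin Q).Nondegenerate) (h2 : (2 : F) ≠ 0)
    (hcard : Fintype.card ι = 2 * m) (g₀ : ↥(Sim ⇑Q))
    (hg₀ : ¬ IsSquare (mult (⇑Q) hne g₀ : F)) (hd₀ : delta Q hne m g₀ = 1) :
    Function.Surjective (psi Q hne m hQ h2 hcard) := by
  obtain ⟨v, hv⟩ := id hne
  set r : ↥(Sim ⇑Q) := oS Q (reflG Q v hv).1 (reflG Q v hv).2 with hr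
  have h1 : psi Q hne m hQ h2 hcard g₀ = (-1, 1) := by
    unfold psi
    rw [MonoidHom.prod_apply, MonoidHom.comp_apply, (dsign_eq_one_iff Q hne m hQ h2 hcard g₀).2 hd₀]
    congr 1
    rcases Int.units_eq_one_or ((quadraticChar F).toUnitHom (mult (⇑Q) hne g₀)) with h | h
    · exact absurd ((qc_eq_one_iff _).1 h) hg₀
    · exact h
  have h3 : psi Q hne m hQ h2 hcard r = (1, -1) := by
    unfold psi
    rw [MonoidHom.prod_apply, MonoidHom.comp_apply, hr, mult_oS, map_one]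
    congr 1
    rcases Int.units_eq_one_or (dsign Q hne m hQ h2 hcard (oS Q (reflG Q v hv).1 (reflG Q v hv).2))
      with h | h
    · exfalso
      rw [dsign_eq_one_iff, delta_oS] at h
      have h4 := congrArg Units.val h
      rw [Matrix.GeneralLinearGroup.val_det_apply, reflG_val,
        Cfsg.Agent.Lib.H13.PlusTS.det_reflectionMatrix Q v hv, Units.val_one] at h4
      exact neg_one_ne_one h2 h4
    · exact h
  rintro ⟨a, b⟩
  rcases Int.units_eq_one_or a with rfl | rfl <;> rcases Int.units_eq_one_or b with rfl | rfl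
  · exact ⟨1, map_one _⟩
  · exact ⟨r, h3⟩
  · exact ⟨g₀, h1⟩
  · refine ⟨g₀ * r, ?_⟩
    rw [map_mul, h1, h3]
    rfl

end psi

end Cfsg.Agent.Lib.H11.ConfOrth
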