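import Cfsg.Agent.Lib.H11.ConfOrth7

/-!
# Conformal orthogonal groups (part 8): the structure of `PGO / PSO`, `PGO / PΩ`, `PSO / PΩ`
-/

set_option autoImplicit false

namespace Cfsg.Agent.Lib.H11.ConfOrth

open Matrix
open scoped MatrixGroups
open Cfsg.Agent.Lib.H13.HypPairs

section general

theorem inn_normal (G : Type*) [Group G] : (Cfsg.Inn G).Normal := by
  constructor
  intro n hn φ
  obtain ⟨h, rfl⟩ := hn
  refine ⟨φ h, ?_⟩
  ext x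
  simp [MulAut.conj_apply]

theorem relIndex_of_hom {M B : Type*} [Group M] [Group B] (A C : Subgroup M)
    (φ : ↥A →* B) (hφ : Function.Surjective φ) (hker : φ.ker = C.subgroupOf A) :
    C.relIndex A = Nat.card B := by
  unfold Subgroup.relIndex
  rw [← hker, Subgroup.index_ker, MonoidHom.range_eq_top.2 hφ, Subgroup.card_top]

theorem relIndex_of_homs {M B₁ B₂ : Type*} [Group M] [Group B₁] [Group B₂] (A C D : Subgroup M)
    (hDC : D ≤ C) (hCA : C ≤ A)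
    (h₁ : ∃ φ : ↥A →* B₁, Function.Surjective φ ∧ φ.ker = C.subgroupOf A)
    (h₂ : ∃ φ : ↥A →* B₂, Function.Surjective φ ∧ φ.ker = D.subgroupOf A) :
    D.relIndex C * Nat.card B₁ = Nat.card B₂ := by
  obtain ⟨φ₁, hs₁, hk₁⟩ := h₁
  obtain ⟨φ₂, hs₂, hk₂⟩ := h₂
  rw [← relIndex_of_hom A C φ₁ hs₁ hk₁, ← relIndex_of_hom A D φ₂ hs₂ hk₂]
  exact Subgroup.relIndex_mul_relIndex D C A hDC hCA

end general

variable {F : Type*} [Field F] [Fintype F] [DecidableEq F] {ι : Type} [Fintype ι] [DecidableEq ι]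
  (Q : QuadraticForm F (ι → F))

omit [Fintype F] [DecidableEq F] in
theorem exists_ne_of_nondeg (hQ : (QuadraticMap.polarBilin Q).Nondegenerate)
    (hcard : 0 < Fintype.card ι) : ∃ v, Q v ≠ 0 := by
  by_contra hcon
  push Not at hcon
  obtain ⟨i⟩ := Fintype.card_pos_iff.mp hcard
  have h1 : (Pi.single i (1 : F) : ι → F) = 0 := by
    apply hQ.1
    intro y
    show QuadraticMap.polar (⇑Q) _ _ = 0
    unfold QuadraticMap.polar
    rw [hcon, hcon, hcon]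
    ring
  have := congrFun h1 i
  simp at this

section main

variable (hQ : (QuadraticMap.polarBilin Q).Nondegenerate) (h2 : (2 : F) ≠ 0) (m : ℕ)
  (hm : 4 ≤ m) (hcard : Fintype.card ι = 2 * m) (hne : ∃ v, Q v ≠ 0)

/-- `-1` as an element of `GL` -/
abbrev negOne (ι : Type) [Fintype ι] [DecidableEq ι] (F : Type*) [Field F] : GL ι F :=
  Matrix.GeneralLinearGroup.scalar ι (-1 : Fˣ)

omit [Fintype F] [DecidableEq F] in
include hcard hne in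
theorem negOne_mem_sO : negOne ι F ∈ Cfsg.specialIsometryGL F ⇑Q := by
  have := (mem_sO_iff' Q hne m (zS Q (-1))).2 ⟨by rw [mult_zS]; simp, delta_zS Q hne m hcard _⟩
  exact this

omit [DecidableEq F] in
include hQ h2 hm hcard hne in
theorem mem_or_neg_mem (hneg : negOne ι F ∉ Cfsg.Geo.omegaGL ⇑Q) (h : GL ι F)
    (hh : h ∈ Cfsg.specialIsometryGL F ⇑Q) :
    h ∈ Cfsg.Geo.omegaGL ⇑Q ∨ negOne ι F * h ∈ Cfsg.Geo.omegaGL ⇑Q := by
  by_cases h1 : h ∈ Cfsg.Geo.omegaGL ⇑Q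
  · exact Or.inl h1
  · right
    rw [mul_mem_omegaGL_iff Q hQ h2 (by omega) _ _ (negOne_mem_sO Q m hcard hne) hh]
    exact ⟨fun h3 => absurd h3 hneg, fun h3 => absurd h3 h1⟩

omit [DecidableEq F] in
include hQ h2 hm hcard hne in
theorem scalar_mul_mem (hneg : negOne ι F ∈ Cfsg.Geo.omegaGL ⇑Q) (c : Fˣ) (ω : GL ι F)
    (hω : ω ∈ Cfsg.Geo.omegaGL ⇑Q)
    (hc : Matrix.GeneralLinearGroup.scalar ι c * ω ∈ Cfsg.specialIsometryGL F ⇑Q) :
    Matrix.GeneralLinearGroup.scalar ι c * ω ∈ Cfsg.Geo.omegaGL ⇑Q := by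
  have hωs := omegaGL_le_sO Q hQ h2 (by omega) hω
  have h1 : Matrix.GeneralLinearGroup.scalar ι c ∈ Cfsg.specialIsometryGL F ⇑Q := by
    have := mul_mem hc (inv_mem hωs)
    rwa [mul_inv_cancel_right] at this
  have h3 := ((mem_sO_iff' Q hne m (zS Q c)).1 h1).1
  rw [mult_zS] at h3
  have h4 : (c : F) * (c : F) = 1 := by
    have := congrArg Units.val h3
    rwa [Units.val_pow_eq_pow_val, Units.val_one, sq] at this
  rcases mul_self_eq_one_iff.1 h4 with h5 | h5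
  · have : c = 1 := Units.ext h5
    rw [this, map_one, one_mul]
    exact hω
  · have : c = -1 := by
      apply Units.ext
      rw [h5]; simp
    rw [this]
    exact mul_mem hneg hω

omit [DecidableEq F] in
include hQ h2 hm hcard hne in
/-- when `-1 ∉ Ω`, `Z · SO = Z · Ω` -/
theorem zso_iff_zomega (hneg : negOne ι F ∉ Cfsg.Geo.omegaGL ⇑Q) (g : GL ι F) :
    (∃ c : Fˣ, ∃ h ∈ Cfsg.specialIsometryGL F ⇑Q, g = Matrix.GeneralLinearGroup.scalar ι c * h) ↔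
    (∃ c : Fˣ, ∃ ω ∈ Cfsg.Geo.omegaGL ⇑Q, g = Matrix.GeneralLinearGroup.scalar ι c * ω) := by
  constructor
  · rintro ⟨c, h, hh, rfl⟩
    rcases mem_or_neg_mem Q hQ h2 m hm hcard hne hneg h hh with h1 | h1
    · exact ⟨c, h, h1, rfl⟩
    · refine ⟨c * (-1), negOne ι F * h, h1, ?_⟩
      rw [map_mul, mul_assoc, ← mul_assoc (Matrix.GeneralLinearGroup.scalar ι (-1 : Fˣ)),
        ← map_mul]
      simp
  · rintro ⟨c, ω, hω, rfl⟩
    exact ⟨c, ω, omegaGL_le_sO Q hQ h2 (by omega) hω, rfl⟩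

omit [DecidableEq F] in
include hQ h2 hm hcard in
theorem ker_Phi_main : (Phi ⇑Q).ker = (Zs ι F).subgroupOf (Sim ⇑Q) :=
  ker_Phi_gen Q hQ h2 (by omega)

omit [Fintype F] [DecidableEq F] in
theorem pso_le_pgo : Cfsg.psoAut F ⇑Q ≤ Cfsg.pgoAut F ⇑Q := by
  rw [psoAut_eq, pgoAut_eq]
  exact Subgroup.map_le_range _ _

omit [Fintype F] [DecidableEq F] in
theorem inn_le_pgo : Cfsg.Inn (Cfsg.POmega F ⇑Q) ≤ Cfsg.pgoAut F ⇑Q := by
  rw [inn_eq, pgoAut_eq]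
  exact Subgroup.map_le_range _ _

omit [DecidableEq F] in
include hQ h2 hm hcard in
theorem inn_le_pso : Cfsg.Inn (Cfsg.POmega F ⇑Q) ≤ Cfsg.psoAut F ⇑Q := by
  rw [inn_eq, psoAut_eq]
  apply Subgroup.map_mono
  intro g hg
  rw [Subgroup.mem_subgroupOf] at hg ⊢
  exact omegaGL_le_sO Q hQ h2 (by omega) hg

include hQ h2 hm hcard hne in
/-- `PGO / PSO` is a Klein four-group -/
theorem pgo_pso (g₀ : ↥(Sim ⇑Q)) (hg₀ : ¬ IsSquare (mult (⇑Q) hne g₀ : F))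
    (hd₀ : delta Q hne m g₀ = 1) :
    ∃ φ : ↥(Cfsg.pgoAut F ⇑Q) →* Multiplicative (ZMod 2 × ZMod 2), Function.Surjective φ ∧
      φ.ker = (Cfsg.psoAut F ⇑Q).subgroupOf (Cfsg.pgoAut F ⇑Q) := by
  obtain ⟨κ⟩ := exists_klein_iso
  apply exists_hom_comap (Phi ⇑Q) (κ.toMonoidHom.comp (psi Q hne m hQ h2 hcard)) _ _ _
    (pgoAut_eq ⇑Q) (pso_le_pgo Q)
  · ext g
    rw [MonoidHom.mem_ker, MonoidHom.comp_apply, MulEquiv.coe_toMonoidHom,
      MulEquiv.map_eq_one_iff, psi_eq_one_iff', psoAut_eq,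
      mem_comap_map Q (ker_Phi_main Q hQ h2 m hm hcard)]
  · intro b
    obtain ⟨x, rfl⟩ := κ.surjective b
    obtain ⟨g, rfl⟩ := psi_surjective Q hne m hQ h2 hcard g₀ hg₀ hd₀ x
    exact ⟨g, rfl⟩

include hQ h2 hm hcard hne in
/-- `PGO / PΩ` is a Klein four-group when `-1 ∉ Ω` -/
theorem pgo_inn_klein (hneg : negOne ι F ∉ Cfsg.Geo.omegaGL ⇑Q) (g₀ : ↥(Sim ⇑Q))
    (hg₀ : ¬ IsSquare (mult (⇑Q) hne g₀ : F)) (hd₀ : delta Q hne m g₀ = 1) :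
    ∃ φ : ↥(Cfsg.pgoAut F ⇑Q) →* Multiplicative (ZMod 2 × ZMod 2), Function.Surjective φ ∧
      φ.ker = (Cfsg.Inn (Cfsg.POmega F ⇑Q)).subgroupOf (Cfsg.pgoAut F ⇑Q) := by
  obtain ⟨κ⟩ := exists_klein_iso
  apply exists_hom_comap (Phi ⇑Q) (κ.toMonoidHom.comp (psi Q hne m hQ h2 hcard)) _ _ _
    (pgoAut_eq ⇑Q) (inn_le_pgo Q)
  · ext g
    rw [MonoidHom.mem_ker, MonoidHom.comp_apply, MulEquiv.coe_toMonoidHom,
      MulEquiv.map_eq_one_iff, psi_eq_one_iff', inn_eq,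
      mem_comap_map Q (ker_Phi_main Q hQ h2 m hm hcard),
      zso_iff_zomega Q hQ h2 m hm hcard hne hneg]
  · intro b
    obtain ⟨x, rfl⟩ := κ.surjective b
    obtain ⟨g, rfl⟩ := psi_surjective Q hne m hQ h2 hcard g₀ hg₀ hd₀ x
    exact ⟨g, rfl⟩

include hQ h2 hm hcard hne in
/-- `PGO / PΩ` is dihedral of order eight when `-1 ∈ Ω` -/
theorem pgo_inn_d4 (hneg : negOne ι F ∈ Cfsg.Geo.omegaGL ⇑Q) (g₀ : ↥(Sim ⇑Q))
    (hg₀ : ¬ IsSquare (mult (⇑Q) hne g₀ : F)) (hd₀ : delta Q hne m g₀ = 1) :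
    ∃ φ : ↥(Cfsg.pgoAut F ⇑Q) →* DihedralGroup 4, Function.Surjective φ ∧
      φ.ker = (Cfsg.Inn (Cfsg.POmega F ⇑Q)).subgroupOf (Cfsg.pgoAut F ⇑Q) := by
  have hker := ker_Phi_main Q hQ h2 m hm hcard
  have hc2 : 2 ≤ Fintype.card ι := by omega
  obtain ⟨v, hv⟩ := id hne
  set r : ↥(Sim ⇑Q) := oS Q (reflG Q v hv).1 (reflG Q v hv).2 with hr
  have := inn_normal (Cfsg.POmega F ⇑Q)
  have hK4 : Nat.card (ℤˣ × ℤˣ) = 4 := by
    rw [Nat.card_eq_fintype_card]; rfl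
  have hK : ∀ k : ℤˣ × ℤˣ, k * k = 1 := by decide
  -- the commutator
  set z₀ : ↥(Sim ⇑Q) := g₀ * r * g₀⁻¹ * r⁻¹ with hz₀
  have hz₀val : z₀.1 = g₀.1 * (reflG Q v hv).1 * g₀.1⁻¹ * (reflG Q v hv).1⁻¹ := rfl
  have hz₀not : z₀.1 ∉ Cfsg.Geo.omegaGL ⇑Q := by
    rw [hz₀val]
    exact comm_refl_not_mem Q hne hQ h2 hc2 g₀ hg₀ v hv
  have hz₀so : z₀.1 ∈ Cfsg.specialIsometryGL F ⇑Q := by
    rw [mem_sO_iff' Q hne m, hz₀]
    simp only [map_mul, map_inv]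
    constructor
    · rw [mul_comm (mult (⇑Q) hne g₀), mul_inv_cancel_right, mul_inv_cancel]
    · rw [mul_comm (delta Q hne m g₀), mul_inv_cancel_right, mul_inv_cancel]
  apply exists_hom_d4 (Phi ⇑Q) (psi Q hne m hQ h2 hcard) hK4 hK
    (psi_surjective Q hne m hQ h2 hcard g₀ hg₀ hd₀) _ _ (pgoAut_eq ⇑Q) (inn_le_pgo Q) _ g₀ r
  · -- `r * r = 1`
    have : r * r = 1 := by
      apply Subtype.ext
      show (reflG Q v hv).1 * (reflG Q v hv).1 = 1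
      rw [← Subgroup.coe_mul, Cfsg.Agent.Lib.H13.PlusLevi.reflG_mul_self, Subgroup.coe_one]
    rw [this, map_one]
    exact one_mem _
  · -- the commutator is not inner
    intro hmem
    have h1 : z₀ ∈ (Cfsg.Inn (Cfsg.POmega F ⇑Q)).comap (Phi ⇑Q) := hmem
    rw [inn_eq, mem_comap_map Q hker] at h1
    obtain ⟨c, ω, hω, hzc⟩ := h1
    apply hz₀not
    rw [hzc]
    apply scalar_mul_mem Q hQ h2 m hm hcard hne hneg c ω hω
    rw [← hzc]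
    exact hz₀so
  · -- the kernel of `psi`
    intro g hg
    rw [psi_eq_one_iff'] at hg
    obtain ⟨c, h, hh, hgc⟩ := hg
    by_cases h1 : h ∈ Cfsg.Geo.omegaGL ⇑Q
    · left
      have : g ∈ (Cfsg.Inn (Cfsg.POmega F ⇑Q)).comap (Phi ⇑Q) := by
        rw [inn_eq, mem_comap_map Q hker]
        exact ⟨c, h, h1, hgc⟩
      exact this
    · right
      have : g * z₀⁻¹ ∈ (Cfsg.Inn (Cfsg.POmega F ⇑Q)).comap (Phi ⇑Q) := by
        rw [inn_eq, mem_comap_map Q hker]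
        refine ⟨c, h * z₀.1⁻¹, ?_, ?_⟩
        · rw [mul_mem_omegaGL_iff Q hQ h2 hc2 _ _ hh (inv_mem hz₀so)]
          constructor
          · intro h3; exact absurd h3 h1
          · intro h3
            exact absurd (by simpa using inv_mem h3) hz₀not
        · rw [Subgroup.coe_mul, Subgroup.coe_inv, hgc, mul_assoc]
      exact this
  · -- the preimage of `Inn` lies in the kernel
    intro g hg
    rw [inn_eq, mem_comap_map Q hker] at hg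
    obtain ⟨c, ω, hω, hgc⟩ := hg
    rw [MonoidHom.mem_ker, psi_eq_one_iff']
    exact ⟨c, ω, omegaGL_le_sO Q hQ h2 hc2 hω, hgc⟩

include hQ h2 hm hcard hne in
/-- `PSO = PΩ` when `-1 ∉ Ω` -/
theorem relIndex_eq_one (hneg : negOne ι F ∉ Cfsg.Geo.omegaGL ⇑Q) (g₀ : ↥(Sim ⇑Q))
    (hg₀ : ¬ IsSquare (mult (⇑Q) hne g₀ : F)) (hd₀ : delta Q hne m g₀ = 1) :
    (Cfsg.Inn (Cfsg.POmega F ⇑Q)).relIndex (Cfsg.psoAut F ⇑Q) = 1 := by
  have h1 := relIndex_of_homs (Cfsg.pgoAut F ⇑Q) (Cfsg.psoAut F ⇑Q) (Cfsg.Inn (Cfsg.POmega F ⇑Q))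
    (inn_le_pso Q hQ h2 m hm hcard) (pso_le_pgo Q)
    (pgo_pso Q hQ h2 m hm hcard hne g₀ hg₀ hd₀)
    (pgo_inn_klein Q hQ h2 m hm hcard hne hneg g₀ hg₀ hd₀)
  have h4 : Nat.card (Multiplicative (ZMod 2 × ZMod 2)) = 4 := by
    rw [Nat.card_eq_fintype_card]; rfl
  rw [h4] at h1
  omega

include hQ h2 hm hcard hne in
/-- `PΩ` has index two in `PSO` when `-1 ∈ Ω` -/
theorem relIndex_eq_two (hneg : negOne ι F ∈ Cfsg.Geo.omegaGL ⇑Q) (g₀ : ↥(Sim ⇑Q))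
    (hg₀ : ¬ IsSquare (mult (⇑Q) hne g₀ : F)) (hd₀ : delta Q hne m g₀ = 1) :
    (Cfsg.Inn (Cfsg.POmega F ⇑Q)).relIndex (Cfsg.psoAut F ⇑Q) = 2 := by
  have h1 := relIndex_of_homs (Cfsg.pgoAut F ⇑Q) (Cfsg.psoAut F ⇑Q) (Cfsg.Inn (Cfsg.POmega F ⇑Q))
    (inn_le_pso Q hQ h2 m hm hcard) (pso_le_pgo Q)
    (pgo_pso Q hQ h2 m hm hcard hne g₀ hg₀ hd₀)
    (pgo_inn_d4 Q hQ h2 m hm hcard hne hneg g₀ hg₀ hd₀)
  have h4 : Nat.card (Multiplicative (ZMod 2 × ZMod 2)) = 4 := by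
    rw [Nat.card_eq_fintype_card]; rfl
  rw [h4, DihedralGroup.nat_card] at h1
  omega

end main

end Cfsg.Agent.Lib.H11.ConfOrth
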