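import Mathlib

set_option autoImplicit false
set_option linter.dupNamespace false

/-!
# The commutant of a 3 × 3 matrix with a cyclic vector (helper11 for helper3, S3670, piece CYC)
-/

namespace Cfsg.Agent.Lib.H11.DG

open Matrix

theorem cyc_mulVec_eq_zero {F : Type*} [Field F] (g D : Matrix (Fin 3) (Fin 3) F) (v : Fin 3 → F)
    (hv : (Matrix.of ![v, g.mulVec v, (g * g).mulVec v]).det ≠ 0)
    (h0 : D *ᵥ v = 0) (h1 : D *ᵥ (g *ᵥ v) = 0) (h2 : D *ᵥ ((g * g) *ᵥ v) = 0) : D = 0 := by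
  set M : Matrix (Fin 3) (Fin 3) F := Matrix.of ![v, g.mulVec v, (g * g).mulVec v] with hM
  have hrow : ∀ k, D *ᵥ (M k) = 0 := by
    intro k
    fin_cases k
    · exact h0
    · exact h1
    · exact h2
  have hDM : D * Mᵀ = 0 := by
    ext i k
    have := congrFun (hrow k) i
    rw [Matrix.mul_apply]
    simpa [Matrix.mulVec, dotProduct] using this
  have hu : IsUnit Mᵀ.det := by
    rw [Matrix.det_transpose]
    exact isUnit_iff_ne_zero.2 hv
  calc D = D * (Mᵀ * Mᵀ⁻¹) := by rw [Matrix.mul_nonsing_inv _ hu, mul_one]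
    _ = (D * Mᵀ) * Mᵀ⁻¹ := by rw [mul_assoc]
    _ = 0 := by rw [hDM, zero_mul]

theorem commute_of_cyclic {F : Type*} [Field F] (g h : Matrix (Fin 3) (Fin 3) F) (v : Fin 3 → F)
    (hv : (Matrix.of ![v, g.mulVec v, (g * g).mulVec v]).det ≠ 0) (hc : g * h = h * g) :
    ∃ a b c : F, h = a • (1 : Matrix (Fin 3) (Fin 3) F) + b • g + c • (g * g) := by
  set M : Matrix (Fin 3) (Fin 3) F := Matrix.of ![v, g.mulVec v, (g * g).mulVec v] with hM
  have hu : IsUnit Mᵀ.det := by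
    rw [Matrix.det_transpose]
    exact isUnit_iff_ne_zero.2 hv
  set c : Fin 3 → F := Mᵀ⁻¹ *ᵥ (h *ᵥ v) with hcdef
  have hcv : Mᵀ *ᵥ c = h *ᵥ v := by
    rw [hcdef, Matrix.mulVec_mulVec, Matrix.mul_nonsing_inv _ hu, Matrix.one_mulVec]
  have hexp : Mᵀ *ᵥ c = c 0 • v + c 1 • (g *ᵥ v) + c 2 • ((g * g) *ᵥ v) := by
    funext i
    have e : (Mᵀ *ᵥ c) i = M 0 i * c 0 + M 1 i * c 1 + M 2 i * c 2 := by
      rw [Matrix.mulVec, dotProduct, Fin.sum_univ_three]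
      rfl
    have m0 : M 0 = v := rfl
    have m1 : M 1 = g *ᵥ v := rfl
    have m2 : M 2 = (g * g) *ᵥ v := rfl
    rw [e, m0, m1, m2]
    simp only [Pi.add_apply, Pi.smul_apply, smul_eq_mul]
    ring
  refine ⟨c 0, c 1, c 2, ?_⟩
  set p : Matrix (Fin 3) (Fin 3) F := c 0 • (1 : Matrix (Fin 3) (Fin 3) F) + c 1 • g + c 2 • (g * g)
    with hp
  have hpv : p *ᵥ v = h *ᵥ v := by
    rw [← hcv, hexp, hp, Matrix.add_mulVec, Matrix.add_mulVec, Matrix.smul_mulVec,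
      Matrix.smul_mulVec, Matrix.smul_mulVec, Matrix.one_mulVec]
  have hpg : g * p = p * g := by
    rw [hp]
    simp only [mul_add, add_mul, Matrix.mul_smul, Matrix.smul_mul, mul_one, one_mul, mul_assoc]
  have hDg : g * (h - p) = (h - p) * g := by
    rw [mul_sub, sub_mul, hc, hpg]
  have h0 : (h - p) *ᵥ v = 0 := by
    rw [Matrix.sub_mulVec, hpv, sub_self]
  have h1 : (h - p) *ᵥ (g *ᵥ v) = 0 := by
    rw [Matrix.mulVec_mulVec, ← hDg, ← Matrix.mulVec_mulVec, h0, Matrix.mulVec_zero]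
  have h2 : (h - p) *ᵥ ((g * g) *ᵥ v) = 0 := by
    rw [Matrix.mulVec_mulVec, ← mul_assoc, ← hDg, mul_assoc, ← hDg, ← mul_assoc,
      ← Matrix.mulVec_mulVec, h0, Matrix.mulVec_zero]
  have := cyc_mulVec_eq_zero g (h - p) v hv h0 h1 h2
  exact sub_eq_zero.1 this

end Cfsg.Agent.Lib.H11.DG
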