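import Mathlib
import Cfsg.Prelude.Def_Classical
import Cfsg.Agent.Lib.H11.EOB5
import Cfsg.Agent.Lib.H13.Disc
import Cfsg.Agent.Lib.H29.QuadOdd

/-!
# Element order bounds, part 6: orthogonal groups (helper11)
-/

set_option autoImplicit false

namespace Cfsg.Agent.Lib.H11.EOB

open Matrix

variable {F : Type*} [Field F]

/-- an isometry of `Q` preserves the Gram matrix of the polar form -/
theorem isometry_form {ι : Type} [Fintype ι] [DecidableEq ι] (Q : (ι → F) → F) (G : Matrix ι ι F)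
    (hpol : ∀ u v, QuadraticMap.polar Q u v = Matrix.toBilin' G u v)
    (g : Matrix.GeneralLinearGroup ι F) (hg : g ∈ Cfsg.isometryGroup F Q) :
    (g.val)ᵀ * G * g.val = G := by
  have hQ : ∀ u, Q (g.val *ᵥ u) = Q u := fun u => hg u u
  have h1 : ∀ u v, Matrix.toBilin' G (g.val *ᵥ u) (g.val *ᵥ v) = Matrix.toBilin' G u v := by
    intro u v
    rw [← hpol, ← hpol]
    unfold QuadraticMap.polar
    rw [← Matrix.mulVec_add, hQ, hQ, hQ]
  have h2 := Matrix.toBilin'_comp G g.val g.val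
  have h3 : Matrix.toBilin' ((g.val)ᵀ * G * g.val) = Matrix.toBilin' G := by
    rw [← h2]
    apply LinearMap.ext₂
    intro u v
    rw [LinearMap.BilinForm.comp_apply, Matrix.toLin'_apply, Matrix.toLin'_apply]
    exact h1 u v
  exact Matrix.toBilin'.injective h3

variable [Fintype F]

/-- generic bound for `PΩ(Q)` -/
theorem POmega_bound {ι : Type} [Fintype ι] [DecidableEq ι] (Q : (ι → F) → F) (G : Matrix ι ι F)
    (hG : IsUnit G) (hpol : ∀ u v, QuadraticMap.polar Q u v = Matrix.toBilin' G u v) (m : ℕ)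
    (hn : Fintype.card ι ≤ 2 * m + 1) (h2 : ¬ Odd (Fintype.card F) → Fintype.card ι ≤ 2 * m)
    (h3 : Fintype.card ι = 2 * m + 1 → 3 ≤ m) (g : Cfsg.POmega F Q) :
    (Fintype.card F - 1) * orderOf g ≤ Fintype.card F ^ (m + 1) := by
  classical
  obtain ⟨a, rfl⟩ := QuotientGroup.mk_surjective g
  obtain ⟨p, hp⟩ := CharP.exists F
  have : Fact p.Prime := ⟨CharP.char_is_prime F p⟩
  have h := isometry_form Q G hpol a.val.val a.val.2
  have hp2 : p = 2 → Fintype.card ι ≤ 2 * m := by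
    intro hp2
    apply h2
    obtain ⟨k, -, hk⟩ := FiniteField.card F p
    rw [hk, hp2]
    rw [Nat.not_odd_iff_even]
    exact (Nat.even_pow.mpr ⟨by decide, k.pos.ne'⟩)
  obtain ⟨N, hN1, hN2, hN3⟩ := pow_eq_of_form (a.val.val : Matrix ι ι F) G hG h p m hn hp2 h3
  let φ : ↥(Cfsg.Omega F Q) →* Matrix ι ι F :=
    (Units.coeHom (Matrix ι ι F)).comp ((Cfsg.isometryGroup F Q).subtype.comp (Cfsg.Omega F Q).subtype)
  have hφ : Function.Injective φ := by
    intro x y hxy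
    apply Subtype.ext
    apply Subtype.ext
    apply Units.ext
    exact hxy
  have hle := orderOf_mk_le φ hφ a N hN1 hN3
  calc (Fintype.card F - 1) * orderOf (QuotientGroup.mk a : Cfsg.POmega F Q)
      ≤ (Fintype.card F - 1) * N := Nat.mul_le_mul_left _ hle
    _ ≤ Fintype.card F ^ (m + 1) := hN2

/-! ### the three standard forms -/

omit [Fintype F] in
theorem isUnit_gramPlus (m : ℕ) : IsUnit (Cfsg.Agent.Lib.H13.gramPlus m F) := by
  rw [Matrix.isUnit_iff_isUnit_det, Cfsg.Agent.Lib.H13.gramPlus, Cfsg.Agent.Lib.H13.det_hyp]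
  exact IsUnit.mk0 _ (pow_ne_zero _ (by norm_num))

theorem disc_ne_zero (a b : F)
    (hab : ∀ z₁ z₂ : F, z₁ ^ 2 + a * z₁ * z₂ + b * z₂ ^ 2 = 0 → z₁ = 0 ∧ z₂ = 0) :
    4 * b - a ^ 2 ≠ 0 := by
  intro h
  by_cases h2 : (2 : F) = 0
  · have ha : a = 0 := by
      have : a ^ 2 = 0 := by linear_combination (2 * b) * h2 - h
      exact pow_eq_zero_iff (by norm_num) |>.mp this
    have hchar : ringChar F = 2 :=
      CharP.ringChar_of_prime_eq_zero Nat.prime_two (by exact_mod_cast h2)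
    obtain ⟨c, hc⟩ := FiniteField.isSquare_of_char_two hchar b
    have := hab c 1 (by rw [ha, hc]; linear_combination (c * c) * h2)
    exact one_ne_zero this.2
  · have := hab (-a) 2 (by linear_combination h)
    exact h2 this.2

theorem isUnit_gramMinus (m : ℕ) (a b : F)
    (hab : ∀ z₁ z₂ : F, z₁ ^ 2 + a * z₁ * z₂ + b * z₂ ^ 2 = 0 → z₁ = 0 ∧ z₂ = 0) :
    IsUnit (Cfsg.Agent.Lib.H13.gramMinus m F a b) := by
  rw [Matrix.isUnit_iff_isUnit_det, Cfsg.Agent.Lib.H13.det_gramMinus]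
  exact IsUnit.mk0 _ (mul_ne_zero (pow_ne_zero _ (by norm_num)) (disc_ne_zero a b hab))

/-- Gram matrix of the odd form -/
def gramOdd (m : ℕ) (F : Type*) [Field F] :
    Matrix (Unit ⊕ (Fin m ⊕ Fin m)) (Unit ⊕ (Fin m ⊕ Fin m)) F :=
  Matrix.fromBlocks (Matrix.of fun _ _ => (2 : F)) 0 0 (Cfsg.Agent.Lib.H13.gramPlus m F)

omit [Fintype F] in
theorem polar_quadFormOdd' (m : ℕ) (u v : Unit ⊕ (Fin m ⊕ Fin m) → F) :
    QuadraticMap.polar (Cfsg.quadFormOdd m F) u v = Matrix.toBilin' (gramOdd m F) u v := by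
  rw [Cfsg.Agent.Lib.H29.QuadOdd.polar_quadFormOdd, Matrix.toBilin'_apply', gramOdd,
    Cfsg.Agent.Lib.H13.gramPlus, Matrix.fromBlocks_mulVec, Matrix.fromBlocks_mulVec]
  simp only [Matrix.zero_mulVec, Matrix.one_mulVec, zero_add, add_zero,
    dotProduct, Fintype.sum_sum_type, Sum.elim_inl, Sum.elim_inr, Function.comp_apply,
    Matrix.mulVec, Matrix.of_apply, Finset.univ_unique, Finset.sum_singleton]
  rw [← Finset.sum_add_distrib]
  congr 1
  · ring
  · apply Finset.sum_congr rfl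
    intro i _
    ring

omit [Fintype F] in
theorem isUnit_gramOdd (m : ℕ) (h2 : (2 : F) ≠ 0) : IsUnit (gramOdd m F) := by
  rw [Matrix.isUnit_iff_isUnit_det, gramOdd, Matrix.det_fromBlocks_zero₂₁, Cfsg.Agent.Lib.H13.gramPlus,
    Cfsg.Agent.Lib.H13.det_hyp, Matrix.det_unique]
  simp only [Matrix.of_apply]
  exact IsUnit.mk0 _ (mul_ne_zero h2 (pow_ne_zero _ (by norm_num)))

theorem two_ne_zero_of_odd (h : Odd (Fintype.card F)) : (2 : F) ≠ 0 := by
  apply Ring.two_ne_zero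
  intro hc
  have := FiniteField.even_card_iff_char_two.mp hc
  obtain ⟨k, hk⟩ := h
  omega

end Cfsg.Agent.Lib.H11.EOB
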