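import Mathlib
import Cfsg.Prelude.Def_Perm

/-!
# S4025 piece SUBP (helper11): subgroups of `AΓL(1,2^r)`, `r` prime, containing the translations and
transitive on the nonzero points are `AΓL(1,2^r)` or `AGL(1,2^r)`.
-/

set_option autoImplicit false
set_option linter.style.haveILetI false

namespace Cfsg.Agent.Lib.H11.EOC

theorem subp_two_eq_zero {F : Type*} [Field F] [Finite F] (r : ℕ) (hr : r ≠ 0)
    (hF : Nat.card F = 2 ^ r) : (2 : F) = 0 := by
  classical
  cases nonempty_fintype F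
  have h := FiniteField.cast_card_eq_zero F
  rw [← Nat.card_eq_fintype_card, hF] at h
  push_cast at h
  exact (pow_eq_zero_iff hr).mp h

theorem subp_card_ringAut {F : Type*} [Field F] [Finite F] (r : ℕ) (hF : Nat.card F = 2 ^ r)
    (h2 : (2 : F) = 0) : Nat.card (RingAut F) = r := by
  classical
  haveI : CharP F 2 := CharTwo.of_one_ne_zero_of_two_eq_zero one_ne_zero h2
  letI : Algebra (ZMod 2) F := ZMod.algebra F 2
  have e : (F ≃+* F) ≃ (F ≃ₐ[ZMod 2] F) :=
    { toFun := fun f => AlgEquiv.ofRingEquiv (f := f) (fun x => by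
        have : (f : F →+* F).comp (algebraMap (ZMod 2) F) = algebraMap (ZMod 2) F :=
          Subsingleton.elim _ _
        exact RingHom.congr_fun this x)
      invFun := fun g => g.toRingEquiv
      left_inv := fun f => by ext x; rfl
      right_inv := fun g => by ext x; rfl }
  have h1 : Nat.card (RingAut F) = Nat.card (F ≃ₐ[ZMod 2] F) := Nat.card_congr e
  rw [h1, IsGalois.card_aut_eq_finrank]
  have h := Module.natCard_eq_pow_finrank (K := ZMod 2) (V := F)
  rw [hF, Nat.card_zmod] at h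
  exact (Nat.pow_right_injective (le_refl 2) h).symm

theorem subp_not_dvd (r : ℕ) (hr : r.Prime) : ¬ r ∣ 2 ^ r - 1 := by
  intro h
  haveI : Fact r.Prime := ⟨hr⟩
  have h1 : ((2 ^ r - 1 : ℕ) : ZMod r) = 0 := (ZMod.natCast_eq_zero_iff _ _).mpr h
  rw [Nat.cast_sub Nat.one_le_two_pow] at h1
  push_cast at h1
  rw [ZMod.pow_card] at h1
  have : (1 : ZMod r) = 0 := by linear_combination h1
  exact one_ne_zero this

theorem subp {F : Type*} [Field F] [Finite F] (r : ℕ) (hr : r.Prime) (hF : Nat.card F = 2 ^ r)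
    (I : Subgroup (Equiv.Perm F)) (hI : I ≤ Cfsg.semiaffineGroup F)
    (htrl : ∀ b : F, ∃ g ∈ I, ∀ y, g y = y + b)
    (htr1 : ∀ A B : AddSubgroup F, Nat.card A = 2 → Nat.card B = 2 →
      ∃ g ∈ I, g 0 = 0 ∧ ∀ y, y ∈ B ↔ ∃ x ∈ A, g x = y) :
    I = Cfsg.semiaffineGroup F ∨ I = Cfsg.affineGroup F := by
  classical
  have h2 : (2 : F) = 0 := subp_two_eq_zero r hr.ne_zero hF
  have hcardAut : Nat.card (RingAut F) = r := subp_card_ringAut r hF h2
  have hdbl : ∀ x : F, x + x = 0 := fun x => by rw [← two_mul, h2, zero_mul]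
  -- representation of the elements of `I` fixing `0`
  have rep : ∀ g ∈ I, g 0 = 0 → ∃ φ : RingAut F, ∀ x, g x = g 1 * φ x := by
    intro g hg h0
    obtain ⟨a, b, φ, hφ⟩ := hI hg
    have hb : b = 0 := by
      have := hφ 0
      rw [h0, map_zero, mul_zero, zero_add] at this
      exact this.symm
    have ha : g 1 = a := by rw [hφ 1, map_one, mul_one, hb, add_zero]
    exact ⟨φ, fun x => by rw [ha, hφ x, hb, add_zero]⟩
  -- transitivity on nonzero points
  have hcardz : ∀ u : F, u ≠ 0 → Nat.card (AddSubgroup.zmultiples u) = 2 := by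
    intro u hu
    rw [Nat.card_zmultiples]
    haveI : Fact (Nat.Prime 2) := ⟨Nat.prime_two⟩
    exact addOrderOf_eq_prime (by rw [two_nsmul]; exact hdbl u) hu
  have hmemz : ∀ u x : F, x ∈ AddSubgroup.zmultiples u → x = 0 ∨ x = u := by
    intro u x hx
    obtain ⟨k, rfl⟩ := AddSubgroup.mem_zmultiples_iff.mp hx
    have hk : (k : F) = ((k % 2 : ℤ) : F) := by
      conv_lhs => rw [← Int.emod_add_mul_ediv k 2]
      push_cast
      rw [h2, zero_mul, add_zero]
    rw [zsmul_eq_mul, hk]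
    rcases Int.emod_two_eq_zero_or_one k with h | h
    · left; rw [h]; simp
    · right; rw [h]; simp
  have trans : ∀ u v : F, u ≠ 0 → v ≠ 0 → ∃ g ∈ I, g 0 = 0 ∧ g u = v := by
    intro u v hu hv
    obtain ⟨g, hg, h0, hgB⟩ := htr1 (AddSubgroup.zmultiples u) (AddSubgroup.zmultiples v)
      (hcardz u hu) (hcardz v hv)
    refine ⟨g, hg, h0, ?_⟩
    obtain ⟨x, hx, hxv⟩ := (hgB v).mp (AddSubgroup.mem_zmultiples v)
    rcases hmemz u x hx with rfl | rfl
    · exact absurd (hxv.symm.trans h0) hv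
    · exact hxv
  -- the dichotomy
  haveI : Fact (Nat.card (RingAut F)).Prime := ⟨by rw [hcardAut]; exact hr⟩
  rcases (I.comap (RingAut.toPerm F)).eq_bot_or_eq_top_of_prime_card with hbot | htop
  · -- `I = AGL`
    right
    have hSig : ∀ φ : RingAut F, RingAut.toPerm F φ ∈ I → φ = 1 := by
      intro φ hφ
      have : φ ∈ I.comap (RingAut.toPerm F) := hφ
      rw [hbot] at this
      exact Subgroup.mem_bot.mp this
    -- injectivity of `g ↦ g 1`
    have inj : ∀ g ∈ I, ∀ h ∈ I, g 0 = 0 → h 0 = 0 → g 1 = h 1 → g = h := by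
      intro g hg h hh hg0 hh0 h1
      have hk : h⁻¹ * g ∈ I := I.mul_mem (I.inv_mem hh) hg
      have hk0 : (h⁻¹ * g) 0 = 0 := by
        rw [Equiv.Perm.mul_apply, hg0, Equiv.Perm.inv_eq_iff_eq, hh0]
      have hk1 : (h⁻¹ * g) 1 = 1 := by
        rw [Equiv.Perm.mul_apply, Equiv.Perm.inv_eq_iff_eq]
        exact h1
      obtain ⟨φ, hφ⟩ := rep _ hk hk0
      have hkφ : h⁻¹ * g = RingAut.toPerm F φ := by
        ext x
        rw [hφ x, hk1, one_mul]
        rfl
      have hφ1 : φ = 1 := hSig φ (hkφ ▸ hk)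
      have : h⁻¹ * g = 1 := by rw [hkφ, hφ1, map_one]
      exact (inv_mul_eq_one.mp this).symm
    -- the point stabilizer
    set I₀ : Subgroup (Equiv.Perm F) := I ⊓ MulAction.stabilizer (Equiv.Perm F) (0 : F) with hI₀
    have hmem₀ : ∀ g : Equiv.Perm F, g ∈ I₀ ↔ g ∈ I ∧ g 0 = 0 := by
      intro g
      rw [hI₀, Subgroup.mem_inf, MulAction.mem_stabilizer_iff]
      rfl
    have hne : ∀ g : Equiv.Perm F, g 0 = 0 → g 1 ≠ 0 := by
      intro g h0 h1
      exact one_ne_zero (g.injective (h1.trans h0.symm))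
    have hcard₀ : Nat.card I₀ = 2 ^ r - 1 := by
      rw [← hF, ← Nat.card_units]
      refine Nat.card_congr (Equiv.ofBijective
        (fun g : I₀ => Units.mk0 ((g : Equiv.Perm F) 1) (hne _ ((hmem₀ _).mp g.2).2)) ⟨?_, ?_⟩)
      · intro g h hgh
        have h1 : (g : Equiv.Perm F) 1 = (h : Equiv.Perm F) 1 := congrArg Units.val hgh
        exact Subtype.ext (inj _ ((hmem₀ _).mp g.2).1 _ ((hmem₀ _).mp h.2).1
          ((hmem₀ _).mp g.2).2 ((hmem₀ _).mp h.2).2 h1)
      · intro a
        obtain ⟨g, hg, h0, h1⟩ := trans 1 (a : F) one_ne_zero a.ne_zero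
        exact ⟨⟨g, (hmem₀ g).mpr ⟨hg, h0⟩⟩, Units.ext h1⟩
    -- elements fixing `0` are linear
    have lin : ∀ g ∈ I, g 0 = 0 → ∀ x, g x = g 1 * x := by
      intro g hg h0
      obtain ⟨φ, hφ⟩ := rep g hg h0
      have hpow : ∀ k : ℕ, ∃ c : F, ∀ x, (g ^ k) x = c * (φ ^ k) x := by
        intro k
        induction k with
        | zero => exact ⟨1, fun x => by simp⟩
        | succ k ih =>
          obtain ⟨c, hc⟩ := ih
          refine ⟨g 1 * φ c, fun x => ?_⟩
          rw [pow_succ', Equiv.Perm.mul_apply, hc x, hφ, map_mul, pow_succ', RingAut.mul_apply,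
            mul_assoc]
      have hgN : g ^ (2 ^ r - 1) = 1 := by
        have := pow_card_eq_one' (G := I₀) (x := ⟨g, (hmem₀ g).mpr ⟨hg, h0⟩⟩)
        rw [hcard₀] at this
        exact congrArg Subtype.val this
      have hφN : φ ^ (2 ^ r - 1) = 1 := by
        obtain ⟨c, hc⟩ := hpow (2 ^ r - 1)
        rw [hgN] at hc
        have hc1 : c = 1 := by
          have := hc 1
          rw [Equiv.Perm.one_apply, map_one, mul_one] at this
          exact this.symm
        ext x
        have := hc x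
        rw [hc1, one_mul, Equiv.Perm.one_apply] at this
        exact this.symm
      have hφr : φ ^ r = 1 := by
        have := pow_card_eq_one' (G := RingAut F) (x := φ)
        rwa [hcardAut] at this
      have ho : orderOf φ = 1 := by
        have hd1 : orderOf φ ∣ 2 ^ r - 1 := orderOf_dvd_of_pow_eq_one hφN
        have hd2 : orderOf φ ∣ r := orderOf_dvd_of_pow_eq_one hφr
        rcases (Nat.dvd_prime hr).mp hd2 with h | h
        · exact h
        · exact absurd (h ▸ hd1) (subp_not_dvd r hr)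
      have hφ1 : φ = 1 := orderOf_eq_one_iff.mp ho
      intro x
      rw [hφ x, hφ1]
      rfl
    apply le_antisymm
    · intro g hg
      obtain ⟨t, ht, htb⟩ := htrl (g 0)
      have hk : t⁻¹ * g ∈ I := I.mul_mem (I.inv_mem ht) hg
      have hk0 : (t⁻¹ * g) 0 = 0 := by
        rw [Equiv.Perm.mul_apply, Equiv.Perm.inv_eq_iff_eq, htb, zero_add]
      have hl := lin _ hk hk0
      refine ⟨Units.mk0 ((t⁻¹ * g) 1) (hne _ hk0), g 0, fun x => ?_⟩
      rw [Units.val_mk0, ← hl x, ← htb, Equiv.Perm.mul_apply]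
      exact (Equiv.apply_symm_apply t (g x)).symm
    · rintro σ ⟨a, b, hσ⟩
      obtain ⟨g, hg, h0, h1⟩ := trans 1 (a : F) one_ne_zero a.ne_zero
      obtain ⟨t, ht, htb⟩ := htrl b
      have : σ = t * g := by
        ext x
        rw [Equiv.Perm.mul_apply, htb, lin g hg h0 x, h1, hσ x]
      rw [this]
      exact I.mul_mem ht hg
  · -- `I = AΓL`
    left
    have hSig : ∀ φ : RingAut F, RingAut.toPerm F φ ∈ I := by
      intro φ
      have : φ ∈ I.comap (RingAut.toPerm F) := by rw [htop]; exact Subgroup.mem_top φ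
      exact this
    apply le_antisymm hI
    rintro σ ⟨a, b, φ, hσ⟩
    obtain ⟨g, hg, h0, h1⟩ := trans 1 (a : F) one_ne_zero a.ne_zero
    obtain ⟨ψ, hψ⟩ := rep g hg h0
    obtain ⟨t, ht, htb⟩ := htrl b
    have : σ = t * (g * RingAut.toPerm F ψ⁻¹) * RingAut.toPerm F φ := by
      ext x
      have hcancel : ∀ y : F, ψ (ψ⁻¹ y) = y := fun y => by
        rw [← RingAut.mul_apply, mul_inv_cancel, RingAut.one_apply]
      rw [Equiv.Perm.mul_apply, Equiv.Perm.mul_apply, Equiv.Perm.mul_apply, htb, hψ, h1, hσ x]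
      congr 2
      exact (hcancel _).symm
    rw [this]
    exact I.mul_mem (I.mul_mem ht (I.mul_mem hg (hSig _))) (hSig _)

end Cfsg.Agent.Lib.H11.EOC
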