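import Cfsg.Agent.S5157

/-!
# S5159 piece (FWD-E): `F` solvable implies `E` solvable for a saturated subsystem `E ≤ F`

Blueprint `tools/blueprints/S5159.md`, exact signature of `tools/blueprints/S5159_sigs.lean`.
(helper11, twin of helper9.)
-/

set_option autoImplicit false

namespace Cfsg.Agent.Lib.H11.F59

open Cfsg Cfsg.FusionSystem
open scoped commutatorElement

variable {Ω : Type*} [Group Ω] {S : Subgroup Ω}

/-- (FWD-E) only needs `E` saturated over `T ≤ S` and `E ≤ F`. -/
theorem fwd_sub [Finite S] (p : ℕ) [Fact p.Prime] (hS : IsPGroup p S) (F : FusionSystem S)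
    (hF : F.IsSaturated p) {T : Subgroup Ω} (E : FusionSystem T) (hEsat : E.IsSaturated p)
    (hEF : E.IsSubsystemOf F) (h : F.IsSolvableSystem) : E.IsSolvableSystem := by
  have hTS : T ≤ S := by
    have h1 : conjHom T 1 ∈ E.Hom T := E.conj_mem le_rfl T.one_mem
    exact (F.le_of_mem (hEF T h1)).1
  have : Finite T :=
    Finite.of_injective (Subgroup.inclusion hTS) (Subgroup.inclusion_injective hTS)
  have hT : IsPGroup p T := hS.to_le hTS
  obtain ⟨n, Tc, h0, hl, -, hsc, hab⟩ := (Cfsg.Agent.S5157.result p hS F hF).1 h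
  have hTT : ⁅T, T⁆ ≤ T := by
    rw [Subgroup.commutator_le]
    intro x hx y hy
    rw [commutatorElement_def]
    exact T.mul_mem (T.mul_mem (T.mul_mem hx hy) (T.inv_mem hx)) (T.inv_mem hy)
  refine Cfsg.Agent.S5157.solvable_of_chain hT hEsat (T := fun i => Tc i ⊓ T) ?_ ?_ ?_ ?_
  · show Tc 0 ⊓ T = ⊥
    rw [h0, bot_inf_eq]
  · show Tc (Fin.last n) ⊓ T = T
    rw [hl]
    exact inf_eq_right.2 hTS
  · intro i
    refine ⟨inf_le_right, fun R hR φ hφ x => ?_⟩
    refine Subgroup.mem_inf.2 ⟨?_, (E.le_of_mem hφ).2 x⟩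
    exact (hsc i).2 R (hR.trans inf_le_left) φ (hEF R hφ) x
  · intro i
    exact le_inf ((Subgroup.commutator_mono inf_le_left inf_le_left).trans (hab i))
      ((Subgroup.commutator_mono inf_le_right inf_le_right).trans hTT)

end Cfsg.Agent.Lib.H11.F59
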