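/-
S4563 + S4564 (architect helper23), piece FR2 (helper11): `ζ₁ ∈ Irr(G)` vanishing off `N ⊴ G`, `ζ₀` a constituent of
`(ζ₁)_N`, `g = [(ζ₁)_N, ζ₀]`; then `g² |N| = |I_G(ζ₀)|`.
`[(ζ₁)_N,(ζ₁)_N] = |G:N|` (vanishing), Clifford (S0174) `(ζ₁)_N = g Σ_{orbit} ψ` so `[(ζ₁)_N,(ζ₁)_N] = g² |orbit|`, and
`|orbit| |I| = |G|` (fibres of `x ↦ ζ₀^x` are the cosets `I x₀`).
-/
import Mathlib
import Cfsg.Prelude.Def_Blocks
import Cfsg.Prelude.Def_Characters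
import Cfsg.Agent.Lib.H23.FullyRamified
import Cfsg.Agent.S0174

set_option autoImplicit false

namespace Cfsg.Agent.Lib.H11.FRS

open Cfsg Cfsg.Agent.Lib.L0 Cfsg.Agent.Lib.H8
open scoped ComplexConjugate

section orbit

variable {G : Type*} [Group G] (N : Subgroup G) [hN : N.Normal]

/-- two conjugates `χ^a`, `χ^x₀` agree iff `a x₀⁻¹` stabilizes `χ` -/
theorem conj_eq_conj_iff (χ : ↥N → ℂ) (a x₀ : G) :
    (fun n : ↥N => χ ⟨a * n * a⁻¹, hN.conj_mem n n.2 a⟩) =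
        (fun n : ↥N => χ ⟨x₀ * n * x₀⁻¹, hN.conj_mem n n.2 x₀⟩) ↔
      ∀ n : ↥N, χ ⟨(a * x₀⁻¹) * n * (a * x₀⁻¹)⁻¹, hN.conj_mem n n.2 (a * x₀⁻¹)⟩ = χ n := by
  constructor
  · intro h m
    have h1 := congrFun h ⟨x₀⁻¹ * m * x₀⁻¹⁻¹, hN.conj_mem m m.2 x₀⁻¹⟩
    simp only [] at h1
    have e1 : χ ⟨(a * x₀⁻¹) * m * (a * x₀⁻¹)⁻¹, hN.conj_mem m m.2 (a * x₀⁻¹)⟩ =
        χ ⟨a * (x₀⁻¹ * m * x₀⁻¹⁻¹) * a⁻¹, hN.conj_mem _ (hN.conj_mem m m.2 x₀⁻¹) a⟩ :=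
      fun_subtype_congr N χ _ _ (by group)
    have e2 : χ ⟨x₀ * (x₀⁻¹ * m * x₀⁻¹⁻¹) * x₀⁻¹, hN.conj_mem _ (hN.conj_mem m m.2 x₀⁻¹) x₀⟩ = χ m :=
      fun_subtype_congr N χ _ m.2 (by group)
    rw [e1, h1, e2]
  · intro h
    funext n
    have h1 := h ⟨x₀ * n * x₀⁻¹, hN.conj_mem n n.2 x₀⟩
    have e1 : χ ⟨(a * x₀⁻¹) * (x₀ * n * x₀⁻¹) * (a * x₀⁻¹)⁻¹,
        hN.conj_mem _ (hN.conj_mem n n.2 x₀) (a * x₀⁻¹)⟩ = χ ⟨a * n * a⁻¹, hN.conj_mem n n.2 a⟩ :=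
      fun_subtype_congr N χ _ _ (by group)
    rw [← e1]
    exact h1

/-- orbit–stabilizer for the conjugates of a function on a normal subgroup -/
theorem card_conj_orbit_mul [Fintype G] [DecidableEq (↥N → ℂ)] (χ : ↥N → ℂ)
    [DecidablePred (fun x : G => ∀ n : ↥N, χ ⟨x * n * x⁻¹, hN.conj_mem n n.2 x⟩ = χ n)] :
    (Finset.univ.image (fun (x : G) (n : ↥N) => χ ⟨x * n * x⁻¹, hN.conj_mem n n.2 x⟩)).card *
      (Finset.univ.filter (fun x : G => ∀ n : ↥N, χ ⟨x * n * x⁻¹, hN.conj_mem n n.2 x⟩ = χ n)).card =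
        Fintype.card G := by
  classical
  set cF : G → (↥N → ℂ) := fun x n => χ ⟨x * n * x⁻¹, hN.conj_mem n n.2 x⟩ with hcF
  set T : Finset G := Finset.univ.filter
    (fun x : G => ∀ n : ↥N, χ ⟨x * n * x⁻¹, hN.conj_mem n n.2 x⟩ = χ n) with hT
  have h1 : (Finset.univ : Finset G).card =
      ∑ b ∈ Finset.univ.image cF, (Finset.univ.filter (fun a => cF a = b)).card :=
    Finset.card_eq_sum_card_fiberwise (fun x _ => Finset.mem_image_of_mem cF (Finset.mem_univ x))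
  have h2 : ∀ b ∈ Finset.univ.image cF, (Finset.univ.filter (fun a => cF a = b)).card = T.card := by
    intro b hb
    obtain ⟨x₀, -, rfl⟩ := Finset.mem_image.mp hb
    have e : Finset.univ.filter (fun a => cF a = cF x₀) = T.image (fun t => t * x₀) := by
      ext a
      rw [Finset.mem_filter, Finset.mem_image]
      constructor
      · rintro ⟨-, ha⟩
        refine ⟨a * x₀⁻¹, ?_, by group⟩
        rw [hT, Finset.mem_filter]
        exact ⟨Finset.mem_univ _, (conj_eq_conj_iff N χ a x₀).mp ha⟩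
      · rintro ⟨t, ht, rfl⟩
        refine ⟨Finset.mem_univ _, ?_⟩
        rw [hT, Finset.mem_filter] at ht
        apply (conj_eq_conj_iff N χ (t * x₀) x₀).mpr
        intro n
        have e1 : χ ⟨(t * x₀ * x₀⁻¹) * n * (t * x₀ * x₀⁻¹)⁻¹, hN.conj_mem n n.2 (t * x₀ * x₀⁻¹)⟩ =
            χ ⟨t * n * t⁻¹, hN.conj_mem n n.2 t⟩ := fun_subtype_congr N χ _ _ (by group)
        rw [e1]
        exact ht.2 n
    rw [e, Finset.card_image_of_injective _ (mul_left_injective x₀)]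
  rw [Finset.sum_congr rfl h2, Finset.sum_const, smul_eq_mul] at h1
  rw [← Finset.card_univ, h1]

end orbit

/-- **FR2** -/
theorem fr_mult_sq {G : Type*} [Group G] [Fintype G] (N : Subgroup G) [hN : N.Normal] [Fintype ↥N]
    (ζ₁ : IrrCharacter G) (hvan : ∀ x : G, x ∉ N → (ζ₁ : G → ℂ) x = 0)
    (ζ₀ : IrrCharacter ↥N)
    (hcon : classInner (fun n : ↥N => (ζ₁ : G → ℂ) n) (ζ₀ : ↥N → ℂ) ≠ 0) :
    ∃ g : ℕ, classInner (fun n : ↥N => (ζ₁ : G → ℂ) n) (ζ₀ : ↥N → ℂ) = (g : ℂ) ∧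
      g ^ 2 * Nat.card ↥N = Nat.card {x : G // ∀ n : ↥N,
        (ζ₀ : ↥N → ℂ) ⟨x * n * x⁻¹, hN.conj_mem n n.2 x⟩ = (ζ₀ : ↥N → ℂ) n} := by
  classical
  obtain ⟨θ, hθdef⟩ : ∃ θ : G → ℂ, θ = (ζ₁ : G → ℂ) := ⟨_, rfl⟩
  obtain ⟨χ, hχdef⟩ : ∃ χ : ↥N → ℂ, χ = (ζ₀ : ↥N → ℂ) := ⟨_, rfl⟩
  have hθ : IsIrrCharacter G θ := hθdef ▸ ζ₁.2
  have hχ : IsIrrCharacter ↥N χ := hχdef ▸ ζ₀.2
  rw [← hθdef] at hvan
  rw [← hθdef, ← hχdef] at hcon ⊢
  have hθcl : IsClassFunction G θ := isClassFunction_of_isCharacter (isCharacter_of_irr hθ)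
  have hρc : IsCharacter ↥N (fun n : ↥N => θ n) := isCharacter_restrict N (isCharacter_of_irr hθ)
  obtain ⟨g, hg⟩ := classInner_char_irr_nat hρc hχ
  refine ⟨g, hg, ?_⟩
  -- `[ρ, ρ] = |G : N|`
  have h1 : classInner (fun n : ↥N => θ n) (fun n : ↥N => θ n) = (N.index : ℂ) :=
    (Cfsg.Agent.Lib.H23.classInner_restrict_self_eq_index_iff N θ hθ).mpr hvan
  -- Clifford
  have hcl := Cfsg.Agent.S0174.result N hN θ hθ χ hχ hcon
  set cF : G → (↥N → ℂ) := fun x n => χ ⟨x * n * x⁻¹, hN.conj_mem n n.2 x⟩ with hcF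
  have hset : {ψ : ↥N → ℂ | ∃ x : G, ψ = fun n : ↥N => χ ⟨x * n * x⁻¹, hN.conj_mem n n.2 x⟩}
      = ↑(Finset.univ.image cF) := by
    ext ψ
    simp only [Set.mem_ofPred_eq, Finset.coe_image, Finset.coe_univ, Set.image_univ, Set.mem_range]
    constructor
    · rintro ⟨x, rfl⟩
      exact ⟨x, rfl⟩
    · rintro ⟨x, rfl⟩
      exact ⟨x, rfl⟩
  rw [hset, finsum_mem_coe_finset, hg] at hcl
  -- the multiplicity is constant on the orbit
  have ha : ∀ x, classInner (fun n : ↥N => θ n) (cF x) = (g : ℂ) := by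
    intro x
    rw [← hg, classInner_def, classInner_def]
    congr 1
    apply Fintype.sum_equiv (MulAut.conjNormal x : MulAut ↥N).toEquiv
    intro n
    have e1 : θ (((MulAut.conjNormal x : MulAut ↥N) n : ↥N) : G) = θ n := by
      rw [MulAut.conjNormal_apply]; exact hθcl n x
    have e2 : χ ((MulAut.conjNormal x : MulAut ↥N) n) = cF x n :=
      congrArg χ (Subtype.ext (MulAut.conjNormal_apply x n))
    simp only [MulEquiv.toEquiv_eq_coe, MulEquiv.coe_toEquiv]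
    rw [e1, e2]
  -- `[ρ, ρ] = g² |orbit|`
  have h2 : classInner (fun n : ↥N => θ n) (fun n : ↥N => θ n) =
      (g : ℂ) * ((Finset.univ.image cF).card * (g : ℂ)) := by
    have h0 : classInner (fun n : ↥N => θ n) (fun n : ↥N => θ n) =
        classInner ((g : ℂ) • ∑ i ∈ Finset.univ.image cF, i) (fun n : ↥N => θ n) :=
      congrArg (fun f => classInner f (fun n : ↥N => θ n)) hcl
    rw [h0, classInner_smul_left, classInner_sum_left]
    congr 1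
    have h3 : ∀ ψ ∈ Finset.univ.image cF, classInner ψ (fun n : ↥N => θ n) = (g : ℂ) := by
      intro ψ hψ
      obtain ⟨x, -, rfl⟩ := Finset.mem_image.mp hψ
      rw [← classInner_conj_symm, ha x, Complex.conj_natCast]
    rw [Finset.sum_congr rfl h3, Finset.sum_const, nsmul_eq_mul]
  -- arithmetic
  have h4 : g ^ 2 * (Finset.univ.image cF).card = N.index := by
    have : ((g ^ 2 * (Finset.univ.image cF).card : ℕ) : ℂ) = ((N.index : ℕ) : ℂ) := by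
      rw [← h1, h2]
      push_cast
      ring
    exact_mod_cast this
  have h5 := card_conj_orbit_mul N χ
  have h6 : N.index * Nat.card ↥N = Nat.card G := Subgroup.index_mul_card N
  have h7 : Nat.card {x : G // ∀ n : ↥N, χ ⟨x * n * x⁻¹, hN.conj_mem n n.2 x⟩ = χ n} =
      (Finset.univ.filter (fun x : G => ∀ n : ↥N, χ ⟨x * n * x⁻¹, hN.conj_mem n n.2 x⟩ = χ n)).card := by
    rw [Nat.card_eq_fintype_card, Fintype.card_subtype]
  rw [h7]
  have hpos : 0 < (Finset.univ.image cF).card :=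
    Finset.card_pos.mpr ⟨cF 1, Finset.mem_image_of_mem cF (Finset.mem_univ 1)⟩
  rw [Nat.card_eq_fintype_card (α := G), ← h5, ← h4] at h6
  have h8 : (Finset.univ.image cF).card * (g ^ 2 * Nat.card ↥N) =
      (Finset.univ.image cF).card *
        (Finset.univ.filter (fun x : G => ∀ n : ↥N, χ ⟨x * n * x⁻¹, hN.conj_mem n n.2 x⟩ = χ n)).card := by
    rw [← h6]; ring
  exact Nat.eq_of_mul_eq_mul_left hpos h8

end Cfsg.Agent.Lib.H11.FRS
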