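/-
S4563 + S4564 (architect helper23), piece FR3 (helper11): `ζ₁ ∈ Irr(G)` fully ramified over `Z ⊴ G`, `Z ≤ N`.
An irreducible character `ζ` of `N` lies over `θ` iff it is a constituent of `(ζ₁)_N`.
Direct computation: `ζ₁` vanishes off `Z` (`H24.fr_vanish`), so
`[(ζ₁)_N, ζ] = |N|⁻¹ c |Z| conj [ζ_Z, θ]`.
-/
import Mathlib
import Cfsg.Prelude.Def_Blocks
import Cfsg.Prelude.Def_Characters
import Cfsg.Agent.Lib.H24.FullyRamCyclic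

set_option autoImplicit false

namespace Cfsg.Agent.Lib.H11.FRS

open Cfsg
open scoped ComplexConjugate

/-- the value of `[(ζ₁)_N, ζ]` for a character `ζ₁` of `G` with `(ζ₁)_Z = c θ` vanishing off `Z ≤ N` -/
theorem classInner_restrict_of_vanish {G : Type*} [Group G] [Fintype G] (Z N : Subgroup G)
    [Fintype ↥Z] [Fintype ↥N] (hZN : Z ≤ N) (θ : ↥Z → ℂ) (ζ₁ : G → ℂ) (c : ℂ)
    (hζ₁ : ∀ z : ↥Z, ζ₁ z = c * θ z) (hvan : ∀ g : G, g ∉ Z → ζ₁ g = 0) (ζ : ↥N → ℂ) :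
    classInner (fun n : ↥N => ζ₁ n) ζ =
      (Nat.card ↥N : ℂ)⁻¹ * (c * ((Nat.card ↥Z : ℂ) *
        conj (classInner (fun z : ↥Z => ζ ⟨z, hZN z.2⟩) θ))) := by
  classical
  unfold classInner
  congr 1
  -- extend the summand to `G`
  let F : G → ℂ := fun g => if h : g ∈ N then ζ₁ g * conj (ζ ⟨g, h⟩) else 0
  have hFN : ∀ g ∉ N, F g = 0 := fun g hg => dif_neg hg
  have hFZ : ∀ g ∉ Z, F g = 0 := by
    intro g hg
    by_cases h : g ∈ N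
    · show (if h : g ∈ N then ζ₁ g * conj (ζ ⟨g, h⟩) else 0) = 0
      rw [dif_pos h, hvan g hg, zero_mul]
    · exact hFN g h
  have h1 : ∑ n : ↥N, ζ₁ n * conj (ζ n) = ∑ n : ↥N, F n := by
    refine Finset.sum_congr rfl (fun n _ => ?_)
    show _ = (if h : (n : G) ∈ N then ζ₁ n * conj (ζ ⟨n, h⟩) else 0)
    rw [dif_pos n.2]
  have h2 : ∑ n : ↥N, F n = ∑ z : ↥Z, F z :=
    (Cfsg.Agent.Lib.H24.sum_subgroup_of_vanish N F hFN).symm.trans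
      (Cfsg.Agent.Lib.H24.sum_subgroup_of_vanish Z F hFZ)
  have h3 : ∑ z : ↥Z, F z = ∑ z : ↥Z, c * (θ z * conj (ζ ⟨z, hZN z.2⟩)) := by
    refine Finset.sum_congr rfl (fun z _ => ?_)
    show (if h : (z : G) ∈ N then ζ₁ z * conj (ζ ⟨z, h⟩) else 0) = _
    rw [dif_pos (hZN z.2), hζ₁ z, mul_assoc]
  rw [h1, h2, h3, ← Finset.mul_sum]
  congr 1
  have hZ0 : (Nat.card ↥Z : ℂ) ≠ 0 := by exact_mod_cast (Nat.card_pos (α := ↥Z)).ne'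
  rw [map_mul, map_inv₀, Complex.conj_natCast, ← mul_assoc, mul_inv_cancel₀ hZ0, one_mul, map_sum]
  refine Finset.sum_congr rfl (fun z _ => ?_)
  rw [map_mul, Complex.conj_conj, mul_comm]

/-- **FR3** -/
theorem fr_constituent_iff {G : Type*} [Group G] [Fintype G] (Z N : Subgroup G) [Z.Normal] [N.Normal]
    [Fintype ↥Z] [Fintype ↥N] (hZN : Z ≤ N) (θ : IrrCharacter ↥Z) (ζ₁ : IrrCharacter G) (c : ℕ)
    (hc : c ^ 2 = Z.index) (hζ₁ : ∀ z : ↥Z, (ζ₁ : G → ℂ) z = (c : ℂ) * (θ : ↥Z → ℂ) z)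
    (ζ : IrrCharacter ↥N) :
    classInner (fun z : ↥Z => (ζ : ↥N → ℂ) ⟨z, hZN z.2⟩) (θ : ↥Z → ℂ) ≠ 0 ↔
      classInner (fun n : ↥N => (ζ₁ : G → ℂ) n) (ζ : ↥N → ℂ) ≠ 0 := by
  have hvan : ∀ g : G, g ∉ Z → (ζ₁ : G → ℂ) g = 0 := fun g hg =>
    Cfsg.Agent.Lib.H24.fr_vanish hc hζ₁ g hg
  have hc0 : (c : ℂ) ≠ 0 := Cfsg.Agent.Lib.H24.fr_e_ne_zero hc
  have hZ0 : (Nat.card ↥Z : ℂ) ≠ 0 := by exact_mod_cast (Nat.card_pos (α := ↥Z)).ne'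
  have hN0 : (Nat.card ↥N : ℂ) ≠ 0 := by exact_mod_cast (Nat.card_pos (α := ↥N)).ne'
  rw [classInner_restrict_of_vanish Z N hZN (θ : ↥Z → ℂ) (ζ₁ : G → ℂ) (c : ℂ) hζ₁ hvan (ζ : ↥N → ℂ)]
  constructor
  · intro h
    refine mul_ne_zero (inv_ne_zero hN0) (mul_ne_zero hc0 (mul_ne_zero hZ0 ?_))
    intro h0
    apply h
    have := congrArg conj h0
    rwa [Complex.conj_conj, map_zero] at this
  · intro h h0
    apply h
    rw [h0, map_zero, mul_zero, mul_zero, mul_zero]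

end Cfsg.Agent.Lib.H11.FRS
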