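import Cfsg.Agent.Lib.H11.Fi22MM2Net

/-!
# S2053 piece M2 (helper11): kernel check of the relator word 37 of `relW` (63 letters), one bit plane per
declaration (memory), no parallel elaboration
-/

set_option Elab.async false
set_option autoImplicit false
set_option maxRecDepth 100000

namespace Cfsg.Agent.Lib.H11.Fi22M2

open Cfsg.Agent.Lib.H11.BitNet

/-- the word 37 of `relW` -/
def w37 : List ℕ := [0, 1, 2, 3, 4, 5, 7, 0, 1, 2, 3, 4, 5, 7, 0, 1, 2, 3, 4, 5, 7, 0, 1, 2, 3, 4, 5, 7, 0, 1, 2, 3, 4, 5, 7, 0, 1, 2, 3, 4, 5, 7, 0, 1, 2, 3, 4, 5, 7, 0, 1, 2, 3, 4, 5, 7, 0, 1, 2, 3, 4, 5, 7]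

theorem chkL37_0 : chkPlane 0 (wst w37) zs = true := by decide +kernel

theorem chkL37_1 : chkPlane 1 (wst w37) zs = true := by decide +kernel

theorem chkL37_2 : chkPlane 2 (wst w37) zs = true := by decide +kernel

theorem chkL37_3 : chkPlane 3 (wst w37) zs = true := by decide +kernel

theorem chkL37_4 : chkPlane 4 (wst w37) zs = true := by decide +kernel

theorem chkL37_5 : chkPlane 5 (wst w37) zs = true := by decide +kernel

theorem chkL37_6 : chkPlane 6 (wst w37) zs = true := by decide +kernel

theorem chkL37_7 : chkPlane 7 (wst w37) zs = true := by decide +kernel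

theorem chkL37_8 : chkPlane 8 (wst w37) zs = true := by decide +kernel

theorem chkL37_9 : chkPlane 9 (wst w37) zs = true := by decide +kernel

theorem chkL37_10 : chkPlane 10 (wst w37) zs = true := by decide +kernel

theorem chkL37_11 : chkPlane 11 (wst w37) zs = true := by decide +kernel

theorem chkL37_12 : chkPlane 12 (wst w37) zs = true := by decide +kernel

theorem chkL37_13 : chkPlane 13 (wst w37) zs = true := by decide +kernel

theorem chkL37_14 : chkPlane 14 (wst w37) zs = true := by decide +kernel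

theorem chkL37 : ∀ b < 15, chkPlane b (wst w37) zs = true := by
  intro b hb
  interval_cases b
  exacts [chkL37_0, chkL37_1, chkL37_2, chkL37_3, chkL37_4, chkL37_5, chkL37_6, chkL37_7, chkL37_8, chkL37_9, chkL37_10, chkL37_11, chkL37_12, chkL37_13, chkL37_14]

theorem w37_val : (w37.map mg).prod = mz := by
  rw [wprod_eq]
  exact netPerm_eq_of_chkPlanes _ _ (wst_good _) zs_good chkL37

end Cfsg.Agent.Lib.H11.Fi22M2
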