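import Cfsg.Agent.Lib.H11.Fi22MM2Net

/-!
# S2053 piece M2 (helper11): kernel checks of short relator words (part 2); one declaration per word,
no parallel elaboration (memory)
-/

set_option Elab.async false
set_option autoImplicit false
set_option maxRecDepth 100000

namespace Cfsg.Agent.Lib.H11.Fi22M2

open Cfsg.Agent.Lib.H11.BitNet

theorem chkS2_0 : chkOne [5, 8, 5, 8] = true := by decide +kernel

theorem chkS2_1 : chkOne [6, 7, 6, 7] = true := by decide +kernel

theorem chkS2_2 : chkOne [6, 8, 6, 8] = true := by decide +kernel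

theorem chkS2_3 : chkOne [7, 8, 7, 8, 7, 8] = true := by decide +kernel

theorem chkS2_4 : chkOne [0, 0] = true := by decide +kernel

theorem chkS2_5 : chkOne [1, 1] = true := by decide +kernel

theorem chkS2_6 : chkOne [2, 2] = true := by decide +kernel

theorem chkS2_7 : chkOne [3, 3] = true := by decide +kernel

theorem chkS2_8 : chkOne [4, 4] = true := by decide +kernel

theorem chkS2_9 : chkOne [5, 5] = true := by decide +kernel

theorem chkS2_10 : chkOne [6, 6] = true := by decide +kernel

theorem chkS2_11 : chkOne [7, 7] = true := by decide +kernel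

theorem chkS2_12 : chkOne [8, 8] = true := by decide +kernel

theorem chkS2_13 : chkOne [] = true := by decide +kernel

/-- part 2 of the short relator words -/
def partS2 : List (List ℕ) := [[5, 8, 5, 8], [6, 7, 6, 7], [6, 8, 6, 8], [7, 8, 7, 8, 7, 8], [0, 0], [1, 1], [2, 2], [3, 3], [4, 4], [5, 5], [6, 6], [7, 7], [8, 8], []]

theorem partS2_ok : ∀ w ∈ partS2, chkOne w = true := by
  intro w hw
  simp only [partS2, List.mem_cons, List.not_mem_nil, or_false] at hw
  rcases hw with rfl | rfl | rfl | rfl | rfl | rfl | rfl | rfl | rfl | rfl | rfl | rfl | rfl | rfl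
  exacts [chkS2_0, chkS2_1, chkS2_2, chkS2_3, chkS2_4, chkS2_5, chkS2_6, chkS2_7, chkS2_8, chkS2_9, chkS2_10, chkS2_11, chkS2_12, chkS2_13]

end Cfsg.Agent.Lib.H11.Fi22M2
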