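import Cfsg.Agent.Lib.H11.Fi22MM2Net

/-!
# S2053 piece M2 (helper11): `mz ≠ 1`, `mz ^ 2 = 1`, `mz` commutes with the nine letters, the letters are involutions
-/

set_option Elab.async false
set_option autoImplicit false
set_option maxRecDepth 100000

namespace Cfsg.Agent.Lib.H11.Fi22M2

open Cfsg.Agent.Lib.H11.BitNet

theorem chk_z3 : chkEq 15 (zs ++ zs) [] = true := by decide +kernel

theorem chk_z1 : chkEq 15 zs [] = false := by decide +kernel

theorem chk_za : chkEq 15 (zs ++ sa) (sa ++ zs) = true := by decide +kernel

theorem chk_sqa : chkEq 15 (sa ++ sa) [] = true := by decide +kernel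

theorem chk_zb : chkEq 15 (zs ++ sb) (sb ++ zs) = true := by decide +kernel

theorem chk_sqb : chkEq 15 (sb ++ sb) [] = true := by decide +kernel

theorem chk_zc : chkEq 15 (zs ++ sc) (sc ++ zs) = true := by decide +kernel

theorem chk_sqc : chkEq 15 (sc ++ sc) [] = true := by decide +kernel

theorem chk_zd : chkEq 15 (zs ++ sd) (sd ++ zs) = true := by decide +kernel

theorem chk_sqd : chkEq 15 (sd ++ sd) [] = true := by decide +kernel

theorem chk_ze : chkEq 15 (zs ++ se) (se ++ zs) = true := by decide +kernel

theorem chk_sqe : chkEq 15 (se ++ se) [] = true := by decide +kernel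

theorem chk_zf : chkEq 15 (zs ++ sf) (sf ++ zs) = true := by decide +kernel

theorem chk_sqf : chkEq 15 (sf ++ sf) [] = true := by decide +kernel

theorem chk_zg : chkEq 15 (zs ++ sg) (sg ++ zs) = true := by decide +kernel

theorem chk_sqg : chkEq 15 (sg ++ sg) [] = true := by decide +kernel

theorem chk_zh : chkEq 15 (zs ++ sh) (sh ++ zs) = true := by decide +kernel

theorem chk_sqh : chkEq 15 (sh ++ sh) [] = true := by decide +kernel

theorem chk_zi : chkEq 15 (zs ++ si) (si ++ zs) = true := by decide +kernel

theorem chk_sqi : chkEq 15 (si ++ si) [] = true := by decide +kernel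

theorem mz_def : mz = netPerm zs := rfl

theorem mz_sq : mz * mz = 1 := by
  rw [mz_def, ← netPerm_append]
  exact netPerm_eq_of_chk 15 _ _ (good_append zs_good zs_good) good_nil chk_z3

theorem mz_ne_one : mz ≠ 1 :=
  netPerm_ne_of_chk 15 zs [] (fun s hs => (zs_good s hs).1)
    (fun _ hs => absurd hs (List.not_mem_nil)) chk_z1

theorem comm_a : mz * netPerm sa = netPerm sa * mz := by
  rw [mz_def, ← netPerm_append, ← netPerm_append]
  exact netPerm_eq_of_chk 15 _ _ (good_append zs_good sa_good) (good_append sa_good zs_good) chk_za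

theorem sq_a : netPerm sa * netPerm sa = 1 := by
  rw [← netPerm_append]
  exact netPerm_eq_of_chk 15 _ _ (good_append sa_good sa_good) good_nil chk_sqa

theorem comm_b : mz * netPerm sb = netPerm sb * mz := by
  rw [mz_def, ← netPerm_append, ← netPerm_append]
  exact netPerm_eq_of_chk 15 _ _ (good_append zs_good sb_good) (good_append sb_good zs_good) chk_zb

theorem sq_b : netPerm sb * netPerm sb = 1 := by
  rw [← netPerm_append]
  exact netPerm_eq_of_chk 15 _ _ (good_append sb_good sb_good) good_nil chk_sqb

theorem comm_c : mz * netPerm sc = netPerm sc * mz := by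
  rw [mz_def, ← netPerm_append, ← netPerm_append]
  exact netPerm_eq_of_chk 15 _ _ (good_append zs_good sc_good) (good_append sc_good zs_good) chk_zc

theorem sq_c : netPerm sc * netPerm sc = 1 := by
  rw [← netPerm_append]
  exact netPerm_eq_of_chk 15 _ _ (good_append sc_good sc_good) good_nil chk_sqc

theorem comm_d : mz * netPerm sd = netPerm sd * mz := by
  rw [mz_def, ← netPerm_append, ← netPerm_append]
  exact netPerm_eq_of_chk 15 _ _ (good_append zs_good sd_good) (good_append sd_good zs_good) chk_zd

theorem sq_d : netPerm sd * netPerm sd = 1 := by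
  rw [← netPerm_append]
  exact netPerm_eq_of_chk 15 _ _ (good_append sd_good sd_good) good_nil chk_sqd

theorem comm_e : mz * netPerm se = netPerm se * mz := by
  rw [mz_def, ← netPerm_append, ← netPerm_append]
  exact netPerm_eq_of_chk 15 _ _ (good_append zs_good se_good) (good_append se_good zs_good) chk_ze

theorem sq_e : netPerm se * netPerm se = 1 := by
  rw [← netPerm_append]
  exact netPerm_eq_of_chk 15 _ _ (good_append se_good se_good) good_nil chk_sqe

theorem comm_f : mz * netPerm sf = netPerm sf * mz := by
  rw [mz_def, ← netPerm_append, ← netPerm_append]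
  exact netPerm_eq_of_chk 15 _ _ (good_append zs_good sf_good) (good_append sf_good zs_good) chk_zf

theorem sq_f : netPerm sf * netPerm sf = 1 := by
  rw [← netPerm_append]
  exact netPerm_eq_of_chk 15 _ _ (good_append sf_good sf_good) good_nil chk_sqf

theorem comm_g : mz * netPerm sg = netPerm sg * mz := by
  rw [mz_def, ← netPerm_append, ← netPerm_append]
  exact netPerm_eq_of_chk 15 _ _ (good_append zs_good sg_good) (good_append sg_good zs_good) chk_zg

theorem sq_g : netPerm sg * netPerm sg = 1 := by
  rw [← netPerm_append]
  exact netPerm_eq_of_chk 15 _ _ (good_append sg_good sg_good) good_nil chk_sqg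

theorem comm_h : mz * netPerm sh = netPerm sh * mz := by
  rw [mz_def, ← netPerm_append, ← netPerm_append]
  exact netPerm_eq_of_chk 15 _ _ (good_append zs_good sh_good) (good_append sh_good zs_good) chk_zh

theorem sq_h : netPerm sh * netPerm sh = 1 := by
  rw [← netPerm_append]
  exact netPerm_eq_of_chk 15 _ _ (good_append sh_good sh_good) good_nil chk_sqh

theorem comm_i : mz * netPerm si = netPerm si * mz := by
  rw [mz_def, ← netPerm_append, ← netPerm_append]
  exact netPerm_eq_of_chk 15 _ _ (good_append zs_good si_good) (good_append si_good zs_good) chk_zi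

theorem sq_i : netPerm si * netPerm si = 1 := by
  rw [← netPerm_append]
  exact netPerm_eq_of_chk 15 _ _ (good_append si_good si_good) good_nil chk_sqi

theorem mg_comm (x : ℕ) : mz * mg x = mg x * mz := by
  unfold mg lst
  split
  · exact comm_a
  · exact comm_b
  · exact comm_c
  · exact comm_d
  · exact comm_e
  · exact comm_f
  · exact comm_g
  · exact comm_h
  · exact comm_i

theorem mg_sq (x : ℕ) : mg x * mg x = 1 := by
  unfold mg lst
  split
  · exact sq_a
  · exact sq_b
  · exact sq_c
  · exact sq_d
  · exact sq_e
  · exact sq_f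
  · exact sq_g
  · exact sq_h
  · exact sq_i

end Cfsg.Agent.Lib.H11.Fi22M2
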