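import Cfsg.Agent.Lib.H11.Fi22MM2ChkS0
import Cfsg.Agent.Lib.H11.Fi22MM2ChkS1
import Cfsg.Agent.Lib.H11.Fi22MM2ChkS2
import Cfsg.Agent.Lib.H11.Fi22MM2ChkL36
import Cfsg.Agent.Lib.H11.Fi22MM2ChkL37
import Cfsg.Agent.Lib.H11.Fi22MM2ChkL38
import Cfsg.Agent.Lib.H11.Fi22MM2ChkZ
import Cfsg.Agent.Lib.H28.Fi22M.Cov

/-!
# S2053 piece M2 (helper11): `z2 ≠ 1` in the presented double cover `PC2` of `Fi22`

The permutation representation of `PC2` on `28160 = 2 * 14080` points (data of helper28,
`tools/fi22m_h28/perm2.txt.xz`) is realised inside `Equiv.Perm ℕ`: each of the nine letters is a product of 29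
delta-swap involutions on `2 ^ 15` slots (`Lib/H11/BitNet`); all words of `covW2` are checked on 15 bit planes by
native big-number operations in the kernel, and the value of `zw2` is the fibre swap `mz ≠ 1`.
-/

set_option autoImplicit false
set_option maxRecDepth 100000

namespace Cfsg.Agent.Lib.H11.Fi22M2

open Cfsg.Agent.Lib.H11.BitNet

open Cfsg.Agent.Lib.H28.Fi22M
open Cfsg.Agent.Lib.H17.Fi22Glue (gen idx relW Gen)
open Cfsg.Agent.Lib.H14.SuzM (wv)

theorem relE_eq : relW.eraseIdx 37 = (partS0 ++ partS1 ++ partS2).take 36 ++ [w36, w38] ++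
    (partS0 ++ partS1 ++ partS2).drop 36 := by decide

theorem zw2_eq_w37 : zw2 = w37 := by decide

theorem small_ok : ∀ w ∈ partS0 ++ partS1 ++ partS2, (w.map mg).prod = 1 := by
  intro w hw
  simp only [List.mem_append] at hw
  rcases hw with (h | h) | h
  · exact chkOne_sound w (partS0_ok w h)
  · exact chkOne_sound w (partS1_ok w h)
  · exact chkOne_sound w (partS2_ok w h)

theorem relE_ok : ∀ w ∈ relW.eraseIdx 37, (w.map mg).prod = 1 := by
  intro w hw
  rw [relE_eq] at hw
  simp only [List.mem_append, List.mem_cons, List.not_mem_nil, or_false] at hw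
  rcases hw with (h | h | h) | h
  · exact small_ok w (List.mem_of_mem_take h)
  · rw [h]; exact w36_one
  · rw [h]; exact w38_one
  · exact small_ok w (List.mem_of_mem_drop h)

theorem zw2_val : (zw2.map mg).prod = mz := by
  rw [zw2_eq_w37]
  exact w37_val

/-- reversing a word of involutions inverts its value -/
theorem prod_reverse (w : List ℕ) : (w.reverse.map mg).prod = ((w.map mg).prod)⁻¹ := by
  induction w with
  | nil => simp
  | cons x w ih =>
    rw [List.reverse_cons, List.map_append, List.prod_append, ih, List.map_cons, List.prod_cons,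
      List.map_cons, List.map_nil, List.prod_cons, List.prod_nil, mul_one, mul_inv_rev]
    congr 1
    exact (inv_eq_of_mul_eq_one_left (mg_sq x)).symm

theorem covW2_ok : ∀ w ∈ covW2, (w.map mg).prod = 1 := by
  intro w hw
  unfold covW2 at hw
  rw [List.mem_append, List.mem_append] at hw
  rcases hw with (hw | hw) | hw
  · exact relE_ok w hw
  · obtain ⟨x, -, rfl⟩ := List.mem_map.mp hw
    rw [List.map_append, List.map_append, List.map_append, List.prod_append, List.prod_append,
      List.prod_append, prod_reverse, zw2_val]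
    simp only [List.map_cons, List.map_nil, List.prod_cons, List.prod_nil, mul_one]
    rw [mg_comm x, mul_assoc, mul_assoc, mul_inv_cancel_left, mg_sq]
  · rw [List.mem_singleton] at hw
    subst hw
    rw [List.map_append, List.prod_append, zw2_val]
    exact mz_sq

theorem lst_idx_gen : ∀ x : ℕ, lst (idx (gen x)) = lst x
  | 0 => rfl
  | 1 => rfl
  | 2 => rfl
  | 3 => rfl
  | 4 => rfl
  | 5 => rfl
  | 6 => rfl
  | 7 => rfl
  | 8 => rfl
  | _ + 9 => rfl

/-- the permutation of a generator -/
noncomputable def ρ2 (u : Gen) : Equiv.Perm ℕ := mg (idx u)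

theorem ρ2_gen (x : ℕ) : ρ2 (gen x) = mg x := by
  unfold ρ2 mg
  rw [lst_idx_gen]

theorem lift_mk_pos2 {K : Type*} [Group K] (f : Gen → K) (w : List ℕ) :
    FreeGroup.lift f (FreeGroup.mk (w.map fun x => (gen x, true))) =
      (w.map fun x => f (gen x)).prod := by
  rw [FreeGroup.lift_mk, List.map_map]
  rfl

theorem ρ2_rels : ∀ r ∈ covRels2, FreeGroup.lift ρ2 r = 1 := by
  rintro r ⟨w, hw, rfl⟩
  rw [lift_mk_pos2, ← covW2_ok w hw]
  congr 1
  apply List.map_congr_left
  intro x _
  exact ρ2_gen x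

/-- the permutation representation of the triple cover -/
noncomputable def φ2 : PC2 →* Equiv.Perm ℕ := PresentedGroup.toGroup (f := ρ2) ρ2_rels

theorem φ2_pc2 (x : ℕ) : φ2 (pc2 x) = mg x := by
  unfold φ2 pc2
  rw [PresentedGroup.toGroup.of, ρ2_gen]

/-- **M2**: the central element `z2 = (abcdefh)⁹` of the presented double cover is not trivial -/
theorem z2_ne_one_aux : z2 ≠ 1 := by
  intro h
  have h1 : φ2 z2 = 1 := by rw [h, map_one]
  have h2 : φ2 z2 = (zw2.map mg).prod := by
    unfold z2 wv
    rw [map_list_prod, List.map_map]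
    exact congrArg List.prod (List.map_congr_left (fun x _ => φ2_pc2 x))
  rw [h2, zw2_val] at h1
  exact mz_ne_one h1

end Cfsg.Agent.Lib.H11.Fi22M2

namespace Cfsg.Agent.Lib.H11.Fi22M

/-- **M2** (S2053, farm-out #2): `z2 ≠ 1` in the presented double cover of `Fi22` -/
theorem z2_ne_one : Cfsg.Agent.Lib.H28.Fi22M.z2 ≠ 1 := Cfsg.Agent.Lib.H11.Fi22M2.z2_ne_one_aux

end Cfsg.Agent.Lib.H11.Fi22M
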