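import Cfsg.Agent.Lib.H11.Fi22MM2Net

/-!
# S2053 piece M2 (helper11): kernel checks of short relator words (part 0); one declaration per word,
no parallel elaboration (memory)
-/

set_option Elab.async false
set_option autoImplicit false
set_option maxRecDepth 100000

namespace Cfsg.Agent.Lib.H11.Fi22M2

open Cfsg.Agent.Lib.H11.BitNet

theorem chkS0_0 : chkOne [0, 1, 0, 1, 0, 1] = true := by decide +kernel

theorem chkS0_1 : chkOne [0, 2, 0, 2] = true := by decide +kernel

theorem chkS0_2 : chkOne [0, 3, 0, 3] = true := by decide +kernel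

theorem chkS0_3 : chkOne [0, 4, 0, 4] = true := by decide +kernel

theorem chkS0_4 : chkOne [0, 5, 0, 5] = true := by decide +kernel

theorem chkS0_5 : chkOne [0, 6, 0, 6] = true := by decide +kernel

theorem chkS0_6 : chkOne [0, 7, 0, 7] = true := by decide +kernel

theorem chkS0_7 : chkOne [0, 8, 0, 8] = true := by decide +kernel

theorem chkS0_8 : chkOne [1, 2, 1, 2, 1, 2] = true := by decide +kernel

theorem chkS0_9 : chkOne [1, 3, 1, 3] = true := by decide +kernel

theorem chkS0_10 : chkOne [1, 4, 1, 4] = true := by decide +kernel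

theorem chkS0_11 : chkOne [1, 5, 1, 5] = true := by decide +kernel

theorem chkS0_12 : chkOne [1, 6, 1, 6] = true := by decide +kernel

theorem chkS0_13 : chkOne [1, 7, 1, 7] = true := by decide +kernel

theorem chkS0_14 : chkOne [1, 8, 1, 8] = true := by decide +kernel

theorem chkS0_15 : chkOne [2, 3, 2, 3, 2, 3] = true := by decide +kernel

/-- part 0 of the short relator words -/
def partS0 : List (List ℕ) := [[0, 1, 0, 1, 0, 1], [0, 2, 0, 2], [0, 3, 0, 3], [0, 4, 0, 4], [0, 5, 0, 5], [0, 6, 0, 6], [0, 7, 0, 7], [0, 8, 0, 8], [1, 2, 1, 2, 1, 2], [1, 3, 1, 3], [1, 4, 1, 4], [1, 5, 1, 5], [1, 6, 1, 6], [1, 7, 1, 7], [1, 8, 1, 8], [2, 3, 2, 3, 2, 3]]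

theorem partS0_ok : ∀ w ∈ partS0, chkOne w = true := by
  intro w hw
  simp only [partS0, List.mem_cons, List.not_mem_nil, or_false] at hw
  rcases hw with rfl | rfl | rfl | rfl | rfl | rfl | rfl | rfl | rfl | rfl | rfl | rfl | rfl | rfl | rfl | rfl
  exacts [chkS0_0, chkS0_1, chkS0_2, chkS0_3, chkS0_4, chkS0_5, chkS0_6, chkS0_7, chkS0_8, chkS0_9, chkS0_10, chkS0_11, chkS0_12, chkS0_13, chkS0_14, chkS0_15]

end Cfsg.Agent.Lib.H11.Fi22M2
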