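import Cfsg.Agent.Lib.H11.Fi22MM3Net

/-!
# S2053 piece M3 (helper11): kernel check of the relator word 36 of `relW` (90 letters), one bit plane per
declaration (memory), no parallel elaboration
-/

set_option Elab.async false
set_option autoImplicit false
set_option maxRecDepth 100000

namespace Cfsg.Agent.Lib.H11.Fi22M3

open Cfsg.Agent.Lib.H11.BitNet

/-- the word 36 of `relW` -/
def w36 : List ℕ := [3, 2, 1, 3, 4, 5, 3, 7, 8, 3, 2, 1, 3, 4, 5, 3, 7, 8, 3, 2, 1, 3, 4, 5, 3, 7, 8, 3, 2, 1, 3, 4, 5, 3, 7, 8, 3, 2, 1, 3, 4, 5, 3, 7, 8, 3, 2, 1, 3, 4, 5, 3, 7, 8, 3, 2, 1, 3, 4, 5, 3, 7, 8, 3, 2, 1, 3, 4, 5, 3, 7, 8, 3, 2, 1, 3, 4, 5, 3, 7, 8, 3, 2, 1, 3, 4, 5, 3, 7, 8]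

theorem chkL36_0 : chkPlane 0 (wst w36) zs = true := by decide +kernel

theorem chkL36_1 : chkPlane 1 (wst w36) zs = true := by decide +kernel

theorem chkL36_2 : chkPlane 2 (wst w36) zs = true := by decide +kernel

theorem chkL36_3 : chkPlane 3 (wst w36) zs = true := by decide +kernel

theorem chkL36_4 : chkPlane 4 (wst w36) zs = true := by decide +kernel

theorem chkL36_5 : chkPlane 5 (wst w36) zs = true := by decide +kernel

theorem chkL36_6 : chkPlane 6 (wst w36) zs = true := by decide +kernel

theorem chkL36_7 : chkPlane 7 (wst w36) zs = true := by decide +kernel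

theorem chkL36_8 : chkPlane 8 (wst w36) zs = true := by decide +kernel

theorem chkL36_9 : chkPlane 9 (wst w36) zs = true := by decide +kernel

theorem chkL36_10 : chkPlane 10 (wst w36) zs = true := by decide +kernel

theorem chkL36_11 : chkPlane 11 (wst w36) zs = true := by decide +kernel

theorem chkL36_12 : chkPlane 12 (wst w36) zs = true := by decide +kernel

theorem chkL36_13 : chkPlane 13 (wst w36) zs = true := by decide +kernel

theorem chkL36_14 : chkPlane 14 (wst w36) zs = true := by decide +kernel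

theorem chkL36_15 : chkPlane 15 (wst w36) zs = true := by decide +kernel

theorem chkL36_16 : chkPlane 16 (wst w36) zs = true := by decide +kernel

theorem chkL36_17 : chkPlane 17 (wst w36) zs = true := by decide +kernel

theorem chkL36 : ∀ b < 18, chkPlane b (wst w36) zs = true := by
  intro b hb
  interval_cases b
  exacts [chkL36_0, chkL36_1, chkL36_2, chkL36_3, chkL36_4, chkL36_5, chkL36_6, chkL36_7, chkL36_8, chkL36_9, chkL36_10, chkL36_11, chkL36_12, chkL36_13, chkL36_14, chkL36_15, chkL36_16, chkL36_17]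

theorem w36_val : (w36.map mg).prod = mz := by
  rw [wprod_eq]
  exact netPerm_eq_of_chkPlanes _ _ (wst_good _) zs_good chkL36

end Cfsg.Agent.Lib.H11.Fi22M3
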