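import Cfsg.Agent.Lib.H11.Fi22MM3Net

/-!
# S2053 piece M3 (helper11): kernel check of the relator word 38 of `relW` (63 letters), one bit plane per
declaration (memory), no parallel elaboration
-/

set_option Elab.async false
set_option autoImplicit false
set_option maxRecDepth 100000

namespace Cfsg.Agent.Lib.H11.Fi22M3

open Cfsg.Agent.Lib.H11.BitNet

/-- the word 38 of `relW` -/
def w38 : List ℕ := [1, 2, 3, 4, 5, 6, 7, 1, 2, 3, 4, 5, 6, 7, 1, 2, 3, 4, 5, 6, 7, 1, 2, 3, 4, 5, 6, 7, 1, 2, 3, 4, 5, 6, 7, 1, 2, 3, 4, 5, 6, 7, 1, 2, 3, 4, 5, 6, 7, 1, 2, 3, 4, 5, 6, 7, 1, 2, 3, 4, 5, 6, 7]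

theorem chkL38_0 : chkPlane 0 (wst w38) [] = true := by decide +kernel

theorem chkL38_1 : chkPlane 1 (wst w38) [] = true := by decide +kernel

theorem chkL38_2 : chkPlane 2 (wst w38) [] = true := by decide +kernel

theorem chkL38_3 : chkPlane 3 (wst w38) [] = true := by decide +kernel

theorem chkL38_4 : chkPlane 4 (wst w38) [] = true := by decide +kernel

theorem chkL38_5 : chkPlane 5 (wst w38) [] = true := by decide +kernel

theorem chkL38_6 : chkPlane 6 (wst w38) [] = true := by decide +kernel

theorem chkL38_7 : chkPlane 7 (wst w38) [] = true := by decide +kernel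

theorem chkL38_8 : chkPlane 8 (wst w38) [] = true := by decide +kernel

theorem chkL38_9 : chkPlane 9 (wst w38) [] = true := by decide +kernel

theorem chkL38_10 : chkPlane 10 (wst w38) [] = true := by decide +kernel

theorem chkL38_11 : chkPlane 11 (wst w38) [] = true := by decide +kernel

theorem chkL38_12 : chkPlane 12 (wst w38) [] = true := by decide +kernel

theorem chkL38_13 : chkPlane 13 (wst w38) [] = true := by decide +kernel

theorem chkL38_14 : chkPlane 14 (wst w38) [] = true := by decide +kernel

theorem chkL38_15 : chkPlane 15 (wst w38) [] = true := by decide +kernel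

theorem chkL38_16 : chkPlane 16 (wst w38) [] = true := by decide +kernel

theorem chkL38_17 : chkPlane 17 (wst w38) [] = true := by decide +kernel

theorem chkL38 : ∀ b < 18, chkPlane b (wst w38) [] = true := by
  intro b hb
  interval_cases b
  exacts [chkL38_0, chkL38_1, chkL38_2, chkL38_3, chkL38_4, chkL38_5, chkL38_6, chkL38_7, chkL38_8, chkL38_9, chkL38_10, chkL38_11, chkL38_12, chkL38_13, chkL38_14, chkL38_15, chkL38_16, chkL38_17]

theorem w38_one : (w38.map mg).prod = 1 := by
  rw [wprod_eq]
  exact netPerm_eq_of_chkPlanes _ _ (wst_good _) good_nil chkL38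

end Cfsg.Agent.Lib.H11.Fi22M3
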