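import Cfsg.Agent.Lib.H11.Fi22MM3Net

/-!
# S2053 piece M3 (helper11): kernel checks of short relator words (part 1); one declaration per word,
no parallel elaboration (memory)
-/

set_option Elab.async false
set_option autoImplicit false
set_option maxRecDepth 100000

namespace Cfsg.Agent.Lib.H11.Fi22M3

open Cfsg.Agent.Lib.H11.BitNet

theorem chkS1_0 : chkOne [2, 4, 2, 4] = true := by decide +kernel

theorem chkS1_1 : chkOne [2, 5, 2, 5] = true := by decide +kernel

theorem chkS1_2 : chkOne [2, 6, 2, 6] = true := by decide +kernel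

theorem chkS1_3 : chkOne [2, 7, 2, 7] = true := by decide +kernel

theorem chkS1_4 : chkOne [2, 8, 2, 8] = true := by decide +kernel

theorem chkS1_5 : chkOne [3, 4, 3, 4, 3, 4] = true := by decide +kernel

theorem chkS1_6 : chkOne [3, 5, 3, 5] = true := by decide +kernel

theorem chkS1_7 : chkOne [3, 6, 3, 6] = true := by decide +kernel

theorem chkS1_8 : chkOne [3, 7, 3, 7, 3, 7] = true := by decide +kernel

theorem chkS1_9 : chkOne [3, 8, 3, 8] = true := by decide +kernel

theorem chkS1_10 : chkOne [4, 5, 4, 5, 4, 5] = true := by decide +kernel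

theorem chkS1_11 : chkOne [4, 6, 4, 6] = true := by decide +kernel

theorem chkS1_12 : chkOne [4, 7, 4, 7] = true := by decide +kernel

theorem chkS1_13 : chkOne [4, 8, 4, 8] = true := by decide +kernel

theorem chkS1_14 : chkOne [5, 6, 5, 6, 5, 6] = true := by decide +kernel

theorem chkS1_15 : chkOne [5, 7, 5, 7] = true := by decide +kernel

/-- part 1 of the short relator words -/
def partS1 : List (List ℕ) := [[2, 4, 2, 4], [2, 5, 2, 5], [2, 6, 2, 6], [2, 7, 2, 7], [2, 8, 2, 8], [3, 4, 3, 4, 3, 4], [3, 5, 3, 5], [3, 6, 3, 6], [3, 7, 3, 7, 3, 7], [3, 8, 3, 8], [4, 5, 4, 5, 4, 5], [4, 6, 4, 6], [4, 7, 4, 7], [4, 8, 4, 8], [5, 6, 5, 6, 5, 6], [5, 7, 5, 7]]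

theorem partS1_ok : ∀ w ∈ partS1, chkOne w = true := by
  intro w hw
  simp only [partS1, List.mem_cons, List.not_mem_nil, or_false] at hw
  rcases hw with rfl | rfl | rfl | rfl | rfl | rfl | rfl | rfl | rfl | rfl | rfl | rfl | rfl | rfl | rfl | rfl
  exacts [chkS1_0, chkS1_1, chkS1_2, chkS1_3, chkS1_4, chkS1_5, chkS1_6, chkS1_7, chkS1_8, chkS1_9, chkS1_10, chkS1_11, chkS1_12, chkS1_13, chkS1_14, chkS1_15]

end Cfsg.Agent.Lib.H11.Fi22M3
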