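import Cfsg.Agent.Lib.H11.Fi22MM3ChkS0
import Cfsg.Agent.Lib.H11.Fi22MM3ChkS1
import Cfsg.Agent.Lib.H11.Fi22MM3ChkS2
import Cfsg.Agent.Lib.H11.Fi22MM3ChkL36
import Cfsg.Agent.Lib.H11.Fi22MM3ChkL37
import Cfsg.Agent.Lib.H11.Fi22MM3ChkL38
import Cfsg.Agent.Lib.H11.Fi22MM3ChkZ
import Cfsg.Agent.Lib.H28.Fi22M.Cov

/-!
# S2053 piece M3 (helper11): `z3 ≠ 1` in the presented triple cover `PC3` of `Fi22`

The permutation representation of `PC3` on `185328 = 3 * 61776` points (data of helper28,
`tools/fi22m_h28/perm3.txt.xz`) is realised inside `Equiv.Perm ℕ`: each of the nine letters is a product of 35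
delta-swap involutions on `2 ^ 18` slots (`Lib/H11/BitNet`); all words of `covW3` are checked on 18 bit planes by
native big-number operations in the kernel, and the value of `zw3` is the fibre rotation `mz ≠ 1`.
-/

set_option autoImplicit false
set_option maxRecDepth 100000

namespace Cfsg.Agent.Lib.H11.Fi22M3

open Cfsg.Agent.Lib.H11.BitNet

open Cfsg.Agent.Lib.H28.Fi22M
open Cfsg.Agent.Lib.H17.Fi22Glue (gen idx relW Gen)
open Cfsg.Agent.Lib.H14.SuzM (wv)

theorem relE_eq : relW.eraseIdx 36 = (partS0 ++ partS1 ++ partS2).take 36 ++ [w37, w38] ++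
    (partS0 ++ partS1 ++ partS2).drop 36 := by decide

theorem zw3_eq_w36 : zw3 = w36 := by decide

theorem small_ok : ∀ w ∈ partS0 ++ partS1 ++ partS2, (w.map mg).prod = 1 := by
  intro w hw
  simp only [List.mem_append] at hw
  rcases hw with (h | h) | h
  · exact chkOne_sound w (partS0_ok w h)
  · exact chkOne_sound w (partS1_ok w h)
  · exact chkOne_sound w (partS2_ok w h)

theorem relE_ok : ∀ w ∈ relW.eraseIdx 36, (w.map mg).prod = 1 := by
  intro w hw
  rw [relE_eq] at hw
  simp only [List.mem_append, List.mem_cons, List.not_mem_nil, or_false] at hw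
  rcases hw with (h | h | h) | h
  · exact small_ok w (List.mem_of_mem_take h)
  · rw [h]; exact w37_one
  · rw [h]; exact w38_one
  · exact small_ok w (List.mem_of_mem_drop h)

theorem zw3_val : (zw3.map mg).prod = mz := by
  rw [zw3_eq_w36]
  exact w36_val

/-- reversing a word of involutions inverts its value -/
theorem prod_reverse (w : List ℕ) : (w.reverse.map mg).prod = ((w.map mg).prod)⁻¹ := by
  induction w with
  | nil => simp
  | cons x w ih =>
    rw [List.reverse_cons, List.map_append, List.prod_append, ih, List.map_cons, List.prod_cons,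
      List.map_cons, List.map_nil, List.prod_cons, List.prod_nil, mul_one, mul_inv_rev]
    congr 1
    exact (inv_eq_of_mul_eq_one_left (mg_sq x)).symm

theorem covW3_ok : ∀ w ∈ covW3, (w.map mg).prod = 1 := by
  intro w hw
  unfold covW3 at hw
  rw [List.mem_append, List.mem_append] at hw
  rcases hw with (hw | hw) | hw
  · exact relE_ok w hw
  · obtain ⟨x, -, rfl⟩ := List.mem_map.mp hw
    rw [List.map_append, List.map_append, List.map_append, List.prod_append, List.prod_append,
      List.prod_append, prod_reverse, zw3_val]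
    simp only [List.map_cons, List.map_nil, List.prod_cons, List.prod_nil, mul_one]
    rw [mg_comm x, mul_assoc, mul_assoc, mul_inv_cancel_left, mg_sq]
  · rw [List.mem_singleton] at hw
    subst hw
    rw [List.map_append, List.map_append, List.prod_append, List.prod_append, zw3_val, mul_assoc]
    exact mz_cube

theorem lst_idx_gen : ∀ x : ℕ, lst (idx (gen x)) = lst x
  | 0 => rfl
  | 1 => rfl
  | 2 => rfl
  | 3 => rfl
  | 4 => rfl
  | 5 => rfl
  | 6 => rfl
  | 7 => rfl
  | 8 => rfl
  | _ + 9 => rfl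

/-- the permutation of a generator -/
noncomputable def ρ3 (u : Gen) : Equiv.Perm ℕ := mg (idx u)

theorem ρ3_gen (x : ℕ) : ρ3 (gen x) = mg x := by
  unfold ρ3 mg
  rw [lst_idx_gen]

theorem lift_mk_pos3 {K : Type*} [Group K] (f : Gen → K) (w : List ℕ) :
    FreeGroup.lift f (FreeGroup.mk (w.map fun x => (gen x, true))) =
      (w.map fun x => f (gen x)).prod := by
  rw [FreeGroup.lift_mk, List.map_map]
  rfl

theorem ρ3_rels : ∀ r ∈ covRels3, FreeGroup.lift ρ3 r = 1 := by
  rintro r ⟨w, hw, rfl⟩
  rw [lift_mk_pos3, ← covW3_ok w hw]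
  congr 1
  apply List.map_congr_left
  intro x _
  exact ρ3_gen x

/-- the permutation representation of the triple cover -/
noncomputable def φ3 : PC3 →* Equiv.Perm ℕ := PresentedGroup.toGroup (f := ρ3) ρ3_rels

theorem φ3_pc3 (x : ℕ) : φ3 (pc3 x) = mg x := by
  unfold φ3 pc3
  rw [PresentedGroup.toGroup.of, ρ3_gen]

/-- **M3**: the central element `z3 = (dcbdefdhi)¹⁰` of the presented triple cover is not trivial -/
theorem z3_ne_one_aux : z3 ≠ 1 := by
  intro h
  have h1 : φ3 z3 = 1 := by rw [h, map_one]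
  have h2 : φ3 z3 = (zw3.map mg).prod := by
    unfold z3 wv
    rw [map_list_prod, List.map_map]
    exact congrArg List.prod (List.map_congr_left (fun x _ => φ3_pc3 x))
  rw [h2, zw3_val] at h1
  exact mz_ne_one h1

end Cfsg.Agent.Lib.H11.Fi22M3

namespace Cfsg.Agent.Lib.H11.Fi22M

/-- **M3** (S2053, farm-out #2): `z3 ≠ 1` in the presented triple cover of `Fi22` -/
theorem z3_ne_one : Cfsg.Agent.Lib.H28.Fi22M.z3 ≠ 1 := Cfsg.Agent.Lib.H11.Fi22M3.z3_ne_one_aux

end Cfsg.Agent.Lib.H11.Fi22M
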