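import Mathlib

/-!
# S3816 (Flavell's fixed point theorem, `P` of odd prime order): the translation (helper11)

`FlavInt` is the internal form in a finite group `Γ = N⟨s⟩` (`N` normal of order prime to `p`,
`s` of odd prime order `p`): an element of `[N, s] = ⟨h⁻¹ (sⁱ h s⁻ⁱ)⟩` centralising `s` lies in the
join of the `[h, s] ⊓ C(s)`.  `s3816_of_flavInt` derives the `MulAut` form of the statement S3816
from it, with `Γ := H ⋊ ⟨x⟩`.
-/

set_option autoImplicit false

namespace Cfsg.Agent.Lib.H11.Flav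

universe u

/-- the internal form of Flavell's theorem -/
def FlavInt : Prop :=
  ∀ (Γ : Type u) [Group Γ] [Finite Γ] (N : Subgroup Γ) [N.Normal] (s : Γ) (p : ℕ) [Fact p.Prime],
    p ≠ 2 → orderOf s = p → (Nat.card N).Coprime p →
    (∀ g : Γ, ∃ n ∈ N, ∃ k : ℕ, g = n * s ^ k) →
    ∀ z : Γ, z ∈ Subgroup.closure {c : Γ | ∃ h ∈ N, ∃ i : ℕ, c = h⁻¹ * (s ^ i * h * (s ^ i)⁻¹)} →
      z * s = s * z →
      z ∈ ⨆ h : ↥N, Subgroup.closure {c : Γ | ∃ i : ℕ,
        c = (h : Γ)⁻¹ * (s ^ i * (h : Γ) * (s ^ i)⁻¹)} ⊓ Subgroup.centralizer {s}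

section

variable {H : Type u} [Group H] (x : MulAut H)

/-- the generator of `⟨x⟩` -/
def gen : ↥(Subgroup.zpowers x) := ⟨x, Subgroup.mem_zpowers x⟩

/-- `Γ = H ⋊ ⟨x⟩` -/
abbrev Gam : Type u := H ⋊[(Subgroup.zpowers x).subtype] ↥(Subgroup.zpowers x)

/-- `s = (1, x)` -/
def sElt : Gam x := SemidirectProduct.inr (gen x)

/-- `ι : H → Γ` -/
def iota : H →* Gam x := SemidirectProduct.inl

theorem iota_injective : Function.Injective (iota x) := SemidirectProduct.inl_injective

theorem conj_pow (i : ℕ) (h : H) :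
    sElt x ^ i * iota x h * (sElt x ^ i)⁻¹ = iota x ((x ^ i) h) := by
  have h1 := SemidirectProduct.inl_aut (φ := (Subgroup.zpowers x).subtype) (gen x ^ i) h
  have h2 : ((Subgroup.zpowers x).subtype (gen x ^ i)) = x ^ i := by
    rw [map_pow]
    rfl
  rw [h2, map_inv, map_pow] at h1
  exact h1.symm

theorem iota_comm (i : ℕ) (h : H) :
    iota x (h⁻¹ * (x ^ i) h) = (iota x h)⁻¹ * (sElt x ^ i * iota x h * (sElt x ^ i)⁻¹) := by
  rw [map_mul, map_inv, conj_pow]

theorem comm_iff (a : H) : iota x a * sElt x = sElt x * iota x a ↔ x a = a := by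
  have h1 := conj_pow x 1 a
  rw [pow_one, pow_one] at h1
  constructor
  · intro h
    have h2 : sElt x * iota x a * (sElt x)⁻¹ = iota x a := by
      rw [← h]
      group
    rw [h1] at h2
    exact iota_injective x h2
  · intro h
    rw [h] at h1
    calc iota x a * sElt x = (sElt x * iota x a * (sElt x)⁻¹) * sElt x := by rw [h1]
      _ = sElt x * iota x a := by group

theorem orderOf_sElt : orderOf (sElt x) = orderOf x := by
  unfold sElt
  rw [orderOf_injective _ SemidirectProduct.inr_injective, gen, Subgroup.orderOf_mk]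

theorem exists_gen (hx : 0 < orderOf x) (g : Gam x) :
    ∃ n ∈ (iota x).range, ∃ k : ℕ, g = n * sElt x ^ k := by
  refine ⟨iota x g.left, ⟨g.left, rfl⟩, ?_⟩
  obtain ⟨m, hm⟩ := Subgroup.mem_zpowers_iff.1 g.right.2
  have h0 : (0 : ℤ) ≤ m % (orderOf x : ℤ) := Int.emod_nonneg _ (by exact_mod_cast hx.ne')
  refine ⟨(m % (orderOf x : ℤ)).toNat, ?_⟩
  have h1 : g.right = gen x ^ (m % (orderOf x : ℤ)).toNat := by
    apply Subtype.ext
    rw [Subgroup.coe_pow, gen]
    show (g.right : MulAut H) = x ^ (m % (orderOf x : ℤ)).toNat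
    rw [← zpow_natCast, Int.toNat_of_nonneg h0, zpow_mod_orderOf, hm]
  have h2 : sElt x ^ (m % (orderOf x : ℤ)).toNat = SemidirectProduct.inr g.right := by
    rw [h1, sElt, ← map_pow]
  rw [h2]
  exact (SemidirectProduct.inl_left_mul_inr_right g).symm

end

/-- **S3816 from the internal form.** -/
theorem s3816_of_flavInt (hF : FlavInt.{u}) {H : Type u} [Group H] [Finite H]
    {p : ℕ} [Fact p.Prime] (hp : p ≠ 2) (hcop : (Nat.card H).Coprime p)
    (x : MulAut H) (hx : orderOf x = p) :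
    Subgroup.closure {c : H | ∃ h : H, ∃ i : ℕ, c = h⁻¹ * (x ^ i) h} ⊓
        (x : H →* H).eqLocus (MonoidHom.id H) =
      ⨆ h : H, Subgroup.closure {c : H | ∃ i : ℕ, c = h⁻¹ * (x ^ i) h} ⊓
        (x : H →* H).eqLocus (MonoidHom.id H) := by
  have hpp : p.Prime := Fact.out
  apply le_antisymm
  · -- the real direction
    intro z hz
    obtain ⟨hzA, hzE⟩ := Subgroup.mem_inf.1 hz
    have hzE' : x z = z := hzE
    -- finiteness of `Γ`
    haveI : Finite ↥(Subgroup.zpowers x) := by
      apply Nat.finite_of_card_ne_zero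
      rw [Nat.card_zpowers, hx]
      exact hpp.ne_zero
    haveI : Finite (Gam x) := Finite.of_equiv _ SemidirectProduct.equivProd.symm
    haveI : (iota x).range.Normal := by
      unfold iota
      rw [SemidirectProduct.range_inl_eq_ker_rightHom]
      infer_instance
    have hcard : Nat.card ↥(iota x).range = Nat.card H :=
      (Nat.card_congr (MonoidHom.ofInjective (iota_injective x)).toEquiv).symm
    have hxpos : 0 < orderOf x := by rw [hx]; exact hpp.pos
    -- membership of `ι z`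
    have h1 : iota x z ∈ Subgroup.closure {c : Gam x | ∃ h ∈ (iota x).range, ∃ i : ℕ,
        c = h⁻¹ * (sElt x ^ i * h * (sElt x ^ i)⁻¹)} := by
      have h2 : iota x z ∈ (Subgroup.closure
          {c : H | ∃ h : H, ∃ i : ℕ, c = h⁻¹ * (x ^ i) h}).map (iota x) :=
        Subgroup.mem_map_of_mem _ hzA
      rw [MonoidHom.map_closure] at h2
      refine Subgroup.closure_mono ?_ h2
      rintro _ ⟨c, ⟨h, i, rfl⟩, rfl⟩
      exact ⟨iota x h, ⟨h, rfl⟩, i, iota_comm x i h⟩
    have h3 : iota x z * sElt x = sElt x * iota x z := (comm_iff x z).2 hzE'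
    have h4 := hF (Gam x) (iota x).range (sElt x) p hp (by rw [orderOf_sElt, hx])
      (by rw [hcard]; exact hcop) (exists_gen x hxpos) (iota x z) h1 h3
    -- the join is inside the image of the join
    have h5 : (⨆ h : ↥(iota x).range, Subgroup.closure {c : Gam x | ∃ i : ℕ,
        c = (h : Gam x)⁻¹ * (sElt x ^ i * (h : Gam x) * (sElt x ^ i)⁻¹)} ⊓
          Subgroup.centralizer {sElt x}) ≤
        (⨆ h : H, Subgroup.closure {c : H | ∃ i : ℕ, c = h⁻¹ * (x ^ i) h} ⊓
          (x : H →* H).eqLocus (MonoidHom.id H)).map (iota x) := by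
      refine iSup_le ?_
      rintro ⟨_, h', rfl⟩
      have h6 : {c : Gam x | ∃ i : ℕ,
          c = (iota x h')⁻¹ * (sElt x ^ i * iota x h' * (sElt x ^ i)⁻¹)} =
          (iota x) '' {c : H | ∃ i : ℕ, c = h'⁻¹ * (x ^ i) h'} := by
        ext c
        constructor
        · rintro ⟨i, rfl⟩
          exact ⟨_, ⟨i, rfl⟩, iota_comm x i h'⟩
        · rintro ⟨c', ⟨i, rfl⟩, rfl⟩
          exact ⟨i, iota_comm x i h'⟩
      show Subgroup.closure {c : Gam x | ∃ i : ℕ,
          c = (iota x h')⁻¹ * (sElt x ^ i * iota x h' * (sElt x ^ i)⁻¹)} ⊓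
          Subgroup.centralizer {sElt x} ≤ _
      rw [h6, ← MonoidHom.map_closure]
      rintro y ⟨⟨a, ha, rfl⟩, hy2⟩
      have h7 : iota x a * sElt x = sElt x * iota x a :=
        (Subgroup.mem_centralizer_iff.1 hy2 (sElt x) (Set.mem_singleton _)).symm
      have h8 : x a = a := (comm_iff x a).1 h7
      refine Subgroup.mem_map_of_mem _ ?_
      exact (le_iSup (fun h : H => Subgroup.closure {c : H | ∃ i : ℕ, c = h⁻¹ * (x ^ i) h} ⊓
          (x : H →* H).eqLocus (MonoidHom.id H)) h') (Subgroup.mem_inf.2 ⟨ha, h8⟩)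
    exact (Subgroup.mem_map_iff_mem (iota_injective x)).1 (h5 h4)
  · -- the trivial direction
    refine iSup_le (fun h => inf_le_inf_right _ (Subgroup.closure_mono ?_))
    rintro c ⟨i, hc⟩
    exact ⟨h, i, hc⟩

end Cfsg.Agent.Lib.H11.Flav
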