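import Cfsg.Agent.Lib.H1.G85.Defs
import Cfsg.Agent.Lib.H13.GlaubIVL
import Cfsg.Agent.Lib.H16.GlaubT6

/-!
# S4385 wave 2, piece (CH34): chain facts for `(q, t) = (3, 4)`

Blueprint `tools/blueprints/S4385.md`, exact signature of `tools/blueprints/S4385_sigs2.lean`.
(helper11, twin of helper26.)
-/

set_option autoImplicit false
open scoped Pointwise
open Cfsg.Agent.Lib.H5.Glaub Cfsg.Agent.Lib.H5.Glaub.Setup Cfsg.Agent.Lib.H1.G85

namespace Cfsg.Agent.Lib.H11.G85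

variable {G : Type*} [Group G]

/-- elements of `zpowers a` for an involution `a` -/
theorem ch34_mem_zpowers_invol {a g : G} (ha : a * a = 1) (hg : g ∈ Subgroup.zpowers a) :
    g = 1 ∨ g = a := by
  obtain ⟨n, rfl⟩ := Subgroup.mem_zpowers_iff.1 hg
  rcases Int.even_or_odd' n with ⟨m, hm | hm⟩
  · left
    rw [hm, zpow_mul, zpow_two, ha, one_zpow]
  · right
    rw [hm, zpow_add_one, zpow_mul, zpow_two, ha, one_zpow, one_mul]

/-- the group generated by two commuting involutions -/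
theorem ch34_mem_sup_zpowers {s r g : G} (hs : s * s = 1) (hr : r * r = 1) (hsr : s * r = r * s)
    (hg : g ∈ Subgroup.zpowers s ⊔ Subgroup.zpowers r) : g = 1 ∨ g = s ∨ g = r ∨ g = s * r := by
  have hsi : s⁻¹ = s := inv_eq_of_mul_eq_one_right hs
  have hri : r⁻¹ = r := inv_eq_of_mul_eq_one_right hr
  have hS : ∀ h : G, (h = 1 ∨ h = s ∨ h = r ∨ h = s * r) →
      (s * h = 1 ∨ s * h = s ∨ s * h = r ∨ s * h = s * r) := by
    intro h hh
    rcases hh with h1 | h1 | h1 | h1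
    · right; left; rw [h1, mul_one]
    · left; rw [h1]; exact hs
    · right; right; right; rw [h1]
    · right; right; left; rw [h1, ← mul_assoc, hs, one_mul]
  have hR : ∀ h : G, (h = 1 ∨ h = s ∨ h = r ∨ h = s * r) →
      (r * h = 1 ∨ r * h = s ∨ r * h = r ∨ r * h = s * r) := by
    intro h hh
    rcases hh with h1 | h1 | h1 | h1
    · right; right; left; rw [h1, mul_one]
    · right; right; right; rw [h1]; exact hsr.symm
    · left; rw [h1]; exact hr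
    · right; left; rw [h1, ← mul_assoc, ← hsr, mul_assoc, hr, mul_one]
  rw [Subgroup.zpowers_eq_closure, Subgroup.zpowers_eq_closure, ← Subgroup.closure_union] at hg
  have key : ∀ g ∈ Subgroup.closure ({s} ∪ {r} : Set G),
      (∀ h : G, (h = 1 ∨ h = s ∨ h = r ∨ h = s * r) →
        (g * h = 1 ∨ g * h = s ∨ g * h = r ∨ g * h = s * r)) ∧
      (∀ h : G, (h = 1 ∨ h = s ∨ h = r ∨ h = s * r) →
        (g⁻¹ * h = 1 ∨ g⁻¹ * h = s ∨ g⁻¹ * h = r ∨ g⁻¹ * h = s * r)) := by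
    intro g hg
    induction hg using Subgroup.closure_induction with
    | mem y hy =>
      rcases hy with hy | hy
      · rw [Set.mem_singleton_iff] at hy
        rw [hy]
        exact ⟨hS, by rw [hsi]; exact hS⟩
      · rw [Set.mem_singleton_iff] at hy
        rw [hy]
        exact ⟨hR, by rw [hri]; exact hR⟩
    | one => exact ⟨fun h hh => by rwa [one_mul], fun h hh => by rwa [inv_one, one_mul]⟩
    | mul a b _ _ iha ihb =>
      refine ⟨fun h hh => ?_, fun h hh => ?_⟩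
      · rw [mul_assoc]; exact iha.1 _ (ihb.1 _ hh)
      · rw [mul_inv_rev, mul_assoc]; exact ihb.2 _ (iha.2 _ hh)
    | inv a _ iha => exact ⟨iha.2, by rw [inv_inv]; exact iha.1⟩
  have := (key g hg).1 1 (Or.inl rfl)
  rwa [mul_one] at this

theorem ch34_mul_self_mul {s r : G} (hs : s * s = 1) (hr : r * r = 1) (hsr : s * r = r * s) :
    (s * r) * (s * r) = 1 := by
  calc (s * r) * (s * r) = s * (r * s) * r := by group
    _ = s * (s * r) * r := by rw [hsr]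
    _ = (s * s) * (r * r) := by group
    _ = 1 := by rw [hs, hr, one_mul]

theorem ch34_rel {b v : G} (hb : b * b = 1) (hv : v * v = 1)
    (hE : (b * v * b * v) * (b * v * b * v) = 1) : b * v * b⁻¹ = v * (b * v * b * v) := by
  have hbi : b⁻¹ = b := inv_eq_of_mul_eq_one_right hb
  have hvi : v⁻¹ = v := inv_eq_of_mul_eq_one_right hv
  have h1 : (b * v * b * v)⁻¹ = b * v * b * v := inv_eq_of_mul_eq_one_right hE
  have h2 : (b * v * b * v)⁻¹ = v * b * v * b := by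
    simp only [mul_inv_rev, hbi, hvi, mul_assoc]
  have h3 : v * b * v * b = b * v * b * v := h2.symm.trans h1
  calc b * v * b⁻¹ = (v * v) * (b * v * b) := by rw [hv, one_mul, hbi]
    _ = v * (v * b * v * b) := by group
    _ = v * (b * v * b * v) := by rw [h3]

variable [Finite G]

/-- (CH34) chain facts for `(q,t) = (3,4)` -/
theorem chain34 (S : Setup G) (hp2 : S.p = 2) (hU : S.Uni 4) (hI : S.Ivl 4) (hD : S.Dist 4 3) (hC : S.Cen 4 3)
    (x : ℤ → G) (hx : Gen S 4 x) (hodd : ¬ 2 ∣ (S.Pj 0).relIndex (H0 S)) :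
    (∀ k : ℤ, -4 ≤ k → k ≤ 0 → x k ∈ H0 S) ∧
    (x (-1) ∈ S.Pj (-1) ⊓ S.Pj 0 ∧ x (-2) ∈ S.Pj (-1) ⊓ S.Pj 0 ∧ x (-3) ∈ S.Pj (-1) ⊓ S.Pj 0) ∧
    (∀ N : Subgroup G, x (-1) ∈ N → x (-2) ∈ N → x (-3) ∈ N → S.Pj (-1) ⊓ S.Pj 0 ≤ N) ∧
    Nat.card ↥(S.Pj (-1) ⊓ S.Pj 0 : Subgroup G) = 8 ∧
    H0 S ≤ Subgroup.normalizer ((S.Pj (-1) ⊓ S.Pj 0 : Subgroup G) : Set G) ∧
    (∀ N : Subgroup G, x (-4) ∈ N → x 0 ∈ N → S.Pj (-1) ⊓ S.Pj 0 ≤ N → H0 S ≤ N) ∧
    (∀ i j : ℤ, |i - j| < 3 → x i * x j = x j * x i) ∧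
    (∃ c c' : G, ((c = x (-3) ∧ c' = x (-2)) ∨ (c = x (-2) ∧ c' = x (-1)) ∨
        (c = x (-3) * x (-2) ∧ c' = x (-2) * x (-1))) ∧
       x (-4) * x (-1) * (x (-4))⁻¹ = x (-1) * c ∧
       x 0 * x (-3) * (x 0)⁻¹ = x (-3) * c') ∧
    ∃ m : ℕ, ¬ 2 ∣ m ∧ Nat.card ↥(H0 S) = 16 * m := by
  -- basic facts
  have hmem : ∀ k : ℤ, x k ∈ S.X 4 k := fun k => by
    rw [hx.X_eq k]; exact Subgroup.mem_zpowers _
  have hinv : ∀ k : ℤ, (x k)⁻¹ = x k := fun k => inv_eq_of_mul_eq_one_right (hx.sq k)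
  have hP1 : S.Pj (-1) = S.Iv 4 (-4) (-1) := by rw [hI.Pj_eq (-1)]; norm_num
  have hP0 : S.Pj 0 = S.Iv 4 (-3) 0 := by rw [hI.Pj_eq 0]; norm_num
  have hQ : S.Pj (-1) ⊓ S.Pj 0 = S.Iv 4 (-3) (-1) := by
    ext g
    rw [Subgroup.mem_inf, Cfsg.Agent.Lib.H13.Glaub.mem_Iv S 4 hU (by norm_num) (by norm_num)]
    constructor
    · rintro ⟨h1, h2⟩ j hj1 hj2
      have : j = -1 ∨ j = 0 := by omega
      rcases this with rfl | rfl
      · exact h1
      · exact h2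
    · intro h
      exact ⟨h (-1) le_rfl (by norm_num), h 0 (by norm_num) (by norm_num)⟩
  have hH0 : H0 S = S.Pj (-1) ⊔ S.Pj 0 := rfl
  -- the shifts
  have sh43 : x (-3) = S.h * x (-4) * S.h⁻¹ := by
    have := hx.shift (-4); norm_num at this; exact this
  have sh32 : x (-2) = S.h * x (-3) * S.h⁻¹ := by
    have := hx.shift (-3); norm_num at this; exact this
  have sh21 : x (-1) = S.h * x (-2) * S.h⁻¹ := by
    have := hx.shift (-2); norm_num at this; exact this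
  have sh10 : x 0 = S.h * x (-1) * S.h⁻¹ := by
    have := hx.shift (-1); norm_num at this; exact this
  -- (1)
  have h1 : ∀ k : ℤ, -4 ≤ k → k ≤ 0 → x k ∈ H0 S := by
    intro k hk1 hk2
    by_cases hk : k ≤ -1
    · apply Pj_neg_one_le_H0 S
      rw [hP1]
      exact S.X_le_Iv 4 hk1 hk (hmem k)
    · apply Pj_zero_le_H0 S
      rw [hP0]
      exact S.X_le_Iv 4 (by omega) hk2 (hmem k)
  -- (2)
  have h2 : x (-1) ∈ S.Pj (-1) ⊓ S.Pj 0 ∧ x (-2) ∈ S.Pj (-1) ⊓ S.Pj 0 ∧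
      x (-3) ∈ S.Pj (-1) ⊓ S.Pj 0 := by
    rw [hQ]
    exact ⟨S.X_le_Iv 4 (by norm_num) le_rfl (hmem _),
      S.X_le_Iv 4 (by norm_num) (by norm_num) (hmem _),
      S.X_le_Iv 4 le_rfl (by norm_num) (hmem _)⟩
  -- (3)
  have h3 : ∀ N : Subgroup G, x (-1) ∈ N → x (-2) ∈ N → x (-3) ∈ N →
      S.Pj (-1) ⊓ S.Pj 0 ≤ N := by
    intro N n1 n2 n3
    rw [hQ, S.Iv_le_iff]
    intro k hk1 hk2
    rw [hx.X_eq k, Subgroup.zpowers_le]
    have : k = -3 ∨ k = -2 ∨ k = -1 := by omega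
    rcases this with rfl | rfl | rfl <;> assumption
  -- (4)
  have h4 : Nat.card ↥(S.Pj (-1) ⊓ S.Pj 0 : Subgroup G) = 8 := by
    rw [hQ, hI.card (-3) (-1) (by norm_num) (by norm_num), hp2]
    rfl
  -- (5)
  have h5 : H0 S ≤ Subgroup.normalizer ((S.Pj (-1) ⊓ S.Pj 0 : Subgroup G) : Set G) := by
    rw [hQ, hH0]
    apply sup_le
    · rw [hP1]
      exact Cfsg.Agent.Lib.H16.Glaub.le_normalizer_of_conj (fun g hg a ha =>
        Cfsg.Agent.Lib.H16.Glaub.Iv_conj_right S hI (a := -4) (a' := -3) (b := -1)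
          (by norm_num) (by norm_num) (by norm_num) hg ha)
    · rw [hP0]
      exact Cfsg.Agent.Lib.H16.Glaub.le_normalizer_of_conj (fun g hg a ha =>
        Cfsg.Agent.Lib.H16.Glaub.Iv_conj_left S hI (a := -3) (b := 0) (b' := -1)
          (by norm_num) (by norm_num) (by norm_num) hg ha)
  -- (6)
  have h6 : ∀ N : Subgroup G, x (-4) ∈ N → x 0 ∈ N → S.Pj (-1) ⊓ S.Pj 0 ≤ N → H0 S ≤ N := by
    intro N n4 n0 hQN
    rw [hQ] at hQN
    rw [hH0]
    apply sup_le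
    · rw [hP1]
      have e := S.Iv_sup 4 (a := -4) (b := -1) (c := -4) (by norm_num) (by norm_num)
      rw [S.Iv_self, show ((-4 : ℤ) + 1) = -3 from by norm_num] at e
      rw [← e]
      apply sup_le
      · rw [hx.X_eq, Subgroup.zpowers_le]; exact n4
      · exact hQN
    · rw [hP0]
      have e := S.Iv_sup 4 (a := -3) (b := 0) (c := -1) (by norm_num) (by norm_num)
      rw [show ((-1 : ℤ) + 1) = 0 from by norm_num, S.Iv_self] at e
      rw [← e]
      apply sup_le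
      · exact hQN
      · rw [hx.X_eq, Subgroup.zpowers_le]; exact n0
  -- (7)
  have h7 : ∀ i j : ℤ, |i - j| < 3 → x i * x j = x j * x i := by
    intro i j hij
    exact hD.comm i j (by exact_mod_cast hij) (x i) (hmem i) (x j) (hmem j)
  -- (8)
  have ha4 : x (-4) ∈ S.Iv 4 (-4) (-2) := S.X_le_Iv 4 le_rfl (by norm_num) (hmem _)
  have ha4' : x (-4) ∈ S.Iv 4 (-4) (-1) := S.X_le_Iv 4 le_rfl (by norm_num) (hmem _)
  have hu1 : x (-1) ∈ S.Iv 4 (-3) (-1) := S.X_le_Iv 4 (by norm_num) le_rfl (hmem _)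
  have hu1' : x (-1) ∈ S.Iv 4 (-4) (-1) := S.X_le_Iv 4 (by norm_num) le_rfl (hmem _)
  obtain ⟨c, hc⟩ : ∃ c : G, c = x (-1) * x (-4) * x (-1) * x (-4) := ⟨_, rfl⟩
  have hcA : c ∈ S.Iv 4 (-3) (-1) := by
    have h := Cfsg.Agent.Lib.H16.Glaub.Iv_conj_right S hI (a := -4) (a' := -3) (b := -1)
      (by norm_num) (by norm_num) (by norm_num) ha4' hu1
    rw [hinv] at h
    have := Subgroup.mul_mem _ hu1 h
    rw [hc]
    simpa only [mul_assoc] using this
  have hcB : c ∈ S.Iv 4 (-4) (-2) := by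
    have h := Cfsg.Agent.Lib.H16.Glaub.Iv_conj_left S hI (a := -4) (b := -1) (b' := -2)
      (by norm_num) (by norm_num) (by norm_num) hu1' ha4
    rw [hinv] at h
    have := Subgroup.mul_mem _ h ha4
    rw [hc]
    exact this
  have hcI : c ∈ S.Iv 4 (-3) (-2) := by
    have h := Subgroup.mem_inf.2 ⟨hcB, hcA⟩
    rw [hI.inf (-4) (-1) (-4) (-2) (-3) (-1) (by norm_num) le_rfl (by norm_num) (by norm_num) le_rfl,
      max_eq_right (by norm_num : (-4 : ℤ) ≤ -3), min_eq_left (by norm_num : (-2 : ℤ) ≤ -1)] at h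
    exact h
  have hs32 : S.Iv 4 (-3) (-2) = Subgroup.zpowers (x (-3)) ⊔ Subgroup.zpowers (x (-2)) := by
    have e := S.Iv_sup 4 (a := -3) (b := -2) (c := -3) (by norm_num) (by norm_num)
    rw [S.Iv_self, show ((-3 : ℤ) + 1) = -2 from by norm_num, S.Iv_self, hx.X_eq, hx.X_eq] at e
    exact e.symm
  have hcomm32 : x (-3) * x (-2) = x (-2) * x (-3) := h7 (-3) (-2) (by norm_num)
  have cases := ch34_mem_sup_zpowers (hx.sq (-3)) (hx.sq (-2)) hcomm32 (hs32 ▸ hcI)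
  have hc1 : c ≠ 1 := by
    intro hc0
    have hnc := hD.ncomm (-4)
    rw [show ((-4 : ℤ) + ((3 : ℕ) : ℤ)) = -1 from by norm_num] at hnc
    apply hnc
    intro a ha b hb
    rw [hx.X_eq] at ha hb
    rcases ch34_mem_zpowers_invol (hx.sq _) ha with rfl | rfl
    · rw [one_mul, mul_one]
    rcases ch34_mem_zpowers_invol (hx.sq _) hb with rfl | rfl
    · rw [one_mul, mul_one]
    have hsq : (x (-1) * x (-4)) * (x (-1) * x (-4)) = 1 := by
      rw [← hc0, hc]; simp only [mul_assoc]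
    calc x (-4) * x (-1) = (x (-1) * x (-4))⁻¹ := by rw [mul_inv_rev, hinv, hinv]
      _ = x (-1) * x (-4) := inv_eq_of_mul_eq_one_right hsq
  have hcc : c * c = 1 := by
    rcases cases with h | h | h | h
    · rw [h, one_mul]
    · rw [h]; exact hx.sq _
    · rw [h]; exact hx.sq _
    · rw [h]; exact ch34_mul_self_mul (hx.sq _) (hx.sq _) hcomm32
  have hc' : S.h * c * S.h⁻¹ = x 0 * x (-3) * x 0 * x (-3) := by
    rw [hc, sh10, sh43]; group
  have hcc' : (x 0 * x (-3) * x 0 * x (-3)) * (x 0 * x (-3) * x 0 * x (-3)) = 1 := by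
    rw [← hc']
    calc S.h * c * S.h⁻¹ * (S.h * c * S.h⁻¹) = S.h * (c * c) * S.h⁻¹ := by group
      _ = 1 := by rw [hcc]; group
  have h8 : ∃ c c' : G, ((c = x (-3) ∧ c' = x (-2)) ∨ (c = x (-2) ∧ c' = x (-1)) ∨
        (c = x (-3) * x (-2) ∧ c' = x (-2) * x (-1))) ∧
       x (-4) * x (-1) * (x (-4))⁻¹ = x (-1) * c ∧
       x 0 * x (-3) * (x 0)⁻¹ = x (-3) * c' := by
    refine ⟨c, S.h * c * S.h⁻¹, ?_, ?_, ?_⟩
    · rcases cases with h | h | h | h
      · exact absurd h hc1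
      · left; exact ⟨h, by rw [h]; exact sh32.symm⟩
      · right; left; exact ⟨h, by rw [h]; exact sh21.symm⟩
      · right; right
        refine ⟨h, ?_⟩
        rw [h]
        calc S.h * (x (-3) * x (-2)) * S.h⁻¹
            = (S.h * x (-3) * S.h⁻¹) * (S.h * x (-2) * S.h⁻¹) := by group
          _ = x (-2) * x (-1) := by rw [← sh32, ← sh21]
    · rw [hinv, hc]
      simp only [← mul_assoc]
      rw [hx.sq, one_mul]
    · rw [hc']
      exact ch34_rel (hx.sq 0) (hx.sq (-3)) hcc'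
  -- (9)
  have h9 : ∃ m : ℕ, ¬ 2 ∣ m ∧ Nat.card ↥(H0 S) = 16 * m := by
    refine ⟨(S.Pj 0).relIndex (H0 S), hodd, ?_⟩
    have hc0 : Nat.card (S.Pj 0) = 16 := by
      rw [hP0, hI.card (-3) 0 (by norm_num) (by norm_num), hp2]; rfl
    have := Subgroup.relIndex_mul_relIndex ⊥ (S.Pj 0) (H0 S) bot_le (Pj_zero_le_H0 S)
    rw [Subgroup.relIndex_bot_left, Subgroup.relIndex_bot_left, hc0] at this
    exact this.symm
  exact ⟨h1, h2, h3, h4, h5, h6, h7, h8, h9⟩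

end Cfsg.Agent.Lib.H11.G85
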