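import Mathlib
import Cfsg.Agent.Lib.H17.GHDefs
import Cfsg.Agent.Lib.H21.GHKE

/-!
# S4402 piece K5 `Asc_facts` (architect helper17; blueprint tools/blueprints/S4402.md)

`Asc = closure Omc` is the kernel of `T → (Z/2)²`: `σ ∈ Asc ↔ σ ∈ T ∧ goodP σ` where `goodP σ` says that an even
number of the leaf pairs `(2j, 2j+1)` is reversed by `σ` and that `σ 0 / 2 + σ 4 / 2` is even (`mem_Asc_iff`).
`⊆`: `{σ ∈ T | goodP σ}` is a subgroup (checked over the enumeration `enc`) containing `Omc`;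
`⊇`: an explicit table `witTable` writes every such element as a product of at most 4 elements of `Omc`.
-/

set_option autoImplicit false
set_option linter.dupNamespace false

namespace Cfsg.Agent.Lib.H11.GH

open Subgroup Cfsg.Agent.Lib.H17.GH Cfsg.Agent.Lib.H14.A8Sylow Cfsg.Agent.Lib.H21.GH

/-- the number (0 or 1) recording whether `σ` reverses the leaf pair `(a, b)` -/
def revBit (σ : Equiv.Perm (Fin 8)) (a b : Fin 8) : ℕ := if (σ b).val < (σ a).val then 1 else 0

/-- the decidable description of `Asc` inside `T` -/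
def goodP (σ : Equiv.Perm (Fin 8)) : Prop :=
  (revBit σ 0 1 + revBit σ 2 3 + revBit σ 4 5 + revBit σ 6 7) % 2 = 0 ∧
    ((σ 0).val / 2 + (σ 4).val / 2) % 2 = 0

instance : DecidablePred goodP := fun σ => by unfold goodP; infer_instance

/-- the decidable description of `Omc` inside `T` -/
def isOm (σ : Equiv.Perm (Fin 8)) : Prop := σ * σ = 1 ∧ ∀ i, blk4 (σ i) ≠ blk4 i

instance : DecidablePred isOm := fun σ => by unfold isOm; infer_instance

theorem mem_Omc_iff (σ : Equiv.Perm (Fin 8)) : σ ∈ Omc ↔ σ ∈ T ∧ isOm σ := Iff.rfl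

set_option maxRecDepth 1000000 in
theorem goodP_of_isOm : ∀ n : Fin 128, isOm (enc n) → goodP (enc n) := by decide +kernel

set_option maxRecDepth 1000000 in
theorem goodP_mul : ∀ n m : Fin 128, goodP (enc n) → goodP (enc m) → goodP (enc n * enc m) := by
  decide +kernel

set_option maxRecDepth 1000000 in
theorem goodP_inv : ∀ n : Fin 128, goodP (enc n) → goodP (enc n)⁻¹ := by decide +kernel

theorem goodP_one : goodP 1 := by decide

/-- the kernel of `T → (Z/2)²` as a subgroup -/
def Bsub : Subgroup (Equiv.Perm (Fin 8)) where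
  carrier := {σ | σ ∈ T ∧ goodP σ}
  mul_mem' := by
    rintro σ τ ⟨hσ, gσ⟩ ⟨hτ, gτ⟩
    obtain ⟨n, rfl⟩ := (mem_T_iff_enc σ).1 hσ
    obtain ⟨m, rfl⟩ := (mem_T_iff_enc τ).1 hτ
    exact ⟨T.mul_mem hσ hτ, goodP_mul n m gσ gτ⟩
  one_mem' := ⟨T.one_mem, goodP_one⟩
  inv_mem' := by
    rintro σ ⟨hσ, gσ⟩
    obtain ⟨n, rfl⟩ := (mem_T_iff_enc σ).1 hσ
    exact ⟨T.inv_mem hσ, goodP_inv n gσ⟩

theorem mem_Bsub_iff (σ : Equiv.Perm (Fin 8)) : σ ∈ Bsub ↔ σ ∈ T ∧ goodP σ := Iff.rfl

/-- every element of `Bsub` as a product of at most 4 elements of `Omc` (indices in the enumeration `enc`) -/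
def witTable : List (List (Fin 128)) :=
  [[], [], [], [64, 69, 112, 118], [], [64, 69], [112, 118], [], [], [112, 121], [64, 74], [], [64, 69, 112, 121], [], [], [64, 79], [], [], [], [], [], [], [], [], [], [], [], [], [], [], [], [], [], [], [], [], [], [], [], [], [], [], [], [], [], [], [], [], [64, 112], [], [], [69, 121], [], [69, 112], [64, 121], [], [], [64, 118], [69, 127], [], [69, 118], [], [], [64, 127], [64], [], [], [69, 112, 121], [], [69], [64, 112, 121], [], [], [64, 112, 118], [74], [], [69, 112, 118], [], [], [79], [], [], [], [], [], [], [], [], [], [], [], [], [], [], [], [], [], [], [], [], [], [], [], [], [], [], [], [], [], [], [], [], [112], [], [], [64, 69, 118], [], [64, 69, 112], [118], [], [], [121], [64, 69, 127], [], [64, 69, 121], [], [], [127]]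

def wit (n : Fin 128) : List (Fin 128) := witTable.getD n.val []

set_option maxRecDepth 1000000 in
theorem wit_spec : ∀ n : Fin 128, goodP (enc n) →
    (∀ k ∈ wit n, isOm (enc k)) ∧ enc n = ((wit n).map enc).prod := by decide +kernel

/-- `Asc = closure Omc` is `{σ ∈ T | goodP σ}`. -/
theorem mem_Asc_iff (σ : Equiv.Perm (Fin 8)) : σ ∈ Asc ↔ σ ∈ T ∧ goodP σ := by
  constructor
  · intro h
    have hle : Asc ≤ Bsub := by
      unfold Asc
      rw [Subgroup.closure_le]
      intro τ hτ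
      obtain ⟨hT, hO⟩ := (mem_Omc_iff τ).1 hτ
      obtain ⟨n, rfl⟩ := (mem_T_iff_enc τ).1 hT
      exact ⟨hT, goodP_of_isOm n hO⟩
    exact hle h
  · rintro ⟨hT, hg⟩
    obtain ⟨n, rfl⟩ := (mem_T_iff_enc σ).1 hT
    obtain ⟨h1, h2⟩ := wit_spec n hg
    rw [h2]
    apply Subgroup.list_prod_mem
    intro x hx
    rw [List.mem_map] at hx
    obtain ⟨k, hk, rfl⟩ := hx
    exact Subgroup.subset_closure ((mem_Omc_iff _).2 ⟨enc_mem_T k, h1 k hk⟩)

set_option maxRecDepth 1000000 in
theorem card_good : Fintype.card {n : Fin 128 // goodP (enc n)} = 32 := by decide +kernel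

set_option maxRecDepth 1000000 in
theorem good_sq : ∀ n : Fin 128, goodP (enc n) → enc n * enc n = 1 ∨ enc n * enc n = zc := by
  decide +kernel

set_option maxRecDepth 1000000 in
theorem good_comm : ∀ n m : Fin 128, goodP (enc n) → goodP (enc m) →
    enc n * enc m = enc m * enc n ∨ enc n * enc m = enc m * enc n * zc := by decide +kernel

/-- K5. `Asc = closure Omc` has order 32 and is elementary abelian modulo `zc`. -/
theorem Asc_facts : Nat.card Asc = 32 ∧ (∀ a ∈ Asc, a * a = 1 ∨ a * a = zc) ∧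
    (∀ a ∈ Asc, ∀ b ∈ Asc, a * b = b * a ∨ a * b = b * a * zc) := by
  refine ⟨?_, ?_, ?_⟩
  · let f : {n : Fin 128 // goodP (enc n)} → ↥Asc :=
      fun n => ⟨enc n.1, (mem_Asc_iff _).2 ⟨enc_mem_T n.1, n.2⟩⟩
    have hf : Function.Bijective f := by
      constructor
      · intro a b hab
        exact Subtype.ext (enc_injective (congrArg Subtype.val hab))
      · rintro ⟨σ, hσ⟩
        obtain ⟨hT, hg⟩ := (mem_Asc_iff σ).1 hσ
        obtain ⟨n, rfl⟩ := (mem_T_iff_enc σ).1 hT
        exact ⟨⟨n, hg⟩, rfl⟩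
    rw [← Nat.card_congr (Equiv.ofBijective f hf), Nat.card_eq_fintype_card, card_good]
  · intro a ha
    obtain ⟨hT, hg⟩ := (mem_Asc_iff a).1 ha
    obtain ⟨n, rfl⟩ := (mem_T_iff_enc a).1 hT
    exact good_sq n hg
  · intro a ha b hb
    obtain ⟨hT, hg⟩ := (mem_Asc_iff a).1 ha
    obtain ⟨n, rfl⟩ := (mem_T_iff_enc a).1 hT
    obtain ⟨hT', hg'⟩ := (mem_Asc_iff b).1 hb
    obtain ⟨m, rfl⟩ := (mem_T_iff_enc b).1 hT'
    exact good_comm n m hg hg'

end Cfsg.Agent.Lib.H11.GH
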