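import Mathlib
import Cfsg.Prelude.Def_CaseTheorems
import Cfsg.Prelude.Def_Transfer
import Cfsg.Agent.Lib.H17.GHDefs
import Cfsg.Agent.Lib.H17.GHN3
import Cfsg.Agent.Lib.H15.GHN2
import Cfsg.Agent.Lib.H20.GHG1

/-!
# S4402 piece N4 `normalizer_data`, CORE: N4 with the conclusion of N5 as a hypothesis
(architect helper17; blueprint tools/blueprints/S4402.md)
-/

set_option autoImplicit false
set_option linter.dupNamespace false

namespace Cfsg.Agent.Lib.H11.GH

open Subgroup Cfsg.Agent.Lib.H17.GH Cfsg.Agent.Lib.H14.A8Sylow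

/-- the conjugation action of `N_S(P)` on the 8 involutions `Om` -/
@[instance_reducible] noncomputable def omAction {S : Type*} [Group S] {P : Subgroup S} (D : Data P) :
    MulAction ↥(normalizer (P : Set S)) ↥D.Om where
  smul g x := ⟨(g : S) * (x : S) * (g : S)⁻¹, (Cfsg.Agent.Lib.H15.GH.conj_Om D (g : S) g.2).1 (x : S) x.2⟩
  one_smul x := by
    apply Subtype.ext
    show ((1 : ↥(normalizer (P : Set S))) : S) * (x : S) * ((1 : ↥(normalizer (P : Set S))) : S)⁻¹ = x
    simp
  mul_smul g h x := by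
    apply Subtype.ext
    show ((g * h : ↥(normalizer (P : Set S))) : S) * (x : S) * ((g * h : ↥(normalizer (P : Set S))) : S)⁻¹
      = (g : S) * ((h : S) * (x : S) * (h : S)⁻¹) * (g : S)⁻¹
    simp only [Subgroup.coe_mul]
    group

theorem omAction_smul_coe {S : Type*} [Group S] {P : Subgroup S} (D : Data P)
    (g : ↥(normalizer (P : Set S))) (x : ↥D.Om) :
    (((omAction D).toSMul.smul g x : ↥D.Om) : S) = (g : S) * (x : S) * (g : S)⁻¹ := rfl

/-- N4 with the conclusion of N5 (`|Z(S)| = 2`, `Z(S) = {1, z}`) as a hypothesis. -/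
theorem normalizer_data_of {S : Type*} [Group S] [Finite S] (h2 : IsPGroup 2 S)
    (hr : Cfsg.SectionalPRankLE 2 4 S) {P : Subgroup S} (hPlt : P ≠ ⊤) (D : Data P)
    (hZcard : Nat.card ↥(Subgroup.center S) = 2)
    (hZiff : ∀ y : S, y ∈ Subgroup.center S ↔ (y = 1 ∨ y = D.z)) :
    P.relIndex (normalizer (P : Set S)) = 2 ∧ Nat.card ↥(normalizer (P : Set S)) = 256 ∧
      ∃ (_ : ((Subgroup.center S).subgroupOf (normalizer (P : Set S))).Normal)
        (T' : Sylow 2 (Equiv.Perm (Fin 8))),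
        Nonempty (↥(normalizer (P : Set S)) ⧸ (Subgroup.center S).subgroupOf (normalizer (P : Set S)) ≃*
          ↥(T' : Subgroup (Equiv.Perm (Fin 8)))) := by
  classical
  have : Fact (Nat.Prime 2) := ⟨Nat.prime_two⟩
  set Tn : Subgroup S := normalizer (P : Set S) with hTn
  have hn : ((Subgroup.center S).subgroupOf Tn).Normal := inferInstance
  -- the action hom
  let _ : MulAction ↥Tn ↥D.Om := omAction D
  let f : ↥Tn →* Equiv.Perm ↥D.Om := MulAction.toPermHom ↥Tn ↥D.Om
  have hf_apply : ∀ (g : ↥Tn) (x : ↥D.Om), ((f g x : ↥D.Om) : S) = (g : S) * (x : S) * (g : S)⁻¹ := by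
    intro g x; rfl
  -- the kernel
  have hker1 : ∀ g : ↥Tn, g ∈ (Subgroup.center S).subgroupOf Tn → f g = 1 := by
    intro g hg
    rw [mem_subgroupOf, Subgroup.mem_center_iff] at hg
    ext x
    rw [hf_apply, Equiv.Perm.coe_one, id, ← hg (x : S)]
    group
  have hker2 : ∀ g : ↥Tn, f g = 1 → g ∈ (Subgroup.center S).subgroupOf Tn := by
    intro g hg
    rw [mem_subgroupOf, hZiff]
    apply Cfsg.Agent.Lib.H17.GH.eq_one_or_eq_z_of_centralizes h2 hr D (g : S) g.2
    intro x hx
    have h1 := hf_apply g ⟨x, hx⟩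
    rw [hg, Equiv.Perm.coe_one, id] at h1
    -- h1 : x = g * x * g⁻¹
    have h1' : x = (g : S) * x * (g : S)⁻¹ := h1
    calc (g : S) * x = (g : S) * x * (g : S)⁻¹ * (g : S) := by group
      _ = x * (g : S) := by rw [← h1']
  -- the induced injective hom on the quotient
  let fbar : ↥Tn ⧸ (Subgroup.center S).subgroupOf Tn →* Equiv.Perm ↥D.Om :=
    QuotientGroup.lift _ f hker1
  have hfbar : Function.Injective fbar := by
    rw [injective_iff_map_eq_one]
    intro q hq
    induction q using QuotientGroup.induction_on with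
    | H g =>
      have : f g = 1 := hq
      exact (QuotientGroup.eq_one_iff g).2 (hker2 g this)
  -- cardinalities
  have hOmFin : Finite ↥D.Om := inferInstance
  let _ : Fintype ↥D.Om := Fintype.ofFinite _
  have hOm8 : Fintype.card ↥D.Om = 8 := by
    rw [← Nat.card_eq_fintype_card, _root_.Nat.card_coe_set_eq, D.Om_card]
  have hQ2 : IsPGroup 2 (↥Tn ⧸ (Subgroup.center S).subgroupOf Tn) :=
    (h2.to_subgroup Tn).to_quotient _
  have hdvd : Nat.card (↥Tn ⧸ (Subgroup.center S).subgroupOf Tn) ∣ 128 :=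
    Cfsg.Agent.Lib.H20.GH.card_dvd_of_injective_perm8 hQ2 hOm8 fbar hfbar
  have hZle : Subgroup.center S ≤ Tn := by
    intro y hy
    rw [hTn, mem_normalizer_iff]
    intro h
    rw [Subgroup.mem_center_iff] at hy
    have e : y * h * y⁻¹ = h := by rw [← hy h]; group
    rw [e]
  have hZsub : Nat.card ↥((Subgroup.center S).subgroupOf Tn) = 2 := by
    rw [Nat.card_congr (Subgroup.subgroupOfEquivOfLe hZle).toEquiv, hZcard]
  have hTncard : Nat.card ↥Tn =
      Nat.card (↥Tn ⧸ (Subgroup.center S).subgroupOf Tn) * 2 := by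
    rw [← hZsub]
    exact Subgroup.card_eq_card_quotient_mul_card_subgroup _
  -- `P < Tn`
  have : Group.IsNilpotent S := h2.isNilpotent
  have hPTn : P < Tn := Group.normalizerCondition_of_isNilpotent (G := S) P (lt_top_iff_ne_top.2 hPlt)
  have hPsub : Nat.card ↥(P.subgroupOf Tn) = 128 := by
    rw [Nat.card_congr (Subgroup.subgroupOfEquivOfLe hPTn.le).toEquiv, D.card_P]
  have hidx : (P.subgroupOf Tn).index * 128 = Nat.card ↥Tn := by
    rw [← hPsub]; exact Subgroup.index_mul_card _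
  have hidx1 : (P.subgroupOf Tn).index ≠ 1 := by
    intro h1
    rw [Subgroup.index_eq_one, subgroupOf_eq_top] at h1
    exact (not_le_of_gt hPTn) h1
  -- arithmetic
  obtain ⟨c, hc⟩ := hdvd
  have hi0 : (P.subgroupOf Tn).index ≠ 0 := Subgroup.index_ne_zero_of_finite
  have hcard_q : Nat.card (↥Tn ⧸ (Subgroup.center S).subgroupOf Tn) = 128 ∧ (P.subgroupOf Tn).index = 2 := by
    set a := Nat.card (↥Tn ⧸ (Subgroup.center S).subgroupOf Tn) with ha
    set i := (P.subgroupOf Tn).index with hi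
    have h1 : i * 128 = a * 2 := by rw [hidx, hTncard]
    have ha_pos : 0 < a := Nat.card_pos
    -- a * c = 128, i * 64 = a
    have h3 : i * 64 = a := by omega
    have hc_pos : 0 < c := by
      rcases Nat.eq_zero_or_pos c with h0 | h0
      · rw [h0, mul_zero] at hc; omega
      · exact h0
    -- i * 64 * c = 128 → i * c = 2
    have h4 : i * c = 2 := by
      have : i * 64 * c = 128 := by rw [h3]; exact hc.symm
      nlinarith
    have hi2 : i ∣ 2 := ⟨c, h4.symm⟩
    have : i = 1 ∨ i = 2 := by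
      have := (Nat.dvd_prime Nat.prime_two).1 hi2
      exact this
    rcases this with h | h
    · exact absurd h hidx1
    · exact ⟨by omega, h⟩
  obtain ⟨hq128, hi2⟩ := hcard_q
  refine ⟨?_, ?_, hn, ?_⟩
  · exact hi2
  · rw [hTncard, hq128]
  · obtain ⟨T', ⟨e⟩⟩ := Cfsg.Agent.Lib.H20.GH.exists_sylow_equiv_of_injective hOm8 fbar hfbar hq128
    exact ⟨T', ⟨e⟩⟩

end Cfsg.Agent.Lib.H11.GH
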