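import Mathlib
import Cfsg.Prelude.Def_CaseTheorems
import Cfsg.Prelude.Def_Transfer
import Cfsg.Agent.Lib.H17.GHDefs
import Cfsg.Agent.Lib.H11.GHN4Core
import Cfsg.Agent.Lib.H29.GHN5

/-!
# S4402 piece N4 `normalizer_data` (architect helper17; blueprint tools/blueprints/S4402.md):
exact-signature wrapper of `normalizer_data_of` (Lib/H11/GHN4Core) with helper29's N5 `center_eq`.
-/

set_option autoImplicit false
set_option linter.dupNamespace false

namespace Cfsg.Agent.Lib.H11.GH

open Subgroup Cfsg.Agent.Lib.H17.GH Cfsg.Agent.Lib.H14.A8Sylow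

/-- N4. `N_S(P)` acts on the 8-element set `Om` by conjugation (N2b) with kernel `{1, z} = Z(S)` (N3, N5):
so `|N_S(P) / Z(S)|` divides 128 (G2); `P < N_S(P)` (normalizers grow in the `p`-group `S`, `P ≠ ⊤`), hence
`|N_S(P)| = 256`, `|N_S(P) : P| = 2`, and G1 gives the isomorphism. -/
theorem normalizer_data {S : Type*} [Group S] [Finite S] (h2 : IsPGroup 2 S)
    (hr : Cfsg.SectionalPRankLE 2 4 S) {P : Subgroup S} (hPlt : P ≠ ⊤) (D : Data P) :
    P.relIndex (normalizer (P : Set S)) = 2 ∧ Nat.card ↥(normalizer (P : Set S)) = 256 ∧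
      ∃ (_ : ((Subgroup.center S).subgroupOf (normalizer (P : Set S))).Normal)
        (T' : Sylow 2 (Equiv.Perm (Fin 8))),
        Nonempty (↥(normalizer (P : Set S)) ⧸ (Subgroup.center S).subgroupOf (normalizer (P : Set S)) ≃*
          ↥(T' : Subgroup (Equiv.Perm (Fin 8)))) := by
  obtain ⟨-, hZcard, hZiff⟩ := Cfsg.Agent.Lib.H29.GH.center_eq h2 hr D
  exact normalizer_data_of h2 hr hPlt D hZcard hZiff

end Cfsg.Agent.Lib.H11.GH
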