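import Mathlib
import Cfsg.Prelude.Def_CaseTheorems
import Cfsg.Prelude.Def_Transfer
import Cfsg.Agent.Lib.H17.GHDefs
import Cfsg.Agent.Lib.H11.GHN4
import Cfsg.Agent.Lib.H29.GHN5
import Cfsg.Agent.Lib.H29.GHG0
import Cfsg.Agent.Lib.H15.GHN6a
import Cfsg.Agent.Lib.H29.GHN6b
import Cfsg.Agent.Lib.H20.GHN1
import Cfsg.Agent.Lib.H15.GHN2

/-!
# S4402 pieces N6 `not_norm_both` and N7 `normalizer_eq` (architect helper17; blueprint tools/blueprints/S4402.md)
-/

set_option autoImplicit false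
set_option linter.dupNamespace false

namespace Cfsg.Agent.Lib.H11.GH

open Subgroup Cfsg.Agent.Lib.H17.GH Cfsg.Agent.Lib.H14.A8Sylow

/-- N6. No element of `N_S(P) ∖ P` normalizes both `A1` and `A2` (N4 + N5 + G0 + N6a + N6b). -/
theorem not_norm_both {S : Type*} [Group S] [Finite S] (h2 : IsPGroup 2 S)
    (hr : Cfsg.SectionalPRankLE 2 4 S) {P : Subgroup S} (hPlt : P ≠ ⊤) (D : Data P) (u : S)
    (hu : u ∈ normalizer (P : Set S)) (huP : u ∉ P) (h1 : ∀ a ∈ D.A1, u * a * u⁻¹ ∈ D.A1)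
    (h2' : ∀ a ∈ D.A2, u * a * u⁻¹ ∈ D.A2) : False := by
  obtain ⟨hidx, -, hn, T', ⟨Φ0⟩⟩ := normalizer_data h2 hr hPlt D
  obtain ⟨e⟩ := Cfsg.Agent.Lib.H29.GH.sylow_equiv_tree T'
  have hZ0 := (Cfsg.Agent.Lib.H29.GH.center_eq h2 hr D).2.2
  exact Cfsg.Agent.Lib.H29.GH.false_of_comm_mem_As D (Subgroup.center S) hZ0 (hn := hn) (Φ0.trans e)
    (Cfsg.Agent.Lib.H15.GH.comm_mem_As_of_norm_both D hidx u hu huP h1 h2')

/-- N7. Conclusion (5): if `N_S(V) > P` then (normalizers grow in the 2-group `N_S(V)`) some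
`u ∈ N_S(P) ∖ P` normalizes `V ∈ {A1, A2}` (N1), hence (N2a) both `A1` and `A2`: N6. -/
theorem normalizer_eq {S : Type*} [Group S] [Finite S] (h2 : IsPGroup 2 S)
    (hr : Cfsg.SectionalPRankLE 2 4 S) {P : Subgroup S} (hPlt : P ≠ ⊤) (D : Data P) (V : Subgroup S)
    (hVP : V ≤ P) (hVn : ∀ g ∈ P, ∀ v ∈ V, g * v * g⁻¹ ∈ V) (hV2 : ∀ v ∈ V, v * v = 1)
    (hVc : Nat.card V = 16) : normalizer (V : Set S) = P := by
  classical
  -- `P ≤ N_S(V)`
  have hPN : P ≤ normalizer (V : Set S) := by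
    intro g hg
    rw [mem_normalizer_iff]
    intro v
    constructor
    · intro hv; exact hVn g hg v hv
    · intro hv
      have h := hVn g⁻¹ (P.inv_mem hg) _ hv
      have e : g⁻¹ * (g * v * g⁻¹) * g⁻¹⁻¹ = v := by group
      rwa [e] at h
  by_contra hne
  have hlt : P < normalizer (V : Set S) := lt_of_le_of_ne hPN (Ne.symm hne)
  set N : Subgroup S := normalizer (V : Set S) with hN
  -- the normalizer condition inside the 2-group `N`
  have : Fact (Nat.Prime 2) := ⟨Nat.prime_two⟩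
  have hNp : IsPGroup 2 ↥N := h2.to_subgroup N
  have : Group.IsNilpotent ↥N := hNp.isNilpotent
  have hQlt : P.subgroupOf N < ⊤ := by
    rw [lt_top_iff_ne_top, Ne, subgroupOf_eq_top]
    exact not_le_of_gt hlt
  have hgrow := Group.normalizerCondition_of_isNilpotent (G := ↥N) (P.subgroupOf N) hQlt
  obtain ⟨x, hxn, hxQ⟩ := SetLike.exists_of_lt hgrow
  rw [← subgroupOf_normalizer_eq hPN, mem_subgroupOf] at hxn
  rw [mem_subgroupOf] at hxQ
  -- `u := x` normalizes `P` and `V`, `u ∉ P`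
  set u : S := (x : S) with hu
  have huN : u ∈ N := x.2
  have huV : ∀ v ∈ V, u * v * u⁻¹ ∈ V := by
    intro v hv
    exact ((mem_normalizer_iff.1 huN) v).1 hv
  have huV' : ∀ v ∈ V, u⁻¹ * v * u ∈ V := by
    intro v hv
    exact ((mem_normalizer_iff''.1 huN) v).1 hv
  rcases Cfsg.Agent.Lib.H20.GH.eq_A1_or_eq_A2 D V hVP hVn hV2 hVc with hV1 | hV1
  · rcases Cfsg.Agent.Lib.H15.GH.conj_A D u hxn with ⟨k1, k2⟩ | ⟨k1, k2⟩
    · exact not_norm_both h2 hr hPlt D u hxn hxQ k1 k2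
    · -- swap: `A1 = V ≤ A2`
      have hle : D.A1 ≤ D.A2 := by
        intro a ha
        have ha' : a ∈ V := hV1 ▸ ha
        have hb : u⁻¹ * a * u ∈ D.A1 := hV1 ▸ huV' a ha'
        have := k1 _ hb
        have e : u * (u⁻¹ * a * u) * u⁻¹ = a := by group
        rwa [e] at this
      have heq : D.A1 = D.A2 := by
        apply Subgroup.eq_of_le_of_card_ge hle
        rw [D.A1_card, D.A2_card]
      exact D.A1_ne_A2 heq
  · rcases Cfsg.Agent.Lib.H15.GH.conj_A D u hxn with ⟨k1, k2⟩ | ⟨k1, k2⟩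
    · exact not_norm_both h2 hr hPlt D u hxn hxQ k1 k2
    · have hle : D.A2 ≤ D.A1 := by
        intro a ha
        have ha' : a ∈ V := hV1 ▸ ha
        have hb : u⁻¹ * a * u ∈ D.A2 := hV1 ▸ huV' a ha'
        have := k2 _ hb
        have e : u * (u⁻¹ * a * u) * u⁻¹ = a := by group
        rwa [e] at this
      have heq : D.A2 = D.A1 := by
        apply Subgroup.eq_of_le_of_card_ge hle
        rw [D.A1_card, D.A2_card]
      exact D.A1_ne_A2 heq.symm

end Cfsg.Agent.Lib.H11.GH
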