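import Mathlib
import Cfsg.Agent.Lib.H11.Jordan3

set_option autoImplicit false

/-!
# The commutant of a unipotent matrix in Jordan form

For block sizes `d : Fin t → ℕ` let `N = jordanTypeMatrix d K - 1`.  A matrix `X` commutes with `N`
iff `X = mk d w` for a family `w : Fin t → ι → K` (the columns of `X` at the first vector of each
block) with `w k (l, c) = 0` whenever `c + d k < d l`.
-/

namespace Cfsg.Agent.Lib.H11.GLCent

open Matrix Cfsg.Agent.Lib.H11.Jordan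

variable {K : Type*} [Field K] {t : ℕ}

theorem sigma_fin_ext {d : Fin t → ℕ} {z x : (k : Fin t) × Fin (d k)} (h1 : z.1 = x.1)
    (h2 : (z.2 : ℕ) = (x.2 : ℕ)) : z = x := by
  obtain ⟨k', a'⟩ := z
  obtain ⟨k, a⟩ := x
  simp only at h1 h2
  subst h1
  congr 1
  exact Fin.ext h2

/-- entries of `X * N^j` -/
theorem mul_nil_pow_apply (d : Fin t → ℕ)
    (X : Matrix ((k : Fin t) × Fin (d k)) ((k : Fin t) × Fin (d k)) K) (j : ℕ)
    (y x : (k : Fin t) × Fin (d k)) :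
    (X * (Cfsg.jordanTypeMatrix d K - 1) ^ j) y x =
      if h : (x.2 : ℕ) + j < d x.1 then X y ⟨x.1, ⟨(x.2 : ℕ) + j, h⟩⟩ else 0 := by
  classical
  rw [Matrix.mul_apply]
  by_cases h : (x.2 : ℕ) + j < d x.1
  · rw [dif_pos h, Finset.sum_eq_single (⟨x.1, ⟨(x.2 : ℕ) + j, h⟩⟩ : (k : Fin t) × Fin (d k))]
    · rw [jordan_sub_one_pow_apply, if_pos ⟨rfl, rfl⟩, mul_one]
    · intro z _ hz
      rw [jordan_sub_one_pow_apply, if_neg, mul_zero]
      rintro ⟨h3, h4⟩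
      exact hz (sigma_fin_ext h3 h4)
    · intro h'; exact absurd (Finset.mem_univ _) h'
  · rw [dif_neg h]
    apply Finset.sum_eq_zero
    intro z _
    rw [jordan_sub_one_pow_apply, if_neg, mul_zero]
    rintro ⟨h3, h4⟩
    have h5 := z.2.2
    have h6 : d z.1 = d x.1 := congrArg d h3
    omega

/-- entries of `N^j * X` -/
theorem nil_pow_mul_apply (d : Fin t → ℕ)
    (X : Matrix ((k : Fin t) × Fin (d k)) ((k : Fin t) × Fin (d k)) K) (j : ℕ)
    (y x : (k : Fin t) × Fin (d k)) :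
    ((Cfsg.jordanTypeMatrix d K - 1) ^ j * X) y x =
      if j ≤ (y.2 : ℕ) then
        X ⟨y.1, ⟨(y.2 : ℕ) - j, lt_of_le_of_lt (Nat.sub_le _ _) y.2.2⟩⟩ x else 0 := by
  classical
  rw [Matrix.mul_apply]
  by_cases h : j ≤ (y.2 : ℕ)
  · rw [if_pos h, Finset.sum_eq_single (⟨y.1, ⟨(y.2 : ℕ) - j,
      lt_of_le_of_lt (Nat.sub_le _ _) y.2.2⟩⟩ : (k : Fin t) × Fin (d k))]
    · rw [jordan_sub_one_pow_apply, if_pos, one_mul]
      refine ⟨rfl, ?_⟩
      change (y.2 : ℕ) = (y.2 : ℕ) - j + j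
      omega
    · intro z _ hz
      rw [jordan_sub_one_pow_apply, if_neg, zero_mul]
      rintro ⟨h3, h4⟩
      apply hz
      refine sigma_fin_ext ?_ ?_
      · exact h3.symm
      · change (z.2 : ℕ) = (y.2 : ℕ) - j
        omega
    · intro h'; exact absurd (Finset.mem_univ _) h'
  · rw [if_neg h]
    apply Finset.sum_eq_zero
    intro z _
    rw [jordan_sub_one_pow_apply, if_neg, zero_mul]
    rintro ⟨h3, h4⟩
    omega

/-- the matrix commuting with `N` whose column at the first vector of the block `k` is `w k` -/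
def mk (d : Fin t → ℕ) (w : Fin t → ((k : Fin t) × Fin (d k)) → K) :
    Matrix ((k : Fin t) × Fin (d k)) ((k : Fin t) × Fin (d k)) K :=
  fun y x => if (x.2 : ℕ) ≤ (y.2 : ℕ) then
    w x.1 ⟨y.1, ⟨(y.2 : ℕ) - (x.2 : ℕ), lt_of_le_of_lt (Nat.sub_le _ _) y.2.2⟩⟩ else 0

theorem mk_apply (d : Fin t → ℕ) (w : Fin t → ((k : Fin t) × Fin (d k)) → K)
    (y x : (k : Fin t) × Fin (d k)) :
    mk d w y x = if (x.2 : ℕ) ≤ (y.2 : ℕ) then
      w x.1 ⟨y.1, ⟨(y.2 : ℕ) - (x.2 : ℕ), lt_of_le_of_lt (Nat.sub_le _ _) y.2.2⟩⟩ else 0 := rfl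

/-- the support condition on the first columns -/
def Supp (d : Fin t → ℕ) (w : Fin t → ((k : Fin t) × Fin (d k)) → K) : Prop :=
  ∀ (k : Fin t) (y : (k : Fin t) × Fin (d k)), (y.2 : ℕ) + d k < d y.1 → w k y = 0

/-- the first columns of a matrix -/
def cols (d : Fin t → ℕ) (hd : ∀ k, 1 ≤ d k)
    (X : Matrix ((k : Fin t) × Fin (d k)) ((k : Fin t) × Fin (d k)) K) :
    Fin t → ((k : Fin t) × Fin (d k)) → K :=
  fun k y => X y ⟨k, ⟨0, hd k⟩⟩

theorem commute_pow_of_commute (d : Fin t → ℕ)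
    {X : Matrix ((k : Fin t) × Fin (d k)) ((k : Fin t) × Fin (d k)) K}
    (hX : X * (Cfsg.jordanTypeMatrix d K - 1) = (Cfsg.jordanTypeMatrix d K - 1) * X) (j : ℕ) :
    X * (Cfsg.jordanTypeMatrix d K - 1) ^ j = (Cfsg.jordanTypeMatrix d K - 1) ^ j * X := by
  have h : Commute X (Cfsg.jordanTypeMatrix d K - 1) := hX
  exact h.pow_right j

/-- a matrix commuting with `N` is determined by its first columns -/
theorem eq_mk_of_commute (d : Fin t → ℕ) (hd : ∀ k, 1 ≤ d k)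
    {X : Matrix ((k : Fin t) × Fin (d k)) ((k : Fin t) × Fin (d k)) K}
    (hX : X * (Cfsg.jordanTypeMatrix d K - 1) = (Cfsg.jordanTypeMatrix d K - 1) * X) :
    X = mk d (cols d hd X) := by
  ext y x
  have h1 := congrFun (congrFun (commute_pow_of_commute d hX (x.2 : ℕ)) y)
    (⟨x.1, ⟨0, hd x.1⟩⟩ : (k : Fin t) × Fin (d k))
  rw [mul_nil_pow_apply, nil_pow_mul_apply] at h1
  have h2 : ((⟨x.1, ⟨0, hd x.1⟩⟩ : (k : Fin t) × Fin (d k)).2 : ℕ) + (x.2 : ℕ) < d x.1 := by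
    change 0 + (x.2 : ℕ) < d x.1
    have := x.2.2
    omega
  rw [dif_pos h2] at h1
  have h3 : (⟨x.1, ⟨0 + (x.2 : ℕ), h2⟩⟩ : (k : Fin t) × Fin (d k)) = x :=
    sigma_fin_ext rfl (Nat.zero_add _)
  change X y ⟨x.1, ⟨0 + (x.2 : ℕ), h2⟩⟩ = _ at h1
  rw [h3] at h1
  rw [h1, mk_apply]
  by_cases h : (x.2 : ℕ) ≤ (y.2 : ℕ)
  · rw [if_pos h, if_pos h]
    rfl
  · rw [if_neg h, if_neg h]

/-- the first columns of a matrix commuting with `N` satisfy the support condition -/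
theorem supp_of_commute (d : Fin t → ℕ) (hd : ∀ k, 1 ≤ d k)
    {X : Matrix ((k : Fin t) × Fin (d k)) ((k : Fin t) × Fin (d k)) K}
    (hX : X * (Cfsg.jordanTypeMatrix d K - 1) = (Cfsg.jordanTypeMatrix d K - 1) * X) :
    Supp d (cols d hd X) := by
  intro k y hy
  have h1 := congrFun (congrFun (commute_pow_of_commute d hX (d k))
    (⟨y.1, ⟨(y.2 : ℕ) + d k, hy⟩⟩ : (k : Fin t) × Fin (d k)))
    (⟨k, ⟨0, hd k⟩⟩ : (k : Fin t) × Fin (d k))
  rw [mul_nil_pow_apply, nil_pow_mul_apply] at h1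
  have h2 : ¬ ((⟨k, ⟨0, hd k⟩⟩ : (k : Fin t) × Fin (d k)).2 : ℕ) + d k < d k := by
    change ¬ 0 + d k < d k
    omega
  have h3 : d k ≤ ((⟨y.1, ⟨(y.2 : ℕ) + d k, hy⟩⟩ : (k : Fin t) × Fin (d k)).2 : ℕ) := by
    change d k ≤ (y.2 : ℕ) + d k
    omega
  rw [dif_neg h2, if_pos h3] at h1
  unfold cols
  rw [h1]
  congr 1
  refine sigma_fin_ext ?_ ?_
  · rfl
  · change (y.2 : ℕ) = (y.2 : ℕ) + d k - d k
    omega

/-- the first columns of `mk d w` -/
theorem cols_mk (d : Fin t → ℕ) (hd : ∀ k, 1 ≤ d k)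
    (w : Fin t → ((k : Fin t) × Fin (d k)) → K) : cols d hd (mk d w) = w := by
  funext k y
  unfold cols
  rw [mk_apply, if_pos (Nat.zero_le _)]
  congr 1

/-- `mk d w` commutes with `N` when `w` satisfies the support condition -/
theorem mk_commute (d : Fin t → ℕ) {w : Fin t → ((k : Fin t) × Fin (d k)) → K}
    (hw : Supp d w) :
    mk d w * (Cfsg.jordanTypeMatrix d K - 1) = (Cfsg.jordanTypeMatrix d K - 1) * mk d w := by
  ext y x
  have h1 := mul_nil_pow_apply d (mk d w) 1 y x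
  have h2 := nil_pow_mul_apply d (mk d w) 1 y x
  rw [pow_one] at h1 h2
  rw [h1, h2]
  by_cases hx : (x.2 : ℕ) + 1 < d x.1
  · rw [dif_pos hx]
    by_cases hy : 1 ≤ (y.2 : ℕ)
    · rw [if_pos hy, mk_apply, mk_apply]
      by_cases hxy : (x.2 : ℕ) + 1 ≤ (y.2 : ℕ)
      · rw [if_pos hxy, if_pos (show (x.2 : ℕ) ≤ (y.2 : ℕ) - 1 by omega)]
        congr 1
        refine sigma_fin_ext ?_ ?_
        · rfl
        · change (y.2 : ℕ) - ((x.2 : ℕ) + 1) = (y.2 : ℕ) - 1 - (x.2 : ℕ)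
          omega
      · rw [if_neg hxy, if_neg (show ¬ (x.2 : ℕ) ≤ (y.2 : ℕ) - 1 by omega)]
    · rw [if_neg hy, mk_apply, if_neg]
      change ¬ (x.2 : ℕ) + 1 ≤ (y.2 : ℕ)
      omega
  · rw [dif_neg hx]
    by_cases hy : 1 ≤ (y.2 : ℕ)
    · rw [if_pos hy, mk_apply]
      by_cases hxy : (x.2 : ℕ) ≤ (y.2 : ℕ) - 1
      · rw [if_pos hxy]
        symm
        apply hw
        change (y.2 : ℕ) - 1 - (x.2 : ℕ) + d x.1 < d y.1
        have := y.2.2
        have := x.2.2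
        omega
      · rw [if_neg hxy]
    · rw [if_neg hy]

end Cfsg.Agent.Lib.H11.GLCent
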