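import Mathlib
import Cfsg.Agent.Lib.H11.GLCent1

set_option autoImplicit false

/-!
# Invertibility in the commutant of a unipotent Jordan matrix

`mk d w` is block triangular for a suitable lexicographic key, with diagonal blocks the matrices
`blk d hd w i` (`i` a block size) formed by the entries `w k (l, 0)` with `d k = d l = i`.  Hence
`mk d w` is invertible iff all `blk d hd w (d k)` are.
-/

namespace Cfsg.Agent.Lib.H11.GLCent

open Matrix

variable {K : Type*} [Field K] {t : ℕ}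

/-- the key for the block triangular structure of the commutant -/
def key (d : Fin t → ℕ) (x : (k : Fin t) × Fin (d k)) : ℕ ×ₗ ℕᵒᵈ :=
  toLex (d x.1 - (x.2 : ℕ), OrderDual.toDual (d x.1))

theorem key_eq_iff (d : Fin t → ℕ) (y x : (k : Fin t) × Fin (d k)) :
    key d y = key d x ↔ d y.1 - (y.2 : ℕ) = d x.1 - (x.2 : ℕ) ∧ d y.1 = d x.1 := by
  unfold key
  rw [EmbeddingLike.apply_eq_iff_eq, Prod.mk.injEq, EmbeddingLike.apply_eq_iff_eq]

theorem blockTriangular_mk (d : Fin t → ℕ) {w : Fin t → ((k : Fin t) × Fin (d k)) → K}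
    (hw : Supp d w) : (mk d w).BlockTriangular (key d) := by
  intro y x hlt
  unfold key at hlt
  rw [Prod.Lex.toLex_lt_toLex] at hlt
  rw [mk_apply]
  have hy := y.2.2
  have hx := x.2.2
  rcases hlt with h | ⟨h1, h2⟩
  · change d x.1 - (x.2 : ℕ) < d y.1 - (y.2 : ℕ) at h
    by_cases hxy : (x.2 : ℕ) ≤ (y.2 : ℕ)
    · rw [if_pos hxy]
      apply hw
      change (y.2 : ℕ) - (x.2 : ℕ) + d x.1 < d y.1
      omega
    · rw [if_neg hxy]
  · change d x.1 - (x.2 : ℕ) = d y.1 - (y.2 : ℕ) at h1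
    change OrderDual.toDual (d x.1) < OrderDual.toDual (d y.1) at h2
    rw [OrderDual.toDual_lt_toDual] at h2
    rw [if_neg]
    omega

/-- the diagonal blocks -/
def blk (d : Fin t → ℕ) (hd : ∀ k, 1 ≤ d k) (w : Fin t → ((k : Fin t) × Fin (d k)) → K) (i : ℕ) :
    Matrix {k : Fin t // d k = i} {k : Fin t // d k = i} K :=
  fun l k => w k.1 ⟨l.1, ⟨0, hd l.1⟩⟩

/-- the block of `y₀` is indexed by the Jordan blocks of the same size -/
def blockEquiv (d : Fin t → ℕ) (y₀ : (k : Fin t) × Fin (d k)) :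
    {y : (k : Fin t) × Fin (d k) // key d y = key d y₀} ≃ {k : Fin t // d k = d y₀.1} where
  toFun y := ⟨y.1.1, ((key_eq_iff d _ _).mp y.2).2⟩
  invFun k := ⟨⟨k.1, ⟨(y₀.2 : ℕ), by rw [k.2]; exact y₀.2.2⟩⟩, by
    rw [key_eq_iff]
    refine ⟨?_, k.2⟩
    change d k.1 - (y₀.2 : ℕ) = _
    rw [k.2]⟩
  left_inv y := by
    apply Subtype.ext
    refine sigma_fin_ext ?_ ?_
    · rfl
    · change (y₀.2 : ℕ) = (y.1.2 : ℕ)
      have h := (key_eq_iff d _ _).mp y.2
      have h1 := y.1.2.2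
      have h2 := y₀.2.2
      omega
  right_inv k := by
    apply Subtype.ext
    rfl

theorem det_block_eq (d : Fin t → ℕ) (hd : ∀ k, 1 ≤ d k)
    (w : Fin t → ((k : Fin t) × Fin (d k)) → K) (y₀ : (k : Fin t) × Fin (d k)) :
    ((mk d w).toSquareBlock (key d) (key d y₀)).det = (blk d hd w (d y₀.1)).det := by
  classical
  have h : (mk d w).toSquareBlock (key d) (key d y₀) =
      (blk d hd w (d y₀.1)).submatrix (blockEquiv d y₀) (blockEquiv d y₀) := by
    ext y x
    rw [Matrix.toSquareBlock_def, Matrix.of_apply, Matrix.submatrix_apply, mk_apply]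
    have hy := (key_eq_iff d _ _).mp y.2
    have hx := (key_eq_iff d _ _).mp x.2
    have h1 := y.1.2.2
    have h2 := x.1.2.2
    have h3 := y₀.2.2
    have h4 : (x.1.2 : ℕ) = (y.1.2 : ℕ) := by omega
    rw [if_pos (le_of_eq h4)]
    unfold blk blockEquiv
    simp only [Equiv.coe_fn_mk]
    congr 1
    refine sigma_fin_ext ?_ ?_
    · rfl
    · change (y.1.2 : ℕ) - (x.1.2 : ℕ) = 0
      omega
  rw [h, Matrix.det_submatrix_equiv_self]

/-- `mk d w` is invertible iff its diagonal blocks are -/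
theorem det_mk_ne_zero_iff (d : Fin t → ℕ) (hd : ∀ k, 1 ≤ d k)
    {w : Fin t → ((k : Fin t) × Fin (d k)) → K} (hw : Supp d w) :
    (mk d w).det ≠ 0 ↔ ∀ k₀ : Fin t, (blk d hd w (d k₀)).det ≠ 0 := by
  classical
  rw [(blockTriangular_mk d hw).det, Finset.prod_ne_zero_iff]
  constructor
  · intro h k₀
    have h1 := h (key d ⟨k₀, ⟨0, hd k₀⟩⟩) (Finset.mem_image_of_mem _ (Finset.mem_univ _))
    rw [det_block_eq d hd] at h1
    exact h1
  · intro h κ₀ hκ₀
    obtain ⟨y₀, -, rfl⟩ := Finset.mem_image.mp hκ₀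
    rw [det_block_eq d hd]
    exact h y₀.1

end Cfsg.Agent.Lib.H11.GLCent
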