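import Mathlib
import Cfsg.Agent.Lib.H11.GLCent2

set_option autoImplicit false

/-!
# Counting the invertible matrices commuting with a unipotent Jordan matrix

The centraliser of `jordanTypeMatrix d F` in `GL` is in bijection with
`{A : ∀ i, Matrix (Ki i) (Ki i) F // ∀ i, det (A i) ≠ 0} × (Rest d → F)`, where `Ki i` is the set of
blocks of size `i` and `Rest d` indexes the remaining free coordinates.
-/

namespace Cfsg.Agent.Lib.H11.GLCent

open Matrix

variable {F : Type*} [Field F] {t : ℕ}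

/-- the order of `GL_n(q)` -/
def glCard (q n : ℕ) : ℕ := ∏ j : Fin n, (q ^ n - q ^ (j : ℕ))

/-- the number of invertible matrices over a finite field on any finite index type -/
theorem card_det_ne_zero [Fintype F] (κ : Type*) [Fintype κ] [DecidableEq κ] :
    Nat.card {A : Matrix κ κ F // A.det ≠ 0} = glCard (Fintype.card F) (Fintype.card κ) := by
  let e : κ ≃ Fin (Fintype.card κ) := Fintype.equivFin κ
  let E1 : {A : Matrix κ κ F // A.det ≠ 0} ≃
      {A : Matrix (Fin (Fintype.card κ)) (Fin (Fintype.card κ)) F // A.det ≠ 0} :=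
    Equiv.subtypeEquiv (Matrix.reindex e e) (fun A => by rw [Matrix.det_reindex_self])
  let E2 : {A : Matrix (Fin (Fintype.card κ)) (Fin (Fintype.card κ)) F // A.det ≠ 0} ≃
      GL (Fin (Fintype.card κ)) F :=
    { toFun := fun A => Matrix.GeneralLinearGroup.mkOfDetNeZero A.1 A.2
      invFun := fun g => ⟨g.1, Matrix.GeneralLinearGroup.det_ne_zero g⟩
      left_inv := fun A => rfl
      right_inv := fun g => by
        apply Units.ext
        rfl }
  rw [Nat.card_congr (E1.trans E2), Matrix.card_GL_field]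
  rfl

/-- the centraliser in `GL` as a set of matrices -/
def centEquiv (d : Fin t → ℕ) :
    {g : GL ((k : Fin t) × Fin (d k)) F //
      (g : Matrix ((k : Fin t) × Fin (d k)) ((k : Fin t) × Fin (d k)) F) *
        Cfsg.jordanTypeMatrix d F = Cfsg.jordanTypeMatrix d F *
          (g : Matrix ((k : Fin t) × Fin (d k)) ((k : Fin t) × Fin (d k)) F)} ≃
    {X : Matrix ((k : Fin t) × Fin (d k)) ((k : Fin t) × Fin (d k)) F //
      X * (Cfsg.jordanTypeMatrix d F - 1) = (Cfsg.jordanTypeMatrix d F - 1) * X ∧ X.det ≠ 0} where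
  toFun g := ⟨g.1.1, by
    rw [Matrix.mul_sub, Matrix.sub_mul, g.2, Matrix.mul_one, Matrix.one_mul],
    Matrix.GeneralLinearGroup.det_ne_zero g.1⟩
  invFun X := ⟨Matrix.GeneralLinearGroup.mkOfDetNeZero X.1 X.2.2, by
    have h := X.2.1
    rw [Matrix.mul_sub, Matrix.sub_mul, Matrix.mul_one, Matrix.one_mul] at h
    exact sub_left_injective h⟩
  left_inv g := by
    apply Subtype.ext
    apply Units.ext
    rfl
  right_inv X := by
    apply Subtype.ext
    rfl

/-- matrices commuting with `N` and invertible, through their first columns -/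
def colsEquiv (d : Fin t → ℕ) (hd : ∀ k, 1 ≤ d k) :
    {X : Matrix ((k : Fin t) × Fin (d k)) ((k : Fin t) × Fin (d k)) F //
      X * (Cfsg.jordanTypeMatrix d F - 1) = (Cfsg.jordanTypeMatrix d F - 1) * X ∧ X.det ≠ 0} ≃
    {w : Fin t → ((k : Fin t) × Fin (d k)) → F //
      Supp d w ∧ ∀ k₀ : Fin t, (blk d hd w (d k₀)).det ≠ 0} where
  toFun X := ⟨cols d hd X.1, supp_of_commute d hd X.2.1, by
    rw [← det_mk_ne_zero_iff d hd (supp_of_commute d hd X.2.1), ← eq_mk_of_commute d hd X.2.1]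
    exact X.2.2⟩
  invFun w := ⟨mk d w.1, mk_commute d w.2.1, (det_mk_ne_zero_iff d hd w.2.1).mpr w.2.2⟩
  left_inv X := Subtype.ext (eq_mk_of_commute d hd X.2.1).symm
  right_inv w := Subtype.ext (cols_mk d hd w.1)

/-- the index set of the free coordinates outside the diagonal blocks -/
def Rest (d : Fin t → ℕ) : Type :=
  {x : Fin t × ((k : Fin t) × Fin (d k)) //
    d x.2.1 ≤ (x.2.2 : ℕ) + d x.1 ∧ ¬ ((x.2.2 : ℕ) = 0 ∧ d x.2.1 = d x.1)}

instance (d : Fin t → ℕ) : Fintype (Rest d) := by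
  unfold Rest
  infer_instance

/-- the entry of a family of diagonal blocks -/
def getA (d : Fin t → ℕ)
    (A : (i : Fin (Finset.univ.sup d + 1)) →
      Matrix {k : Fin t // d k = (i : ℕ)} {k : Fin t // d k = (i : ℕ)} F)
    (l k : Fin t) (h : d l = d k) : F :=
  A ⟨d k, Nat.lt_succ_of_le (Finset.le_sup (Finset.mem_univ k))⟩ ⟨l, h⟩ ⟨k, rfl⟩

omit [Field F] in
theorem getA_eq (d : Fin t → ℕ)
    (A : (i : Fin (Finset.univ.sup d + 1)) →
      Matrix {k : Fin t // d k = (i : ℕ)} {k : Fin t // d k = (i : ℕ)} F)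
    (i : Fin (Finset.univ.sup d + 1)) (l k : {k : Fin t // d k = (i : ℕ)}) :
    getA d A l.1 k.1 (l.2.trans k.2.symm) = A i l k := by
  obtain ⟨i, hi⟩ := i
  obtain ⟨k, hk⟩ := k
  obtain ⟨l, hl⟩ := l
  simp only at hk hl
  subst hk
  rfl

/-- the family of first columns built from diagonal blocks and the remaining coordinates -/
def ofParts (d : Fin t → ℕ)
    (A : (i : Fin (Finset.univ.sup d + 1)) →
      Matrix {k : Fin t // d k = (i : ℕ)} {k : Fin t // d k = (i : ℕ)} F)
    (ρ : Rest d → F) : Fin t → ((k : Fin t) × Fin (d k)) → F :=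
  fun k y => if h1 : (y.2 : ℕ) = 0 ∧ d y.1 = d k then getA d A y.1 k h1.2
    else if h2 : d y.1 ≤ (y.2 : ℕ) + d k then ρ ⟨(k, y), h2, h1⟩ else 0

theorem supp_ofParts (d : Fin t → ℕ)
    (A : (i : Fin (Finset.univ.sup d + 1)) →
      Matrix {k : Fin t // d k = (i : ℕ)} {k : Fin t // d k = (i : ℕ)} F)
    (ρ : Rest d → F) : Supp d (ofParts d A ρ) := by
  intro k y hy
  unfold ofParts
  rw [dif_neg, dif_neg]
  · omega
  · rintro ⟨h1, h2⟩
    omega

theorem blk_ofParts (d : Fin t → ℕ) (hd : ∀ k, 1 ≤ d k)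
    (A : (i : Fin (Finset.univ.sup d + 1)) →
      Matrix {k : Fin t // d k = (i : ℕ)} {k : Fin t // d k = (i : ℕ)} F)
    (ρ : Rest d → F) (i : Fin (Finset.univ.sup d + 1)) :
    blk d hd (ofParts d A ρ) (i : ℕ) = A i := by
  ext l k
  unfold blk ofParts
  have h : ((⟨l.1, ⟨0, hd l.1⟩⟩ : (k : Fin t) × Fin (d k)).2 : ℕ) = 0 ∧
      d (⟨l.1, ⟨0, hd l.1⟩⟩ : (k : Fin t) × Fin (d k)).1 = d k.1 := ⟨rfl, l.2.trans k.2.symm⟩
  rw [dif_pos h]
  exact getA_eq d A i l k

theorem blk_det_all (d : Fin t → ℕ) (hd : ∀ k, 1 ≤ d k)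
    (w : Fin t → ((k : Fin t) × Fin (d k)) → F) :
    (∀ k₀ : Fin t, (blk d hd w (d k₀)).det ≠ 0) ↔
      ∀ i : Fin (Finset.univ.sup d + 1), (blk d hd w (i : ℕ)).det ≠ 0 := by
  constructor
  · intro h i
    by_cases hi : ∃ k₀ : Fin t, d k₀ = (i : ℕ)
    · obtain ⟨k₀, hk₀⟩ := hi
      exact hk₀ ▸ h k₀
    · have : IsEmpty {k : Fin t // d k = (i : ℕ)} := ⟨fun k => hi ⟨k.1, k.2⟩⟩
      rw [Matrix.det_isEmpty]
      exact one_ne_zero
  · intro h k₀
    exact h ⟨d k₀, Nat.lt_succ_of_le (Finset.le_sup (Finset.mem_univ k₀))⟩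

/-- first columns split into diagonal blocks and the remaining coordinates -/
def partsEquiv (d : Fin t → ℕ) (hd : ∀ k, 1 ≤ d k) :
    {w : Fin t → ((k : Fin t) × Fin (d k)) → F //
      Supp d w ∧ ∀ k₀ : Fin t, (blk d hd w (d k₀)).det ≠ 0} ≃
    {A : (i : Fin (Finset.univ.sup d + 1)) →
      Matrix {k : Fin t // d k = (i : ℕ)} {k : Fin t // d k = (i : ℕ)} F //
        ∀ i, (A i).det ≠ 0} × (Rest d → F) where
  toFun w := (⟨fun i => blk d hd w.1 (i : ℕ), (blk_det_all d hd w.1).mp w.2.2⟩,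
    fun r => w.1 r.1.1 r.1.2)
  invFun z := ⟨ofParts d z.1.1 z.2, supp_ofParts d z.1.1 z.2, by
    rw [blk_det_all]
    intro i
    rw [blk_ofParts]
    exact z.1.2 i⟩
  left_inv w := by
    apply Subtype.ext
    funext k y
    change ofParts d (fun i => blk d hd w.1 (i : ℕ)) (fun r => w.1 r.1.1 r.1.2) k y = w.1 k y
    unfold ofParts
    by_cases h1 : (y.2 : ℕ) = 0 ∧ d y.1 = d k
    · rw [dif_pos h1]
      unfold getA blk
      exact congrArg (w.1 k) (sigma_fin_ext (by rfl) (by exact h1.1.symm))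
    · rw [dif_neg h1]
      by_cases h2 : d y.1 ≤ (y.2 : ℕ) + d k
      · rw [dif_pos h2]
      · rw [dif_neg h2]
        exact (w.2.1 k y (by omega)).symm
  right_inv z := by
    obtain ⟨⟨A, hA⟩, ρ⟩ := z
    apply Prod.ext
    · apply Subtype.ext
      funext i
      exact blk_ofParts d hd A ρ i
    · funext r
      change ofParts d A ρ r.1.1 r.1.2 = ρ r
      unfold ofParts
      rw [dif_neg r.2.2, dif_pos r.2.1]
      rfl

/-- the order of the centraliser of a unipotent Jordan matrix in `GL`, first form -/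
theorem card_centralizer_aux [Fintype F] (d : Fin t → ℕ) (hd : ∀ k, 1 ≤ d k) :
    Nat.card {g : GL ((k : Fin t) × Fin (d k)) F //
      (g : Matrix ((k : Fin t) × Fin (d k)) ((k : Fin t) × Fin (d k)) F) *
        Cfsg.jordanTypeMatrix d F = Cfsg.jordanTypeMatrix d F *
          (g : Matrix ((k : Fin t) × Fin (d k)) ((k : Fin t) × Fin (d k)) F)} =
      Fintype.card F ^ Fintype.card (Rest d) *
        ∏ i : Fin (Finset.univ.sup d + 1),
          glCard (Fintype.card F) (Fintype.card {k : Fin t // d k = (i : ℕ)}) := by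
  classical
  have h1 : Nat.card {A : (i : Fin (Finset.univ.sup d + 1)) →
      Matrix {k : Fin t // d k = (i : ℕ)} {k : Fin t // d k = (i : ℕ)} F //
        ∀ i, (A i).det ≠ 0} =
      ∏ i : Fin (Finset.univ.sup d + 1),
        Nat.card {B : Matrix {k : Fin t // d k = (i : ℕ)} {k : Fin t // d k = (i : ℕ)} F //
          B.det ≠ 0} := by
    rw [← Nat.card_pi]
    exact Nat.card_congr (Equiv.subtypePiEquivPi
      (β := fun i : Fin (Finset.univ.sup d + 1) =>
        Matrix {k : Fin t // d k = (i : ℕ)} {k : Fin t // d k = (i : ℕ)} F)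
      (p := fun _ B => B.det ≠ 0))
  rw [Nat.card_congr (((centEquiv d).trans (colsEquiv d hd)).trans (partsEquiv d hd)),
    Nat.card_prod, h1, Nat.card_fun, Nat.card_eq_fintype_card, Nat.card_eq_fintype_card, mul_comm]
  congr 1
  apply Finset.prod_congr rfl
  intro i _
  exact card_det_ne_zero _

end Cfsg.Agent.Lib.H11.GLCent
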