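import Mathlib
import Cfsg.Agent.Lib.H11.GLCent3

set_option autoImplicit false

/-!
# The exponent in the order of the centraliser of a unipotent Jordan matrix

`Fintype.card (Rest d) = 2 ∑_{i<j} i a_i a_j + ∑_i (i - 1) a_i²` where `a_i` is the number of
blocks of size `i`.
-/

namespace Cfsg.Agent.Lib.H11.GLCent

variable {t : ℕ}

/-- the number of free coordinates (outside the diagonal blocks) for a pair of blocks of sizes
`i` (source) and `j` (target) -/
def rr (i j : ℕ) : ℕ := if j = i then j - 1 else j - (j - i)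

theorem card_fin_ge (n lo : ℕ) : Fintype.card {c : Fin n // lo ≤ (c : ℕ)} = n - lo := by
  let e : {c : Fin n // lo ≤ (c : ℕ)} ≃ Fin (n - lo) :=
    { toFun := fun c => ⟨(c.1 : ℕ) - lo, by have := c.1.2; have := c.2; omega⟩
      invFun := fun j => ⟨⟨(j : ℕ) + lo, by have := j.2; omega⟩, Nat.le_add_left _ _⟩
      left_inv := fun c => by
        apply Subtype.ext
        apply Fin.ext
        have := c.2
        change (c.1 : ℕ) - lo + lo = (c.1 : ℕ)
        omega
      right_inv := fun j => by
        apply Fin.ext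
        change (j : ℕ) + lo - lo = (j : ℕ)
        omega }
  rw [Fintype.card_congr e, Fintype.card_fin]

theorem card_rest_fiber (d : Fin t → ℕ) (k l : Fin t) :
    Fintype.card {c : Fin (d l) // d l ≤ (c : ℕ) + d k ∧ ¬ ((c : ℕ) = 0 ∧ d l = d k)} =
      rr (d k) (d l) := by
  unfold rr
  by_cases h : d l = d k
  · rw [if_pos h, ← card_fin_ge (d l) 1]
    apply Fintype.card_congr
    apply Equiv.subtypeEquivRight
    intro c
    constructor
    · rintro ⟨h1, h2⟩
      by_contra h3
      exact h2 ⟨by omega, h⟩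
    · intro h1
      exact ⟨by omega, fun h2 => by omega⟩
  · rw [if_neg h, ← card_fin_ge (d l) (d l - d k)]
    apply Fintype.card_congr
    apply Equiv.subtypeEquivRight
    intro c
    constructor
    · rintro ⟨h1, -⟩
      omega
    · intro h1
      exact ⟨by omega, fun h2 => h h2.2⟩

/-- the rest coordinates, fibred over pairs of blocks -/
def restSigma (d : Fin t → ℕ) :
    Rest d ≃ (k : Fin t) × (l : Fin t) ×
      {c : Fin (d l) // d l ≤ (c : ℕ) + d k ∧ ¬ ((c : ℕ) = 0 ∧ d l = d k)} where
  toFun r := ⟨r.1.1, r.1.2.1, ⟨r.1.2.2, r.2⟩⟩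
  invFun s := ⟨(s.1, ⟨s.2.1, s.2.2.1⟩), s.2.2.2⟩
  left_inv _ := rfl
  right_inv _ := rfl

theorem card_rest (d : Fin t → ℕ) :
    Fintype.card (Rest d) = ∑ k : Fin t, ∑ l : Fin t, rr (d k) (d l) := by
  rw [Fintype.card_congr (restSigma d), Fintype.card_sigma]
  apply Finset.sum_congr rfl
  intro k _
  rw [Fintype.card_sigma]
  apply Finset.sum_congr rfl
  intro l _
  exact card_rest_fiber d k l

/-- sums over the blocks, grouped by block size -/
theorem sum_fiber (d : Fin t → ℕ) (g : ℕ → ℕ) :
    ∑ k : Fin t, g (d k) = ∑ i ∈ Finset.range (Finset.univ.sup d + 1),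
      (Finset.univ.filter (fun k : Fin t => d k = i)).card * g i := by
  have hmaps : ∀ k ∈ (Finset.univ : Finset (Fin t)), d k ∈ Finset.range (Finset.univ.sup d + 1) := by
    intro k _
    rw [Finset.mem_range]
    exact Nat.lt_succ_of_le (Finset.le_sup (Finset.mem_univ k))
  rw [← Finset.sum_fiberwise_of_maps_to hmaps]
  apply Finset.sum_congr rfl
  intro i _
  rw [Finset.sum_congr rfl (g := fun _ => g i), Finset.sum_const, smul_eq_mul]
  intro k hk
  rw [(Finset.mem_filter.mp hk).2]

theorem rr_split (i j : ℕ) :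
    rr i j = (if i < j then i else 0) + (if j < i then j else 0) + (if i = j then i - 1 else 0) := by
  unfold rr
  split_ifs <;> omega

/-- the exponent `γ` -/
theorem card_rest_eq (d : Fin t → ℕ) :
    Fintype.card (Rest d) =
      2 * (∑ i ∈ Finset.range (Finset.univ.sup d + 1),
        ∑ j ∈ Finset.range (Finset.univ.sup d + 1),
          if i < j then i * (Finset.univ.filter (fun k : Fin t => d k = i)).card *
            (Finset.univ.filter (fun k : Fin t => d k = j)).card else 0) +
      ∑ i ∈ Finset.range (Finset.univ.sup d + 1),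
        (i - 1) * (Finset.univ.filter (fun k : Fin t => d k = i)).card ^ 2 := by
  obtain ⟨a, ha⟩ : ∃ a : ℕ → ℕ, a = fun i => (Finset.univ.filter (fun k : Fin t => d k = i)).card :=
    ⟨_, rfl⟩
  obtain ⟨S, hS⟩ : ∃ S : Finset ℕ, S = Finset.range (Finset.univ.sup d + 1) := ⟨_, rfl⟩
  have h1 : Fintype.card (Rest d) = ∑ i ∈ S, ∑ j ∈ S, a i * (a j * rr i j) := by
    rw [card_rest, hS, ha]
    rw [sum_fiber d (fun i => ∑ l : Fin t, rr i (d l))]
    apply Finset.sum_congr rfl
    intro i _
    rw [sum_fiber d (fun j => rr i j), Finset.mul_sum]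
  have h2 : ∀ i j, a i * (a j * rr i j) = (if i < j then i * a i * a j else 0) +
      (if j < i then j * a j * a i else 0) + (if i = j then (i - 1) * a i ^ 2 else 0) := by
    intro i j
    rw [rr_split]
    split_ifs with h3 h4 h5 h5 h4 h5 h5
    · omega
    · omega
    · omega
    · simp; ring
    · omega
    · simp; ring
    · subst h5; simp; ring
    · omega
  have h3 : ∑ i ∈ S, ∑ j ∈ S, (if j < i then j * a j * a i else 0) =
      ∑ i ∈ S, ∑ j ∈ S, (if i < j then i * a i * a j else 0) := Finset.sum_comm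
  have h4 : ∑ i ∈ S, ∑ j ∈ S, (if i = j then (i - 1) * a i ^ 2 else 0) =
      ∑ i ∈ S, (i - 1) * a i ^ 2 := by
    apply Finset.sum_congr rfl
    intro i hi
    rw [Finset.sum_ite_eq, if_pos hi]
  rw [h1]
  simp_rw [h2, Finset.sum_add_distrib]
  rw [h3, h4, ← hS, ha]
  ring

end Cfsg.Agent.Lib.H11.GLCent
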