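import Cfsg.Agent.Lib.H11.AEINT

/-!
# S1951, piece D of helper12's signature file (`tools/blueprints/S1951_sigs_h12.lean`): `restrict_data`
(helper11; on top of `Lib/H11/AEINT.lean`).
-/

set_option autoImplicit false

namespace Cfsg.Agent.Lib.H11.GR

open Cfsg Cfsg.Agent.Lib.L0 Cfsg.Agent.Lib.H24 Cfsg.Agent.Lib.H11.AE

variable {G : Type*} [Group G] [Finite G] {p : ℕ} [Fact p.Prime]

/-- D. Restriction to `P`. -/
theorem restrict_data [IsSimpleGroup G] (P : Sylow p G)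
    (hconj : ∀ x ∈ (P : Subgroup G), ∀ y ∈ (P : Subgroup G), x ≠ 1 → y ≠ 1 → ∃ g : G, g * x * g⁻¹ = y)
    {z : G} (hz : z ∈ (P : Subgroup G)) (hz1 : z ≠ 1) (χ : Cfsg.IrrCharacter G) :
    ∃ (c m : ℤ) (d : ℕ), (χ : G → ℂ) z = (c : ℂ) ∧ (χ : G → ℂ) 1 = (d : ℂ) ∧ 0 < d ∧
      (d : ℤ) = c + m * (Nat.card (P : Subgroup G) : ℤ) ∧ 0 ≤ m ∧ ((χ : G → ℂ) ≠ (fun _ => 1) → 1 ≤ m) := by
  have hχ : IsIrrCharacter G (χ : G → ℂ) := χ.2
  have hc := isCharacter_of_irr hχ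
  have hP : (P : Subgroup G) ≠ ⊥ := by
    intro h
    apply hz1
    rw [h, Subgroup.mem_bot] at hz
    exact hz
  have hconj' : ∀ x ∈ (P : Subgroup G), x ≠ 1 → ∃ g : G, g * z * g⁻¹ = x :=
    fun x hx hx1 => hconj z hz x hx hz1 hx1
  obtain ⟨c, hcv⟩ := exists_int_value hc (P : Subgroup G) hP z hconj'
  obtain ⟨d, hdpos, hd⟩ := irr_one_eq χ
  obtain ⟨m, hm⟩ := exists_int_mult' hc (P : Subgroup G) z hconj' c hcv d hd
  refine ⟨c, m, d, hcv, hd, hdpos, hm, ?_, fun hχ1 => ?_⟩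
  · have hle := int_value_le hc z c hcv d hd
    have hPpos : (0 : ℤ) < (Nat.card (P : Subgroup G) : ℤ) := by
      exact_mod_cast (Nat.card_pos (α := (P : Subgroup G)))
    have h0 : 0 ≤ m * (Nat.card (P : Subgroup G) : ℤ) := by linarith
    by_contra h
    have h' : m < 0 := not_le.mp h
    have : m * (Nat.card (P : Subgroup G) : ℤ) < 0 := mul_neg_of_neg_of_pos h' hPpos
    linarith
  · exact one_le_mult hc (P : Subgroup G) z c hcv d hd
      (irr_value_ne_degree_of_simple hχ hχ1 hz1) m hm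

end Cfsg.Agent.Lib.H11.GR
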