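import Mathlib

/-!
# S1951, piece K of helper12's signature file (`tools/blueprints/S1951_sigs_h12.lean`):
`isConj_of_orderOf` (helper11; pure Mathlib).
-/

set_option autoImplicit false

namespace Cfsg.Agent.Lib.H11.GR

variable {G : Type*} [Group G] [Finite G] {p : ℕ} [Fact p.Prime]

/-- K. All elements of order `p` are conjugate to `z` (Sylow + `hconj`). -/
theorem isConj_of_orderOf (P : Sylow p G)
    (hconj : ∀ x ∈ (P : Subgroup G), ∀ y ∈ (P : Subgroup G), x ≠ 1 → y ≠ 1 → ∃ g : G, g * x * g⁻¹ = y)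
    {z s : G} (hz : z ∈ (P : Subgroup G)) (hz1 : z ≠ 1) (hs : orderOf s = p) : ∃ g : G, g * z * g⁻¹ = s := by
  have hp : p.Prime := Fact.out
  have hsP : IsPGroup p (Subgroup.zpowers s) := by
    apply IsPGroup.of_card (n := 1)
    rw [Nat.card_zpowers, hs, pow_one]
  obtain ⟨Q, hQ⟩ := hsP.exists_le_sylow
  obtain ⟨g, hg⟩ := MulAction.exists_smul_eq G Q P
  have hsQ : s ∈ (Q : Subgroup G) := hQ (Subgroup.mem_zpowers s)
  have hgs : g * s * g⁻¹ ∈ (P : Subgroup G) := by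
    rw [← hg, Sylow.coe_subgroup_smul]
    exact ⟨s, hsQ, rfl⟩
  have hs1 : s ≠ 1 := by
    intro h
    rw [h, orderOf_one] at hs
    exact hp.one_lt.ne hs
  have hgs1 : g * s * g⁻¹ ≠ 1 := by
    intro h
    apply hs1
    have : s = g⁻¹ * (g * s * g⁻¹) * g := by group
    rw [this, h]
    group
  obtain ⟨k, hk⟩ := hconj z hz _ hgs hz1 hgs1
  refine ⟨g⁻¹ * k, ?_⟩
  have : g⁻¹ * k * z * (g⁻¹ * k)⁻¹ = g⁻¹ * (k * z * k⁻¹) * g := by group
  rw [this, hk]
  group

end Cfsg.Agent.Lib.H11.GR
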