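import Mathlib
import Cfsg.Agent.Lib.H11.HermNorm4

set_option autoImplicit false
set_option linter.unusedSectionVars false

/-!
# Counting isometries in a commutant: orbit–stabiliser on invariant Hermitian forms

Let `N` be a nilpotent matrix over a finite field `K` with `|K| = q²`, skew-adjoint for an invertible
Hermitian matrix `Z₀` (`N* Z₀ = - Z₀ N`).  Then the group of invertible matrices commuting with `N`
acts transitively on the invertible Hermitian matrices `Z` with `N* Z = - Z N`, and the stabiliser of
`Z₀` is the group of isometries of `Z₀` commuting with `N`.  (`card_commutant_eq`)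
-/

namespace Cfsg.Agent.Lib.H11.GUCent

open Matrix Cfsg.Agent.Lib.H13.AutPSU Cfsg.Agent.Lib.H11.HermNorm

variable {K : Type*} [Field K] {q : ℕ} (D : UF K q)

section reindex

variable {ι ι' : Type*} [Fintype ι] [DecidableEq ι] [Fintype ι'] [DecidableEq ι']

theorem ct_reindex (e : ι ≃ ι') (X : Matrix ι ι K) :
    ct D (Matrix.reindex e e X) = Matrix.reindex e e (ct D X) := rfl

theorem reindex_mul' (e : ι ≃ ι') (X Y : Matrix ι ι K) :
    Matrix.reindex e e (X * Y) = Matrix.reindex e e X * Matrix.reindex e e Y := by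
  simp only [Matrix.reindex_apply]
  rw [Matrix.submatrix_mul_equiv]

theorem reindex_one' (e : ι ≃ ι') :
    Matrix.reindex e e (1 : Matrix ι ι K) = 1 := by
  simp only [Matrix.reindex_apply]
  rw [Matrix.submatrix_one_equiv]

theorem reindex_symm_reindex (e : ι ≃ ι') (X : Matrix ι ι K) :
    Matrix.reindex e.symm e.symm (Matrix.reindex e e X) = X := by
  ext i j
  simp

theorem reindex_reindex_symm (e : ι ≃ ι') (X : Matrix ι' ι' K) :
    Matrix.reindex e e (Matrix.reindex e.symm e.symm X) = X := by
  ext i j
  simp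

end reindex

variable {ι : Type*} [Fintype ι] [DecidableEq ι]

/-- invertible Hermitian matrices are norms, on any finite index type -/
theorem exists_norm' [Finite K] (H Hi : Matrix ι ι K) (hH : ct D H = H) (h1 : H * Hi = 1) :
    ∃ C Ci : Matrix ι ι K, C * Ci = 1 ∧ Ci * C = 1 ∧ ct D C * C = H := by
  have h2 : Hi * H = 1 := mul_eq_one_comm.mp h1
  let e : ι ≃ Fin (Fintype.card ι) := Fintype.equivFin ι
  obtain ⟨C, hC, ⟨Cu, hCu⟩, -⟩ := exists_norm D (Matrix.reindex e e H) (Matrix.reindex e e Hi)
    (by rw [ct_reindex, hH]) (by rw [← reindex_mul', h1, reindex_one'])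
    (by rw [← reindex_mul', h2, reindex_one'])
  refine ⟨Matrix.reindex e.symm e.symm C,
    Matrix.reindex e.symm e.symm ((Cu⁻¹ : (Matrix _ _ K)ˣ) : Matrix _ _ K), ?_, ?_, ?_⟩
  · rw [← reindex_mul', ← hCu, Units.mul_inv, reindex_one']
  · rw [← reindex_mul', ← hCu, Units.inv_mul, reindex_one']
  · rw [ct_reindex, ← reindex_mul', hC, reindex_symm_reindex]

/-- unitary conjugacy from conjugacy, on any finite index type -/
theorem exists_unitary_conj' [Finite K] (A B g gi : Matrix ι ι K) (hA : ct D A * A = 1)
    (hB : ct D B * B = 1) (hg1 : g * gi = 1) (hconj : g * A = B * g) :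
    ∃ u : Matrix ι ι K, ct D u * u = 1 ∧ u * A = B * u := by
  have hg2 : gi * g = 1 := mul_eq_one_comm.mp hg1
  let e : ι ≃ Fin (Fintype.card ι) := Fintype.equivFin ι
  obtain ⟨u, hu, huc⟩ := exists_unitary_conj D (Matrix.reindex e e A) (Matrix.reindex e e B)
    (Matrix.reindex e e g) (Matrix.reindex e e gi)
    (by rw [ct_reindex, ← reindex_mul', hA, reindex_one'])
    (by rw [ct_reindex, ← reindex_mul', hB, reindex_one'])
    (by rw [← reindex_mul', hg1, reindex_one'])
    (by rw [← reindex_mul', hg2, reindex_one'])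
    (by rw [← reindex_mul', ← reindex_mul', hconj])
  refine ⟨Matrix.reindex e.symm e.symm u, ?_, ?_⟩
  · rw [ct_reindex, ← reindex_mul', hu, reindex_one']
  · have h1 := congrArg (Matrix.reindex e.symm e.symm) huc
    rw [reindex_mul', reindex_mul', reindex_symm_reindex, reindex_symm_reindex] at h1
    exact h1

end Cfsg.Agent.Lib.H11.GUCent
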