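import Mathlib
import Cfsg.Agent.Lib.H11.GUCent1

set_option autoImplicit false
set_option linter.unusedSectionVars false

/-!
# The Cayley transform of a skew-adjoint nilpotent matrix

For `N` nilpotent and `l` with `l + τ l ≠ 0` put `R = 1 - τ l • N` and `u₀ = (1 + l • N) R⁻¹`.
Then `u₀` has the same commutant as `N`, and `u₀` is an isometry of every sesquilinear form `Z`
for which `N` is skew-adjoint (`N* Z = - Z N`).
-/

namespace Cfsg.Agent.Lib.H11.GUCent

open Matrix Cfsg.Agent.Lib.H13.AutPSU Cfsg.Agent.Lib.H11.HermNorm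

variable {K : Type*} [Field K] {q : ℕ} (D : UF K q)
variable {ι : Type*} [Fintype ι] [DecidableEq ι]

/-- the data of a Cayley transform -/
structure Cay (N : Matrix ι ι K) where
  l : K
  hl : l + D.τ l ≠ 0
  R : Matrix ι ι K
  Ri : Matrix ι ι K
  u : Matrix ι ι K
  hR : R = 1 - D.τ l • N
  hR1 : R * Ri = 1
  hR2 : Ri * R = 1
  hu : u = (1 + l • N) * Ri

theorem exists_cay (N : Matrix ι ι K) (hN : IsNilpotent N) : Nonempty (Cay D N) := by
  obtain ⟨a, ha⟩ := D.tr_surj 1 (map_one _)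
  have hnil : IsNilpotent (D.τ a • N) := by
    obtain ⟨k, hk⟩ := hN
    exact ⟨k, by rw [smul_pow, hk, smul_zero]⟩
  obtain ⟨Ru, hRu⟩ := hnil.isUnit_one_sub
  exact ⟨⟨a, by rw [ha]; exact one_ne_zero, 1 - D.τ a • N,
    ((Ru⁻¹ : (Matrix ι ι K)ˣ) : Matrix ι ι K), (1 + a • N) * ((Ru⁻¹ : (Matrix ι ι K)ˣ) : Matrix ι ι K),
    rfl, by rw [← hRu, Units.mul_inv], by rw [← hRu, Units.inv_mul], rfl⟩⟩

namespace Cay

variable {D} {N : Matrix ι ι K} (c : Cay D N)

theorem R_mul_N : c.R * N = N * c.R := by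
  rw [c.hR, Matrix.sub_mul, Matrix.mul_sub, Matrix.one_mul, Matrix.mul_one, Matrix.smul_mul,
    Matrix.mul_smul]

theorem N_mul_Ri : N * c.Ri = c.Ri * N := by
  calc N * c.Ri = c.Ri * c.R * N * c.Ri := by rw [c.hR2, Matrix.one_mul]
    _ = c.Ri * (c.R * N) * c.Ri := by simp only [Matrix.mul_assoc]
    _ = c.Ri * (N * c.R) * c.Ri := by rw [c.R_mul_N]
    _ = c.Ri * N * (c.R * c.Ri) := by simp only [Matrix.mul_assoc]
    _ = c.Ri * N := by rw [c.hR1, Matrix.mul_one]

/-- matrices commuting with `N` commute with `u₀` -/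
theorem commute_u {X : Matrix ι ι K} (hX : X * N = N * X) : X * c.u = c.u * X := by
  have h1 : X * c.R = c.R * X := by
    rw [c.hR, Matrix.sub_mul, Matrix.mul_sub, Matrix.one_mul, Matrix.mul_one, Matrix.smul_mul,
      Matrix.mul_smul, hX]
  have h2 : X * c.Ri = c.Ri * X := by
    calc X * c.Ri = c.Ri * c.R * X * c.Ri := by rw [c.hR2, Matrix.one_mul]
      _ = c.Ri * (c.R * X) * c.Ri := by simp only [Matrix.mul_assoc]
      _ = c.Ri * (X * c.R) * c.Ri := by rw [h1]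
      _ = c.Ri * X * (c.R * c.Ri) := by simp only [Matrix.mul_assoc]
      _ = c.Ri * X := by rw [c.hR1, Matrix.mul_one]
  have h3 : X * (1 + c.l • N) = (1 + c.l • N) * X := by
    rw [Matrix.mul_add, Matrix.add_mul, Matrix.one_mul, Matrix.mul_one, Matrix.smul_mul,
      Matrix.mul_smul, hX]
  rw [c.hu, ← Matrix.mul_assoc, h3, Matrix.mul_assoc, h2, Matrix.mul_assoc]

theorem u_mul_R : c.u * c.R = 1 + c.l • N := by
  rw [c.hu, Matrix.mul_assoc, c.hR2, Matrix.mul_one]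

theorem R_mul_u : c.R * c.u = 1 + c.l • N := by
  rw [c.commute_u c.R_mul_N, c.u_mul_R]

/-- `R (u₀ - 1) = (l + τ l) N` -/
theorem R_mul_u_sub_one : c.R * (c.u - 1) = (c.l + D.τ c.l) • N := by
  rw [Matrix.mul_sub, c.R_mul_u, Matrix.mul_one, c.hR, add_smul]
  abel

/-- matrices commuting with `u₀` commute with `N` -/
theorem commute_N {X : Matrix ι ι K} (hX : X * c.u = c.u * X) : X * N = N * X := by
  -- `T = l + τ l u₀` satisfies `T R = R T = s`
  obtain ⟨T, hT⟩ : ∃ T, T = c.l • (1 : Matrix ι ι K) + D.τ c.l • c.u := ⟨_, rfl⟩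
  have hTR : T * c.R = (c.l + D.τ c.l) • (1 : Matrix ι ι K) := by
    rw [hT, Matrix.add_mul, Matrix.smul_mul, Matrix.smul_mul, c.u_mul_R, Matrix.one_mul, c.hR]
    rw [smul_sub, smul_add, smul_smul, smul_smul, add_smul, mul_comm]
    abel
  have hRT : c.R * T = (c.l + D.τ c.l) • (1 : Matrix ι ι K) := by
    rw [hT, Matrix.mul_add, Matrix.mul_smul, Matrix.mul_smul, c.R_mul_u, Matrix.mul_one, c.hR]
    rw [smul_sub, smul_add, smul_smul, smul_smul, add_smul, mul_comm]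
    abel
  have hXT : X * T = T * X := by
    rw [hT, Matrix.mul_add, Matrix.add_mul, Matrix.mul_smul, Matrix.smul_mul, Matrix.mul_smul,
      Matrix.smul_mul, Matrix.mul_one, Matrix.one_mul, hX]
  have hXR : X * c.R = c.R * X := by
    have h1 : (c.l + D.τ c.l) • (X * c.R) = (c.l + D.τ c.l) • (c.R * X) := by
      calc (c.l + D.τ c.l) • (X * c.R) = (c.R * T) * (X * c.R) := by
            rw [hRT, Matrix.smul_mul, Matrix.one_mul]
        _ = c.R * (T * X) * c.R := by simp only [Matrix.mul_assoc]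
        _ = c.R * (X * T) * c.R := by rw [hXT]
        _ = c.R * X * (T * c.R) := by simp only [Matrix.mul_assoc]
        _ = (c.l + D.τ c.l) • (c.R * X) := by rw [hTR, Matrix.mul_smul, Matrix.mul_one]
    exact smul_right_injective _ c.hl h1
  have h2 : (c.l + D.τ c.l) • (X * N) = (c.l + D.τ c.l) • (N * X) := by
    rw [← Matrix.mul_smul, ← Matrix.smul_mul, ← c.R_mul_u_sub_one, ← Matrix.mul_assoc, hXR,
      Matrix.mul_assoc, Matrix.mul_assoc]
    congr 1
    rw [Matrix.mul_sub, Matrix.sub_mul, hX, Matrix.mul_one, Matrix.one_mul]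
  exact smul_right_injective _ c.hl h2

/-- `u₀` is an isometry of every form for which `N` is skew-adjoint -/
theorem isometry_u {Z : Matrix ι ι K} (hZ : ct D N * Z = -(Z * N)) :
    ct D c.u * Z * c.u = Z := by
  have hctR : ct D c.R = 1 - c.l • ct D N := by
    rw [c.hR, ct_sub, ct_one, ct_smul, D.hτ2]
  have hctRi : ct D c.Ri * ct D c.R = 1 := by
    rw [← ct_mul, c.hR1, ct_one]
  have hctu : ct D c.u = ct D c.Ri * (1 + D.τ c.l • ct D N) := by
    rw [c.hu, ct_mul, ct_add, ct_one, ct_smul]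
  have key : (1 + D.τ c.l • ct D N) * Z * (1 + c.l • N) = ct D c.R * Z * c.R := by
    rw [hctR, c.hR]
    simp only [Matrix.add_mul, Matrix.mul_add, Matrix.sub_mul, Matrix.mul_sub, Matrix.one_mul,
      Matrix.mul_one, Matrix.smul_mul, Matrix.mul_smul, hZ]
    module
  calc ct D c.u * Z * c.u
      = ct D c.Ri * ((1 + D.τ c.l • ct D N) * Z * (1 + c.l • N)) * c.Ri := by
        rw [hctu, c.hu]; simp only [Matrix.mul_assoc]
    _ = ct D c.Ri * (ct D c.R * Z * c.R) * c.Ri := by rw [key]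
    _ = (ct D c.Ri * ct D c.R) * Z * (c.R * c.Ri) := by simp only [Matrix.mul_assoc]
    _ = Z := by rw [hctRi, c.hR1, Matrix.one_mul, Matrix.mul_one]

/-- `u₀ - 1 = (l + τ l) N R⁻¹` -/
theorem u_sub_one : c.u - 1 = (c.l + D.τ c.l) • (N * c.Ri) := by
  have h := c.R_mul_u_sub_one
  calc c.u - 1 = c.Ri * c.R * (c.u - 1) := by rw [c.hR2, Matrix.one_mul]
    _ = c.Ri * (c.R * (c.u - 1)) := by rw [Matrix.mul_assoc]
    _ = (c.l + D.τ c.l) • (c.Ri * N) := by rw [h, Matrix.mul_smul]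
    _ = (c.l + D.τ c.l) • (N * c.Ri) := by rw [c.N_mul_Ri]

/-- powers of `u₀ - 1` -/
theorem u_sub_one_pow (j : ℕ) :
    (c.u - 1) ^ j = N ^ j * ((c.l + D.τ c.l) ^ j • c.Ri ^ j) := by
  have hcomm : Commute N c.Ri := c.N_mul_Ri
  rw [c.u_sub_one, smul_pow, hcomm.mul_pow, Matrix.mul_smul]

/-- ranks of the powers of `u₀ - 1` -/
theorem rank_u_sub_one_pow (j : ℕ) : ((c.u - 1) ^ j).rank = (N ^ j).rank := by
  rw [c.u_sub_one_pow]
  have hu : IsUnit ((c.l + D.τ c.l) ^ j • c.Ri ^ j).det := by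
    rw [Matrix.det_smul, Matrix.det_pow]
    apply IsUnit.mul
    · exact (isUnit_iff_ne_zero.mpr (pow_ne_zero _ (pow_ne_zero _ c.hl)))
    · apply IsUnit.pow
      have : c.Ri.det * c.R.det = 1 := by rw [← Matrix.det_mul, c.hR2, Matrix.det_one]
      exact isUnit_iff_exists_inv.mpr ⟨_, this⟩
  exact Matrix.rank_mul_eq_left_of_isUnit_det _ _ hu

end Cay

end Cfsg.Agent.Lib.H11.GUCent
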