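import Mathlib
import Cfsg.Agent.Lib.H11.GUCent2

set_option autoImplicit false
set_option linter.unusedSectionVars false

/-!
# Orbit–stabiliser for the commutant acting on invariant Hermitian forms
-/

namespace Cfsg.Agent.Lib.H11.GUCent

open Matrix Cfsg.Agent.Lib.H13.AutPSU Cfsg.Agent.Lib.H11.HermNorm

variable {K : Type*} [Field K] {q : ℕ} (D : UF K q)
variable {ι : Type*} [Fintype ι] [DecidableEq ι]

/-- transitivity: any two invertible Hermitian forms for which the nilpotent `N` is skew-adjoint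
are equivalent by a matrix commuting with `N` -/
theorem exists_commuting_isometry [Finite K] (N Z₀ Z₀i Z : Matrix ι ι K) (hN : IsNilpotent N)
    (hZ₀ : ct D Z₀ = Z₀) (hZ₀1 : Z₀ * Z₀i = 1) (hNZ₀ : ct D N * Z₀ = -(Z₀ * N))
    (hZ : ct D Z = Z) (hZdet : Z.det ≠ 0) (hNZ : ct D N * Z = -(Z * N)) :
    ∃ h : Matrix ι ι K, h * N = N * h ∧ ct D h * Z₀ * h = Z := by
  obtain ⟨c⟩ := exists_cay D N hN
  have hZi : Z * Z⁻¹ = 1 := Matrix.mul_nonsing_inv Z (isUnit_iff_ne_zero.mpr hZdet)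
  obtain ⟨C₀, C₀i, h01, h02, h03⟩ := exists_norm' D Z₀ Z₀i hZ₀ hZ₀1
  obtain ⟨C₁, C₁i, h11, h12, h13⟩ := exists_norm' D Z Z⁻¹ hZ hZi
  have hct0 : ct D C₀i * ct D C₀ = 1 := by rw [← ct_mul, h01, ct_one]
  have hct1 : ct D C₁i * ct D C₁ = 1 := by rw [← ct_mul, h11, ct_one]
  have hu0 := c.isometry_u hNZ₀
  have hu1 := c.isometry_u hNZ
  -- the two unitary conjugates of `u₀`
  have hA : ct D (C₀ * c.u * C₀i) * (C₀ * c.u * C₀i) = 1 := by
    calc ct D (C₀ * c.u * C₀i) * (C₀ * c.u * C₀i)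
        = ct D C₀i * (ct D c.u * (ct D C₀ * C₀) * c.u) * C₀i := by
          rw [ct_mul, ct_mul]; simp only [Matrix.mul_assoc]
      _ = ct D C₀i * (ct D C₀ * C₀) * C₀i := by rw [h03, hu0]
      _ = (ct D C₀i * ct D C₀) * (C₀ * C₀i) := by simp only [Matrix.mul_assoc]
      _ = 1 := by rw [hct0, h01, Matrix.one_mul]
  have hB : ct D (C₁ * c.u * C₁i) * (C₁ * c.u * C₁i) = 1 := by
    calc ct D (C₁ * c.u * C₁i) * (C₁ * c.u * C₁i)
        = ct D C₁i * (ct D c.u * (ct D C₁ * C₁) * c.u) * C₁i := by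
          rw [ct_mul, ct_mul]; simp only [Matrix.mul_assoc]
      _ = ct D C₁i * (ct D C₁ * C₁) * C₁i := by rw [h13, hu1]
      _ = (ct D C₁i * ct D C₁) * (C₁ * C₁i) := by simp only [Matrix.mul_assoc]
      _ = 1 := by rw [hct1, h11, Matrix.one_mul]
  have hconj : (C₁ * C₀i) * (C₀ * c.u * C₀i) = (C₁ * c.u * C₁i) * (C₁ * C₀i) := by
    calc (C₁ * C₀i) * (C₀ * c.u * C₀i) = C₁ * (C₀i * C₀) * c.u * C₀i := by
          simp only [Matrix.mul_assoc]
      _ = C₁ * c.u * C₀i := by rw [h02, Matrix.mul_one]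
      _ = C₁ * c.u * (C₁i * C₁) * C₀i := by rw [h12, Matrix.mul_one]
      _ = (C₁ * c.u * C₁i) * (C₁ * C₀i) := by simp only [Matrix.mul_assoc]
  have hinv : (C₁ * C₀i) * (C₀ * C₁i) = 1 := by
    calc (C₁ * C₀i) * (C₀ * C₁i) = C₁ * (C₀i * C₀) * C₁i := by simp only [Matrix.mul_assoc]
      _ = 1 := by rw [h02, Matrix.mul_one, h11]
  obtain ⟨v, hv, hvc⟩ := exists_unitary_conj' D _ _ (C₁ * C₀i) (C₀ * C₁i) hA hB hinv hconj
  have hv' : v * ct D v = 1 := mul_eq_one_comm.mp hv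
  -- `A v* = v* B`
  have hvc' : (C₀ * c.u * C₀i) * ct D v = ct D v * (C₁ * c.u * C₁i) := by
    calc (C₀ * c.u * C₀i) * ct D v = (ct D v * v) * (C₀ * c.u * C₀i) * ct D v := by
          rw [hv, Matrix.one_mul]
      _ = ct D v * (v * (C₀ * c.u * C₀i)) * ct D v := by simp only [Matrix.mul_assoc]
      _ = ct D v * ((C₁ * c.u * C₁i) * v) * ct D v := by rw [hvc]
      _ = ct D v * (C₁ * c.u * C₁i) * (v * ct D v) := by simp only [Matrix.mul_assoc]
      _ = ct D v * (C₁ * c.u * C₁i) := by rw [hv', Matrix.mul_one]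
  refine ⟨C₀i * ct D v * C₁, ?_, ?_⟩
  · apply c.commute_N
    calc C₀i * ct D v * C₁ * c.u = C₀i * ct D v * (C₁ * c.u * (C₁i * C₁)) := by
          rw [h12, Matrix.mul_one]; simp only [Matrix.mul_assoc]
      _ = C₀i * (ct D v * (C₁ * c.u * C₁i)) * C₁ := by simp only [Matrix.mul_assoc]
      _ = C₀i * ((C₀ * c.u * C₀i) * ct D v) * C₁ := by rw [hvc']
      _ = (C₀i * C₀) * c.u * (C₀i * ct D v * C₁) := by simp only [Matrix.mul_assoc]
      _ = c.u * (C₀i * ct D v * C₁) := by rw [h02, Matrix.one_mul]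
  · calc ct D (C₀i * ct D v * C₁) * Z₀ * (C₀i * ct D v * C₁)
        = ct D C₁ * v * (ct D C₀i * (ct D C₀ * C₀) * C₀i) * ct D v * C₁ := by
          rw [ct_mul, ct_mul, ct_ct, h03]; simp only [Matrix.mul_assoc]
      _ = ct D C₁ * v * ((ct D C₀i * ct D C₀) * (C₀ * C₀i)) * ct D v * C₁ := by
          simp only [Matrix.mul_assoc]
      _ = ct D C₁ * (v * ct D v) * C₁ := by
          rw [hct0, h01, Matrix.one_mul, Matrix.mul_one]; simp only [Matrix.mul_assoc]
      _ = Z := by rw [hv', Matrix.mul_one, h13]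

/-- **orbit–stabiliser**: the number of invertible matrices commuting with `N` is the number of
isometries of `Z₀` commuting with `N` times the number of invertible Hermitian forms for which `N`
is skew-adjoint -/
theorem card_commutant_eq [Finite K] (N Z₀ Z₀i : Matrix ι ι K) (hN : IsNilpotent N)
    (hZ₀ : ct D Z₀ = Z₀) (hZ₀1 : Z₀ * Z₀i = 1) (hNZ₀ : ct D N * Z₀ = -(Z₀ * N)) :
    Nat.card {g : Matrix ι ι K // g * N = N * g ∧ g.det ≠ 0} =
      Nat.card {g : Matrix ι ι K // g * N = N * g ∧ ct D g * Z₀ * g = Z₀} *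
        Nat.card {Z : Matrix ι ι K // ct D Z = Z ∧ Z.det ≠ 0 ∧ ct D N * Z = -(Z * N)} := by
  classical
  have : Fintype K := Fintype.ofFinite K
  have : Fintype {Z : Matrix ι ι K // ct D Z = Z ∧ Z.det ≠ 0 ∧ ct D N * Z = -(Z * N)} :=
    Fintype.ofFinite _
  have hZ₀det : Z₀.det ≠ 0 := by
    intro h0
    have := congrArg Matrix.det hZ₀1
    rw [Matrix.det_mul, h0, zero_mul, Matrix.det_one] at this
    exact zero_ne_one this
  have hNct : ∀ g : Matrix ι ι K, g * N = N * g → ct D g * ct D N = ct D N * ct D g := by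
    intro g hg
    rw [← ct_mul, ← ct_mul, hg]
  -- the map `g ↦ g* Z₀ g`
  let ν : {g : Matrix ι ι K // g * N = N * g ∧ g.det ≠ 0} →
      {Z : Matrix ι ι K // ct D Z = Z ∧ Z.det ≠ 0 ∧ ct D N * Z = -(Z * N)} :=
    fun g => ⟨ct D g.1 * Z₀ * g.1, by
      rw [ct_mul, ct_mul, ct_ct, hZ₀, Matrix.mul_assoc], by
      rw [Matrix.det_mul, Matrix.det_mul]
      refine mul_ne_zero (mul_ne_zero ?_ hZ₀det) g.2.2
      intro h0
      have h1 : (ct D g.1).det = D.τ g.1.det := by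
        unfold ct
        rw [Matrix.det_transpose]
        exact (RingHom.map_det D.τ.toRingHom g.1).symm
      rw [h1] at h0
      exact g.2.2 ((map_eq_zero_iff _ D.τ.injective).mp h0), by
      calc ct D N * (ct D g.1 * Z₀ * g.1) = (ct D N * ct D g.1) * Z₀ * g.1 := by
            simp only [Matrix.mul_assoc]
        _ = ct D g.1 * (ct D N * Z₀) * g.1 := by
            rw [← hNct g.1 g.2.1]; simp only [Matrix.mul_assoc]
        _ = -(ct D g.1 * Z₀ * (N * g.1)) := by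
            rw [hNZ₀]; simp only [Matrix.mul_neg, Matrix.neg_mul, Matrix.mul_assoc]
        _ = -(ct D g.1 * Z₀ * g.1 * N) := by
            rw [← g.2.1]; simp only [Matrix.mul_assoc]⟩
  rw [Nat.card_congr (Equiv.sigmaFiberEquiv ν).symm, Nat.card_sigma]
  have hfib : ∀ Z, Nat.card {g // ν g = Z} =
      Nat.card {g : Matrix ι ι K // g * N = N * g ∧ ct D g * Z₀ * g = Z₀} := by
    intro Z
    obtain ⟨h, hh1, hh2⟩ := exists_commuting_isometry D N Z₀ Z₀i Z.1 hN hZ₀ hZ₀1 hNZ₀ Z.2.1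
      Z.2.2.1 Z.2.2.2
    have hhdet : h.det ≠ 0 := by
      intro h0
      apply Z.2.2.1
      rw [← hh2, Matrix.det_mul, h0, mul_zero]
    have hhi : h * h⁻¹ = 1 := Matrix.mul_nonsing_inv h (isUnit_iff_ne_zero.mpr hhdet)
    have hhi' : h⁻¹ * h = 1 := Matrix.nonsing_inv_mul h (isUnit_iff_ne_zero.mpr hhdet)
    have hhiN : h⁻¹ * N = N * h⁻¹ := by
      calc h⁻¹ * N = h⁻¹ * N * (h * h⁻¹) := by rw [hhi, Matrix.mul_one]
        _ = h⁻¹ * (N * h) * h⁻¹ := by simp only [Matrix.mul_assoc]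
        _ = h⁻¹ * (h * N) * h⁻¹ := by rw [hh1]
        _ = (h⁻¹ * h) * N * h⁻¹ := by simp only [Matrix.mul_assoc]
        _ = N * h⁻¹ := by rw [hhi', Matrix.one_mul]
    have hcthi : ct D h⁻¹ * ct D h = 1 := by rw [← ct_mul, hhi, ct_one]
    apply Nat.card_congr
    refine
      { toFun := fun g => ⟨g.1.1 * h⁻¹, ?_, ?_⟩
        invFun := fun g => ⟨⟨g.1 * h, ?_, ?_⟩, ?_⟩
        left_inv := fun g => ?_
        right_inv := fun g => ?_ }
    · rw [Matrix.mul_assoc, hhiN, ← Matrix.mul_assoc, g.1.2.1, Matrix.mul_assoc]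
    · have hg : ct D g.1.1 * Z₀ * g.1.1 = Z.1 := congrArg Subtype.val g.2
      calc ct D (g.1.1 * h⁻¹) * Z₀ * (g.1.1 * h⁻¹)
          = ct D h⁻¹ * (ct D g.1.1 * Z₀ * g.1.1) * h⁻¹ := by
            rw [ct_mul]; simp only [Matrix.mul_assoc]
        _ = ct D h⁻¹ * (ct D h * Z₀ * h) * h⁻¹ := by rw [hg, hh2]
        _ = (ct D h⁻¹ * ct D h) * Z₀ * (h * h⁻¹) := by simp only [Matrix.mul_assoc]
        _ = Z₀ := by rw [hcthi, hhi, Matrix.one_mul, Matrix.mul_one]
    · rw [Matrix.mul_assoc, hh1, ← Matrix.mul_assoc, g.2.1, Matrix.mul_assoc]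
    · rw [Matrix.det_mul]
      refine mul_ne_zero ?_ hhdet
      intro h0
      have := congrArg Matrix.det g.2.2
      rw [Matrix.det_mul, h0, mul_zero] at this
      exact hZ₀det this.symm
    · apply Subtype.ext
      change ct D (g.1 * h) * Z₀ * (g.1 * h) = Z.1
      calc ct D (g.1 * h) * Z₀ * (g.1 * h) = ct D h * (ct D g.1 * Z₀ * g.1) * h := by
            rw [ct_mul]; simp only [Matrix.mul_assoc]
        _ = Z.1 := by rw [g.2.2, hh2]
    · apply Subtype.ext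
      apply Subtype.ext
      change g.1.1 * h⁻¹ * h = g.1.1
      rw [Matrix.mul_assoc, hhi', Matrix.mul_one]
    · apply Subtype.ext
      change g.1 * h * h⁻¹ = g.1
      rw [Matrix.mul_assoc, hhi, Matrix.mul_one]
  rw [Finset.sum_congr rfl (fun Z _ => hfib Z), Finset.sum_const, smul_eq_mul, Finset.card_univ,
    ← Nat.card_eq_fintype_card, mul_comm]

end Cfsg.Agent.Lib.H11.GUCent
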