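import Mathlib
import Cfsg.Agent.Lib.H11.GUCent3
import Cfsg.Agent.Lib.H11.GLCent4

set_option autoImplicit false
set_option linter.unusedSectionVars false

/-!
# An explicit Hermitian form for which the standard nilpotent Jordan matrix is skew-adjoint

On the index type `(k : Fin t) × Fin (d k)`, the matrix `Z0` is anti-diagonal within each block
with entries `(-1)^a c_m` (`c_m = 1` for odd `m`, `c_m = ε` with `τ ε = - ε` for even `m`).
It is Hermitian, invertible, and `N* Z0 = - Z0 N` for `N = jordanTypeMatrix d K - 1`.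
-/

namespace Cfsg.Agent.Lib.H11.GUCent

open Matrix Cfsg.Agent.Lib.H13.AutPSU Cfsg.Agent.Lib.H11.HermNorm Cfsg.Agent.Lib.H11.GLCent
  Cfsg.Agent.Lib.H11.Jordan

variable {K : Type*} [Field K] {q : ℕ} (D : UF K q) {t : ℕ} (d : Fin t → ℕ)

/-- reversal within a block -/
def rev (y : (k : Fin t) × Fin (d k)) : (k : Fin t) × Fin (d k) :=
  ⟨y.1, ⟨d y.1 - 1 - (y.2 : ℕ), by have := y.2.2; omega⟩⟩

theorem rev_fst (y : (k : Fin t) × Fin (d k)) : (rev d y).1 = y.1 := rfl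

theorem rev_snd (y : (k : Fin t) × Fin (d k)) : ((rev d y).2 : ℕ) = d y.1 - 1 - (y.2 : ℕ) := rfl

theorem rev_rev (y : (k : Fin t) × Fin (d k)) : rev d (rev d y) = y := by
  refine sigma_fin_ext ?_ ?_
  · rfl
  · change d y.1 - 1 - (d y.1 - 1 - (y.2 : ℕ)) = (y.2 : ℕ)
    have := y.2.2
    omega

theorem eq_rev_iff (y x : (k : Fin t) × Fin (d k)) : x = rev d y ↔ y = rev d x := by
  constructor
  · rintro rfl
    exact (rev_rev d y).symm
  · rintro rfl
    exact (rev_rev d x).symm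

/-- the constant of a block of size `m` -/
def cst (ε : K) (m : ℕ) : K := if Even m then ε else 1

/-- the nonzero entries of `Z0` -/
def zc (ε : K) (y : (k : Fin t) × Fin (d k)) : K := (-1) ^ (y.2 : ℕ) * cst ε (d y.1)

variable {ε : K} (hε : D.τ ε = -ε) (hε0 : ε ≠ 0)

include hε0 in
theorem cst_ne_zero (m : ℕ) : cst ε m ≠ 0 := by
  unfold cst
  split_ifs
  · exact hε0
  · exact one_ne_zero

include hε0 in
theorem zc_ne_zero (y : (k : Fin t) × Fin (d k)) : zc d ε y ≠ 0 := by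
  unfold zc
  exact mul_ne_zero (pow_ne_zero _ (neg_ne_zero.mpr one_ne_zero)) (cst_ne_zero hε0 _)

include hε in
theorem tau_zc (y : (k : Fin t) × Fin (d k)) : D.τ (zc d ε y) = zc d ε (rev d y) := by
  unfold zc
  rw [map_mul, map_pow, map_neg, map_one]
  change (-1) ^ (y.2 : ℕ) * D.τ (cst ε (d y.1)) =
    (-1) ^ (d y.1 - 1 - (y.2 : ℕ)) * cst ε (d y.1)
  have hy := y.2.2
  unfold cst
  by_cases hm : Even (d y.1)
  · rw [if_pos hm, hε]
    have h1 : Odd (d y.1 - 1) := by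
      obtain ⟨r, hr⟩ := hm
      exact ⟨r - 1, by omega⟩
    have h2 : (-1 : K) ^ (d y.1 - 1 - (y.2 : ℕ)) = -(-1) ^ (y.2 : ℕ) := by
      have h3 : (-1 : K) ^ (d y.1 - 1 - (y.2 : ℕ)) * (-1) ^ (y.2 : ℕ) = -1 := by
        rw [← pow_add, Nat.sub_add_cancel (by omega)]
        exact h1.neg_one_pow
      have h4 : (-1 : K) ^ (y.2 : ℕ) * (-1) ^ (y.2 : ℕ) = 1 := by
        rw [← pow_add, ← two_mul, pow_mul]
        simp
      have h5 : (-1 : K) ^ (d y.1 - 1 - (y.2 : ℕ)) =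
          (-1 : K) ^ (d y.1 - 1 - (y.2 : ℕ)) * ((-1) ^ (y.2 : ℕ) * (-1) ^ (y.2 : ℕ)) := by
        rw [h4, mul_one]
      rw [h5, ← mul_assoc, h3]
      ring
    rw [h2]
    ring
  · rw [if_neg hm, map_one]
    have h1 : Even (d y.1 - 1) := by
      rw [Nat.not_even_iff_odd] at hm
      obtain ⟨r, hr⟩ := hm
      exact ⟨r, by omega⟩
    have h2 : (-1 : K) ^ (d y.1 - 1 - (y.2 : ℕ)) = (-1) ^ (y.2 : ℕ) := by
      have h3 : (-1 : K) ^ (d y.1 - 1 - (y.2 : ℕ)) * (-1) ^ (y.2 : ℕ) = 1 := by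
        rw [← pow_add, Nat.sub_add_cancel (by omega)]
        exact h1.neg_one_pow
      have h4 : (-1 : K) ^ (y.2 : ℕ) * (-1) ^ (y.2 : ℕ) = 1 := by
        rw [← pow_add, ← two_mul, pow_mul]
        simp
      have h5 : (-1 : K) ^ (d y.1 - 1 - (y.2 : ℕ)) =
          (-1 : K) ^ (d y.1 - 1 - (y.2 : ℕ)) * ((-1) ^ (y.2 : ℕ) * (-1) ^ (y.2 : ℕ)) := by
        rw [h4, mul_one]
      rw [h5, ← mul_assoc, h3, one_mul]
    rw [h2]

/-- the Hermitian form -/
def Z0 (ε : K) : Matrix ((k : Fin t) × Fin (d k)) ((k : Fin t) × Fin (d k)) K :=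
  fun y x => if x = rev d y then zc d ε y else 0

/-- its inverse -/
def Z0i (ε : K) : Matrix ((k : Fin t) × Fin (d k)) ((k : Fin t) × Fin (d k)) K :=
  fun y x => if x = rev d y then (zc d ε x)⁻¹ else 0

theorem Z0_mul_apply (X : Matrix ((k : Fin t) × Fin (d k)) ((k : Fin t) × Fin (d k)) K)
    (y x : (k : Fin t) × Fin (d k)) : (Z0 d ε * X) y x = zc d ε y * X (rev d y) x := by
  rw [Matrix.mul_apply, Finset.sum_eq_single (rev d y)]
  · unfold Z0
    rw [if_pos rfl]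
  · intro z _ hz
    unfold Z0
    rw [if_neg hz, zero_mul]
  · intro h
    exact absurd (Finset.mem_univ _) h

theorem mul_Z0_apply (X : Matrix ((k : Fin t) × Fin (d k)) ((k : Fin t) × Fin (d k)) K)
    (y x : (k : Fin t) × Fin (d k)) :
    (X * Z0 d ε) y x = X y (rev d x) * zc d ε (rev d x) := by
  rw [Matrix.mul_apply, Finset.sum_eq_single (rev d x)]
  · unfold Z0
    rw [if_pos (rev_rev d x).symm]
  · intro z _ hz
    unfold Z0
    rw [if_neg, mul_zero]
    intro h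
    exact hz ((eq_rev_iff d z x).mp h)
  · intro h
    exact absurd (Finset.mem_univ _) h

include hε in
theorem ct_Z0 : ct D (Z0 d ε) = Z0 d ε := by
  ext y x
  rw [ct_apply]
  unfold Z0
  by_cases h : x = rev d y
  · rw [if_pos h, if_pos ((eq_rev_iff d y x).mp h), tau_zc D d hε, h, rev_rev]
  · rw [if_neg h, if_neg (fun h' => h ((eq_rev_iff d x y).mp h')), map_zero]

include hε0 in
theorem Z0_mul_Z0i : Z0 d ε * Z0i d ε = 1 := by
  ext y x
  rw [Z0_mul_apply, Matrix.one_apply]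
  unfold Z0i
  rw [rev_rev]
  by_cases h : y = x
  · subst h
    rw [if_pos rfl, if_pos rfl, mul_inv_cancel₀ (zc_ne_zero d hε0 _)]
  · rw [if_neg h, if_neg (fun h' => h h'.symm), mul_zero]

/-- entries of the nilpotent part -/
theorem nil_apply (y x : (k : Fin t) × Fin (d k)) :
    (Cfsg.jordanTypeMatrix d K - 1) y x =
      if y.1 = x.1 ∧ (y.2 : ℕ) = (x.2 : ℕ) + 1 then 1 else 0 := by
  have := jordan_sub_one_pow_apply (K := K) d 1 y x
  rw [pow_one] at this
  exact this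

theorem ct_nil : ct D (Cfsg.jordanTypeMatrix d K - 1) = (Cfsg.jordanTypeMatrix d K - 1)ᵀ := by
  ext y x
  rw [ct_apply, Matrix.transpose_apply, nil_apply]
  split_ifs
  · exact map_one _
  · exact map_zero _

/-- the nilpotent part is skew-adjoint for `Z0` -/
theorem skew_Z0 : ct D (Cfsg.jordanTypeMatrix d K - 1) * Z0 d ε =
    -(Z0 d ε * (Cfsg.jordanTypeMatrix d K - 1)) := by
  ext y x
  rw [ct_nil, mul_Z0_apply, Matrix.neg_apply, Z0_mul_apply, Matrix.transpose_apply, nil_apply,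
    nil_apply]
  change (if x.1 = y.1 ∧ d x.1 - 1 - (x.2 : ℕ) = (y.2 : ℕ) + 1 then 1 else 0) *
    zc d ε (rev d x) =
    -(zc d ε y * if y.1 = x.1 ∧ d y.1 - 1 - (y.2 : ℕ) = (x.2 : ℕ) + 1 then 1 else 0)
  have hy := y.2.2
  have hx := x.2.2
  by_cases h1 : x.1 = y.1
  · have hd : d x.1 = d y.1 := congrArg d h1
    by_cases h2 : d x.1 - 1 - (x.2 : ℕ) = (y.2 : ℕ) + 1
    · rw [if_pos ⟨h1, h2⟩, if_pos ⟨h1.symm, by omega⟩, one_mul, mul_one]
      unfold zc
      change (-1) ^ (d x.1 - 1 - (x.2 : ℕ)) * cst ε (d x.1) =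
        -((-1) ^ (y.2 : ℕ) * cst ε (d y.1))
      rw [h2, hd, pow_succ]
      ring
    · rw [if_neg (fun h => h2 h.2), if_neg (fun h => h2 (by omega)), zero_mul, mul_zero, neg_zero]
  · rw [if_neg (fun h => h1 h.1), if_neg (fun h => h1 h.1.symm), zero_mul, mul_zero, neg_zero]

end Cfsg.Agent.Lib.H11.GUCent
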