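import Mathlib
import Cfsg.Agent.Lib.H11.GUCent4
import Cfsg.Agent.Lib.H11.Jordan8

set_option autoImplicit false
set_option linter.unusedSectionVars false

/-!
# The centraliser of a unipotent element of `GU_n(q)` and the commutant model

For `u ∈ GU_n(q)` similar to the Jordan matrix of type `d`, the centraliser of `u` in `GU_n(q)` has
as many elements as the set of matrices commuting with `N = jordanTypeMatrix d K - 1` and
preserving the Hermitian form `Z0`.
-/

namespace Cfsg.Agent.Lib.H11.GUCent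

open Matrix Cfsg.Agent.Lib.H13.AutPSU Cfsg.Agent.Lib.H11.HermNorm Cfsg.Agent.Lib.H11.GLCent
  Cfsg.Agent.Lib.H11.Jordan

/-- conjugate elements have centralisers of the same order -/
theorem card_centralizer_of_isConj {G : Type*} [Group G] {a b : G} (h : IsConj a b) :
    Nat.card ↥(Subgroup.centralizer ({a} : Set G)) = Nat.card ↥(Subgroup.centralizer ({b} : Set G)) := by
  obtain ⟨c, hc⟩ := isConj_iff.mp h
  subst hc
  apply Nat.card_congr
  refine
    { toFun := fun x => ⟨c * x.1 * c⁻¹, ?_⟩
      invFun := fun x => ⟨c⁻¹ * x.1 * c, ?_⟩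
      left_inv := fun x => ?_
      right_inv := fun x => ?_ }
  · have hx := Subgroup.mem_centralizer_singleton_iff.mp x.2
    rw [Subgroup.mem_centralizer_singleton_iff]
    calc c * x.1 * c⁻¹ * (c * a * c⁻¹) = c * (x.1 * a) * c⁻¹ := by group
      _ = c * (a * x.1) * c⁻¹ := by rw [hx]
      _ = c * a * c⁻¹ * (c * x.1 * c⁻¹) := by group
  · have hx := Subgroup.mem_centralizer_singleton_iff.mp x.2
    rw [Subgroup.mem_centralizer_singleton_iff]
    calc c⁻¹ * x.1 * c * a = c⁻¹ * (x.1 * (c * a * c⁻¹)) * c := by group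
      _ = c⁻¹ * ((c * a * c⁻¹) * x.1) * c := by rw [hx]
      _ = a * (c⁻¹ * x.1 * c) := by group
  · apply Subtype.ext
    change c⁻¹ * (c * x.1 * c⁻¹) * c = x.1
    group
  · apply Subtype.ext
    change c * (c⁻¹ * x.1 * c) * c⁻¹ = x.1
    group

variable {K : Type*} [Field K] {q : ℕ} (D : UF K q)

/-- the centraliser of a unitary matrix in `GU`, at the level of matrices -/
def centMatEquiv {n : ℕ} (g : ↥(Cfsg.GU n K q)) :
    ↥(Subgroup.centralizer ({g} : Set ↥(Cfsg.GU n K q))) ≃
      {h : Matrix (Fin n) (Fin n) K //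
        h * ((g : GL (Fin n) K) : Matrix (Fin n) (Fin n) K) =
          ((g : GL (Fin n) K) : Matrix (Fin n) (Fin n) K) * h ∧ ct D h * h = 1} where
  toFun x := ⟨((x.1 : GL (Fin n) K) : Matrix (Fin n) (Fin n) K), by
    have hx := Subgroup.mem_centralizer_singleton_iff.mp x.2
    have := congrArg (fun y : ↥(Cfsg.GU n K q) => ((y : GL (Fin n) K) : Matrix (Fin n) (Fin n) K)) hx
    exact this, (mem_GU_iff_ct (D := D) _).mp x.1.2⟩
  invFun h := ⟨⟨⟨h.1, ct D h.1, mul_eq_one_comm.mp h.2.2, h.2.2⟩,
      (mem_GU_iff_ct (D := D) _).mpr h.2.2⟩, by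
    rw [Subgroup.mem_centralizer_singleton_iff]
    apply Subtype.ext
    apply Units.ext
    exact h.2.1⟩
  left_inv x := by
    apply Subtype.ext
    apply Subtype.ext
    apply Units.ext
    rfl
  right_inv h := by
    apply Subtype.ext
    rfl

variable {t : ℕ} (d : Fin t → ℕ) (hd : ∀ k, 1 ≤ d k)

theorem nil_isNilpotent : IsNilpotent (Cfsg.jordanTypeMatrix d K - 1) :=
  ⟨_, (rankType_jordanTypeMatrix (K := K) d).pow_eq_zero⟩

include hd in
/-- the Cayley transform of the Jordan nilpotent is similar to the Jordan matrix -/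
theorem cay_isConj (c : Cay D (Cfsg.jordanTypeMatrix d K - 1)) :
    IsConj (Cfsg.jordanTypeMatrix d K) c.u := by
  classical
  have h1 : RankType c.u (Multiset.map d Finset.univ.val) := by
    intro i
    rw [c.rank_u_sub_one_pow]
    exact rankType_jordanTypeMatrix (K := K) d i
  refine (rankType_jordanTypeMatrix (K := K) d).isConj h1 ?_
  intro a ha
  obtain ⟨k, -, rfl⟩ := Multiset.mem_map.mp ha
  exact hd k

end Cfsg.Agent.Lib.H11.GUCent
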