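import Mathlib
import Cfsg.Agent.Lib.H11.GUCent10

set_option autoImplicit false
set_option linter.unusedSectionVars false

/-!
# The centraliser of a unipotent element of `GU_n(q)`: reduction to the commutant model
-/

namespace Cfsg.Agent.Lib.H11.GUCent

open Matrix Cfsg.Agent.Lib.H13.AutPSU Cfsg.Agent.Lib.H11.HermNorm Cfsg.Agent.Lib.H11.GLCent
  Cfsg.Agent.Lib.H11.Jordan

variable {K : Type*} [Field K] {q : ℕ} (D : UF K q) {t : ℕ} (d : Fin t → ℕ) (hd : ∀ k, 1 ≤ d k)
variable {ε : K} (hε : D.τ ε = -ε) (hε0 : ε ≠ 0)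

theorem model_fwd {n : ℕ} (e : ((k : Fin t) × Fin (d k)) ≃ Fin n)
    (c : Cay D (Cfsg.jordanTypeMatrix d K - 1))
    (C Ci : Matrix ((k : Fin t) × Fin (d k)) ((k : Fin t) × Fin (d k)) K)
    (hC1 : C * Ci = 1) (hC2 : Ci * C = 1) (hC3 : ct D C * C = Z0 d ε)
    (h : Matrix (Fin n) (Fin n) K)
    (hh1 : h * Matrix.reindex e e (C * c.u * Ci) = Matrix.reindex e e (C * c.u * Ci) * h)
    (hh2 : ct D h * h = 1) :
    (Ci * Matrix.reindex e.symm e.symm h * C) * (Cfsg.jordanTypeMatrix d K - 1) =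
      (Cfsg.jordanTypeMatrix d K - 1) * (Ci * Matrix.reindex e.symm e.symm h * C) ∧
    ct D (Ci * Matrix.reindex e.symm e.symm h * C) * Z0 d ε *
      (Ci * Matrix.reindex e.symm e.symm h * C) = Z0 d ε := by
  obtain ⟨h', hh'⟩ : ∃ h', h' = Matrix.reindex e.symm e.symm h := ⟨_, rfl⟩
  rw [← hh']
  have h1 : h' * (C * c.u * Ci) = (C * c.u * Ci) * h' := by
    obtain ⟨u1, hu1⟩ : ∃ u1, u1 = C * c.u * Ci := ⟨_, rfl⟩
    rw [← hu1] at hh1 ⊢
    have := congrArg (Matrix.reindex e.symm e.symm) hh1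
    rw [reindex_mul', reindex_mul', reindex_symm_reindex, ← hh'] at this
    exact this
  have h2 : ct D h' * h' = 1 := by
    rw [hh', ct_reindex, ← reindex_mul', hh2, reindex_one']
  have h3 : ct D Ci * ct D C = 1 := by rw [← ct_mul, hC1, ct_one]
  constructor
  · apply c.commute_N
    calc Ci * h' * C * c.u = Ci * h' * (C * c.u * (Ci * C)) := by
          rw [hC2, Matrix.mul_one]; simp only [Matrix.mul_assoc]
      _ = Ci * (h' * (C * c.u * Ci)) * C := by simp only [Matrix.mul_assoc]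
      _ = Ci * ((C * c.u * Ci) * h') * C := by rw [h1]
      _ = (Ci * C) * c.u * (Ci * h' * C) := by simp only [Matrix.mul_assoc]
      _ = c.u * (Ci * h' * C) := by rw [hC2, Matrix.one_mul]
  · calc ct D (Ci * h' * C) * Z0 d ε * (Ci * h' * C)
        = ct D C * (ct D h' * ((ct D Ci * ct D C) * (C * Ci)) * h') * C := by
          rw [ct_mul, ct_mul, ← hC3]; simp only [Matrix.mul_assoc]
      _ = ct D C * (ct D h' * h') * C := by
          rw [h3, hC1, Matrix.mul_one, Matrix.mul_one]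
      _ = Z0 d ε := by rw [h2, Matrix.mul_one, hC3]

theorem model_bwd {n : ℕ} (e : ((k : Fin t) × Fin (d k)) ≃ Fin n)
    (c : Cay D (Cfsg.jordanTypeMatrix d K - 1))
    (C Ci : Matrix ((k : Fin t) × Fin (d k)) ((k : Fin t) × Fin (d k)) K)
    (hC1 : C * Ci = 1) (hC2 : Ci * C = 1) (hC3 : ct D C * C = Z0 d ε)
    (g : Matrix ((k : Fin t) × Fin (d k)) ((k : Fin t) × Fin (d k)) K)
    (hg1 : g * (Cfsg.jordanTypeMatrix d K - 1) = (Cfsg.jordanTypeMatrix d K - 1) * g)
    (hg2 : ct D g * Z0 d ε * g = Z0 d ε) :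
    Matrix.reindex e e (C * g * Ci) * Matrix.reindex e e (C * c.u * Ci) =
      Matrix.reindex e e (C * c.u * Ci) * Matrix.reindex e e (C * g * Ci) ∧
    ct D (Matrix.reindex e e (C * g * Ci)) * Matrix.reindex e e (C * g * Ci) = 1 := by
  have hgu := c.commute_u hg1
  have h3 : ct D Ci * ct D C = 1 := by rw [← ct_mul, hC1, ct_one]
  constructor
  · rw [← reindex_mul', ← reindex_mul']
    congr 1
    calc C * g * Ci * (C * c.u * Ci) = C * g * (Ci * C) * c.u * Ci := by
          simp only [Matrix.mul_assoc]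
      _ = C * (g * c.u) * Ci := by rw [hC2, Matrix.mul_one]; simp only [Matrix.mul_assoc]
      _ = C * (c.u * g) * Ci := by rw [hgu]
      _ = C * c.u * (Ci * C) * g * Ci := by rw [hC2, Matrix.mul_one]; simp only [Matrix.mul_assoc]
      _ = C * c.u * Ci * (C * g * Ci) := by simp only [Matrix.mul_assoc]
  · rw [ct_reindex, ← reindex_mul']
    have : ct D (C * g * Ci) * (C * g * Ci) = 1 := by
      calc ct D (C * g * Ci) * (C * g * Ci)
          = ct D Ci * (ct D g * (ct D C * C) * g) * Ci := by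
            rw [ct_mul, ct_mul]; simp only [Matrix.mul_assoc]
        _ = ct D Ci * (ct D C * C) * Ci := by rw [hC3, hg2]
        _ = (ct D Ci * ct D C) * (C * Ci) := by simp only [Matrix.mul_assoc]
        _ = 1 := by rw [h3, hC1, Matrix.mul_one]
    rw [this, reindex_one']

/-- transport of the centraliser along a change of basis `C` and a reindexing `e` -/
def modelEquiv {n : ℕ} (e : ((k : Fin t) × Fin (d k)) ≃ Fin n)
    (c : Cay D (Cfsg.jordanTypeMatrix d K - 1))
    (C Ci : Matrix ((k : Fin t) × Fin (d k)) ((k : Fin t) × Fin (d k)) K)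
    (hC1 : C * Ci = 1) (hC2 : Ci * C = 1) (hC3 : ct D C * C = Z0 d ε) :
    {h : Matrix (Fin n) (Fin n) K //
      h * Matrix.reindex e e (C * c.u * Ci) = Matrix.reindex e e (C * c.u * Ci) * h ∧
        ct D h * h = 1} ≃
    {g : Matrix ((k : Fin t) × Fin (d k)) ((k : Fin t) × Fin (d k)) K //
      g * (Cfsg.jordanTypeMatrix d K - 1) = (Cfsg.jordanTypeMatrix d K - 1) * g ∧
        ct D g * Z0 d ε * g = Z0 d ε} where
  toFun h := ⟨Ci * Matrix.reindex e.symm e.symm h.1 * C,
    model_fwd D d e c C Ci hC1 hC2 hC3 h.1 h.2.1 h.2.2⟩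
  invFun g := ⟨Matrix.reindex e e (C * g.1 * Ci),
    model_bwd D d e c C Ci hC1 hC2 hC3 g.1 g.2.1 g.2.2⟩
  left_inv h := by
    apply Subtype.ext
    change Matrix.reindex e e (C * (Ci * Matrix.reindex e.symm e.symm h.1 * C) * Ci) = h.1
    have : C * (Ci * Matrix.reindex e.symm e.symm h.1 * C) * Ci =
        Matrix.reindex e.symm e.symm h.1 := by
      calc C * (Ci * Matrix.reindex e.symm e.symm h.1 * C) * Ci
          = (C * Ci) * Matrix.reindex e.symm e.symm h.1 * (C * Ci) := by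
            simp only [Matrix.mul_assoc]
        _ = Matrix.reindex e.symm e.symm h.1 := by rw [hC1, Matrix.one_mul, Matrix.mul_one]
    rw [this, reindex_reindex_symm]
  right_inv g := by
    apply Subtype.ext
    change Ci * Matrix.reindex e.symm e.symm (Matrix.reindex e e (C * g.1 * Ci)) * C = g.1
    rw [reindex_symm_reindex]
    calc Ci * (C * g.1 * Ci) * C = (Ci * C) * g.1 * (Ci * C) := by simp only [Matrix.mul_assoc]
      _ = g.1 := by rw [hC2, Matrix.one_mul, Matrix.mul_one]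

include hd hε hε0 in
/-- the centraliser of a unipotent element of type `d` in `GU_n(q)` has the order of the model -/
theorem card_centralizer_GU [Fintype K] (hK : Fintype.card K = q ^ 2) {n : ℕ}
    (e : ((k : Fin t) × Fin (d k)) ≃ Fin n) (u : ↥(Cfsg.GU n K q))
    (hu : IsConj (Matrix.reindex e e (Cfsg.jordanTypeMatrix d K))
      ((u : GL (Fin n) K) : Matrix (Fin n) (Fin n) K)) :
    Nat.card ↥(Subgroup.centralizer ({u} : Set ↥(Cfsg.GU n K q))) =
      Nat.card {g : Matrix ((k : Fin t) × Fin (d k)) ((k : Fin t) × Fin (d k)) K //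
        g * (Cfsg.jordanTypeMatrix d K - 1) = (Cfsg.jordanTypeMatrix d K - 1) * g ∧
          ct D g * Z0 d ε * g = Z0 d ε} := by
  classical
  obtain ⟨c⟩ := exists_cay D (Cfsg.jordanTypeMatrix d K - 1) (nil_isNilpotent d)
  obtain ⟨C, Ci, hC1, hC2, hC3⟩ := exists_norm' D (Z0 d ε) (Z0i d ε) (ct_Z0 D d hε)
    (Z0_mul_Z0i d hε0)
  have hiso := c.isometry_u (skew_Z0 (ε := ε) D d)
  have h3 : ct D Ci * ct D C = 1 := by rw [← ct_mul, hC1, ct_one]
  have hu1 : ct D (C * c.u * Ci) * (C * c.u * Ci) = 1 := by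
    calc ct D (C * c.u * Ci) * (C * c.u * Ci)
        = ct D Ci * (ct D c.u * (ct D C * C) * c.u) * Ci := by
          rw [ct_mul, ct_mul]; simp only [Matrix.mul_assoc]
      _ = ct D Ci * (ct D C * C) * Ci := by rw [hC3, hiso]
      _ = (ct D Ci * ct D C) * (C * Ci) := by simp only [Matrix.mul_assoc]
      _ = 1 := by rw [h3, hC1, Matrix.mul_one]
  have hu1' : ct D (Matrix.reindex e e (C * c.u * Ci)) * Matrix.reindex e e (C * c.u * Ci) = 1 := by
    rw [ct_reindex, ← reindex_mul', hu1, reindex_one']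
  let g1GL : GL (Fin n) K := ⟨Matrix.reindex e e (C * c.u * Ci),
    ct D (Matrix.reindex e e (C * c.u * Ci)), mul_eq_one_comm.mp hu1', hu1'⟩
  let g1 : ↥(Cfsg.GU n K q) := ⟨g1GL, (mem_GU_iff_ct (D := D) g1GL).mpr hu1'⟩
  -- `g1` is conjugate to `u` in `GL`
  have hJ := cay_isConj D d hd c
  have hb : IsConj c.u (C * c.u * Ci) := by
    refine ⟨⟨C, Ci, hC1, hC2⟩, ?_⟩
    change C * c.u = C * c.u * Ci * C
    rw [Matrix.mul_assoc (C * c.u), hC2, Matrix.mul_one]
  have hc := (Matrix.reindexAlgEquiv K K e).toMonoidHom.map_isConj (hJ.trans hb)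
  have hd' : IsConj (Matrix.reindex e e (C * c.u * Ci))
      ((u : GL (Fin n) K) : Matrix (Fin n) (Fin n) K) := by
    have hc' : IsConj (Matrix.reindex e e (Cfsg.jordanTypeMatrix d K))
        (Matrix.reindex e e (C * c.u * Ci)) := hc
    exact hc'.symm.trans hu
  have hGL : IsConj (g1 : GL (Fin n) K) (u : GL (Fin n) K) := by
    obtain ⟨P, hP⟩ := hd'
    refine isConj_iff.mpr ⟨P, ?_⟩
    rw [mul_inv_eq_iff_eq_mul]
    apply Units.ext
    exact hP
  have hGU := isConj_GU_of_isConj_GL hK g1 u hGL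
  rw [← card_centralizer_of_isConj hGU, Nat.card_congr (centMatEquiv D g1)]
  exact Nat.card_congr (modelEquiv D d e c C Ci hC1 hC2 hC3)

end Cfsg.Agent.Lib.H11.GUCent
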