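import Mathlib
import Cfsg.Agent.Lib.H13.AutPSU1

set_option autoImplicit false
set_option linter.unusedSectionVars false

/-!
# Fixed points of semilinear involutions

Let `τ` be the involution of the field `K` and `φ` a `τ`-semilinear involution of a finite
`K`-module `V`.  Then `|Fix φ|² = |V|` (`card_fixed_sq`), and for an equivariant surjective linear
map `π : V → V'` and a set `T` of `φ'`-fixed points of `V'`, the number of `φ`-fixed points of `V`
over `T` is `|Fix (φ | ker π)| · |T|` (`card_fixed_fiber`, in squared form).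
-/

namespace Cfsg.Agent.Lib.H11.GUCent

open Cfsg.Agent.Lib.H13.AutPSU

variable {K : Type*} [Field K] {q : ℕ} (D : UF K q)

/-- Galois descent by counting: `|Fix φ|² = |V|` -/
theorem card_fixed_sq {V : Type*} [AddCommGroup V] [Module K V] [Finite V] (φ : V →+ V)
    (hφ : ∀ (c : K) (v : V), φ (c • v) = D.τ c • φ v) (hφ2 : ∀ v, φ (φ v) = v) :
    Nat.card {v : V // φ v = v} ^ 2 = Nat.card V := by
  obtain ⟨ω, hω⟩ := D.hne
  have hδ : ω - D.τ ω ≠ 0 := sub_ne_zero.mpr (Ne.symm hω)
  have hτδ : D.τ (ω - D.τ ω)⁻¹ = -(ω - D.τ ω)⁻¹ := by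
    rw [map_inv₀, map_sub, D.hτ2, ← neg_sub, neg_inv]
  have key : ∀ v : V, φ ((ω - D.τ ω)⁻¹ • (v - φ v)) = (ω - D.τ ω)⁻¹ • (v - φ v) := by
    intro v
    rw [hφ, hτδ, map_sub, hφ2, neg_smul, ← smul_neg, neg_sub]
  have key2 : ∀ v : V, φ (v - ω • ((ω - D.τ ω)⁻¹ • (v - φ v))) =
      v - ω • ((ω - D.τ ω)⁻¹ • (v - φ v)) := by
    intro v
    have h1 : (ω - D.τ ω) • ((ω - D.τ ω)⁻¹ • (v - φ v)) = v - φ v := by
      rw [smul_smul, mul_inv_cancel₀ hδ, one_smul]
    have hk := key v
    generalize (ω - D.τ ω)⁻¹ • (v - φ v) = y at h1 hk ⊢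
    rw [map_sub, hφ, hk]
    rw [sub_smul] at h1
    have h2 : φ v = v - (ω • y - D.τ ω • y) := by rw [h1]; abel
    rw [h2]
    abel
  let E : ({v : V // φ v = v} × {v : V // φ v = v}) ≃ V :=
    { toFun := fun z => z.1.1 + ω • z.2.1
      invFun := fun v => (⟨v - ω • ((ω - D.τ ω)⁻¹ • (v - φ v)), key2 v⟩,
        ⟨(ω - D.τ ω)⁻¹ • (v - φ v), key v⟩)
      left_inv := by
        rintro ⟨⟨x, hx⟩, ⟨y, hy⟩⟩
        have h1 : x + ω • y - φ (x + ω • y) = (ω - D.τ ω) • y := by
          rw [map_add, hφ, hx, hy, sub_smul]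
          abel
        have h2 : (ω - D.τ ω)⁻¹ • (x + ω • y - φ (x + ω • y)) = y := by
          rw [h1, smul_smul, inv_mul_cancel₀ hδ, one_smul]
        apply Prod.ext
        · apply Subtype.ext
          change x + ω • y - ω • ((ω - D.τ ω)⁻¹ • (x + ω • y - φ (x + ω • y))) = x
          rw [h2]
          abel
        · apply Subtype.ext
          exact h2
      right_inv := by
        intro v
        change v - ω • ((ω - D.τ ω)⁻¹ • (v - φ v)) + ω • ((ω - D.τ ω)⁻¹ • (v - φ v)) = v
        abel }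
  rw [← Nat.card_congr E, Nat.card_prod, pow_two]

/-- counting fixed points over a set of fixed points of the quotient -/
theorem card_fixed_fiber {V V' : Type*} [AddCommGroup V] [Module K V] [Finite V]
    [AddCommGroup V'] [Module K V'] (φ : V →+ V) (φ' : V' →+ V')
    (hφ : ∀ (c : K) (v : V), φ (c • v) = D.τ c • φ v) (hφ2 : ∀ v, φ (φ v) = v)
    (hφ' : ∀ (c : K) (v : V'), φ' (c • v) = D.τ c • φ' v)
    (π : V →ₗ[K] V') (hπ : Function.Surjective π) (hπφ : ∀ v, π (φ v) = φ' (π v))
    (T : Set V') (hT : ∀ t ∈ T, φ' t = t) :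
    Nat.card {v : V // φ v = v ∧ π v ∈ T} ^ 2 =
      Nat.card (LinearMap.ker π) * Nat.card T ^ 2 := by
  classical
  -- the restriction of `φ` to the kernel
  have hker : ∀ v ∈ LinearMap.ker π, φ v ∈ LinearMap.ker π := by
    intro v hv
    rw [LinearMap.mem_ker] at hv ⊢
    rw [hπφ, hv, map_zero]
  let φk : LinearMap.ker π →+ LinearMap.ker π :=
    { toFun := fun v => ⟨φ v.1, hker v.1 v.2⟩
      map_zero' := by
        apply Subtype.ext
        exact map_zero φ
      map_add' := fun a b => by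
        apply Subtype.ext
        exact map_add φ a.1 b.1 }
  have h1 : Nat.card {v : LinearMap.ker π // φk v = v} ^ 2 = Nat.card (LinearMap.ker π) := by
    apply card_fixed_sq D φk
    · intro c v
      apply Subtype.ext
      exact hφ c v.1
    · intro v
      apply Subtype.ext
      exact hφ2 v.1
  -- a section over the fixed points
  obtain ⟨a, ha⟩ := D.tr_surj 1 (map_one _)
  have hsec : ∀ t : T, ∃ v : V, φ v = v ∧ π v = t.1 := by
    intro t
    obtain ⟨v, hv⟩ := hπ t.1
    refine ⟨a • v + φ (a • v), ?_, ?_⟩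
    · rw [map_add, hφ2, add_comm]
    · rw [map_add, hπφ, map_smul, hv, hφ', hT t.1 t.2, ← add_smul, ha, one_smul]
  choose s hs1 hs2 using hsec
  let E : {v : V // φ v = v ∧ π v ∈ T} ≃ T × {v : LinearMap.ker π // φk v = v} :=
    { toFun := fun v => (⟨π v.1, v.2.2⟩, ⟨⟨v.1 - s ⟨π v.1, v.2.2⟩, by
          rw [LinearMap.mem_ker, map_sub, hs2, sub_self]⟩, by
          obtain ⟨v, hv1, hv2⟩ := v
          apply Subtype.ext
          change φ (v - s ⟨π v, hv2⟩) = v - s ⟨π v, hv2⟩
          rw [map_sub, hv1, hs1]⟩)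
      invFun := fun z => ⟨s z.1 + z.2.1.1, by
          have := congrArg Subtype.val z.2.2
          change φ z.2.1.1 = z.2.1.1 at this
          rw [map_add, hs1, this], by
          have := z.2.1.2
          rw [LinearMap.mem_ker] at this
          rw [map_add, hs2, this, add_zero]
          exact z.1.2⟩
      left_inv := by
        rintro ⟨v, hv1, hv2⟩
        apply Subtype.ext
        change s ⟨π v, hv2⟩ + (v - s ⟨π v, hv2⟩) = v
        abel
      right_inv := by
        rintro ⟨⟨t, ht⟩, ⟨⟨w, hw⟩, hw2⟩⟩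
        have hπw : π w = 0 := hw
        have e1 : π (s ⟨t, ht⟩ + w) = t := by
          rw [map_add, hs2, hπw, add_zero]
        apply Prod.ext
        · apply Subtype.ext
          exact e1
        · apply Subtype.ext
          apply Subtype.ext
          change s ⟨t, ht⟩ + w - s ⟨π (s ⟨t, ht⟩ + w), _⟩ = w
          have e2 : (⟨π (s ⟨t, ht⟩ + w), by rw [e1]; exact ht⟩ : T) = ⟨t, ht⟩ :=
            Subtype.ext e1
          rw [e2]
          abel }
  rw [Nat.card_congr E, Nat.card_prod, mul_pow, h1, mul_comm]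

end Cfsg.Agent.Lib.H11.GUCent
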