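import Mathlib
import Cfsg.Agent.Lib.H11.GUCent4
import Cfsg.Agent.Lib.H11.GUCent5

set_option autoImplicit false
set_option linter.unusedSectionVars false

/-!
# Counting the invertible Hermitian forms for which the Jordan nilpotent is skew-adjoint
-/

namespace Cfsg.Agent.Lib.H11.GUCent

open Matrix Cfsg.Agent.Lib.H13.AutPSU Cfsg.Agent.Lib.H11.HermNorm Cfsg.Agent.Lib.H11.GLCent
  Cfsg.Agent.Lib.H11.Jordan

variable {K : Type*} [Field K] {q : ℕ} (D : UF K q) {t : ℕ} (d : Fin t → ℕ) (hd : ∀ k, 1 ≤ d k)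

/-- the commutant of the nilpotent part, as a submodule of the matrices -/
def commSub : Submodule K (Matrix ((k : Fin t) × Fin (d k)) ((k : Fin t) × Fin (d k)) K) where
  carrier := {X | X * (Cfsg.jordanTypeMatrix d K - 1) = (Cfsg.jordanTypeMatrix d K - 1) * X}
  add_mem' := by
    intro a b ha hb
    change (a + b) * _ = _ * (a + b)
    rw [Matrix.add_mul, Matrix.mul_add, ha, hb]
  zero_mem' := by
    change (0 : Matrix _ _ K) * _ = _ * 0
    rw [Matrix.zero_mul, Matrix.mul_zero]
  smul_mem' := by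
    intro c a ha
    change (c • a) * _ = _ * (c • a)
    rw [Matrix.smul_mul, Matrix.mul_smul, ha]

theorem mem_commSub (X : Matrix ((k : Fin t) × Fin (d k)) ((k : Fin t) × Fin (d k)) K) :
    X ∈ commSub (K := K) d ↔
      X * (Cfsg.jordanTypeMatrix d K - 1) = (Cfsg.jordanTypeMatrix d K - 1) * X := Iff.rfl

/-- the tuples of diagonal blocks -/
abbrev Blocks (K : Type*) (d : Fin t → ℕ) : Type _ :=
  (i : Fin (Finset.univ.sup d + 1)) →
    Matrix {k : Fin t // d k = (i : ℕ)} {k : Fin t // d k = (i : ℕ)} K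

/-- the diagonal blocks of an element of the commutant -/
def piMap : commSub (K := K) d →ₗ[K] Blocks K d where
  toFun X := fun i => blk d hd (cols d hd X.1) (i : ℕ)
  map_add' _ _ := rfl
  map_smul' _ _ := rfl

theorem piMap_apply (X : commSub (K := K) d) (i : Fin (Finset.univ.sup d + 1))
    (l k : {k : Fin t // d k = (i : ℕ)}) :
    piMap d hd X i l k = X.1 ⟨l.1, ⟨0, hd l.1⟩⟩ ⟨k.1, ⟨0, hd k.1⟩⟩ := rfl

/-- the commutant in coordinates: diagonal blocks and the remaining free entries -/
def fullEquiv : commSub (K := K) d ≃ Blocks K d × (Rest d → K) where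
  toFun X := (piMap d hd X, fun r => cols d hd X.1 r.1.1 r.1.2)
  invFun z := ⟨mk d (ofParts d z.1 z.2), mk_commute d (supp_ofParts d z.1 z.2)⟩
  left_inv X := by
    apply Subtype.ext
    have hX : X.1 * (Cfsg.jordanTypeMatrix d K - 1) = (Cfsg.jordanTypeMatrix d K - 1) * X.1 := X.2
    have hs := supp_of_commute d hd hX
    have h1 : ofParts d (piMap d hd X) (fun r => cols d hd X.1 r.1.1 r.1.2) = cols d hd X.1 := by
      funext k y
      unfold ofParts
      by_cases h1 : (y.2 : ℕ) = 0 ∧ d y.1 = d k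
      · rw [dif_pos h1]
        unfold getA
        change blk d hd (cols d hd X.1) (d k) ⟨y.1, h1.2⟩ ⟨k, rfl⟩ = _
        unfold blk
        exact congrArg (cols d hd X.1 k) (sigma_fin_ext (by rfl) (by exact h1.1.symm))
      · rw [dif_neg h1]
        by_cases h2 : d y.1 ≤ (y.2 : ℕ) + d k
        · rw [dif_pos h2]
        · rw [dif_neg h2]
          exact (hs k y (by omega)).symm
    change mk d (ofParts d (piMap d hd X) (fun r => cols d hd X.1 r.1.1 r.1.2)) = X.1
    rw [h1]
    exact (eq_mk_of_commute d hd hX).symm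
  right_inv z := by
    obtain ⟨A, ρ⟩ := z
    apply Prod.ext
    · funext i
      change blk d hd (cols d hd (mk d (ofParts d A ρ))) (i : ℕ) = A i
      rw [cols_mk, blk_ofParts]
    · funext r
      change cols d hd (mk d (ofParts d A ρ)) r.1.1 r.1.2 = ρ r
      rw [cols_mk]
      unfold ofParts
      rw [dif_neg r.2.2, dif_pos r.2.1]
      rfl

theorem fullEquiv_fst (X : commSub (K := K) d) : (fullEquiv d hd X).1 = piMap d hd X := rfl

theorem piMap_surjective : Function.Surjective (piMap (K := K) d hd) := by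
  intro A
  refine ⟨(fullEquiv d hd).symm (A, 0), ?_⟩
  rw [← fullEquiv_fst, Equiv.apply_symm_apply]

/-- the kernel of the block map -/
def kerEquiv : LinearMap.ker (piMap (K := K) d hd) ≃ (Rest d → K) where
  toFun X := (fullEquiv d hd X.1).2
  invFun ρ := ⟨(fullEquiv d hd).symm (0, ρ), by
    rw [LinearMap.mem_ker, ← fullEquiv_fst, Equiv.apply_symm_apply]⟩
  left_inv X := by
    apply Subtype.ext
    have h1 : piMap d hd X.1 = 0 := X.2
    have h2 : fullEquiv d hd X.1 = (0, (fullEquiv d hd X.1).2) := by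
      apply Prod.ext
      · exact h1
      · rfl
    change (fullEquiv d hd).symm (0, (fullEquiv d hd X.1).2) = X.1
    rw [← h2, Equiv.symm_apply_apply]
  right_inv ρ := by
    change (fullEquiv d hd ((fullEquiv d hd).symm (0, ρ))).2 = ρ
    rw [Equiv.apply_symm_apply]

theorem card_ker_piMap [Fintype K] :
    Nat.card (LinearMap.ker (piMap (K := K) d hd)) = Fintype.card K ^ Fintype.card (Rest d) := by
  rw [Nat.card_congr (kerEquiv d hd), Nat.card_fun, Nat.card_eq_fintype_card,
    Nat.card_eq_fintype_card]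

end Cfsg.Agent.Lib.H11.GUCent
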