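import Mathlib
import Cfsg.Agent.Lib.H11.GUCent6

set_option autoImplicit false
set_option linter.unusedSectionVars false

/-!
# The adjoint involution on the commutant and the count of invariant Hermitian forms
-/

namespace Cfsg.Agent.Lib.H11.GUCent

open Matrix Cfsg.Agent.Lib.H13.AutPSU Cfsg.Agent.Lib.H11.HermNorm Cfsg.Agent.Lib.H11.GLCent
  Cfsg.Agent.Lib.H11.Jordan

variable {K : Type*} [Field K] {q : ℕ} (D : UF K q) {t : ℕ} (d : Fin t → ℕ) (hd : ∀ k, 1 ≤ d k)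
variable {ε : K} (hε : D.τ ε = -ε) (hε0 : ε ≠ 0)

include hε0 in
theorem Z0i_mul_Z0 : Z0i d ε * Z0 d ε = 1 := mul_eq_one_comm.mp (Z0_mul_Z0i d hε0)

include hε hε0 in
theorem ct_Z0i : ct D (Z0i d ε) = Z0i d ε := by
  have h1 : ct D (Z0i d ε) * Z0 d ε = 1 := by
    rw [← ct_Z0 D d hε, ← ct_mul, Z0_mul_Z0i d hε0, ct_one]
  calc ct D (Z0i d ε) = ct D (Z0i d ε) * (Z0 d ε * Z0i d ε) := by
        rw [Z0_mul_Z0i d hε0, Matrix.mul_one]
    _ = (ct D (Z0i d ε) * Z0 d ε) * Z0i d ε := by rw [Matrix.mul_assoc]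
    _ = Z0i d ε := by rw [h1, Matrix.one_mul]

include hε0 in
theorem Z0_mul_nil : Z0 d ε * (Cfsg.jordanTypeMatrix d K - 1) =
    -(ct D (Cfsg.jordanTypeMatrix d K - 1) * Z0 d ε) := by
  rw [skew_Z0, neg_neg]

include hε0 in
theorem Z0i_mul_ct_nil : Z0i d ε * ct D (Cfsg.jordanTypeMatrix d K - 1) =
    -((Cfsg.jordanTypeMatrix d K - 1) * Z0i d ε) := by
  calc Z0i d ε * ct D (Cfsg.jordanTypeMatrix d K - 1)
      = Z0i d ε * (ct D (Cfsg.jordanTypeMatrix d K - 1) * Z0 d ε) * Z0i d ε := by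
        rw [Matrix.mul_assoc, Matrix.mul_assoc, Z0_mul_Z0i d hε0, Matrix.mul_one]
    _ = -((Z0i d ε * Z0 d ε) * (Cfsg.jordanTypeMatrix d K - 1) * Z0i d ε) := by
        rw [skew_Z0]
        simp only [Matrix.mul_neg, Matrix.neg_mul, Matrix.mul_assoc]
    _ = -((Cfsg.jordanTypeMatrix d K - 1) * Z0i d ε) := by
        rw [Z0i_mul_Z0 d hε0, Matrix.one_mul]

/-- the adjoint with respect to `Z0` -/
def adj (X : Matrix ((k : Fin t) × Fin (d k)) ((k : Fin t) × Fin (d k)) K) :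
    Matrix ((k : Fin t) × Fin (d k)) ((k : Fin t) × Fin (d k)) K :=
  Z0i d ε * ct D X * Z0 d ε

include hε0 in
theorem adj_mem {X : Matrix ((k : Fin t) × Fin (d k)) ((k : Fin t) × Fin (d k)) K}
    (hX : X ∈ commSub (K := K) d) : adj D d (ε := ε) X ∈ commSub (K := K) d := by
  rw [mem_commSub] at hX ⊢
  unfold adj
  have h1 : ct D X * ct D (Cfsg.jordanTypeMatrix d K - 1) =
      ct D (Cfsg.jordanTypeMatrix d K - 1) * ct D X := by
    rw [← ct_mul, ← ct_mul, hX]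
  calc Z0i d ε * ct D X * Z0 d ε * (Cfsg.jordanTypeMatrix d K - 1)
      = Z0i d ε * ct D X * (Z0 d ε * (Cfsg.jordanTypeMatrix d K - 1)) := by
        simp only [Matrix.mul_assoc]
    _ = -(Z0i d ε * (ct D X * ct D (Cfsg.jordanTypeMatrix d K - 1)) * Z0 d ε) := by
        rw [Z0_mul_nil D d hε0]
        simp only [Matrix.mul_neg, Matrix.mul_assoc]
    _ = -((Z0i d ε * ct D (Cfsg.jordanTypeMatrix d K - 1)) * ct D X * Z0 d ε) := by
        rw [h1]
        simp only [Matrix.mul_assoc]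
    _ = (Cfsg.jordanTypeMatrix d K - 1) * (Z0i d ε * ct D X * Z0 d ε) := by
        rw [Z0i_mul_ct_nil D d hε0]
        simp only [Matrix.neg_mul, neg_neg, Matrix.mul_assoc]

include hε hε0 in
theorem adj_adj (X : Matrix ((k : Fin t) × Fin (d k)) ((k : Fin t) × Fin (d k)) K) :
    adj D d (ε := ε) (adj D d (ε := ε) X) = X := by
  unfold adj
  rw [ct_mul, ct_mul, ct_ct, ct_Z0 D d hε, ct_Z0i D d hε hε0]
  calc Z0i d ε * (Z0 d ε * (X * Z0i d ε)) * Z0 d ε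
      = (Z0i d ε * Z0 d ε) * X * (Z0i d ε * Z0 d ε) := by simp only [Matrix.mul_assoc]
    _ = X := by rw [Z0i_mul_Z0 d hε0, Matrix.one_mul, Matrix.mul_one]

/-- the adjoint as an additive map of the commutant -/
def adjHom : commSub (K := K) d →+ commSub (K := K) d where
  toFun X := ⟨adj D d (ε := ε) X.1, adj_mem D d hε0 X.2⟩
  map_zero' := by
    apply Subtype.ext
    change adj D d (ε := ε) 0 = 0
    unfold adj
    rw [ct_zero, Matrix.mul_zero, Matrix.zero_mul]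
  map_add' a b := by
    apply Subtype.ext
    change adj D d (ε := ε) (a.1 + b.1) = adj D d (ε := ε) a.1 + adj D d (ε := ε) b.1
    unfold adj
    rw [ct_add, Matrix.mul_add, Matrix.add_mul]

theorem adjHom_smul (c : K) (X : commSub (K := K) d) :
    adjHom D d hε0 (c • X) = D.τ c • adjHom D d hε0 X := by
  apply Subtype.ext
  change adj D d (ε := ε) (c • X.1) = D.τ c • adj D d (ε := ε) X.1
  unfold adj
  rw [ct_smul, Matrix.mul_smul, Matrix.smul_mul]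

include hε in
theorem adjHom_adjHom (X : commSub (K := K) d) : adjHom D d hε0 (adjHom D d hε0 X) = X := by
  apply Subtype.ext
  exact adj_adj D d hε hε0 X.1

/-- conjugate transpose on the tuples of blocks -/
def ctBlocks : Blocks K d →+ Blocks K d where
  toFun B := fun i => ct D (B i)
  map_zero' := by
    funext i
    exact ct_zero D
  map_add' a b := by
    funext i
    exact ct_add D (a i) (b i)

theorem ctBlocks_smul (c : K) (B : Blocks K d) : ctBlocks D d (c • B) = D.τ c • ctBlocks D d B := by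
  funext i
  exact ct_smul D c (B i)

/-- the block map intertwines the adjoint and the conjugate transpose -/
theorem piMap_adjHom (X : commSub (K := K) d) :
    piMap d hd (adjHom D d hε0 X) = ctBlocks D d (piMap d hd X) := by
  funext i
  ext l k
  rw [piMap_apply]
  change adj D d (ε := ε) X.1 ⟨l.1, ⟨0, hd l.1⟩⟩ ⟨k.1, ⟨0, hd k.1⟩⟩ =
    D.τ (X.1 ⟨k.1, ⟨0, hd k.1⟩⟩ ⟨l.1, ⟨0, hd l.1⟩⟩)
  have hX : X.1 * (Cfsg.jordanTypeMatrix d K - 1) = (Cfsg.jordanTypeMatrix d K - 1) * X.1 := X.2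
  have h1 : Z0 d ε * adj D d (ε := ε) X.1 = ct D X.1 * Z0 d ε := by
    unfold adj
    rw [← Matrix.mul_assoc, ← Matrix.mul_assoc, Z0_mul_Z0i d hε0, Matrix.one_mul]
  have h2 := congrFun (congrFun h1 (rev d ⟨l.1, ⟨0, hd l.1⟩⟩)) ⟨k.1, ⟨0, hd k.1⟩⟩
  rw [Z0_mul_apply, mul_Z0_apply, rev_rev, ct_apply] at h2
  have hlk : d l.1 = d k.1 := l.2.trans k.2.symm
  have h3 : zc d ε (rev d ⟨l.1, ⟨0, hd l.1⟩⟩) = zc d ε (rev d ⟨k.1, ⟨0, hd k.1⟩⟩) := by
    unfold zc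
    change (-1) ^ (d l.1 - 1 - 0) * cst ε (d l.1) = (-1) ^ (d k.1 - 1 - 0) * cst ε (d k.1)
    rw [hlk]
  rw [h3, mul_comm] at h2
  have h4 := mul_right_cancel₀ (zc_ne_zero d hε0 _) h2
  rw [h4]
  congr 1
  -- Toeplitz structure
  have h5 := congrFun (congrFun (eq_mk_of_commute d hd hX) (rev d ⟨k.1, ⟨0, hd k.1⟩⟩))
    (rev d ⟨l.1, ⟨0, hd l.1⟩⟩)
  rw [h5, mk_apply]
  have h6 : ((rev d ⟨l.1, ⟨0, hd l.1⟩⟩).2 : ℕ) ≤ ((rev d ⟨k.1, ⟨0, hd k.1⟩⟩).2 : ℕ) := by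
    change d l.1 - 1 - 0 ≤ d k.1 - 1 - 0
    rw [hlk]
  rw [if_pos h6]
  unfold cols
  refine congrArg (fun y => X.1 y ⟨l.1, ⟨0, hd l.1⟩⟩) (sigma_fin_ext ?_ ?_)
  · rfl
  · change d k.1 - 1 - 0 - (d l.1 - 1 - 0) = 0
    rw [hlk]
    omega

end Cfsg.Agent.Lib.H11.GUCent
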