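import Mathlib
import Cfsg.Agent.Lib.H11.GUCent7

set_option autoImplicit false
set_option linter.unusedSectionVars false

/-!
# The number of invertible Hermitian forms for which the Jordan nilpotent is skew-adjoint
-/

namespace Cfsg.Agent.Lib.H11.GUCent

open Matrix Cfsg.Agent.Lib.H13.AutPSU Cfsg.Agent.Lib.H11.HermNorm Cfsg.Agent.Lib.H11.GLCent
  Cfsg.Agent.Lib.H11.Jordan

variable {K : Type*} [Field K] {q : ℕ} (D : UF K q) {t : ℕ} (d : Fin t → ℕ) (hd : ∀ k, 1 ≤ d k)
variable {ε : K} (hε : D.τ ε = -ε) (hε0 : ε ≠ 0)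

/-- tuples of invertible Hermitian blocks -/
def Tset : Set (Blocks K d) := {B | ∀ i, ct D (B i) = B i ∧ (B i).det ≠ 0}

include hε0 in
theorem det_Z0_ne_zero : (Z0 d ε).det ≠ 0 := by
  intro h0
  have := congrArg Matrix.det (Z0_mul_Z0i d hε0)
  rw [Matrix.det_mul, h0, zero_mul, Matrix.det_one] at this
  exact zero_ne_one this

include hε0 in
theorem det_Z0i_ne_zero : (Z0i d ε).det ≠ 0 := by
  intro h0
  have := congrArg Matrix.det (Z0_mul_Z0i d hε0)
  rw [Matrix.det_mul, h0, mul_zero, Matrix.det_one] at this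
  exact zero_ne_one this

/-- invertibility in the commutant through the diagonal blocks -/
theorem det_ne_zero_iff_blocks (X : commSub (K := K) d) :
    X.1.det ≠ 0 ↔ ∀ i : Fin (Finset.univ.sup d + 1), (piMap d hd X i).det ≠ 0 := by
  have hX : X.1 * (Cfsg.jordanTypeMatrix d K - 1) = (Cfsg.jordanTypeMatrix d K - 1) * X.1 := X.2
  have hs := supp_of_commute d hd hX
  have h1 := det_mk_ne_zero_iff d hd hs
  rw [← eq_mk_of_commute d hd hX, blk_det_all] at h1
  exact h1

/-- the invariant Hermitian forms, inside the commutant -/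
def formEquiv :
    {Z : Matrix ((k : Fin t) × Fin (d k)) ((k : Fin t) × Fin (d k)) K //
      ct D Z = Z ∧ Z.det ≠ 0 ∧ ct D (Cfsg.jordanTypeMatrix d K - 1) * Z =
        -(Z * (Cfsg.jordanTypeMatrix d K - 1))} ≃
    {X : commSub (K := K) d // adjHom D d hε0 X = X ∧ piMap d hd X ∈ Tset D d} where
  toFun Z :=
    have hcomm : Z0i d ε * Z.1 ∈ commSub (K := K) d := by
      rw [mem_commSub]
      have h1 : Z.1 * (Cfsg.jordanTypeMatrix d K - 1) =
          -(ct D (Cfsg.jordanTypeMatrix d K - 1) * Z.1) := by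
        rw [Z.2.2.2, neg_neg]
      calc Z0i d ε * Z.1 * (Cfsg.jordanTypeMatrix d K - 1)
          = -((Z0i d ε * ct D (Cfsg.jordanTypeMatrix d K - 1)) * Z.1) := by
            rw [Matrix.mul_assoc, h1]
            simp only [Matrix.mul_neg, Matrix.mul_assoc]
        _ = (Cfsg.jordanTypeMatrix d K - 1) * (Z0i d ε * Z.1) := by
            rw [Z0i_mul_ct_nil D d hε0]
            simp only [Matrix.neg_mul, neg_neg, Matrix.mul_assoc]
    have hfix : adjHom D d hε0 ⟨Z0i d ε * Z.1, hcomm⟩ = ⟨Z0i d ε * Z.1, hcomm⟩ := by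
      apply Subtype.ext
      change adj D d (ε := ε) (Z0i d ε * Z.1) = Z0i d ε * Z.1
      unfold adj
      rw [ct_mul, Z.2.1, ct_Z0i D d hε hε0]
      calc Z0i d ε * (Z.1 * Z0i d ε) * Z0 d ε = Z0i d ε * Z.1 * (Z0i d ε * Z0 d ε) := by
            simp only [Matrix.mul_assoc]
        _ = Z0i d ε * Z.1 := by rw [Z0i_mul_Z0 d hε0, Matrix.mul_one]
    ⟨⟨Z0i d ε * Z.1, hcomm⟩, hfix, by
      intro i
      constructor
      · have h1 := congrFun (piMap_adjHom D d hd hε0 ⟨Z0i d ε * Z.1, hcomm⟩) i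
        rw [hfix] at h1
        exact h1.symm
      · have h2 : (Z0i d ε * Z.1).det ≠ 0 := by
          rw [Matrix.det_mul]
          exact mul_ne_zero (det_Z0i_ne_zero d hε0) Z.2.2.1
        exact (det_ne_zero_iff_blocks d hd ⟨Z0i d ε * Z.1, hcomm⟩).mp h2 i⟩
  invFun X := ⟨Z0 d ε * X.1.1, by
      have h1 : adj D d (ε := ε) X.1.1 = X.1.1 := congrArg Subtype.val X.2.1
      rw [ct_mul, ct_Z0 D d hε]
      calc ct D X.1.1 * Z0 d ε = (Z0 d ε * Z0i d ε) * ct D X.1.1 * Z0 d ε := by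
            rw [Z0_mul_Z0i d hε0, Matrix.one_mul]
        _ = Z0 d ε * (Z0i d ε * ct D X.1.1 * Z0 d ε) := by simp only [Matrix.mul_assoc]
        _ = Z0 d ε * X.1.1 := by
            change Z0 d ε * adj D d (ε := ε) X.1.1 = _
            rw [h1], by
      rw [Matrix.det_mul]
      refine mul_ne_zero (det_Z0_ne_zero d hε0) ?_
      exact (det_ne_zero_iff_blocks d hd X.1).mpr (fun i => (X.2.2 i).2), by
      have hX : X.1.1 * (Cfsg.jordanTypeMatrix d K - 1) =
          (Cfsg.jordanTypeMatrix d K - 1) * X.1.1 := X.1.2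
      calc ct D (Cfsg.jordanTypeMatrix d K - 1) * (Z0 d ε * X.1.1)
          = (ct D (Cfsg.jordanTypeMatrix d K - 1) * Z0 d ε) * X.1.1 := by
            rw [Matrix.mul_assoc]
        _ = -(Z0 d ε * ((Cfsg.jordanTypeMatrix d K - 1) * X.1.1)) := by
            rw [skew_Z0]
            simp only [Matrix.neg_mul, Matrix.mul_assoc]
        _ = -(Z0 d ε * X.1.1 * (Cfsg.jordanTypeMatrix d K - 1)) := by
            rw [← hX, Matrix.mul_assoc]⟩
  left_inv Z := by
    apply Subtype.ext
    change Z0 d ε * (Z0i d ε * Z.1) = Z.1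
    rw [← Matrix.mul_assoc, Z0_mul_Z0i d hε0, Matrix.one_mul]
  right_inv X := by
    apply Subtype.ext
    apply Subtype.ext
    change Z0i d ε * (Z0 d ε * X.1.1) = X.1.1
    rw [← Matrix.mul_assoc, Z0i_mul_Z0 d hε0, Matrix.one_mul]

/-- the number of tuples of invertible Hermitian blocks -/
theorem card_Tset [Fintype K] :
    Nat.card (Tset D d) = ∏ i : Fin (Finset.univ.sup d + 1),
      Nat.card {B : Matrix {k : Fin t // d k = (i : ℕ)} {k : Fin t // d k = (i : ℕ)} K //
        ct D B = B ∧ B.det ≠ 0} := by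
  classical
  rw [← Nat.card_pi]
  exact Nat.card_congr (Equiv.subtypePiEquivPi
    (β := fun i : Fin (Finset.univ.sup d + 1) =>
      Matrix {k : Fin t // d k = (i : ℕ)} {k : Fin t // d k = (i : ℕ)} K)
    (p := fun _ B => ct D B = B ∧ B.det ≠ 0))

include hd hε hε0 in
/-- the number of invertible Hermitian forms for which `N` is skew-adjoint -/
theorem card_forms [Fintype K] (hK : Fintype.card K = q ^ 2) :
    Nat.card {Z : Matrix ((k : Fin t) × Fin (d k)) ((k : Fin t) × Fin (d k)) K //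
      ct D Z = Z ∧ Z.det ≠ 0 ∧ ct D (Cfsg.jordanTypeMatrix d K - 1) * Z =
        -(Z * (Cfsg.jordanTypeMatrix d K - 1))} =
      q ^ Fintype.card (Rest d) * ∏ i : Fin (Finset.univ.sup d + 1),
        Nat.card {B : Matrix {k : Fin t // d k = (i : ℕ)} {k : Fin t // d k = (i : ℕ)} K //
          ct D B = B ∧ B.det ≠ 0} := by
  classical
  rw [Nat.card_congr (formEquiv D d hd hε hε0), ← card_Tset]
  have h := card_fixed_fiber D (adjHom D d hε0) (ctBlocks D d) (adjHom_smul D d hε0)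
    (adjHom_adjHom D d hε hε0) (ctBlocks_smul D d) (piMap d hd) (piMap_surjective d hd)
    (piMap_adjHom D d hd hε0) (Tset D d) (fun B hB => funext fun i => (hB i).1)
  rw [card_ker_piMap, hK, ← pow_mul, mul_comm 2, pow_mul, ← mul_pow] at h
  exact Nat.pow_left_injective (by norm_num : 2 ≠ 0) h

end Cfsg.Agent.Lib.H11.GUCent
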