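import Mathlib
import Cfsg.Agent.Lib.H11.GUCent3
import Cfsg.Agent.Lib.H11.GLCent3
import Cfsg.Agent.Lib.H2.Unitary3

set_option autoImplicit false
set_option linter.unusedSectionVars false

/-!
# The number of invertible Hermitian matrices

`#{invertible Hermitian a × a matrices over F_{q²}} · |GU_a(q)| = |GL_a(q²)|`.
-/

namespace Cfsg.Agent.Lib.H11.GUCent

open Matrix Cfsg.Agent.Lib.H13.AutPSU Cfsg.Agent.Lib.H11.HermNorm Cfsg.Agent.Lib.H11.GLCent

variable {K : Type*} [Field K] {q : ℕ} (D : UF K q)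

/-- unitary matrices as a subtype, versus the subgroup `GU` -/
def unitaryEquiv (a : ℕ) :
    {g : Matrix (Fin a) (Fin a) K // g * 0 = 0 * g ∧ ct D g * 1 * g = 1} ≃ ↥(Cfsg.GU a K q) where
  toFun g :=
    have h1 : ct D g.1 * g.1 = 1 := by
      have := g.2.2
      rwa [Matrix.mul_one] at this
    ⟨⟨g.1, ct D g.1, mul_eq_one_comm.mp h1, h1⟩, (mem_GU_iff_ct (D := D) _).mpr h1⟩
  invFun g := ⟨((g : GL (Fin a) K) : Matrix (Fin a) (Fin a) K), by
    rw [Matrix.mul_zero, Matrix.zero_mul], by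
    rw [Matrix.mul_one]
    exact (mem_GU_iff_ct (D := D) _).mp g.2⟩
  left_inv g := by
    apply Subtype.ext
    rfl
  right_inv g := by
    apply Subtype.ext
    apply Units.ext
    rfl

theorem card_herm_fin [Fintype K] (hK : Fintype.card K = q ^ 2) (a : ℕ) :
    Nat.card {B : Matrix (Fin a) (Fin a) K // ct D B = B ∧ B.det ≠ 0} *
      Cfsg.Agent.Lib.H2.Unitary.ordGU q a = glCard (q ^ 2) a := by
  classical
  have h := card_commutant_eq D (0 : Matrix (Fin a) (Fin a) K) 1 1 ⟨1, pow_one _⟩ (ct_one D)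
    (Matrix.mul_one _) (by rw [ct_zero, Matrix.zero_mul, Matrix.mul_zero, neg_zero])
  have h1 : Nat.card {g : Matrix (Fin a) (Fin a) K // g * 0 = 0 * g ∧ g.det ≠ 0} =
      glCard (q ^ 2) a := by
    have e : {g : Matrix (Fin a) (Fin a) K // g * 0 = 0 * g ∧ g.det ≠ 0} ≃
        {g : Matrix (Fin a) (Fin a) K // g.det ≠ 0} :=
      Equiv.subtypeEquivRight (fun g => by
        constructor
        · exact fun h => h.2
        · exact fun h => ⟨by rw [Matrix.mul_zero, Matrix.zero_mul], h⟩)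
    rw [Nat.card_congr e, card_det_ne_zero, hK, Fintype.card_fin]
  have h2 : Nat.card {g : Matrix (Fin a) (Fin a) K // g * 0 = 0 * g ∧ ct D g * 1 * g = 1} =
      Cfsg.Agent.Lib.H2.Unitary.ordGU q a := by
    rw [Nat.card_congr (unitaryEquiv D a), Cfsg.Agent.Lib.H2.Unitary.card_GU hK]
  have h3 : Nat.card {Z : Matrix (Fin a) (Fin a) K // ct D Z = Z ∧ Z.det ≠ 0 ∧
      ct D (0 : Matrix (Fin a) (Fin a) K) * Z = -(Z * 0)} =
      Nat.card {B : Matrix (Fin a) (Fin a) K // ct D B = B ∧ B.det ≠ 0} := by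
    apply Nat.card_congr
    apply Equiv.subtypeEquivRight
    intro Z
    constructor
    · exact fun h => ⟨h.1, h.2.1⟩
    · exact fun h => ⟨h.1, h.2, by rw [ct_zero, Matrix.zero_mul, Matrix.mul_zero, neg_zero]⟩
  rw [h1, h2, h3] at h
  rw [h, mul_comm]

/-- the number of invertible Hermitian matrices on any finite index type -/
theorem card_herm [Fintype K] (hK : Fintype.card K = q ^ 2) (κ : Type*) [Fintype κ]
    [DecidableEq κ] :
    Nat.card {B : Matrix κ κ K // ct D B = B ∧ B.det ≠ 0} *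
      Cfsg.Agent.Lib.H2.Unitary.ordGU q (Fintype.card κ) = glCard (q ^ 2) (Fintype.card κ) := by
  let e : κ ≃ Fin (Fintype.card κ) := Fintype.equivFin κ
  have E : {B : Matrix κ κ K // ct D B = B ∧ B.det ≠ 0} ≃
      {B : Matrix (Fin (Fintype.card κ)) (Fin (Fintype.card κ)) K // ct D B = B ∧ B.det ≠ 0} :=
    Equiv.subtypeEquiv (Matrix.reindex e e) (fun B => by
      rw [ct_reindex, Matrix.det_reindex_self]
      constructor
      · rintro ⟨h1, h2⟩
        exact ⟨by rw [h1], h2⟩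
      · rintro ⟨h1, h2⟩
        exact ⟨(Matrix.reindex e e).injective h1, h2⟩)
  rw [Nat.card_congr E]
  exact card_herm_fin D hK _

end Cfsg.Agent.Lib.H11.GUCent
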