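import Mathlib
import Cfsg.Prelude.Def_Transfer
import Cfsg.Agent.Lib.H1.PGroupBasic
import Cfsg.Agent.Lib.H10.PGroup
import Cfsg.Agent.Lib.H19.Heisenberg
import Cfsg.Agent.Lib.H27.Extraspecial
import Cfsg.Agent.Lib.L0.BGSC2

/-!
# S5233 farm-out, piece ES (helper11): a generalized extraspecial `p`-group (`p` odd) with an elementary
abelian subgroup of index `p` and an element of order `p` outside it is `p^{1+2}_+ × A`.
The extraspecial factor is realised as helper19's Heisenberg group `Heis 1 (ZMod p)`.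
-/

set_option autoImplicit false

namespace Cfsg.Agent.Lib.H11.GXS

open Cfsg.Agent.Lib.H19

/-- The Heisenberg group mod an odd prime is extraspecial of order `p ^ 3` and exponent `p`. -/
theorem es_heis_facts (p : ℕ) [hp : Fact p.Prime] (hp2 : p ≠ 2) :
    Cfsg.IsExtraspecial p (Heis 1 (ZMod p)) ∧ Nat.card (Heis 1 (ZMod p)) = p ^ 3 ∧
      Monoid.exponent (Heis 1 (ZMod p)) = p := by
  have hcard : Nat.card (Heis 1 (ZMod p)) = p ^ 3 := by
    rw [Heis.card_eq, Nat.card_eq_fintype_card, ZMod.card]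
  have hpow : ∀ x : Heis 1 (ZMod p), x ^ p = 1 := by
    intro x
    apply Heis.pow_char_eq_one p
    have h2 : ((2 : ℕ) : ZMod p) ≠ 0 := by
      intro h
      rw [ZMod.natCast_eq_zero_iff] at h
      exact hp2 ((Nat.prime_dvd_prime_iff_eq hp.out Nat.prime_two).mp h)
    exact (isUnit_iff_ne_zero.mpr (by simpa using h2))
  have hcen : Nat.card (Subgroup.center (Heis 1 (ZMod p))) = p := by
    rw [Heis.card_center, Nat.card_eq_fintype_card, ZMod.card]
  have hcomm : commutator (Heis 1 (ZMod p)) = Subgroup.center (Heis 1 (ZMod p)) :=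
    Heis.commutator_eq_center le_rfl
  refine ⟨?_, hcard, ?_⟩
  · apply Cfsg.Agent.Lib.H27.isExtraspecial_of_center p (IsPGroup.of_card hcard) hcen hcomm
    intro x
    rw [hpow]; exact Subgroup.one_mem _
  · have h1 : Monoid.exponent (Heis 1 (ZMod p)) ∣ p := Monoid.exponent_dvd_of_forall_pow_eq_one hpow
    rcases (Nat.dvd_prime hp.out).mp h1 with h | h
    · exfalso
      have : Subsingleton (Heis 1 (ZMod p)) := Monoid.exp_eq_one_iff.mp h
      have h3 : Nat.card (Heis 1 (ZMod p)) = 1 := Nat.card_unique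
      rw [hcard] at h3
      have := hp.out.one_lt
      have h4 : 1 < p ^ 3 := Nat.one_lt_pow (by norm_num) this
      omega
    · exact h

section generic

variable {P : Type*} [Group P]

theorem es_pow_val {p : ℕ} [NeZero p] {g : P} (hg : g ^ p = 1) (n : ℕ) :
    g ^ ((n : ZMod p).val) = g ^ n := by
  rw [ZMod.val_natCast, ← pow_eq_pow_mod n hg]

theorem es_pow_val_add {p : ℕ} [NeZero p] {g : P} (hg : g ^ p = 1) (a b : ZMod p) :
    g ^ (a + b).val = g ^ a.val * g ^ b.val := by
  have h : a + b = ((a.val + b.val : ℕ) : ZMod p) := by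
    rw [Nat.cast_add, ZMod.natCast_zmod_val, ZMod.natCast_zmod_val]
  rw [h, es_pow_val hg, pow_add]

theorem es_pow_val_add_mul {p : ℕ} [NeZero p] {g : P} (hg : g ^ p = 1) (a b c d : ZMod p) :
    g ^ (a + b + c * d).val = g ^ a.val * g ^ b.val * g ^ (c.val * d.val) := by
  have h : a + b + c * d = ((a.val + b.val + c.val * d.val : ℕ) : ZMod p) := by
    rw [Nat.cast_add, Nat.cast_add, Nat.cast_mul, ZMod.natCast_zmod_val, ZMod.natCast_zmod_val,
      ZMod.natCast_zmod_val, ZMod.natCast_zmod_val]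
  rw [h, es_pow_val hg, pow_add, pow_add]

/-- `a b = c b a` with `c` central: `a bⁿ = cⁿ bⁿ a`. -/
theorem es_semi_right {a b c : P} (hc : ∀ g : P, c * g = g * c) (h : a * b = c * b * a) (n : ℕ) :
    a * b ^ n = c ^ n * b ^ n * a := by
  induction n with
  | zero => simp
  | succ n ih =>
    calc a * b ^ (n + 1) = (a * b ^ n) * b := by rw [pow_succ, mul_assoc]
      _ = c ^ n * b ^ n * (a * b) := by rw [ih, mul_assoc]
      _ = c ^ n * b ^ n * (c * (b * a)) := by rw [h]; simp only [mul_assoc]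
      _ = c ^ n * (b ^ n * c) * (b * a) := by simp only [mul_assoc]
      _ = c ^ n * (c * b ^ n) * (b * a) := by rw [hc (b ^ n)]
      _ = (c ^ n * c) * (b ^ n * b) * a := by simp only [mul_assoc]
      _ = c ^ (n + 1) * b ^ (n + 1) * a := by rw [← pow_succ, ← pow_succ]

/-- `a b = c b a` with `c` central: `aᵐ b = cᵐ b aᵐ`. -/
theorem es_semi_left {a b c : P} (hc : ∀ g : P, c * g = g * c) (h : a * b = c * b * a) (m : ℕ) :
    a ^ m * b = c ^ m * b * a ^ m := by
  induction m with
  | zero => simp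
  | succ m ih =>
    calc a ^ (m + 1) * b = a ^ m * (a * b) := by rw [pow_succ, mul_assoc]
      _ = a ^ m * (c * (b * a)) := by rw [h]; simp only [mul_assoc]
      _ = (a ^ m * c) * (b * a) := by rw [mul_assoc]
      _ = (c * a ^ m) * (b * a) := by rw [hc (a ^ m)]
      _ = c * (a ^ m * b) * a := by simp only [mul_assoc]
      _ = c * (c ^ m * b * a ^ m) * a := by rw [ih]
      _ = (c * c ^ m) * b * (a ^ m * a) := by simp only [mul_assoc]
      _ = c ^ (m + 1) * b * a ^ (m + 1) := by rw [← pow_succ', ← pow_succ]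

theorem es_semi {a b c : P} (hc : ∀ g : P, c * g = g * c) (h : a * b = c * b * a) (m n : ℕ) :
    a ^ m * b ^ n = c ^ (m * n) * b ^ n * a ^ m := by
  have hcn : ∀ g : P, c ^ n * g = g * c ^ n := fun g =>
    ((Commute.pow_left (show Commute c g from hc g) n)).eq
  have h1 := es_semi_right hc h n
  have h2 := es_semi_left hcn h1 m
  rw [h2, ← pow_mul, mul_comm n m]

theorem es_word {T T' Y Y' Zc Zc' W : P} (hcZ : ∀ g : P, Zc * g = g * Zc)
    (hcW : ∀ g : P, W * g = g * W) (hrel : Y * T' = W * T' * Y) :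
    T * Y * Zc * (T' * Y' * Zc') = T * T' * (Y * Y') * (Zc * Zc' * W) := by
  calc T * Y * Zc * (T' * Y' * Zc') = T * Y * (Zc * (T' * Y')) * Zc' := by
        simp only [mul_assoc]
    _ = T * Y * ((T' * Y') * Zc) * Zc' := by rw [hcZ (T' * Y')]
    _ = T * (Y * T') * Y' * (Zc * Zc') := by simp only [mul_assoc]
    _ = T * (W * T' * Y) * Y' * (Zc * Zc') := by rw [hrel]
    _ = T * (W * (T' * Y * Y')) * (Zc * Zc') := by simp only [mul_assoc]
    _ = T * ((T' * Y * Y') * W) * (Zc * Zc') := by rw [hcW (T' * Y * Y')]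
    _ = T * T' * (Y * Y') * (W * (Zc * Zc')) := by simp only [mul_assoc]
    _ = T * T' * (Y * Y') * (Zc * Zc' * W) := by rw [hcW (Zc * Zc')]

end generic

/-- ES.  `p` odd and some `y ∉ B` has order `p`: `P ≅ E × A`, `E` extraspecial of order `p³` and exponent `p`. -/
theorem exists_extraspecial_decomp {P : Type*} [Group P] [Finite P] (p : ℕ) [Fact p.Prime] (hp : p ≠ 2)
    (hfr : frattini P = commutator P) (hc : Nat.card (commutator P) = p)
    (B : Subgroup P) (hBi : B.index = p) (hBc : ∀ a ∈ B, ∀ b ∈ B, a * b = b * a)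
    (hBe : ∀ a ∈ B, a ^ p = 1) (y : P) (hy : y ∉ B) (hyp : y ^ p = 1) :
    ∃ (E : Type) (_ : Group E) (A : Type) (_ : CommGroup A), Cfsg.IsExtraspecial p E ∧ Nat.card E = p ^ 3 ∧
      Monoid.exponent E = p ∧ (∀ a : A, a ^ p = 1) ∧ Nonempty (P ≃* E × A) := by
  classical
  have hpp : p.Prime := Fact.out
  -- `P` is a `p`-group
  have hBp : IsPGroup p B := fun b => ⟨1, by
    rw [pow_one]; exact Subtype.ext (by simpa using hBe b b.2)⟩
  have hP : IsPGroup p P := by
    obtain ⟨n, hn⟩ := IsPGroup.iff_card.mp hBp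
    apply IsPGroup.of_card (n := n + 1)
    rw [← Subgroup.card_mul_index B, hn, hBi, pow_succ]
  -- `Z₀ = P'` is central
  have hZc : commutator P ≤ Subgroup.center P := by
    have : (commutator P).Normal := by rw [commutator_def]; infer_instance
    have hne : commutator P ≠ ⊥ := by
      intro h; rw [h, Subgroup.card_bot] at hc; exact hpp.one_lt.ne hc
    obtain ⟨x, hx, hx1, hxc⟩ :=
      Cfsg.Agent.Lib.H10.exists_ne_one_mem_center_of_normal hP (commutator P) hne
    have hox : orderOf x = p := by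
      have h1 : orderOf (⟨x, hx⟩ : commutator P) ∣ p := by rw [← hc]; exact orderOf_dvd_natCard _
      rw [Subgroup.orderOf_mk] at h1
      rcases (Nat.dvd_prime hpp).mp h1 with h | h
      · exact absurd (orderOf_eq_one_iff.mp h) hx1
      · exact h
    have h2 : Subgroup.zpowers x = commutator P := by
      apply Subgroup.eq_of_le_of_card_ge
      · rw [Subgroup.zpowers_le]; exact hx
      · rw [Nat.card_zpowers, hox, hc]
    rw [← h2, Subgroup.zpowers_le]; exact hxc
  have hcomm_mem : ∀ g h : P, g * h * g⁻¹ * h⁻¹ ∈ commutator P := by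
    intro g h
    rw [commutator_def]
    have := Subgroup.commutator_mem_commutator (Subgroup.mem_top g) (Subgroup.mem_top h)
    rwa [commutatorElement_def] at this
  have hcen : ∀ z ∈ commutator P, ∀ g : P, z * g = g * z := by
    intro z hz g
    exact ((Subgroup.mem_center_iff.mp (hZc hz)) g).symm
  -- `B` is maximal, so contains `Φ(P) = Z₀`, so is normal
  have hBco : IsCoatom B := by
    constructor
    · intro h; rw [h, Subgroup.index_top] at hBi; exact hpp.one_lt.ne hBi
    · intro H hBH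
      have h1 : H.index ∣ B.index := Subgroup.index_dvd_of_le hBH.le
      rw [hBi] at h1
      rcases (Nat.dvd_prime hpp).mp h1 with h | h
      · exact Subgroup.index_eq_one.mp h
      · exfalso
        have h2 := Subgroup.relIndex_mul_index hBH.le
        rw [h, hBi] at h2
        have h3 : B.relIndex H = 1 := by
          have : 0 < p := hpp.pos
          nlinarith
        have h4 : H ≤ B := Subgroup.relIndex_eq_one.mp h3
        exact lt_irrefl _ (lt_of_lt_of_le hBH h4)
  have hZB : commutator P ≤ B := hfr ▸ frattini_le_coatom hBco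
  have hBn : B.Normal := Cfsg.Agent.Lib.H1.normal_of_commutator_le hZB
  -- every element is `b yⁿ`
  have hdec : ∀ g : P, ∃ b ∈ B, ∃ n : ℕ, g = b * y ^ n := by
    intro g
    have htop : B ⊔ Subgroup.zpowers y = ⊤ := by
      apply hBco.2
      apply lt_of_le_of_ne le_sup_left
      intro h
      apply hy
      rw [h]
      exact (le_sup_right : Subgroup.zpowers y ≤ B ⊔ Subgroup.zpowers y) (Subgroup.mem_zpowers y)
    have hg : g ∈ ((B ⊔ Subgroup.zpowers y : Subgroup P) : Set P) := by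
      rw [htop]; exact Subgroup.mem_top g
    rw [Subgroup.normal_mul] at hg
    obtain ⟨b, hb, w, hw, rfl⟩ := Set.mem_mul.mp hg
    have hw' : w ∈ Submonoid.powers y := mem_powers_iff_mem_zpowers.mpr hw
    obtain ⟨n, rfl⟩ := (Submonoid.mem_powers_iff _ _).mp hw'
    exact ⟨b, hb, n, rfl⟩
  -- some `t ∈ B` does not commute with `y`
  have hext : ∃ t ∈ B, y * t ≠ t * y := by
    by_contra hcon
    push Not at hcon
    have hab : ∀ g h : P, g * h = h * g := by
      intro g h
      obtain ⟨b, hb, n, rfl⟩ := hdec g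
      obtain ⟨b', hb', n', rfl⟩ := hdec h
      have c1 : Commute b b' := hBc b hb b' hb'
      have c2 : Commute b (y ^ n') := ((show Commute y b from hcon b hb).pow_left n').symm
      have c3 : Commute (y ^ n) b' := (show Commute y b' from hcon b' hb').pow_left n
      have c4 : Commute (y ^ n) (y ^ n') := (Commute.refl y).pow_pow n n'
      exact ((c1.mul_right c2).mul_left (c3.mul_right c4)).eq
    have hbot : commutator P = ⊥ := by
      rw [commutator_def, Subgroup.commutator_eq_bot_iff_le_centralizer]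
      intro g _
      rw [Subgroup.mem_centralizer_iff]
      intro h _
      exact hab h g
    rw [hbot, Subgroup.card_bot] at hc
    exact hpp.one_lt.ne hc
  obtain ⟨t, htB, hyt⟩ := hext
  obtain ⟨z, hzdef⟩ : ∃ z : P, z = y * t * y⁻¹ * t⁻¹ := ⟨_, rfl⟩
  have hzZ : z ∈ commutator P := hzdef ▸ hcomm_mem y t
  have hzc : ∀ g : P, z * g = g * z := hcen z hzZ
  have hz1 : z ≠ 1 := by
    intro h
    apply hyt
    have : y * t * y⁻¹ * t⁻¹ = 1 := by rw [← hzdef, h]
    calc y * t = (y * t * y⁻¹ * t⁻¹) * (t * y) := by group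
      _ = t * y := by rw [this, one_mul]
  have hzp : z ^ p = 1 := hBe z (hZB hzZ)
  have htp : t ^ p = 1 := hBe t htB
  have hrel : y * t = z * t * y := by rw [hzdef]; group
  have hoz : orderOf z = p := orderOf_eq_prime hzp hz1
  have hoy : orderOf y = p := orderOf_eq_prime hyp (fun h => hy (h ▸ B.one_mem))
  have hZz : Subgroup.zpowers z = commutator P := by
    apply Subgroup.eq_of_le_of_card_ge
    · rw [Subgroup.zpowers_le]; exact hzZ
    · rw [Nat.card_zpowers, hoz, hc]
  have hZpow : ∀ w ∈ commutator P, ∃ m : ℕ, w = z ^ m := by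
    intro w hw
    rw [← hZz] at hw
    have hw' : w ∈ Submonoid.powers z := mem_powers_iff_mem_zpowers.mpr hw
    obtain ⟨m, rfl⟩ := (Submonoid.mem_powers_iff _ _).mp hw'
    exact ⟨m, rfl⟩
  -- the central part of `B` and a complement `A₀` of `Z₀` in it
  obtain ⟨K, hKdef⟩ : ∃ K : Subgroup P, K = B ⊓ Subgroup.center P := ⟨_, rfl⟩
  have hKB : K ≤ B := hKdef ▸ inf_le_left
  have hKc : ∀ a ∈ K, ∀ g : P, a * g = g * a := by
    intro a ha g
    rw [hKdef] at ha
    exact ((Subgroup.mem_center_iff.mp ha.2) g).symm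
  have hKea : Cfsg.IsElementaryAbelian p K :=
    ⟨⟨⟨fun a b => Subtype.ext (hBc a.1 (hKB a.2) b.1 (hKB b.2))⟩⟩, fun a ha => hBe a (hKB ha)⟩
  have hZK : commutator P ≤ K := hKdef ▸ le_inf hZB hZc
  obtain ⟨A₀, hA₀K, -, hinf, hsup⟩ :=
    Cfsg.Agent.Lib.L0.BGSC.exists_invariant_compl_elemAb (V := K) (W := commutator P)
      (H := (⊥ : Subgroup P)) hKea hZK bot_le bot_le
      (by rw [Subgroup.card_bot]; exact Nat.coprime_one_left p)
  have hAc : ∀ a ∈ A₀, ∀ g : P, a * g = g * a := fun a ha g => hKc a (hA₀K ha) g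
  -- the homomorphism `Heis 1 (ZMod p) → P`, `(u, v, c) ↦ t^v y^u z^c`
  have hdot : ∀ h h' : Heis 1 (ZMod p), (h * h').c = h.c + h'.c + h.u 0 * h'.v 0 := by
    intro h h'
    rw [Heis.mul_c]
    simp [dotProduct]
  let f₁ : Heis 1 (ZMod p) →* P :=
    { toFun := fun h => t ^ (h.v 0).val * y ^ (h.u 0).val * z ^ (h.c).val
      map_one' := by simp
      map_mul' := by
        intro h h'
        rw [hdot, Heis.mul_u, Heis.mul_v, Pi.add_apply, Pi.add_apply, es_pow_val_add htp,
          es_pow_val_add hyp, es_pow_val_add_mul hzp]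
        have hrel' := es_semi hzc hrel (h.u 0).val (h'.v 0).val
        symm
        exact es_word
          (fun g => ((show Commute z g from hzc g).pow_left _).eq)
          (fun g => ((show Commute z g from hzc g).pow_left _).eq) hrel' }
  have hf₁ : ∀ h : Heis 1 (ZMod p), f₁ h = t ^ (h.v 0).val * y ^ (h.u 0).val * z ^ (h.c).val :=
    fun _ => rfl
  let f : Heis 1 (ZMod p) × A₀ →* P :=
    f₁.noncommCoprod A₀.subtype (fun h a => (show Commute (a : P) (f₁ h) from hAc a a.2 (f₁ h)).symm)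
  have hf : ∀ (h : Heis 1 (ZMod p)) (a : A₀),
      f (h, a) = t ^ (h.v 0).val * y ^ (h.u 0).val * z ^ (h.c).val * (a : P) := by
    intro h a
    rfl
  -- powers of `y` in `B`
  have hyB : ∀ n : ℕ, y ^ n ∈ B → p ∣ n := by
    intro n hn
    by_contra hnd
    have hcop : Nat.Coprime n (orderOf y) := by
      rw [hoy]; exact ((Nat.Prime.coprime_iff_not_dvd hpp).mpr hnd).symm
    obtain ⟨m, hm⟩ := exists_pow_eq_self_of_coprime hcop
    exact hy (hm ▸ B.pow_mem hn m)
  have hval0 : ∀ (g : P), orderOf g = p → ∀ a : ZMod p, g ^ a.val = 1 → a = 0 := by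
    intro g hg a ha
    have h1 : orderOf g ∣ a.val := orderOf_dvd_of_pow_eq_one ha
    rw [hg] at h1
    exact (ZMod.val_eq_zero a).mp (Nat.eq_zero_of_dvd_of_lt h1 (ZMod.val_lt a))
  have hzpowc : ∀ (n : ℕ) (g : P), z ^ n * g = g * z ^ n := fun n g =>
    ((show Commute z g from hzc g).pow_left n).eq
  have hinj : Function.Injective f := by
    rw [injective_iff_map_eq_one]
    rintro ⟨h, a⟩ hx
    rw [hf] at hx
    -- `y ^ u ∈ B`
    have hTB : t ^ (h.v 0).val ∈ B := B.pow_mem htB _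
    have hZcB : z ^ (h.c).val ∈ B := B.pow_mem (hZB hzZ) _
    have haB : (a : P) ∈ B := hKB (hA₀K a.2)
    have hu : h.u 0 = 0 := by
      apply hval0 y hoy
      have hYB : y ^ (h.u 0).val ∈ B := by
        have h1 : y ^ (h.u 0).val = (t ^ (h.v 0).val)⁻¹ * ((z ^ (h.c).val * (a : P)))⁻¹ := by
          rw [mul_assoc, mul_assoc] at hx
          have h2 := eq_inv_of_mul_eq_one_right hx
          have h3 : y ^ (h.u 0).val * (z ^ (h.c).val * (a : P)) = (t ^ (h.v 0).val)⁻¹ := by
            rw [h2]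
          rw [← h3]; group
        rw [h1]
        exact B.mul_mem (B.inv_mem hTB) (B.inv_mem (B.mul_mem hZcB haB))
      have := hyB _ hYB
      have h4 : (h.u 0).val = 0 := Nat.eq_zero_of_dvd_of_lt this (ZMod.val_lt _)
      rw [h4, pow_zero]
    rw [hu, ZMod.val_zero, pow_zero, mul_one] at hx
    have hv : h.v 0 = 0 := by
      apply hval0 z hoz
      have h1 := es_semi_right hzc hrel (h.v 0).val
      have h2 : y * (t ^ (h.v 0).val * z ^ (h.c).val * (a : P)) =
          z ^ (h.v 0).val * (t ^ (h.v 0).val * z ^ (h.c).val * (a : P)) * y := by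
        calc y * (t ^ (h.v 0).val * z ^ (h.c).val * (a : P))
            = (y * t ^ (h.v 0).val) * (z ^ (h.c).val * (a : P)) := by simp only [mul_assoc]
          _ = z ^ (h.v 0).val * t ^ (h.v 0).val * (y * (z ^ (h.c).val * (a : P))) := by
              rw [h1]; simp only [mul_assoc]
          _ = z ^ (h.v 0).val * t ^ (h.v 0).val * ((z ^ (h.c).val * (a : P)) * y) := by
              have hcm : Commute (z ^ (h.c).val * (a : P)) y :=
                Commute.mul_left (hzpowc _ y) (hAc a a.2 y)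
              rw [hcm.eq]
          _ = z ^ (h.v 0).val * (t ^ (h.v 0).val * z ^ (h.c).val * (a : P)) * y := by
              simp only [mul_assoc]
      rw [hx, mul_one, mul_one] at h2
      exact (mul_eq_right.mp h2.symm)
    rw [hv, ZMod.val_zero, pow_zero, one_mul] at hx
    have hzA : z ^ (h.c).val ∈ commutator P ⊓ A₀ := by
      refine ⟨(commutator P).pow_mem hzZ _, ?_⟩
      have : z ^ (h.c).val = (a : P)⁻¹ := eq_inv_of_mul_eq_one_left hx
      rw [this]; exact A₀.inv_mem a.2
    rw [hinf, Subgroup.mem_bot] at hzA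
    have hcc : h.c = 0 := hval0 z hoz _ hzA
    rw [hzA, one_mul] at hx
    have ha1 : a = 1 := Subtype.ext hx
    have hh1 : h = 1 := by
      ext i
      · rw [Fin.fin_one_eq_zero i, hu]; rfl
      · rw [Fin.fin_one_eq_zero i, hv]; rfl
      · rw [hcc]; rfl
    rw [ha1, hh1]; rfl
  have hsurj : Function.Surjective f := by
    intro g
    obtain ⟨b, hb, n, rfl⟩ := hdec g
    -- `[y, b] = z ^ j`
    obtain ⟨j, hj⟩ := hZpow _ (hcomm_mem y b)
    have hyb : y * b = z ^ j * b * y := by rw [← hj]; group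
    have h1 := es_semi_right hzc hrel j
    -- `b' = (t ^ j)⁻¹ b` is central
    have hb'B : (t ^ j)⁻¹ * b ∈ B := B.mul_mem (B.inv_mem (B.pow_mem htB j)) hb
    have hb'y : y * ((t ^ j)⁻¹ * b) = ((t ^ j)⁻¹ * b) * y := by
      have h2 : y * (t ^ j)⁻¹ = (t ^ j)⁻¹ * (z ^ j)⁻¹ * y := by
        have h3 : (t ^ j) * y * (t ^ j)⁻¹ = (z ^ j)⁻¹ * y := by
          have : t ^ j * y = (z ^ j)⁻¹ * (y * t ^ j) := by
            rw [h1]; simp only [mul_assoc, inv_mul_cancel_left]
          rw [this]; group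
        calc y * (t ^ j)⁻¹ = (t ^ j)⁻¹ * ((t ^ j) * y * (t ^ j)⁻¹) := by group
          _ = (t ^ j)⁻¹ * (z ^ j)⁻¹ * y := by rw [h3, mul_assoc]
      calc y * ((t ^ j)⁻¹ * b) = (y * (t ^ j)⁻¹) * b := by rw [mul_assoc]
        _ = (t ^ j)⁻¹ * (z ^ j)⁻¹ * (y * b) := by rw [h2]; simp only [mul_assoc]
        _ = (t ^ j)⁻¹ * (z ^ j)⁻¹ * (z ^ j * b * y) := by rw [hyb]
        _ = ((t ^ j)⁻¹ * b) * y := by simp only [mul_assoc, inv_mul_cancel_left]
    have hb'K : (t ^ j)⁻¹ * b ∈ K := by
      rw [hKdef]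
      refine ⟨hb'B, ?_⟩
      show (t ^ j)⁻¹ * b ∈ Subgroup.center P
      rw [Subgroup.mem_center_iff]
      intro g
      obtain ⟨b₂, hb₂, n₂, rfl⟩ := hdec g
      have c1 : Commute b₂ ((t ^ j)⁻¹ * b) := hBc _ hb₂ _ hb'B
      have c2 : Commute (y ^ n₂) ((t ^ j)⁻¹ * b) := (show Commute y _ from hb'y).pow_left n₂
      exact (c1.mul_left c2).eq
    have hb'sup : (t ^ j)⁻¹ * b ∈ ((commutator P ⊔ A₀ : Subgroup P) : Set P) := by
      rw [hsup]; exact hb'K
    have hZn : (commutator P).Normal := by rw [commutator_def]; infer_instance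
    rw [Subgroup.normal_mul] at hb'sup
    obtain ⟨w, hw, a, ha, hwa⟩ := Set.mem_mul.mp hb'sup
    obtain ⟨m, rfl⟩ := hZpow w hw
    have hbe : b = t ^ j * (z ^ m * a) := by rw [hwa]; group
    refine ⟨(⟨fun _ => (n : ZMod p), fun _ => (j : ZMod p), (m : ZMod p)⟩, ⟨a, ha⟩), ?_⟩
    rw [hf]
    show t ^ ((j : ZMod p)).val * y ^ ((n : ZMod p)).val * z ^ ((m : ZMod p)).val * a = _
    rw [es_pow_val htp, es_pow_val hyp, es_pow_val hzp, hbe]
    have hcm : Commute (z ^ m * a) (y ^ n) :=
      Commute.mul_left (hzpowc _ _) (hAc a ha _)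
    calc t ^ j * y ^ n * z ^ m * a = t ^ j * (y ^ n * (z ^ m * a)) := by simp only [mul_assoc]
      _ = t ^ j * ((z ^ m * a) * y ^ n) := by rw [hcm.eq]
      _ = t ^ j * (z ^ m * a) * y ^ n := by simp only [mul_assoc]
  -- packaging
  obtain ⟨hE1, hE2, hE3⟩ := es_heis_facts p hp
  let instA₀ : CommGroup ↥A₀ :=
    { (inferInstance : Group ↥A₀) with
      mul_comm := fun a b => Subtype.ext (hBc a.1 (hKB (hA₀K a.2)) b.1 (hKB (hA₀K b.2))) }
  have eS : Shrink.{0} ↥A₀ ≃* ↥A₀ := Shrink.mulEquiv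
  refine ⟨Heis 1 (ZMod p), inferInstance, Shrink.{0} ↥A₀, inferInstance, hE1, hE2, hE3, ?_, ?_⟩
  · intro a
    apply eS.injective
    rw [map_pow, map_one]
    exact Subtype.ext (hBe _ (hKB (hA₀K (eS a).2)))
  · have e₁ : Heis 1 (ZMod p) × ↥A₀ ≃* P := MulEquiv.ofBijective f ⟨hinj, hsurj⟩
    have e₂ : Heis 1 (ZMod p) × Shrink.{0} ↥A₀ ≃* Heis 1 (ZMod p) × ↥A₀ :=
      MulEquiv.prodCongr (MulEquiv.refl _) eS
    exact ⟨(e₂.trans e₁).symm⟩

end Cfsg.Agent.Lib.H11.GXS
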