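/-
S3313 (architect helper17), piece STRUCT: the extraspecial structure of `Q = O₂(C_G(z))`.
-/
import Mathlib
import Cfsg.Agent.Lib.H17.HJDefs
import Cfsg.Agent.Lib.H7.FStar
import Cfsg.Agent.Lib.H7.BenderMax
import Cfsg.Agent.Lib.H1.PCore
import Cfsg.Agent.S1265

set_option autoImplicit false
set_option linter.unusedSectionVars false

namespace Cfsg.Agent.Lib.H11.HJ

open Cfsg Cfsg.Agent.Lib.H17.HJ
open scoped commutatorElement

/-- elementwise form of the extraspecial structure, for a central element `z0 ≠ 1` -/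
theorem extra_elementwise {E : Type*} [Group E] (hE : Cfsg.IsExtraspecial 2 E) (z0 : E)
    (hz0 : z0 ∈ Subgroup.center E) (hz1 : z0 ≠ 1) :
    (∀ x : E, x ∈ Subgroup.center E → x = 1 ∨ x = z0) ∧
      (∀ x y : E, x * y = y * x ∨ x * y = z0 * (y * x)) ∧ (∀ x : E, x * x = 1 ∨ x * x = z0) := by
  have hcard : Nat.card ↥(Subgroup.center E) = 2 := hE.2
  have hcen : ∀ x : E, x ∈ Subgroup.center E → x = 1 ∨ x = z0 := by
    intro x hx
    obtain ⟨y, hy1, hy2⟩ := (Nat.card_eq_two_iff' (1 : ↥(Subgroup.center E))).1 hcard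
    by_cases h1 : x = 1
    · exact Or.inl h1
    · right
      have e1 : (⟨x, hx⟩ : ↥(Subgroup.center E)) = y := hy2 _ (fun h => h1 (congrArg Subtype.val h))
      have e2 : (⟨z0, hz0⟩ : ↥(Subgroup.center E)) = y := hy2 _ (fun h => hz1 (congrArg Subtype.val h))
      exact congrArg Subtype.val (e1.trans e2.symm)
  have hzz : z0 * z0 = 1 := by
    rcases hcen (z0 * z0) (mul_mem hz0 hz0) with h | h
    · exact h
    · exfalso
      apply hz1
      have : z0 * z0 = z0 * 1 := by rw [h, mul_one]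
      exact mul_left_cancel this
  have hz0c : ∀ y : E, z0 * y = y * z0 := fun y => (Subgroup.mem_center_iff.1 hz0 y).symm
  have hcomm : ∀ x y : E, x * y = y * x ∨ x * y = z0 * (y * x) := by
    intro x y
    have h1 : ⁅x, y⁆ ∈ commutator E := by
      rw [commutator_def]
      exact Subgroup.commutator_mem_commutator (Subgroup.mem_top x) (Subgroup.mem_top y)
    rw [hE.1.2.2] at h1
    rcases hcen _ h1 with h | h
    · left
      rw [commutatorElement_def] at h
      have : x * y * x⁻¹ * y⁻¹ * (y * x) = 1 * (y * x) := by rw [h]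
      rw [one_mul] at this
      rw [← this]; group
    · right
      rw [commutatorElement_def] at h
      rw [← h]; group
  refine ⟨hcen, hcomm, fun x => ?_⟩
  apply hcen
  rw [Subgroup.mem_center_iff]
  intro y
  rcases hcomm x y with h | h
  · rw [← mul_assoc, ← h, mul_assoc, ← h, mul_assoc]
  · have hyx : y * x = z0 * (x * y) := by
      rw [h, ← mul_assoc, hzz, one_mul]
    calc y * (x * x) = (y * x) * x := by rw [mul_assoc]
      _ = z0 * (x * y) * x := by rw [hyx]
      _ = z0 * x * (y * x) := by group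
      _ = z0 * x * (z0 * (x * y)) := by rw [hyx]
      _ = (z0 * z0) * (x * x * y) := by
          rw [mul_assoc z0 x, ← mul_assoc x z0, ← hz0c x]; group
      _ = x * x * y := by rw [hzz, one_mul]

section setting

variable {G : Type*} [Group G] [Finite G] {z t : G} {K V B : Subgroup G}

/-- `Q` is normal in `C_G(z)` -/
theorem Qz_normal (z : G) (c : G) (hc : c ∈ Subgroup.centralizer ({z} : Set G)) (q : G)
    (hq : q ∈ Qz z) : c * q * c⁻¹ ∈ Qz z := by
  obtain ⟨p, hp, rfl⟩ := hq
  have hn : (Cfsg.pCore 2 ↥(Subgroup.centralizer ({z} : Set G))).Normal :=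
    Cfsg.Agent.Lib.H1.pCore_normal 2 _
  exact ⟨(⟨c, hc⟩ : ↥(Subgroup.centralizer ({z} : Set G))) * p *
    (⟨c, hc⟩ : ↥(Subgroup.centralizer ({z} : Set G)))⁻¹, hn.conj_mem p hp _, rfl⟩

theorem Qz_le (z : G) : Qz z ≤ Subgroup.centralizer ({z} : Set G) :=
  Subgroup.map_subtype_le _

/-- `F*(C) = O₂(C)` -/
theorem fstar_eq_pCore (h : Setting z t K V B) :
    Cfsg.generalizedFittingSubgroup ↥(Subgroup.centralizer ({z} : Set G)) =
      Cfsg.pCore 2 ↥(Subgroup.centralizer ({z} : Set G)) := by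
  have : Fact (Nat.Prime 2) := ⟨Nat.prime_two⟩
  apply le_antisymm
  · exact Cfsg.Agent.Lib.H1.le_pCore Cfsg.Agent.Lib.H7.generalizedFittingSubgroup_normal h.hex.1.1
  · exact (Cfsg.Agent.Lib.H7.pCore_le_fittingSubgroup 2).trans
      Cfsg.Agent.Lib.H7.fittingSubgroup_le_generalizedFittingSubgroup

theorem z_mem_cent (z : G) : z ∈ Subgroup.centralizer ({z} : Set G) := by
  rw [Subgroup.mem_centralizer_iff]
  intro y hy
  rw [Set.mem_singleton_iff.1 hy]

theorem z_mem_Qz (h : Setting z t K V B) : z ∈ Qz z := by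
  by_contra hz
  exact h.hzt (h.hCz z (z_mem_cent z) h.hz hz)

theorem mem_Qz_iff (z x : G) : x ∈ Qz z ↔ ∃ hx : x ∈ Subgroup.centralizer ({z} : Set G),
    (⟨x, hx⟩ : ↥(Subgroup.centralizer ({z} : Set G))) ∈
      Cfsg.pCore 2 ↥(Subgroup.centralizer ({z} : Set G)) := by
  constructor
  · rintro ⟨p, hp, rfl⟩
    exact ⟨p.2, hp⟩
  · rintro ⟨hx, hp⟩
    exact ⟨⟨x, hx⟩, hp, rfl⟩

theorem qdata (h : Setting z t K V B) : QData z (Qz z) := by
  have hF := fstar_eq_pCore h
  have hz2 : z * z = 1 := by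
    have := pow_orderOf_eq_one z
    rw [h.hz, pow_two] at this
    exact this
  have hz1 : z ≠ 1 := by
    intro e
    have := h.hz
    rw [e, orderOf_one] at this
    exact absurd this (by norm_num)
  have hzQ := z_mem_Qz h
  obtain ⟨hzC, hzP⟩ := (mem_Qz_iff z z).1 hzQ
  -- the element `z` of `F*(C)`
  have hzF : (⟨z, hzC⟩ : ↥(Subgroup.centralizer ({z} : Set G))) ∈
      Cfsg.generalizedFittingSubgroup ↥(Subgroup.centralizer ({z} : Set G)) := by rw [hF]; exact hzP
  set zF : ↥(Cfsg.generalizedFittingSubgroup ↥(Subgroup.centralizer ({z} : Set G))) := ⟨⟨z, hzC⟩, hzF⟩ with hzFdef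
  have hzcomm : ∀ x ∈ Subgroup.centralizer ({z} : Set G), z * x = x * z := by
    intro x hx
    exact (Subgroup.mem_centralizer_iff.1 hx z rfl)
  have hzFc : zF ∈ Subgroup.center ↥(Cfsg.generalizedFittingSubgroup ↥(Subgroup.centralizer ({z} : Set G))) := by
    rw [Subgroup.mem_center_iff]
    intro y
    apply Subtype.ext
    apply Subtype.ext
    show (y : G) * z = z * (y : G)
    exact (hzcomm _ y.1.2).symm
  have hzF1 : zF ≠ 1 := by
    intro e
    apply hz1
    have := congrArg (fun w : ↥(Cfsg.generalizedFittingSubgroup ↥(Subgroup.centralizer ({z} : Set G))) => ((w : ↥(Subgroup.centralizer ({z} : Set G))) : G)) e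
    exact this
  obtain ⟨hcen, hcomm, hsq⟩ := extra_elementwise h.hex zF hzFc hzF1
  -- lifting elements of `Q` to `F*(C)`
  have lift : ∀ x ∈ Qz z, ∃ x' : ↥(Cfsg.generalizedFittingSubgroup ↥(Subgroup.centralizer ({z} : Set G))),
      ((x' : ↥(Subgroup.centralizer ({z} : Set G))) : G) = x := by
    intro x hx
    obtain ⟨hxC, hxP⟩ := (mem_Qz_iff z x).1 hx
    exact ⟨⟨⟨x, hxC⟩, by rw [hF]; exact hxP⟩, rfl⟩
  have hval : ∀ a b : ↥(Cfsg.generalizedFittingSubgroup ↥(Subgroup.centralizer ({z} : Set G))),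
      (((a * b : ↥(Cfsg.generalizedFittingSubgroup ↥(Subgroup.centralizer ({z} : Set G)))) :
        ↥(Subgroup.centralizer ({z} : Set G))) : G) =
      ((a : ↥(Subgroup.centralizer ({z} : Set G))) : G) * ((b : ↥(Subgroup.centralizer ({z} : Set G))) : G) :=
    fun a b => rfl
  have hinj : ∀ a b : ↥(Cfsg.generalizedFittingSubgroup ↥(Subgroup.centralizer ({z} : Set G))),
      ((a : ↥(Subgroup.centralizer ({z} : Set G))) : G) = ((b : ↥(Subgroup.centralizer ({z} : Set G))) : G) → a = b :=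
    fun a b hab => Subtype.ext (Subtype.ext hab)
  refine ⟨hzQ, hz1, hz2, fun x hx => hzcomm x (Qz_le z hx), ?_, ?_, ?_, ?_⟩
  · unfold Qz
    rw [Subgroup.card_map_of_injective (Subgroup.subtype_injective _)]
    exact h.hQ
  · intro x hx
    obtain ⟨x', rfl⟩ := lift x hx
    rcases hsq x' with e | e
    · left
      rw [← hval, e]; rfl
    · right
      rw [← hval, e]
  · intro x hx y hy
    obtain ⟨x', rfl⟩ := lift x hx
    obtain ⟨y', rfl⟩ := lift y hy
    rcases hcomm x' y' with e | e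
    · left
      rw [← hval, ← hval, e]
    · right
      have : ((((zF * (y' * x') : ↥(Cfsg.generalizedFittingSubgroup ↥(Subgroup.centralizer ({z} : Set G)))) :
        ↥(Subgroup.centralizer ({z} : Set G))) : G)) = z * (((y' : ↥(Subgroup.centralizer ({z} : Set G))) : G) *
          ((x' : ↥(Subgroup.centralizer ({z} : Set G))) : G)) := rfl
      rw [← hval, e, this]
  · intro x hx hall
    obtain ⟨x', rfl⟩ := lift x hx
    have hx'c : x' ∈ Subgroup.center ↥(Cfsg.generalizedFittingSubgroup ↥(Subgroup.centralizer ({z} : Set G))) := by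
      rw [Subgroup.mem_center_iff]
      intro y
      apply hinj
      rw [hval, hval]
      have hyQ : ((y : ↥(Subgroup.centralizer ({z} : Set G))) : G) ∈ Qz z := by
        rw [mem_Qz_iff]
        refine ⟨y.1.2, ?_⟩
        exact le_of_eq hF y.2
      exact (hall _ hyQ).symm
    rcases hcen x' hx'c with e | e
    · left; rw [e]; rfl
    · right; rw [e]

/-- `C_C(Q) ≤ Q` -/
theorem cent_Qz_le (h : Setting z t K V B) (c : G) (hc : c ∈ Subgroup.centralizer ({z} : Set G))
    (hcQ : ∀ q ∈ Qz z, c * q = q * c) : c ∈ Qz z := by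
  have hF := fstar_eq_pCore h
  rw [mem_Qz_iff]
  refine ⟨hc, ?_⟩
  rw [← hF]
  apply Cfsg.Agent.S1265.result
  rw [Subgroup.mem_centralizer_iff]
  intro f hf
  apply Subtype.ext
  show (f : G) * c = c * (f : G)
  have hfQ : (f : G) ∈ Qz z := by
    rw [mem_Qz_iff]
    refine ⟨f.2, ?_⟩
    have : f ∈ Cfsg.generalizedFittingSubgroup ↥(Subgroup.centralizer ({z} : Set G)) := hf
    rw [hF] at this
    exact this
  exact (hcQ _ hfQ).symm

end setting

end Cfsg.Agent.Lib.H11.HJ
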