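/-
S3313 (architect helper17), piece CARDS: `|C_G(z)| = 1920`, `|C_G(t)| = 240`.
-/
import Mathlib
import Cfsg.Agent.Lib.H17.HJDefs
import Cfsg.Agent.Lib.H11.HJSTRUCT

set_option autoImplicit false
set_option linter.unusedSectionVars false

namespace Cfsg.Agent.Lib.H11.HJ

open Cfsg Cfsg.Agent.Lib.H17.HJ

/-- `|A N| = |A| |N|` for `A ∩ N = 1`, `A` normalising `N` -/
theorem card_sup_of_disjoint {G : Type*} [Group G] (A N : Subgroup G) (hd : A ⊓ N = ⊥)
    (hn : A ≤ Subgroup.normalizer (N : Set G)) :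
    Nat.card ↥(A ⊔ N) = Nat.card ↥A * Nat.card ↥N := by
  rw [← Nat.card_prod]
  symm
  apply Nat.card_congr
  refine Equiv.ofBijective
    (fun p : ↥A × ↥N => (⟨(p.1 : G) * (p.2 : G), Subgroup.mul_mem_sup p.1.2 p.2.2⟩ : ↥(A ⊔ N))) ⟨?_, ?_⟩
  · intro p q h
    exact Subgroup.mul_injective_of_disjoint (disjoint_iff.2 hd) (congrArg Subtype.val h)
  · rintro ⟨x, hx⟩
    have hx' : x ∈ ((A ⊔ N : Subgroup G) : Set G) := hx
    rw [Subgroup.coe_mul_of_left_le_normalizer_right A N hn] at hx'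
    obtain ⟨a, ha, n, hn', rfl⟩ := hx'
    exact ⟨(⟨a, ha⟩, ⟨n, hn'⟩), rfl⟩

theorem card_a5 : Nat.card (alternatingGroup (Fin 5)) = 60 := by
  rw [nat_card_alternatingGroup, Nat.card_eq_fintype_card, Fintype.card_fin]
  rfl

section setting

variable {G : Type*} [Group G] [Finite G] {z t : G} {K V B : Subgroup G}

theorem card_Cz (h : Setting z t K V B) :
    Nat.card ↥(Subgroup.centralizer ({z} : Set G)) = 1920 := by
  have hKC : K ≤ Subgroup.centralizer ({z} : Set G) := by
    rw [← h.hKC]; exact le_sup_left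
  have hn : K ≤ Subgroup.normalizer ((Qz z : Subgroup G) : Set G) := by
    intro k hk
    rw [Subgroup.mem_normalizer_iff]
    intro q
    constructor
    · intro hq
      exact Qz_normal z k (hKC hk) q hq
    · intro hq
      have := Qz_normal z k⁻¹ (inv_mem (hKC hk)) _ hq
      have e : k⁻¹ * (k * q * k⁻¹) * k⁻¹⁻¹ = q := by group
      rw [e] at this
      exact this
  have h1 := card_sup_of_disjoint K (Qz z) h.hKQ hn
  rw [h.hKC] at h1
  obtain ⟨e⟩ := h.hK
  rw [h1, Nat.card_congr e.toEquiv, card_a5, (qdata h).card]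

theorem card_Ct (h : Setting z t K V B) :
    Nat.card ↥(Subgroup.centralizer ({t} : Set G)) = 240 := by
  obtain ⟨hV, hB, hcomm, hd, hsup⟩ := h.hVB
  have hn : V ≤ Subgroup.normalizer ((B : Subgroup G) : Set G) := by
    intro v hv
    rw [Subgroup.mem_normalizer_iff]
    intro b
    constructor
    · intro hb
      have e : v * b * v⁻¹ = b := by rw [hcomm v hv b hb]; group
      rw [e]; exact hb
    · intro hb
      have e1 : v⁻¹ * (v * b * v⁻¹) * v = b := by group
      have h2 := hcomm v⁻¹ (inv_mem hv) _ hb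
      have e2 : v⁻¹ * (v * b * v⁻¹) * v⁻¹⁻¹ = v * b * v⁻¹ := by rw [h2]; group
      rw [inv_inv, e1] at e2
      rw [e2]
      exact hb
  have h1 := card_sup_of_disjoint V B hd hn
  rw [hsup] at h1
  obtain ⟨e⟩ := h.hB
  rw [h1, h.hV, Nat.card_congr e.toEquiv, card_a5]

end setting

end Cfsg.Agent.Lib.H11.HJ
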