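import Cfsg.Agent.Lib.H4.HT.Defs
import Cfsg.Prelude.Def_CaseTheorems

/-!
# S3371 piece DQH (helper11): `|C_V(τ)|² = |V|` for an involution `τ ∉ ⟨x⟩` (blueprint §4 (iii)).
-/

set_option autoImplicit false

namespace Cfsg.Agent.Lib.H11.HT

open Cfsg Cfsg.Agent.Lib.H4.HT

variable {q : ℕ} {V : Type*} [AddCommGroup V] [Module (ZMod q) V] {G : Type*} [Group G]

/-- If `τ² = 1`, `2` is invertible and `ρ c` anti-commutes with `ρ τ` for some `c`, then
`|C_V(τ)|² = |V|`. -/
theorem dqh_card_sq [Fact q.Prime] [Finite V] (hq2 : 2 ≠ q) (ρ : G →* (V ≃ₗ[ZMod q] V))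
    (τ c : G) (hτ2 : τ * τ = 1) (hanti : ∀ v, ρ τ (ρ c v) = -ρ c (ρ τ v)) :
    Nat.card {v : V // ρ τ v = v} ^ 2 = Nat.card V := by
  classical
  have hq : q.Prime := Fact.out
  have h2ne : (2 : ZMod q) ≠ 0 := by
    intro h
    have h' : ((2 : ℕ) : ZMod q) = 0 := by exact_mod_cast h
    rw [ZMod.natCast_eq_zero_iff] at h'
    have h1 := Nat.le_of_dvd (by norm_num) h'
    have h2 := hq.two_le
    omega
  have hττ : ∀ v, ρ τ (ρ τ v) = v := by
    intro v
    rw [← rho_mul, hτ2, rho_one]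
  -- `ρ c` swaps the two eigenspaces
  have hle1 : Nat.card {v : V // ρ τ v = v} ≤ Nat.card {v : V // ρ τ v = -v} := by
    refine Nat.card_le_card_of_injective
      (fun v => ⟨ρ c v.1, by rw [hanti, v.2]⟩) ?_
    intro v w hvw
    have h1 : ρ c v.1 = ρ c w.1 := congrArg Subtype.val hvw
    exact Subtype.ext ((ρ c).injective h1)
  have hle2 : Nat.card {v : V // ρ τ v = -v} ≤ Nat.card {v : V // ρ τ v = v} := by
    refine Nat.card_le_card_of_injective
      (fun v => ⟨ρ c v.1, by rw [hanti, v.2, map_neg, neg_neg]⟩) ?_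
    intro v w hvw
    have h1 : ρ c v.1 = ρ c w.1 := congrArg Subtype.val hvw
    exact Subtype.ext ((ρ c).injective h1)
  have heq : Nat.card {v : V // ρ τ v = -v} = Nat.card {v : V // ρ τ v = v} :=
    le_antisymm hle2 hle1
  -- the decomposition `V = V₊ ⊕ V₋`
  have hbij : Function.Bijective
      (fun p : {v : V // ρ τ v = v} × {v : V // ρ τ v = -v} => (p.1.1 + p.2.1 : V)) := by
    constructor
    · rintro ⟨⟨a, ha⟩, ⟨b, hb⟩⟩ ⟨⟨a', ha'⟩, ⟨b', hb'⟩⟩ h
      simp only at h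
      have h2 := congrArg (ρ τ) h
      rw [map_add, map_add, ha, hb, ha', hb'] at h2
      have h3 : (2 : ZMod q) • a = (2 : ZMod q) • a' := by
        rw [two_smul, two_smul]
        calc a + a = (a + b) + (a + -b) := by abel
          _ = (a' + b') + (a' + -b') := by rw [h, h2]
          _ = a' + a' := by abel
      have h4 : a = a' := by
        have := congrArg (fun y => (2 : ZMod q)⁻¹ • y) h3
        simpa [smul_smul, inv_mul_cancel₀ h2ne] using this
      subst h4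
      have h5 : b = b' := add_left_cancel h
      subst h5
      rfl
    · intro v
      refine ⟨(⟨(2 : ZMod q)⁻¹ • (v + ρ τ v), ?_⟩, ⟨(2 : ZMod q)⁻¹ • (v - ρ τ v), ?_⟩), ?_⟩
      · rw [map_smul, map_add, hττ, add_comm]
      · rw [map_smul, map_sub, hττ, ← smul_neg, neg_sub]
      · simp only
        rw [← smul_add]
        have : v + ρ τ v + (v - ρ τ v) = (2 : ZMod q) • v := by rw [two_smul]; abel
        rw [this, smul_smul, inv_mul_cancel₀ h2ne, one_smul]
  have hcard := Nat.card_eq_of_bijective _ hbij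
  rw [Nat.card_prod, heq] at hcard
  rw [← hcard, pow_two]

theorem dq_half [Fact q.Prime] [Finite V] [Finite G] (hq2 : 2 ≠ q) (ρ : G →* (V ≃ₗ[ZMod q] V))
    (hc : CentFpf ρ) (n : ℕ) (hn : 2 ≤ n) (x : G) (hx : orderOf x = 2 ^ n)
    (hG : Nat.card G = 2 ^ (n + 1)) (e : ℕ) (he : e % 4 = 3)
    (hconj : ∀ τ : G, τ ∉ Subgroup.zpowers x → τ * x * τ⁻¹ = x ^ e) (τ : G)
    (hτ : τ ∉ Subgroup.zpowers x) (hτ2 : τ * τ = 1) :
    Nat.card {v : V // ρ τ v = v} ^ 2 = Nat.card V := by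
  classical
  -- the central involution `z`
  obtain ⟨z, hzdef⟩ : ∃ z : G, z = x ^ (2 ^ (n - 1)) := ⟨_, rfl⟩
  have hz2 : z * z = 1 := by
    rw [hzdef, ← pow_add, ← two_mul, ← pow_succ', Nat.sub_add_cancel (by omega), ← hx,
      pow_orderOf_eq_one]
  have hz1 : z ≠ 1 := by
    intro h
    rw [hzdef] at h
    have h1 := orderOf_dvd_of_pow_eq_one h
    rw [hx] at h1
    have h2 := Nat.le_of_dvd (by positivity) h1
    have h3 : 2 ^ (n - 1) < 2 ^ n := Nat.pow_lt_pow_right (by norm_num) (by omega)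
    omega
  have hze : z ^ e = z := by
    obtain ⟨k, hk⟩ : ∃ k, e = 2 * k + 1 := ⟨e / 2, by omega⟩
    rw [hk, pow_add, pow_mul, pow_two, hz2, one_pow, one_mul, pow_one]
  have hzc : z ∈ Subgroup.center G := by
    rw [Subgroup.mem_center_iff]
    intro g
    by_cases hg : g ∈ Subgroup.zpowers x
    · obtain ⟨k, rfl⟩ := hg
      rw [hzdef]
      exact (((Commute.refl x).zpow_left k).pow_right _).eq
    · have h1 := hconj g hg
      have h2 : g * z * g⁻¹ = z := by
        rw [hzdef, ← conj_pow, h1, ← pow_mul, mul_comm, pow_mul, ← hzdef, hze]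
      calc g * z = (g * z * g⁻¹) * g := by group
        _ = z * g := by rw [h2]
  have hzneg : ∀ v, ρ z v = -v := by
    intro v
    have hfix : ρ z (v + ρ z v) = v + ρ z v := by
      rw [map_add, ← rho_mul, hz2, rho_one, add_comm]
    have h0 := hc z hzc hz1 _ hfix
    exact (neg_eq_of_add_eq_zero_right h0).symm
  -- the element `c` of order 4
  obtain ⟨c, hcdef⟩ : ∃ c : G, c = x ^ (2 ^ (n - 2)) := ⟨_, rfl⟩
  have hcc : c * c = z := by
    rw [hcdef, hzdef, ← pow_add, ← two_mul, ← pow_succ']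
    congr 2
    omega
  have hτc : τ * c * τ⁻¹ = c ^ e := by
    rw [hcdef, ← conj_pow, hconj τ hτ, ← pow_mul, ← pow_mul, mul_comm]
  have hc4 : c ^ 4 = 1 := by
    have h1 : c ^ 4 = (c * c) * (c * c) := by
      rw [show (4 : ℕ) = 2 + 2 from rfl, pow_add, pow_two]
    rw [h1, hcc, hz2]
  have hce : c ^ e = c * z := by
    obtain ⟨k, hk⟩ : ∃ k, e = 4 * k + 3 := ⟨e / 4, by omega⟩
    rw [hk, pow_add, pow_mul, hc4, one_pow, one_mul, ← hcc,
      show (3 : ℕ) = 1 + 2 from rfl, pow_add, pow_one, pow_two]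
  have hτc' : τ * c = c * z * τ := by
    calc τ * c = (τ * c * τ⁻¹) * τ := by group
      _ = c * z * τ := by rw [hτc, hce]
  have hanti : ∀ v, ρ τ (ρ c v) = -ρ c (ρ τ v) := by
    intro v
    rw [← rho_mul, hτc', rho_mul, rho_mul, hzneg, map_neg]
  exact dqh_card_sq hq2 ρ τ c hτ2 hanti

end Cfsg.Agent.Lib.H11.HT
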