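import Cfsg.Agent.Lib.H4.HT.Defs
import Cfsg.Prelude.Def_CaseTheorems

/-!
# S3371 piece END (helper11): the endgame `|V| = q²`, `p = 2` (blueprint §3b, `d = 1`).
-/

set_option autoImplicit false

namespace Cfsg.Agent.Lib.H11.HT

open Cfsg Cfsg.Agent.Lib.H4.HT

variable {q : ℕ} {V : Type*} [AddCommGroup V] [Module (ZMod q) V] {G : Type*} [Group G]

/-- the coordinate map `c ↦ c 0 • e₁ + c 1 • e₂` -/
def endPhi (e₁ e₂ : V) : (Fin 2 → ZMod q) →ₗ[ZMod q] V where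
  toFun c := c 0 • e₁ + c 1 • e₂
  map_add' := by
    intro c d
    simp only [Pi.add_apply, add_smul]
    abel
  map_smul' := by
    intro r c
    simp only [Pi.smul_apply, smul_eq_mul, mul_smul, RingHom.id_apply, smul_add]

theorem two_endgame [Fact q.Prime] [Finite V] [Finite G] (hq2 : 2 ≠ q) (ρ : G →* (V ≃ₗ[ZMod q] V))
    (hρ : Function.Injective ρ) (z b : G) (hz : z ∈ Subgroup.center G) (hzneg : ∀ v : V, ρ z v = -v)
    (hb2 : b * b = 1) (hb1 : b ≠ 1) (hconj : ∀ g : G, g * b * g⁻¹ = b ∨ g * b * g⁻¹ = b * z)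
    (hw : ∃ w : V, w ≠ 0 ∧ ρ b w = w) (ht : ∃ t : G, t * b * t⁻¹ = b * z)
    (hstar : ∀ w₁ w₂ : V, w₁ ≠ 0 → w₂ ≠ 0 → ρ b w₁ = w₁ → ρ b w₂ = -w₂ →
      (∃ x : G, x * b * x⁻¹ = b * z ∧ ρ x w₁ = w₂ ∧ ρ x w₂ = w₁) ∧
        2 * Nat.card ↥(stab ρ w₁ ⊓ stab ρ w₂) = Nat.card (stab ρ w₁))
    (hQ : Nat.card {w : V // ρ b w = w} = q) (hV : Nat.card V = q ^ 2) :
    ∃ e : V ≃ₗ[ZMod q] (Fin 2 → ZMod q), ∀ f : (Fin 2 → ZMod q) ≃ₗ[ZMod q] (Fin 2 → ZMod q),
      (∃ g : G, f = e.symm.trans ((ρ g).trans e)) ↔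
      ∃ a s : ZMod q, a ≠ 0 ∧ (s = 1 ∨ s = -1) ∧
        ((∀ v, f v = ![a * v 0, s * a⁻¹ * v 1]) ∨ (∀ v, f v = ![s * a⁻¹ * v 1, a * v 0])) := by
  classical
  have hq : q.Prime := Fact.out
  have : NeZero q := ⟨hq.ne_zero⟩
  have h2ne : (2 : ZMod q) ≠ 0 := by
    intro h
    have h' : ((2 : ℕ) : ZMod q) = 0 := by exact_mod_cast h
    rw [ZMod.natCast_eq_zero_iff] at h'
    have h1 := Nat.le_of_dvd (by norm_num) h'
    have h2 := hq.two_le
    omega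
  obtain ⟨e₁, he₁0, he₁b⟩ := hw
  obtain ⟨t, ht⟩ := ht
  -- commutation of `ρ b` with `ρ g` in the two cases
  have hcomm1 : ∀ g : G, g * b * g⁻¹ = b → ∀ v, ρ b (ρ g v) = ρ g (ρ b v) := by
    intro g hg v
    have h1 : b * g = g * b := by
      calc b * g = (g * b * g⁻¹) * g := by rw [hg]
        _ = g * b := by group
    rw [← rho_mul, h1, rho_mul]
  have hcomm2 : ∀ g : G, g * b * g⁻¹ = b * z → ∀ v, ρ b (ρ g v) = - ρ g (ρ b v) := by
    intro g hg v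
    have h1 : g * b = b * z * g := by rw [← hg]; group
    have h2 : ρ g (ρ b v) = - ρ b (ρ g v) := by
      rw [← rho_mul, h1, rho_mul, rho_mul, hzneg, map_neg]
    rw [h2, neg_neg]
  -- the second basis vector
  set e₂ : V := ρ t e₁ with he₂
  have he₂0 : e₂ ≠ 0 := by
    intro h
    exact he₁0 ((ρ t).injective (h.trans (map_zero (ρ t)).symm))
  have he₂b : ρ b e₂ = -e₂ := by
    rw [he₂, hcomm2 t ht, he₁b]
  -- linear independence
  have hφ0 : ∀ c : Fin 2 → ZMod q, c 0 • e₁ + c 1 • e₂ = 0 → c 0 = 0 ∧ c 1 = 0 := by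
    intro c hc
    have hb := congrArg (ρ b) hc
    rw [map_add, map_smul, map_smul, he₁b, he₂b, map_zero, smul_neg] at hb
    have h2 : (2 : ZMod q) • (c 0 • e₁) = 0 := by
      rw [two_smul]
      calc c 0 • e₁ + c 0 • e₁
          = (c 0 • e₁ + c 1 • e₂) + (c 0 • e₁ + -(c 1 • e₂)) := by abel
        _ = 0 := by rw [hc, hb, add_zero]
    have hc0 : c 0 = 0 := by
      rcases smul_eq_zero.mp h2 with h | h
      · exact absurd h h2ne
      · rcases smul_eq_zero.mp h with h | h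
        · exact h
        · exact absurd h he₁0
    refine ⟨hc0, ?_⟩
    rw [hc0, zero_smul, zero_add] at hc
    rcases smul_eq_zero.mp hc with h | h
    · exact h
    · exact absurd h he₂0
  have hφinj : Function.Injective (endPhi e₁ e₂ : (Fin 2 → ZMod q) →ₗ[ZMod q] V) := by
    rw [← LinearMap.ker_eq_bot, LinearMap.ker_eq_bot']
    intro c hc
    obtain ⟨h0, h1⟩ := hφ0 c hc
    ext i
    fin_cases i
    · exact h0
    · exact h1
  have hφbij : Function.Bijective (endPhi e₁ e₂ : (Fin 2 → ZMod q) →ₗ[ZMod q] V) := by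
    apply Function.Injective.bijective_of_nat_card_le hφinj
    rw [hV, Nat.card_eq_fintype_card, Fintype.card_fun, ZMod.card, Fintype.card_fin]
  set E : (Fin 2 → ZMod q) ≃ₗ[ZMod q] V := LinearEquiv.ofBijective (endPhi e₁ e₂) hφbij with hE
  have hEapp : ∀ c, E c = c 0 • e₁ + c 1 • e₂ := fun c => rfl
  have hmat : ∀ (g : G) (c₁ c₂ : Fin 2 → ZMod q), ρ g e₁ = E c₁ → ρ g e₂ = E c₂ →
      ∀ v, E.symm (ρ g (E v)) = v 0 • c₁ + v 1 • c₂ := by
    intro g c₁ c₂ h1 h2 v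
    rw [LinearEquiv.symm_apply_eq, map_add, map_smul, map_smul, ← h1, ← h2, hEapp v, map_add,
      map_smul, map_smul]
  have hconjapp : ∀ (g : G) v, (E.symm.symm.trans ((ρ g).trans E.symm)) v = E.symm (ρ g (E v)) := by
    intro g v
    simp [LinearEquiv.trans_apply]
  -- eigenvectors of `b`
  have hfix : ∀ v, ρ b v = v → ∃ α : ZMod q, v = α • e₁ := by
    intro v hv
    obtain ⟨c, rfl⟩ := E.surjective v
    refine ⟨c 0, ?_⟩
    rw [hEapp] at hv ⊢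
    rw [map_add, map_smul, map_smul, he₁b, he₂b, smul_neg] at hv
    have hw : c 1 • e₂ = 0 := by
      have h4 : -(c 1 • e₂) = c 1 • e₂ := add_left_cancel hv
      have h5 : (2 : ZMod q) • (c 1 • e₂) = 0 := by
        rw [two_smul]
        nth_rewrite 1 [← h4]
        exact neg_add_cancel _
      exact (smul_eq_zero.mp h5).resolve_left h2ne
    rw [hw, add_zero]
  -- the swapping elements
  have hx : ∀ u : ZMod q, u ≠ 0 →
      ∃ x : G, x * b * x⁻¹ = b * z ∧ ρ x e₁ = u • e₂ ∧ ρ x e₂ = u⁻¹ • e₁ := by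
    intro u hu
    have hue : u • e₂ ≠ 0 := by
      intro h
      rcases smul_eq_zero.mp h with h | h
      · exact hu h
      · exact he₂0 h
    obtain ⟨⟨x, hxb, hx1, hx2⟩, -⟩ :=
      hstar e₁ (u • e₂) he₁0 hue he₁b (by rw [map_smul, he₂b, smul_neg])
    refine ⟨x, hxb, hx1, ?_⟩
    rw [map_smul] at hx2
    rw [← hx2, smul_smul, inv_mul_cancel₀ hu, one_smul]
  -- the stabiliser of `e₁`
  have hst : ∀ g : G, ρ g e₁ = e₁ → g = 1 ∨ g = b := by
    have hbot : stab ρ e₁ ⊓ stab ρ e₂ = ⊥ := by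
      rw [eq_bot_iff]
      intro g hg
      rw [Subgroup.mem_inf, mem_stab, mem_stab] at hg
      rw [Subgroup.mem_bot]
      apply hρ
      apply LinearEquiv.ext
      intro v
      obtain ⟨c, rfl⟩ := E.surjective v
      rw [hEapp, map_add, map_smul, map_smul, hg.1, hg.2, map_one]
      rfl
    have hcard := (hstar e₁ e₂ he₁0 he₂0 he₁b he₂b).2
    rw [hbot, Subgroup.card_bot, mul_one] at hcard
    intro g hg
    by_contra hne
    rw [not_or] at hne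
    have hb_mem : b ∈ stab ρ e₁ := he₁b
    have hg_mem : g ∈ stab ρ e₁ := hg
    obtain ⟨y, hy, hyu⟩ := (Nat.card_eq_two_iff' (1 : stab ρ e₁)).mp hcard.symm
    have h1 := hyu ⟨b, hb_mem⟩ (by intro h; exact hb1 (congrArg Subtype.val h))
    have h2 := hyu ⟨g, hg_mem⟩ (by intro h; exact hne.1 (congrArg Subtype.val h))
    exact hne.2 (congrArg Subtype.val (h2.trans h1.symm))
  -- the diagonal elements
  have hk : ∀ α : ZMod q, α ≠ 0 → ∃ k : G, ρ k e₁ = α • e₁ ∧ ρ k e₂ = α⁻¹ • e₂ := by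
    intro α hα0
    obtain ⟨x1, -, hx11, hx12⟩ := hx 1 one_ne_zero
    obtain ⟨xa, -, hxa1, hxa2⟩ := hx α hα0
    rw [one_smul] at hx11
    rw [inv_one, one_smul] at hx12
    refine ⟨x1 * xa, ?_, ?_⟩
    · rw [rho_mul, hxa1, map_smul, hx12]
    · rw [rho_mul, hxa2, map_smul, hx11]
  have hC : ∀ g : G, g * b * g⁻¹ = b → ∃ α s : ZMod q, α ≠ 0 ∧ (s = 1 ∨ s = -1) ∧
      ρ g e₁ = α • e₁ ∧ ρ g e₂ = (s * α⁻¹) • e₂ := by
    intro g hg
    obtain ⟨α, hα⟩ := hfix (ρ g e₁) (by rw [hcomm1 g hg, he₁b])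
    have hα0 : α ≠ 0 := by
      intro h
      rw [h, zero_smul] at hα
      exact he₁0 ((ρ g).injective (hα.trans (map_zero _).symm))
    obtain ⟨k, hk1, hk2⟩ := hk α hα0
    have hfix1 : ρ (k⁻¹ * g) e₁ = e₁ := by
      rw [rho_mul, hα, ← hk1, rho_inv_apply]
    rcases hst _ hfix1 with h | h
    · have hgk : g = k := by
        have := inv_mul_eq_iff_eq_mul.mp h
        rwa [mul_one] at this
      refine ⟨α, 1, hα0, Or.inl rfl, hα, ?_⟩
      rw [hgk, hk2, one_mul]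
    · have hgk : g = k * b := inv_mul_eq_iff_eq_mul.mp h
      refine ⟨α, -1, hα0, Or.inr rfl, hα, ?_⟩
      rw [hgk, rho_mul, he₂b, map_neg, hk2, neg_one_mul, neg_smul]
  have hC' : ∀ α s : ZMod q, α ≠ 0 → (s = 1 ∨ s = -1) →
      ∃ g : G, ρ g e₁ = α • e₁ ∧ ρ g e₂ = (s * α⁻¹) • e₂ := by
    intro α s hα0 hs
    obtain ⟨k, hk1, hk2⟩ := hk α hα0
    rcases hs with rfl | rfl
    · exact ⟨k, hk1, by rw [hk2, one_mul]⟩
    · refine ⟨k * b, ?_, ?_⟩
      · rw [rho_mul, he₁b, hk1]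
      · rw [rho_mul, he₂b, map_neg, hk2, neg_one_mul, neg_smul]
  have hD : ∀ g : G, g * b * g⁻¹ = b * z → ∃ α s : ZMod q, α ≠ 0 ∧ (s = 1 ∨ s = -1) ∧
      ρ g e₁ = α • e₂ ∧ ρ g e₂ = (s * α⁻¹) • e₁ := by
    intro g hg
    obtain ⟨x1, hx1b, hx11, hx12⟩ := hx 1 one_ne_zero
    rw [one_smul] at hx11
    rw [inv_one, one_smul] at hx12
    have hg' : (x1⁻¹ * g) * b * (x1⁻¹ * g)⁻¹ = b := by
      have h1 : (x1⁻¹ * g) * b * (x1⁻¹ * g)⁻¹ = x1⁻¹ * (g * b * g⁻¹) * x1 := by group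
      rw [h1, hg, ← hx1b]
      group
    obtain ⟨α, s, hα0, hs, h1, h2⟩ := hC _ hg'
    have hgx : ∀ v, ρ g v = ρ x1 (ρ (x1⁻¹ * g) v) := by
      intro v
      rw [← rho_mul, mul_inv_cancel_left]
    refine ⟨α, s, hα0, hs, ?_, ?_⟩
    · rw [hgx, h1, map_smul, hx11]
    · rw [hgx, h2, map_smul, hx12]
  have hD' : ∀ α s : ZMod q, α ≠ 0 → (s = 1 ∨ s = -1) →
      ∃ g : G, ρ g e₁ = α • e₂ ∧ ρ g e₂ = (s * α⁻¹) • e₁ := by
    intro α s hα0 hs
    obtain ⟨xa, -, hxa1, hxa2⟩ := hx α hα0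
    rcases hs with rfl | rfl
    · exact ⟨xa, hxa1, by rw [hxa2, one_mul]⟩
    · refine ⟨xa * b, ?_, ?_⟩
      · rw [rho_mul, he₁b, hxa1]
      · rw [rho_mul, he₂b, map_neg, hxa2, neg_one_mul, neg_smul]
  -- assembly
  refine ⟨E.symm, ?_⟩
  intro f
  constructor
  · rintro ⟨g, rfl⟩
    rcases hconj g with hg | hg
    · obtain ⟨α, s, hα0, hs, h1, h2⟩ := hC g hg
      refine ⟨α, s, hα0, hs, Or.inl ?_⟩
      intro v
      have h3 := hmat g ![α, 0] ![0, s * α⁻¹] (by rw [hEapp, h1]; simp) (by rw [hEapp, h2]; simp) v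
      rw [hconjapp, h3]
      ext i
      fin_cases i <;> simp [mul_comm]
    · obtain ⟨α, s, hα0, hs, h1, h2⟩ := hD g hg
      refine ⟨α, s, hα0, hs, Or.inr ?_⟩
      intro v
      have h3 := hmat g ![0, α] ![s * α⁻¹, 0] (by rw [hEapp, h1]; simp) (by rw [hEapp, h2]; simp) v
      rw [hconjapp, h3]
      ext i
      fin_cases i <;> simp [mul_comm]
  · rintro ⟨a, s, ha0, hs, hf | hf⟩
    · obtain ⟨g, h1, h2⟩ := hC' a s ha0 hs
      refine ⟨g, ?_⟩
      apply LinearEquiv.ext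
      intro v
      have h3 := hmat g ![a, 0] ![0, s * a⁻¹] (by rw [hEapp, h1]; simp) (by rw [hEapp, h2]; simp) v
      rw [hf, hconjapp, h3]
      ext i
      fin_cases i <;> simp [mul_comm]
    · obtain ⟨g, h1, h2⟩ := hD' a s ha0 hs
      refine ⟨g, ?_⟩
      apply LinearEquiv.ext
      intro v
      have h3 := hmat g ![0, a] ![s * a⁻¹, 0] (by rw [hEapp, h1]; simp) (by rw [hEapp, h2]; simp) v
      rw [hf, hconjapp, h3]
      ext i
      fin_cases i <;> simp [mul_comm]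

end Cfsg.Agent.Lib.H11.HT
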