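import Mathlib

/-!
# Involution classes of `PSL_n(q)` (part 1): arithmetic

When is `-1` an `n`-th power in a finite field; the binary form `α² - zβ²` is universal.
-/

set_option autoImplicit false

namespace Cfsg.Agent.Lib.H11.InvCls

variable {F : Type*} [Field F] [Fintype F]

/-- a generator of the unit group raised to half the group order is `-1` -/
theorem gen_pow_half (g : Fˣ) (hg : orderOf g = Fintype.card F - 1) (c : ℕ)
    (hc : 2 * c = Fintype.card F - 1) (hc0 : 0 < c) : ((g ^ c : Fˣ) : F) = -1 := by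
  have h1 : (g ^ c) ^ 2 = 1 := by
    rw [← pow_mul, mul_comm, hc, ← hg, pow_orderOf_eq_one]
  have h2 : g ^ c ≠ 1 := by
    intro h
    have := orderOf_dvd_of_pow_eq_one h
    rw [hg] at this
    have := Nat.le_of_dvd hc0 this
    omega
  have h3 : ((g ^ c : Fˣ) : F) ^ 2 = 1 := by
    rw [← Units.val_pow_eq_pow_val, h1, Units.val_one]
  have h4 : ((g ^ c : Fˣ) : F) ≠ 1 := by
    intro h
    apply h2
    exact Units.ext h
  have h5 : (((g ^ c : Fˣ) : F) - 1) * (((g ^ c : Fˣ) : F) + 1) = 0 := by
    linear_combination h3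
  rcases mul_eq_zero.1 h5 with h | h
  · exact absurd (sub_eq_zero.1 h) h4
  · exact eq_neg_of_add_eq_zero_left h

/-- if the 2-part of `n` is smaller than that of `q - 1` then `-1` is an `n`-th power -/
theorem exists_pow_eq_neg_one (n : ℕ) (hn : n ≠ 0)
    (h : padicValNat 2 n < padicValNat 2 (Fintype.card F - 1)) : ∃ l : F, l ^ n = -1 := by
  classical
  obtain ⟨g, hg⟩ := IsCyclic.exists_generator (α := Fˣ)
  have hord : orderOf g = Fintype.card F - 1 := by
    rw [orderOf_eq_card_of_forall_mem_zpowers hg, Nat.card_eq_fintype_card, Fintype.card_units]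
  set a := padicValNat 2 n with ha
  have hq1 : Fintype.card F - 1 ≠ 0 := by
    intro h0
    rw [h0] at h
    simp at h
  have hdvd : 2 ^ (a + 1) ∣ Fintype.card F - 1 := by
    rw [padicValNat_dvd_iff_le hq1]
    omega
  obtain ⟨c, hc⟩ := hdvd
  have hc0 : 0 < c := by
    rcases Nat.eq_zero_or_pos c with h0 | h0
    · rw [h0, mul_zero] at hc
      exact absurd hc hq1
    · exact h0
  have hhalf : ((g ^ (2 ^ a * c) : Fˣ) : F) = -1 := by
    apply gen_pow_half g hord
    · rw [hc, pow_succ]; ring
    · positivity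
  obtain ⟨k, m, hm, hnk⟩ := Nat.exists_eq_two_pow_mul_odd hn
  have hk : k = a := by
    rw [ha, hnk, padicValNat.mul (by positivity) (by rintro rfl; simp at hm),
      padicValNat.prime_pow, padicValNat.eq_zero_of_not_dvd (by
        intro h2
        have := hm
        rw [← Nat.not_even_iff_odd] at this
        exact this (even_iff_two_dvd.2 h2)), add_zero]
  refine ⟨((g ^ c : Fˣ) : F), ?_⟩
  rw [hnk, hk, pow_mul, ← Units.val_pow_eq_pow_val, ← pow_mul, mul_comm c, hhalf, hm.neg_one_pow]

/-- if the 2-part of `q - 1` is at most that of `n` then `-1` is not an `n`-th power -/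
theorem pow_ne_neg_one (h2 : (2 : F) ≠ 0) (n : ℕ) (hn : n ≠ 0)
    (h : padicValNat 2 (Fintype.card F - 1) ≤ padicValNat 2 n) (l : F) : l ^ n ≠ -1 := by
  intro hl
  have hl0 : l ≠ 0 := by
    intro h0
    rw [h0, zero_pow hn] at hl
    have : (1 : F) = 0 := by linear_combination hl
    exact one_ne_zero this
  have hcard : 1 < Fintype.card F := Fintype.one_lt_card
  have hq1 : Fintype.card F - 1 ≠ 0 := by omega
  obtain ⟨k, m, hm, hqk⟩ := Nat.exists_eq_two_pow_mul_odd hq1
  have hk : k = padicValNat 2 (Fintype.card F - 1) := by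
    rw [hqk, padicValNat.mul (by positivity) (by rintro rfl; simp at hm),
      padicValNat.prime_pow, padicValNat.eq_zero_of_not_dvd (by
        intro h2
        have := hm
        rw [← Nat.not_even_iff_odd] at this
        exact this (even_iff_two_dvd.2 h2)), add_zero]
  have hdvd : 2 ^ k ∣ n := by
    rw [padicValNat_dvd_iff_le hn, hk]
    exact h
  obtain ⟨n', hn'⟩ := hdvd
  have h1 : (l ^ n) ^ m = -1 := by rw [hl, hm.neg_one_pow]
  have h3 : (l ^ n) ^ m = 1 := by
    rw [← pow_mul, hn', mul_right_comm, ← hqk, pow_mul, FiniteField.pow_card_sub_one_eq_one l hl0,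
      one_pow]
  rw [h3] at h1
  apply h2
  linear_combination h1

/-- the binary form `α² - zβ²` represents every element of a finite field -/
theorem exists_norm (z d : F) (hz : z ≠ 0) : ∃ a b : F, a ^ 2 - z * b ^ 2 = d := by
  by_cases h2 : ringChar F = 2
  · obtain ⟨a, ha⟩ := FiniteField.isSquare_of_char_two h2 d
    exact ⟨a, 0, by rw [ha]; ring⟩
  · have hodd : Fintype.card F % 2 = 1 := FiniteField.odd_card_of_char_ne_two h2
    have hf : (Polynomial.X ^ 2 - Polynomial.C d : Polynomial F).degree = 2 :=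
      Polynomial.degree_X_pow_sub_C (by norm_num) d
    have hg : (Polynomial.C (-z) * Polynomial.X ^ 2 : Polynomial F).degree = 2 := by
      rw [Polynomial.degree_C_mul_X_pow 2 (neg_ne_zero.2 hz)]
      rfl
    obtain ⟨a, b, hab⟩ := FiniteField.exists_root_sum_quadratic hf hg hodd
    refine ⟨a, b, ?_⟩
    simp only [Polynomial.eval_sub, Polynomial.eval_pow, Polynomial.eval_X, Polynomial.eval_C,
      Polynomial.eval_mul] at hab
    linear_combination hab

end Cfsg.Agent.Lib.H11.InvCls
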