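import Cfsg.Agent.Lib.H11.SubspMax1

/-!
Maximality of the similarity group of a symplectic form in `SL_n(F)`.
-/

set_option autoImplicit false
set_option linter.unusedSimpArgs false
set_option linter.unusedSectionVars false
set_option linter.unusedVariables false

namespace Cfsg.Agent.Lib.H11.SimMax

open Matrix Module
open Cfsg.Agent.Lib.H28 Cfsg.Agent.Lib.H11.SubspMax

variable {ι : Type} [Fintype ι] [DecidableEq ι] {F : Type*} [Field F]
variable {f : (ι → F) → (ι → F) → F}

section bil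
variable (hb : Cfsg.Geo.IsBilinearForm f)
include hb

theorem f_zero_left (x : ι → F) : f 0 x = 0 := by
  have := hb.smul_left 0 0 x; simpa using this

theorem f_zero_right (x : ι → F) : f x 0 = 0 := by
  have := hb.smul_right 0 x 0; simpa using this

theorem f_neg_left (x y : ι → F) : f (-x) y = - f x y := by
  have := hb.smul_left (-1) x y; simpa using this

theorem f_neg_right (x y : ι → F) : f x (-y) = - f x y := by
  have := hb.smul_right (-1) x y; simpa using this

theorem f_sub_left (x y z : ι → F) : f (x - y) z = f x z - f y z := by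
  rw [sub_eq_add_neg, hb.add_left, f_neg_left hb, ← sub_eq_add_neg]

theorem f_sub_right (x y z : ι → F) : f x (y - z) = f x y - f x z := by
  rw [sub_eq_add_neg, hb.add_right, f_neg_right hb, ← sub_eq_add_neg]

end bil

/-- the functional `x ↦ f x v` -/
noncomputable def fr (hb : Cfsg.Geo.IsBilinearForm f) (v : ι → F) : Dual F (ι → F) where
  toFun x := f x v
  map_add' x y := hb.add_left x y v
  map_smul' c x := by simp [hb.smul_left]

theorem fr_apply (hb : Cfsg.Geo.IsBilinearForm f) (v x : ι → F) : fr hb v x = f x v := rfl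

/-- `v ↦ fr v` as a linear map -/
noncomputable def frL (hb : Cfsg.Geo.IsBilinearForm f) : (ι → F) →ₗ[F] Dual F (ι → F) where
  toFun v := fr hb v
  map_add' v w := by
    apply LinearMap.ext; intro x
    simp [fr_apply, hb.add_right]
  map_smul' c v := by
    apply LinearMap.ext; intro x
    simp [fr_apply, hb.smul_right]

theorem frL_apply (hb : Cfsg.Geo.IsBilinearForm f) (v : ι → F) : frL hb v = fr hb v := rfl

theorem fr_add (hb : Cfsg.Geo.IsBilinearForm f) (v w : ι → F) :
    fr hb (v + w) = fr hb v + fr hb w := (frL hb).map_add v w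

theorem fr_sub (hb : Cfsg.Geo.IsBilinearForm f) (v w : ι → F) :
    fr hb (v - w) = fr hb v - fr hb w := (frL hb).map_sub v w

theorem fr_smul (hb : Cfsg.Geo.IsBilinearForm f) (c : F) (v : ι → F) :
    fr hb (c • v) = c • fr hb v := (frL hb).map_smul c v

section symp
variable (hf : Cfsg.Geo.IsSymplecticForm f)
include hf

theorem frL_injective : Function.Injective (frL hf.bilinear) := by
  rw [← LinearMap.ker_eq_bot, LinearMap.ker_eq_bot']
  intro v hv
  by_contra hne
  obtain ⟨⟨x, hx⟩, -⟩ := hf.nondegenerate v hne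
  apply hx
  have := LinearMap.congr_fun hv x
  simpa [frL_apply, fr_apply] using this

theorem frL_surjective : Function.Surjective (frL hf.bilinear) := by
  have h1 : finrank F (ι → F) = finrank F (Dual F (ι → F)) := (Subspace.dual_finrank_eq).symm
  exact (LinearMap.injective_iff_surjective_of_finrank_eq_finrank h1).1 (frL_injective hf)

theorem exists_fr (φ : Dual F (ι → F)) : ∃ z, φ = fr hf.bilinear z := by
  obtain ⟨z, hz⟩ := frL_surjective hf φ
  exact ⟨z, hz.symm⟩

theorem fr_injective {v w : ι → F} (h : fr hf.bilinear v = fr hf.bilinear w) : v = w :=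
  frL_injective hf h

theorem f_self_fr (v : ι → F) (c : F) : (c • fr hf.bilinear v) v = 0 := by
  simp [fr_apply, hf.alternating]

/-- the symplectic transvection `x ↦ x + (c * f x v) • v` -/
noncomputable def τ (v : ι → F) (c : F) : GL ι F :=
  tvGL (c • fr hf.bilinear v) v (f_self_fr hf v c)

theorem τ_mulVec (v : ι → F) (c : F) (x : ι → F) :
    ((τ hf v c : GL ι F) : Matrix ι ι F) *ᵥ x = x + (c * f x v) • v := by
  unfold τ
  rw [tvGL_mulVec]
  simp [fr_apply]

theorem τ_mem_sl (v : ι → F) (c : F) : τ hf v c ∈ Cfsg.Geo.specialLinear ι F :=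
  tvGL_mem_specialLinear _ _ _

theorem τ_mem_sim (v : ι → F) (c : F) : τ hf v c ∈ Cfsg.Geo.similarityGroup f := by
  refine ⟨1, fun x y => ?_⟩
  rw [τ_mulVec, τ_mulVec, Units.val_one, one_mul]
  rw [hf.bilinear.add_left, hf.bilinear.add_right, hf.bilinear.add_right,
    hf.bilinear.smul_left, hf.bilinear.smul_left, hf.bilinear.smul_right, hf.bilinear.smul_right,
    hf.alternating, hf.skew v y]
  ring

theorem τ_mem (v : ι → F) (c : F) :
    τ hf v c ∈ Cfsg.Geo.similarityGroup f ⊓ Cfsg.Geo.specialLinear ι F :=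
  ⟨τ_mem_sim hf v c, τ_mem_sl hf v c⟩

theorem τ_fix (v : ι → F) (c : F) (x : ι → F) (hx : f x v = 0) :
    ((τ hf v c : GL ι F) : Matrix ι ι F) *ᵥ x = x := by
  rw [τ_mulVec, hx, mul_zero, zero_smul, add_zero]

theorem τ_inv (v : ι → F) (c : F) : (τ hf v c)⁻¹ = τ hf v (-c) := by
  rw [inv_eq_iff_mul_eq_one]
  apply gl_ext
  intro x
  rw [gl_mul_mulVec, τ_mulVec, τ_mulVec, Units.val_one, Matrix.one_mulVec,
    hf.bilinear.add_left, hf.bilinear.smul_left, hf.alternating]
  rw [add_assoc, ← add_smul]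
  have : (-c * f x v + c * (f x v + (-c * f x v) * 0)) = 0 := by ring
  rw [this, zero_smul, add_zero]

theorem exists_common (x y : ι → F) (hx : x ≠ 0) (hy : y ≠ 0) :
    ∃ z, f x z ≠ 0 ∧ f y z ≠ 0 := by
  obtain ⟨-, a, ha⟩ := hf.nondegenerate x hx
  obtain ⟨-, b, hb⟩ := hf.nondegenerate y hy
  by_cases h1 : f y a = 0
  · by_cases h2 : f x b = 0
    · refine ⟨a + b, ?_, ?_⟩
      · rw [hf.bilinear.add_right, h2, add_zero]; exact ha
      · rw [hf.bilinear.add_right, h1, zero_add]; exact hb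
    · exact ⟨b, h2, hb⟩
  · exact ⟨a, ha, h1⟩

theorem move_step (x y : ι → F) (hxy : f x y ≠ 0) :
    ∃ g ∈ Cfsg.Geo.similarityGroup f ⊓ Cfsg.Geo.specialLinear ι F,
      (g : Matrix ι ι F) *ᵥ x = y := by
  refine ⟨τ hf (y - x) (f x y)⁻¹, τ_mem hf _ _, ?_⟩
  rw [τ_mulVec, f_sub_right hf.bilinear, hf.alternating, sub_zero, inv_mul_cancel₀ hxy, one_smul]
  abel

theorem move (x y : ι → F) (hx : x ≠ 0) (hy : y ≠ 0) :
    ∃ g ∈ Cfsg.Geo.similarityGroup f ⊓ Cfsg.Geo.specialLinear ι F,
      (g : Matrix ι ι F) *ᵥ x = y := by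
  obtain ⟨z, hz1, hz2⟩ := exists_common hf x y hx hy
  obtain ⟨g1, hg1, h1⟩ := move_step hf x z hz1
  have hz2' : f z y ≠ 0 := by
    rw [hf.skew]; exact neg_ne_zero.2 hz2
  obtain ⟨g2, hg2, h2⟩ := move_step hf z y hz2'
  refine ⟨g2 * g1, Subgroup.mul_mem _ hg2 hg1, ?_⟩
  rw [gl_mul_mulVec, h1, h2]

end symp

end Cfsg.Agent.Lib.H11.SimMax
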