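import Cfsg.Agent.Lib.H11.PSLGraph14
import Cfsg.Agent.Lib.H11.SimMax1

/-!
# Involution classes of `PSL_n(q)` (part 2): Gram matrices and the transfer lemma

A matrix of determinant one which is a similitude of *some* non-degenerate alternating form, and
whose centraliser contains matrices of every determinant, is `SL_n`-conjugate into the similarity
group of any given symplectic form.
-/

set_option autoImplicit false

namespace Cfsg.Agent.Lib.H11.InvCls

open Matrix Cfsg.Agent.Lib.H11.PSLGraph Cfsg.Agent.Lib.H11.SimMax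

variable {F : Type*} [Field F] {n : ℕ}

/-- the Gram matrix of a bilinear form -/
theorem exists_gram {f : (Fin n → F) → (Fin n → F) → F} (hb : Cfsg.Geo.IsBilinearForm f) :
    ∃ J : Matrix (Fin n) (Fin n) F, f = bf J := by
  refine ⟨LinearMap.BilinForm.toMatrix' (frL hb).flip, ?_⟩
  funext u v
  rw [← toBilin'_eq_bf, Matrix.toBilin'_toMatrix']
  rfl

/-- the Gram matrix of a symplectic form -/
theorem exists_gram_symp {f : (Fin n → F) → (Fin n → F) → F} (hf : Cfsg.Geo.IsSymplecticForm f) :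
    ∃ J : Matrix (Fin n) (Fin n) F, f = bf J ∧ (∀ v, bf J v v = 0) ∧
      ∀ v, (∀ w, bf J v w = 0) → v = 0 := by
  obtain ⟨J, hJ⟩ := exists_gram hf.bilinear
  refine ⟨J, hJ, ?_, ?_⟩
  · intro v
    rw [← hJ]
    exact hf.alternating v
  · intro v hv
    by_contra hne
    obtain ⟨-, ⟨x, hx⟩⟩ := hf.nondegenerate v hne
    apply hx
    rw [hJ]
    exact hv x

/-- non-degenerate alternating matrices of the same even size are congruent (any characteristic) -/
theorem alt_congr_any (m : ℕ) (hnm : n = 2 * m) (A A' : Matrix (Fin n) (Fin n) F)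
    (halt : ∀ v, bf A v v = 0) (hnd : ∀ v, (∀ w, bf A v w = 0) → v = 0)
    (halt' : ∀ v, bf A' v v = 0) (hnd' : ∀ v, (∀ w, bf A' v w = 0) → v = 0) :
    ∃ g : GL (Fin n) F, A = (g : Matrix (Fin n) (Fin n) F)ᵀ * A' * (g : Matrix (Fin n) (Fin n) F) := by
  obtain ⟨e, he⟩ := exists_symp_equiv_alt m hnm A halt hnd
  obtain ⟨e', he'⟩ := exists_symp_equiv_alt m hnm A' halt' hnd'
  apply congr_of_equiv _ _ (e.trans e'.symm)
  intro u v
  rw [← he', LinearEquiv.trans_apply, LinearEquiv.trans_apply, LinearEquiv.apply_symm_apply,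
    LinearEquiv.apply_symm_apply, he]

/-- an invertible matrix gives a non-degenerate form -/
theorem nondeg_of_det (G : Matrix (Fin n) (Fin n) F) (hG : G.det ≠ 0) (v : Fin n → F)
    (h : ∀ w, bf G v w = 0) : v = 0 :=
  bf_nondeg (Matrix.GeneralLinearGroup.mkOfDetNeZero G hG) v h

/-- the coercion of the inverse in `SL_n` -/
theorem sl_inv_coe (P : Matrix.SpecialLinearGroup (Fin n) F) (Pi : Matrix (Fin n) (Fin n) F)
    (h : (P : Matrix (Fin n) (Fin n) F) * Pi = 1) :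
    ((P⁻¹ : Matrix.SpecialLinearGroup (Fin n) F) : Matrix (Fin n) (Fin n) F) = Pi := by
  have h1 : ((P⁻¹ : Matrix.SpecialLinearGroup (Fin n) F) : Matrix (Fin n) (Fin n) F) *
      (P : Matrix (Fin n) (Fin n) F) = 1 := by
    rw [← Matrix.SpecialLinearGroup.coe_mul, inv_mul_cancel, Matrix.SpecialLinearGroup.coe_one]
  calc ((P⁻¹ : Matrix.SpecialLinearGroup (Fin n) F) : Matrix (Fin n) (Fin n) F)
      = ((P⁻¹ : Matrix.SpecialLinearGroup (Fin n) F) : Matrix (Fin n) (Fin n) F) *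
        ((P : Matrix (Fin n) (Fin n) F) * Pi) := by rw [h, Matrix.mul_one]
    _ = Pi := by rw [← Matrix.mul_assoc, h1, Matrix.one_mul]

/-- the transfer lemma -/
theorem exists_conj_mem_sim (m : ℕ) (hnm : n = 2 * m) {f : (Fin n → F) → (Fin n → F) → F}
    (hf : Cfsg.Geo.IsSymplecticForm f) (x : Matrix.SpecialLinearGroup (Fin n) F)
    (G : Matrix (Fin n) (Fin n) F) (halt : ∀ v, bf G v v = 0) (hdet : G.det ≠ 0) (κ : F)
    (hκ : κ ≠ 0)
    (hsim : (x : Matrix (Fin n) (Fin n) F)ᵀ * G * (x : Matrix (Fin n) (Fin n) F) = κ • G)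
    (hcent : ∀ d : F, d ≠ 0 → ∃ C : Matrix (Fin n) (Fin n) F,
      C * (x : Matrix (Fin n) (Fin n) F) = (x : Matrix (Fin n) (Fin n) F) * C ∧ C.det = d) :
    ∃ P : Matrix.SpecialLinearGroup (Fin n) F, P⁻¹ * x * P ∈
      (Cfsg.Geo.similarityGroup f).comap
        (Matrix.SpecialLinearGroup.toGL : Matrix.SpecialLinearGroup (Fin n) F →* GL (Fin n) F) := by
  obtain ⟨J, hJ, hJalt, hJnd⟩ := exists_gram_symp hf
  obtain ⟨R, hR⟩ := alt_congr_any m hnm G J halt (nondeg_of_det G hdet) hJalt hJnd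
  have hRdet : (R : Matrix (Fin n) (Fin n) F).det ≠ 0 := by
    have := (Matrix.GeneralLinearGroup.det R).ne_zero
    rwa [Matrix.GeneralLinearGroup.val_det_apply] at this
  obtain ⟨C, hC, hCdet⟩ := hcent _ hRdet
  have hCu : IsUnit C.det := by rw [hCdet]; exact isUnit_iff_ne_zero.2 hRdet
  set Ri : Matrix (Fin n) (Fin n) F := ((R⁻¹ : GL (Fin n) F) : Matrix (Fin n) (Fin n) F) with hRi
  have hRRi : (R : Matrix (Fin n) (Fin n) F) * Ri = 1 := by
    rw [hRi, ← Units.val_mul, mul_inv_cancel, Units.val_one]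
  have hRiR : Ri * (R : Matrix (Fin n) (Fin n) F) = 1 := by
    rw [hRi, ← Units.val_mul, inv_mul_cancel, Units.val_one]
  have hRidet : Ri.det * (R : Matrix (Fin n) (Fin n) F).det = 1 := by
    rw [← Matrix.det_mul, hRiR, Matrix.det_one]
  have hPdet : (C * Ri).det = 1 := by
    rw [Matrix.det_mul, hCdet, mul_comm]
    exact hRidet
  have hinv : (C * Ri) * ((R : Matrix (Fin n) (Fin n) F) * C⁻¹) = 1 := by
    rw [Matrix.mul_assoc, ← Matrix.mul_assoc Ri, hRiR, Matrix.one_mul, Matrix.mul_nonsing_inv _ hCu]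
  have hCx : C⁻¹ * (x : Matrix (Fin n) (Fin n) F) * C = (x : Matrix (Fin n) (Fin n) F) := by
    rw [Matrix.mul_assoc, ← hC, ← Matrix.mul_assoc, Matrix.nonsing_inv_mul _ hCu, Matrix.one_mul]
  refine ⟨⟨C * Ri, hPdet⟩, ?_⟩
  rw [Subgroup.mem_comap, hJ, mem_sim_bf_iff]
  refine ⟨Units.mk0 κ hκ, ?_⟩
  set P : Matrix.SpecialLinearGroup (Fin n) F := ⟨C * Ri, hPdet⟩ with hP
  have hcoe : ((Matrix.SpecialLinearGroup.toGL (P⁻¹ * x * P) :
      GL (Fin n) F) : Matrix (Fin n) (Fin n) F) =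
      (R : Matrix (Fin n) (Fin n) F) * (x : Matrix (Fin n) (Fin n) F) * Ri := by
    rw [Matrix.SpecialLinearGroup.coe_GL_coe_matrix, Matrix.SpecialLinearGroup.coe_mul,
      Matrix.SpecialLinearGroup.coe_mul,
      sl_inv_coe P ((R : Matrix (Fin n) (Fin n) F) * C⁻¹) hinv]
    show (R : Matrix (Fin n) (Fin n) F) * C⁻¹ * (x : Matrix (Fin n) (Fin n) F) * (C * Ri) = _
    calc (R : Matrix (Fin n) (Fin n) F) * C⁻¹ * (x : Matrix (Fin n) (Fin n) F) * (C * Ri)
        = (R : Matrix (Fin n) (Fin n) F) * (C⁻¹ * (x : Matrix (Fin n) (Fin n) F) * C) * Ri := by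
          simp only [Matrix.mul_assoc]
      _ = _ := by rw [hCx]
  rw [hcoe, Units.val_mk0]
  have hJR : Riᵀ * G * Ri = J := by
    rw [hR]
    calc Riᵀ * ((R : Matrix (Fin n) (Fin n) F)ᵀ * J * (R : Matrix (Fin n) (Fin n) F)) * Ri
        = (Riᵀ * (R : Matrix (Fin n) (Fin n) F)ᵀ) * J * ((R : Matrix (Fin n) (Fin n) F) * Ri) := by
          simp only [Matrix.mul_assoc]
      _ = J := by
          rw [← Matrix.transpose_mul, hRRi, Matrix.transpose_one, Matrix.one_mul, Matrix.mul_one]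
  calc ((R : Matrix (Fin n) (Fin n) F) * (x : Matrix (Fin n) (Fin n) F) * Ri)ᵀ * J *
        ((R : Matrix (Fin n) (Fin n) F) * (x : Matrix (Fin n) (Fin n) F) * Ri)
      = Riᵀ * ((x : Matrix (Fin n) (Fin n) F)ᵀ * ((R : Matrix (Fin n) (Fin n) F)ᵀ * J *
          (R : Matrix (Fin n) (Fin n) F)) * (x : Matrix (Fin n) (Fin n) F)) * Ri := by
        simp only [Matrix.transpose_mul, Matrix.mul_assoc]
    _ = Riᵀ * (κ • G) * Ri := by rw [← hR, hsim]
    _ = κ • J := by rw [Matrix.mul_smul, Matrix.smul_mul, hJR]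

end Cfsg.Agent.Lib.H11.InvCls
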