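import Cfsg.Agent.Lib.H11.InvCls1
import Cfsg.Agent.Lib.H13.InvolLines

/-!
# Involution classes of `PSL_n(q)` (part 3): centralisers contain every determinant

If `x² = z` is a non-zero scalar over a finite field, then the centraliser of `x` in `GL_n`
contains matrices of every non-zero determinant.
-/

set_option autoImplicit false
set_option linter.unusedSectionVars false

namespace Cfsg.Agent.Lib.H11.InvCls

open Matrix Module

section mono

variable {F : Type*} [Field F] {ι : Type} [Fintype ι] [DecidableEq ι]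

/-- the monomial matrix of `(π, c)` -/
def monoM (π : ι → ι) (c : ι → F) : Matrix ι ι F :=
  Matrix.of fun k i => if k = π i then c i else 0

theorem monoM_apply (π : ι → ι) (c : ι → F) (k i : ι) :
    monoM π c k i = if k = π i then c i else 0 := rfl

/-- a diagonal matrix constant on the orbits of `π` commutes with the monomial matrix -/
theorem diag_comm_monoM (π : ι → ι) (c : ι → F) (p : ι → F) (hp : ∀ i, p (π i) = p i) :
    Matrix.diagonal p * monoM π c = monoM π c * Matrix.diagonal p := by
  ext k i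
  rw [Matrix.diagonal_mul, Matrix.mul_diagonal, monoM_apply]
  split_ifs with h
  · rw [h, hp, mul_comm]
  · rw [mul_zero, zero_mul]

theorem centralizer_fixed (π : ι → ι) (hπ : Function.Involutive π) (c : ι → F) (i₀ : ι)
    (hi : π i₀ = i₀) (d : F) :
    ∃ M : Matrix ι ι F, M * monoM π c = monoM π c * M ∧ M.det = d := by
  refine ⟨Matrix.diagonal (Function.update (fun _ => (1 : F)) i₀ d), ?_, ?_⟩
  · apply diag_comm_monoM
    intro i
    by_cases h : i = i₀
    · rw [h, hi]
    · have h' : π i ≠ i₀ := by
        intro h1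
        apply h
        rw [← hπ i, h1, hi]
      rw [Function.update_of_ne h, Function.update_of_ne h']
  · rw [Matrix.det_diagonal, Finset.prod_update_of_mem (Finset.mem_univ _)]
    simp

theorem centralizer_swap (π : ι → ι) (hπ : Function.Involutive π) (c : ι → F) (z : F)
    (hc : ∀ i, c i * c (π i) = z) (i₀ : ι) (hi : π i₀ ≠ i₀) (a b : F) :
    ∃ M : Matrix ι ι F, M * monoM π c = monoM π c * M ∧ M.det = a ^ 2 - z * b ^ 2 := by
  set j₀ := π i₀ with hj
  have hj' : π j₀ = i₀ := hπ i₀
  set p : ι → F := fun i => if i = i₀ ∨ i = j₀ then 1 else 0 with hp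
  have hpπ : ∀ i, p (π i) = p i := by
    intro i
    have h1 : π i = i₀ ↔ i = j₀ := by
      constructor
      · intro h; rw [← hπ i, h]
      · intro h; rw [h, hj']
    have h2 : π i = j₀ ↔ i = i₀ := by
      constructor
      · intro h; rw [← hπ i, h, hj']
      · intro h; rw [h]
    simp only [hp, h1, h2]
    exact if_congr or_comm rfl rfl
  set M' : Matrix ι ι F := (a - 1) • (1 : Matrix ι ι F) + b • monoM π c with hM'
  have hM'c : M' * monoM π c = monoM π c * M' := by
    rw [hM', Matrix.add_mul, Matrix.mul_add, Matrix.smul_mul, Matrix.mul_smul, Matrix.one_mul,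
      Matrix.mul_one, Matrix.smul_mul, Matrix.mul_smul]
  refine ⟨1 + M' * Matrix.diagonal p, ?_, ?_⟩
  · rw [Matrix.add_mul, Matrix.mul_add, Matrix.one_mul, Matrix.mul_one, Matrix.mul_assoc,
      diag_comm_monoM π c p hpπ, ← Matrix.mul_assoc, hM'c, Matrix.mul_assoc]
  · set u : Fin 2 → ι := ![i₀, j₀] with hu
    set U : Matrix ι (Fin 2) F := (1 : Matrix ι ι F).submatrix id u with hU
    have hUU : Matrix.diagonal p = U * Uᵀ := by
      ext i k
      rw [Matrix.mul_apply, Fin.sum_univ_two, Matrix.diagonal_apply]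
      simp only [hU, hu, hp, Matrix.submatrix_apply, Matrix.transpose_apply, Matrix.one_apply, id,
        Matrix.cons_val_zero, Matrix.cons_val_one]
      by_cases h1 : i = i₀ <;> by_cases h2 : k = i₀ <;> by_cases h3 : i = j₀ <;>
        by_cases h4 : k = j₀ <;> simp_all <;>
        first | exact fun h => h2 h.symm | exact fun h => h4 h.symm
    rw [hUU, ← Matrix.mul_assoc, Matrix.det_one_add_mul_comm]
    have hsub : Uᵀ * (M' * U) = M'.submatrix u u := by
      rw [hU, Matrix.transpose_submatrix, Matrix.transpose_one]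
      have h1 := Matrix.mul_submatrix_one (Equiv.refl ι) u M'
      have h2 := Matrix.one_submatrix_mul u (Equiv.refl ι) (M'.submatrix id u)
      simp only [Equiv.coe_refl, Equiv.refl_symm, Function.id_comp] at h1 h2
      rw [h1, h2]
      rfl
    rw [hsub, Matrix.det_fin_two]
    simp only [Matrix.add_apply, Matrix.one_apply_eq, Matrix.submatrix_apply, hu, hM',
      Matrix.smul_apply, Matrix.cons_val_zero, Matrix.cons_val_one, monoM_apply, smul_eq_mul]
    rw [← hj, hj', if_neg (Ne.symm hi), if_neg hi, if_pos rfl, if_pos rfl]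
    have e1 : (1 : Matrix (Fin 2) (Fin 2) F) 0 1 = 0 := by simp
    have e2 : (1 : Matrix (Fin 2) (Fin 2) F) 1 0 = 0 := by simp
    have e3 : (1 : Matrix ι ι F) i₀ j₀ = 0 := Matrix.one_apply_ne (Ne.symm hi)
    have e4 : (1 : Matrix ι ι F) j₀ i₀ = 0 := Matrix.one_apply_ne hi
    rw [e1, e2, e3, e4]
    have := hc i₀
    rw [← hj] at this
    rw [← this]
    ring

end mono

section main

variable {F : Type*} [Field F] [Fintype F] {n : ℕ}

/-- if `x² = z ≠ 0` then the centraliser of `x` contains matrices of every determinant -/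
theorem exists_centralizer_det (hn : 0 < n) (x : Matrix (Fin n) (Fin n) F) (z : F) (hz : z ≠ 0)
    (hx : x * x = z • (1 : Matrix (Fin n) (Fin n) F)) (d : F) :
    ∃ C : Matrix (Fin n) (Fin n) F, C * x = x * C ∧ C.det = d := by
  classical
  set t : (Fin n → F) →ₗ[F] (Fin n → F) := Matrix.toLin' x with ht
  have htt : ∀ v, t (t v) = z • v := by
    intro v
    rw [ht, ← LinearMap.comp_apply, ← Matrix.toLin'_mul, hx, Matrix.toLin'_apply,
      Matrix.smul_mulVec, Matrix.one_mulVec]
  obtain ⟨ι, hι, hdec, b, π, hπ, hb⟩ := Cfsg.Agent.Lib.H13.InvolLines.lines z t htt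
  choose c hc using hb
  have hcc : ∀ i, c i * c (π i) = z := by
    intro i
    have h1 : t (t (b i)) = (c i * c (π i)) • b i := by
      rw [hc i, map_smul, hc (π i), hπ i, smul_smul]
    rw [htt] at h1
    have h2 : (z - c i * c (π i)) • b i = 0 := by rw [sub_smul, h1, sub_self]
    rcases smul_eq_zero.1 h2 with h | h
    · exact (sub_eq_zero.1 h).symm
    · exact absurd h (b.ne_zero i)
  have hX : LinearMap.toMatrix b b t = monoM π c := by
    ext k i
    rw [LinearMap.toMatrix_apply, hc i, map_smul, Basis.repr_self, monoM_apply, Finsupp.smul_apply,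
      Finsupp.single_apply, smul_eq_mul]
    split_ifs with h1 h2 h2
    · rw [mul_one]
    · exact absurd h1.symm h2
    · exact absurd h2.symm h1
    · rw [mul_zero]
  have hne : Nonempty ι := by
    have h1 : Fintype.card ι = n := by
      rw [← Module.finrank_eq_card_basis b, Module.finrank_fintype_fun_eq_card, Fintype.card_fin]
    rw [← Fintype.card_pos_iff, h1]
    exact hn
  obtain ⟨i₀⟩ := hne
  have key : ∃ M : Matrix ι ι F, M * monoM π c = monoM π c * M ∧ M.det = d := by
    by_cases hi : π i₀ = i₀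
    · exact centralizer_fixed π hπ c i₀ hi d
    · obtain ⟨a, b', hab⟩ := exists_norm z d hz
      obtain ⟨M, hM, hdet⟩ := centralizer_swap π hπ c z hcc i₀ hi a b'
      exact ⟨M, hM, by rw [hdet, hab]⟩
  obtain ⟨M, hM, hdet⟩ := key
  set Cl : (Fin n → F) →ₗ[F] (Fin n → F) := Matrix.toLin b b M with hCl
  have hcomm : Cl ∘ₗ t = t ∘ₗ Cl := by
    have h1 : t = Matrix.toLin b b (monoM π c) := by rw [← hX, Matrix.toLin_toMatrix]
    rw [hCl]
    conv_lhs => rw [h1]
    conv_rhs => rw [h1]
    rw [← Matrix.toLin_mul, ← Matrix.toLin_mul, hM]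
  refine ⟨LinearMap.toMatrix' Cl, ?_, ?_⟩
  · have h1 : x = LinearMap.toMatrix' t := by rw [ht, LinearMap.toMatrix'_toLin']
    conv_lhs => rw [h1]
    conv_rhs => rw [h1]
    rw [← LinearMap.toMatrix'_comp, ← LinearMap.toMatrix'_comp, hcomm]
  · rw [LinearMap.det_toMatrix', ← LinearMap.det_toMatrix b, hCl, LinearMap.toMatrix_toLin, hdet]

end main

end Cfsg.Agent.Lib.H11.InvCls
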