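import Cfsg.Agent.Lib.H11.PSLGraph6

/-!
# Involutory graph automorphisms of `PSL_n(F)` (part 7): the three classes for `n` even, `q` odd
-/

set_option autoImplicit false
set_option linter.unusedSectionVars false
set_option linter.unusedSimpArgs false

namespace Cfsg.Agent.Lib.H11.PSLGraph

open Matrix Cfsg.Agent.Lib.H13.AutPSL Cfsg.Agent.Lib.H13

variable {F : Type*} [Field F] {n : ℕ}

section alt

theorem bf_self_of_skew (h2 : (2 : F) ≠ 0) (B : Matrix (Fin n) (Fin n) F) (hB : Bᵀ = -B)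
    (v : Fin n → F) : bf B v v = 0 := by
  have h1 : bf B v v = -bf B v v := by
    unfold bf
    conv_lhs => rw [Matrix.dotProduct_mulVec, ← Matrix.mulVec_transpose, hB, Matrix.neg_mulVec,
      neg_dotProduct, dotProduct_comm]
  have h3 : 2 * bf B v v = 0 := by linear_combination h1
  exact (mul_eq_zero.1 h3).resolve_left h2

theorem bf_nondeg (B : GL (Fin n) F) (v : Fin n → F)
    (h : ∀ w, bf (B : Matrix (Fin n) (Fin n) F) v w = 0) : v = 0 := by
  have h1 : ∀ w, (v ᵥ* (B : Matrix (Fin n) (Fin n) F)) ⬝ᵥ w = 0 := by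
    intro w
    rw [← Matrix.dotProduct_mulVec]
    exact h w
  have h3 : v ᵥ* (B : Matrix (Fin n) (Fin n) F) = 0 := by
    funext i
    have := h1 (Pi.single i 1)
    simpa using this
  have h4 := congrArg (fun x => x ᵥ* ((B⁻¹ : GL (Fin n) F) : Matrix (Fin n) (Fin n) F)) h3
  simp only [Matrix.vecMul_vecMul, Matrix.zero_vecMul] at h4
  rw [gl_mul_inv, Matrix.vecMul_one] at h4
  exact h4

/-- a symplectic coordinate system for a skew-symmetric invertible matrix -/
theorem exists_symp_equiv (h2 : (2 : F) ≠ 0) (m : ℕ) (hnm : n = 2 * m) (B : GL (Fin n) F)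
    (hB : (B : Matrix (Fin n) (Fin n) F)ᵀ = -(B : Matrix (Fin n) (Fin n) F)) :
    ∃ e : (Fin n → F) ≃ₗ[F] (Fin m ⊕ Fin m → F),
      ∀ u v, Cfsg.sympForm m F (e u) (e v) = bf (B : Matrix (Fin n) (Fin n) F) u v := by
  have hbf : ∀ u v, Matrix.toBilin' (B : Matrix (Fin n) (Fin n) F) u v =
      bf (B : Matrix (Fin n) (Fin n) F) u v := fun u v => Matrix.toBilin'_apply' _ u v
  have halt : ∀ v, Matrix.toBilin' (B : Matrix (Fin n) (Fin n) F) v v = 0 := by
    intro v; rw [hbf]; exact bf_self_of_skew h2 _ hB v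
  have hnd : ∀ v, (∀ w, Matrix.toBilin' (B : Matrix (Fin n) (Fin n) F) v w = 0) → v = 0 := by
    intro v hv
    apply bf_nondeg B v
    intro w; rw [← hbf]; exact hv w
  obtain ⟨b, hb⟩ := exists_symp_basis (Matrix.toBilin' (B : Matrix (Fin n) (Fin n) F)) halt hnd
    (m := m) (by rw [Module.finrank_fintype_fun_eq_card, Fintype.card_fin, hnm])
  refine ⟨(b.reindex (Equiv.sumComm _ _)).equivFun, fun u v => ?_⟩
  rw [← hbf]
  exact (sympForm_of_isSymp _ halt b hb u v).symm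

/-- skew-symmetric invertible matrices are congruent -/
theorem alt_congr (h2 : (2 : F) ≠ 0) (m : ℕ) (hnm : n = 2 * m) (B B' : GL (Fin n) F)
    (hB : (B : Matrix (Fin n) (Fin n) F)ᵀ = -(B : Matrix (Fin n) (Fin n) F))
    (hB' : (B' : Matrix (Fin n) (Fin n) F)ᵀ = -(B' : Matrix (Fin n) (Fin n) F)) :
    ∃ g : GL (Fin n) F, (B : Matrix (Fin n) (Fin n) F) =
      (g : Matrix (Fin n) (Fin n) F)ᵀ * (B' : Matrix (Fin n) (Fin n) F) *
        (g : Matrix (Fin n) (Fin n) F) := by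
  obtain ⟨e, he⟩ := exists_symp_equiv h2 m hnm B hB
  obtain ⟨e', he'⟩ := exists_symp_equiv h2 m hnm B' hB'
  apply congr_of_equiv _ _ (e.trans e'.symm)
  intro u v
  rw [← he', LinearEquiv.trans_apply, LinearEquiv.trans_apply, LinearEquiv.apply_symm_apply,
    LinearEquiv.apply_symm_apply, he]

/-- the centraliser of a symplectic-type graph automorphism -/
theorem alt_centralizer (h2 : (2 : F) ≠ 0) (hn : 3 ≤ n) (m : ℕ) (hnm : n = 2 * m)
    (B : GL (Fin n) F)
    (hB : (B : Matrix (Fin n) (Fin n) F)ᵀ = -(B : Matrix (Fin n) (Fin n) F)) :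
    Nonempty (↥(Cfsg.inndiagPSL n F ⊓ Subgroup.centralizer {gamF B}) ≃* Cfsg.PGSp m F) := by
  obtain ⟨E₀⟩ := centralizer_equiv hn B
  obtain ⟨e, he⟩ := exists_symp_equiv h2 m hnm B hB
  have E₁ := projQuotCongr e (Cfsg.Geo.similarityGroup (F := F)
    (bf (B : Matrix (Fin n) (Fin n) F))) (Cfsg.GSp m F)
    (glCongr_mem_sim e _ _ 1 one_ne_zero (fun u v => by rw [he, one_mul]))
  exact ⟨E₀.trans E₁⟩

/-- existence of a skew-symmetric invertible matrix -/
theorem exists_skew (m : ℕ) (hnm : n = 2 * m) :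
    ∃ B : GL (Fin n) F, (B : Matrix (Fin n) (Fin n) F)ᵀ = -(B : Matrix (Fin n) (Fin n) F) := by
  have e₀ : Fin n ≃ Fin m ⊕ Fin m :=
    (finCongr (by rw [hnm]; ring)).trans (finSumFinEquiv (m := m) (n := m)).symm
  have hdet : ((Matrix.J (Fin m) F).submatrix e₀ e₀).det ≠ 0 := by
    rw [Matrix.det_submatrix_equiv_self]
    intro h
    have := Matrix.J_det_mul_J_det (Fin m) F
    rw [h, mul_zero] at this
    exact zero_ne_one this
  refine ⟨Matrix.GeneralLinearGroup.mkOfDetNeZero _ hdet, ?_⟩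
  show ((Matrix.J (Fin m) F).submatrix e₀ e₀)ᵀ = -((Matrix.J (Fin m) F).submatrix e₀ e₀)
  rw [Matrix.transpose_submatrix, Matrix.J_transpose]
  rfl

end alt

section diag

/-- a symmetric invertible matrix with prescribed determinant -/
theorem exists_sym_det (hn : 1 ≤ n) (δ : F) (hδ : δ ≠ 0) :
    ∃ B : GL (Fin n) F, (B : Matrix (Fin n) (Fin n) F)ᵀ = (B : Matrix (Fin n) (Fin n) F) ∧
      (B : Matrix (Fin n) (Fin n) F).det = δ := by
  classical
  let i₀ : Fin n := ⟨0, by omega⟩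
  obtain ⟨D, hD⟩ : ∃ D : Matrix (Fin n) (Fin n) F,
      D = Matrix.diagonal (fun i : Fin n => if i = i₀ then δ else 1) := ⟨_, rfl⟩
  have hdet : D.det = δ := by
    rw [hD, Matrix.det_diagonal, Finset.prod_ite_eq']
    simp
  have hDt : Dᵀ = D := by rw [hD, Matrix.diagonal_transpose]
  exact ⟨Matrix.GeneralLinearGroup.mkOfDetNeZero D (by rw [hdet]; exact hδ), hDt, hdet⟩

end diag

end Cfsg.Agent.Lib.H11.PSLGraph
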