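import Mathlib
import Cfsg.Agent.Lib.H11.OrthReal2
import Cfsg.Agent.Lib.H11.PSLGraph11
import Cfsg.Agent.Lib.H11.PSLGraph7

set_option autoImplicit false
set_option linter.unusedSectionVars false

/-!
# Congruence classes of symmetric and alternating matrices over finite fields of odd characteristic

Two invertible symmetric matrices (on index types of the same size) are congruent iff their
determinants lie in the same square class; two invertible skew-symmetric matrices are always
congruent. Both square classes of symmetric matrices occur on a nonempty index type.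
-/

namespace Cfsg.Agent.Lib.H11.SpCls

open Matrix Cfsg.Agent.Lib.H11.PSLGraph

section chi

variable {F : Type*} [Field F] [Fintype F]

/-- equality of square classes in terms of the quadratic character -/
theorem chi_eq_iff [DecidableEq F] {x y : F} (hx : x ≠ 0) (hy : y ≠ 0) :
    quadraticChar F x = quadraticChar F y ↔ (IsSquare x ↔ IsSquare y) := by
  constructor
  · intro h
    rw [← quadraticChar_one_iff_isSquare hx, ← quadraticChar_one_iff_isSquare hy, h]
  · intro h
    rcases quadraticChar_dichotomy hx with h1 | h1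
    · rw [h1]
      symm
      rw [quadraticChar_one_iff_isSquare hy, ← h, ← quadraticChar_one_iff_isSquare hx]
      exact h1
    · rw [h1]
      symm
      rw [quadraticChar_neg_one_iff_not_isSquare, ← h, ← quadraticChar_neg_one_iff_not_isSquare]
      exact h1

/-- multiplying by a nonzero constant preserves equality of square classes -/
theorem isSquare_mul_iff_of_iff {c x y : F} (hc : c ≠ 0) (hx : x ≠ 0) (hy : y ≠ 0)
    (h : IsSquare x ↔ IsSquare y) : IsSquare (c * x) ↔ IsSquare (c * y) := by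
  classical
  rw [← chi_eq_iff (mul_ne_zero hc hx) (mul_ne_zero hc hy), map_mul, map_mul,
    (chi_eq_iff hx hy).mpr h]

/-- congruent matrices have determinants in the same square class -/
theorem isSquare_det_congr {κ : Type*} [Fintype κ] [DecidableEq κ] (G P : Matrix κ κ F)
    (hP : P.det ≠ 0) : IsSquare (Pᵀ * G * P).det ↔ IsSquare G.det := by
  rw [Matrix.det_mul, Matrix.det_mul, Matrix.det_transpose]
  have : P.det * G.det * P.det = P.det * P.det * G.det := by ring
  rw [this]
  exact Cfsg.Agent.Lib.H13.isSquare_sq_mul_iff _ _ hP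

end chi

section fin

variable {F : Type*} [Field F] [Fintype F] {n : ℕ}

/-- symmetric invertible matrices of the same odd size and discriminant class are congruent -/
theorem sym_congr_odd (h2 : (2 : F) ≠ 0) (m : ℕ) (hnm : n = 2 * m + 1) (B B' : GL (Fin n) F)
    (hB : (B : Matrix (Fin n) (Fin n) F)ᵀ = (B : Matrix (Fin n) (Fin n) F))
    (hB' : (B' : Matrix (Fin n) (Fin n) F)ᵀ = (B' : Matrix (Fin n) (Fin n) F))
    (hd : IsSquare (B : Matrix (Fin n) (Fin n) F).det ↔
      IsSquare (B' : Matrix (Fin n) (Fin n) F).det) :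
    ∃ g gi : Matrix (Fin n) (Fin n) F, g * gi = 1 ∧ gi * g = 1 ∧
      (B : Matrix (Fin n) (Fin n) F) = gᵀ * (B' : Matrix (Fin n) (Fin n) F) * g := by
  classical
  have hdet : ∀ C : GL (Fin n) F, (C : Matrix (Fin n) (Fin n) F).det ≠ 0 := by
    intro C
    have := (Matrix.GeneralLinearGroup.det C).ne_zero
    rwa [Matrix.GeneralLinearGroup.val_det_apply] at this
  have hcard : Fintype.card (Fin n) = 2 * m + 1 := by rw [Fintype.card_fin, hnm]
  obtain ⟨e, d, hd0, he⟩ := exists_odd_form (qfB (B : Matrix (Fin n) (Fin n) F))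
    (nondeg_qfB h2 B hB) m hcard
  obtain ⟨e', d', hd0', he'⟩ := exists_odd_form (qfB (B' : Matrix (Fin n) (Fin n) F))
    (nondeg_qfB h2 B' hB') m hcard
  obtain ⟨φ, hφ⟩ : ∃ φ : (Fin n → F) ≃ₗ[F] (Fin n → F), φ = e.trans e'.symm := ⟨_, rfl⟩
  obtain ⟨a, ha⟩ : ∃ a : F, a = d / d' := ⟨_, rfl⟩
  have ha0 : a ≠ 0 := by rw [ha]; exact div_ne_zero hd0 hd0'
  have hq : ∀ v, qfB (B : Matrix (Fin n) (Fin n) F) v =
      a * qfB (B' : Matrix (Fin n) (Fin n) F) (φ v) := by
    intro v
    rw [he, he', hφ, LinearEquiv.trans_apply, LinearEquiv.apply_symm_apply, ha]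
    field_simp
  have hbf : ∀ u v, bf (B : Matrix (Fin n) (Fin n) F) u v =
      a * bf (B' : Matrix (Fin n) (Fin n) F) (φ u) (φ v) := by
    intro u v
    rw [bf_of_qfB h2 _ hB, bf_of_qfB h2 _ hB', ← map_add, hq, hq, hq]
    ring
  have hBeq : (B : Matrix (Fin n) (Fin n) F) =
      a • ((matE φ)ᵀ * (B' : Matrix (Fin n) (Fin n) F) * matE φ) := by
    apply bf_ext
    intro u v
    rw [bf_smul, ← bf_mulVec, matE_mulVec, matE_mulVec, hbf]
  have hΦ : (matE φ).det ≠ 0 := by
    intro h
    have := congrArg Matrix.det (matE_mul_symm φ)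
    rw [Matrix.det_mul, h, zero_mul, Matrix.det_one] at this
    exact zero_ne_one this
  have hdetB : (B : Matrix (Fin n) (Fin n) F).det =
      a ^ n * ((matE φ).det ^ 2 * (B' : Matrix (Fin n) (Fin n) F).det) := by
    conv_lhs => rw [hBeq]
    rw [Matrix.det_smul, Fintype.card_fin, Matrix.det_mul, Matrix.det_mul, Matrix.det_transpose]
    ring
  have hsq : IsSquare a := by
    rw [← quadraticChar_one_iff_isSquare ha0]
    have h1 := (chi_eq_iff (hdet B) (hdet B')).mpr hd
    rw [hdetB, map_mul, map_mul, map_pow, map_pow, quadraticChar_sq_one hΦ, one_mul] at h1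
    have h3 : quadraticChar F (B' : Matrix (Fin n) (Fin n) F).det ≠ 0 := by
      rcases quadraticChar_dichotomy (hdet B') with h | h <;> rw [h] <;> norm_num
    have h4 : quadraticChar F a ^ n = 1 := by
      have h5 : (quadraticChar F a ^ n - 1) * quadraticChar F (B' : Matrix (Fin n) (Fin n) F).det
          = 0 := by linear_combination h1
      rcases mul_eq_zero.mp h5 with h | h
      · linarith
      · exact absurd h h3
    rcases quadraticChar_dichotomy ha0 with h | h
    · exact h
    · rw [h, hnm, Odd.neg_one_pow ⟨m, rfl⟩] at h4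
      norm_num at h4
  obtain ⟨c, hc⟩ := hsq
  have hc0 : c ≠ 0 := by
    rintro rfl
    rw [mul_zero] at hc
    exact ha0 hc
  refine ⟨c • matE φ, c⁻¹ • matE φ.symm, ?_, ?_, ?_⟩
  · rw [Matrix.smul_mul, Matrix.mul_smul, matE_mul_symm, smul_smul, mul_inv_cancel₀ hc0, one_smul]
  · rw [Matrix.smul_mul, Matrix.mul_smul, matE_symm_mul, smul_smul, inv_mul_cancel₀ hc0, one_smul]
  · rw [Matrix.transpose_smul, Matrix.smul_mul, Matrix.smul_mul, Matrix.mul_smul, smul_smul, ← hc]
    exact hBeq

end fin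

section het

variable {F : Type*} [Field F] [Fintype F] {ι ι' : Type} [Fintype ι] [DecidableEq ι] [Fintype ι']
  [DecidableEq ι']

/-- transport of a congruence between reindexed matrices -/
theorem congr_of_reindex {n : ℕ} (ε : ι ≃ Fin n) (ε' : ι' ≃ Fin n) (G : Matrix ι ι F)
    (G' : Matrix ι' ι' F) (g gi : Matrix (Fin n) (Fin n) F) (h1 : g * gi = 1) (h2 : gi * g = 1)
    (h : Matrix.reindex ε ε G = gᵀ * Matrix.reindex ε' ε' G' * g) :
    ∃ (P : Matrix ι' ι F) (Pi : Matrix ι ι' F), P * Pi = 1 ∧ Pi * P = 1 ∧ G = Pᵀ * G' * P := by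
  refine ⟨g.submatrix ε' ε, gi.submatrix ε ε', ?_, ?_, ?_⟩
  · rw [Matrix.submatrix_mul_equiv, h1, Matrix.submatrix_one_equiv]
  · rw [Matrix.submatrix_mul_equiv, h2, Matrix.submatrix_one_equiv]
  · have e1 : G = (Matrix.reindex ε ε G).submatrix ε ε := by
      ext i j
      simp
    have e2 : G' = (Matrix.reindex ε' ε' G').submatrix ε' ε' := by
      ext i j
      simp
    rw [e1, h, Matrix.transpose_submatrix]
    conv_rhs => rw [e2]
    rw [Matrix.submatrix_mul_equiv, Matrix.submatrix_mul_equiv]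

theorem reindex_transpose_eq {n : ℕ} (ε : ι ≃ Fin n) (G : Matrix ι ι F) (c : F)
    (hG : Gᵀ = c • G) : (Matrix.reindex ε ε G)ᵀ = c • Matrix.reindex ε ε G := by
  ext i j
  simp only [Matrix.transpose_apply, Matrix.reindex_apply, Matrix.submatrix_apply,
    Matrix.smul_apply]
  exact congrFun (congrFun hG _) _

/-- symmetric invertible matrices of the same size and discriminant class are congruent -/
theorem congr_sym (h2 : (2 : F) ≠ 0) (hι : Fintype.card ι = Fintype.card ι') (G : Matrix ι ι F)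
    (G' : Matrix ι' ι' F) (hG : Gᵀ = G) (hG' : G'ᵀ = G') (hdet : G.det ≠ 0) (hdet' : G'.det ≠ 0)
    (hd : IsSquare G.det ↔ IsSquare G'.det) :
    ∃ (P : Matrix ι' ι F) (Pi : Matrix ι ι' F), P * Pi = 1 ∧ Pi * P = 1 ∧ G = Pᵀ * G' * P := by
  rcases Nat.even_or_odd' (Fintype.card ι) with ⟨m, hm | hm⟩
  · exact Cfsg.Agent.Lib.H11.OrthReal.congr_even h2 m hm (by rw [← hι, hm]) G G' hG hG' hdet hdet'
      (isSquare_mul_iff_of_iff (pow_ne_zero _ (neg_ne_zero.2 one_ne_zero)) hdet hdet' hd)
  · let ε : ι ≃ Fin (2 * m + 1) := (Fintype.equivFin ι).trans (finCongr hm)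
    let ε' : ι' ≃ Fin (2 * m + 1) := (Fintype.equivFin ι').trans (finCongr (by rw [← hι, hm]))
    have hBdet : (Matrix.reindex ε ε G).det = G.det := Matrix.det_reindex_self _ _
    have hB'det : (Matrix.reindex ε' ε' G').det = G'.det := Matrix.det_reindex_self _ _
    have hBt : (Matrix.reindex ε ε G)ᵀ = Matrix.reindex ε ε G := by
      have := reindex_transpose_eq ε G 1 (by rw [one_smul]; exact hG)
      rwa [one_smul] at this
    have hB't : (Matrix.reindex ε' ε' G')ᵀ = Matrix.reindex ε' ε' G' := by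
      have := reindex_transpose_eq ε' G' 1 (by rw [one_smul]; exact hG')
      rwa [one_smul] at this
    obtain ⟨g, gi, hg1, hg2, hg⟩ := sym_congr_odd h2 m rfl
      (Matrix.GeneralLinearGroup.mkOfDetNeZero (Matrix.reindex ε ε G) (by rw [hBdet]; exact hdet))
      (Matrix.GeneralLinearGroup.mkOfDetNeZero (Matrix.reindex ε' ε' G')
        (by rw [hB'det]; exact hdet')) hBt hB't (by
        change IsSquare (Matrix.reindex ε ε G).det ↔ IsSquare (Matrix.reindex ε' ε' G').det
        rw [hBdet, hB'det]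
        exact hd)
    exact congr_of_reindex ε ε' G G' g gi hg1 hg2 hg

/-- an invertible skew-symmetric matrix has even size -/
theorem even_card_of_skew (h2 : (2 : F) ≠ 0) (G : Matrix ι ι F) (hG : Gᵀ = -G) (hdet : G.det ≠ 0) :
    Even (Fintype.card ι) := by
  by_contra hodd
  rw [Nat.not_even_iff_odd] at hodd
  have h1 : G.det = -G.det := by
    conv_lhs => rw [← Matrix.det_transpose, hG, Matrix.det_neg, hodd.neg_one_pow]
    ring
  have h3 : 2 * G.det = 0 := by linear_combination h1
  exact hdet ((mul_eq_zero.1 h3).resolve_left h2)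

/-- invertible skew-symmetric matrices of the same size are congruent -/
theorem congr_alt (h2 : (2 : F) ≠ 0) (hι : Fintype.card ι = Fintype.card ι') (G : Matrix ι ι F)
    (G' : Matrix ι' ι' F) (hG : Gᵀ = -G) (hG' : G'ᵀ = -G') (hdet : G.det ≠ 0)
    (hdet' : G'.det ≠ 0) :
    ∃ (P : Matrix ι' ι F) (Pi : Matrix ι ι' F), P * Pi = 1 ∧ Pi * P = 1 ∧ G = Pᵀ * G' * P := by
  obtain ⟨m, hm⟩ := even_card_of_skew h2 G hG hdet
  have hm' : Fintype.card ι = 2 * m := by rw [hm]; ring
  let ε : ι ≃ Fin (2 * m) := (Fintype.equivFin ι).trans (finCongr hm')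
  let ε' : ι' ≃ Fin (2 * m) := (Fintype.equivFin ι').trans (finCongr (by rw [← hι, hm']))
  have hBdet : (Matrix.reindex ε ε G).det = G.det := Matrix.det_reindex_self _ _
  have hB'det : (Matrix.reindex ε' ε' G').det = G'.det := Matrix.det_reindex_self _ _
  have hBt : (Matrix.reindex ε ε G)ᵀ = -Matrix.reindex ε ε G := by
    have := reindex_transpose_eq ε G (-1) (by rw [neg_one_smul]; exact hG)
    rwa [neg_one_smul] at this
  have hB't : (Matrix.reindex ε' ε' G')ᵀ = -Matrix.reindex ε' ε' G' := by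
    have := reindex_transpose_eq ε' G' (-1) (by rw [neg_one_smul]; exact hG')
    rwa [neg_one_smul] at this
  obtain ⟨g, hg⟩ := alt_congr h2 m rfl
    (Matrix.GeneralLinearGroup.mkOfDetNeZero (Matrix.reindex ε ε G) (by rw [hBdet]; exact hdet))
    (Matrix.GeneralLinearGroup.mkOfDetNeZero (Matrix.reindex ε' ε' G')
      (by rw [hB'det]; exact hdet')) hBt hB't
  refine congr_of_reindex ε ε' G G' (g : Matrix (Fin (2 * m)) (Fin (2 * m)) F)
    ((g⁻¹ : GL (Fin (2 * m)) F) : Matrix (Fin (2 * m)) (Fin (2 * m)) F) ?_ ?_ hg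
  · rw [← Units.val_mul, mul_inv_cancel, Units.val_one]
  · rw [← Units.val_mul, inv_mul_cancel, Units.val_one]

/-- a symmetric invertible matrix in a prescribed square class -/
theorem exists_sym_class (h2 : (2 : F) ≠ 0) [Nonempty ι] (b : Prop) :
    ∃ G : Matrix ι ι F, Gᵀ = G ∧ G.det ≠ 0 ∧ (IsSquare G.det ↔ b) := by
  classical
  have hchar : ringChar F ≠ 2 := by
    intro h
    have := ringChar.Nat.cast_ringChar (R := F)
    rw [h] at this
    exact h2 (by exact_mod_cast this)
  obtain ⟨δ, hδ0, hδ⟩ : ∃ δ : F, δ ≠ 0 ∧ (IsSquare δ ↔ b) := by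
    by_cases hb : b
    · exact ⟨1, one_ne_zero, ⟨fun _ => hb, fun _ => ⟨1, by ring⟩⟩⟩
    · obtain ⟨a, ha⟩ := FiniteField.exists_nonsquare hchar
      refine ⟨a, ?_, ⟨fun h => absurd h ha, fun h => absurd h hb⟩⟩
      rintro rfl
      exact ha ⟨0, by ring⟩
  obtain ⟨i₀⟩ := (inferInstance : Nonempty ι)
  have hdet : (Matrix.diagonal (fun i : ι => if i = i₀ then δ else 1)).det = δ := by
    rw [Matrix.det_diagonal, Finset.prod_ite_eq']
    simp
  refine ⟨Matrix.diagonal (fun i : ι => if i = i₀ then δ else 1), Matrix.diagonal_transpose _, ?_,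
    ?_⟩
  · rw [hdet]; exact hδ0
  · rw [hdet]; exact hδ

/-- an invertible skew-symmetric matrix on an index type of even size -/
theorem exists_alt (hι : Even (Fintype.card ι)) :
    ∃ G : Matrix ι ι F, Gᵀ = -G ∧ G.det ≠ 0 := by
  obtain ⟨m, hm⟩ := hι
  have hm' : Fintype.card ι = 2 * m := by rw [hm]; ring
  let ε : ι ≃ Fin (2 * m) := (Fintype.equivFin ι).trans (finCongr hm')
  obtain ⟨B, hB⟩ := exists_skew (F := F) (n := 2 * m) m rfl
  refine ⟨(B : Matrix (Fin (2 * m)) (Fin (2 * m)) F).submatrix ε ε, ?_, ?_⟩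
  · rw [Matrix.transpose_submatrix, hB]
    rfl
  · rw [Matrix.det_submatrix_equiv_self]
    have := (Matrix.GeneralLinearGroup.det B).ne_zero
    rwa [Matrix.GeneralLinearGroup.val_det_apply] at this

end het

end Cfsg.Agent.Lib.H11.SpCls
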