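import Cfsg.Agent.Lib.H11.InvCls2
import Cfsg.Agent.Lib.H11.SpType2
import Cfsg.Agent.Lib.H11.SpCls3
import Cfsg.Agent.Lib.H13.InvolConjLin

/-!
# Involution classes of `PSL_n(q)` (part 4): invariant alternating forms

A matrix `x` with `x² = z` scalar is a similitude of a non-degenerate alternating form in each of
the three cases: `z` a non-square; `z = l²` in characteristic two; `z = l²` in odd characteristic
with both eigenspaces of even dimension.
-/

set_option autoImplicit false
set_option linter.unusedSectionVars false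

namespace Cfsg.Agent.Lib.H11.InvCls

open Matrix Module Cfsg.Agent.Lib.H11.PSLGraph Cfsg.Agent.Lib.H11.Jordan

variable {F : Type*} [Field F] {n : ℕ}

theorem submatrix_smul' {ι κ : Type*} (r : F) (A : Matrix ι ι F) (f g : κ → ι) :
    (r • A).submatrix f g = r • A.submatrix f g := rfl

/-- transport of an invariant form along a conjugation and a reindexing -/
theorem form_of_conj {ι : Type} [Fintype ι] [DecidableEq ι] (e : Fin n ≃ ι)
    (x P Pi : Matrix (Fin n) (Fin n) F) (x₀ G₀ : Matrix ι ι F) (κ : F)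
    (halt : ∀ v : ι → F, v ⬝ᵥ G₀ *ᵥ v = 0) (hdet : G₀.det ≠ 0)
    (hsim : x₀ᵀ * G₀ * x₀ = κ • G₀) (hP : P * Pi = 1)
    (hconj : P * x = x₀.submatrix e e * P) :
    ∃ G : Matrix (Fin n) (Fin n) F, (∀ v, bf G v v = 0) ∧ G.det ≠ 0 ∧ xᵀ * G * x = κ • G := by
  refine ⟨Pᵀ * G₀.submatrix e e * P, ?_, ?_, ?_⟩
  · intro v
    rw [← bf_mulVec]
    unfold bf
    rw [Matrix.submatrix_mulVec_equiv, ← comp_equiv_symm_dotProduct]
    exact halt _
  · have hPdet : P.det ≠ 0 := by
      intro h
      have := congrArg Matrix.det hP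
      rw [Matrix.det_mul, h, zero_mul, Matrix.det_one] at this
      exact zero_ne_one this
    rw [Matrix.det_mul, Matrix.det_mul, Matrix.det_transpose, Matrix.det_submatrix_equiv_self]
    exact mul_ne_zero (mul_ne_zero hPdet hdet) hPdet
  · calc xᵀ * (Pᵀ * G₀.submatrix e e * P) * x = (P * x)ᵀ * G₀.submatrix e e * (P * x) := by
          simp only [Matrix.transpose_mul, Matrix.mul_assoc]
      _ = Pᵀ * ((x₀ᵀ * G₀ * x₀).submatrix e e) * P := by
          rw [hconj, ← Matrix.submatrix_mul_equiv _ _ e e e, ← Matrix.submatrix_mul_equiv _ _ e e e,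
            ← Matrix.transpose_submatrix]
          simp only [Matrix.transpose_mul, Matrix.mul_assoc]
      _ = κ • (Pᵀ * G₀.submatrix e e * P) := by
          rw [hsim, submatrix_smul', Matrix.mul_smul, Matrix.smul_mul]

/-- a conjugating linear equivalence gives a conjugating matrix -/
theorem mat_of_conj (x y : Matrix (Fin n) (Fin n) F) (g : (Fin n → F) ≃ₗ[F] (Fin n → F))
    (hg : ∀ v, g (Matrix.toLin' x v) = Matrix.toLin' y (g v)) :
    ∃ P Pi : Matrix (Fin n) (Fin n) F, P * Pi = 1 ∧ P * x = y * P := by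
  refine ⟨matE g, matE g.symm, matE_mul_symm g, ?_⟩
  apply mat_ext_mulVec
  intro v
  rw [← Matrix.mulVec_mulVec, ← Matrix.mulVec_mulVec, matE_mulVec, matE_mulVec]
  have := hg v
  rw [Matrix.toLin'_apply, Matrix.toLin'_apply] at this
  exact this

/-- skew-symmetric matrices are alternating in odd characteristic -/
theorem alt_of_skew {ι : Type} [Fintype ι] [DecidableEq ι] (h2 : (2 : F) ≠ 0) (G : Matrix ι ι F)
    (hG : Gᵀ = -G) (v : ι → F) : v ⬝ᵥ G *ᵥ v = 0 := by
  have h1 : v ⬝ᵥ G *ᵥ v = -(v ⬝ᵥ G *ᵥ v) := by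
    conv_lhs => rw [Matrix.dotProduct_mulVec, ← Matrix.mulVec_transpose, hG, Matrix.neg_mulVec,
      neg_dotProduct, dotProduct_comm]
  have h3 : 2 * (v ⬝ᵥ G *ᵥ v) = 0 := by linear_combination h1
  exact (mul_eq_zero.1 h3).resolve_left h2

/-- a map with non-square scalar square has no eigenvectors -/
theorem no_eigen {V : Type*} [AddCommGroup V] [Module F V] (z : F) (hz : ¬ IsSquare z)
    (t : V →ₗ[F] V) (ht : ∀ v, t (t v) = z • v) (v : V) (hv : v ≠ 0) :
    t v ∉ Submodule.span F {v} := by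
  intro hmem
  obtain ⟨c, hc⟩ := Submodule.mem_span_singleton.1 hmem
  apply hz
  refine ⟨c, ?_⟩
  have h1 : t (t v) = (c * c) • v := by rw [← hc, map_smul, ← hc, smul_smul]
  rw [ht] at h1
  have h2 : (z - c * c) • v = 0 := by rw [sub_smul, h1, sub_self]
  rcases smul_eq_zero.1 h2 with h | h
  · exact sub_eq_zero.1 h
  · exact absurd h hv

/-- case B: non-square scalar square -/
theorem form_nonsquare (m : ℕ) (hnm : n = 2 * m) (x : Matrix (Fin n) (Fin n) F) (z : F)
    (hx : x * x = z • (1 : Matrix (Fin n) (Fin n) F)) (hz : ¬ IsSquare z) :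
    ∃ (G : Matrix (Fin n) (Fin n) F) (κ : F), κ ≠ 0 ∧ (∀ v, bf G v v = 0) ∧ G.det ≠ 0 ∧
      xᵀ * G * x = κ • G := by
  have hz0 : z ≠ 0 := by
    rintro rfl
    exact hz ⟨0, by simp⟩
  let e : Fin n ≃ Fin m ⊕ Fin m :=
    (finCongr (by rw [hnm]; ring)).trans (finSumFinEquiv (m := m) (n := m)).symm
  set x₀ : Matrix (Fin m ⊕ Fin m) (Fin m ⊕ Fin m) F :=
    Matrix.fromBlocks 0 (z • (1 : Matrix (Fin m) (Fin m) F)) 1 0 with hx₀
  have hx₀2 : x₀ * x₀ = z • (1 : Matrix (Fin m ⊕ Fin m) (Fin m ⊕ Fin m) F) := by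
    rw [hx₀, Matrix.fromBlocks_multiply, ← Matrix.fromBlocks_one, Matrix.fromBlocks_smul]
    simp
  have hy2 : x₀.submatrix e e * x₀.submatrix e e = z • (1 : Matrix (Fin n) (Fin n) F) := by
    rw [Matrix.submatrix_mul_equiv, hx₀2, submatrix_smul', Matrix.submatrix_one_equiv]
  have ht : ∀ v, Matrix.toLin' x (Matrix.toLin' x v) = z • v := by
    intro v
    rw [← LinearMap.comp_apply, ← Matrix.toLin'_mul, hx, Matrix.toLin'_apply,
      Matrix.smul_mulVec, Matrix.one_mulVec]
  have ht' : ∀ v, Matrix.toLin' (x₀.submatrix e e) (Matrix.toLin' (x₀.submatrix e e) v) =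
      z • v := by
    intro v
    rw [← LinearMap.comp_apply, ← Matrix.toLin'_mul, hy2, Matrix.toLin'_apply,
      Matrix.smul_mulVec, Matrix.one_mulVec]
  obtain ⟨g, hg⟩ := Cfsg.Agent.Lib.H13.InvolConjLin.conj_of_no_eigen z _ _ ht ht'
    (no_eigen z hz _ ht) (no_eigen z hz _ ht')
  obtain ⟨P, Pi, hP, hconj⟩ := mat_of_conj x (x₀.submatrix e e) g hg
  have hsim : x₀ᵀ * Matrix.J (Fin m) F * x₀ = (-z) • Matrix.J (Fin m) F := by
    rw [hx₀, Matrix.J, Matrix.fromBlocks_transpose, Matrix.fromBlocks_multiply,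
      Matrix.fromBlocks_multiply, Matrix.fromBlocks_smul]
    simp
  have hJdet : (Matrix.J (Fin m) F).det ≠ 0 := by
    intro h
    have := Matrix.J_det_mul_J_det (Fin m) F
    rw [h, mul_zero] at this
    exact zero_ne_one this
  obtain ⟨G, h1, h2, h3⟩ := form_of_conj e x P Pi x₀ (Matrix.J (Fin m) F) (-z)
    (fun v => J_alt v) hJdet hsim hP hconj
  exact ⟨G, -z, neg_ne_zero.2 hz0, h1, h2, h3⟩

/-- case C: characteristic two -/
theorem form_char_two (h2 : (2 : F) = 0) (m : ℕ) (hnm : n = 2 * m)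
    (x : Matrix (Fin n) (Fin n) F) (l : F) (hl : l ≠ 0)
    (hx : x * x = (l * l) • (1 : Matrix (Fin n) (Fin n) F)) :
    ∃ (G : Matrix (Fin n) (Fin n) F) (κ : F), κ ≠ 0 ∧ (∀ v, bf G v v = 0) ∧ G.det ≠ 0 ∧
      xᵀ * G * x = κ • G := by
  set u : Matrix (Fin n) (Fin n) F := l⁻¹ • x with hu
  have huu : u * u = 1 := by
    rw [hu, Matrix.smul_mul, Matrix.mul_smul, hx, smul_smul, smul_smul]
    have : l⁻¹ * l⁻¹ * (l * l) = 1 := by field_simp
    rw [this, one_smul]
  have h2M : ∀ M : Matrix (Fin n) (Fin n) F, M + M = 0 := by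
    intro M
    rw [← two_smul F M, h2, zero_smul]
  have hN : (u - 1) * (u - 1) = 0 := by
    rw [Matrix.sub_mul, Matrix.mul_sub, Matrix.mul_sub, huu, Matrix.mul_one, Matrix.one_mul,
      Matrix.mul_one]
    have := h2M (1 - u)
    rw [← this]
    abel
  set s := (u - 1).rank with hs
  have hs2 : 2 * s ≤ n := by
    have := Matrix.rank_add_rank_le_card_of_mul_eq_zero hN
    rw [Fintype.card_fin] at this
    omega
  set μ : Multiset ℕ := Multiset.replicate s 2 + Multiset.replicate (n - 2 * s) 1 with hμ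
  have hpos : ∀ a ∈ μ, 0 < a := by
    intro a ha
    rw [hμ, Multiset.mem_add] at ha
    rcases ha with ha | ha
    · rw [Multiset.eq_of_mem_replicate ha]; norm_num
    · rw [Multiset.eq_of_mem_replicate ha]; norm_num
  have hRT : RankType u μ := by
    intro i
    rw [hμ, Multiset.map_add, Multiset.map_replicate, Multiset.map_replicate, Multiset.sum_add,
      Multiset.sum_replicate, Multiset.sum_replicate, smul_eq_mul, smul_eq_mul]
    rcases Nat.lt_or_ge i 2 with hi | hi
    · interval_cases i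
      · rw [pow_zero, Matrix.rank_one, Fintype.card_fin]
        omega
      · rw [pow_one, ← hs]
        omega
    · obtain ⟨k, rfl⟩ := Nat.exists_eq_add_of_le hi
      rw [pow_add, pow_two, hN, zero_mul, Matrix.rank_zero]
      have e1 : 2 - (2 + k) = 0 := by omega
      have e2 : 1 - (2 + k) = 0 := by omega
      rw [e1, e2, mul_zero, mul_zero, add_zero]
  have hpar : ∀ a, Odd a → Even (Multiset.count a μ) := by
    intro a ha
    rw [hμ, Multiset.count_add, Multiset.count_replicate, Multiset.count_replicate]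
    have ha2 : ¬ (2 = a) := by
      rintro rfl
      exact absurd ha (by decide)
    rw [if_neg ha2, zero_add]
    split_ifs
    · rw [hnm, ← Nat.mul_sub]
      exact even_two_mul _
    · exact Even.zero
  obtain ⟨ι, hι, hdec, X, A, halt, hX, hiso, hT⟩ := spReal_of_parity (K := F) μ hpos hpar
  have hcard : Fintype.card ι = n := by
    have h1 := hT 0
    have h3 := hRT 0
    rw [pow_zero, Matrix.rank_one] at h1 h3
    rw [h1, ← h3, Fintype.card_fin]
  let e : Fin n ≃ ι := Fintype.equivOfCardEq (by rw [Fintype.card_fin, hcard])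
  have hT' : RankType (A.submatrix e e) μ := by
    have := hT.reindex e.symm
    exact this
  obtain ⟨c, hc⟩ := hRT.isConj hT' hpos
  have hc' : (c : Matrix (Fin n) (Fin n) F) * u = A.submatrix e e * c := hc
  have hsim : (l • A)ᵀ * X * (l • A) = (l * l) • X := by
    rw [Matrix.transpose_smul, Matrix.smul_mul, Matrix.smul_mul, Matrix.mul_smul, hiso, smul_smul]
  have hconj : (c : Matrix (Fin n) (Fin n) F) * x = (l • A).submatrix e e * c := by
    have hxu : x = l • u := by
      rw [hu, smul_smul, mul_inv_cancel₀ hl, one_smul]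
    rw [hxu, Matrix.mul_smul, hc', submatrix_smul', Matrix.smul_mul]
  obtain ⟨G, h1, h3, h4⟩ := form_of_conj e x (c : Matrix (Fin n) (Fin n) F)
    ((c⁻¹ : (Matrix (Fin n) (Fin n) F)ˣ) : Matrix (Fin n) (Fin n) F) (l • A) X (l * l) halt
    hX.ne_zero hsim c.mul_inv hconj
  exact ⟨G, l * l, mul_ne_zero hl hl, h1, h3, h4⟩

end Cfsg.Agent.Lib.H11.InvCls
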