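import Cfsg.Agent.Lib.H11.InvCls4

/-!
# Involution classes of `PSL_n(q)` (part 5): the diagonalisable case and the summary
-/

set_option autoImplicit false
set_option linter.unusedSectionVars false

namespace Cfsg.Agent.Lib.H11.InvCls

open Matrix Module Cfsg.Agent.Lib.H11.PSLGraph Cfsg.Agent.Lib.H11.Jordan

variable {F : Type*} [Field F] {n : ℕ}

theorem submatrix_add' {ι κ : Type*} (A B : Matrix ι ι F) (f g : κ → ι) :
    (A + B).submatrix f g = A.submatrix f g + B.submatrix f g := rfl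

theorem finrank_ker_toLin' (M : Matrix (Fin n) (Fin n) F) :
    finrank F (LinearMap.ker (Matrix.toLin' M)) + M.rank = n := by
  have := LinearMap.finrank_range_add_finrank_ker (Matrix.toLin' M)
  rw [Module.finrank_fintype_fun_eq_card, Fintype.card_fin, Matrix.toLin'_apply'] at this
  rw [Matrix.toLin'_apply', Matrix.rank]
  omega

/-- case A: square scalar square in odd characteristic -/
theorem form_odd_square [Fintype F] (h2 : (2 : F) ≠ 0) (m : ℕ) (hnm : n = 2 * m)
    (x : Matrix (Fin n) (Fin n) F) (l : F) (hl : l ≠ 0)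
    (hx : x * x = (l * l) • (1 : Matrix (Fin n) (Fin n) F)) (hdet : x.det = 1)
    (hpow : ∀ μ : F, μ ^ n ≠ -1) :
    ∃ (G : Matrix (Fin n) (Fin n) F) (κ : F), κ ≠ 0 ∧ (∀ v, bf G v v = 0) ∧ G.det ≠ 0 ∧
      xᵀ * G * x = κ • G := by
  set u : Matrix (Fin n) (Fin n) F := l⁻¹ • x with hu
  have huu : u * u = 1 := by
    rw [hu, Matrix.smul_mul, Matrix.mul_smul, hx, smul_smul, smul_smul]
    have : l⁻¹ * l⁻¹ * (l * l) = 1 := by field_simp
    rw [this, one_smul]
  have ht : ∀ v, Matrix.toLin' u (Matrix.toLin' u v) = v := by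
    intro v
    rw [← LinearMap.comp_apply, ← Matrix.toLin'_mul, huu, Matrix.toLin'_one, LinearMap.id_apply]
  set b' := finrank F (LinearMap.ker (Matrix.toLin' u + LinearMap.id)) with hb'
  have hb'n : b' ≤ n := by
    have := Submodule.finrank_le (LinearMap.ker (Matrix.toLin' u + LinearMap.id))
    rwa [Module.finrank_fintype_fun_eq_card, Fintype.card_fin] at this
  set a' := n - b' with ha'
  let e : Fin n ≃ Fin b' ⊕ Fin a' :=
    (finCongr (by omega)).trans (finSumFinEquiv (m := b') (n := a')).symm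
  set D₀ : Matrix (Fin b' ⊕ Fin a') (Fin b' ⊕ Fin a') F := Matrix.fromBlocks (-1) 0 0 1 with hD₀
  have hD₀2 : D₀ * D₀ = 1 := by
    rw [hD₀, Matrix.fromBlocks_multiply, ← Matrix.fromBlocks_one]
    simp
  have hDD : D₀.submatrix e e * D₀.submatrix e e = 1 := by
    rw [Matrix.submatrix_mul_equiv, hD₀2, Matrix.submatrix_one_equiv]
  have ht' : ∀ v, Matrix.toLin' (D₀.submatrix e e) (Matrix.toLin' (D₀.submatrix e e) v) = v := by
    intro v
    rw [← LinearMap.comp_apply, ← Matrix.toLin'_mul, hDD, Matrix.toLin'_one, LinearMap.id_apply]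
  have hker : finrank F (LinearMap.ker (Matrix.toLin' (D₀.submatrix e e) + LinearMap.id)) = b' := by
    have h1 : Matrix.toLin' (D₀.submatrix e e) + LinearMap.id =
        Matrix.toLin' ((D₀ + 1).submatrix e e) := by
      rw [submatrix_add', Matrix.submatrix_one_equiv, map_add, Matrix.toLin'_one]
    have h3 : D₀ + 1 = Matrix.fromBlocks 0 0 0 ((2 : F) • (1 : Matrix (Fin a') (Fin a') F)) := by
      rw [hD₀, ← Matrix.fromBlocks_one, Matrix.fromBlocks_add, two_smul]
      simp
    have h4 : ((2 : F) • (1 : Matrix (Fin a') (Fin a') F)).rank = a' := by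
      have : IsUnit ((2 : F) • (1 : Matrix (Fin a') (Fin a') F)) := by
        rw [Matrix.isUnit_iff_isUnit_det, Matrix.det_smul, Matrix.det_one, mul_one]
        exact (isUnit_iff_ne_zero.2 h2).pow _
      rw [Matrix.rank_of_isUnit _ this, Fintype.card_fin]
    rw [h1, h3]
    have h5 := finrank_ker_toLin'
      ((Matrix.fromBlocks 0 0 0 ((2 : F) • (1 : Matrix (Fin a') (Fin a') F)) :
        Matrix (Fin b' ⊕ Fin a') (Fin b' ⊕ Fin a') F).submatrix e e)
    rw [Matrix.rank_submatrix, rank_fromBlocks_diag, Matrix.rank_zero, h4, zero_add] at h5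
    omega
  obtain ⟨g, hg⟩ := Cfsg.Agent.Lib.H13.InvolConjLin.conj_of_finrank h2 _ _ ht ht' (hb'.symm.trans hker.symm)
  obtain ⟨P, Pi, hP, hconj⟩ := mat_of_conj u (D₀.submatrix e e) g hg
  have hPdet : P.det ≠ 0 := by
    intro h
    have := congrArg Matrix.det hP
    rw [Matrix.det_mul, h, zero_mul, Matrix.det_one] at this
    exact zero_ne_one this
  have hdetu : u.det = (-1) ^ b' := by
    have h1 := congrArg Matrix.det hconj
    rw [Matrix.det_mul, Matrix.det_mul, Matrix.det_submatrix_equiv_self, mul_comm] at h1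
    have h3 := mul_right_cancel₀ hPdet h1
    rw [h3, hD₀, Matrix.det_fromBlocks_zero₂₁, Matrix.det_neg, Matrix.det_one, Matrix.det_one,
      Fintype.card_fin, mul_one, mul_one]
  have hdetu' : u.det = (l⁻¹) ^ n := by
    rw [hu, Matrix.det_smul, hdet, mul_one, Fintype.card_fin]
  have hbe : Even b' := by
    by_contra hodd
    rw [Nat.not_even_iff_odd] at hodd
    apply hpow l⁻¹
    rw [← hdetu', hdetu, hodd.neg_one_pow]
  have hae : Even a' := by
    obtain ⟨k, hk⟩ := hbe
    exact ⟨m - k, by omega⟩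
  obtain ⟨Gb, hGb, hGbdet⟩ := Cfsg.Agent.Lib.H11.SpCls.exists_alt (F := F) (ι := Fin b')
    (by rw [Fintype.card_fin]; exact hbe)
  obtain ⟨Ga, hGa, hGadet⟩ := Cfsg.Agent.Lib.H11.SpCls.exists_alt (F := F) (ι := Fin a')
    (by rw [Fintype.card_fin]; exact hae)
  set G₀ : Matrix (Fin b' ⊕ Fin a') (Fin b' ⊕ Fin a') F := Matrix.fromBlocks Gb 0 0 Ga with hG₀
  have hG₀t : G₀ᵀ = -G₀ := by
    rw [hG₀, Matrix.fromBlocks_transpose, hGb, hGa, Matrix.fromBlocks_neg]
    simp only [Matrix.transpose_zero, neg_zero]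
  have hG₀det : G₀.det ≠ 0 := by
    rw [hG₀, Matrix.det_fromBlocks_zero₂₁]
    exact mul_ne_zero hGbdet hGadet
  have hsim : (l • D₀)ᵀ * G₀ * (l • D₀) = (l * l) • G₀ := by
    have h1 : D₀ᵀ * G₀ * D₀ = G₀ := by
      rw [hD₀, hG₀, Matrix.fromBlocks_transpose, Matrix.fromBlocks_multiply,
        Matrix.fromBlocks_multiply]
      simp
    rw [Matrix.transpose_smul, Matrix.smul_mul, Matrix.smul_mul, Matrix.mul_smul, h1, smul_smul]
  have hconj' : P * x = (l • D₀).submatrix e e * P := by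
    have hxu : x = l • u := by
      rw [hu, smul_smul, mul_inv_cancel₀ hl, one_smul]
    rw [hxu, Matrix.mul_smul, hconj, submatrix_smul', Matrix.smul_mul]
  obtain ⟨G, h1, h3, h4⟩ := form_of_conj e x P Pi (l • D₀) G₀ (l * l)
    (alt_of_skew h2 G₀ hG₀t) hG₀det hsim hP hconj'
  exact ⟨G, l * l, mul_ne_zero hl hl, h1, h3, h4⟩

/-- every matrix of determinant one with non-zero scalar square is a similitude of a
non-degenerate alternating form, provided `-1` is not an `n`-th power in odd characteristic -/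
theorem exists_form [Fintype F] (m : ℕ) (hnm : n = 2 * m) (x : Matrix (Fin n) (Fin n) F) (z : F)
    (hz : z ≠ 0) (hx : x * x = z • (1 : Matrix (Fin n) (Fin n) F)) (hdet : x.det = 1)
    (hpow : (2 : F) ≠ 0 → ∀ μ : F, μ ^ n ≠ -1) :
    ∃ (G : Matrix (Fin n) (Fin n) F) (κ : F), κ ≠ 0 ∧ (∀ v, bf G v v = 0) ∧ G.det ≠ 0 ∧
      xᵀ * G * x = κ • G := by
  by_cases hsq : IsSquare z
  · obtain ⟨l, rfl⟩ := hsq
    have hl : l ≠ 0 := by
      rintro rfl
      exact hz (by simp)
    by_cases h2 : (2 : F) = 0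
    · exact form_char_two h2 m hnm x l hl hx
    · exact form_odd_square h2 m hnm x l hl hx hdet (hpow h2)
  · exact form_nonsquare m hnm x z hx hsq

end Cfsg.Agent.Lib.H11.InvCls
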