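import Cfsg.Agent.Lib.H11.InvCls2

/-!
# Involution classes of `PSL_n(q)` (part 6): an involution fixing no symplectic-type subgroup

If `l ^ n = -1` then `l • diag(1, -1, …, -1)` has determinant one, scalar square, and is not a
similitude of any non-degenerate alternating form (`n ≥ 3`).
-/

set_option autoImplicit false
set_option linter.unusedSectionVars false

namespace Cfsg.Agent.Lib.H11.InvCls

open Matrix Cfsg.Agent.Lib.H11.PSLGraph

variable {F : Type*} [Field F] {n : ℕ}

/-- the diagonal `(1, -1, …, -1)` -/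
def dvec (n : ℕ) (F : Type*) [Field F] : Fin n → F := fun i => if i.val = 0 then 1 else -1

theorem dvec_mul_self (i : Fin n) : dvec n F i * dvec n F i = 1 := by
  unfold dvec
  split_ifs <;> simp

theorem prod_dvec (hn : 1 ≤ n) : ∏ i, dvec n F i = (-1) ^ (n - 1) := by
  obtain ⟨k, rfl⟩ : ∃ k, n = k + 1 := ⟨n - 1, by omega⟩
  rw [Fin.prod_univ_succ]
  have h0 : dvec (k + 1) F 0 = 1 := by simp [dvec]
  have h1 : ∀ i : Fin k, dvec (k + 1) F i.succ = -1 := by
    intro i
    simp [dvec]
  rw [h0, one_mul, Finset.prod_congr rfl (fun i _ => h1 i), Finset.prod_const, Finset.card_univ,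
    Fintype.card_fin, Nat.add_sub_cancel]

/-- the matrix `l • diag(1, -1, …, -1)` -/
def dmat (n : ℕ) (l : F) : Matrix (Fin n) (Fin n) F := l • Matrix.diagonal (dvec n F)

theorem det_dmat (hn : 1 ≤ n) (hne : Even n) (l : F) (hl : l ^ n = -1) : (dmat n l).det = 1 := by
  unfold dmat
  rw [Matrix.det_smul, Matrix.det_diagonal, prod_dvec hn, Fintype.card_fin, hl]
  have : ((-1 : F)) * (-1) ^ (n - 1) = (-1) ^ n := by
    rw [← pow_succ']
    congr 1
    omega
  rw [this, hne.neg_one_pow]

theorem dmat_mul_self (l : F) : dmat n l * dmat n l = (l * l) • (1 : Matrix (Fin n) (Fin n) F) := by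
  unfold dmat
  rw [Matrix.smul_mul, Matrix.mul_smul, Matrix.diagonal_mul_diagonal, smul_smul]
  congr 1
  rw [← Matrix.diagonal_one]
  congr 1
  funext i
  exact dvec_mul_self i

theorem dmat_apply (l : F) (i j : Fin n) :
    dmat n l i j = if i = j then l * dvec n F i else 0 := by
  unfold dmat
  rw [Matrix.smul_apply, Matrix.diagonal_apply, smul_eq_mul]
  split_ifs
  · rfl
  · rw [mul_zero]

theorem dmat_eq (l : F) : dmat n l = Matrix.diagonal (fun i => l * dvec n F i) := by
  ext i j
  rw [dmat_apply, Matrix.diagonal_apply]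

theorem dmat_not_scalar (h2 : (2 : F) ≠ 0) (hn : 2 ≤ n) (l : F) (hl : l ≠ 0) (z : F) :
    dmat n l ≠ z • (1 : Matrix (Fin n) (Fin n) F) := by
  intro h
  have h0 := congrFun (congrFun h ⟨0, by omega⟩) ⟨0, by omega⟩
  have h1 := congrFun (congrFun h ⟨1, by omega⟩) ⟨1, by omega⟩
  rw [dmat_apply, if_pos rfl, Matrix.smul_apply, Matrix.one_apply_eq, smul_eq_mul, mul_one] at h0 h1
  have e0 : dvec n F ⟨0, by omega⟩ = 1 := by simp [dvec]
  have e1 : dvec n F ⟨1, by omega⟩ = -1 := by simp [dvec]
  rw [e0] at h0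
  rw [e1] at h1
  have : 2 * l = 0 := by linear_combination h0 - h1
  rcases mul_eq_zero.1 this with h | h
  · exact h2 h
  · exact hl h

/-- a row of a non-degenerate matrix is non-zero -/
theorem row_ne_zero (G : Matrix (Fin n) (Fin n) F) (hnd : ∀ v, (∀ w, bf G v w = 0) → v = 0)
    (i : Fin n) : ∃ j, G i j ≠ 0 := by
  by_contra h
  push Not at h
  have h1 := hnd (Pi.single i 1) (fun w => by
    unfold bf
    rw [Matrix.dotProduct_mulVec, Matrix.single_one_vecMul]
    have : G.row i = 0 := by
      funext j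
      exact h j
    rw [this, zero_dotProduct])
  have h3 := congrFun h1 i
  simp at h3

/-- `dmat` is not a similitude of a non-degenerate alternating form -/
theorem dmat_not_sim (h2 : (2 : F) ≠ 0) (hn : 3 ≤ n) (l : F) (hl : l ≠ 0)
    (G : Matrix (Fin n) (Fin n) F) (halt : ∀ v, bf G v v = 0)
    (hnd : ∀ v, (∀ w, bf G v w = 0) → v = 0) (c : F)
    (hsim : (dmat n l)ᵀ * G * dmat n l = c • G) : False := by
  have hentry : ∀ i j, l * dvec n F i * G i j * (l * dvec n F j) = c * G i j := by
    intro i j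
    have := congrFun (congrFun hsim i) j
    rw [dmat_eq, Matrix.diagonal_transpose, Matrix.mul_diagonal, Matrix.diagonal_mul,
      Matrix.smul_apply, smul_eq_mul] at this
    exact this
  have hdiag : ∀ i, G i i = 0 := by
    intro i
    have := halt (Pi.single i 1)
    unfold bf at this
    simpa using this
  set i0 : Fin n := ⟨0, by omega⟩ with hi0
  set i1 : Fin n := ⟨1, by omega⟩ with hi1
  set i2 : Fin n := ⟨2, by omega⟩ with hi2
  have hd0 : dvec n F i0 = 1 := by simp [dvec, hi0]
  have hdj : ∀ j : Fin n, j ≠ i0 → dvec n F j = -1 := by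
    intro j hj
    unfold dvec
    rw [if_neg]
    intro h
    apply hj
    exact Fin.ext h
  have hl2 : l * l ≠ 0 := mul_ne_zero hl hl
  by_cases hc : c = l * l
  · -- row `0` vanishes
    obtain ⟨j, hj⟩ := row_ne_zero G hnd i0
    by_cases hj0 : j = i0
    · rw [hj0] at hj
      exact hj (hdiag i0)
    · have := hentry i0 j
      rw [hd0, hdj j hj0, hc] at this
      have h3 : 2 * (l * l) * G i0 j = 0 := by linear_combination -this
      rcases mul_eq_zero.1 h3 with h | h
      · exact (mul_ne_zero h2 hl2) h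
      · exact hj h
  · -- the block away from `0` vanishes
    have hblock : ∀ i j : Fin n, i ≠ i0 → j ≠ i0 → G i j = 0 := by
      intro i j hi hj
      have := hentry i j
      rw [hdj i hi, hdj j hj] at this
      have h3 : (l * l - c) * G i j = 0 := by linear_combination this
      rcases mul_eq_zero.1 h3 with h | h
      · exact absurd (sub_eq_zero.1 h).symm hc
      · exact h
    have h10 : i1 ≠ i0 := by
      intro h
      have := congrArg Fin.val h
      simp [hi0, hi1] at this
    have h20 : i2 ≠ i0 := by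
      intro h
      have := congrArg Fin.val h
      simp [hi0, hi2] at this
    have h12 : i1 ≠ i2 := by
      intro h
      have := congrArg Fin.val h
      simp [hi1, hi2] at this
    have hw := hnd (G i2 i0 • Pi.single i1 1 - G i1 i0 • Pi.single i2 1) (fun w => by
      unfold bf
      rw [Matrix.dotProduct_mulVec, Matrix.sub_vecMul, Matrix.smul_vecMul, Matrix.smul_vecMul,
        Matrix.single_one_vecMul, Matrix.single_one_vecMul]
      have : G i2 i0 • G.row i1 - G i1 i0 • G.row i2 = 0 := by
        funext j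
        simp only [Pi.sub_apply, Pi.smul_apply, Matrix.row_apply, smul_eq_mul, Pi.zero_apply]
        by_cases hj : j = i0
        · rw [hj]; ring
        · rw [hblock i1 j h10 hj, hblock i2 j h20 hj]; ring
      rw [this, zero_dotProduct])
    have e1 := congrFun hw i1
    simp only [Pi.sub_apply, Pi.smul_apply, Pi.single_eq_same, smul_eq_mul, mul_one,
      Pi.single_eq_of_ne h12, mul_zero, sub_zero, Pi.zero_apply] at e1
    have e2 := congrFun hw i2
    simp only [Pi.sub_apply, Pi.smul_apply, Pi.single_eq_same, smul_eq_mul, mul_one,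
      Pi.single_eq_of_ne (Ne.symm h12), mul_zero, zero_sub, Pi.zero_apply, neg_eq_zero] at e2
    obtain ⟨j, hj⟩ := row_ne_zero G hnd i1
    by_cases hj0 : j = i0
    · rw [hj0] at hj
      exact hj e2
    · exact hj (hblock i1 j h10 hj0)

/-- `dmat`, as an element of `SL_n`, is not conjugate into the similarity group -/
theorem dmat_derangement (h2 : (2 : F) ≠ 0) (hn : 3 ≤ n) (l : F) (hl : l ≠ 0)
    {f : (Fin n → F) → (Fin n → F) → F} (hf : Cfsg.Geo.IsSymplecticForm f)
    (x P : Matrix.SpecialLinearGroup (Fin n) F)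
    (hx : (x : Matrix (Fin n) (Fin n) F) = dmat n l)
    (hmem : P⁻¹ * x * P ∈ (Cfsg.Geo.similarityGroup f).comap
      (Matrix.SpecialLinearGroup.toGL : Matrix.SpecialLinearGroup (Fin n) F →* GL (Fin n) F)) :
    False := by
  obtain ⟨J, hJ, hJalt, hJnd⟩ := exists_gram_symp hf
  rw [Subgroup.mem_comap, hJ, mem_sim_bf_iff] at hmem
  obtain ⟨c, hc⟩ := hmem
  set Pm : Matrix (Fin n) (Fin n) F := (P : Matrix (Fin n) (Fin n) F) with hPm
  set Pi : Matrix (Fin n) (Fin n) F :=
    ((P⁻¹ : Matrix.SpecialLinearGroup (Fin n) F) : Matrix (Fin n) (Fin n) F) with hPi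
  have h1 : Pi * Pm = 1 := by
    rw [hPi, hPm, ← Matrix.SpecialLinearGroup.coe_mul, inv_mul_cancel,
      Matrix.SpecialLinearGroup.coe_one]
  have h1' : Pm * Pi = 1 := by
    rw [hPi, hPm, ← Matrix.SpecialLinearGroup.coe_mul, mul_inv_cancel,
      Matrix.SpecialLinearGroup.coe_one]
  rw [Matrix.SpecialLinearGroup.coe_GL_coe_matrix, Matrix.SpecialLinearGroup.coe_mul,
    Matrix.SpecialLinearGroup.coe_mul, hx, ← hPi, ← hPm] at hc
  have hsim : (dmat n l)ᵀ * (Piᵀ * J * Pi) * dmat n l = (c : F) • (Piᵀ * J * Pi) := by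
    have h3 : Pmᵀ * Piᵀ = 1 := by rw [← Matrix.transpose_mul, h1, Matrix.transpose_one]
    calc (dmat n l)ᵀ * (Piᵀ * J * Pi) * dmat n l
        = Piᵀ * ((Pi * dmat n l * Pm)ᵀ * J * (Pi * dmat n l * Pm)) * Pi := by
          simp only [Matrix.transpose_mul, Matrix.mul_assoc]
          rw [h1', Matrix.mul_one, ← Matrix.mul_assoc Piᵀ Pmᵀ, ← Matrix.transpose_mul, h1',
            Matrix.transpose_one, Matrix.one_mul]
      _ = (c : F) • (Piᵀ * J * Pi) := by
          rw [hc, Matrix.mul_smul, Matrix.smul_mul, Matrix.mul_assoc]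
  apply dmat_not_sim h2 hn l hl (Piᵀ * J * Pi) _ _ (c : F) hsim
  · intro v
    rw [← bf_mulVec]
    exact hJalt _
  · intro v hv
    have h4 : Pi *ᵥ v = 0 := by
      apply hJnd
      intro w
      have := hv (Pm *ᵥ w)
      rw [← bf_mulVec, Matrix.mulVec_mulVec, h1, Matrix.one_mulVec] at this
      exact this
    have := congrArg (fun y => Pm *ᵥ y) h4
    simp only [Matrix.mulVec_mulVec, h1', Matrix.one_mulVec, Matrix.mulVec_zero] at this
    exact this

end Cfsg.Agent.Lib.H11.InvCls
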