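import Cfsg.Agent.Lib.H11.InvCls3
import Cfsg.Agent.Lib.H13.Disc
import Cfsg.Prelude.Def_GeometricClasses

/-!
# Quadratic field subalgebras of the matrix algebra (part 1)

A field subalgebra `K` of dimension two is `F + F θ` with `θ² = tθ - d` and `X² - tX + d` without
roots in `F`; criterion for normalising `K`; in odd characteristic `K = F + F s` with `s² = Δ` a
non-square scalar, and every non-square of `F` has a square root in `K`.
-/

set_option autoImplicit false
set_option linter.unusedSectionVars false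

namespace Cfsg.Agent.Lib.H11.InvCls

open Matrix Module

variable {F : Type*} [Field F] {n : ℕ} {K : Subalgebra F (Matrix (Fin n) (Fin n) F)}

theorem smul_one_mem (K : Subalgebra F (Matrix (Fin n) (Fin n) F)) (c : F) :
    c • (1 : Matrix (Fin n) (Fin n) F) ∈ K := K.smul_mem K.one_mem c

theorem one_ne_zero_mat (hn : 0 < n) : (1 : Matrix (Fin n) (Fin n) F) ≠ 0 := by
  intro h
  have := congrFun (congrFun h ⟨0, hn⟩) ⟨0, hn⟩
  simp at this

/-- a field subalgebra of dimension two contains a non-scalar matrix -/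
theorem exists_nonscalar (hK : Module.finrank F K = 2) :
    ∃ θ ∈ K, ∀ c : F, θ ≠ c • (1 : Matrix (Fin n) (Fin n) F) := by
  by_contra h
  push Not at h
  have hle : Subalgebra.toSubmodule K ≤ Submodule.span F {(1 : Matrix (Fin n) (Fin n) F)} := by
    intro x hx
    obtain ⟨c, hc⟩ := h x hx
    rw [hc]
    exact Submodule.smul_mem _ _ (Submodule.mem_span_singleton_self _)
  have h1 := Submodule.finrank_mono hle
  have h2 : Module.finrank F (Submodule.span F {(1 : Matrix (Fin n) (Fin n) F)}) ≤ 1 := by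
    have := finrank_span_le_card (R := F) ({(1 : Matrix (Fin n) (Fin n) F)} : Set _)
    simpa using this
  have h3 : Module.finrank F (Subalgebra.toSubmodule K) = 2 := hK
  omega

theorem exists_inv (hK : Cfsg.Geo.IsFieldSubalgebra 2 K) {x : Matrix (Fin n) (Fin n) F}
    (hx : x ∈ K) (hx0 : x ≠ 0) : ∃ y ∈ K, x * y = 1 ∧ y * x = 1 := by
  obtain ⟨y, hy, hxy⟩ := hK.inv x hx hx0
  exact ⟨y, hy, hxy, by rw [← hK.comm x hx y hy, hxy]⟩

/-- `θ` generates `K` with minimal polynomial `X² - tX + d` -/
structure IsQuadGen (K : Subalgebra F (Matrix (Fin n) (Fin n) F))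
    (θ : Matrix (Fin n) (Fin n) F) (t d : F) : Prop where
  mem : θ ∈ K
  nonscalar : ∀ c : F, θ ≠ c • (1 : Matrix (Fin n) (Fin n) F)
  sq : θ * θ = t • θ - d • (1 : Matrix (Fin n) (Fin n) F)
  span : ∀ k ∈ K, ∃ α β : F, k = α • (1 : Matrix (Fin n) (Fin n) F) + β • θ

theorem exists_quadGen (hn : 0 < n) (hK : Cfsg.Geo.IsFieldSubalgebra 2 K) :
    ∃ (θ : Matrix (Fin n) (Fin n) F) (t d : F), IsQuadGen K θ t d := by
  obtain ⟨θ, hθ, hns⟩ := exists_nonscalar hK.finrank_eq
  have hli : LinearIndependent F ![(1 : Matrix (Fin n) (Fin n) F), θ] := by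
    rw [LinearIndependent.pair_iff]
    intro s t hst
    have ht : t = 0 := by
      by_contra ht
      apply hns (-s / t)
      have : t • θ = (-s) • (1 : Matrix (Fin n) (Fin n) F) := by
        rw [neg_smul]
        exact eq_neg_of_add_eq_zero_right hst
      calc θ = t⁻¹ • (t • θ) := by rw [smul_smul, inv_mul_cancel₀ ht, one_smul]
        _ = (-s / t) • (1 : Matrix (Fin n) (Fin n) F) := by
            rw [this, smul_smul]
            congr 1
            field_simp
    rw [ht, zero_smul, add_zero] at hst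
    refine ⟨?_, ht⟩
    rcases smul_eq_zero.1 hst with h | h
    · exact h
    · exact absurd h (one_ne_zero_mat hn)
  have hspan : Submodule.span F {(1 : Matrix (Fin n) (Fin n) F), θ} = Subalgebra.toSubmodule K := by
    apply Submodule.eq_of_le_of_finrank_eq
    · rw [Submodule.span_le]
      intro x hx
      rcases hx with rfl | rfl
      · exact K.one_mem
      · exact hθ
    · have h1 := finrank_span_eq_card hli
      have h2 : Set.range ![(1 : Matrix (Fin n) (Fin n) F), θ] = {1, θ} := by
        simp [Matrix.range_cons, Set.pair_comm]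
      rw [h2, Fintype.card_fin] at h1
      rw [h1]
      exact hK.finrank_eq.symm
  have hsp : ∀ k ∈ K, ∃ α β : F, k = α • (1 : Matrix (Fin n) (Fin n) F) + β • θ := by
    intro k hk
    have : k ∈ Submodule.span F {(1 : Matrix (Fin n) (Fin n) F), θ} := by
      rw [hspan]
      exact hk
    obtain ⟨α, β, h⟩ := Submodule.mem_span_pair.1 this
    exact ⟨α, β, h.symm⟩
  obtain ⟨α, β, hαβ⟩ := hsp (θ * θ) (K.mul_mem hθ hθ)
  refine ⟨θ, β, -α, hθ, hns, ?_, hsp⟩
  rw [hαβ, neg_smul]
  abel

namespace IsQuadGen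

variable {θ : Matrix (Fin n) (Fin n) F} {t d : F}

/-- the minimal polynomial has no root -/
theorem noroot (h : IsQuadGen K θ t d) (hK : Cfsg.Geo.IsFieldSubalgebra 2 K) (r : F) :
    r * r - t * r + d ≠ 0 := by
  intro hr
  have h1 : (θ - r • (1 : Matrix (Fin n) (Fin n) F)) * (θ - (t - r) • (1 : Matrix (Fin n) (Fin n) F)) = 0 := by
    rw [Matrix.sub_mul, Matrix.mul_sub, Matrix.mul_sub, h.sq, Matrix.mul_smul, Matrix.smul_mul,
      Matrix.smul_mul, Matrix.mul_smul, Matrix.mul_one, Matrix.one_mul, Matrix.mul_one, smul_smul]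
    have : d = t * r - r * r := by linear_combination hr
    rw [this]
    simp only [sub_smul, mul_smul]
    module
  have h2 : θ - r • (1 : Matrix (Fin n) (Fin n) F) ∈ K := K.sub_mem h.mem (smul_one_mem K r)
  have h3 : θ - r • (1 : Matrix (Fin n) (Fin n) F) ≠ 0 := by
    intro h0
    exact h.nonscalar r (sub_eq_zero.1 h0)
  obtain ⟨y, -, -, hy⟩ := exists_inv hK h2 h3
  have h4 : θ - (t - r) • (1 : Matrix (Fin n) (Fin n) F) = 0 := by
    calc θ - (t - r) • (1 : Matrix (Fin n) (Fin n) F)
        = y * ((θ - r • (1 : Matrix (Fin n) (Fin n) F)) *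
            (θ - (t - r) • (1 : Matrix (Fin n) (Fin n) F))) := by
          rw [← Matrix.mul_assoc, hy, Matrix.one_mul]
      _ = 0 := by rw [h1, Matrix.mul_zero]
  exact h.nonscalar (t - r) (sub_eq_zero.1 h4)

/-- criterion for normalising `K` -/
theorem normalizes (h : IsQuadGen K θ t d) (g gi : Matrix (Fin n) (Fin n) F) (h1 : g * gi = 1)
    (h2 : gi * g = 1) (hg : g * θ * gi ∈ K) (hgi : gi * θ * g ∈ K) (k : Matrix (Fin n) (Fin n) F) :
    k ∈ K ↔ g * k * gi ∈ K := by
  have key : ∀ (a ai : Matrix (Fin n) (Fin n) F), a * ai = 1 → a * θ * ai ∈ K →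
      ∀ k ∈ K, a * k * ai ∈ K := by
    intro a ai ha hθ' k hk
    obtain ⟨α, β, rfl⟩ := h.span k hk
    have : a * (α • (1 : Matrix (Fin n) (Fin n) F) + β • θ) * ai =
        α • (1 : Matrix (Fin n) (Fin n) F) + β • (a * θ * ai) := by
      rw [Matrix.mul_add, Matrix.add_mul, Matrix.mul_smul, Matrix.smul_mul, Matrix.mul_one, ha,
        Matrix.mul_smul, Matrix.smul_mul]
    rw [this]
    exact K.add_mem (smul_one_mem K α) (K.smul_mem hθ' β)
  constructor
  · exact key g gi h1 hg k
  · intro hk
    have := key gi g h2 hgi _ hk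
    have e : gi * (g * k * gi) * g = k := by
      calc gi * (g * k * gi) * g = (gi * g) * k * (gi * g) := by simp only [Matrix.mul_assoc]
        _ = k := by rw [h2, Matrix.one_mul, Matrix.mul_one]
    rwa [e] at this

end IsQuadGen

end Cfsg.Agent.Lib.H11.InvCls
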