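import Cfsg.Agent.Lib.H11.InvK1

/-!
# Quadratic field subalgebras of the matrix algebra (part 2)

Odd characteristic: completing the square; square roots of non-squares.  Any characteristic: an
invertible matrix `μ + (rank one)` does not normalise a quadratic field subalgebra when `n ≥ 3`.
-/

set_option autoImplicit false
set_option linter.unusedSectionVars false

namespace Cfsg.Agent.Lib.H11.InvCls

open Matrix Module

variable {F : Type*} [Field F] {n : ℕ} {K : Subalgebra F (Matrix (Fin n) (Fin n) F)}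

/-- completing the square in odd characteristic -/
theorem IsQuadGen.exists_sqrt_gen {θ : Matrix (Fin n) (Fin n) F} {t d : F} (h : IsQuadGen K θ t d)
    (hK : Cfsg.Geo.IsFieldSubalgebra 2 K) (h2 : (2 : F) ≠ 0) :
    ∃ (s : Matrix (Fin n) (Fin n) F) (Δ : F), s ∈ K ∧ s * s = Δ • (1 : Matrix (Fin n) (Fin n) F) ∧
      ¬ IsSquare Δ ∧ θ = (2 : F)⁻¹ • (s + t • (1 : Matrix (Fin n) (Fin n) F)) := by
  refine ⟨(2 : F) • θ - t • (1 : Matrix (Fin n) (Fin n) F), t * t - 4 * d, ?_, ?_, ?_, ?_⟩
  · exact K.sub_mem (K.smul_mem h.mem 2) (smul_one_mem K t)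
  · simp only [Matrix.sub_mul, Matrix.mul_sub, Matrix.smul_mul, Matrix.mul_smul, Matrix.mul_one,
      Matrix.one_mul, h.sq, smul_sub, smul_smul]
    module
  · rintro ⟨c, hc⟩
    apply h.noroot hK ((t + c) / 2)
    field_simp
    linear_combination -hc
  · rw [sub_add_cancel, smul_smul, inv_mul_cancel₀ h2, one_smul]

/-- non-squares of `F` become squares in `K` -/
theorem exists_sqrt_in_K [Fintype F] {s : Matrix (Fin n) (Fin n) F} {Δ : F} (hs : s ∈ K)
    (hss : s * s = Δ • (1 : Matrix (Fin n) (Fin n) F)) (hΔ : ¬ IsSquare Δ) (z : F)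
    (hz : ¬ IsSquare z) : ∃ y ∈ K, y * y = z • (1 : Matrix (Fin n) (Fin n) F) ∧ y * s = s * y := by
  classical
  have hz0 : z ≠ 0 := by
    rintro rfl
    exact hz ⟨0, by simp⟩
  have hΔ0 : Δ ≠ 0 := by
    rintro rfl
    exact hΔ ⟨0, by simp⟩
  obtain ⟨c, hc⟩ := (Cfsg.Agent.Lib.H13.isSquare_mul_nonsquare_iff hz0 hΔ).2 hz
  refine ⟨(c / Δ) • s, K.smul_mem hs _, ?_, ?_⟩
  · rw [Matrix.smul_mul, Matrix.mul_smul, hss, smul_smul, smul_smul]
    congr 1
    field_simp
    linear_combination -hc
  · rw [Matrix.smul_mul, Matrix.mul_smul]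

/-- subadditivity of the rank -/
theorem mat_rank_add_le (A B : Matrix (Fin n) (Fin n) F) : (A + B).rank ≤ A.rank + B.rank := by
  unfold Matrix.rank
  rw [Matrix.mulVecLin_add]
  calc finrank F (LinearMap.range (A.mulVecLin + B.mulVecLin))
      ≤ finrank F ↥(LinearMap.range A.mulVecLin ⊔ LinearMap.range B.mulVecLin) :=
        Submodule.finrank_mono (LinearMap.range_add_le _ _)
    _ ≤ _ := Submodule.finrank_add_le_finrank_add_finrank _ _

/-- an invertible `μ + (rank one)` does not normalise a quadratic field subalgebra, `n ≥ 3` -/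
theorem not_normalize_of_rank_one (hn : 3 ≤ n) (hK : Cfsg.Geo.IsFieldSubalgebra 2 K)
    (a b : Fin n → F) (ha : a ≠ 0) (hb : b ≠ 0) (μ : F) (hμ : μ ≠ 0) (g : GL (Fin n) F)
    (hg : (g : Matrix (Fin n) (Fin n) F) = μ • (1 : Matrix (Fin n) (Fin n) F) + Matrix.vecMulVec a b)
    (hmem : g ∈ Cfsg.Geo.subalgebraNormalizer K) : False := by
  set gm : Matrix (Fin n) (Fin n) F := (g : Matrix (Fin n) (Fin n) F) with hgm
  set gi : Matrix (Fin n) (Fin n) F := ((g⁻¹ : GL (Fin n) F) : Matrix (Fin n) (Fin n) F) with hgi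
  have h1 : gi * gm = 1 := by rw [hgi, hgm, ← Units.val_mul, inv_mul_cancel, Units.val_one]
  set y : Matrix (Fin n) (Fin n) F := Matrix.vecMulVec a b with hy
  have hyr : y.rank ≤ 1 := Matrix.rank_vecMulVec_le a b
  have hN : ∀ k : Matrix (Fin n) (Fin n) F, k ∈ K ↔ gm * k * gi ∈ K := hmem
  by_cases hall : ∀ k ∈ K, gm * k * gi = k
  · -- `y` commutes with `K`
    obtain ⟨θ, hθ, hns⟩ := exists_nonscalar hK.finrank_eq
    have h3 : gm * θ = θ * gm := by
      have := hall θ hθ
      calc gm * θ = gm * θ * (gi * gm) := by rw [h1, Matrix.mul_one]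
        _ = (gm * θ * gi) * gm := by simp only [Matrix.mul_assoc]
        _ = θ * gm := by rw [this]
    have h4 : y * θ = θ * y := by
      rw [hg, Matrix.add_mul, Matrix.mul_add, Matrix.smul_mul, Matrix.mul_smul, Matrix.one_mul,
        Matrix.mul_one] at h3
      exact add_left_cancel h3
    rw [hy, Matrix.vecMulVec_mul, Matrix.mul_vecMulVec] at h4
    obtain ⟨j, hj⟩ : ∃ j, b j ≠ 0 := by
      by_contra hcon
      push Not at hcon
      exact hb (funext hcon)
    have h5 : θ *ᵥ a = ((b ᵥ* θ) j / b j) • a := by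
      funext i
      have := congrFun (congrFun h4 i) j
      rw [Matrix.vecMulVec_apply, Matrix.vecMulVec_apply] at this
      rw [Pi.smul_apply, smul_eq_mul]
      field_simp
      linear_combination -this
    set ν := (b ᵥ* θ) j / b j with hν
    have h6 : θ - ν • (1 : Matrix (Fin n) (Fin n) F) ∈ K := K.sub_mem hθ (smul_one_mem K ν)
    have h7 : θ - ν • (1 : Matrix (Fin n) (Fin n) F) ≠ 0 := fun h0 => hns ν (sub_eq_zero.1 h0)
    obtain ⟨w, -, -, hw⟩ := exists_inv hK h6 h7
    have h8 : (θ - ν • (1 : Matrix (Fin n) (Fin n) F)) *ᵥ a = 0 := by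
      rw [Matrix.sub_mulVec, h5, Matrix.smul_mulVec, Matrix.one_mulVec, sub_self]
    have h9 : a = 0 := by
      have := congrArg (fun v => w *ᵥ v) h8
      simp only [Matrix.mulVec_mulVec, hw, Matrix.one_mulVec, Matrix.mulVec_zero] at this
      exact this
    exact ha h9
  · push Not at hall
    obtain ⟨k, hk, hne⟩ := hall
    set k' := gm * k * gi with hk'
    have hk'K : k' ∈ K := (hN k).1 hk
    have h3 : gm * k = k' * gm := by
      rw [hk']
      calc gm * k = gm * k * (gi * gm) := by rw [h1, Matrix.mul_one]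
        _ = gm * k * gi * gm := by simp only [Matrix.mul_assoc]
    have h4 : μ • (k - k') = k' * y + y * (-k) := by
      rw [hg, Matrix.add_mul, Matrix.mul_add, Matrix.smul_mul, Matrix.mul_smul, Matrix.one_mul,
        Matrix.mul_one] at h3
      rw [smul_sub]
      have : μ • k - μ • k' = k' * y - y * k := by
        rw [sub_eq_sub_iff_add_eq_add]
        rw [h3, add_comm]
      rw [this, sub_eq_add_neg, Matrix.mul_neg]
    have h5 : k - k' ∈ K := K.sub_mem hk hk'K
    have h6 : k - k' ≠ 0 := fun h0 => hne (sub_eq_zero.1 h0).symm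
    obtain ⟨w, -, hw, -⟩ := exists_inv hK h5 h6
    have h7 : IsUnit (μ • (k - k')) := by
      apply (Matrix.isUnit_iff_isUnit_det _).2
      apply Matrix.isUnit_det_of_right_inverse (B := μ⁻¹ • w)
      rw [Matrix.smul_mul, Matrix.mul_smul, hw, smul_smul, mul_inv_cancel₀ hμ, one_smul]
    have h8 : (μ • (k - k')).rank = n := by
      rw [Matrix.rank_of_isUnit _ h7, Fintype.card_fin]
    have h9 : (k' * y + y * (-k)).rank ≤ 2 := by
      calc (k' * y + y * (-k)).rank ≤ (k' * y).rank + (y * (-k)).rank := mat_rank_add_le _ _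
        _ ≤ 1 + 1 := by
          apply Nat.add_le_add
          · exact le_trans (Matrix.rank_mul_le_right _ _) hyr
          · exact le_trans (Matrix.rank_mul_le_left _ _) hyr
    rw [h4] at h8
    omega

end Cfsg.Agent.Lib.H11.InvCls
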