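import Cfsg.Agent.Lib.H11.InvK2
import Cfsg.Agent.Lib.H11.InvCls6

/-!
# Quadratic field subalgebras (part 3): involutions normalising no quadratic field subalgebra
-/

set_option autoImplicit false
set_option linter.unusedSectionVars false

namespace Cfsg.Agent.Lib.H11.InvCls

open Matrix Module

variable {F : Type*} [Field F] {n : ℕ} {K : Subalgebra F (Matrix (Fin n) (Fin n) F)}

/-- an element `μ + (rank one)` of `SL_n` is not conjugate into the normaliser of `K`, `n ≥ 3` -/
theorem rank_one_derangement (hn : 3 ≤ n) (hK : Cfsg.Geo.IsFieldSubalgebra 2 K)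
    (a b : Fin n → F) (ha : a ≠ 0) (hb : b ≠ 0) (μ : F) (hμ : μ ≠ 0)
    (x P : Matrix.SpecialLinearGroup (Fin n) F)
    (hx : (x : Matrix (Fin n) (Fin n) F) =
      μ • (1 : Matrix (Fin n) (Fin n) F) + Matrix.vecMulVec a b)
    (hmem : P⁻¹ * x * P ∈ (Cfsg.Geo.subalgebraNormalizer K).comap
      (Matrix.SpecialLinearGroup.toGL : Matrix.SpecialLinearGroup (Fin n) F →* GL (Fin n) F)) :
    False := by
  rw [Subgroup.mem_comap] at hmem
  set Pm : Matrix (Fin n) (Fin n) F := (P : Matrix (Fin n) (Fin n) F) with hPm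
  set Pi : Matrix (Fin n) (Fin n) F :=
    ((P⁻¹ : Matrix.SpecialLinearGroup (Fin n) F) : Matrix (Fin n) (Fin n) F) with hPi
  have h1 : Pi * Pm = 1 := by
    rw [hPi, hPm, ← Matrix.SpecialLinearGroup.coe_mul, inv_mul_cancel,
      Matrix.SpecialLinearGroup.coe_one]
  have h1' : Pm * Pi = 1 := by
    rw [hPi, hPm, ← Matrix.SpecialLinearGroup.coe_mul, mul_inv_cancel,
      Matrix.SpecialLinearGroup.coe_one]
  apply not_normalize_of_rank_one hn hK (Pi *ᵥ a) (b ᵥ* Pm) _ _ μ hμ _ _ hmem
  · intro h0
    apply ha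
    have := congrArg (fun v => Pm *ᵥ v) h0
    simp only [Matrix.mulVec_mulVec, h1', Matrix.one_mulVec, Matrix.mulVec_zero] at this
    exact this
  · intro h0
    apply hb
    have := congrArg (fun v => v ᵥ* Pi) h0
    simp only [Matrix.vecMul_vecMul, h1', Matrix.vecMul_one, Matrix.zero_vecMul] at this
    exact this
  · rw [Matrix.SpecialLinearGroup.coe_GL_coe_matrix, Matrix.SpecialLinearGroup.coe_mul,
      Matrix.SpecialLinearGroup.coe_mul, hx, ← hPi, ← hPm, Matrix.mul_add, Matrix.add_mul,
      Matrix.mul_smul, Matrix.smul_mul, Matrix.mul_one, h1, Matrix.mul_vecMulVec,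
      Matrix.vecMulVec_mul]

theorem dmat_eq_rank_one (hn : 1 ≤ n) (l : F) :
    dmat n l = (-l) • (1 : Matrix (Fin n) (Fin n) F) +
      Matrix.vecMulVec ((2 * l) • (Pi.single (⟨0, by omega⟩ : Fin n) (1 : F)))
        (Pi.single (⟨0, by omega⟩ : Fin n) (1 : F)) := by
  ext i j
  rw [dmat_apply, Matrix.add_apply, Matrix.smul_apply, Matrix.vecMulVec_apply, Pi.smul_apply,
    Matrix.one_apply, smul_eq_mul, smul_eq_mul]
  unfold dvec
  by_cases hi : i = ⟨0, by omega⟩
  · by_cases hj : j = ⟨0, by omega⟩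
    · rw [hi, hj]
      simp
      ring
    · rw [hi, if_neg (Ne.symm hj), if_neg (Ne.symm hj), Pi.single_eq_of_ne hj]
      simp
  · have hi' : ¬ (i : ℕ) = 0 := fun h => hi (Fin.ext h)
    rw [Pi.single_eq_of_ne hi]
    by_cases hij : i = j
    · rw [if_pos hij, if_pos hij, if_neg hi']
      ring
    · rw [if_neg hij, if_neg hij]
      ring

/-- the transvection, in characteristic two -/
theorem transvection_eq_rank_one (i j : Fin n) :
    Matrix.transvection i j (1 : F) = (1 : F) • (1 : Matrix (Fin n) (Fin n) F) +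
      Matrix.vecMulVec (Pi.single i (1 : F)) (Pi.single j (1 : F)) := by
  ext a b
  rw [Matrix.transvection, one_smul, Matrix.add_apply, Matrix.add_apply,
    Matrix.vecMulVec_apply, Matrix.single_apply, Pi.single_apply, Pi.single_apply]
  congr 1
  by_cases h1 : a = i
  · by_cases h2 : b = j
    · simp [h1, h2]
    · simp [h1, h2, Ne.symm h2]
  · simp [h1, Ne.symm h1]

theorem transvection_sq (h2 : (2 : F) = 0) (i j : Fin n) (hij : i ≠ j) :
    Matrix.transvection i j (1 : F) * Matrix.transvection i j (1 : F) =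
      (1 : F) • (1 : Matrix (Fin n) (Fin n) F) := by
  rw [Matrix.transvection_mul_transvection_same i j hij, one_add_one_eq_two, h2,
    Matrix.transvection_zero, one_smul]

theorem transvection_not_scalar (i j : Fin n) (hij : i ≠ j) (z : F) :
    Matrix.transvection i j (1 : F) ≠ z • (1 : Matrix (Fin n) (Fin n) F) := by
  intro h
  have := congrFun (congrFun h i) j
  rw [Matrix.transvection, Matrix.add_apply, Matrix.smul_apply,
    Matrix.one_apply_ne hij, Matrix.single_apply_same, smul_eq_mul, mul_zero, zero_add] at this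
  exact one_ne_zero this

end Cfsg.Agent.Lib.H11.InvCls
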