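import Cfsg.Agent.Lib.H11.InvK2
import Cfsg.Agent.Lib.H11.InvCls5

/-!
# Quadratic field subalgebras (part 4): conjugating involutions into the normaliser

The transfer lemma; the case of a non-square scalar square; the diagonalisable case with
eigenspaces of even dimension.
-/

set_option autoImplicit false
set_option linter.unusedSectionVars false

namespace Cfsg.Agent.Lib.H11.InvCls

open Matrix Module Cfsg.Agent.Lib.H11.PSLGraph Cfsg.Agent.Lib.H11.Jordan

variable {F : Type*} [Field F] {n : ℕ} {K : Subalgebra F (Matrix (Fin n) (Fin n) F)}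

/-- the transfer lemma for normalisers -/
theorem exists_conj_mem_normalizer (x : Matrix.SpecialLinearGroup (Fin n) F)
    (x' x'i A Ai : Matrix (Fin n) (Fin n) F) (hA : A * Ai = 1)
    (hconj : A * (x : Matrix (Fin n) (Fin n) F) = x' * A) (hx' : x' * x'i = 1)
    (hN : ∀ k : Matrix (Fin n) (Fin n) F, k ∈ K ↔ x' * k * x'i ∈ K)
    (hcent : ∀ d : F, d ≠ 0 → ∃ C : Matrix (Fin n) (Fin n) F,
      C * (x : Matrix (Fin n) (Fin n) F) = (x : Matrix (Fin n) (Fin n) F) * C ∧ C.det = d) :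
    ∃ P : Matrix.SpecialLinearGroup (Fin n) F, P⁻¹ * x * P ∈
      (Cfsg.Geo.subalgebraNormalizer K).comap
        (Matrix.SpecialLinearGroup.toGL : Matrix.SpecialLinearGroup (Fin n) F →* GL (Fin n) F) := by
  have hAdet : A.det ≠ 0 := by
    intro h
    have := congrArg Matrix.det hA
    rw [Matrix.det_mul, h, zero_mul, Matrix.det_one] at this
    exact zero_ne_one this
  have hAiA : Ai * A = 1 := mul_eq_one_comm.mp hA
  obtain ⟨C, hC, hCdet⟩ := hcent _ hAdet
  have hCu : IsUnit C.det := by rw [hCdet]; exact isUnit_iff_ne_zero.2 hAdet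
  have hAidet : Ai.det * A.det = 1 := by rw [← Matrix.det_mul, hAiA, Matrix.det_one]
  have hPdet : (C * Ai).det = 1 := by
    rw [Matrix.det_mul, hCdet, mul_comm]
    exact hAidet
  have hinv : (C * Ai) * (A * C⁻¹) = 1 := by
    rw [Matrix.mul_assoc, ← Matrix.mul_assoc Ai, hAiA, Matrix.one_mul, Matrix.mul_nonsing_inv _ hCu]
  have hCx : C⁻¹ * (x : Matrix (Fin n) (Fin n) F) * C = (x : Matrix (Fin n) (Fin n) F) := by
    rw [Matrix.mul_assoc, ← hC, ← Matrix.mul_assoc, Matrix.nonsing_inv_mul _ hCu, Matrix.one_mul]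
  refine ⟨⟨C * Ai, hPdet⟩, ?_⟩
  set P : Matrix.SpecialLinearGroup (Fin n) F := ⟨C * Ai, hPdet⟩ with hP
  rw [Subgroup.mem_comap]
  set g : GL (Fin n) F := Matrix.SpecialLinearGroup.toGL (P⁻¹ * x * P) with hg
  have hcoe : (g : Matrix (Fin n) (Fin n) F) = x' := by
    rw [hg, Matrix.SpecialLinearGroup.coe_GL_coe_matrix, Matrix.SpecialLinearGroup.coe_mul,
      Matrix.SpecialLinearGroup.coe_mul, sl_inv_coe P (A * C⁻¹) hinv]
    show A * C⁻¹ * (x : Matrix (Fin n) (Fin n) F) * (C * Ai) = _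
    calc A * C⁻¹ * (x : Matrix (Fin n) (Fin n) F) * (C * Ai)
        = A * (C⁻¹ * (x : Matrix (Fin n) (Fin n) F) * C) * Ai := by simp only [Matrix.mul_assoc]
      _ = x' := by rw [hCx, hconj, Matrix.mul_assoc, hA, Matrix.mul_one]
  have hcoei : ((g⁻¹ : GL (Fin n) F) : Matrix (Fin n) (Fin n) F) = x'i := by
    have h1 : ((g⁻¹ : GL (Fin n) F) : Matrix (Fin n) (Fin n) F) * x' = 1 := by
      rw [← hcoe, ← Units.val_mul, inv_mul_cancel, Units.val_one]
    calc ((g⁻¹ : GL (Fin n) F) : Matrix (Fin n) (Fin n) F)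
        = ((g⁻¹ : GL (Fin n) F) : Matrix (Fin n) (Fin n) F) * (x' * x'i) := by
          rw [hx', Matrix.mul_one]
      _ = x'i := by rw [← Matrix.mul_assoc, h1, Matrix.one_mul]
  show ∀ k : Matrix (Fin n) (Fin n) F, k ∈ K ↔
    (g : Matrix (Fin n) (Fin n) F) * k * ((g⁻¹ : GL (Fin n) F) : Matrix (Fin n) (Fin n) F) ∈ K
  rw [hcoe, hcoei]
  exact hN

/-- case B: a non-square scalar square -/
theorem conj_normalizer_nonsquare [Fintype F] (hn : 0 < n) (hK : Cfsg.Geo.IsFieldSubalgebra 2 K)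
    (h2 : (2 : F) ≠ 0) (x : Matrix.SpecialLinearGroup (Fin n) F) (z : F) (hz : ¬ IsSquare z)
    (hx : (x : Matrix (Fin n) (Fin n) F) * (x : Matrix (Fin n) (Fin n) F) =
      z • (1 : Matrix (Fin n) (Fin n) F))
    (hcent : ∀ d : F, d ≠ 0 → ∃ C : Matrix (Fin n) (Fin n) F,
      C * (x : Matrix (Fin n) (Fin n) F) = (x : Matrix (Fin n) (Fin n) F) * C ∧ C.det = d) :
    ∃ P : Matrix.SpecialLinearGroup (Fin n) F, P⁻¹ * x * P ∈
      (Cfsg.Geo.subalgebraNormalizer K).comap
        (Matrix.SpecialLinearGroup.toGL : Matrix.SpecialLinearGroup (Fin n) F →* GL (Fin n) F) := by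
  have hz0 : z ≠ 0 := by
    rintro rfl
    exact hz ⟨0, by simp⟩
  obtain ⟨θ, t, d, hgen⟩ := exists_quadGen hn hK
  obtain ⟨s, Δ, hs, hss, hΔ, -⟩ := hgen.exists_sqrt_gen hK h2
  obtain ⟨y, hy, hyy, -⟩ := exists_sqrt_in_K hs hss hΔ z hz
  have ht : ∀ v, Matrix.toLin' (x : Matrix (Fin n) (Fin n) F)
      (Matrix.toLin' (x : Matrix (Fin n) (Fin n) F) v) = z • v := by
    intro v
    rw [← LinearMap.comp_apply, ← Matrix.toLin'_mul, hx, Matrix.toLin'_apply,
      Matrix.smul_mulVec, Matrix.one_mulVec]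
  have ht' : ∀ v, Matrix.toLin' y (Matrix.toLin' y v) = z • v := by
    intro v
    rw [← LinearMap.comp_apply, ← Matrix.toLin'_mul, hyy, Matrix.toLin'_apply,
      Matrix.smul_mulVec, Matrix.one_mulVec]
  obtain ⟨g, hg⟩ := Cfsg.Agent.Lib.H13.InvolConjLin.conj_of_no_eigen z _ _ ht ht'
    (no_eigen z hz _ ht) (no_eigen z hz _ ht')
  obtain ⟨A, Ai, hA, hconj⟩ := mat_of_conj _ y g hg
  have hyi : y * (z⁻¹ • y) = 1 := by
    rw [Matrix.mul_smul, hyy, smul_smul, inv_mul_cancel₀ hz0, one_smul]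
  have hyi' : (z⁻¹ • y) * y = 1 := by
    rw [Matrix.smul_mul, hyy, smul_smul, inv_mul_cancel₀ hz0, one_smul]
  have hθy : y * θ * (z⁻¹ • y) = θ := by
    rw [hK.comm y hy θ hgen.mem, Matrix.mul_assoc, hyi, Matrix.mul_one]
  have hθy' : (z⁻¹ • y) * θ * y = θ := by
    rw [Matrix.mul_assoc, ← hK.comm y hy θ hgen.mem, ← Matrix.mul_assoc, hyi', Matrix.one_mul]
  exact exists_conj_mem_normalizer x y (z⁻¹ • y) A Ai hA hconj hyi
    (hgen.normalizes y (z⁻¹ • y) hyi hyi' (by rw [hθy]; exact hgen.mem)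
      (by rw [hθy']; exact hgen.mem)) hcent

/-- parity of the `-1`-eigenspace -/
theorem even_neg_eigenspace [Fintype F] (h2 : (2 : F) ≠ 0)
    (x : Matrix (Fin n) (Fin n) F) (l : F) (hl : l ≠ 0)
    (hx : x * x = (l * l) • (1 : Matrix (Fin n) (Fin n) F)) (hdet : x.det = 1)
    (hpow : ∀ μ : F, μ ^ n ≠ -1) :
    Even (finrank F (LinearMap.ker (Matrix.toLin' (l⁻¹ • x) + LinearMap.id))) := by
  set u : Matrix (Fin n) (Fin n) F := l⁻¹ • x with hu
  have huu : u * u = 1 := by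
    rw [hu, Matrix.smul_mul, Matrix.mul_smul, hx, smul_smul, smul_smul]
    have : l⁻¹ * l⁻¹ * (l * l) = 1 := by field_simp
    rw [this, one_smul]
  have ht : ∀ v, Matrix.toLin' u (Matrix.toLin' u v) = v := by
    intro v
    rw [← LinearMap.comp_apply, ← Matrix.toLin'_mul, huu, Matrix.toLin'_one, LinearMap.id_apply]
  set b' := finrank F (LinearMap.ker (Matrix.toLin' u + LinearMap.id)) with hb'
  have hb'n : b' ≤ n := by
    have := Submodule.finrank_le (LinearMap.ker (Matrix.toLin' u + LinearMap.id))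
    rwa [Module.finrank_fintype_fun_eq_card, Fintype.card_fin] at this
  set a' := n - b' with ha'
  let e : Fin n ≃ Fin b' ⊕ Fin a' :=
    (finCongr (by omega)).trans (finSumFinEquiv (m := b') (n := a')).symm
  set D₀ : Matrix (Fin b' ⊕ Fin a') (Fin b' ⊕ Fin a') F := Matrix.fromBlocks (-1) 0 0 1 with hD₀
  have hD₀2 : D₀ * D₀ = 1 := by
    rw [hD₀, Matrix.fromBlocks_multiply, ← Matrix.fromBlocks_one]
    simp
  have hDD : D₀.submatrix e e * D₀.submatrix e e = 1 := by
    rw [Matrix.submatrix_mul_equiv, hD₀2, Matrix.submatrix_one_equiv]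
  have ht' : ∀ v, Matrix.toLin' (D₀.submatrix e e) (Matrix.toLin' (D₀.submatrix e e) v) = v := by
    intro v
    rw [← LinearMap.comp_apply, ← Matrix.toLin'_mul, hDD, Matrix.toLin'_one, LinearMap.id_apply]
  have hker : finrank F (LinearMap.ker (Matrix.toLin' (D₀.submatrix e e) + LinearMap.id)) = b' := by
    have h1 : Matrix.toLin' (D₀.submatrix e e) + LinearMap.id =
        Matrix.toLin' ((D₀ + 1).submatrix e e) := by
      rw [submatrix_add', Matrix.submatrix_one_equiv, map_add, Matrix.toLin'_one]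
    have h3 : D₀ + 1 = Matrix.fromBlocks 0 0 0 ((2 : F) • (1 : Matrix (Fin a') (Fin a') F)) := by
      rw [hD₀, ← Matrix.fromBlocks_one, Matrix.fromBlocks_add, two_smul]
      simp
    have h4 : ((2 : F) • (1 : Matrix (Fin a') (Fin a') F)).rank = a' := by
      have : IsUnit ((2 : F) • (1 : Matrix (Fin a') (Fin a') F)) := by
        rw [Matrix.isUnit_iff_isUnit_det, Matrix.det_smul, Matrix.det_one, mul_one]
        exact (isUnit_iff_ne_zero.2 h2).pow _
      rw [Matrix.rank_of_isUnit _ this, Fintype.card_fin]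
    rw [h1, h3]
    have h5 := finrank_ker_toLin'
      ((Matrix.fromBlocks 0 0 0 ((2 : F) • (1 : Matrix (Fin a') (Fin a') F)) :
        Matrix (Fin b' ⊕ Fin a') (Fin b' ⊕ Fin a') F).submatrix e e)
    rw [Matrix.rank_submatrix, rank_fromBlocks_diag, Matrix.rank_zero, h4, zero_add] at h5
    omega
  obtain ⟨g, hg⟩ := Cfsg.Agent.Lib.H13.InvolConjLin.conj_of_finrank h2 _ _ ht ht'
    (hb'.symm.trans hker.symm)
  obtain ⟨P, Pi, hP, hconj⟩ := mat_of_conj u (D₀.submatrix e e) g hg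
  have hPdet : P.det ≠ 0 := by
    intro h
    have := congrArg Matrix.det hP
    rw [Matrix.det_mul, h, zero_mul, Matrix.det_one] at this
    exact zero_ne_one this
  have hdetu : u.det = (-1) ^ b' := by
    have h1 := congrArg Matrix.det hconj
    rw [Matrix.det_mul, Matrix.det_mul, Matrix.det_submatrix_equiv_self, mul_comm] at h1
    have h3 := mul_right_cancel₀ hPdet h1
    rw [h3, hD₀, Matrix.det_fromBlocks_zero₂₁, Matrix.det_neg, Matrix.det_one, Matrix.det_one,
      Fintype.card_fin, mul_one, mul_one]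
  have hdetu' : u.det = (l⁻¹) ^ n := by
    rw [hu, Matrix.det_smul, hdet, mul_one, Fintype.card_fin]
  by_contra hodd
  rw [Nat.not_even_iff_odd] at hodd
  apply hpow l⁻¹
  rw [← hdetu', hdetu, hodd.neg_one_pow]

/-- an involution commuting with `s` with a prescribed even-dimensional `-1`-eigenspace -/
theorem exists_invol_commuting (h2 : (2 : F) ≠ 0) (m : ℕ) (hnm : n = 2 * m)
    (s : Matrix (Fin n) (Fin n) F) (Δ : F) (hss : s * s = Δ • (1 : Matrix (Fin n) (Fin n) F))
    (hΔ : ¬ IsSquare Δ) (k : ℕ) (hk : k ≤ m) :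
    ∃ D : Matrix (Fin n) (Fin n) F, D * D = 1 ∧ D * s = s * D ∧
      finrank F (LinearMap.ker (Matrix.toLin' D + LinearMap.id)) = 2 * k := by
  set k' := m - k with hk'
  let e : Fin n ≃ (Fin k ⊕ Fin k') ⊕ (Fin k ⊕ Fin k') :=
    ((finCongr (by omega : n = (k + k') + (k + k'))).trans
      (finSumFinEquiv (m := k + k') (n := k + k')).symm).trans
      (Equiv.sumCongr (finSumFinEquiv (m := k) (n := k')).symm
        (finSumFinEquiv (m := k) (n := k')).symm)
  set E : Matrix (Fin k ⊕ Fin k') (Fin k ⊕ Fin k') F := Matrix.fromBlocks (-1) 0 0 1 with hE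
  set S₀ : Matrix ((Fin k ⊕ Fin k') ⊕ (Fin k ⊕ Fin k')) ((Fin k ⊕ Fin k') ⊕ (Fin k ⊕ Fin k')) F :=
    Matrix.fromBlocks 0 (Δ • (1 : Matrix (Fin k ⊕ Fin k') (Fin k ⊕ Fin k') F)) 1 0 with hS₀
  set D₀ : Matrix ((Fin k ⊕ Fin k') ⊕ (Fin k ⊕ Fin k')) ((Fin k ⊕ Fin k') ⊕ (Fin k ⊕ Fin k')) F :=
    Matrix.fromBlocks E 0 0 E with hD₀
  have hEE : E * E = 1 := by
    rw [hE, Matrix.fromBlocks_multiply, ← Matrix.fromBlocks_one]
    simp
  have hS₀2 : S₀ * S₀ = Δ • (1 : Matrix _ _ F) := by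
    rw [hS₀, Matrix.fromBlocks_multiply]
    ext (i | i) (j | j) <;> simp [Matrix.one_apply, Matrix.smul_apply]
  have hD₀2 : D₀ * D₀ = 1 := by
    rw [hD₀, Matrix.fromBlocks_multiply, ← Matrix.fromBlocks_one]
    simp [hEE]
  have hDS : D₀ * S₀ = S₀ * D₀ := by
    rw [hD₀, hS₀, Matrix.fromBlocks_multiply, Matrix.fromBlocks_multiply]
    simp
  have hS'2 : S₀.submatrix e e * S₀.submatrix e e = Δ • (1 : Matrix (Fin n) (Fin n) F) := by
    rw [Matrix.submatrix_mul_equiv, hS₀2, submatrix_smul', Matrix.submatrix_one_equiv]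
  have ht : ∀ v, Matrix.toLin' s (Matrix.toLin' s v) = Δ • v := by
    intro v
    rw [← LinearMap.comp_apply, ← Matrix.toLin'_mul, hss, Matrix.toLin'_apply,
      Matrix.smul_mulVec, Matrix.one_mulVec]
  have ht' : ∀ v, Matrix.toLin' (S₀.submatrix e e) (Matrix.toLin' (S₀.submatrix e e) v) =
      Δ • v := by
    intro v
    rw [← LinearMap.comp_apply, ← Matrix.toLin'_mul, hS'2, Matrix.toLin'_apply,
      Matrix.smul_mulVec, Matrix.one_mulVec]
  obtain ⟨g, hg⟩ := Cfsg.Agent.Lib.H13.InvolConjLin.conj_of_no_eigen Δ _ _ ht ht'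
    (no_eigen Δ hΔ _ ht) (no_eigen Δ hΔ _ ht')
  obtain ⟨B, Bi, hB, hconj⟩ := mat_of_conj s (S₀.submatrix e e) g hg
  have hBiB : Bi * B = 1 := mul_eq_one_comm.mp hB
  have hsB : s = Bi * S₀.submatrix e e * B := by
    rw [Matrix.mul_assoc, ← hconj, ← Matrix.mul_assoc, hBiB, Matrix.one_mul]
  have hBdet : IsUnit B.det := Matrix.isUnit_det_of_right_inverse hB
  have hBidet : IsUnit Bi.det := Matrix.isUnit_det_of_right_inverse hBiB
  refine ⟨Bi * D₀.submatrix e e * B, ?_, ?_, ?_⟩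
  · calc Bi * D₀.submatrix e e * B * (Bi * D₀.submatrix e e * B)
        = Bi * (D₀.submatrix e e * (B * Bi) * D₀.submatrix e e) * B := by
          simp only [Matrix.mul_assoc]
      _ = 1 := by
          rw [hB, Matrix.mul_one, Matrix.submatrix_mul_equiv, hD₀2, Matrix.submatrix_one_equiv,
            Matrix.mul_one, hBiB]
  · rw [hsB]
    calc Bi * D₀.submatrix e e * B * (Bi * S₀.submatrix e e * B)
        = Bi * (D₀.submatrix e e * (B * Bi) * S₀.submatrix e e) * B := by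
          simp only [Matrix.mul_assoc]
      _ = Bi * (S₀.submatrix e e * (B * Bi) * D₀.submatrix e e) * B := by
          rw [hB, Matrix.mul_one, Matrix.mul_one, Matrix.submatrix_mul_equiv,
            Matrix.submatrix_mul_equiv, hDS]
      _ = _ := by simp only [Matrix.mul_assoc]
  · have h1 : Matrix.toLin' (Bi * D₀.submatrix e e * B) + LinearMap.id =
        Matrix.toLin' (Bi * (D₀ + 1).submatrix e e * B) := by
      rw [submatrix_add', Matrix.submatrix_one_equiv, Matrix.mul_add, Matrix.add_mul,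
        Matrix.mul_one, hBiB, map_add, Matrix.toLin'_one]
    have h3 : D₀ + 1 = Matrix.fromBlocks
        (Matrix.fromBlocks 0 0 0 ((2 : F) • (1 : Matrix (Fin k') (Fin k') F)))
        0 0 (Matrix.fromBlocks 0 0 0 ((2 : F) • (1 : Matrix (Fin k') (Fin k') F))) := by
      rw [hD₀, hE, ← Matrix.fromBlocks_one, Matrix.fromBlocks_add, ← Matrix.fromBlocks_one,
        Matrix.fromBlocks_add, two_smul]
      simp
    have h4 : ((2 : F) • (1 : Matrix (Fin k') (Fin k') F)).rank = k' := by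
      have : IsUnit ((2 : F) • (1 : Matrix (Fin k') (Fin k') F)) := by
        rw [Matrix.isUnit_iff_isUnit_det, Matrix.det_smul, Matrix.det_one, mul_one]
        exact (isUnit_iff_ne_zero.2 h2).pow _
      rw [Matrix.rank_of_isUnit _ this, Fintype.card_fin]
    rw [h1]
    have h5 := finrank_ker_toLin' (Bi * (D₀ + 1).submatrix e e * B)
    rw [Matrix.rank_mul_eq_left_of_isUnit_det _ _ hBdet,
      Matrix.rank_mul_eq_right_of_isUnit_det _ _ hBidet, Matrix.rank_submatrix, h3,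
      rank_fromBlocks_diag, rank_fromBlocks_diag, Matrix.rank_zero, h4, zero_add] at h5
    rw [← h3] at h5
    omega

end Cfsg.Agent.Lib.H11.InvCls
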