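import Cfsg.Agent.Lib.H11.InvK4

/-!
# Quadratic field subalgebras (part 5): the even diagonalisable case, and degree two
-/

set_option autoImplicit false
set_option linter.unusedSectionVars false

namespace Cfsg.Agent.Lib.H11.InvCls

open Matrix Module Cfsg.Agent.Lib.H11.PSLGraph Cfsg.Agent.Lib.H11.Jordan

section even

variable {F : Type*} [Field F] {n : ℕ} {K : Subalgebra F (Matrix (Fin n) (Fin n) F)}

/-- case A: square scalar square, odd characteristic, `-1` not an `n`-th power -/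
theorem conj_normalizer_even [Fintype F] (hn : 0 < n) (m : ℕ) (hnm : n = 2 * m)
    (hK : Cfsg.Geo.IsFieldSubalgebra 2 K) (h2 : (2 : F) ≠ 0)
    (x : Matrix.SpecialLinearGroup (Fin n) F) (l : F) (hl : l ≠ 0)
    (hx : (x : Matrix (Fin n) (Fin n) F) * (x : Matrix (Fin n) (Fin n) F) =
      (l * l) • (1 : Matrix (Fin n) (Fin n) F))
    (hpow : ∀ μ : F, μ ^ n ≠ -1)
    (hcent : ∀ d : F, d ≠ 0 → ∃ C : Matrix (Fin n) (Fin n) F,
      C * (x : Matrix (Fin n) (Fin n) F) = (x : Matrix (Fin n) (Fin n) F) * C ∧ C.det = d) :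
    ∃ P : Matrix.SpecialLinearGroup (Fin n) F, P⁻¹ * x * P ∈
      (Cfsg.Geo.subalgebraNormalizer K).comap
        (Matrix.SpecialLinearGroup.toGL : Matrix.SpecialLinearGroup (Fin n) F →* GL (Fin n) F) := by
  have hev := even_neg_eigenspace h2 (x : Matrix (Fin n) (Fin n) F) l hl hx x.det_coe hpow
  set u : Matrix (Fin n) (Fin n) F := l⁻¹ • (x : Matrix (Fin n) (Fin n) F) with hu
  obtain ⟨k, hk⟩ := hev
  have hb'n : finrank F (LinearMap.ker (Matrix.toLin' u + LinearMap.id)) ≤ n := by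
    have := Submodule.finrank_le (LinearMap.ker (Matrix.toLin' u + LinearMap.id))
    rwa [Module.finrank_fintype_fun_eq_card, Fintype.card_fin] at this
  have hkm : k ≤ m := by omega
  obtain ⟨θ, t, d, hgen⟩ := exists_quadGen hn hK
  obtain ⟨s, Δ, hs, hss, hΔ, hθs⟩ := hgen.exists_sqrt_gen hK h2
  obtain ⟨D, hDD, hDs, hDker⟩ := exists_invol_commuting h2 m hnm s Δ hss hΔ k hkm
  have huu : u * u = 1 := by
    rw [hu, Matrix.smul_mul, Matrix.mul_smul, hx, smul_smul, smul_smul]
    have : l⁻¹ * l⁻¹ * (l * l) = 1 := by field_simp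
    rw [this, one_smul]
  have ht : ∀ v, Matrix.toLin' u (Matrix.toLin' u v) = v := by
    intro v
    rw [← LinearMap.comp_apply, ← Matrix.toLin'_mul, huu, Matrix.toLin'_one, LinearMap.id_apply]
  have ht' : ∀ v, Matrix.toLin' D (Matrix.toLin' D v) = v := by
    intro v
    rw [← LinearMap.comp_apply, ← Matrix.toLin'_mul, hDD, Matrix.toLin'_one, LinearMap.id_apply]
  obtain ⟨g, hg⟩ := Cfsg.Agent.Lib.H13.InvolConjLin.conj_of_finrank h2 _ _ ht ht'
    (by rw [hk, hDker]; ring)
  obtain ⟨A, Ai, hA, hconj⟩ := mat_of_conj u D g hg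
  have hDθ : D * θ = θ * D := by
    rw [hθs, Matrix.mul_smul, Matrix.smul_mul, Matrix.mul_add, Matrix.add_mul, hDs,
      Matrix.mul_smul, Matrix.smul_mul, Matrix.mul_one, Matrix.one_mul]
  have hxu : (x : Matrix (Fin n) (Fin n) F) = l • u := by
    rw [hu, smul_smul, mul_inv_cancel₀ hl, one_smul]
  have h1 : (l • D) * (l⁻¹ • D) = 1 := by
    rw [Matrix.smul_mul, Matrix.mul_smul, hDD, smul_smul, mul_inv_cancel₀ hl, one_smul]
  have h1' : (l⁻¹ • D) * (l • D) = 1 := by
    rw [Matrix.smul_mul, Matrix.mul_smul, hDD, smul_smul, inv_mul_cancel₀ hl, one_smul]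
  have h3 : (l • D) * θ * (l⁻¹ • D) = θ := by
    rw [Matrix.smul_mul, Matrix.smul_mul, Matrix.mul_smul, smul_smul, mul_inv_cancel₀ hl, one_smul,
      hDθ, Matrix.mul_assoc, hDD, Matrix.mul_one]
  have h3' : (l⁻¹ • D) * θ * (l • D) = θ := by
    rw [Matrix.smul_mul, Matrix.smul_mul, Matrix.mul_smul, smul_smul, inv_mul_cancel₀ hl, one_smul,
      hDθ, Matrix.mul_assoc, hDD, Matrix.mul_one]
  refine exists_conj_mem_normalizer x (l • D) (l⁻¹ • D) A Ai hA ?_ h1
    (hgen.normalizes _ _ h1 h1' (by rw [h3]; exact hgen.mem) (by rw [h3']; exact hgen.mem)) hcent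
  rw [hxu, Matrix.mul_smul, hconj, Matrix.smul_mul]

end even

section two

variable {F : Type*} [Field F]

/-- a non-scalar `2 × 2` matrix has a cyclic vector -/
theorem exists_cyclic (y : Matrix (Fin 2) (Fin 2) F)
    (hy : ∀ c : F, y ≠ c • (1 : Matrix (Fin 2) (Fin 2) F)) :
    ∃ v : Fin 2 → F, v 0 * (y *ᵥ v) 1 - v 1 * (y *ᵥ v) 0 ≠ 0 := by
  by_cases h10 : y 1 0 = 0
  · by_cases h01 : y 0 1 = 0
    · refine ⟨![1, 1], ?_⟩
      simp only [Matrix.mulVec, dotProduct, Fin.sum_univ_two, Matrix.cons_val_zero,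
        Matrix.cons_val_one, h10, h01]
      intro h
      apply hy (y 0 0)
      have h11 : y 1 1 = y 0 0 := by linear_combination h
      ext i j
      fin_cases i <;> fin_cases j <;> simp [h10, h01, h11]
    · refine ⟨![0, 1], ?_⟩
      simp only [Matrix.mulVec, dotProduct, Fin.sum_univ_two, Matrix.cons_val_zero,
        Matrix.cons_val_one]
      intro h
      apply h01
      linear_combination -h
  · refine ⟨![1, 0], ?_⟩
    simp only [Matrix.mulVec, dotProduct, Fin.sum_univ_two, Matrix.cons_val_zero,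
      Matrix.cons_val_one]
    intro h
    apply h10
    linear_combination h

/-- companion form of a non-scalar `2 × 2` matrix -/
theorem conj_companion (y : Matrix (Fin 2) (Fin 2) F)
    (hy : ∀ c : F, y ≠ c • (1 : Matrix (Fin 2) (Fin 2) F)) (t d : F)
    (hyy : y * y = t • y - d • (1 : Matrix (Fin 2) (Fin 2) F)) :
    ∃ B Bi : Matrix (Fin 2) (Fin 2) F, B * Bi = 1 ∧ Bi * B = 1 ∧ y * B = B * !![0, -d; 1, t] := by
  obtain ⟨v, hv⟩ := exists_cyclic y hy
  set w := y *ᵥ v with hw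
  have hyw : y *ᵥ w = t • w - d • v := by
    rw [hw, Matrix.mulVec_mulVec, hyy, Matrix.sub_mulVec, Matrix.smul_mulVec, Matrix.smul_mulVec,
      Matrix.one_mulVec]
  set B : Matrix (Fin 2) (Fin 2) F := Matrix.of fun i j => if j = 0 then v i else w i with hB
  have hdet : B.det = v 0 * w 1 - v 1 * w 0 := by
    rw [Matrix.det_fin_two]
    simp [hB]
    ring
  have hu : IsUnit B.det := by
    rw [hdet]
    exact isUnit_iff_ne_zero.2 hv
  refine ⟨B, B⁻¹, Matrix.mul_nonsing_inv _ hu, Matrix.nonsing_inv_mul _ hu, ?_⟩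
  ext i j
  fin_cases j
  · have : (y * B) i 0 = w i := by
      rw [Matrix.mul_apply, hw]
      simp [hB, Matrix.mulVec, dotProduct]
    simp only [Fin.zero_eta]
    rw [this, Matrix.mul_apply, Fin.sum_univ_two]
    simp [hB]
  · have : (y * B) i 1 = (y *ᵥ w) i := by
      rw [Matrix.mul_apply]
      simp [hB, Matrix.mulVec, dotProduct]
    simp only [Fin.mk_one]
    rw [this, hyw, Matrix.mul_apply, Fin.sum_univ_two]
    simp [hB]
    ring

/-- non-scalar `2 × 2` matrices with the same quadratic equation are conjugate -/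
theorem conj_of_same_quadratic (y y' : Matrix (Fin 2) (Fin 2) F)
    (hy : ∀ c : F, y ≠ c • (1 : Matrix (Fin 2) (Fin 2) F))
    (hy' : ∀ c : F, y' ≠ c • (1 : Matrix (Fin 2) (Fin 2) F)) (t d : F)
    (hyy : y * y = t • y - d • (1 : Matrix (Fin 2) (Fin 2) F))
    (hyy' : y' * y' = t • y' - d • (1 : Matrix (Fin 2) (Fin 2) F)) :
    ∃ A Ai : Matrix (Fin 2) (Fin 2) F, A * Ai = 1 ∧ A * y = y' * A := by
  obtain ⟨B, Bi, h1, h2, h3⟩ := conj_companion y hy t d hyy
  obtain ⟨B', Bi', h1', h2', h3'⟩ := conj_companion y' hy' t d hyy'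
  refine ⟨B' * Bi, B * Bi', ?_, ?_⟩
  · calc B' * Bi * (B * Bi') = B' * (Bi * B) * Bi' := by simp only [Matrix.mul_assoc]
      _ = 1 := by rw [h2, Matrix.mul_one, h1']
  · have h4 : Bi * y = !![0, -d; 1, t] * Bi := by
      calc Bi * y = Bi * (y * B) * Bi := by
            rw [Matrix.mul_assoc, Matrix.mul_assoc, h1, Matrix.mul_one]
        _ = !![0, -d; 1, t] * Bi := by
            rw [h3, ← Matrix.mul_assoc, h2, Matrix.one_mul]
    calc B' * Bi * y = B' * (Bi * y) := by rw [Matrix.mul_assoc]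
      _ = (B' * !![0, -d; 1, t]) * Bi := by rw [h4, Matrix.mul_assoc]
      _ = y' * (B' * Bi) := by rw [← h3', Matrix.mul_assoc]

variable {K : Subalgebra F (Matrix (Fin 2) (Fin 2) F)}

/-- the Galois conjugation of a quadratic field subalgebra in degree two -/
theorem exists_galois [Fintype F] (hK : Cfsg.Geo.IsFieldSubalgebra 2 K)
    {θ : Matrix (Fin 2) (Fin 2) F} {t d : F} (hgen : IsQuadGen K θ t d) :
    ∃ τ : Matrix (Fin 2) (Fin 2) F, τ * τ = 1 ∧ τ * θ * τ = t • (1 : Matrix (Fin 2) (Fin 2) F) - θ ∧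
      ∀ c : F, τ ≠ c • (1 : Matrix (Fin 2) (Fin 2) F) := by
  obtain ⟨B, Bi, h1, h2, h3⟩ := conj_companion θ hgen.nonscalar t d hgen.sq
  have hθ : θ = B * !![0, -d; 1, t] * Bi := by
    rw [← h3, Matrix.mul_assoc, h1, Matrix.mul_one]
  have hτ₀ : (!![1, t; 0, -1] : Matrix (Fin 2) (Fin 2) F) * !![1, t; 0, -1] = 1 := by
    ext i j
    fin_cases i <;> fin_cases j <;> simp [Matrix.mul_apply, Fin.sum_univ_two]
  have hτc : (!![1, t; 0, -1] : Matrix (Fin 2) (Fin 2) F) * !![0, -d; 1, t] * !![1, t; 0, -1] =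
      t • (1 : Matrix (Fin 2) (Fin 2) F) - !![0, -d; 1, t] := by
    ext i j
    fin_cases i <;> fin_cases j <;> simp [Matrix.mul_apply, Fin.sum_univ_two]
  refine ⟨B * !![1, t; 0, -1] * Bi, ?_, ?_, ?_⟩
  · calc B * !![1, t; 0, -1] * Bi * (B * !![1, t; 0, -1] * Bi)
        = B * (!![1, t; 0, -1] * (Bi * B) * !![1, t; 0, -1]) * Bi := by
          simp only [Matrix.mul_assoc]
      _ = 1 := by rw [h2, Matrix.mul_one, hτ₀, Matrix.mul_one, h1]
  · rw [hθ]
    calc B * !![1, t; 0, -1] * Bi * (B * !![0, -d; 1, t] * Bi) * (B * !![1, t; 0, -1] * Bi)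
        = B * (!![1, t; 0, -1] * (Bi * B) * !![0, -d; 1, t] * (Bi * B) * !![1, t; 0, -1]) * Bi := by
          simp only [Matrix.mul_assoc]
      _ = B * (t • (1 : Matrix (Fin 2) (Fin 2) F) - !![0, -d; 1, t]) * Bi := by
          rw [h2, Matrix.mul_one, Matrix.mul_one, hτc]
      _ = _ := by
          rw [Matrix.mul_sub, Matrix.sub_mul, Matrix.mul_smul, Matrix.smul_mul, Matrix.mul_one, h1]
  · intro c hc
    have h4 : (!![1, t; 0, -1] : Matrix (Fin 2) (Fin 2) F) = c • 1 := by
      calc (!![1, t; 0, -1] : Matrix (Fin 2) (Fin 2) F)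
          = Bi * (B * !![1, t; 0, -1] * Bi) * B := by
            simp only [Matrix.mul_assoc]
            rw [h2, Matrix.mul_one, ← Matrix.mul_assoc, h2, Matrix.one_mul]
        _ = c • 1 := by
            rw [hc, Matrix.mul_smul, Matrix.smul_mul, Matrix.mul_one, h2]
    have e00 := congrFun (congrFun h4 0) 0
    have e11 := congrFun (congrFun h4 1) 1
    have e01 := congrFun (congrFun h4 0) 1
    simp at e00 e11 e01
    have h20 : (2 : F) = 0 := by linear_combination e00 - e11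
    have hchar : ringChar F = 2 := by
      have h5 : ringChar F ∣ 2 := ringChar.dvd (R := F) (x := 2) (by exact_mod_cast h20)
      rcases (Nat.dvd_prime Nat.prime_two).1 h5 with h | h
      · exact absurd h (CharP.ringChar_ne_one)
      · exact h
    obtain ⟨r, hr⟩ := FiniteField.isSquare_of_char_two hchar d
    apply hgen.noroot hK r
    rw [e01, hr]
    linear_combination r * r * h20

end two

end Cfsg.Agent.Lib.H11.InvCls
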