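import Cfsg.Agent.Lib.H11.InvK5

/-!
# Quadratic field subalgebras (part 6): degree two, and parity of the field order
-/

set_option autoImplicit false
set_option linter.unusedSectionVars false

namespace Cfsg.Agent.Lib.H11.InvCls

open Matrix Module

variable {F : Type*} [Field F] [Fintype F]

theorem two_eq_zero_of_not_odd_card (h : ¬ Odd (Fintype.card F)) : (2 : F) = 0 := by
  have h1 : Fintype.card F % 2 = 0 := by
    rw [Nat.not_odd_iff_even] at h
    exact Nat.even_iff.1 h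
  have h2 : ringChar F = 2 := FiniteField.even_card_iff_char_two.2 h1
  have : CharP F 2 := ringChar.of_eq h2
  exact_mod_cast CharP.cast_eq_zero F 2

theorem two_eq_zero_iff_ringChar (h20 : (2 : F) = 0) : ringChar F = 2 := by
  have h1 : ringChar F ∣ 2 := ringChar.dvd (R := F) (x := 2) (by exact_mod_cast h20)
  rcases (Nat.dvd_prime Nat.prime_two).1 h1 with h | h
  · exact absurd h (CharP.ringChar_ne_one)
  · exact h

theorem two_ne_zero_of_odd_card (h : Odd (Fintype.card F)) : (2 : F) ≠ 0 := by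
  intro h20
  have h3 := two_eq_zero_iff_ringChar h20
  have h4 : Fintype.card F % 2 = 0 := FiniteField.even_card_iff_char_two.1 h3
  have := Nat.odd_iff.1 h
  omega

theorem two_ne_zero_of_nonsquare (z : F) (hz : ¬ IsSquare z) : (2 : F) ≠ 0 := by
  intro h20
  exact hz (FiniteField.isSquare_of_char_two (two_eq_zero_iff_ringChar h20) z)

variable {K : Subalgebra F (Matrix (Fin 2) (Fin 2) F)}

/-- degree two: square scalar square -/
theorem conj_normalizer_two (hK : Cfsg.Geo.IsFieldSubalgebra 2 K)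
    (x : Matrix.SpecialLinearGroup (Fin 2) F) (l : F) (hl : l ≠ 0)
    (hx : (x : Matrix (Fin 2) (Fin 2) F) * (x : Matrix (Fin 2) (Fin 2) F) =
      (l * l) • (1 : Matrix (Fin 2) (Fin 2) F))
    (hx2 : ∀ z : F, (x : Matrix (Fin 2) (Fin 2) F) ≠ z • (1 : Matrix (Fin 2) (Fin 2) F))
    (hcent : ∀ d : F, d ≠ 0 → ∃ C : Matrix (Fin 2) (Fin 2) F,
      C * (x : Matrix (Fin 2) (Fin 2) F) = (x : Matrix (Fin 2) (Fin 2) F) * C ∧ C.det = d) :
    ∃ P : Matrix.SpecialLinearGroup (Fin 2) F, P⁻¹ * x * P ∈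
      (Cfsg.Geo.subalgebraNormalizer K).comap
        (Matrix.SpecialLinearGroup.toGL : Matrix.SpecialLinearGroup (Fin 2) F →* GL (Fin 2) F) := by
  obtain ⟨θ, t, d, hgen⟩ := exists_quadGen (by norm_num) hK
  obtain ⟨τ, hττ, hτθ, hτns⟩ := exists_galois hK hgen
  have h1 : (l • τ) * (l⁻¹ • τ) = 1 := by
    rw [Matrix.smul_mul, Matrix.mul_smul, hττ, smul_smul, mul_inv_cancel₀ hl, one_smul]
  have h1' : (l⁻¹ • τ) * (l • τ) = 1 := by
    rw [Matrix.smul_mul, Matrix.mul_smul, hττ, smul_smul, inv_mul_cancel₀ hl, one_smul]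
  have h3 : (l • τ) * θ * (l⁻¹ • τ) = t • (1 : Matrix (Fin 2) (Fin 2) F) - θ := by
    rw [Matrix.smul_mul, Matrix.smul_mul, Matrix.mul_smul, smul_smul, mul_inv_cancel₀ hl, one_smul,
      hτθ]
  have h3' : (l⁻¹ • τ) * θ * (l • τ) = t • (1 : Matrix (Fin 2) (Fin 2) F) - θ := by
    rw [Matrix.smul_mul, Matrix.smul_mul, Matrix.mul_smul, smul_smul, inv_mul_cancel₀ hl, one_smul,
      hτθ]
  have hmem : t • (1 : Matrix (Fin 2) (Fin 2) F) - θ ∈ K := K.sub_mem (smul_one_mem K t) hgen.mem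
  have hns : ∀ c : F, l • τ ≠ c • (1 : Matrix (Fin 2) (Fin 2) F) := by
    intro c hc
    apply hτns (l⁻¹ * c)
    calc τ = l⁻¹ • (l • τ) := by rw [smul_smul, inv_mul_cancel₀ hl, one_smul]
      _ = (l⁻¹ * c) • 1 := by rw [hc, smul_smul]
  have hsq : (l • τ) * (l • τ) = (0 : F) • (l • τ) - (-(l * l)) • (1 : Matrix (Fin 2) (Fin 2) F) := by
    rw [Matrix.smul_mul, Matrix.mul_smul, hττ, smul_smul, zero_smul, zero_sub, neg_smul, neg_neg]
  have hsqx : (x : Matrix (Fin 2) (Fin 2) F) * (x : Matrix (Fin 2) (Fin 2) F) =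
      (0 : F) • (x : Matrix (Fin 2) (Fin 2) F) - (-(l * l)) • (1 : Matrix (Fin 2) (Fin 2) F) := by
    rw [hx, zero_smul, zero_sub, neg_smul, neg_neg]
  obtain ⟨A, Ai, hA, hconj⟩ := conj_of_same_quadratic _ _ hx2 hns 0 (-(l * l)) hsqx hsq
  exact exists_conj_mem_normalizer x (l • τ) (l⁻¹ • τ) A Ai hA hconj h1
    (hgen.normalizes _ _ h1 h1' (by rw [h3]; exact hmem) (by rw [h3']; exact hmem)) hcent

end Cfsg.Agent.Lib.H11.InvCls
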