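import Mathlib
import Cfsg.Prelude.Def_CaseTheorems
import Cfsg.Prelude.Def_TwoFusion
/-!
# S3206 piece COUNT (helper11): orbit counting on the 7 nonidentity elements of an abelian Sylow
2-subgroup of order 8.
-/
set_option autoImplicit false
set_option linter.style.haveILetI false
namespace Cfsg.Agent.Lib.H11.JRCOUNT

theorem COUNT {G : Type*} [Group G] [Finite G] (S : Sylow 2 G)
    (hcomm : ∀ a ∈ (S : Subgroup G), ∀ b ∈ (S : Subgroup G), a * b = b * a)
    (hcard : Nat.card ↥(S : Subgroup G) = 8)
    (hfix : ∀ u ∈ (S : Subgroup G), u ≠ 1 →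
      ∃ n ∈ Subgroup.normalizer ((S : Subgroup G) : Set G), n * u * n⁻¹ ≠ u) :
    ∀ a ∈ (S : Subgroup G), ∀ b ∈ (S : Subgroup G), a ≠ 1 → b ≠ 1 →
      ∃ n ∈ Subgroup.normalizer ((S : Subgroup G) : Set G), n * a * n⁻¹ = b := by
  classical
  have : Fact (Nat.Prime 2) := ⟨Nat.prime_two⟩
  set H : Subgroup G := Subgroup.normalizer ((S : Subgroup G) : Set G) with hH
  have hSH : (S : Subgroup G) ≤ H := Subgroup.le_normalizer
  -- the conjugation action of H on S
  letI act : MulAction ↥H ↥(S : Subgroup G) :=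
    { smul := fun h s => ⟨(h : G) * (s : G) * (h : G)⁻¹,
        (Subgroup.mem_normalizer_iff.mp h.2 (s : G)).mp s.2⟩
      one_smul := fun s => by
        apply Subtype.ext
        show ((1 : ↥H) : G) * (s : G) * ((1 : ↥H) : G)⁻¹ = (s : G)
        simp
      mul_smul := fun h k s => by
        apply Subtype.ext
        show ((h * k : ↥H) : G) * (s : G) * ((h * k : ↥H) : G)⁻¹
          = (h : G) * ((k : G) * (s : G) * (k : G)⁻¹) * (h : G)⁻¹
        simp only [Subgroup.coe_mul, mul_inv_rev]
        group }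
  have hsmul : ∀ (h : ↥H) (s : ↥(S : Subgroup G)), ((h • s : ↥(S : Subgroup G)) : G)
      = (h : G) * (s : G) * (h : G)⁻¹ := fun _ _ => rfl
  haveI : Fintype ↥(S : Subgroup G) := Fintype.ofFinite _
  have hcard' : Fintype.card ↥(S : Subgroup G) = 8 := by
    rw [← Nat.card_eq_fintype_card]; exact hcard
  -- orbits as finsets
  let O : ↥(S : Subgroup G) → Finset ↥(S : Subgroup G) :=
    fun x => Finset.univ.filter (fun y => y ∈ MulAction.orbit ↥H x)
  have hOmem : ∀ x y, y ∈ O x ↔ y ∈ MulAction.orbit ↥H x := by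
    intro x y; simp [O]
  have hself : ∀ x, x ∈ O x := fun x => (hOmem x x).mpr (MulAction.mem_orbit_self x)
  have hOeq : ∀ x y, y ∈ O x → O y = O x := by
    intro x y hy
    have := MulAction.orbit_eq_iff.mpr ((hOmem x y).mp hy)
    ext w
    rw [hOmem, hOmem, this]
  have hone : ∀ x : ↥(S : Subgroup G), x ≠ 1 → (1 : ↥(S : Subgroup G)) ∉ O x := by
    intro x hx h1
    obtain ⟨h, hh⟩ := (hOmem x 1).mp h1
    apply hx
    apply Subtype.ext
    have h2 := congrArg (Subtype.val) hh
    simp only at h2
    rw [hsmul] at h2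
    -- h * x * h⁻¹ = 1
    have h3 : (x : G) = (h : G)⁻¹ * ((h : G) * (x : G) * (h : G)⁻¹) * (h : G) := by group
    rw [h3, h2]; simp
  -- orbit sizes are odd
  have hOcard : ∀ x, (O x).card = (MulAction.stabilizer ↥H x).index := by
    intro x
    rw [MulAction.index_stabilizer, Set.ncard_eq_toFinset_card']
    congr 1
    ext w
    simp [O]
  have hodd : ∀ x, Odd (O x).card := by
    intro x
    rw [hOcard]
    have hle : (S : Subgroup G).subgroupOf H ≤ MulAction.stabilizer ↥H x := by
      intro h hh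
      rw [MulAction.mem_stabilizer_iff]
      apply Subtype.ext
      rw [hsmul]
      have hhS : (h : G) ∈ (S : Subgroup G) := Subgroup.mem_subgroupOf.mp hh
      have := hcomm (h : G) hhS (x : G) x.2
      rw [this]; group
    have hd1 : (MulAction.stabilizer ↥H x).index ∣ ((S : Subgroup G).subgroupOf H).index :=
      Subgroup.index_dvd_of_le hle
    have hd2 : ((S : Subgroup G).subgroupOf H).index ∣ (S : Subgroup G).index := by
      have := Subgroup.relIndex_mul_index hSH
      exact Dvd.intro _ this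
    have hnd : ¬ 2 ∣ (S : Subgroup G).index := S.not_dvd_index
    rw [← Nat.not_even_iff_odd, even_iff_two_dvd]
    intro h2
    exact hnd (dvd_trans (dvd_trans h2 hd1) hd2)
  have hne1 : ∀ x : ↥(S : Subgroup G), x ≠ 1 → (O x).card ≠ 1 := by
    intro x hx hc
    obtain ⟨n, hn, hnx⟩ := hfix (x : G) x.2 (fun h => hx (Subtype.ext h))
    have hmem : ((⟨n, hn⟩ : ↥H) • x) ∈ O x := (hOmem x _).mpr ⟨⟨n, hn⟩, rfl⟩
    obtain ⟨w, hw⟩ := Finset.card_eq_one.mp hc
    have e1 : ((⟨n, hn⟩ : ↥H) • x) = w := by
      have := hmem; rw [hw] at this; exact Finset.mem_singleton.mp this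
    have e2 : x = w := by
      have := hself x; rw [hw] at this; exact Finset.mem_singleton.mp this
    apply hnx
    have := congrArg Subtype.val (e1.trans e2.symm)
    rw [hsmul] at this
    exact this
  have hge3 : ∀ x : ↥(S : Subgroup G), x ≠ 1 → 3 ≤ (O x).card := by
    intro x hx
    have h1 := hodd x
    have h2 := hne1 x hx
    obtain ⟨k, hk⟩ := h1
    omega
  have hsub : ∀ x : ↥(S : Subgroup G), x ≠ 1 → O x ⊆ Finset.univ.erase 1 := by
    intro x hx w hw
    rw [Finset.mem_erase]
    refine ⟨fun h => hone x hx (h ▸ hw), Finset.mem_univ _⟩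
  have h7 : (Finset.univ.erase (1 : ↥(S : Subgroup G))).card = 7 := by
    rw [Finset.card_erase_of_mem (Finset.mem_univ _), Finset.card_univ, hcard']
  -- main
  intro a ha b hb ha1 hb1
  set a' : ↥(S : Subgroup G) := ⟨a, ha⟩ with ha'
  set b' : ↥(S : Subgroup G) := ⟨b, hb⟩ with hb'
  have ha'1 : a' ≠ 1 := fun h => ha1 (congrArg Subtype.val h)
  have hb'1 : b' ≠ 1 := fun h => hb1 (congrArg Subtype.val h)
  by_cases hba : b' ∈ O a'
  · obtain ⟨h, hh⟩ := (hOmem a' b').mp hba
    refine ⟨(h : G), h.2, ?_⟩
    have := congrArg Subtype.val hh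
    simp only at this
    rw [hsmul] at this
    exact this
  · exfalso
    have hdisj : Disjoint (O a') (O b') := by
      rw [Finset.disjoint_left]
      intro w hwa hwb
      apply hba
      have e1 := hOeq a' w hwa
      have e2 := hOeq b' w hwb
      have : O b' = O a' := e2.symm.trans e1
      rw [← this]; exact hself b'
    have hU : O a' ∪ O b' ⊆ Finset.univ.erase 1 :=
      Finset.union_subset (hsub a' ha'1) (hsub b' hb'1)
    have hUc : (O a' ∪ O b').card = (O a').card + (O b').card := Finset.card_union_of_disjoint hdisj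
    have hle7 := Finset.card_le_card hU
    rw [h7, hUc] at hle7
    have hA := hge3 a' ha'1
    have hB := hge3 b' hb'1
    have hoA := hodd a'
    have hoB := hodd b'
    have hU6 : (O a' ∪ O b').card = 6 := by
      rw [hUc]
      obtain ⟨k, hk⟩ := hoA
      obtain ⟨l, hl⟩ := hoB
      omega
    -- a third element
    have hlt : (O a' ∪ O b').card < (Finset.univ.erase (1 : ↥(S : Subgroup G))).card := by
      rw [hU6, h7]; norm_num
    obtain ⟨c, hc, hcU⟩ := Finset.exists_mem_notMem_of_card_lt_card hlt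
    have hc1 : c ≠ 1 := (Finset.mem_erase.mp hc).1
    have hdisj2 : Disjoint (O a' ∪ O b') (O c) := by
      rw [Finset.disjoint_left]
      intro w hw hwc
      apply hcU
      have e3 := hOeq c w hwc
      rcases Finset.mem_union.mp hw with hwa | hwb
      · have e1 := hOeq a' w hwa
        have : O c = O a' := e3.symm.trans e1
        exact Finset.mem_union_left _ (this ▸ hself c)
      · have e2 := hOeq b' w hwb
        have : O c = O b' := e3.symm.trans e2
        exact Finset.mem_union_right _ (this ▸ hself c)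
    have hU3 : (O a' ∪ O b') ∪ O c ⊆ Finset.univ.erase 1 :=
      Finset.union_subset hU (hsub c hc1)
    have hc3 := Finset.card_le_card hU3
    rw [Finset.card_union_of_disjoint hdisj2, hU6, h7] at hc3
    have hC := hge3 c hc1
    omega

end Cfsg.Agent.Lib.H11.JRCOUNT
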