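import Mathlib
import Cfsg.Prelude.Def_CaseTheorems
import Cfsg.Prelude.Def_TwoFusion
import Cfsg.Agent.S0215
/-!
# S3206 piece FIX (helper11): no nonidentity element of an elementary abelian Sylow 2-subgroup of a
nonabelian simple group is fixed by the normalizer (Burnside fusion + Glauberman Z*).
-/
set_option autoImplicit false
namespace Cfsg.Agent.Lib.H11.JRFIX

theorem FIX {G : Type*} [Group G] [Finite G] [IsSimpleGroup G] (hG : ¬ IsMulCommutative G)
    (S : Sylow 2 G) (hcomm : ∀ a ∈ (S : Subgroup G), ∀ b ∈ (S : Subgroup G), a * b = b * a)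
    (hexp : ∀ s ∈ (S : Subgroup G), s * s = 1)
    (u : G) (hu : u ∈ (S : Subgroup G)) (hu1 : u ≠ 1) :
    ∃ n ∈ Subgroup.normalizer ((S : Subgroup G) : Set G), n * u * n⁻¹ ≠ u := by
  classical
  by_contra hcon
  have hfix : ∀ n ∈ Subgroup.normalizer ((S : Subgroup G) : Set G), n * u * n⁻¹ = u := by
    intro n hn
    by_contra h
    exact hcon ⟨n, hn, h⟩
  have : Fact (Nat.Prime 2) := ⟨Nat.prime_two⟩
  -- S ≤ C(S)
  have hSC : ∀ x ∈ (S : Subgroup G), x ∈ Subgroup.centralizer ((S : Subgroup G) : Set G) := by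
    intro x hx
    rw [Subgroup.mem_centralizer_iff]
    intro y hy
    exact hcomm y hy x hx
  -- u has order 2
  have hord : orderOf u = 2 := by
    apply orderOf_eq_prime
    · rw [pow_two]; exact hexp u hu
    · exact hu1
  -- u is isolated
  have hiso : ∀ g : G, g * u * g⁻¹ ∈ S → g * u * g⁻¹ = u := by
    intro g hg
    have hg' : g⁻¹⁻¹ * u * g⁻¹ ∈ (S : Subgroup G) := by rwa [inv_inv]
    obtain ⟨n, hn, hn2⟩ := Sylow.conj_eq_normalizer_conj_of_mem_centralizer S u g⁻¹ (hSC u hu)
      (hSC _ hg')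
    have h2 := hfix n⁻¹ (Subgroup.inv_mem _ hn)
    rw [inv_inv] at h2 hn2
    rw [hn2, h2]
  obtain ⟨N, hNn, hNodd, hN⟩ := Cfsg.Agent.S0215.result S u hord hu hiso
  -- N = ⊥
  have hNbot : N = ⊥ := by
    rcases hNn.eq_bot_or_eq_top with h | h
    · exact h
    · exfalso
      have h2 : 2 ∣ Nat.card G := by
        rw [← hord]; exact orderOf_dvd_natCard u
      have h3 : Nat.card N = Nat.card G := by
        rw [h]; exact Subgroup.card_top
      rw [h3] at hNodd
      exact (Nat.not_even_iff_odd.mpr hNodd) (even_iff_two_dvd.mpr h2)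
  -- u central
  have hcen : u ∈ Subgroup.center G := by
    rw [Subgroup.mem_center_iff]
    intro g
    have := hN g
    rw [hNbot, Subgroup.mem_bot] at this
    -- u * g * u⁻¹ * g⁻¹ = 1
    have h2 : u * g * u⁻¹ = g := by
      have := mul_inv_eq_one.mp this
      exact this
    calc g * u = (u * g * u⁻¹) * u := by rw [h2]
      _ = u * g := by group
  have hctop : Subgroup.center G = ⊤ := by
    rcases (inferInstance : (Subgroup.center G).Normal).eq_bot_or_eq_top with h | h
    · exfalso
      rw [h, Subgroup.mem_bot] at hcen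
      exact hu1 hcen
    · exact h
  apply hG
  refine ⟨⟨fun a b => ?_⟩⟩
  have ha : a ∈ Subgroup.center G := by rw [hctop]; trivial
  exact (Subgroup.mem_center_iff.mp ha b).symm

end Cfsg.Agent.Lib.H11.JRFIX
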