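import Mathlib
import Cfsg.Prelude.Def_CaseTheorems
import Cfsg.Prelude.Def_TwoFusion
/-!
# S3206 piece XFER (helper11): transfer into a subgroup of odd index.
-/
set_option autoImplicit false
namespace Cfsg.Agent.Lib.H11.JRXFER

open scoped IsMulCommutative in
theorem XFER {L : Type*} [Group L] [Finite L] (hperf : commutator L = ⊤) (T : Subgroup L)
    (hT : Odd T.index) (z : L) (hzc : z ∈ Subgroup.center L) (hzT : z ∈ T) (hz2 : z * z = 1) :
    z ∈ ⁅T, T⁆ := by
  classical
  -- the transfer into the abelianization of T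
  let ϕ : ↥T →* Abelianization ↥T := Abelianization.of
  have key : ∀ (k : ℕ) (g₀ : L), g₀⁻¹ * z ^ k * g₀ ∈ T → g₀⁻¹ * z ^ k * g₀ = z ^ k := by
    intro k g₀ _
    have hc : z ^ k ∈ Subgroup.center L := Subgroup.pow_mem _ hzc k
    have := Subgroup.mem_center_iff.mp hc g₀
    -- this : g₀ * z ^ k = z ^ k * g₀
    rw [mul_assoc, ← this, inv_mul_cancel_left]
  have h1 := MonoidHom.transfer_eq_pow ϕ z key
  -- the transfer kills L = commutator L
  have h2 : MonoidHom.transfer ϕ z = 1 := by
    have hz : z ∈ commutator L := by rw [hperf]; trivial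
    have hker : commutator L ≤ (MonoidHom.transfer ϕ).ker :=
      Abelianization.commutator_subset_ker _
    exact MonoidHom.mem_ker.mp (hker hz)
  -- z ^ index = z
  obtain ⟨m, hm⟩ := hT
  have hpow : z ^ T.index = z := by
    rw [hm, pow_succ, pow_mul, pow_two, hz2, one_pow, one_mul]
  rw [h2] at h1
  have h3 : (⟨z ^ T.index, MonoidHom.transfer_eq_pow_aux z key⟩ : ↥T) ∈ commutator ↥T := by
    have : ϕ ⟨z ^ T.index, MonoidHom.transfer_eq_pow_aux z key⟩ = 1 := h1.symm
    rw [← MonoidHom.mem_ker] at this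
    rwa [Abelianization.ker_of] at this
  have h4 : z ^ T.index ∈ (commutator ↥T).map T.subtype := ⟨_, h3, rfl⟩
  rw [Subgroup.map_subtype_commutator, hpow] at h4
  exact h4

end Cfsg.Agent.Lib.H11.JRXFER
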