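import Mathlib
import Cfsg.Agent.Lib.H11.Jordan6
import Cfsg.Agent.Lib.H11.HermNorm4

set_option autoImplicit false

/-!
# Regular unipotent elements of the unitary group: determinants of conjugating elements
-/

namespace Cfsg.Agent.Lib.H11.Jordan

open Module Matrix Cfsg.Agent.Lib.H13.AutPSU Cfsg.Agent.Lib.H11.HermNorm

variable {K : Type*} [Field K] {q : ℕ} (D : UF K q)

/-- the determinant of a unitary matrix has norm one -/
theorem det_norm_of_unitary {n : ℕ} {g : Matrix (Fin n) (Fin n) K} (hg : ct D g * g = 1) :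
    D.τ g.det * g.det = 1 := by
  rw [← det_ct (D := D) g, ← Matrix.det_mul, hg, Matrix.det_one]

/-- unitary matrices commuting with a regular unipotent matrix have determinant `a ^ n` with
`a` of norm one -/
theorem exists_det_eq_pow_of_unitary {n : ℕ} (hn : 1 ≤ n) {u c : Matrix (Fin n) (Fin n) K}
    (hu : HasType u {n}) (hc : c * u = u * c) (hcU : ct D c * c = 1) :
    ∃ a : K, a * D.τ a = 1 ∧ c.det = a ^ n := by
  obtain ⟨a, ha⟩ := exists_det_combo hn hu hc
  refine ⟨a, ?_, ?_⟩
  · have h1 : ct D ((-a) • (1 : Matrix (Fin n) (Fin n) K) + (1 : K) • c) * c =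
        (1 : K) • (1 : Matrix (Fin n) (Fin n) K) + (-(D.τ a)) • c := by
      rw [ct_add, ct_smul, ct_smul, ct_one, map_one, map_neg, one_smul, Matrix.add_mul, hcU,
        Matrix.smul_mul, Matrix.one_mul, one_smul, add_comm]
    have h2 := congrArg Matrix.det h1
    rw [Matrix.det_mul, det_ct (D := D), ha, ha] at h2
    have h3 : (-a + 1 * a) ^ n = 0 := by
      rw [show -a + 1 * a = 0 by ring]
      exact zero_pow (by omega)
    rw [h3, map_zero, zero_mul] at h2
    have h4 : 1 + -(D.τ a) * a = 0 := (_root_.pow_eq_zero_iff (by omega)).mp h2.symm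
    linear_combination -h4
  · have := ha 0 1
    rw [zero_smul, zero_add, one_smul, zero_add, one_mul] at this
    exact this

/-- if `g u0 = u g` with `g` unitary then `ct g u = u0 ct g` -/
theorem ct_mul_of_conj {n : ℕ} {g u0 u : Matrix (Fin n) (Fin n) K} (hg : ct D g * g = 1)
    (e : g * u0 = u * g) : ct D g * u = u0 * ct D g := by
  have hg' := mul_ct_eq_one D hg
  calc ct D g * u = ct D g * u * (g * ct D g) := by rw [hg', Matrix.mul_one]
    _ = ct D g * (u * g) * ct D g := by simp only [Matrix.mul_assoc]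
    _ = ct D g * (g * u0) * ct D g := by rw [e]
    _ = (ct D g * g) * u0 * ct D g := by simp only [Matrix.mul_assoc]
    _ = u0 * ct D g := by rw [hg, Matrix.one_mul]

/-- well-definedness of the determinant class -/
theorem key_W {n : ℕ} (hn : 1 ≤ n) {u0 u1 u2 g1 g2 s : Matrix (Fin n) (Fin n) K}
    (h0 : HasType u0 {n}) (hg1 : ct D g1 * g1 = 1) (hg2 : ct D g2 * g2 = 1)
    (hs : ct D s * s = 1) (hsd : s.det = 1) (e1 : g1 * u0 = u1 * g1) (e2 : g2 * u0 = u2 * g2)
    (es : s * u1 = u2 * s) : ∃ a : K, a * D.τ a = 1 ∧ g1.det = g2.det * a ^ n := by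
  have hg2' := mul_ct_eq_one D hg2
  have hcU : ct D (ct D g2 * s * g1) * (ct D g2 * s * g1) = 1 := by
    rw [ct_mul, ct_mul, ct_ct]
    calc ct D g1 * (ct D s * g2) * (ct D g2 * s * g1)
        = ct D g1 * (ct D s * (g2 * ct D g2) * s) * g1 := by simp only [Matrix.mul_assoc]
      _ = 1 := by rw [hg2', Matrix.mul_one, hs, Matrix.mul_one, hg1]
  have hc : (ct D g2 * s * g1) * u0 = u0 * (ct D g2 * s * g1) := by
    calc (ct D g2 * s * g1) * u0 = ct D g2 * s * (g1 * u0) := by rw [Matrix.mul_assoc]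
      _ = ct D g2 * (s * u1) * g1 := by rw [e1]; simp only [Matrix.mul_assoc]
      _ = (ct D g2 * u2) * s * g1 := by rw [es]; simp only [Matrix.mul_assoc]
      _ = u0 * (ct D g2 * s * g1) := by
          rw [ct_mul_of_conj D hg2 e2]; simp only [Matrix.mul_assoc]
  obtain ⟨a, ha, hdet⟩ := exists_det_eq_pow_of_unitary D hn h0 hc hcU
  refine ⟨a, ha, ?_⟩
  rw [Matrix.det_mul, Matrix.det_mul, hsd, mul_one, det_ct (D := D)] at hdet
  have h1 := det_norm_of_unitary D hg2
  rw [← hdet]
  linear_combination (-g1.det) * h1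

/-- equal determinant classes give conjugacy under the special unitary group -/
theorem key_inj {n : ℕ} {u0 u1 u2 g1 g2 : Matrix (Fin n) (Fin n) K} {a : K}
    (hg1 : ct D g1 * g1 = 1) (hg2 : ct D g2 * g2 = 1) (e1 : g1 * u0 = u1 * g1)
    (e2 : g2 * u0 = u2 * g2) (ha : a * D.τ a = 1) (hdet : g2.det = g1.det * a ^ n) :
    ∃ s : Matrix (Fin n) (Fin n) K, ct D s * s = 1 ∧ s.det = 1 ∧ s * u1 = u2 * s := by
  have hg1' := mul_ct_eq_one D hg1
  refine ⟨(D.τ a) • (g2 * ct D g1), ?_, ?_, ?_⟩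
  · rw [ct_smul, D.hτ2, ct_mul, ct_ct, Matrix.smul_mul, Matrix.mul_smul, smul_smul, ha, one_smul]
    calc g1 * ct D g2 * (g2 * ct D g1) = g1 * (ct D g2 * g2) * ct D g1 := by
          simp only [Matrix.mul_assoc]
      _ = 1 := by rw [hg2, Matrix.mul_one, hg1']
  · rw [Matrix.det_smul, Matrix.det_mul, det_ct (D := D), Fintype.card_fin, hdet]
    have h1 := det_norm_of_unitary D hg1
    have h2 : (D.τ a) ^ n * a ^ n = 1 := by rw [← mul_pow, mul_comm, ha, one_pow]
    calc D.τ a ^ n * (g1.det * a ^ n * D.τ g1.det)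
        = (D.τ a ^ n * a ^ n) * (D.τ g1.det * g1.det) := by ring
      _ = 1 := by rw [h1, h2, mul_one]
  · rw [Matrix.smul_mul, Matrix.mul_smul]
    congr 1
    calc g2 * ct D g1 * u1 = g2 * (ct D g1 * u1) := by rw [Matrix.mul_assoc]
      _ = (g2 * u0) * ct D g1 := by rw [ct_mul_of_conj D hg1 e1, Matrix.mul_assoc]
      _ = u2 * (g2 * ct D g1) := by rw [e2, Matrix.mul_assoc]

/-- conjugation by a unitary matrix -/
theorem conj_unitary {n : ℕ} {g u0 : Matrix (Fin n) (Fin n) K} (hg : ct D g * g = 1)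
    (hu0 : ct D u0 * u0 = 1) : ct D (g * u0 * ct D g) * (g * u0 * ct D g) = 1 := by
  have hg' := mul_ct_eq_one D hg
  rw [ct_mul, ct_mul, ct_ct]
  calc g * (ct D u0 * ct D g) * (g * u0 * ct D g)
      = g * (ct D u0 * (ct D g * g) * u0) * ct D g := by simp only [Matrix.mul_assoc]
    _ = 1 := by rw [hg, Matrix.mul_one, hu0, Matrix.mul_one, hg']

/-- every norm one scalar is the determinant of a unitary matrix -/
theorem exists_unitary_det {n : ℕ} (hn : 1 ≤ n) {a : K} (ha : a * D.τ a = 1) :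
    ∃ g : Matrix (Fin n) (Fin n) K, ct D g * g = 1 ∧ g.det = a := by
  classical
  refine ⟨Matrix.diagonal (Function.update (fun _ => (1 : K)) (⟨0, hn⟩ : Fin n) a), ?_, ?_⟩
  · have h1 : ct D (Matrix.diagonal (Function.update (fun _ => (1 : K)) (⟨0, hn⟩ : Fin n) a)) =
        Matrix.diagonal (Function.update (fun _ => (1 : K)) (⟨0, hn⟩ : Fin n) (D.τ a)) := by
      ext i j
      rw [ct_apply, Matrix.diagonal_apply, Matrix.diagonal_apply]
      by_cases hij : i = j
      · subst hij
        rw [if_pos rfl, if_pos rfl]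
        by_cases hi : i = ⟨0, hn⟩
        · rw [hi, Function.update_self, Function.update_self]
        · rw [Function.update_of_ne hi, Function.update_of_ne hi, map_one]
      · rw [if_neg (fun h => hij h.symm), if_neg hij, map_zero]
    rw [h1, Matrix.diagonal_mul_diagonal]
    rw [← Matrix.diagonal_one]
    congr 1
    ext i
    by_cases hi : i = ⟨0, hn⟩
    · rw [hi, Function.update_self, Function.update_self, mul_comm, ha]
    · rw [Function.update_of_ne hi, Function.update_of_ne hi, one_mul]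
  · rw [Matrix.det_diagonal, Finset.prod_update_of_mem (Finset.mem_univ _)]
    simp

/-- surjectivity of the determinant class -/
theorem key_surj {n : ℕ} (hn : 1 ≤ n) {u0 : Matrix (Fin n) (Fin n) K} (h0 : HasType u0 {n})
    (hu0 : ct D u0 * u0 = 1) {a : K} (ha : a * D.τ a = 1) :
    ∃ g u : Matrix (Fin n) (Fin n) K, ct D g * g = 1 ∧ g.det = a ∧ ct D u * u = 1 ∧ u.det = 1 ∧
      HasType u {n} ∧ g * u0 = u * g := by
  obtain ⟨g, hg, hdet⟩ := exists_unitary_det D hn ha
  have hg' := mul_ct_eq_one D hg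
  have hconj : g * u0 = (g * u0 * ct D g) * g := by
    rw [Matrix.mul_assoc (g * u0), hg, Matrix.mul_one]
  have hT : HasType (g * u0 * ct D g) {n} := by
    apply h0.of_isConj
    exact ⟨⟨g, ct D g, hg', hg⟩, hconj⟩
  exact ⟨g, g * u0 * ct D g, hg, hdet, conj_unitary D hg hu0, hT.det_singleton hn, hT, hconj⟩

/-- a regular unipotent unitary matrix exists -/
theorem exists_regular_unitary [Finite K] {n : ℕ} (hn : 1 ≤ n) :
    ∃ u0 : Matrix (Fin n) (Fin n) K, ct D u0 * u0 = 1 ∧ HasType u0 {n} := by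
  obtain ⟨u, hu⟩ := exists_of_multiset (K := K) (n := n) {n}
    (by intro a ha; rw [Multiset.mem_singleton] at ha; omega) (Multiset.sum_singleton n)
  obtain ⟨B, hB, hconj⟩ := hu.exists_unitary D
  exact ⟨B, hB, hu.of_isConj hconj⟩

/-- unitary matrices of the same unipotent type are conjugate under the unitary group -/
theorem exists_unitary_conj_of_hasType [Finite K] {n : ℕ} {u0 u : Matrix (Fin n) (Fin n) K}
    {μ : Multiset ℕ} (h0 : HasType u0 μ) (h : HasType u μ) (hu0 : ct D u0 * u0 = 1)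
    (hu : ct D u * u = 1) : ∃ g : Matrix (Fin n) (Fin n) K, ct D g * g = 1 ∧ g * u0 = u * g := by
  obtain ⟨P, hP⟩ := h0.isConj h
  exact exists_unitary_conj D u0 u (P : Matrix (Fin n) (Fin n) K)
    ((P⁻¹ : (Matrix (Fin n) (Fin n) K)ˣ) : Matrix (Fin n) (Fin n) K) hu0 hu P.mul_inv P.inv_mul hP

end Cfsg.Agent.Lib.H11.Jordan
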