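import Cfsg.Agent.Lib.H28.KB.Defs

/-!
# S4539 piece FORM (helper11): the contributions as values of the Hermitian form

`p^d · contrib(z^k) χ ψ = formH α β γ X_χ Y_χ X_ψ Y_ψ` with `X = galW z (cfD D₁ ·) k`,
`Y = galW z (cfD D₂ ·) k`, from `contrib_eq_sum` and the integral Gram matrix of the
`p`-regular parts.
-/

set_option autoImplicit false

namespace Cfsg.Agent.Lib.H11.KB

open Cfsg Cfsg.Agent.Lib.H23 Cfsg.Agent.Lib.H23.Contrib Cfsg.Agent.Lib.H28.KB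
open scoped ComplexConjugate

/-- A product of two `galW`-type sums as a double sum. -/
theorem formTerm_sum_mul_conj {ι : Type*} [Fintype ι] (u u' : ι → ℂ) :
    (∑ i, u i) * conj (∑ j, u' j) = ∑ i, ∑ j, u i * conj (u' j) := by
  rw [map_sum, Finset.sum_mul_sum]

theorem pow_mul_contrib_eq_formH {G : Type*} [Group G] [Fintype G] {p : ℕ} {M : Ideal AlgInt}
    [Fintype (IrrCharacter G)] (hM : IsPModular p M)
    (H : Subgroup G) [Fintype H] [Fintype (IrrCharacter H)] (ξ₁ : IrrCharacter H)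
    [DecidablePred (· ∈ blockOf M (ξ₁ : H → ℂ))] {z : H} (hzc : z ∈ Subgroup.center H) (d : ℕ)
    (D₁ D₂ : IrrCharacter H → ℤ) (α β γ : ℤ)
    (hG : ∀ ξ ξ' : IrrCharacter H, ξ ∈ blockOf M (ξ₁ : H → ℂ) → ξ' ∈ blockOf M (ξ₁ : H → ℂ) →
      (p : ℂ) ^ d * pin p (ξ : H → ℂ) (ξ' : H → ℂ) =
        ((α * D₁ ξ * D₁ ξ' + β * (D₁ ξ * D₂ ξ' + D₂ ξ * D₁ ξ') + γ * D₂ ξ * D₂ ξ' : ℤ) : ℂ))
    (χ ψ : IrrCharacter G) (k : ℕ) :
    (p : ℂ) ^ d * contrib p H (blockOf M (ξ₁ : H → ℂ)) (z ^ k) (χ : G → ℂ) (ψ : G → ℂ) =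
      formH α β γ
        (galW z (cfD H (blockOf M (ξ₁ : H → ℂ)) D₁ χ) k) (galW z (cfD H (blockOf M (ξ₁ : H → ℂ)) D₂ χ) k)
        (galW z (cfD H (blockOf M (ξ₁ : H → ℂ)) D₁ ψ) k) (galW z (cfD H (blockOf M (ξ₁ : H → ℂ)) D₂ ψ) k) := by
  have hzk : z ^ k ∈ Subgroup.center H := Subgroup.pow_mem _ hzc k
  rw [contrib_eq_sum H _ (z ^ k) hM hzk ξ₁ rfl χ ψ]
  unfold formH galW
  rw [formTerm_sum_mul_conj, formTerm_sum_mul_conj, formTerm_sum_mul_conj, formTerm_sum_mul_conj]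
  simp only [Finset.mul_sum, ← Finset.sum_add_distrib]
  refine Finset.sum_congr rfl fun ξ _ => Finset.sum_congr rfl fun ξ' _ => ?_
  unfold cfD lamW
  rw [resNat_spec H χ ξ, resNat_spec H ψ ξ']
  by_cases h1 : ξ ∈ blockOf M (ξ₁ : H → ℂ)
  · by_cases h2 : ξ' ∈ blockOf M (ξ₁ : H → ℂ)
    · simp only [if_pos (And.intro h1 h2), if_pos h1, if_pos h2]
      have h := hG ξ ξ' h1 h2
      push_cast at h ⊢
      simp only [map_mul, map_div₀, map_natCast, map_intCast]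
      linear_combination ((resNat H χ ξ : ℂ) * (resNat H ψ ξ' : ℂ) *
        (((ξ : H → ℂ) (z ^ k) / (ξ : H → ℂ) 1) *
          (conj ((ξ' : H → ℂ) (z ^ k)) / conj ((ξ' : H → ℂ) 1)))) * h
    · simp only [if_neg (fun h : _ ∧ _ => h2 h.2), if_neg h2]
      simp
  · simp only [if_neg (fun h : _ ∧ _ => h1 h.1), if_neg h1]
    simp

end Cfsg.Agent.Lib.H11.KB
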