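import Cfsg.Agent.Lib.H11.KBREDLATCore
import Cfsg.Agent.Lib.H9.KBLAT

/-!
# S4539 piece REDLAT (helper11): reduced integer coordinates (exact signature)
-/

set_option autoImplicit false

namespace Cfsg.Agent.Lib.H11.KB

open scoped ComplexConjugate

theorem exists_reduced_coords {E : Type*} [AddCommGroup E] [Module ℂ E] {I : Type*} [Finite I]
    (ip : E → E → ℂ)
    (hadd : ∀ u v w : E, ip (u + v) w = ip u w + ip v w)
    (hsmul : ∀ (r : ℂ) (u w : E), ip (r • u) w = r * ip u w)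
    (hconj : ∀ u w : E, conj (ip u w) = ip w u)
    (hpos : ∀ u : E, u ≠ 0 → 0 < (ip u u).re)
    (f : I → E) (N : ℕ) (hN : 0 < N)
    (hint : ∀ i j : I, ∃ n : ℤ, (N : ℂ) * ip (f i) (f j) = n)
    (hrank : Module.finrank ℂ (Submodule.span ℂ (Set.range f)) = 2) :
    ∃ (D₁ D₂ : I → ℤ) (α β γ : ℤ), 0 < α ∧ 0 ≤ 2 * β ∧ 2 * β ≤ α ∧ α ≤ γ ∧
      ∀ i j : I, (N : ℂ) * ip (f i) (f j) =
        ((α * D₁ i * D₁ j + β * (D₁ i * D₂ j + D₂ i * D₁ j) + γ * D₂ i * D₂ j : ℤ) : ℂ) :=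
  reduced_coords_of_coords (fun i j => (N : ℂ) * ip (f i) (f j))
    (Cfsg.Agent.Lib.H9.KB.exists_int_coords ip hadd hsmul hconj hpos f N hN hint hrank)

end Cfsg.Agent.Lib.H11.KB
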