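import Cfsg.Agent.Lib.H27.KBRED

/-!
# S4539 piece REDLAT, core (helper11): reduced integer coordinates from integer coordinates

Given integer coordinates `D₁ D₂` of a family with respect to a positive definite integral
binary form `(a, b, c)`, the reduction `exists_reduced` (piece RED) gives integer coordinates
with respect to a reduced form `0 ≤ 2β ≤ α ≤ γ`.
-/

set_option autoImplicit false

namespace Cfsg.Agent.Lib.H11.KB

/-- The change of coordinates: pure `ring` bookkeeping. -/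
theorem reduced_coords_of_coords {I : Type*} (F : I → I → ℂ)
    (hlat : ∃ (D₁ D₂ : I → ℤ) (a b c : ℤ),
      (∀ x y : ℤ, (x ≠ 0 ∨ y ≠ 0) → 0 < a * x * x + 2 * b * x * y + c * y * y) ∧
      ∀ i j : I, F i j =
        ((a * D₁ i * D₁ j + b * (D₁ i * D₂ j + D₂ i * D₁ j) + c * D₂ i * D₂ j : ℤ) : ℂ)) :
    ∃ (D₁ D₂ : I → ℤ) (α β γ : ℤ), 0 < α ∧ 0 ≤ 2 * β ∧ 2 * β ≤ α ∧ α ≤ γ ∧
      ∀ i j : I, F i j =
        ((α * D₁ i * D₁ j + β * (D₁ i * D₂ j + D₂ i * D₁ j) + γ * D₂ i * D₂ j : ℤ) : ℂ) := by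
  obtain ⟨D₁, D₂, a, b, c, hpos, hF⟩ := hlat
  obtain ⟨s, t, u, v, hdet, h1, h2, h3, h4⟩ := Cfsg.Agent.Lib.H27.KB.exists_reduced a b c hpos
  have hδ : (s * v - t * u) * (s * v - t * u) = 1 := by
    rcases hdet with h | h <;> rw [h] <;> norm_num
  refine ⟨fun i => (s * v - t * u) * (v * D₁ i - t * D₂ i),
    fun i => (s * v - t * u) * (-u * D₁ i + s * D₂ i),
    a * s * s + 2 * b * s * u + c * u * u, a * s * t + b * (s * v + t * u) + c * u * v,
    a * t * t + 2 * b * t * v + c * v * v, h1, h2, h3, h4, fun i j => ?_⟩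
  rw [hF i j]
  congr 1
  linear_combination (-((s * v - t * u) * (s * v - t * u) + 1) *
    (a * D₁ i * D₁ j + b * (D₁ i * D₂ j + D₂ i * D₁ j) + c * D₂ i * D₂ j)) * hδ

end Cfsg.Agent.Lib.H11.KB
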