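import Mathlib
import Cfsg.Agent.Lib.H2.KRDEFS
import Cfsg.Agent.Lib.L0.BlockRankTrace
import Cfsg.Agent.Lib.L0.SectionSum
import Cfsg.Agent.Lib.H23.BlockEquiv

/-!
# S4651 piece (K2), core: the `p`-singular part of the norm of a set of irreducible characters

`|K| (|U| − ∑_{ζ ∈ U} ⟨ζ,ζ⟩⁰) = ∑_{x ≠ 1 p-element} ∑_{ζ ∈ U} secSum p |ζ|² x` for ANY set `U` of irreducible
characters (no block hypothesis); (K2) follows with (K1) `∑_{ζ ∈ U} ⟨ζ,ζ⟩⁰ = l(U)`.  Architect helper2.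
-/

set_option autoImplicit false

namespace Cfsg.Agent.Lib.H11.KR

open Cfsg Cfsg.Agent.Lib.H2.KR Cfsg.Agent.Lib.H23 Cfsg.Agent.Lib.L0.BlockRankTrace
  Cfsg.Agent.Lib.L0.SectionSum
open scoped Classical ComplexConjugate

variable {K : Type*} [Group K] [Fintype K] {p : ℕ}

omit [Fintype K] in
/-- the `p`-part of `g` is `1` iff `g` is `p`-regular. -/
theorem isPPart_one_iff (g : K) : IsPPart p g 1 ↔ ¬ p ∣ orderOf g := by
  constructor
  · rintro ⟨y, hy, _, _, hyp⟩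
    rw [one_mul] at hy
    rwa [← hy]
  · intro h
    exact ⟨g, one_mul g, Commute.one_left g, ⟨0, by rw [orderOf_one, pow_zero]⟩, h⟩

/-- the section sum at `1` is `|K|` times the `p`-regular inner product. -/
theorem secSum_one_eq (ζ : K → ℂ) :
    secSum p (fun g => conj (ζ g) * ζ g) 1 = (Nat.card K : ℂ) * inner0 p ζ ζ := by
  have hK : (Nat.card K : ℂ) ≠ 0 := by exact_mod_cast (Nat.card_pos (α := K)).ne'
  unfold secSum inner0
  rw [← mul_assoc, mul_inv_cancel₀ hK, one_mul]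
  refine Finset.sum_congr rfl fun g _ => ?_
  by_cases h : p ∣ orderOf g
  · rw [if_pos h, if_neg (fun h' => (isPPart_one_iff g).1 h' h)]
  · rw [if_neg h, if_pos ((isPPart_one_iff g).2 h), mul_comm]

/-- for one irreducible character: `|K| = |K| ⟨ζ,ζ⟩⁰ + ∑_{x ≠ 1 p-element} secSum p |ζ|² x`. -/
theorem card_eq_inner0_add_sum_secSum (hp : p.Prime) (ζ : IrrCharacter K) :
    (Nat.card K : ℂ) = (Nat.card K : ℂ) * inner0 p (ζ : K → ℂ) (ζ : K → ℂ) +
      ∑ x ∈ Finset.univ.filter (fun x : K => x ≠ 1 ∧ ∃ k : ℕ, orderOf x = p ^ k),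
        secSum p (fun g => conj ((ζ : K → ℂ) g) * (ζ : K → ℂ) g) x := by
  have hK : (Nat.card K : ℂ) ≠ 0 := by exact_mod_cast (Nat.card_pos (α := K)).ne'
  set f : K → ℂ := fun g => conj ((ζ : K → ℂ) g) * (ζ : K → ℂ) g with hf
  have h1 : ∑ g : K, f g = (Nat.card K : ℂ) := by
    have h2 := Cfsg.Agent.Lib.H24.irr_orthonormal ζ ζ
    rw [if_pos rfl, classInner] at h2
    have h3 : ∑ g : K, f g = ∑ g : K, (ζ : K → ℂ) g * conj ((ζ : K → ℂ) g) :=
      Finset.sum_congr rfl fun g _ => by simp only [hf]; rw [mul_comm]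
    rw [h3]
    calc ∑ g : K, (ζ : K → ℂ) g * conj ((ζ : K → ℂ) g)
        = (Nat.card K : ℂ) * ((Nat.card K : ℂ)⁻¹ * ∑ g : K, (ζ : K → ℂ) g * conj ((ζ : K → ℂ) g)) := by
          rw [← mul_assoc, mul_inv_cancel₀ hK, one_mul]
      _ = (Nat.card K : ℂ) := by rw [h2, mul_one]
  rw [← secSum_one_eq, ← h1, sum_eq_sum_secSum hp f, Finset.sum_filter]
  have h4 : ∀ z : K, secSum p f z = (if z = 1 then secSum p f 1 else 0) +
      (if (z ≠ 1 ∧ ∃ k : ℕ, orderOf z = p ^ k) then secSum p f z else 0) := by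
    intro z
    by_cases hz : z = 1
    · rw [if_pos hz, if_neg (fun h => h.1 hz), add_zero, hz]
    · rw [if_neg hz, zero_add]
      by_cases hz2 : ∃ k : ℕ, orderOf z = p ^ k
      · rw [if_pos ⟨hz, hz2⟩]
      · rw [if_neg (fun h => hz2 h.2), secSum_eq_zero f hz2]
  rw [Finset.sum_congr rfl fun z _ => h4 z, Finset.sum_add_distrib, Finset.sum_ite_eq' Finset.univ (1 : K),
    if_pos (Finset.mem_univ _)]

/-- (K2), core: for any set `U` of irreducible characters. -/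
theorem card_sub_sum_inner0_eq_sum_secSum (hp : p.Prime) [Fintype (IrrCharacter K)]
    (U : Set (IrrCharacter K)) :
    (Nat.card K : ℂ) * ((Nat.card U : ℂ) -
        ∑ ξ ∈ Finset.univ.filter (· ∈ U), inner0 p (ξ : K → ℂ) (ξ : K → ℂ)) =
      ∑ x ∈ Finset.univ.filter (fun x : K => x ≠ 1 ∧ ∃ k : ℕ, orderOf x = p ^ k),
        ∑ ζ ∈ Finset.univ.filter (· ∈ U),
          secSum p (fun g => conj ((ζ : K → ℂ) g) * (ζ : K → ℂ) g) x := by
  have hcard : (Nat.card U : ℂ) = ∑ ζ ∈ Finset.univ.filter (· ∈ U), (1 : ℂ) := by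
    rw [Finset.sum_const, nsmul_eq_mul, mul_one, Nat.card_eq_fintype_card, Fintype.card_subtype]
  rw [Finset.sum_comm, hcard, ← Finset.sum_sub_distrib, Finset.mul_sum]
  refine Finset.sum_congr rfl fun ζ _ => ?_
  have h := card_eq_inner0_add_sum_secSum hp ζ
  rw [mul_sub, mul_one]
  exact sub_eq_of_eq_add' h

/-- (K2) from (K1) as a hypothesis. -/
theorem card_sub_rank_eq_sum_secSum_of (hp : p.Prime) [Fintype (IrrCharacter K)]
    (U : Set (IrrCharacter K))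
    (hK1 : ∑ ξ ∈ Finset.univ.filter (· ∈ U), inner0 p (ξ : K → ℂ) (ξ : K → ℂ) = (blockRank p U : ℂ)) :
    (Nat.card K : ℂ) * ((Nat.card U : ℂ) - (blockRank p U : ℂ)) =
      ∑ x ∈ Finset.univ.filter (fun x : K => x ≠ 1 ∧ ∃ k : ℕ, orderOf x = p ^ k),
        ∑ ζ ∈ Finset.univ.filter (· ∈ U),
          secSum p (fun g => conj ((ζ : K → ℂ) g) * (ζ : K → ℂ) g) x := by
  rw [← hK1]
  exact card_sub_sum_inner0_eq_sum_secSum hp U

end Cfsg.Agent.Lib.H11.KR
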