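import Mathlib
import Cfsg.Agent.Lib.H11.KRK2Core
import Cfsg.Agent.Lib.H15.KRK1

/-!
# S4651 piece (K2) `card_sub_rank_eq_sum_secSum`, exact signature of `tools/blueprints/S4651_sigs.lean`

`|K| (|U| − l(U)) = ∑_{x ≠ 1 p-element} ∑_{ζ ∈ U} secSum p |ζ|² x` for a union of blocks `U`:
the core `H11.KR.card_sub_rank_eq_sum_secSum_of` + helper15's (K1).  Architect helper2.
-/

set_option autoImplicit false

namespace Cfsg.Agent.Lib.H11.KR

open Cfsg Cfsg.Agent.Lib.H2.KR Cfsg.Agent.Lib.H23 Cfsg.Agent.Lib.L0.BlockRankTrace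
  Cfsg.Agent.Lib.L0.SectionSum
open scoped Classical ComplexConjugate

variable {K : Type*} [Group K] [Fintype K] {p : ℕ} {M : Ideal AlgInt}

/-- (K2 A1) the `p`-singular part of the norm of a union of blocks. -/
theorem card_sub_rank_eq_sum_secSum (hM : IsPModular p M) [Fintype (IrrCharacter K)]
    (U : Set (IrrCharacter K)) (hU : ∀ ζ ∈ U, blockOf M (ζ : K → ℂ) ⊆ U) :
    (Nat.card K : ℂ) * ((Nat.card U : ℂ) - (blockRank p U : ℂ)) =
      ∑ x ∈ Finset.univ.filter (fun x : K => x ≠ 1 ∧ ∃ k : ℕ, orderOf x = p ^ k),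
        ∑ ζ ∈ Finset.univ.filter (· ∈ U),
          secSum p (fun g => conj ((ζ : K → ℂ) g) * (ζ : K → ℂ) g) x :=
  card_sub_rank_eq_sum_secSum_of hM.1 U
    (Cfsg.Agent.Lib.H15.KR.sum_inner0_eq_blockRank_of_closed hM U hU)

end Cfsg.Agent.Lib.H11.KR
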