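import Mathlib

/-!
# S4575 piece ABS' (helper11): the arithmetic `k ≤ l + 3 ⇒ k ≤ 2^d`
-/

set_option autoImplicit false

namespace Cfsg.Agent.Lib.H11.KX

/-- (ABS') PURE Mathlib: the arithmetic. -/
theorem card_le_two_pow_of_compl {ι : Type*} [DecidableEq ι] (K : Finset ι) (h : ι → ℕ)
    (A : ι → ℤ) (d l : ℕ) (hk : K.card ≤ l + 3)
    (hT : ∑ χ ∈ K, A χ = (l : ℤ) * 2 ^ d)
    (hpos : ∀ χ ∈ K, 0 < A χ)
    (hlt : 2 ≤ K.card → ∀ χ ∈ K, A χ < 2 ^ d)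
    (hodd : ∀ χ ∈ K, h χ = 0 → Odd (A χ))
    (hdiv : ∀ χ ∈ K, 1 ≤ h χ → (2 : ℤ) ^ (h χ + 1) ∣ A χ)
    (hJ : ∀ χ₀ ∈ K, h χ₀ = 0 → ∑ ψ ∈ K.erase χ₀, (4 : ℤ) ^ h ψ ≤ A χ₀ * (2 ^ d - A χ₀)) :
    K.card ≤ 2 ^ d := by
  by_cases hk2 : 2 ≤ K.card
  swap
  · have : K.card ≤ 1 := by omega
    exact this.trans (Nat.one_le_two_pow)
  have hlt' := hlt hk2
  have hcast : ((K.card : ℕ) : ℤ) ≤ 2 ^ d → K.card ≤ 2 ^ d := by
    intro hh; exact_mod_cast hh
  apply hcast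
  -- every `ψ ≠ χ₀` contributes at least 1
  have hone : ∀ χ₀ ∈ K, ((K.card : ℕ) : ℤ) - 1 ≤ ∑ ψ ∈ K.erase χ₀, (4 : ℤ) ^ h ψ := by
    intro χ₀ hχ₀
    have h1 : ∑ ψ ∈ K.erase χ₀, (1 : ℤ) ≤ ∑ ψ ∈ K.erase χ₀, (4 : ℤ) ^ h ψ :=
      Finset.sum_le_sum fun j _ => one_le_pow₀ (by norm_num)
    rw [Finset.sum_const, Finset.card_erase_of_mem hχ₀] at h1
    have h2 : ((K.card - 1 : ℕ) : ℤ) = (K.card : ℤ) - 1 := by
      rw [Nat.cast_sub (by omega)]; norm_num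
    simpa [h2] using h1
  by_cases hex : ∃ χ₀ ∈ K, h χ₀ = 0 ∧ 2 ^ d - A χ₀ = 1
  · obtain ⟨χ₀, hχ₀, hi0, hA'⟩ := hex
    have hj := hJ χ₀ hχ₀ hi0
    rw [hA', mul_one] at hj
    have := hone χ₀ hχ₀
    have hA : A χ₀ = 2 ^ d - 1 := by linarith
    linarith
  · -- all `2^d - A χ` are at least 3
    have hge : ∀ χ ∈ K, 3 ≤ 2 ^ d - A χ := by
      intro χ hχ
      have hA' : 0 < 2 ^ d - A χ := by linarith [hlt' χ hχ]
      by_cases hi : h χ = 0
      · have hne1 : 2 ^ d - A χ ≠ 1 := fun hh => hex ⟨χ, hχ, hi, hh⟩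
        have hd : 1 ≤ d := by
          by_contra hd
          have hd0 : d = 0 := by omega
          rw [hd0, pow_zero] at hA'
          have := hpos χ hχ
          omega
        obtain ⟨e, he⟩ := hodd χ hχ hi
        obtain ⟨d', rfl⟩ : ∃ d', d = d' + 1 := ⟨d - 1, by omega⟩
        rw [pow_succ] at hA' hne1 ⊢
        omega
      · have hi1 : 1 ≤ h χ := Nat.one_le_iff_ne_zero.mpr hi
        obtain ⟨c, hAc⟩ := hdiv χ hχ hi1
        have hApos := hpos χ hχ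
        have h2pos : (0 : ℤ) < 2 ^ (h χ + 1) := by positivity
        have hcpos : 0 < c := by
          by_contra hcon
          have : c ≤ 0 := not_lt.mp hcon
          have := mul_nonpos_of_nonneg_of_nonpos h2pos.le this
          linarith
        -- `h χ + 1 ≤ d`, so `2^(h+1)` divides `2^d - A χ`, which is positive
        have hhd : h χ + 1 ≤ d := by
          by_contra hcon
          have hcon' : d ≤ h χ + 1 := by omega
          have h3 : (2 : ℤ) ^ d ≤ 2 ^ (h χ + 1) := pow_le_pow_right₀ (by norm_num) hcon'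
          have h4 : (2 : ℤ) ^ (h χ + 1) ≤ 2 ^ (h χ + 1) * c := by nlinarith
          linarith [hlt' χ hχ]
        obtain ⟨e, he⟩ : ∃ e, d = h χ + 1 + e := ⟨d - (h χ + 1), by omega⟩
        have hE : (2 : ℤ) ^ d = 2 ^ (h χ + 1) * 2 ^ e := by rw [he, pow_add]
        have hdiff : 2 ^ d - A χ = 2 ^ (h χ + 1) * (2 ^ e - c) := by rw [hE, hAc]; ring
        have hpos' : 0 < 2 ^ e - c := by
          by_contra hcon
          have hle0 : 2 ^ e - c ≤ 0 := not_lt.mp hcon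
          have := mul_nonpos_of_nonneg_of_nonpos h2pos.le hle0
          rw [hdiff] at hA'
          linarith
        have h4 : (4 : ℤ) ≤ 2 ^ (h χ + 1) := by
          calc (4 : ℤ) = 2 ^ 2 := by norm_num
            _ ≤ 2 ^ (h χ + 1) := pow_le_pow_right₀ (by norm_num) (by omega)
        rw [hdiff]
        nlinarith
    have hsum : (3 : ℤ) * (K.card : ℤ) ≤ ∑ χ ∈ K, (2 ^ d - A χ) := by
      have : ∑ χ ∈ K, (3 : ℤ) ≤ ∑ χ ∈ K, (2 ^ d - A χ) := Finset.sum_le_sum hge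
      rw [Finset.sum_const, nsmul_eq_mul] at this
      linarith
    rw [Finset.sum_sub_distrib, Finset.sum_const, nsmul_eq_mul, hT] at hsum
    have hk' : (K.card : ℤ) ≤ (l : ℤ) + 3 := by exact_mod_cast hk
    have hP : (0 : ℤ) < 2 ^ d := by positivity
    by_contra hcon
    have hgt : (2 : ℤ) ^ d < (K.card : ℤ) := not_le.mp hcon
    nlinarith

end Cfsg.Agent.Lib.H11.KX
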