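import Mathlib

/-!
# S4575 (helper11): the pure counting `k ≤ l + 3 ⇒ k ≤ 2^d`

`A i` plays the role of `A_χ = φ⁻¹ ∑_k 2^d m^{(z^k,b)}_{χχ}` (an integer), `h i` the height.
Two variants: `card_le_two_pow_of_facts` with the inequality (J) of the lead's plan,
`card_le_two_pow_of_facts'` with the inequality (T1') for the complementary idempotent.
-/

set_option autoImplicit false

namespace Cfsg.Agent.Lib.H11.KX

/-- Pure counting behind S4575: `k ≤ l + 3` and the facts on `A_χ` give `k ≤ 2^d`. -/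
theorem card_le_two_pow_of_facts {ι : Type*} [Fintype ι] [DecidableEq ι] (h : ι → ℕ) (A : ι → ℤ) (l d : ℕ)
    (hk : Fintype.card ι ≤ l + 3)
    (hT : ∑ i, A i = (l : ℤ) * 2 ^ d)
    (hU : ∀ i, 0 < A i ∧ A i ≤ 2 ^ d)
    (hodd : ∀ i, h i = 0 → Odd (A i))
    (hdiv : ∀ i, 1 ≤ h i → ∃ c : ℤ, Even c ∧ 0 < c ∧ A i = 2 ^ h i * c)
    (hJ : ∀ i₀, h i₀ = 0 → ∑ j ∈ Finset.univ.erase i₀, (4 : ℤ) ^ h j ≤ A i₀ * (2 ^ d - A i₀))
    (hNZ : ∀ i, 1 ≤ h i → 2 ≤ Fintype.card ι → A i ≠ 2 ^ d) :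
    Fintype.card ι ≤ 2 ^ d := by
  by_cases hk2 : 2 ≤ Fintype.card ι
  swap
  · have : Fintype.card ι ≤ 1 := by omega
    exact this.trans (Nat.one_le_two_pow)
  have hcast : ((Fintype.card ι : ℕ) : ℤ) ≤ 2 ^ d → Fintype.card ι ≤ 2 ^ d := by
    intro hh; exact_mod_cast hh
  apply hcast
  -- every `j ≠ i₀` contributes at least 1
  have hone : ∀ i₀ : ι, ((Fintype.card ι : ℕ) : ℤ) - 1 ≤ ∑ j ∈ Finset.univ.erase i₀, (4 : ℤ) ^ h j := by
    intro i₀
    have h1 : ∑ j ∈ Finset.univ.erase i₀, (1 : ℤ) ≤ ∑ j ∈ Finset.univ.erase i₀, (4 : ℤ) ^ h j :=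
      Finset.sum_le_sum fun j _ => one_le_pow₀ (by norm_num)
    rw [Finset.sum_const, Finset.card_erase_of_mem (Finset.mem_univ _), Finset.card_univ] at h1
    have h2 : ((Fintype.card ι - 1 : ℕ) : ℤ) = (Fintype.card ι : ℤ) - 1 := by
      rw [Nat.cast_sub (by omega)]; norm_num
    simpa [h2] using h1
  by_cases hex : ∃ i₀, h i₀ = 0 ∧ 2 ^ d - A i₀ = 1
  · obtain ⟨i₀, hi0, hA'⟩ := hex
    have hj := hJ i₀ hi0
    rw [hA', mul_one] at hj
    have := hone i₀
    have hA : A i₀ = 2 ^ d - 1 := by linarith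
    linarith
  · -- all `A' i := 2^d - A i` are at least 3
    have hge : ∀ i, 3 ≤ 2 ^ d - A i := by
      intro i
      by_cases hi : h i = 0
      · -- height zero
        have hj := hJ i hi
        have h1 := hone i
        have hpos : 0 < A i * (2 ^ d - A i) := by
          have : (1 : ℤ) ≤ (Fintype.card ι : ℤ) - 1 := by
            have : (2 : ℤ) ≤ (Fintype.card ι : ℤ) := by exact_mod_cast hk2
            linarith
          linarith
        have hA' : 0 < 2 ^ d - A i := by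
          by_contra hcon
          have : 2 ^ d - A i ≤ 0 := not_lt.mp hcon
          have := mul_nonpos_of_nonneg_of_nonpos (hU i).1.le this
          linarith
        have hne1 : 2 ^ d - A i ≠ 1 := fun hh => hex ⟨i, hi, hh⟩
        -- parity: `d ≥ 1` and `A i` odd
        have hd : 1 ≤ d := by
          by_contra hd
          have hd0 : d = 0 := by omega
          rw [hd0, pow_zero] at hA'
          have := (hU i).1
          omega
        obtain ⟨e, he⟩ := hodd i hi
        obtain ⟨d', rfl⟩ : ∃ d', d = d' + 1 := ⟨d - 1, by omega⟩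
        rw [pow_succ] at hA' hne1 ⊢
        omega
      · -- positive height
        have hi1 : 1 ≤ h i := Nat.one_le_iff_ne_zero.mpr hi
        obtain ⟨c, ⟨c', hc'⟩, hcpos, hAc⟩ := hdiv i hi1
        have hle := (hU i).2
        have hnz := hNZ i hi1 hk2
        have hlt : A i < 2 ^ d := lt_of_le_of_ne hle hnz
        -- `h i < d`
        have hhd : h i < d := by
          by_contra hcon
          have hcon' : d ≤ h i := not_lt.mp hcon
          have : (2 : ℤ) ^ d ≤ 2 ^ h i := pow_le_pow_right₀ (by norm_num) hcon'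
          have h2pos : (0 : ℤ) < 2 ^ h i := by positivity
          have : (2 : ℤ) ^ h i ≤ 2 ^ h i * c := by nlinarith
          linarith
        obtain ⟨e, he⟩ : ∃ e, d = h i + 1 + e := ⟨d - (h i + 1), by omega⟩
        have h2pos : (0 : ℤ) < 2 ^ h i := by positivity
        have hE : (2 : ℤ) ^ d = 2 ^ h i * (2 * 2 ^ e) := by
          rw [he, pow_add, pow_succ]; ring
        -- `2^d - A i = 2^h * (2 * 2^e - c)` with `2 * 2^e - c` even and positive
        have hdiff : 2 ^ d - A i = 2 ^ h i * (2 * (2 ^ e - c')) := by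
          rw [hE, hAc, hc']; ring
        have hpos' : 0 < 2 ^ e - c' := by
          have : 0 < 2 ^ d - A i := by linarith
          rw [hdiff] at this
          by_contra hcon
          have hle0 : 2 ^ e - c' ≤ 0 := not_lt.mp hcon
          have : 2 ^ h i * (2 * (2 ^ e - c')) ≤ 0 :=
            mul_nonpos_of_nonneg_of_nonpos h2pos.le (by linarith)
          linarith
        have h2h : (2 : ℤ) ≤ 2 ^ h i := by
          calc (2 : ℤ) = 2 ^ 1 := by norm_num
            _ ≤ 2 ^ h i := pow_le_pow_right₀ (by norm_num) hi1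
        rw [hdiff]
        nlinarith
    have hsum : (3 : ℤ) * (Fintype.card ι : ℤ) ≤ ∑ i, (2 ^ d - A i) := by
      have : ∑ i : ι, (3 : ℤ) ≤ ∑ i, (2 ^ d - A i) := Finset.sum_le_sum fun i _ => hge i
      rw [Finset.sum_const, Finset.card_univ, nsmul_eq_mul] at this
      linarith
    rw [Finset.sum_sub_distrib, Finset.sum_const, Finset.card_univ, nsmul_eq_mul, hT] at hsum
    have hk' : (Fintype.card ι : ℤ) ≤ (l : ℤ) + 3 := by exact_mod_cast hk
    have hP : (0 : ℤ) < 2 ^ d := by positivity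
    -- 3k ≤ (k - l) 2^d ≤ 3 · 2^d
    by_contra hcon
    have hgt : (2 : ℤ) ^ d < (Fintype.card ι : ℤ) := not_le.mp hcon
    nlinarith

/-- Variant with the complementary idempotent inequality
`∑_j 4^{h j} ≤ 2^d (2^d - A i₀)` for `i₀` of height zero with `2^d - A i₀ ≥ 1`. -/
theorem card_le_two_pow_of_facts' {ι : Type*} [Fintype ι] (h : ι → ℕ) (A : ι → ℤ) (l d : ℕ)
    (hk : Fintype.card ι ≤ l + 3)
    (hd0 : d = 0 → Fintype.card ι ≤ 1)
    (hT : ∑ i, A i = (l : ℤ) * 2 ^ d)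
    (hU : ∀ i, 0 < A i ∧ A i ≤ 2 ^ d)
    (hodd : ∀ i, h i = 0 → Odd (A i))
    (hdiv : ∀ i, 1 ≤ h i → ∃ c : ℤ, Even c ∧ 0 < c ∧ A i = 2 ^ h i * c)
    (hJ : ∀ i₀, h i₀ = 0 → 1 ≤ 2 ^ d - A i₀ → ∑ j, (4 : ℤ) ^ h j ≤ 2 ^ d * (2 ^ d - A i₀))
    (hNZ : ∀ i, 1 ≤ h i → 2 ≤ Fintype.card ι → A i ≠ 2 ^ d) :
    Fintype.card ι ≤ 2 ^ d := by
  classical
  by_cases hk2 : 2 ≤ Fintype.card ι
  swap
  · have : Fintype.card ι ≤ 1 := by omega
    exact this.trans (Nat.one_le_two_pow)
  have hd : 1 ≤ d := by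
    by_contra hd
    have := hd0 (by omega)
    omega
  have hcast : ((Fintype.card ι : ℕ) : ℤ) ≤ 2 ^ d → Fintype.card ι ≤ 2 ^ d := by
    intro hh; exact_mod_cast hh
  apply hcast
  have hone : ((Fintype.card ι : ℕ) : ℤ) ≤ ∑ j, (4 : ℤ) ^ h j := by
    have h1 : ∑ j : ι, (1 : ℤ) ≤ ∑ j, (4 : ℤ) ^ h j :=
      Finset.sum_le_sum fun j _ => one_le_pow₀ (by norm_num)
    rw [Finset.sum_const, Finset.card_univ] at h1
    simpa using h1
  -- height zero: `2^d - A i` is odd and nonnegative, hence `≥ 1`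
  have hA'1 : ∀ i, h i = 0 → 1 ≤ 2 ^ d - A i ∧ Odd (2 ^ d - A i) := by
    intro i hi
    obtain ⟨e, he⟩ := hodd i hi
    obtain ⟨d', rfl⟩ : ∃ d', d = d' + 1 := ⟨d - 1, by omega⟩
    have hle := (hU i).2
    refine ⟨?_, ⟨2 ^ d' - e - 1, ?_⟩⟩
    · rw [pow_succ] at hle ⊢; omega
    · rw [pow_succ, he]; ring
  by_cases hex : ∃ i₀, h i₀ = 0 ∧ 2 ^ d - A i₀ = 1
  · obtain ⟨i₀, hi0, hA'⟩ := hex
    have hj := hJ i₀ hi0 (by rw [hA'])
    rw [hA', mul_one] at hj
    linarith
  · have hge : ∀ i, 3 ≤ 2 ^ d - A i := by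
      intro i
      by_cases hi : h i = 0
      · obtain ⟨h1, ⟨e, he⟩⟩ := hA'1 i hi
        have hne1 : 2 ^ d - A i ≠ 1 := fun hh => hex ⟨i, hi, hh⟩
        omega
      · have hi1 : 1 ≤ h i := Nat.one_le_iff_ne_zero.mpr hi
        obtain ⟨c, ⟨c', hc'⟩, hcpos, hAc⟩ := hdiv i hi1
        have hle := (hU i).2
        have hnz := hNZ i hi1 hk2
        have hlt : A i < 2 ^ d := lt_of_le_of_ne hle hnz
        have hhd : h i < d := by
          by_contra hcon
          have hcon' : d ≤ h i := not_lt.mp hcon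
          have : (2 : ℤ) ^ d ≤ 2 ^ h i := pow_le_pow_right₀ (by norm_num) hcon'
          have h2pos : (0 : ℤ) < 2 ^ h i := by positivity
          have : (2 : ℤ) ^ h i ≤ 2 ^ h i * c := by nlinarith
          linarith
        obtain ⟨e, he⟩ : ∃ e, d = h i + 1 + e := ⟨d - (h i + 1), by omega⟩
        have h2pos : (0 : ℤ) < 2 ^ h i := by positivity
        have hE : (2 : ℤ) ^ d = 2 ^ h i * (2 * 2 ^ e) := by
          rw [he, pow_add, pow_succ]; ring
        have hdiff : 2 ^ d - A i = 2 ^ h i * (2 * (2 ^ e - c')) := by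
          rw [hE, hAc, hc']; ring
        have hpos' : 0 < 2 ^ e - c' := by
          have : 0 < 2 ^ d - A i := by linarith
          rw [hdiff] at this
          by_contra hcon
          have hle0 : 2 ^ e - c' ≤ 0 := not_lt.mp hcon
          have : 2 ^ h i * (2 * (2 ^ e - c')) ≤ 0 :=
            mul_nonpos_of_nonneg_of_nonpos h2pos.le (by linarith)
          linarith
        have h2h : (2 : ℤ) ≤ 2 ^ h i := by
          calc (2 : ℤ) = 2 ^ 1 := by norm_num
            _ ≤ 2 ^ h i := pow_le_pow_right₀ (by norm_num) hi1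
        rw [hdiff]
        nlinarith
    have hsum : (3 : ℤ) * (Fintype.card ι : ℤ) ≤ ∑ i, (2 ^ d - A i) := by
      have : ∑ i : ι, (3 : ℤ) ≤ ∑ i, (2 ^ d - A i) := Finset.sum_le_sum fun i _ => hge i
      rw [Finset.sum_const, Finset.card_univ, nsmul_eq_mul] at this
      linarith
    rw [Finset.sum_sub_distrib, Finset.sum_const, Finset.card_univ, nsmul_eq_mul, hT] at hsum
    have hk' : (Fintype.card ι : ℤ) ≤ (l : ℤ) + 3 := by exact_mod_cast hk
    have hP : (0 : ℤ) < 2 ^ d := by positivity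
    by_contra hcon
    have hgt : (2 : ℤ) ^ d < (Fintype.card ι : ℤ) := not_le.mp hcon
    nlinarith

end Cfsg.Agent.Lib.H11.KX
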