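import Mathlib

/-!
# S4540 piece ABS (helper11): the arithmetic behind `3k ≤ 3k₀ + 2∑_{h≥1} 2^h ≤ 3·2^d`
-/

set_option autoImplicit false

namespace Cfsg.Agent.Lib.H11.KY

/-- The left-hand side as one sum over `K`. -/
theorem kyabs_lhs_eq {ι : Type*} (K : Finset ι) (h : ι → ℕ) :
    3 * (K.filter (fun χ => h χ = 0)).card + 2 * ∑ χ ∈ K.filter (fun χ => 1 ≤ h χ), 2 ^ h χ =
      ∑ χ ∈ K, (if h χ = 0 then 3 else 2 * 2 ^ h χ) := by
  classical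
  rw [Finset.sum_ite, Finset.sum_const, smul_eq_mul, Finset.mul_sum]
  have : K.filter (fun χ => ¬ h χ = 0) = K.filter (fun χ => 1 ≤ h χ) := by
    ext i; simp [Nat.one_le_iff_ne_zero]
  rw [this, mul_comm]

/-- (ABS) the arithmetic. -/
theorem k_bound_of_odd_even {ι : Type*} (K : Finset ι) (h : ι → ℕ) (A : ι → ℕ) (D t : ℕ)
    (ht : t ≤ 3) (h0 : ∀ χ ∈ K, h χ = 0 → Odd (A χ))
    (h1 : ∀ χ ∈ K, 1 ≤ h χ → 2 ^ (h χ + 1) ∣ A χ ∧ 0 < A χ)
    (hT : ∑ χ ∈ K, A χ ≤ D * t)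
    (hB : ∀ ψ ∈ K, h ψ = 0 → ∑ χ ∈ K, 4 ^ h χ ≤ D * A ψ) :
    3 * K.card ≤ 3 * (K.filter (fun χ => h χ = 0)).card +
        2 * ∑ χ ∈ K.filter (fun χ => 1 ≤ h χ), 2 ^ h χ ∧
      3 * (K.filter (fun χ => h χ = 0)).card + 2 * ∑ χ ∈ K.filter (fun χ => 1 ≤ h χ), 2 ^ h χ ≤
        3 * D := by
  classical
  rw [kyabs_lhs_eq]
  constructor
  · rw [Finset.card_eq_sum_ones, Finset.mul_sum]
    refine Finset.sum_le_sum fun χ _ => ?_
    split_ifs with hχ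
    · norm_num
    · have h2 : 2 ^ 1 ≤ 2 ^ h χ :=
        Nat.pow_le_pow_right (by norm_num) (Nat.one_le_iff_ne_zero.mpr hχ)
      omega
  · by_cases hex : ∃ ψ ∈ K, h ψ = 0 ∧ A ψ = 1
    · obtain ⟨ψ, hψK, hψ0, hψA⟩ := hex
      have hb := hB ψ hψK hψ0
      rw [hψA, mul_one] at hb
      calc ∑ χ ∈ K, (if h χ = 0 then 3 else 2 * 2 ^ h χ)
          ≤ ∑ χ ∈ K, 3 * 4 ^ h χ := by
            refine Finset.sum_le_sum fun χ _ => ?_
            split_ifs with hχ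
            · rw [hχ]; norm_num
            · have h2 : 2 ^ h χ ≤ 4 ^ h χ := Nat.pow_le_pow_left (by norm_num) _
              omega
        _ = 3 * ∑ χ ∈ K, 4 ^ h χ := by rw [Finset.mul_sum]
        _ ≤ 3 * D := Nat.mul_le_mul_left 3 hb
    · have hex' : ∀ ψ ∈ K, h ψ = 0 → A ψ ≠ 1 := fun ψ hψ hψ0 hA => hex ⟨ψ, hψ, hψ0, hA⟩
      calc ∑ χ ∈ K, (if h χ = 0 then 3 else 2 * 2 ^ h χ)
          ≤ ∑ χ ∈ K, A χ := by
            refine Finset.sum_le_sum fun χ hχK => ?_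
            split_ifs with hχ
            · obtain ⟨k, hk⟩ := h0 χ hχK hχ
              have hne := hex' χ hχK hχ
              omega
            · obtain ⟨hdvd, hpos⟩ := h1 χ hχK (Nat.one_le_iff_ne_zero.mpr hχ)
              have := Nat.le_of_dvd hpos hdvd
              rw [pow_succ] at this
              omega
        _ ≤ D * t := hT
        _ ≤ D * 3 := Nat.mul_le_mul_left D ht
        _ = 3 * D := Nat.mul_comm _ _

end Cfsg.Agent.Lib.H11.KY
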