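/-
S3702 (architects helper7 + helper18), helper18's side, piece DUAL (twin): the values on `J648 \ {1}`.
-/
import Mathlib
import Cfsg.Agent.Lib.H7.T648Defs
import Cfsg.Agent.Lib.H7.T648Model
import Cfsg.Agent.Lib.H18.L648Defs
import Cfsg.Agent.Lib.H18.LatEnum
import Cfsg.Agent.Lib.H26.T648MODJ
import Cfsg.Agent.Lib.H26.T648MODC

set_option autoImplicit false

namespace Cfsg.Agent.Lib.H11.L648

open Cfsg Cfsg.Agent.Lib.H7.T648 Cfsg.Agent.Lib.H18 Cfsg.Agent.Lib.H18.L648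
  Cfsg.Agent.Lib.H18.LatEnum
open scoped ComplexConjugate

/-- the weight of an element is the weight of its translation part -/
theorem wt_eq_W (x : M648) : x.wt = Cfsg.Agent.Lib.H26.T648.W x.v := rfl

theorem v_ne_zero_of_mem (x : M648) (hx : x ∈ J648) (hx1 : x ≠ 1) : x.v ≠ 0 := by
  intro h
  apply hx1
  rw [(Cfsg.Agent.Lib.H26.T648.mem_J648_iff_tr x).mp hx, h, Cfsg.Agent.Lib.H26.T648.tr_zero]

theorem wt_cases (x : M648) (hx : x ∈ J648) (hx1 : x ≠ 1) : x.wt = 1 ∨ x.wt = 2 ∨ x.wt = 3 :=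
  (Cfsg.Agent.Lib.H26.T648.chk1_all x.v (v_ne_zero_of_mem x hx hx1)).1

/-- the three classes of `J648 \ {1}` are single conjugacy classes -/
theorem conj_of_wt (x s : M648) (hx : x ∈ J648) (hs : s ∈ J648) (hx1 : x ≠ 1) (hs1 : s ≠ 1)
    (h : x.wt = s.wt) : ∃ m : M648, m * s * m⁻¹ = x := by
  have hxv := (Cfsg.Agent.Lib.H26.T648.mem_J648_iff_tr x).mp hx
  have hsv := (Cfsg.Agent.Lib.H26.T648.mem_J648_iff_tr s).mp hs
  obtain ⟨_, a, b, p, hl⟩ :=
    Cfsg.Agent.Lib.H26.T648.chk1_all s.v (v_ne_zero_of_mem s hs hs1)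
  obtain ⟨_, a', b', p', hl'⟩ :=
    Cfsg.Agent.Lib.H26.T648.chk1_all x.v (v_ne_zero_of_mem x hx hx1)
  have hW : Cfsg.Agent.Lib.H26.T648.W x.v = Cfsg.Agent.Lib.H26.T648.W s.v := h
  refine ⟨(lin a' b' p')⁻¹ * lin a b p, ?_⟩
  have e1 : lin a b p * s * (lin a b p)⁻¹ =
      tr (Cfsg.Agent.Lib.H26.T648.canon (Cfsg.Agent.Lib.H26.T648.W s.v)) := by
    have := Cfsg.Agent.Lib.H26.T648.conj_tr (lin a b p) s.v
    rw [← hsv, hl] at this
    exact this
  have e2 : lin a' b' p' * x * (lin a' b' p')⁻¹ =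
      tr (Cfsg.Agent.Lib.H26.T648.canon (Cfsg.Agent.Lib.H26.T648.W s.v)) := by
    have := Cfsg.Agent.Lib.H26.T648.conj_tr (lin a' b' p') x.v
    rw [← hxv, hl', hW] at this
    exact this
  have e3 : (lin a' b' p')⁻¹ * lin a b p * s * ((lin a' b' p')⁻¹ * lin a b p)⁻¹ =
      (lin a' b' p')⁻¹ * (lin a b p * s * (lin a b p)⁻¹) * lin a' b' p' := by group
  rw [e3, e1, ← e2]
  group

/-- the class of a translation -/
theorem cls_tr : ∀ v : Fin 3 → ZMod 3, v ≠ 0 →
    cls (tr v) = if Cfsg.Agent.Lib.H26.T648.W v = 1 then 3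
      else if Cfsg.Agent.Lib.H26.T648.W v = 3 then 4 else 5 := by
  decide +kernel

theorem cls_of_mem_J648 (x : M648) (hx : x ∈ J648) (hx1 : x ≠ 1) :
    cls x = if x.wt = 1 then 3 else if x.wt = 3 then 4 else 5 := by
  have hxv := (Cfsg.Agent.Lib.H26.T648.mem_J648_iff_tr x).mp hx
  have h := cls_tr x.v (v_ne_zero_of_mem x hx hx1)
  rw [← hxv] at h
  exact h

theorem isOne_one : isOne (1 : M648) = true := by decide

theorem mem_J648_of_cls (x : M648) (h : cls x = 3 ∨ cls x = 4 ∨ cls x = 5) :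
    x ∈ J648 ∧ x ≠ 1 ∧ cls x = if x.wt = 1 then 3 else if x.wt = 3 then 4 else 5 := by
  have key : x ∈ J648 ∧ x ≠ 1 := by
    unfold cls at h
    split_ifs at h with h1 h2 h3 h4 h5 h6 h7 h8 h9 h10 h11 h12 h13
    all_goals first
      | (exfalso; revert h; decide)
      | (refine ⟨by assumption, ?_⟩
         intro hx
         subst hx
         exact h1 isOne_one)
  exact ⟨key.1, key.2, cls_of_mem_J648 x key.1 key.2⟩

/-- the class of an element of weight `τ` of `J648 \ {1}` -/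
def cOf (τ : ℕ) : Fin 14 := if τ = 1 then 3 else if τ = 3 then 4 else 5

/-- the table identity behind the dual basis -/
theorem dual_table : ∀ τ : Fin 4, τ.val ≠ 0 → ∀ c : Fin 14,
    ∑ i : Fin 9, ((qJ τ.val i : ℤ) : Z12) * Z12.conj (Ftab i c) =
      if c = cOf τ.val then ((24 * cJ τ.val : ℤ) : Z12) else 0 := by
  decide +kernel

theorem card_mul : ∀ τ : Fin 4, τ.val ≠ 0 → cJ τ.val * (csz (cOf τ.val) : ℤ) = 648 := by
  decide

theorem Fc_dual (hF : ∀ (i : Fin 9) (x : M648), FZ i x = Ftab i (cls x))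
    (hcard : ∀ c : Fin 14, (Finset.univ.filter (fun x : M648 => cls x = c)).card = csz c)
    (s : M648) (hs : s ∈ J648) (hs1 : s ≠ 1) (F : M648 → ℂ) (hcl : IsClassFunction M648 F) :
    ∑ i : Fin 9, (qJ s.wt i : ℂ) * classInner F (Fc i) = F s := by
  have hτ := wt_cases s hs hs1
  obtain ⟨τ, hτv, hτ0⟩ : ∃ τ : Fin 4, τ.val = s.wt ∧ τ.val ≠ 0 := by
    rcases hτ with h | h | h
    · exact ⟨1, by rw [h]; rfl, by decide⟩
    · exact ⟨2, by rw [h]; rfl, by decide⟩
    · exact ⟨3, by rw [h]; rfl, by decide⟩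
  have hcs : cls s = cOf s.wt := cls_of_mem_J648 s hs hs1
  -- the pointwise identity
  have hpt : ∀ x : M648, ∑ i : Fin 9, (qJ s.wt i : ℂ) * conj (Fc i x) =
      if cls x = cls s then (cJ s.wt : ℂ) else 0 := by
    intro x
    have h1 : ∀ i : Fin 9, (qJ s.wt i : ℂ) * conj (Fc i x) =
        Z12.toC (((qJ s.wt i : ℤ) : Z12) * Z12.conj (Ftab i (cls x))) / 24 := by
      intro i
      unfold Fc
      rw [hF i x, map_div₀, Z12.toC_conj, map_mul, Z12.toC_intCast]
      have : (starRingEnd ℂ) (24 : ℂ) = 24 := by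
        rw [show (24 : ℂ) = ((24 : ℝ) : ℂ) by norm_num, Complex.conj_ofReal]
      rw [this]
      ring
    rw [Finset.sum_congr rfl (fun i _ => h1 i), ← Finset.sum_div, ← map_sum]
    have h2 := dual_table τ hτ0 (cls x)
    rw [hτv] at h2
    rw [h2, hcs]
    split_ifs with hc
    · rw [Z12.toC_intCast]
      push_cast
      ring
    · rw [map_zero, zero_div]
  -- assemble
  have hsum : ∑ i : Fin 9, (qJ s.wt i : ℂ) * classInner F (Fc i) =
      (Nat.card M648 : ℂ)⁻¹ * ∑ x : M648, F x * (if cls x = cls s then (cJ s.wt : ℂ) else 0) := by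
    unfold classInner
    simp_rw [← hpt]
    simp_rw [Finset.mul_sum]
    rw [Finset.sum_comm]
    apply Finset.sum_congr rfl
    intro x _
    apply Finset.sum_congr rfl
    intro i _
    ring
  rw [hsum]
  -- `F` is constant on the class
  have hconst : ∀ x : M648, cls x = cls s → F x = F s := by
    intro x hx
    have hx3 : cls x = 3 ∨ cls x = 4 ∨ cls x = 5 := by
      rw [hx, hcs]
      unfold cOf
      split_ifs
      · exact Or.inl rfl
      · exact Or.inr (Or.inl rfl)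
      · exact Or.inr (Or.inr rfl)
    obtain ⟨hxJ, hx1, hxc⟩ := mem_J648_of_cls x hx3
    have hwx := wt_cases x hxJ hx1
    have hw : x.wt = s.wt := by
      rw [hxc, hcs] at hx
      unfold cOf at hx
      rcases hwx with h | h | h <;> rcases hτ with h' | h' | h' <;> rw [h, h'] at hx <;>
        first | (exfalso; revert hx; decide) | (rw [h, h'])
    obtain ⟨m, hm⟩ := conj_of_wt x s hxJ hs hx1 hs1 hw
    rw [← hm]
    exact hcl s m
  have h3 : ∑ x : M648, F x * (if cls x = cls s then (cJ s.wt : ℂ) else 0) =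
      (csz (cls s) : ℂ) * (cJ s.wt : ℂ) * F s := by
    have : ∀ x : M648, F x * (if cls x = cls s then (cJ s.wt : ℂ) else 0) =
        if cls x = cls s then F s * (cJ s.wt : ℂ) else 0 := by
      intro x
      split_ifs with hc
      · rw [hconst x hc]
      · rw [mul_zero]
    rw [Finset.sum_congr rfl (fun x _ => this x), ← Finset.sum_filter, Finset.sum_const,
      hcard (cls s), nsmul_eq_mul]
    ring
  rw [h3, M648.card_eq]
  have h4 := card_mul τ hτ0
  rw [hτv, ← hcs] at h4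
  have h5 : (cJ s.wt : ℂ) * (csz (cls s) : ℂ) = 648 := by
    have := congrArg (fun z : ℤ => (z : ℂ)) h4
    simpa using this
  have : ((648 : ℕ) : ℂ)⁻¹ * ((csz (cls s) : ℂ) * (cJ s.wt : ℂ) * F s) =
      ((648 : ℕ) : ℂ)⁻¹ * ((cJ s.wt : ℂ) * (csz (cls s) : ℂ)) * F s := by ring
  rw [this, h5]
  norm_num

end Cfsg.Agent.Lib.H11.L648
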