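/-
S3702 (architects helper7 + helper18), helper18's side, piece GRAM (twin): the inner products of the `Fc i`.
-/
import Mathlib
import Cfsg.Agent.Lib.H7.T648Defs
import Cfsg.Agent.Lib.H7.T648Model
import Cfsg.Agent.Lib.H18.L648Defs
import Cfsg.Agent.Lib.H18.LatEnum

set_option autoImplicit false

namespace Cfsg.Agent.Lib.H11.L648

open Cfsg Cfsg.Agent.Lib.H7.T648 Cfsg.Agent.Lib.H18 Cfsg.Agent.Lib.H18.L648
  Cfsg.Agent.Lib.H18.LatEnum
open scoped ComplexConjugate

/-- a sum of a function of the class is a sum over the classes weighted by the class sizes -/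
theorem sum_cls (hcard : ∀ c : Fin 14, (Finset.univ.filter (fun x : M648 => cls x = c)).card = csz c)
    (f : Fin 14 → ℂ) : ∑ x : M648, f (cls x) = ∑ c : Fin 14, (csz c : ℂ) * f c := by
  rw [← Finset.sum_fiberwise (s := Finset.univ) (g := cls) (f := fun x => f (cls x))]
  apply Finset.sum_congr rfl
  intro c _
  have : ∀ x ∈ Finset.univ.filter (fun x : M648 => cls x = c), f (cls x) = f c := by
    intro x hx
    rw [(Finset.mem_filter.mp hx).2]
  rw [Finset.sum_congr rfl this, Finset.sum_const, hcard c, nsmul_eq_mul]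

/-- the table identity for the Gram matrix -/
theorem gram_table : ∀ i j : Fin 9,
    ∑ c : Fin 14, ((csz c : ℤ) : Z12) * (Ftab i c * Z12.conj (Ftab j c)) =
      ((648 * 576 * Mg i j : ℤ) : Z12) := by
  decide +kernel

/-- the table identity for the multiplicities of the trivial character -/
theorem one_table : ∀ i : Fin 9,
    ∑ c : Fin 14, ((csz c : ℤ) : Z12) * Ftab i c = ((648 * 24 * a0 i : ℤ) : Z12) := by
  decide +kernel

theorem conj_24 : (starRingEnd ℂ) (24 : ℂ) = 24 := by
  rw [show (24 : ℂ) = ((24 : ℝ) : ℂ) by norm_num, Complex.conj_ofReal]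

theorem Fc_gram (hF : ∀ (i : Fin 9) (x : M648), FZ i x = Ftab i (cls x))
    (hcard : ∀ c : Fin 14, (Finset.univ.filter (fun x : M648 => cls x = c)).card = csz c)
    (i j : Fin 9) : classInner (Fc i) (Fc j) = (Mg i j : ℂ) := by
  unfold classInner
  have h1 : ∀ x : M648, Fc i x * conj (Fc j x) =
      (fun c : Fin 14 => Z12.toC (Ftab i c * Z12.conj (Ftab j c)) / 576) (cls x) := by
    intro x
    show Fc i x * conj (Fc j x) = Z12.toC (Ftab i (cls x) * Z12.conj (Ftab j (cls x))) / 576
    unfold Fc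
    rw [hF i x, hF j x, map_div₀, Z12.toC_conj, map_mul, conj_24]
    ring
  rw [Finset.sum_congr rfl (fun x _ => h1 x),
    sum_cls hcard (fun c : Fin 14 => Z12.toC (Ftab i c * Z12.conj (Ftab j c)) / 576)]
  have h2 : ∑ c : Fin 14, (csz c : ℂ) * (Z12.toC (Ftab i c * Z12.conj (Ftab j c)) / 576) =
      Z12.toC (∑ c : Fin 14, ((csz c : ℤ) : Z12) * (Ftab i c * Z12.conj (Ftab j c))) / 576 := by
    rw [map_sum, Finset.sum_div]
    apply Finset.sum_congr rfl
    intro c _
    rw [map_mul (Z12.toC) ((csz c : ℤ) : Z12), Z12.toC_intCast]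
    push_cast
    ring
  rw [h2, gram_table i j, Z12.toC_intCast, M648.card_eq]
  push_cast
  field_simp
  ring

theorem Fc_inner_one (hF : ∀ (i : Fin 9) (x : M648), FZ i x = Ftab i (cls x))
    (hcard : ∀ c : Fin 14, (Finset.univ.filter (fun x : M648 => cls x = c)).card = csz c)
    (i : Fin 9) : classInner (Fc i) (1 : M648 → ℂ) = (a0 i : ℂ) := by
  unfold classInner
  have h1 : ∀ x : M648, Fc i x * conj ((1 : M648 → ℂ) x) =
      (fun c : Fin 14 => Z12.toC (Ftab i c) / 24) (cls x) := by
    intro x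
    show Fc i x * conj ((1 : M648 → ℂ) x) = Z12.toC (Ftab i (cls x)) / 24
    unfold Fc
    rw [hF i x, Pi.one_apply, map_one, mul_one]
  rw [Finset.sum_congr rfl (fun x _ => h1 x),
    sum_cls hcard (fun c : Fin 14 => Z12.toC (Ftab i c) / 24)]
  have h2 : ∑ c : Fin 14, (csz c : ℂ) * (Z12.toC (Ftab i c) / 24) =
      Z12.toC (∑ c : Fin 14, ((csz c : ℤ) : Z12) * Ftab i c) / 24 := by
    rw [map_sum, Finset.sum_div]
    apply Finset.sum_congr rfl
    intro c _
    rw [map_mul (Z12.toC) ((csz c : ℤ) : Z12), Z12.toC_intCast]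
    push_cast
    ring
  rw [h2, one_table i, Z12.toC_intCast, M648.card_eq]
  push_cast
  field_simp
  ring

end Cfsg.Agent.Lib.H11.L648
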