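import Cfsg.Agent.Lib.H15.LSDefs
import Cfsg.Prelude.Def_Classical

/-!
# S2335 / S2334 farm-out, piece LS-MV: the action on hermitian matrices moves something
-/

set_option autoImplicit false
set_option linter.unusedSimpArgs false
set_option linter.unusedSectionVars false
set_option linter.unusedVariables false

namespace Cfsg.Agent.Lib.H11.LS

open Matrix Cfsg.Agent.Lib.H15.LS

variable {F : Type*} [Field F] [Fintype F] {q : ℕ}

/-- the identity matrix is hermitian -/
def hermOne (σ : F →+* F) (m : ℕ) : Herm σ m :=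
  ⟨1, by
    show ((1 : Matrix (Fin m) (Fin m) F).map σ)ᵀ = 1
    rw [Matrix.map_one σ (map_zero σ) (map_one σ), Matrix.transpose_one]⟩

theorem hermOne_val (σ : F →+* F) (m : ℕ) :
    ((hermOne σ m : Herm σ m) : Matrix (Fin m) (Fin m) F) = 1 := rfl

/-- **LS-MV** (first) -/
theorem exists_moved_SL (σ : F →+* F) (m : ℕ) (hm : 2 ≤ m) :
    ∃ (g : Matrix.SpecialLinearGroup (Fin m) F) (X : Herm σ m),
      hAct σ g.1 (X : Matrix (Fin m) (Fin m) F) ≠ X := by
  obtain ⟨i0, hi0⟩ : ∃ i0 : Fin m, i0 = ⟨0, by omega⟩ := ⟨_, rfl⟩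
  obtain ⟨i1, hi1⟩ : ∃ i1 : Fin m, i1 = ⟨1, by omega⟩ := ⟨_, rfl⟩
  have h10 : i1 ≠ i0 := by
    rw [hi0, hi1]
    intro h
    have := congrArg Fin.val h
    simp at this
  refine ⟨⟨Matrix.transvection i1 i0 1, Matrix.det_transvection_of_ne i1 i0 h10 1⟩,
    hermOne σ m, ?_⟩
  rw [hermOne_val]
  intro h
  have h1 := congrFun (congrFun h i1) i0
  have hrow0 : ∀ l, Matrix.transvection i1 i0 (1 : F) i0 l = if i0 = l then 1 else 0 := by
    intro l
    simp [Matrix.transvection, Matrix.one_apply, Matrix.single_apply, h10]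
  have h11 : Matrix.transvection i1 i0 (1 : F) i1 i0 = 1 := by
    simp [Matrix.transvection, Matrix.one_apply, Matrix.single_apply, h10]
  simp only [hAct, Matrix.mul_one, Matrix.mul_apply, Matrix.transpose_apply, Matrix.map_apply,
    hrow0] at h1
  rw [Matrix.one_apply_ne h10] at h1
  simp only [apply_ite σ, map_one, map_zero, mul_ite, mul_one, mul_zero, Finset.sum_ite_eq,
    Finset.mem_univ, if_true, h11] at h1
  exact one_ne_zero h1

/-- **LS-MV** (second) -/
theorem exists_moved_GL (hF : Fintype.card F = q ^ 2) (σ : F →+* F) (hσ : ∀ x, σ x = x ^ q)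
    (hσ2 : ∀ x, σ (σ x) = x) (m : ℕ) (hm : 1 ≤ m) (hq : m = 1 → 3 ≤ q) :
    ∃ (g : Matrix.GeneralLinearGroup (Fin m) F) (X : Herm σ m),
      hAct σ g.1 (X : Matrix (Fin m) (Fin m) F) ≠ X := by
  classical
  by_cases hq3 : 3 ≤ q
  · -- a scalar of norm different from one
    obtain ⟨ζ, hζ⟩ := IsCyclic.exists_generator (α := Fˣ)
    have hord : orderOf ζ = Fintype.card Fˣ := by
      rw [orderOf_eq_card_of_forall_mem_zpowers hζ, Nat.card_eq_fintype_card]
    have hcard : Fintype.card Fˣ = q ^ 2 - 1 := by rw [Fintype.card_units, hF]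
    have hne : (ζ : F) ^ (q + 1) ≠ 1 := by
      intro h
      have h' : ζ ^ (q + 1) = 1 := by
        apply Units.ext
        rw [Units.val_pow_eq_pow_val, h, Units.val_one]
      have hdvd := orderOf_dvd_of_pow_eq_one h'
      rw [hord, hcard] at hdvd
      have hle := Nat.le_of_dvd (by omega) hdvd
      have : q * 3 ≤ q * q := Nat.mul_le_mul_left q hq3
      have h2 : q ^ 2 = q * q := sq q
      omega
    have hζ0 : (ζ : F) ≠ 0 := ζ.ne_zero
    obtain ⟨i0, hi0⟩ : ∃ i0 : Fin m, i0 = ⟨0, by omega⟩ := ⟨_, rfl⟩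
    refine ⟨⟨(ζ : F) • 1, (ζ : F)⁻¹ • 1, ?_, ?_⟩, hermOne σ m, ?_⟩
    · rw [Matrix.smul_mul, Matrix.mul_smul, smul_smul, Matrix.one_mul, mul_inv_cancel₀ hζ0,
        one_smul]
    · rw [Matrix.smul_mul, Matrix.mul_smul, smul_smul, Matrix.one_mul, inv_mul_cancel₀ hζ0,
        one_smul]
    · rw [hermOne_val]
      intro h
      have h1 := congrFun (congrFun h i0) i0
      simp only [hAct, Matrix.mul_one, Matrix.mul_apply, Matrix.transpose_apply, Matrix.map_apply,
        Matrix.smul_apply, Matrix.one_apply, smul_eq_mul, mul_ite, mul_one, mul_zero,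
        apply_ite σ, map_zero, ite_mul, zero_mul, Finset.sum_ite_eq, Finset.mem_univ, if_true] at h1
      apply hne
      rw [pow_succ', ← hσ]
      exact h1
  · have hm2 : 2 ≤ m := by
      by_contra hcon
      exact hq3 (hq (by omega))
    obtain ⟨g, X, hgX⟩ := exists_moved_SL (F := F) σ m hm2
    exact ⟨Matrix.SpecialLinearGroup.toGL g, X, hgX⟩

end Cfsg.Agent.Lib.H11.LS
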