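import Cfsg.Agent.Lib.H15.LSDefs
import Cfsg.Agent.Lib.H11.UnitarySimple6
import Cfsg.Prelude.Def_Classical

/-!
# S2335 / S2334 farm-out, piece LS-N: a non-trivial representation of `SU_n(q)` is non-trivial on `t(S)`
-/

set_option autoImplicit false
set_option linter.unusedSimpArgs false
set_option linter.unusedSectionVars false
set_option linter.unusedVariables false

namespace Cfsg.Agent.Lib.H11.LS

open Matrix Cfsg.Agent.Lib.H15.LS

/-- a normal subgroup of `Cfsg.SU n F q` is central or everything -/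
theorem su_dichotomy {F : Type*} [Field F] [Fintype F] {q : ℕ} (hF : Fintype.card F = q ^ 2)
    (n : ℕ) (hn : 3 ≤ n) (h32 : ¬ (n = 3 ∧ q = 2))
    (N : Subgroup ↥(Cfsg.SU n F q)) (hN : N.Normal) :
    N ≤ Subgroup.center ↥(Cfsg.SU n F q) ∨ N = ⊤ := by
  obtain ⟨ψ, hψ, hψ2⟩ := Cfsg.Agent.Lib.H4.exists_frob hF
  have hψne := Cfsg.Agent.S0837.phi_ne_id ψ hF hψ
  obtain ⟨e, he⟩ : ∃ e : ↥(Cfsg.SU n F q) ≃* _, e = Cfsg.Agent.Lib.H11.USimple.suIso
      (n := n) (q := q) (F := F) := ⟨_, rfl⟩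
  have hn' : (N.map e.toMonoidHom).Normal := Subgroup.Normal.map hN _ e.surjective
  rcases Cfsg.Agent.Lib.H11.USimple.dichotomy (n := n) ψ hF hψ hψ2 hψne hn h32 _ hn' with h1 | h1
  · left
    intro g hg
    have h2 := h1 (Subgroup.mem_map_of_mem _ hg)
    rw [Subgroup.mem_center_iff] at h2 ⊢
    intro x
    apply e.injective
    rw [map_mul, map_mul]
    exact h2 (e x)
  · right
    rw [eq_top_iff]
    intro g _
    have h2 : e g ∈ N.map e.toMonoidHom := h1 ▸ Subgroup.mem_top _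
    obtain ⟨x, hx, hxg⟩ := h2
    have := e.injective hxg
    rwa [← this]

/-- **LS-N** -/
theorem exists_t_ne_one {F : Type*} [Field F] [Fintype F] {q : ℕ}
    (hF : Fintype.card F = q ^ 2) (n : ℕ) (hn : 3 ≤ n) (h32 : ¬ (n = 3 ∧ q = 2))
    {S L : Type*} [AddCommGroup S] [Group L]
    (t : S → Cfsg.SU n F q) (l : L →* Cfsg.SU n F q) (act : L → S → S)
    (htinj : Function.Injective t) (hconj : ∀ g X, l g * t X * (l g)⁻¹ = t (act g X))
    (hmove : ∃ g X, act g X ≠ X)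
    {V : Type*} [AddCommGroup V] [Module ℂ V] (ρ : Cfsg.SU n F q →* Module.End ℂ V)
    (hρ : ∃ g, ρ g ≠ 1) : ∃ X0 : S, ρ (t X0) ≠ 1 := by
  by_contra hcon
  push Not at hcon
  obtain ⟨g, X, hgX⟩ := hmove
  rcases su_dichotomy hF n hn h32 ρ.ker (MonoidHom.normal_ker ρ) with h1 | h1
  · apply hgX
    apply htinj
    rw [← hconj]
    have hc : t X ∈ Subgroup.center ↥(Cfsg.SU n F q) := h1 (MonoidHom.mem_ker.2 (hcon X))
    rw [Subgroup.mem_center_iff] at hc
    rw [hc (l g), mul_assoc, mul_inv_cancel, mul_one]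
  · obtain ⟨g₀, hg₀⟩ := hρ
    apply hg₀
    have : g₀ ∈ ρ.ker := h1 ▸ Subgroup.mem_top _
    exact MonoidHom.mem_ker.1 this

end Cfsg.Agent.Lib.H11.LS
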