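import Mathlib

/-!
S4429 piece (F11a): the pair count `#{(s,t) | (s z s⁻¹)(t z t⁻¹) = x}` is a multiple of `|C_G(z)|^2`.
(Exact signature of `tools/blueprints/S4429_sigs.lean`; architect helper27.)  Pure Mathlib.
-/
set_option autoImplicit false

namespace Cfsg.Agent.Lib.H11.M7920
open scoped BigOperators
universe u

/-- the fibre of `s ↦ s z s⁻¹` over `s0 z s0⁻¹` is the coset `s0 C_G(z)`. -/
theorem card_fiber_conj {G : Type u} [Group G] [Fintype G] [DecidableEq G] (z s0 : G) :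
    (Finset.univ.filter (fun s : G => s * z * s⁻¹ = s0 * z * s0⁻¹)).card =
      Nat.card (Subgroup.centralizer ({z} : Set G)) := by
  classical
  rw [← Fintype.card_subtype, ← Nat.card_eq_fintype_card]
  refine Nat.card_congr ⟨fun s => ⟨s0⁻¹ * s.1, ?_⟩, fun c => ⟨s0 * c.1, ?_⟩, ?_, ?_⟩
  · rw [Subgroup.mem_centralizer_singleton_iff]
    have h := s.2
    have h2 : s0⁻¹ * (s.1 * z * s.1⁻¹) * s0 = z := by rw [h]; group
    calc s0⁻¹ * s.1 * z = s0⁻¹ * (s.1 * z * s.1⁻¹) * s0 * (s0⁻¹ * s.1) := by group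
      _ = z * (s0⁻¹ * s.1) := by rw [h2]
  · have h := Subgroup.mem_centralizer_singleton_iff.mp c.2
    calc s0 * c.1 * z * (s0 * c.1)⁻¹ = s0 * (c.1 * z) * c.1⁻¹ * s0⁻¹ := by group
      _ = s0 * (z * c.1) * c.1⁻¹ * s0⁻¹ := by rw [h]
      _ = s0 * z * s0⁻¹ := by group
  · intro s; apply Subtype.ext; simp
  · intro c; apply Subtype.ext; simp

/-- summing a function of `s z s⁻¹` over `s`. -/
theorem sum_conj_eq {G : Type u} [Group G] [Fintype G] [DecidableEq G] (z : G) (g : G → ℂ) :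
    ∑ s : G, g (s * z * s⁻¹) = (Nat.card (Subgroup.centralizer ({z} : Set G)) : ℂ) *
      ∑ a ∈ Finset.univ.image (fun s : G => s * z * s⁻¹), g a := by
  rw [Finset.sum_comp g (fun s : G => s * z * s⁻¹), Finset.mul_sum]
  refine Finset.sum_congr rfl (fun a ha => ?_)
  obtain ⟨s0, _, rfl⟩ := Finset.mem_image.mp ha
  rw [card_fiber_conj, nsmul_eq_mul]

/-- (F11a) the pair count is a multiple of `|C_G(z)|^2`. -/
theorem count_dvd {G : Type u} [Group G] [Fintype G] [DecidableEq G] (z x : G) :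
    ∃ n : ℕ, (∑ s : G, ∑ t : G, if (s * z * s⁻¹) * (t * z * t⁻¹) = x then (1 : ℂ) else 0) =
      (n : ℂ) * (Nat.card (Subgroup.centralizer ({z} : Set G)) : ℂ) ^ 2 := by
  classical
  set cl : Finset G := Finset.univ.image (fun s : G => s * z * s⁻¹) with hcl
  refine ⟨∑ a ∈ cl, (cl.filter (fun b => a * b = x)).card, ?_⟩
  have h1 : ∀ a : G, (∑ t : G, if a * (t * z * t⁻¹) = x then (1 : ℂ) else 0) =
      (Nat.card (Subgroup.centralizer ({z} : Set G)) : ℂ) *
        ((cl.filter (fun b => a * b = x)).card : ℂ) := by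
    intro a
    rw [sum_conj_eq z (fun b => if a * b = x then (1 : ℂ) else 0)]
    congr 1
    rw [Finset.sum_ite, Finset.sum_const_zero, add_zero, Finset.sum_const, nsmul_eq_mul, mul_one]
  rw [sum_conj_eq z (fun a => ∑ t : G, if a * (t * z * t⁻¹) = x then (1 : ℂ) else 0)]
  rw [Finset.sum_congr rfl (fun a _ => h1 a), ← Finset.mul_sum]
  push_cast
  ring

end Cfsg.Agent.Lib.H11.M7920
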