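/-
S4079 (architect helper26), piece A0 (helper11): an automorphism `σ` with `σ^p = 1` of a `p`-group acts on a `σ`-invariant
cyclic subgroup as an `l`-th power map with `l ≡ 1 (mod p)`.
-/
import Mathlib
import Cfsg.Agent.Lib.H26.MC3Defs

set_option autoImplicit false
set_option linter.unusedSectionVars false

namespace Cfsg.Agent.Lib.H11.MC3

open Cfsg.Agent.Lib.H26.MC3

universe u

variable {p : ℕ} [Fact p.Prime] {L : Type u} [Group L] [Finite L]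

variable {σ : MulAut L}

/-- A0 -/
theorem exists_pow_map (hL : IsPGroup p L) (hσ : σ ^ p = 1) (C : Subgroup L) (hC : IsCyclic ↥C)
    (hinv : ∀ c ∈ C, σ c ∈ C) : ∃ l : ℕ, l % p = 1 ∧ ∀ c ∈ C, σ c = c ^ l := by
  have hpp : p.Prime := Fact.out
  obtain ⟨⟨c₀, hc₀C⟩, hgen⟩ := hC.exists_generator
  -- every element of `C` is a natural power of `c₀`
  have hpowN : ∀ c ∈ C, ∃ j : ℕ, c = c₀ ^ j := by
    intro c hc
    obtain ⟨k, hk⟩ := Subgroup.mem_zpowers_iff.mp (hgen ⟨c, hc⟩)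
    have hk' : c₀ ^ k = c := by
      have := congrArg Subtype.val hk
      simpa using this
    have hfin : 0 < orderOf c₀ := orderOf_pos c₀
    refine ⟨(k % (orderOf c₀ : ℤ)).toNat, ?_⟩
    have h1 : ((k % (orderOf c₀ : ℤ)).toNat : ℤ) = k % (orderOf c₀ : ℤ) :=
      Int.toNat_of_nonneg (Int.emod_nonneg _ (by exact_mod_cast hfin.ne'))
    rw [← hk', ← zpow_natCast, h1, zpow_mod_orderOf]
  obtain ⟨l₀, hl₀⟩ := hpowN (σ c₀) (hinv c₀ hc₀C)
  have hσpow : ∀ c ∈ C, σ c = c ^ l₀ := by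
    intro c hc
    obtain ⟨j, rfl⟩ := hpowN c hc
    rw [map_pow, hl₀, ← pow_mul, ← pow_mul, mul_comm]
  by_cases htriv : c₀ = 1
  · refine ⟨1, Nat.one_mod_eq_one.mpr hpp.one_lt.ne', ?_⟩
    intro c hc
    obtain ⟨j, rfl⟩ := hpowN c hc
    rw [htriv, one_pow, map_one, one_pow]
  · refine ⟨l₀, ?_, hσpow⟩
    -- `(σ^k) c₀ = c₀ ^ (l₀^k)`
    have hiter : ∀ k : ℕ, (σ ^ k) c₀ = c₀ ^ (l₀ ^ k) := by
      intro k
      induction k with
      | zero => simp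
      | succ k ih =>
        rw [pow_succ, MulAut.mul_apply, hl₀, map_pow, ih, ← pow_mul, ← pow_succ]
    have h1 : c₀ ^ (l₀ ^ p) = c₀ ^ 1 := by
      rw [← hiter p, hσ, MulAut.one_apply, pow_one]
    have h2 : l₀ ^ p ≡ 1 [MOD orderOf c₀] := pow_eq_pow_iff_modEq.mp h1
    -- `p ∣ orderOf c₀`
    obtain ⟨r, hr⟩ := (IsPGroup.iff_orderOf.mp hL) c₀
    have hr0 : r ≠ 0 := by
      intro h0
      rw [h0, pow_zero] at hr
      exact htriv (orderOf_eq_one_iff.mp hr)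
    have hpd : p ∣ orderOf c₀ := by
      rw [hr]
      exact dvd_pow_self p hr0
    have h3 : l₀ ^ p ≡ 1 [MOD p] := h2.of_dvd hpd
    -- Fermat
    have h4 : ((l₀ : ZMod p)) ^ p = (l₀ : ZMod p) := ZMod.pow_card _
    have h5 : ((l₀ ^ p : ℕ) : ZMod p) = ((1 : ℕ) : ZMod p) := (ZMod.natCast_eq_natCast_iff _ _ _).mpr h3
    have h6 : ((l₀ : ℕ) : ZMod p) = ((1 : ℕ) : ZMod p) := by
      rw [← h4, ← h5]
      push_cast
      rfl
    have h7 : l₀ ≡ 1 [MOD p] := (ZMod.natCast_eq_natCast_iff _ _ _).mp h6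
    have h8 : l₀ % p = 1 % p := h7
    rw [h8]
    exact Nat.one_mod_eq_one.mpr hpp.one_lt.ne'

end Cfsg.Agent.Lib.H11.MC3
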