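/-
S4079 (architect helper26), helper lemma for pieces A1/A1cd (helper11): fixed points of an automorphism `σ` with `σ^p = 1`
on a `σ`-invariant finite subgroup `K`: `|K| ≡ |K ∩ Fix σ| (mod p)`.
-/
import Mathlib
import Cfsg.Agent.Lib.H26.MC3Defs

set_option autoImplicit false
set_option linter.unusedSectionVars false
set_option linter.style.haveILetI false

namespace Cfsg.Agent.Lib.H11.MC3

open Cfsg.Agent.Lib.H26.MC3

universe u

variable {p : ℕ} [Fact p.Prime] {L : Type u} [Group L] {σ : MulAut L}

/-- a power of `σ` preserves every `σ`-invariant finite subgroup -/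
theorem zpowers_apply_mem [Finite L] (K : Subgroup L) (hK : ∀ k ∈ K, σ k ∈ K) (g : MulAut L)
    (hg : g ∈ Subgroup.zpowers σ) (k : L) (hk : k ∈ K) : g k ∈ K := by
  -- the stabiliser of the set `K` in `MulAut L` is a subgroup containing `σ`
  let S : Subgroup (MulAut L) :=
    { carrier := {φ | ∀ k : L, k ∈ K ↔ φ k ∈ K}
      one_mem' := fun k => Iff.rfl
      mul_mem' := by
        intro a b ha hb k
        rw [MulAut.mul_apply]
        exact (hb k).trans (ha (b k))
      inv_mem' := by
        intro a ha k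
        have := ha (a⁻¹ k)
        rw [MulAut.apply_inv_self] at this
        exact this.symm }
  have hσS : σ ∈ S := by
    intro k
    constructor
    · exact hK k
    · intro hk
      -- `σ` restricted to the finite set `K` is injective hence surjective
      have hinj : Function.Injective (fun x : ↥K => (⟨σ x, hK x x.2⟩ : ↥K)) := by
        intro x y hxy
        apply Subtype.ext
        exact σ.injective (congrArg Subtype.val hxy)
      obtain ⟨x, hx⟩ := (Finite.injective_iff_surjective.mp hinj) ⟨σ k, hk⟩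
      have h1 : σ (x : L) = σ k := congrArg Subtype.val hx
      rw [← σ.injective h1]
      exact x.2
  exact ((Subgroup.zpowers_le.mpr hσS) hg k).mp hk

theorem zpowers_apply_eq (g : MulAut L) (hg : g ∈ Subgroup.zpowers σ) (k : L) (hk : σ k = k) : g k = k := by
  have hσS : σ ∈ MulAction.stabilizer (MulAut L) k := hk
  exact (Subgroup.zpowers_le.mpr hσS) hg

theorem isPGroup_zpowers (hσ : σ ^ p = 1) : IsPGroup p ↥(Subgroup.zpowers σ) := by
  intro g
  refine ⟨1, ?_⟩
  obtain ⟨g, hg⟩ := g
  obtain ⟨k, rfl⟩ := Subgroup.mem_zpowers_iff.mp hg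
  apply Subtype.ext
  rw [pow_one]
  show (σ ^ k) ^ p = 1
  rw [← zpow_natCast, ← zpow_mul, mul_comm, zpow_mul, zpow_natCast, hσ, one_zpow]

/-- **fixed point congruence** -/
theorem card_modEq_card_inf_Fx [Finite L] (hσ : σ ^ p = 1) (K : Subgroup L) (hK : ∀ k ∈ K, σ k ∈ K) :
    Nat.card ↥K ≡ Nat.card ↥(K ⊓ Fx σ) [MOD p] := by
  letI act : MulAction ↥(Subgroup.zpowers σ) ↥K :=
    { smul := fun g k => ⟨(g : MulAut L) (k : L), zpowers_apply_mem K hK g g.2 k k.2⟩
      one_smul := fun k => Subtype.ext rfl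
      mul_smul := fun g g' k => Subtype.ext rfl }
  have hsm : ∀ (g : ↥(Subgroup.zpowers σ)) (k : ↥K), ((g • k : ↥K) : L) = (g : MulAut L) (k : L) := fun _ _ => rfl
  have h1 := (isPGroup_zpowers (p := p) hσ).card_modEq_card_fixedPoints ↥K
  have h2 : Nat.card ↥(MulAction.fixedPoints ↥(Subgroup.zpowers σ) ↥K) = Nat.card ↥(K ⊓ Fx σ) := by
    apply Nat.card_congr
    refine
      { toFun := fun x => ⟨((x : ↥K) : L), ⟨(x : ↥K).2, ?_⟩⟩
        invFun := fun y => ⟨⟨(y : L), y.2.1⟩, ?_⟩
        left_inv := fun x => rfl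
        right_inv := fun y => rfl }
    · have := x.2 ⟨σ, Subgroup.mem_zpowers σ⟩
      exact congrArg Subtype.val this
    · intro g
      apply Subtype.ext
      rw [hsm]
      exact zpowers_apply_eq (g : MulAut L) g.2 (y : L) y.2.2
  rw [← h2]
  exact h1

end Cfsg.Agent.Lib.H11.MC3
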