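/-
S4079 (architect helper26), piece A1 (helper11): `|Z| = p` for `Z = C_{Ω₁(L)}(σ)`, and `e⁻¹ σ(e) ∈ Z` for `e^p = 1`.
`E = Ω₁(L)` is abelian of order `p²`, `σ`-invariant, `σ|_E ≠ 1`; fixed-point congruence (`MC3FP`) on `E` and on the image
of the endomorphism `e ↦ e⁻¹ σ(e)` of `E`.
-/
import Mathlib
import Cfsg.Agent.Lib.H26.MC3Defs
import Cfsg.Agent.Lib.H11.MC3FP

set_option autoImplicit false
set_option linter.unusedSectionVars false
set_option linter.unusedVariables false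

namespace Cfsg.Agent.Lib.H11.MC3

open Cfsg.Agent.Lib.H26.MC3

universe u

variable {p : ℕ} [Fact p.Prime] {L : Type u} [Group L] [Finite L]

variable {σ : MulAut L}

/-- a subgroup of a group of order `p` whose order is divisible by `p` is everything -/
theorem card_eq_of_dvd_of_le {K K' : Subgroup L} (hle : K' ≤ K) (hK : Nat.card ↥K = p) (hd : p ∣ Nat.card ↥K') :
    K' = K := by
  have hpp : p.Prime := Fact.out
  have h1 : Nat.card ↥K' ∣ Nat.card ↥K := Subgroup.card_dvd_of_le hle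
  rw [hK] at h1
  have h2 : Nat.card ↥K' = p := Nat.dvd_antisymm h1 hd
  exact Subgroup.eq_of_le_of_card_ge hle (by rw [hK, h2])

/-- A1 -/
theorem card_Zf (h : Hyp p L) (hm : Mov p σ) (F : Facts p L) :
    Nat.card ↥(Zf p σ) = p ∧ ∀ {e : L}, e ^ p = 1 → e⁻¹ * σ e ∈ Zf p σ := by
  have hpp : p.Prime := Fact.out
  have hEmem : ∀ g : L, g ∈ Om p L ↔ g ^ p = 1 := F.mem_Om_iff
  have hcardE : Nat.card ↥(Om p L) = p ^ 2 := F.card_Om
  have hσE : ∀ e ∈ Om p L, σ e ∈ Om p L := by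
    intro e he
    rw [hEmem] at he ⊢
    rw [← map_pow, he, map_one]
  -- `p ∣ |Z|`
  have hmod := card_modEq_card_inf_Fx (p := p) hm.hσ (Om p L) hσE
  have hZdef : Om p L ⊓ Fx σ = Zf p σ := rfl
  rw [hZdef, hcardE] at hmod
  have hpZ : p ∣ Nat.card ↥(Zf p σ) := by
    have h0 : p ^ 2 ≡ 0 [MOD p] := (Nat.modEq_zero_iff_dvd).mpr (dvd_pow_self p two_ne_zero)
    exact (Nat.modEq_zero_iff_dvd).mp (hmod.symm.trans h0)
  have hZE : Zf p σ ≤ Om p L := inf_le_left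
  have hZdvd : Nat.card ↥(Zf p σ) ∣ p ^ 2 := hcardE ▸ Subgroup.card_dvd_of_le hZE
  -- `|Z| ≠ p²`
  have hZne : Nat.card ↥(Zf p σ) ≠ p ^ 2 := by
    intro heq
    have hZeq : Zf p σ = Om p L := Subgroup.eq_of_le_of_card_ge hZE (by rw [heq, hcardE])
    obtain ⟨x, hx, hxσ⟩ := hm.hmv
    have hxZ : x ∈ Zf p σ := by
      rw [hZeq, hEmem]
      exact hx
    exact hxσ hxZ.2
  have hZcard : Nat.card ↥(Zf p σ) = p := by
    obtain ⟨i, hi, hie⟩ := (Nat.dvd_prime_pow hpp).mp hZdvd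
    interval_cases i
    · rw [hie, pow_zero] at hpZ
      exact absurd (Nat.le_of_dvd one_pos hpZ) (not_le.mpr hpp.one_lt)
    · rw [hie, pow_one]
    · exact absurd hie hZne
  refine ⟨hZcard, ?_⟩
  -- the endomorphism `τ e = e⁻¹ σ(e)` of the abelian group `E`
  have hmc : IsMulCommutative ↥(Om p L) := IsPGroup.isMulCommutative_of_card_eq_prime_sq hcardE
  have hcomm : ∀ a b : ↥(Om p L), a * b = b * a := fun a b => hmc.is_comm.comm a b
  have hcommL : ∀ a ∈ Om p L, ∀ b ∈ Om p L, a * b = b * a := by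
    intro a ha b hb
    exact congrArg Subtype.val (hcomm ⟨a, ha⟩ ⟨b, hb⟩)
  have hτE : ∀ e ∈ Om p L, e⁻¹ * σ e ∈ Om p L := fun e he =>
    Subgroup.mul_mem _ (Subgroup.inv_mem _ he) (hσE e he)
  let τ : ↥(Om p L) →* ↥(Om p L) :=
    { toFun := fun e => ⟨(e : L)⁻¹ * σ (e : L), hτE e e.2⟩
      map_one' := by
        apply Subtype.ext
        simp
      map_mul' := by
        intro a b
        apply Subtype.ext
        show ((a : L) * (b : L))⁻¹ * σ ((a : L) * (b : L)) = (a : L)⁻¹ * σ (a : L) * ((b : L)⁻¹ * σ (b : L))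
        rw [map_mul, mul_inv_rev]
        have c1 : σ (a : L) * ((b : L)⁻¹ * σ (b : L)) = ((b : L)⁻¹ * σ (b : L)) * σ (a : L) :=
          hcommL _ (hσE _ a.2) _ (hτE _ b.2)
        have c2 : (b : L)⁻¹ * (a : L)⁻¹ = (a : L)⁻¹ * (b : L)⁻¹ :=
          hcommL _ (Subgroup.inv_mem _ b.2) _ (Subgroup.inv_mem _ a.2)
        calc (b : L)⁻¹ * (a : L)⁻¹ * (σ (a : L) * σ (b : L))
            = (a : L)⁻¹ * (b : L)⁻¹ * (σ (a : L) * σ (b : L)) := by rw [c2]
          _ = (a : L)⁻¹ * (((b : L)⁻¹ * σ (b : L)) * σ (a : L)) := by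
              rw [hcommL _ (hσE _ a.2) _ (hσE _ b.2)]; group
          _ = (a : L)⁻¹ * (σ (a : L) * ((b : L)⁻¹ * σ (b : L))) := by rw [c1]
          _ = (a : L)⁻¹ * σ (a : L) * ((b : L)⁻¹ * σ (b : L)) := by group }
  have hτval : ∀ e : ↥(Om p L), ((τ e : ↥(Om p L)) : L) = (e : L)⁻¹ * σ (e : L) := fun _ => rfl
  -- kernel of `τ` = `Z`
  have hker : Nat.card ↥τ.ker = p := by
    refine Eq.trans ?_ hZcard
    apply Nat.card_congr
    refine
      { toFun := fun x => ⟨((x : ↥(Om p L)) : L), ⟨(x : ↥(Om p L)).2, ?_⟩⟩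
        invFun := fun y => ⟨⟨(y : L), y.2.1⟩, ?_⟩
        left_inv := fun x => rfl
        right_inv := fun y => rfl }
    · have h1 : τ (x : ↥(Om p L)) = 1 := x.2
      have h2 := congrArg Subtype.val h1
      rw [hτval] at h2
      show σ ((x : ↥(Om p L)) : L) = ((x : ↥(Om p L)) : L)
      have h3 : ((x : ↥(Om p L)) : L)⁻¹ * σ ((x : ↥(Om p L)) : L) = 1 := h2
      exact (inv_mul_eq_one.mp h3).symm
    · show τ ⟨(y : L), y.2.1⟩ = 1
      apply Subtype.ext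
      rw [hτval]
      show (y : L)⁻¹ * σ (y : L) = 1
      rw [inv_mul_eq_one]
      exact (y.2.2 : σ (y : L) = (y : L)).symm
  -- image of `τ` has order `p`
  have hrange : Nat.card ↥τ.range = p := by
    have h1 : Nat.card (↥(Om p L) ⧸ τ.ker) = Nat.card ↥τ.range :=
      Nat.card_congr (QuotientGroup.quotientKerEquivRange τ).toEquiv
    have h2 : Nat.card ↥(Om p L) = Nat.card (↥(Om p L) ⧸ τ.ker) * Nat.card ↥τ.ker :=
      Subgroup.card_eq_card_quotient_mul_card_subgroup τ.ker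
    rw [hcardE, h1, hker, pow_two] at h2
    exact (Nat.eq_of_mul_eq_mul_right hpp.pos h2).symm
  -- the image as a subgroup of `L`
  let I : Subgroup L := τ.range.map (Om p L).subtype
  have hIcard : Nat.card ↥I = p := by
    rw [← hrange]
    exact Subgroup.card_map_of_injective (Subgroup.subtype_injective _)
  have hImem : ∀ e ∈ Om p L, e⁻¹ * σ e ∈ I := by
    intro e he
    exact ⟨τ ⟨e, he⟩, ⟨⟨e, he⟩, rfl⟩, rfl⟩
  have hIE : I ≤ Om p L := by
    rintro _ ⟨y, -, rfl⟩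
    exact y.2
  have hσI : ∀ k ∈ I, σ k ∈ I := by
    rintro _ ⟨_, ⟨e, rfl⟩, rfl⟩
    -- `σ (τ e) = τ (σ e)`
    have h2 : σ ((Om p L).subtype (τ e)) = (σ (e : L))⁻¹ * σ (σ (e : L)) := by
      show σ ((e : L)⁻¹ * σ (e : L)) = _
      rw [map_mul, map_inv]
    rw [h2]
    exact hImem _ (hσE _ e.2)
  have hmodI := card_modEq_card_inf_Fx (p := p) hm.hσ I hσI
  rw [hIcard] at hmodI
  have hpI : p ∣ Nat.card ↥(I ⊓ Fx σ) := by
    have h0 : p ≡ 0 [MOD p] := (Nat.modEq_zero_iff_dvd).mpr dvd_rfl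
    exact (Nat.modEq_zero_iff_dvd).mp (hmodI.symm.trans h0)
  have hIfix : I ⊓ Fx σ = I := card_eq_of_dvd_of_le inf_le_left hIcard hpI
  intro e he
  have heE : e ∈ Om p L := (hEmem e).mpr he
  have h1 : e⁻¹ * σ e ∈ I := hImem e heE
  have h2 : e⁻¹ * σ e ∈ I ⊓ Fx σ := by rw [hIfix]; exact h1
  exact ⟨hIE h1, h2.2⟩

end Cfsg.Agent.Lib.H11.MC3
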