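/-
S4079 (architect helper26), piece A1cd (helper11): the commutators `[g, e]`, `e^p = 1`, lie in `Z = C_{Ω₁(L)}(σ)`, and
`Z ≤ Z(L)`.  `W = ⟨[g,e]⟩ ≤ L'` is cyclic of exponent `p`, `σ`-invariant, generated by central elements; `|W| ≤ p`, the
fixed-point congruence (`MC3FP`) gives `W ≤ Z`; if `W = 1` then `Ω₁(L) ≤ Z(L)`, else `W = Z`.
-/
import Mathlib
import Cfsg.Agent.Lib.H26.MC3Defs
import Cfsg.Agent.Lib.H11.MC3FP

set_option autoImplicit false
set_option linter.unusedSectionVars false
set_option linter.unusedVariables false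
set_option linter.style.haveILetI false

namespace Cfsg.Agent.Lib.H11.MC3

open Cfsg.Agent.Lib.H26.MC3
open scoped commutatorElement

universe u

variable {p : ℕ} [Fact p.Prime] {L : Type u} [Group L] [Finite L]

variable {σ : MulAut L}

/-- A1cd -/
theorem comm_mem_Zf (h : Hyp p L) (hm : Mov p σ) (F : Facts p L) (hZ : Nat.card ↥(Zf p σ) = p) :
    (∀ (g : L) {e : L}, e ^ p = 1 → g * e * g⁻¹ * e⁻¹ ∈ Zf p σ) ∧
      Zf p σ ≤ Subgroup.center L := by
  classical
  have hpp : p.Prime := Fact.out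
  have hEmem : ∀ g : L, g ∈ Om p L ↔ g ^ p = 1 := F.mem_Om_iff
  -- the generating set
  let Sg : Set L := {x | ∃ (g e : L), e ^ p = 1 ∧ x = g * e * g⁻¹ * e⁻¹}
  let W : Subgroup L := Subgroup.closure Sg
  have hSgW : ∀ (g : L) {e : L}, e ^ p = 1 → g * e * g⁻¹ * e⁻¹ ∈ W :=
    fun g e he => Subgroup.subset_closure ⟨g, e, he, rfl⟩
  -- `W ≤ Ω₁`
  have hWE : W ≤ Om p L := by
    rw [Subgroup.closure_le]
    rintro _ ⟨g, e, he, rfl⟩
    exact (hEmem _).mpr (F.comm_pow_eq_one g e he).1
  -- `W ≤ Z(L)`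
  have hWc : W ≤ Subgroup.center L := by
    rw [Subgroup.closure_le]
    rintro _ ⟨g, e, he, rfl⟩
    rw [SetLike.mem_coe, Subgroup.mem_center_iff]
    exact (F.comm_pow_eq_one g e he).2
  -- `W ≤ L'`
  have hWL' : W ≤ commutator L := by
    rw [Subgroup.closure_le]
    rintro _ ⟨g, e, he, rfl⟩
    have h1 : ⁅g, e⁆ ∈ commutator L := Subgroup.commutator_mem_commutator (Subgroup.mem_top g) (Subgroup.mem_top e)
    rw [commutatorElement_def] at h1
    exact h1
  -- `W` is cyclic of exponent `p`, hence `|W| ≤ p`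
  have hWcyc : IsCyclic ↥W := by
    have : IsCyclic ↥(commutator L) := F.isCyclic_commutator
    let f : ↥W →* ↥(commutator L) := Subgroup.inclusion hWL'
    exact isCyclic_of_injective f (Subgroup.inclusion_injective hWL')
  have hWle : Nat.card ↥W ≤ p := by
    have : IsCyclic ↥W := hWcyc
    letI : Fintype ↥W := Fintype.ofFinite _
    have h1 := IsCyclic.card_pow_eq_one_le (α := ↥W) hpp.pos
    have h2 : (Finset.univ.filter fun a : ↥W => a ^ p = 1) = Finset.univ := by
      ext a
      simp only [Finset.mem_filter, Finset.mem_univ, true_and, iff_true]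
      apply Subtype.ext
      exact (hEmem _).mp (hWE a.2)
    rw [h2, Finset.card_univ, ← Nat.card_eq_fintype_card] at h1
    exact h1
  -- `σ`-invariance
  have hσW : ∀ k ∈ W, σ k ∈ W := by
    intro k hk
    have hmap : W.map σ.toMonoidHom ≤ W := by
      rw [Subgroup.map_le_iff_le_comap, Subgroup.closure_le]
      rintro _ ⟨g, e, he, rfl⟩
      show σ (g * e * g⁻¹ * e⁻¹) ∈ W
      rw [map_mul, map_mul, map_mul, map_inv, map_inv]
      apply hSgW
      rw [← map_pow, he, map_one]
    exact hmap ⟨k, hk, rfl⟩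
  -- `W ≤ Fx σ`
  have hWfix : W ≤ Fx σ := by
    have hmod := card_modEq_card_inf_Fx (p := p) hm.hσ W hσW
    have hdvd : Nat.card ↥W ∣ p ^ 2 := F.card_Om ▸ Subgroup.card_dvd_of_le hWE
    obtain ⟨i, hi, hie⟩ := (Nat.dvd_prime_pow hpp).mp hdvd
    have hi1 : i ≤ 1 := by
      by_contra hcon
      have hi2 : i = 2 := by omega
      rw [hi2] at hie
      rw [hie] at hWle
      have : p * p ≤ p * 1 := by rw [mul_one, ← pow_two]; exact hWle
      have := Nat.le_of_mul_le_mul_left this hpp.pos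
      exact absurd this (not_le.mpr hpp.one_lt)
    interval_cases i
    · -- `W` trivial
      rw [pow_zero] at hie
      intro x hx
      have : x = 1 := by
        have hsub : Subsingleton ↥W := (Nat.card_eq_one_iff_unique.mp hie).1
        have := Subsingleton.elim (⟨x, hx⟩ : ↥W) 1
        exact congrArg Subtype.val this
      rw [this]
      exact Subgroup.one_mem _
    · rw [pow_one] at hie
      rw [hie] at hmod
      have hpI : p ∣ Nat.card ↥(W ⊓ Fx σ) := by
        have h0 : p ≡ 0 [MOD p] := (Nat.modEq_zero_iff_dvd).mpr dvd_rfl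
        exact (Nat.modEq_zero_iff_dvd).mp (hmod.symm.trans h0)
      have h1 : Nat.card ↥(W ⊓ Fx σ) ∣ Nat.card ↥W := Subgroup.card_dvd_of_le inf_le_left
      rw [hie] at h1
      have h2 : Nat.card ↥(W ⊓ Fx σ) = p := Nat.dvd_antisymm h1 hpI
      have h3 : W ⊓ Fx σ = W := Subgroup.eq_of_le_of_card_ge inf_le_left (by rw [hie, h2])
      rw [← h3]
      exact inf_le_right
  have hWZ : W ≤ Zf p σ := le_inf hWE hWfix
  refine ⟨fun g e he => hWZ (hSgW g he), ?_⟩
  by_cases hbot : W = ⊥
  · -- every element of `Ω₁` is central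
    intro z hz
    rw [Subgroup.mem_center_iff]
    intro g
    have hze : z ^ p = 1 := (hEmem z).mp hz.1
    have h1 : g * z * g⁻¹ * z⁻¹ ∈ W := hSgW g hze
    rw [hbot, Subgroup.mem_bot] at h1
    have h2 : g * z = z * g := by
      have : g * z = (g * z * g⁻¹ * z⁻¹) * (z * g) := by group
      rw [this, h1, one_mul]
    exact h2
  · -- `W = Z`
    have hWcard : Nat.card ↥W = p := by
      have h1 : Nat.card ↥W ∣ Nat.card ↥(Zf p σ) := Subgroup.card_dvd_of_le hWZ
      rw [hZ] at h1
      rcases (Nat.dvd_prime hpp).mp h1 with h2 | h2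
      · exact absurd (Subgroup.card_eq_one.mp h2) hbot
      · exact h2
    have hWeq : W = Zf p σ := Subgroup.eq_of_le_of_card_ge hWZ (by rw [hZ, hWcard])
    rw [← hWeq]
    exact hWc

end Cfsg.Agent.Lib.H11.MC3
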