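import Mathlib
import Cfsg.Prelude.Def_Blocks
import Cfsg.Prelude.Def_Characters
import Cfsg.Agent.Lib.H1.SchurZassenhaus

/-!
# S4756 piece BW2 (helper11, for helper23's farm-out)

`P` a normal Sylow `p`-subgroup, `G = A P` with `A` a `p'`-group, `D ≤ P` normal in `G` on which every
`1 ≠ a ∈ A` acts fixed-point-freely.  Then every `g ∉ P` centralizes no nonidentity element of `D`.
-/

set_option autoImplicit false
set_option linter.unusedVariables false

namespace Cfsg.Agent.Lib.H11.MUL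

open Cfsg
open scoped Pointwise

/-- every `p'`-element is conjugate (by an element of the normal Sylow `p`-subgroup `P`) into a complement `A` -/
theorem bw2_conj_mem {G : Type*} [Group G] [Finite G] (p : ℕ) [Fact p.Prime]
    (P : Sylow p G) (A : Subgroup G) (hPn : (P : Subgroup G).Normal)
    (hcop : (Nat.card ↥A).Coprime p) (hsup : A ⊔ (P : Subgroup G) = ⊤)
    (k : G) (hk : (orderOf k).Coprime p) : ∃ n ∈ (P : Subgroup G), n * k * n⁻¹ ∈ A := by
  have hpp : p.Prime := Fact.out
  -- `k = a u`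
  have hkmem : k ∈ A ⊔ (P : Subgroup G) := by rw [hsup]; exact Subgroup.mem_top k
  have hset : ((A ⊔ (P : Subgroup G) : Subgroup G) : Set G) = (A : Set G) * ((P : Subgroup G) : Set G) :=
    Subgroup.mul_normal A (P : Subgroup G)
  have hk' : k ∈ (A : Set G) * ((P : Subgroup G) : Set G) := by
    rw [← hset]; exact hkmem
  obtain ⟨a, ha, u, hu, hau⟩ := Set.mem_mul.mp hk'
  have ha' : a ∈ A := ha
  have hu' : u ∈ (P : Subgroup G) := hu
  -- cards
  obtain ⟨j, hj⟩ := IsPGroup.iff_card.mp P.isPGroup'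
  have hcopk : (Nat.card (P : Subgroup G)).Coprime (Nat.card (Subgroup.zpowers k)) := by
    rw [hj, Nat.card_zpowers]
    exact (Nat.Coprime.pow_right j hk).symm
  have hcopa : (Nat.card (P : Subgroup G)).Coprime (Nat.card (Subgroup.zpowers a)) := by
    rw [hj]
    apply Nat.Coprime.pow_left
    apply Nat.Coprime.symm
    exact Nat.Coprime.coprime_dvd_left
      (Subgroup.card_dvd_of_le ((Subgroup.zpowers_le).mpr ha')) hcop
  have hdk : Disjoint (P : Subgroup G) (Subgroup.zpowers k) :=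
    Subgroup.disjoint_of_coprime_natCard hcopk
  have hda : Disjoint (P : Subgroup G) (Subgroup.zpowers a) :=
    Subgroup.disjoint_of_coprime_natCard hcopa
  have hnorm : Subgroup.normalizer (((P : Subgroup G)) : Set G) = ⊤ := Subgroup.normalizer_eq_top_iff.mpr hPn
  have hsupeq : (P : Subgroup G) ⊔ Subgroup.zpowers k = (P : Subgroup G) ⊔ Subgroup.zpowers a := by
    apply le_antisymm
    · apply sup_le le_sup_left
      rw [Subgroup.zpowers_le, ← hau]
      -- `a * u = (a u a⁻¹) a`
      have e : a * u = (a * u * a⁻¹) * a := by group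
      rw [e]
      exact Subgroup.mul_mem _ (Subgroup.mem_sup_left (hPn.conj_mem u hu' a))
        (Subgroup.mem_sup_right (Subgroup.mem_zpowers a))
    · apply sup_le le_sup_left
      rw [Subgroup.zpowers_le]
      have e : a = k * u⁻¹ := by rw [← hau]; group
      rw [e]
      -- `k u⁻¹ = (k u⁻¹ k⁻¹) k`
      have e2 : k * u⁻¹ = (k * u⁻¹ * k⁻¹) * k := by group
      rw [e2]
      exact Subgroup.mul_mem _
        (Subgroup.mem_sup_left (hPn.conj_mem u⁻¹ ((P : Subgroup G).inv_mem hu') k))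
        (Subgroup.mem_sup_right (Subgroup.mem_zpowers k))
  have hsolv : Group.IsSolvable ↥(P : Subgroup G) := by
    have : Group.IsNilpotent ↥(P : Subgroup G) := P.isPGroup'.isNilpotent
    infer_instance
  obtain ⟨n, hn, hconj⟩ := Cfsg.Agent.Lib.H1.sz_conj_internal
    (N := (P : Subgroup G)) (H := Subgroup.zpowers k) (K := Subgroup.zpowers a)
    (by rw [hnorm]; exact le_top) (by rw [hnorm]; exact le_top) hcopk hdk hda hsupeq (Or.inl hsolv)
  refine ⟨n, hn, ?_⟩
  have h1 : n * k * n⁻¹ ∈ MulAut.conj n • Subgroup.zpowers k := by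
    have := Subgroup.smul_mem_pointwise_smul k (MulAut.conj n) (Subgroup.zpowers k) (Subgroup.mem_zpowers k)
    rwa [MulAut.smul_def, MulAut.conj_apply] at this
  rw [hconj] at h1
  exact (Subgroup.zpowers_le.mpr ha') h1

/-- BW2 -/
theorem eq_one_of_commute_of_not_mem {G : Type*} [Group G] [Finite G] (p : ℕ) [Fact p.Prime]
    (P : Sylow p G) (A D : Subgroup G) (hPn : (P : Subgroup G).Normal)
    (hcop : (Nat.card ↥A).Coprime p) (hsup : A ⊔ (P : Subgroup G) = ⊤)
    (hDn : D.Normal) (hDP : D ≤ (P : Subgroup G))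
    (hfpf : ∀ a ∈ A, a ≠ 1 → ∀ d ∈ D, a * d = d * a → d = 1)
    (g : G) (hg : g ∉ (P : Subgroup G)) (d : G) (hd : d ∈ D) (hcomm : g * d = d * g) : d = 1 := by
  have hpp : p.Prime := Fact.out
  -- the `p'`-part of `g`
  have hord : orderOf g ≠ 0 := (orderOf_pos g).ne'
  obtain ⟨e, m, hm, hem⟩ := Nat.exists_eq_pow_mul_and_not_dvd hord p hpp.ne_one
  set k : G := g ^ (p ^ e) with hkdef
  have hkm : k ^ m = 1 := by
    rw [hkdef, ← pow_mul, ← hem]; exact pow_orderOf_eq_one g
  have hkcop : (orderOf k).Coprime p := by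
    have h1 : orderOf k ∣ m := orderOf_dvd_of_pow_eq_one hkm
    exact Nat.Coprime.coprime_dvd_left h1 ((Nat.Prime.coprime_iff_not_dvd hpp).mpr hm).symm
  have hk1 : k ≠ 1 := by
    intro hk
    apply hg
    -- `g` is a `p`-element, so lies in the unique Sylow `p`-subgroup
    have hpg : IsPGroup p ↥(Subgroup.zpowers g) := by
      rw [IsPGroup.iff_card, Nat.card_zpowers]
      have h1 : orderOf g ∣ p ^ e := orderOf_dvd_of_pow_eq_one hk
      obtain ⟨i, -, hi⟩ := (Nat.dvd_prime_pow hpp).mp h1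
      exact ⟨i, hi⟩
    obtain ⟨Q, hQ⟩ := hpg.exists_le_sylow
    obtain ⟨x, hx⟩ := MulAction.exists_smul_eq G P Q
    have hPQ : Q = P := by
      rw [← hx]
      have := hPn
      exact Sylow.smul_eq_of_normal
    rw [hPQ] at hQ
    exact hQ (Subgroup.mem_zpowers g)
  have hkd : k * d = d * k := by
    have h1 : Commute g d := hcomm
    exact (h1.pow_left (p ^ e))
  obtain ⟨n, hn, hnk⟩ := bw2_conj_mem p P A hPn hcop hsup k hkcop
  have hne : n * k * n⁻¹ ≠ 1 := by
    intro h
    apply hk1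
    have : k = n⁻¹ * (n * k * n⁻¹) * n := by group
    rw [this, h]; group
  have hdD : n * d * n⁻¹ ∈ D := hDn.conj_mem d hd n
  have hc : (n * k * n⁻¹) * (n * d * n⁻¹) = (n * d * n⁻¹) * (n * k * n⁻¹) := by
    have e1 : (n * k * n⁻¹) * (n * d * n⁻¹) = n * (k * d) * n⁻¹ := by group
    have e2 : (n * d * n⁻¹) * (n * k * n⁻¹) = n * (d * k) * n⁻¹ := by group
    rw [e1, e2, hkd]
  have h1 := hfpf _ hnk hne _ hdD hc
  have : d = n⁻¹ * (n * d * n⁻¹) * n := by group
  rw [this, h1]; group

end Cfsg.Agent.Lib.H11.MUL
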