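import Mathlib
import Cfsg.Prelude.Def_Blocks
import Cfsg.Prelude.Def_Characters

/-!
# S4756 piece BW4 (helper11, for helper23's farm-out)
-/

set_option autoImplicit false

namespace Cfsg.Agent.Lib.H11.MUL

open Cfsg

/-- in a quotient by `P`: if `x̄` has order dividing two coprime numbers then `x ∈ P` -/
theorem bw4_mem_of_coprime {G : Type*} [Group G] (P : Subgroup G) [P.Normal] (x : G) (m n : ℕ)
    (hmn : Nat.Coprime m n) (h1 : x ^ m ∈ P) (h2 : x ^ n ∈ P) : x ∈ P := by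
  have e1 : (QuotientGroup.mk' P x) ^ m = 1 := by
    rw [← map_pow]; exact (QuotientGroup.eq_one_iff _).mpr h1
  have e2 : (QuotientGroup.mk' P x) ^ n = 1 := by
    rw [← map_pow]; exact (QuotientGroup.eq_one_iff _).mpr h2
  have h3 : orderOf (QuotientGroup.mk' P x) ∣ Nat.gcd m n :=
    Nat.dvd_gcd (orderOf_dvd_of_pow_eq_one e1) (orderOf_dvd_of_pow_eq_one e2)
  rw [hmn.gcd_eq_one, Nat.dvd_one, orderOf_eq_one_iff] at h3
  exact (QuotientGroup.eq_one_iff _).mp h3

/-- BW4 -/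
theorem not_mem_of_prime_pow_order {G : Type*} [Group G] [Finite G] (p : ℕ) (hp : p.Prime)
    (P : Subgroup G) (hPn : P.Normal) (hP : IsPGroup p ↥P) (x y : G) (hx : x ≠ 1)
    (r s a b : ℕ) (hr : r.Prime) (hs : s.Prime) (hrs : r ≠ s) (hrp : r ≠ p)
    (hxo : orderOf x = r ^ a) (hyo : orderOf y = s ^ b) :
    x ∉ P ∧ x * y ∉ P ∧ y * x ∉ P := by
  have hxP : x ∉ P := by
    intro hxP
    obtain ⟨k, hk⟩ := hP ⟨x, hxP⟩
    have hk' : x ^ (p ^ k) = 1 := by
      have := congrArg (fun z : ↥P => (z : G)) hk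
      simpa using this
    have h1 : orderOf x ∣ p ^ k := orderOf_dvd_of_pow_eq_one hk'
    rw [hxo] at h1
    have hcop : Nat.Coprime (r ^ a) (p ^ k) :=
      Nat.Coprime.pow _ _ ((Nat.coprime_primes hr hp).mpr hrp)
    have h2 : r ^ a = 1 := Nat.Coprime.eq_one_of_dvd hcop h1
    rw [h2, orderOf_eq_one_iff] at hxo
    exact hx hxo
  have hcop : Nat.Coprime (r ^ a) (s ^ b) := Nat.Coprime.pow _ _ ((Nat.coprime_primes hr hs).mpr hrs)
  have hxa : x ^ (r ^ a) = 1 := by rw [← hxo]; exact pow_orderOf_eq_one x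
  have hyb : y ^ (s ^ b) = 1 := by rw [← hyo]; exact pow_orderOf_eq_one y
  have key : ∀ z : G, z * y ∈ P ∨ y * z ∈ P → z ^ (r ^ a) = 1 → z ∈ P := by
    intro z hz hza
    have hzy : z * y ∈ P := by
      rcases hz with h | h
      · exact h
      · have := hPn.conj_mem _ h y⁻¹
        have e : y⁻¹ * (y * z) * y⁻¹⁻¹ = z * y := by group
        rwa [e] at this
    apply bw4_mem_of_coprime P z (r ^ a) (s ^ b) hcop
    · rw [hza]; exact P.one_mem
    · -- `z̄ = ȳ⁻¹`
      have e1 : QuotientGroup.mk' P z * QuotientGroup.mk' P y = 1 := by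
        rw [← map_mul]; exact (QuotientGroup.eq_one_iff _).mpr hzy
      have e2 : QuotientGroup.mk' P z = (QuotientGroup.mk' P y)⁻¹ := eq_inv_of_mul_eq_one_left e1
      have e3 : QuotientGroup.mk' P (z ^ (s ^ b)) = 1 := by
        rw [map_pow, e2, inv_pow, ← map_pow, hyb, map_one, inv_one]
      exact (QuotientGroup.eq_one_iff _).mp e3
  refine ⟨hxP, fun h => hxP (key x (Or.inl h) hxa), fun h => hxP (key x (Or.inr h) hxa)⟩

end Cfsg.Agent.Lib.H11.MUL
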