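import Cfsg.Agent.Lib.H11.McLMNet

/-!
# S2047 piece MODEL (helper11): kernel checks of the words 0 .. 13 of `modelL`
(one declaration per word and no parallel elaboration: each check needs about 1.5 GB while it runs)
-/

set_option Elab.async false
set_option autoImplicit false
set_option maxRecDepth 100000

namespace Cfsg.Agent.Lib.H11.McLM

open Cfsg.Agent.Lib.H11.BitNet

theorem chk0_0 : chkW ([4, 4, 4, 4, 4], 0) = true := by decide +kernel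

theorem chk0_1 : chkW ([0, 2, 5, 3, 0, 4, 2, 1, 4, 0, 3, 5, 1, 2, 4, 3, 1, 4], 0) = true := by decide +kernel

theorem chk0_2 : chkW ([1, 1, 1, 1, 1, 1, 1], 0) = true := by decide +kernel

theorem chk0_3 : chkW ([3, 3, 3, 3, 3, 3, 3], 0) = true := by decide +kernel

theorem chk0_4 : chkW ([1, 3, 1, 2, 1, 2, 0, 3, 1, 2], 0) = true := by decide +kernel

theorem chk0_5 : chkW ([1, 1, 1, 3, 1, 1, 2, 2, 0, 0, 3, 3], 0) = true := by decide +kernel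

theorem chk0_6 : chkW ([1, 1, 3, 1, 1, 3, 1, 1, 3, 1, 1, 3], 0) = true := by decide +kernel

theorem chk0_7 : chkW ([1, 1, 3, 3, 1, 1, 3, 3, 1, 1, 3, 3], 0) = true := by decide +kernel

theorem chk0_8 : chkW ([1, 1, 3, 0, 3, 0, 2, 2, 0, 3, 1, 2], 0) = true := by decide +kernel

theorem chk0_9 : chkW ([1, 3, 1, 3, 1, 3, 1, 3, 1, 3, 1, 3], 0) = true := by decide +kernel

theorem chk0_10 : chkW ([1, 3, 0, 3, 1, 3, 0, 3, 1, 3, 0, 3], 0) = true := by decide +kernel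

theorem chk0_11 : chkW ([1, 1, 1, 1, 2, 2, 1, 1, 3, 3, 0, 0, 2], 0) = true := by decide +kernel

theorem chk0_12 : chkW ([1, 1, 3, 1, 2, 0, 2, 1, 1, 2, 2, 0, 3], 0) = true := by decide +kernel

theorem chk0_13 : chkW ([1, 1, 2, 1, 3, 0, 2, 2, 0, 2, 2, 1, 2], 0) = true := by decide +kernel

/-- part 0 of `modelL` -/
def part0 : List (List ℕ × ℕ) := [([4, 4, 4, 4, 4], 0), ([0, 2, 5, 3, 0, 4, 2, 1, 4, 0, 3, 5, 1, 2, 4, 3, 1, 4], 0), ([1, 1, 1, 1, 1, 1, 1], 0), ([3, 3, 3, 3, 3, 3, 3], 0), ([1, 3, 1, 2, 1, 2, 0, 3, 1, 2], 0), ([1, 1, 1, 3, 1, 1, 2, 2, 0, 0, 3, 3], 0), ([1, 1, 3, 1, 1, 3, 1, 1, 3, 1, 1, 3], 0), ([1, 1, 3, 3, 1, 1, 3, 3, 1, 1, 3, 3], 0), ([1, 1, 3, 0, 3, 0, 2, 2, 0, 3, 1, 2], 0), ([1, 3, 1, 3, 1, 3, 1, 3, 1, 3, 1, 3], 0), ([1, 3, 0, 3, 1, 3, 0, 3, 1, 3, 0, 3], 0), ([1, 1, 1, 1, 2, 2, 1, 1, 3, 3, 0, 0, 2], 0), ([1, 1, 3, 1, 2, 0, 2, 1, 1,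 2, 2, 0, 3], 0), ([1, 1, 2, 1, 3, 0, 2, 2, 0, 2, 2, 1, 2], 0)]

theorem part0_ok : ∀ p ∈ part0, chkW p = true := by
  intro p hp
  simp only [part0, List.mem_cons, List.not_mem_nil, or_false] at hp
  rcases hp with rfl | rfl | rfl | rfl | rfl | rfl | rfl | rfl | rfl | rfl | rfl | rfl | rfl | rfl
  exacts [chk0_0, chk0_1, chk0_2, chk0_3, chk0_4, chk0_5, chk0_6, chk0_7, chk0_8, chk0_9, chk0_10, chk0_11, chk0_12, chk0_13]

end Cfsg.Agent.Lib.H11.McLM
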