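import Cfsg.Agent.Lib.H11.McLMNet

/-!
# S2047 piece MODEL (helper11): kernel checks of the words 14 .. 27 of `modelL`
(one declaration per word and no parallel elaboration: each check needs about 1.5 GB while it runs)
-/

set_option Elab.async false
set_option autoImplicit false
set_option maxRecDepth 100000

namespace Cfsg.Agent.Lib.H11.McLM

open Cfsg.Agent.Lib.H11.BitNet

theorem chk1_0 : chkW ([1, 1, 2, 1, 2, 1, 3, 0, 2, 1, 2, 2, 2], 0) = true := by decide +kernel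

theorem chk1_1 : chkW ([0, 0, 0, 0, 0, 0, 0], 0) = true := by decide +kernel

theorem chk1_2 : chkW ([2, 2, 2, 2, 2, 2, 2], 0) = true := by decide +kernel

theorem chk1_3 : chkW ([2, 0, 3, 1, 3, 3, 0, 2, 2, 0, 2, 1, 3, 1, 1], 0) = true := by decide +kernel

theorem chk1_4 : chkW ([0, 3, 0, 3, 3, 0, 2, 1, 2, 2, 1, 2, 1, 3, 3], 0) = true := by decide +kernel

theorem chk1_5 : chkW ([1, 3, 3, 3, 1, 3, 0, 2, 1, 2, 0, 2, 2, 2], 0) = true := by decide +kernel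

theorem chk1_6 : chkW ([3, 5, 3, 5, 3, 5], 0) = true := by decide +kernel

theorem chk1_7 : chkW ([1, 5, 1, 5, 1, 5, 1, 5, 1, 5], 1) = true := by decide +kernel

theorem chk1_8 : chkW ([3, 4, 3, 4, 3, 4, 3, 4, 3, 4], 2) = true := by decide +kernel

theorem chk1_9 : chkW ([1, 1, 5, 1, 1, 5, 1, 1, 5, 1, 1, 5], 1) = true := by decide +kernel

theorem chk1_10 : chkW ([1, 3, 0, 5, 0, 5, 5, 3, 0, 4, 0, 4], 2) = true := by decide +kernel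

theorem chk1_11 : chkW ([1, 3, 5, 1, 2, 0, 5, 3, 5, 0, 2, 4], 2) = true := by decide +kernel

theorem chk1_12 : chkW ([1, 3, 4, 1, 2, 2, 1, 3, 4, 1, 2, 2], 1) = true := by decide +kernel

theorem chk1_13 : chkW ([1, 1, 1, 5, 1, 3, 3, 3, 1, 2, 2, 5, 2], 0) = true := by decide +kernel

/-- part 1 of `modelL` -/
def part1 : List (List ℕ × ℕ) := [([1, 1, 2, 1, 2, 1, 3, 0, 2, 1, 2, 2, 2], 0), ([0, 0, 0, 0, 0, 0, 0], 0), ([2, 2, 2, 2, 2, 2, 2], 0), ([2, 0, 3, 1, 3, 3, 0, 2, 2, 0, 2, 1, 3, 1, 1], 0), ([0, 3, 0, 3, 3, 0, 2, 1, 2, 2, 1, 2, 1, 3, 3], 0), ([1, 3, 3, 3, 1, 3, 0, 2, 1, 2, 0, 2, 2, 2], 0), ([3, 5, 3, 5, 3, 5], 0), ([1, 5, 1, 5, 1, 5, 1, 5, 1, 5], 1), ([3, 4, 3, 4, 3, 4, 3, 4, 3, 4], 2), ([1, 1, 5, 1, 1, 5, 1, 1, 5, 1, 1, 5], 1), ([1, 3, 0, 5, 0, 5, 5, 3, 0, 4, 0, 4], 2), ([1, 3, 5, 1, 2, 0, 5, 3, 5, 0, 2, 4], 2), ([1, 3, 4, 1, 2, 2, 1, 3, 4, 1,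 2, 2], 1), ([1, 1, 1, 5, 1, 3, 3, 3, 1, 2, 2, 5, 2], 0)]

theorem part1_ok : ∀ p ∈ part1, chkW p = true := by
  intro p hp
  simp only [part1, List.mem_cons, List.not_mem_nil, or_false] at hp
  rcases hp with rfl | rfl | rfl | rfl | rfl | rfl | rfl | rfl | rfl | rfl | rfl | rfl | rfl | rfl
  exacts [chk1_0, chk1_1, chk1_2, chk1_3, chk1_4, chk1_5, chk1_6, chk1_7, chk1_8, chk1_9, chk1_10, chk1_11, chk1_12, chk1_13]

end Cfsg.Agent.Lib.H11.McLM
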