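import Cfsg.Agent.Lib.H11.McLMNet

/-!
# S2047 piece MODEL (helper11): kernel checks of the words 28 .. 41 of `modelL`
(one declaration per word and no parallel elaboration: each check needs about 1.5 GB while it runs)
-/

set_option Elab.async false
set_option autoImplicit false
set_option maxRecDepth 100000

namespace Cfsg.Agent.Lib.H11.McLM

open Cfsg.Agent.Lib.H11.BitNet

theorem chk2_0 : chkW ([1, 1, 5, 3, 5, 0, 3, 3, 1, 5, 2, 1, 2], 1) = true := by decide +kernel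

theorem chk2_1 : chkW ([1, 1, 1, 4, 0, 2, 4, 3, 0, 2, 4, 3, 3], 0) = true := by decide +kernel

theorem chk2_2 : chkW ([1, 1, 1, 4, 2, 0, 2, 1, 1, 4, 3, 5, 3], 1) = true := by decide +kernel

theorem chk2_3 : chkW ([1, 1, 2, 4, 2, 0, 3, 3, 1, 5, 2, 1, 2], 1) = true := by decide +kernel

theorem chk2_4 : chkW ([6, 6, 6, 6, 6, 6, 6, 6, 6, 6, 6], 0) = true := by decide +kernel

theorem chk2_5 : chkW ([3, 1, 1, 3, 1, 3, 1, 4, 4, 3, 4, 6, 5, 2, 5, 5, 0, 2, 0, 2, 0, 0, 2, 7, 7, 7], 0) = true := by decide +kernel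

theorem chk2_6 : chkW ([5, 5, 5, 5, 5], 0) = true := by decide +kernel

theorem chk2_7 : chkW ([3, 5, 3, 5, 3, 4, 4, 4, 4], 0) = true := by decide +kernel

theorem chk2_8 : chkW ([3, 3, 3, 3, 3, 3, 4, 2, 4, 2, 4], 0) = true := by decide +kernel

theorem chk2_9 : chkW ([1, 1, 1, 2, 0, 5, 0, 4, 1, 5, 1, 4, 4], 0) = true := by decide +kernel

theorem chk2_10 : chkW ([1, 1, 1, 4, 2, 0, 2, 1, 1, 4, 4, 2, 4], 1) = true := by decide +kernel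

theorem chk2_11 : chkW ([1, 1, 2, 2, 2, 5, 5, 0, 5, 2, 1, 1, 4], 1) = true := by decide +kernel

theorem chk2_12 : chkW ([1, 3, 3, 1, 4, 4, 3, 1, 5, 3, 0, 5, 3], 1) = true := by decide +kernel

theorem chk2_13 : chkW ([1, 1, 1, 1, 3, 4, 3, 3, 0, 2, 2, 2, 0, 4], 0) = true := by decide +kernel

/-- part 2 of `modelL` -/
def part2 : List (List ℕ × ℕ) := [([1, 1, 5, 3, 5, 0, 3, 3, 1, 5, 2, 1, 2], 1), ([1, 1, 1, 4, 0, 2, 4, 3, 0, 2, 4, 3, 3], 0), ([1, 1, 1, 4, 2, 0, 2, 1, 1, 4, 3, 5, 3], 1), ([1, 1, 2, 4, 2, 0, 3, 3, 1, 5, 2, 1, 2], 1), ([6, 6, 6, 6, 6, 6, 6, 6, 6, 6, 6], 0), ([3, 1, 1, 3, 1, 3, 1, 4, 4, 3, 4, 6, 5, 2, 5, 5, 0, 2, 0, 2, 0, 0, 2, 7, 7, 7], 0), ([5, 5, 5, 5, 5], 0), ([3, 5, 3, 5, 3, 4, 4, 4, 4], 0), ([3, 3, 3, 3, 3, 3, 4, 2, 4, 2, 4], 0), ([1, 1, 1, 2, 0, 5, 0, 4, 1, 5, 1, 4, 4], 0), ([1, 1, 1, 4, 2, 0, 2, 1, 1, 4, 4, 2,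 4], 1), ([1, 1, 2, 2, 2, 5, 5, 0, 5, 2, 1, 1, 4], 1), ([1, 3, 3, 1, 4, 4, 3, 1, 5, 3, 0, 5, 3], 1), ([1, 1, 1, 1, 3, 4, 3, 3, 0, 2, 2, 2, 0, 4], 0)]

theorem part2_ok : ∀ p ∈ part2, chkW p = true := by
  intro p hp
  simp only [part2, List.mem_cons, List.not_mem_nil, or_false] at hp
  rcases hp with rfl | rfl | rfl | rfl | rfl | rfl | rfl | rfl | rfl | rfl | rfl | rfl | rfl | rfl
  exacts [chk2_0, chk2_1, chk2_2, chk2_3, chk2_4, chk2_5, chk2_6, chk2_7, chk2_8, chk2_9, chk2_10, chk2_11, chk2_12, chk2_13]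

end Cfsg.Agent.Lib.H11.McLM
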