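import Cfsg.Agent.Lib.H11.McLMNet

/-!
# S2047 piece MODEL (helper11): kernel checks of the words 42 .. 55 of `modelL`
(one declaration per word and no parallel elaboration: each check needs about 1.5 GB while it runs)
-/

set_option Elab.async false
set_option autoImplicit false
set_option maxRecDepth 100000

namespace Cfsg.Agent.Lib.H11.McLM

open Cfsg.Agent.Lib.H11.BitNet

theorem chk3_0 : chkW ([1, 1, 1, 1, 5, 3, 5, 5, 0, 0, 3, 1, 3, 5], 2) = true := by decide +kernel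

theorem chk3_1 : chkW ([1, 1, 1, 1, 5, 5, 0, 4, 0, 5, 1, 4, 1, 3], 0) = true := by decide +kernel

theorem chk3_2 : chkW ([1, 1, 1, 1, 2, 4, 2, 5, 0, 0, 3, 1, 3, 5], 2) = true := by decide +kernel

theorem chk3_3 : chkW ([1, 1, 3, 3, 1, 5, 2, 1, 5, 1, 2, 5, 2, 5], 0) = true := by decide +kernel

theorem chk3_4 : chkW ([1, 1, 3, 5, 2, 4, 1, 3, 0, 5, 3, 3, 4, 2], 1) = true := by decide +kernel

theorem chk3_5 : chkW ([1, 1, 3, 0, 3, 1, 3, 0, 3, 3, 1, 2, 1, 3], 0) = true := by decide +kernel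

theorem chk3_6 : chkW ([1, 1, 3, 0, 5, 2, 2, 0, 5, 3, 4, 4, 3, 4], 2) = true := by decide +kernel

theorem chk3_7 : chkW ([1, 1, 3, 4, 4, 2, 4, 1, 1, 2, 2, 5, 3, 4], 0) = true := by decide +kernel

theorem chk3_8 : chkW ([1, 1, 5, 5, 1, 5, 3, 0, 5, 2, 5, 3, 3, 5], 2) = true := by decide +kernel

theorem chk3_9 : chkW ([1, 1, 5, 2, 5, 2, 4, 4, 2, 2, 5, 1, 3, 5], 0) = true := by decide +kernel

theorem chk3_10 : chkW ([1, 1, 2, 1, 3, 1, 2, 1, 1, 2, 1, 2, 0, 3], 0) = true := by decide +kernel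

theorem chk3_11 : chkW ([1, 1, 2, 1, 3, 3, 1, 3, 1, 1, 2, 0, 3, 3], 0) = true := by decide +kernel

theorem chk3_12 : chkW ([1, 1, 2, 1, 3, 3, 3, 0, 3, 3, 3, 1, 2, 2], 0) = true := by decide +kernel

theorem chk3_13 : chkW ([1, 1, 2, 1, 2, 1, 3, 0, 2, 1, 3, 3, 3, 3], 0) = true := by decide +kernel

/-- part 3 of `modelL` -/
def part3 : List (List ℕ × ℕ) := [([1, 1, 1, 1, 5, 3, 5, 5, 0, 0, 3, 1, 3, 5], 2), ([1, 1, 1, 1, 5, 5, 0, 4, 0, 5, 1, 4, 1, 3], 0), ([1, 1, 1, 1, 2, 4, 2, 5, 0, 0, 3, 1, 3, 5], 2), ([1, 1, 3, 3, 1, 5, 2, 1, 5, 1, 2, 5, 2, 5], 0), ([1, 1, 3, 5, 2, 4, 1, 3, 0, 5, 3, 3, 4, 2], 1), ([1, 1, 3, 0, 3, 1, 3, 0, 3, 3, 1, 2, 1, 3], 0), ([1, 1, 3, 0, 5, 2, 2, 0, 5, 3, 4, 4, 3, 4], 2), ([1, 1, 3, 4, 4, 2, 4, 1, 1, 2, 2, 5, 3, 4], 0), ([1, 1, 5, 5, 1, 5, 3, 0, 5, 2, 5, 3, 3, 5], 2), ([1, 1, 5, 2, 5, 2, 4, 4, 2, 2,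 5, 1, 3, 5], 0), ([1, 1, 2, 1, 3, 1, 2, 1, 1, 2, 1, 2, 0, 3], 0), ([1, 1, 2, 1, 3, 3, 1, 3, 1, 1, 2, 0, 3, 3], 0), ([1, 1, 2, 1, 3, 3, 3, 0, 3, 3, 3, 1, 2, 2], 0), ([1, 1, 2, 1, 2, 1, 3, 0, 2, 1, 3, 3, 3, 3], 0)]

theorem part3_ok : ∀ p ∈ part3, chkW p = true := by
  intro p hp
  simp only [part3, List.mem_cons, List.not_mem_nil, or_false] at hp
  rcases hp with rfl | rfl | rfl | rfl | rfl | rfl | rfl | rfl | rfl | rfl | rfl | rfl | rfl | rfl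
  exacts [chk3_0, chk3_1, chk3_2, chk3_3, chk3_4, chk3_5, chk3_6, chk3_7, chk3_8, chk3_9, chk3_10, chk3_11, chk3_12, chk3_13]

end Cfsg.Agent.Lib.H11.McLM
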