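import Cfsg.Agent.Lib.H11.McLMNet

/-!
# S2047 piece MODEL (helper11): kernel checks of the words 56 .. 69 of `modelL`
(one declaration per word and no parallel elaboration: each check needs about 1.5 GB while it runs)
-/

set_option Elab.async false
set_option autoImplicit false
set_option maxRecDepth 100000

namespace Cfsg.Agent.Lib.H11.McLM

open Cfsg.Agent.Lib.H11.BitNet

theorem chk4_0 : chkW ([1, 1, 2, 0, 3, 0, 3, 3, 1, 3, 1, 2, 2, 2], 0) = true := by decide +kernel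

theorem chk4_1 : chkW ([1, 1, 2, 2, 0, 5, 1, 3, 4, 2, 1, 2, 5, 5], 2) = true := by decide +kernel

theorem chk4_2 : chkW ([1, 1, 2, 4, 1, 5, 3, 3, 4, 4, 3, 3, 3, 3], 2) = true := by decide +kernel

theorem chk4_3 : chkW ([1, 1, 2, 4, 1, 5, 2, 5, 1, 4, 3, 1, 5, 5], 2) = true := by decide +kernel

theorem chk4_4 : chkW ([1, 1, 4, 1, 5, 3, 0, 2, 1, 1, 4, 3, 0, 4], 0) = true := by decide +kernel

theorem chk4_5 : chkW ([1, 1, 4, 3, 4, 3, 5, 1, 3, 0, 4, 3, 0, 3], 2) = true := by decide +kernel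

theorem chk4_6 : chkW ([1, 3, 1, 5, 1, 3, 5, 2, 0, 2, 4, 0, 3, 4], 1) = true := by decide +kernel

theorem chk4_7 : chkW ([1, 3, 3, 3, 1, 3, 3, 0, 3, 1, 3, 0, 2, 2], 0) = true := by decide +kernel

theorem chk4_8 : chkW ([1, 3, 3, 5, 3, 0, 3, 5, 1, 4, 2, 5, 1, 5], 2) = true := by decide +kernel

theorem chk4_9 : chkW ([1, 3, 3, 4, 3, 0, 3, 1, 3, 3, 4, 3, 0, 3], 0) = true := by decide +kernel

theorem chk4_10 : chkW ([1, 3, 3, 4, 0, 5, 5, 2, 2, 0, 5, 2, 1, 2], 2) = true := by decide +kernel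

theorem chk4_11 : chkW ([1, 3, 5, 3, 1, 3, 0, 3, 5, 3, 5, 0, 5, 3], 1) = true := by decide +kernel

theorem chk4_12 : chkW ([1, 3, 5, 3, 5, 3, 1, 4, 1, 4, 1, 4, 1, 4], 0) = true := by decide +kernel

theorem chk4_13 : chkW ([1, 3, 4, 1, 4, 1, 4, 1, 5, 3, 0, 4, 0, 4], 2) = true := by decide +kernel

/-- part 4 of `modelL` -/
def part4 : List (List ℕ × ℕ) := [([1, 1, 2, 0, 3, 0, 3, 3, 1, 3, 1, 2, 2, 2], 0), ([1, 1, 2, 2, 0, 5, 1, 3, 4, 2, 1, 2, 5, 5], 2), ([1, 1, 2, 4, 1, 5, 3, 3, 4, 4, 3, 3, 3, 3], 2), ([1, 1, 2, 4, 1, 5, 2, 5, 1, 4, 3, 1, 5, 5], 2), ([1, 1, 4, 1, 5, 3, 0, 2, 1, 1, 4, 3, 0, 4], 0), ([1, 1, 4, 3, 4, 3, 5, 1, 3, 0, 4, 3, 0, 3], 2), ([1, 3, 1, 5, 1, 3, 5, 2, 0, 2, 4, 0, 3, 4], 1), ([1, 3, 3, 3, 1, 3, 3, 0, 3, 1, 3, 0, 2, 2], 0), ([1, 3, 3, 5, 3, 0, 3, 5, 1, 4, 2, 5, 1, 5], 2), ([1, 3, 3, 4, 3, 0, 3, 1, 3, 3,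 4, 3, 0, 3], 0), ([1, 3, 3, 4, 0, 5, 5, 2, 2, 0, 5, 2, 1, 2], 2), ([1, 3, 5, 3, 1, 3, 0, 3, 5, 3, 5, 0, 5, 3], 1), ([1, 3, 5, 3, 5, 3, 1, 4, 1, 4, 1, 4, 1, 4], 0), ([1, 3, 4, 1, 4, 1, 4, 1, 5, 3, 0, 4, 0, 4], 2)]

theorem part4_ok : ∀ p ∈ part4, chkW p = true := by
  intro p hp
  simp only [part4, List.mem_cons, List.not_mem_nil, or_false] at hp
  rcases hp with rfl | rfl | rfl | rfl | rfl | rfl | rfl | rfl | rfl | rfl | rfl | rfl | rfl | rfl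
  exacts [chk4_0, chk4_1, chk4_2, chk4_3, chk4_4, chk4_5, chk4_6, chk4_7, chk4_8, chk4_9, chk4_10, chk4_11, chk4_12, chk4_13]

end Cfsg.Agent.Lib.H11.McLM
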