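import Cfsg.Agent.Lib.H11.McLMNet

/-!
# S2047 piece MODEL (helper11): kernel checks of the words 70 .. 83 of `modelL`
(one declaration per word and no parallel elaboration: each check needs about 1.5 GB while it runs)
-/

set_option Elab.async false
set_option autoImplicit false
set_option maxRecDepth 100000

namespace Cfsg.Agent.Lib.H11.McLM

open Cfsg.Agent.Lib.H11.BitNet

theorem chk5_0 : chkW ([1, 3, 4, 3, 0, 3, 5, 3, 1, 3, 4, 4, 3, 4], 2) = true := by decide +kernel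

theorem chk5_1 : chkW ([1, 3, 4, 3, 0, 4, 2, 4, 1, 3, 4, 4, 3, 4], 2) = true := by decide +kernel

theorem chk5_2 : chkW ([1, 5, 1, 5, 1, 5, 1, 5, 1, 2, 4, 2, 4, 2], 1) = true := by decide +kernel

theorem chk5_3 : chkW ([1, 5, 1, 2, 5, 2, 2, 1, 4, 3, 4, 0, 3, 3], 0) = true := by decide +kernel

theorem chk5_4 : chkW ([1, 5, 3, 5, 3, 3, 3, 5, 1, 2, 4, 3, 3, 5], 0) = true := by decide +kernel

theorem chk5_5 : chkW ([1, 5, 0, 3, 3, 0, 4, 1, 4, 3, 5, 1, 4, 4], 0) = true := by decide +kernel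

theorem chk5_6 : chkW ([1, 5, 2, 1, 4, 4, 2, 1, 5, 2, 1, 4, 4, 2], 1) = true := by decide +kernel

theorem chk5_7 : chkW ([1, 2, 4, 3, 3, 5, 1, 2, 4, 3, 4, 2, 4, 2], 0) = true := by decide +kernel

theorem chk5_8 : chkW ([3, 3, 3, 3, 3, 3, 4, 2, 5, 5, 5, 5, 2, 4], 0) = true := by decide +kernel

theorem chk5_9 : chkW ([7, 0, 0, 4, 3, 0, 5, 6, 4, 3, 5, 0, 5, 2, 2, 0], 0) = true := by decide +kernel

theorem chk5_10 : chkW ([7, 1, 1, 5, 1, 3, 5, 5, 6, 1, 1, 2, 1, 5, 5, 2], 0) = true := by decide +kernel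

theorem chk5_11 : chkW ([7, 2, 0, 3, 3, 0, 3, 0, 6, 0, 3, 3, 1, 3, 1, 5, 1], 2) = true := by decide +kernel

theorem chk5_12 : chkW ([7, 2, 1, 2, 4, 0, 5, 0, 6, 2, 5, 3, 4, 2, 5, 2, 2], 1) = true := by decide +kernel

theorem chk5_13 : chkW ([7, 2, 1, 3, 0, 4, 2, 1, 6, 3, 3, 3, 4, 1, 4, 2], 1) = true := by decide +kernel

/-- part 5 of `modelL` -/
def part5 : List (List ℕ × ℕ) := [([1, 3, 4, 3, 0, 3, 5, 3, 1, 3, 4, 4, 3, 4], 2), ([1, 3, 4, 3, 0, 4, 2, 4, 1, 3, 4, 4, 3, 4], 2), ([1, 5, 1, 5, 1, 5, 1, 5, 1, 2, 4, 2, 4, 2], 1), ([1, 5, 1, 2, 5, 2, 2, 1, 4, 3, 4, 0, 3, 3], 0), ([1, 5, 3, 5, 3, 3, 3, 5, 1, 2, 4, 3, 3, 5], 0), ([1, 5, 0, 3, 3, 0, 4, 1, 4, 3, 5, 1, 4, 4], 0), ([1, 5, 2, 1, 4, 4, 2, 1, 5, 2, 1, 4, 4, 2], 1), ([1, 2, 4, 3, 3, 5, 1, 2, 4, 3, 4, 2, 4, 2], 0), ([3, 3, 3, 3, 3, 3, 4, 2, 5, 5, 5, 5, 2, 4], 0),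 ([7, 0, 0, 4, 3, 0, 5, 6, 4, 3, 5, 0, 5, 2, 2, 0], 0), ([7, 1, 1, 5, 1, 3, 5, 5, 6, 1, 1, 2, 1, 5, 5, 2], 0), ([7, 2, 0, 3, 3, 0, 3, 0, 6, 0, 3, 3, 1, 3, 1, 5, 1], 2), ([7, 2, 1, 2, 4, 0, 5, 0, 6, 2, 5, 3, 4, 2, 5, 2, 2], 1), ([7, 2, 1, 3, 0, 4, 2, 1, 6, 3, 3, 3, 4, 1, 4, 2], 1)]

theorem part5_ok : ∀ p ∈ part5, chkW p = true := by
  intro p hp
  simp only [part5, List.mem_cons, List.not_mem_nil, or_false] at hp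
  rcases hp with rfl | rfl | rfl | rfl | rfl | rfl | rfl | rfl | rfl | rfl | rfl | rfl | rfl | rfl
  exacts [chk5_0, chk5_1, chk5_2, chk5_3, chk5_4, chk5_5, chk5_6, chk5_7, chk5_8, chk5_9, chk5_10, chk5_11, chk5_12, chk5_13]

end Cfsg.Agent.Lib.H11.McLM
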