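import Cfsg.Agent.Lib.H11.McLMNet

/-!
# S2047 piece MODEL (helper11): kernel checks of the words 84 .. 97 of `modelL`
(one declaration per word and no parallel elaboration: each check needs about 1.5 GB while it runs)
-/

set_option Elab.async false
set_option autoImplicit false
set_option maxRecDepth 100000

namespace Cfsg.Agent.Lib.H11.McLM

open Cfsg.Agent.Lib.H11.BitNet

theorem chk6_0 : chkW ([7, 2, 4, 3, 0, 4, 4, 1, 6, 5, 0, 0, 3, 5, 3], 0) = true := by decide +kernel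

theorem chk6_1 : chkW ([7, 2, 5, 1, 3, 4, 4, 0, 6, 4, 3, 0, 5, 5, 2, 2], 1) = true := by decide +kernel

theorem chk6_2 : chkW ([7, 3, 4, 1, 3, 1, 5, 5, 6, 3, 5, 2, 1, 4, 3, 5], 2) = true := by decide +kernel

theorem chk6_3 : chkW ([7, 4, 2, 5, 2, 1, 2, 0, 6, 4, 0, 0, 2, 0, 0, 5, 5], 0) = true := by decide +kernel

theorem chk6_4 : chkW ([7, 4, 3, 3, 5, 5, 2, 5, 6, 0, 0, 0, 2, 1, 2, 1], 2) = true := by decide +kernel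

theorem chk6_5 : chkW ([7, 4, 3, 4, 4, 2, 2, 5, 6, 0, 3, 0, 3, 1, 1, 1], 1) = true := by decide +kernel

theorem chk6_6 : chkW ([7, 4, 4, 0, 2, 0, 5, 2, 6, 4, 2, 5, 0, 3, 4, 2], 1) = true := by decide +kernel

theorem chk6_7 : chkW ([7, 4, 4, 0, 2, 1, 5, 3, 6, 5, 1, 2, 5, 1, 4, 2, 0], 2) = true := by decide +kernel

theorem chk6_8 : chkW ([7, 4, 4, 2, 0, 4, 0, 0, 6, 3, 4, 4, 0, 3, 0, 0], 0) = true := by decide +kernel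

theorem chk6_9 : chkW ([7, 5, 0, 4, 1, 5, 3, 0, 6, 0, 4, 3, 1, 2, 4, 4, 0], 1) = true := by decide +kernel

theorem chk6_10 : chkW ([7, 5, 1, 2, 1, 2, 5, 2, 6, 0, 5, 0, 5, 2, 2, 5, 1], 1) = true := by decide +kernel

theorem chk6_11 : chkW ([7, 5, 1, 5, 3, 1, 2, 4, 6, 5, 0, 2, 1, 5, 5, 0], 1) = true := by decide +kernel

theorem chk6_12 : chkW ([7, 5, 5, 0, 3, 0, 4, 4, 6, 0, 4, 3, 3, 0, 2, 1], 1) = true := by decide +kernel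

theorem chk6_13 : chkW ([7, 0, 2, 1, 3, 3, 3, 5, 0, 6, 4, 2, 1, 2, 2, 1], 2) = true := by decide +kernel

/-- part 6 of `modelL` -/
def part6 : List (List ℕ × ℕ) := [([7, 2, 4, 3, 0, 4, 4, 1, 6, 5, 0, 0, 3, 5, 3], 0), ([7, 2, 5, 1, 3, 4, 4, 0, 6, 4, 3, 0, 5, 5, 2, 2], 1), ([7, 3, 4, 1, 3, 1, 5, 5, 6, 3, 5, 2, 1, 4, 3, 5], 2), ([7, 4, 2, 5, 2, 1, 2, 0, 6, 4, 0, 0, 2, 0, 0, 5, 5], 0), ([7, 4, 3, 3, 5, 5, 2, 5, 6, 0, 0, 0, 2, 1, 2, 1], 2), ([7, 4, 3, 4, 4, 2, 2, 5, 6, 0, 3, 0, 3, 1, 1, 1], 1), ([7, 4, 4, 0, 2, 0, 5, 2, 6, 4, 2, 5, 0, 3, 4, 2], 1), ([7, 4, 4, 0, 2, 1, 5, 3, 6, 5, 1, 2, 5, 1, 4, 2, 0], 2), ([7, 4, 4, 2, 0, 4, 0, 0, 6, 3, 4, 4, 0, 3, 0, 0], 0), ([7, 5, 0, 4, 1, 5, 3, 0, 6, 0, 4, 3, 1, 2, 4, 4, 0], 1), ([7, 5, 1, 2, 1, 2, 5, 2, 6, 0, 5, 0, 5, 2, 2, 5, 1], 1), ([7, 5, 1, 5, 3, 1, 2, 4, 6, 5, 0,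 2, 1, 5, 5, 0], 1), ([7, 5, 5, 0, 3, 0, 4, 4, 6, 0, 4, 3, 3, 0, 2, 1], 1), ([7, 0, 2, 1, 3, 3, 3, 5, 0, 6, 4, 2, 1, 2, 2, 1], 2)]

theorem part6_ok : ∀ p ∈ part6, chkW p = true := by
  intro p hp
  simp only [part6, List.mem_cons, List.not_mem_nil, or_false] at hp
  rcases hp with rfl | rfl | rfl | rfl | rfl | rfl | rfl | rfl | rfl | rfl | rfl | rfl | rfl | rfl
  exacts [chk6_0, chk6_1, chk6_2, chk6_3, chk6_4, chk6_5, chk6_6, chk6_7, chk6_8, chk6_9, chk6_10, chk6_11, chk6_12, chk6_13]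

end Cfsg.Agent.Lib.H11.McLM
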