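import Cfsg.Agent.Lib.H11.McLMNet

/-!
# S2047 piece MODEL (helper11): kernel checks of the words 98 .. 111 of `modelL`
(one declaration per word and no parallel elaboration: each check needs about 1.5 GB while it runs)
-/

set_option Elab.async false
set_option autoImplicit false
set_option maxRecDepth 100000

namespace Cfsg.Agent.Lib.H11.McLM

open Cfsg.Agent.Lib.H11.BitNet

theorem chk7_0 : chkW ([7, 2, 0, 3, 4, 2, 2, 1, 5, 6, 3, 0, 0, 2, 0, 3], 1) = true := by decide +kernel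

theorem chk7_1 : chkW ([7, 2, 2, 2, 5, 0, 3, 5, 1, 6, 1, 4, 4, 1, 2, 4, 0], 2) = true := by decide +kernel

theorem chk7_2 : chkW ([7, 3, 4, 1, 1, 5, 1, 4, 4, 6, 1, 4, 1, 2, 1, 2, 0], 0) = true := by decide +kernel

theorem chk7_3 : chkW ([7, 4, 0, 0, 0, 4, 0, 0, 5, 6, 5, 2, 5, 5, 3, 4, 4], 2) = true := by decide +kernel

theorem chk7_4 : chkW ([7, 4, 0, 0, 3, 5, 1, 4, 1, 6, 2, 4, 3, 0, 5, 2, 2], 1) = true := by decide +kernel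

theorem chk7_5 : chkW ([7, 4, 0, 3, 3, 5, 2, 1, 3, 6, 2, 1, 3, 1, 1, 2], 2) = true := by decide +kernel

theorem chk7_6 : chkW ([7, 4, 3, 4, 3, 1, 1, 3, 4, 6, 0, 4, 0, 4, 1, 5, 3], 2) = true := by decide +kernel

theorem chk7_7 : chkW ([7, 5, 2, 0, 0, 2, 5, 2, 5, 6, 2, 4, 0, 5, 1, 5, 1], 1) = true := by decide +kernel

theorem chk7_8 : chkW ([7, 5, 5, 2, 5, 5, 1, 5, 2, 6, 4, 1, 5, 0, 3, 4], 2) = true := by decide +kernel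

theorem chk7_9 : chkW ([0, 3, 4, 3, 7, 3, 0, 5, 3, 6, 6, 4, 2, 4], 1) = true := by decide +kernel

theorem chk7_10 : chkW ([0, 0, 4, 3, 4, 6, 6, 6, 2, 7, 7, 2, 5], 1) = true := by decide +kernel

theorem chk7_11 : chkW ([0, 2, 2, 1, 4, 1, 6, 3, 1, 6, 5, 3, 3], 2) = true := by decide +kernel

theorem chk7_12 : chkW ([0, 3, 3, 4, 2, 1, 6, 1, 5, 5, 3, 7, 1, 3], 0) = true := by decide +kernel

theorem chk7_13 : chkW ([0, 6, 0, 6, 0, 6, 0, 6, 0, 6], 2) = true := by decide +kernel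

/-- part 7 of `modelL` -/
def part7 : List (List ℕ × ℕ) := [([7, 2, 0, 3, 4, 2, 2, 1, 5, 6, 3, 0, 0, 2, 0, 3], 1), ([7, 2, 2, 2, 5, 0, 3, 5, 1, 6, 1, 4, 4, 1, 2, 4, 0], 2), ([7, 3, 4, 1, 1, 5, 1, 4, 4, 6, 1, 4, 1, 2, 1, 2, 0], 0), ([7, 4, 0, 0, 0, 4, 0, 0, 5, 6, 5, 2, 5, 5, 3, 4, 4], 2), ([7, 4, 0, 0, 3, 5, 1, 4, 1, 6, 2, 4, 3, 0, 5, 2, 2], 1), ([7, 4, 0, 3, 3, 5, 2, 1, 3, 6, 2, 1, 3, 1, 1, 2], 2), ([7, 4, 3, 4, 3, 1, 1, 3, 4, 6, 0, 4, 0, 4, 1, 5, 3], 2), ([7, 5, 2, 0, 0, 2, 5, 2, 5, 6, 2, 4, 0, 5, 1, 5, 1], 1), ([7, 5, 5, 2, 5, 5, 1, 5, 2, 6, 4, 1, 5, 0, 3, 4], 2), ([0, 3, 4, 3, 7, 3, 0, 5, 3, 6, 6, 4, 2, 4], 1), ([0, 0, 4, 3, 4, 6, 6, 6, 2, 7, 7, 2, 5], 1), ([0, 2, 2, 1, 4, 1, 6, 3, 1, 6, 5, 3, 3], 2), ([0, 3, 3, 4, 2, 1, 6, 1, 5, 5, 3, 7, 1, 3], 0), ([0, 6, 0, 6, 0, 6, 0, 6, 0, 6], 2)]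

theorem part7_ok : ∀ p ∈ part7, chkW p = true := by
  intro p hp
  simp only [part7, List.mem_cons, List.not_mem_nil, or_false] at hp
  rcases hp with rfl | rfl | rfl | rfl | rfl | rfl | rfl | rfl | rfl | rfl | rfl | rfl | rfl | rfl
  exacts [chk7_0, chk7_1, chk7_2, chk7_3, chk7_4, chk7_5, chk7_6, chk7_7, chk7_8, chk7_9, chk7_10, chk7_11, chk7_12, chk7_13]

end Cfsg.Agent.Lib.H11.McLM
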