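import Cfsg.Agent.Lib.H11.McLMNet

/-!
# S2047 piece MODEL (helper11): `z ≠ 1`, `z ^ 3 = 1` and `z` commutes with the four generators
-/

set_option Elab.async false
set_option autoImplicit false
set_option maxRecDepth 100000

namespace Cfsg.Agent.Lib.H11.McLM

open Cfsg.Agent.Lib.H11.BitNet

theorem good_append {L L' : List (ℕ × ℕ)} (h : ∀ s ∈ L, Good (2 ^ 17) s) (h' : ∀ s ∈ L', Good (2 ^ 17) s) :
    ∀ s ∈ L ++ L', Good (2 ^ 17) s := fun s hs => (List.mem_append.mp hs).elim (h s) (h' s)

theorem mz_def : mz = netPerm zs := rfl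

theorem chk_z3 : chkEq 17 (zrep 3) [] = true := by decide +kernel

theorem chk_z1 : chkEq 17 zs [] = false := by decide +kernel

theorem chk_za : chkEq 17 (sa ++ zs) (zs ++ sa) = true := by decide +kernel

theorem chk_zb : chkEq 17 (sb ++ zs) (zs ++ sb) = true := by decide +kernel

theorem chk_zc : chkEq 17 (sc ++ zs) (zs ++ sc) = true := by decide +kernel

theorem chk_zd : chkEq 17 (sd ++ zs) (zs ++ sd) = true := by decide +kernel

theorem mz_pow_three : mz ^ 3 = 1 := by
  rw [zpow_eq]
  exact netPerm_eq_of_chk 17 (zrep 3) [] (zrep_good 3)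
    (fun _ hs => absurd hs (List.not_mem_nil)) chk_z3

theorem mz_ne_one : mz ≠ 1 :=
  netPerm_ne_of_chk 17 zs [] (fun s hs => (zs_good s hs).1)
    (fun _ hs => absurd hs (List.not_mem_nil)) chk_z1

theorem comm_a : ma * mz = mz * ma := by
  rw [ma_def, mz_def, ← netPerm_append, ← netPerm_append]
  exact netPerm_eq_of_chk 17 _ _ (good_append sa_good zs_good) (good_append zs_good sa_good) chk_za

theorem comm_b : mb * mz = mz * mb := by
  rw [mb_def, mz_def, ← netPerm_append, ← netPerm_append]
  exact netPerm_eq_of_chk 17 _ _ (good_append sb_good zs_good) (good_append zs_good sb_good) chk_zb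

theorem comm_c : mc * mz = mz * mc := by
  rw [mc_def, mz_def, ← netPerm_append, ← netPerm_append]
  exact netPerm_eq_of_chk 17 _ _ (good_append sc_good zs_good) (good_append zs_good sc_good) chk_zc

theorem comm_d : md * mz = mz * md := by
  rw [md_def, mz_def, ← netPerm_append, ← netPerm_append]
  exact netPerm_eq_of_chk 17 _ _ (good_append sd_good zs_good) (good_append zs_good sd_good) chk_zd

end Cfsg.Agent.Lib.H11.McLM
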