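import Cfsg.Agent.Lib.H11.McLMChk0
import Cfsg.Agent.Lib.H11.McLMChk1
import Cfsg.Agent.Lib.H11.McLMChk2
import Cfsg.Agent.Lib.H11.McLMChk3
import Cfsg.Agent.Lib.H11.McLMChk4
import Cfsg.Agent.Lib.H11.McLMChk5
import Cfsg.Agent.Lib.H11.McLMChk6
import Cfsg.Agent.Lib.H11.McLMChk7
import Cfsg.Agent.Lib.H11.McLMChkZ

/-!
# S2047 piece MODEL (helper11): `exists_model3`

The monomial model of `3.McL` on `66825 = 3 * 22275` points (data of helper6, `tools/mcl_h6/model3.json`) as a
subgroup of `Equiv.Perm ℕ`: each generator is a product of 33 delta-swap involutions on `2 ^ 17` slots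
(`Lib/H11/BitNet`), and the 112 words of `modelL` are checked on 17 bit planes by native big-number
operations in the kernel.
-/

set_option autoImplicit false
set_option maxRecDepth 100000

namespace Cfsg.Agent.Lib.H11.McLM

open Cfsg.Agent.Lib.H11.BitNet

open Cfsg.Agent.Lib.H6.McLM

theorem modelL_eq : modelL = part0 ++ part1 ++ part2 ++ part3 ++ part4 ++ part5 ++ part6 ++ part7 := by decide

theorem modelL_ok : ∀ p ∈ modelL, chkW p = true := by
  intro p hp
  rw [modelL_eq] at hp
  simp only [List.mem_append] at hp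
  rcases hp with ((((((h | h) | h) | h) | h) | h) | h) | h
  exacts [part0_ok p h, part1_ok p h, part2_ok p h, part3_ok p h, part4_ok p h, part5_ok p h, part6_ok p h, part7_ok p h]

/-- MODEL: a group with four marked elements and a central element `z` of order 3 in which every word of
`modelL` has the listed value -/
theorem exists_model3 : ∃ (M : Type) (_ : Group M) (ga gb gc gd z : M), z ≠ 1 ∧ z ^ 3 = 1 ∧
    ga * z = z * ga ∧ gb * z = z * gb ∧ gc * z = z * gc ∧ gd * z = z * gd ∧
    ∀ p ∈ modelL, wv ga gb gc gd p.1 = z ^ p.2 :=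
  ⟨Equiv.Perm ℕ, inferInstance, ma, mb, mc, md, mz, mz_ne_one, mz_pow_three, comm_a, comm_b, comm_c,
    comm_d, fun p hp => chkW_sound p (modelL_ok p hp)⟩

end Cfsg.Agent.Lib.H11.McLM
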