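import Cfsg.Agent.Lib.H26.MinIdxDefs

/-!
# S2140-C (helper11): Case II is impossible.
-/

set_option autoImplicit false

namespace Cfsg.Agent.Lib.H11.MinIdx

open Module MulAction Cfsg.Agent.Lib.H26.MinIdx
open scoped LinearAlgebra.Projectivization

variable {F V : Type*} [Field F] [AddCommGroup V] [Module F V]

/-- `w` is valid for `a` -/
def Valid (H : Subgroup (SpecialLinearGroup F V)) (a w : V) : Prop :=
  (∀ c : F, c • a ≠ w) ∧ ∀ (f : Dual F V) (h : f a = 0), tv f a h ∈ H ↔ f w = 0

theorem exists_sep {p : Submodule F V} {x : V} (hx : x ∉ p) :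
    ∃ f : Dual F V, f x ≠ 0 ∧ ∀ y ∈ p, f y = 0 := by
  obtain ⟨f, hf, hp⟩ := Submodule.exists_dual_map_eq_bot_of_notMem hx inferInstance
  refine ⟨f, hf, fun y hy => ?_⟩
  have : f y ∈ p.map f := Submodule.mem_map_of_mem hy
  rw [hp] at this
  simpa using this

theorem valid_comb {H : Subgroup (SpecialLinearGroup F V)} {a w : V} (hv : Valid H a w)
    (α β : F) (hβ : β ≠ 0) : Valid H a (α • a + β • w) := by
  refine ⟨fun c hc => ?_, fun f h => ?_⟩
  · apply hv.1 (β⁻¹ * (c - α))
    have : β • w = (c - α) • a := by rw [sub_smul, hc]; abel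
    rw [mul_smul, ← this, smul_smul, inv_mul_cancel₀ hβ, one_smul]
  · rw [hv.2 f h, map_add, map_smul, map_smul, h, smul_zero, zero_add, smul_eq_mul, mul_eq_zero]
    constructor
    · intro h; right; exact h
    · rintro (h | h)
      · exact absurd h hβ
      · exact h

theorem basic {H : Subgroup (SpecialLinearGroup F V)} {a wa b wb : V} (ha : Valid H a wa)
    (hb : Valid H b wb) (hab : a ∉ Submodule.span F {b, wb}) :
    wb ∈ Submodule.span F {a, wa, b} := by
  by_contra hcon
  obtain ⟨φ, hφ, hφ0⟩ := exists_sep hcon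
  obtain ⟨ψ, hψ, hψ0⟩ := exists_sep hab
  have hψb : ψ b = 0 := hψ0 b (Submodule.subset_span (by simp))
  have hψwb : ψ wb = 0 := hψ0 wb (Submodule.subset_span (by simp))
  have hφa : φ a = 0 := hφ0 a (Submodule.subset_span (by simp))
  have hφwa : φ wa = 0 := hφ0 wa (Submodule.subset_span (by simp))
  have hφb : φ b = 0 := hφ0 b (Submodule.subset_span (by simp))
  have h1 : tv ψ b hψb ∈ H := (hb.2 ψ hψb).mpr hψwb
  have h2 : tv φ a hφa ∈ H := (ha.2 φ hφa).mpr hφwa
  have h3 := tv_commutator ψ φ b a hψb hφa hφb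
  have h4 : tv (ψ a • φ) b (by simp [hφb]) ∈ H := by
    rw [← h3]
    exact H.mul_mem (H.mul_mem (H.mul_mem h1 h2) (H.inv_mem h1)) (H.inv_mem h2)
  have h5 := (hb.2 _ _).mp h4
  rw [LinearMap.smul_apply, smul_eq_mul, mul_eq_zero] at h5
  rcases h5 with h5 | h5
  · exact hψ h5
  · exact hφ h5

theorem step1 {H : Subgroup (SpecialLinearGroup F V)} {a x w' : V} (ha0 : a ≠ 0)
    (hax : Valid H a x) (hxw : Valid H x w') : w' ∈ Submodule.span F {a, x} := by
  by_cases hmem : a ∈ Submodule.span F {x, w'}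
  · rw [Submodule.mem_span_pair] at hmem
    obtain ⟨α, β, h⟩ := hmem
    have hβ : β ≠ 0 := by
      rintro rfl
      rw [zero_smul, add_zero] at h
      have hα : α ≠ 0 := by
        rintro rfl
        rw [zero_smul] at h
        exact ha0 h.symm
      apply hax.1 α⁻¹
      rw [← h, smul_smul, inv_mul_cancel₀ hα, one_smul]
    rw [Submodule.mem_span_pair]
    refine ⟨β⁻¹, -(β⁻¹ * α), ?_⟩
    rw [← h, smul_add, smul_smul, smul_smul, inv_mul_cancel₀ hβ, one_smul, neg_smul]
    abel
  · have := basic hax hxw hmem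
    simpa using this

/-- **S2140-C**.  Case II is impossible. -/
theorem not_caseII [Module.Finite F V] (hn : 3 ≤ finrank F V)
    (H : Subgroup (SpecialLinearGroup F V))
    (hII : ∀ a : V, a ≠ 0 → ∃ w : V, (∀ c : F, c • a ≠ w) ∧
      ∀ (f : Dual F V) (h : f a = 0), tv f a h ∈ H ↔ f w = 0) : False := by
  classical
  have hII' : ∀ a : V, a ≠ 0 → ∃ w, Valid H a w := hII
  obtain ⟨a, ha0⟩ : ∃ a : V, a ≠ 0 := by
    have : 0 < finrank F V := by omega
    exact (Module.finrank_pos_iff_exists_ne_zero).mp this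
  obtain ⟨wa, hwa⟩ := hII' a ha0
  obtain ⟨c, hc⟩ : ∃ c : V, c ∉ Submodule.span F ({a, wa} : Set V) := by
    by_contra hcon
    push Not at hcon
    have htop : Submodule.span F ({a, wa} : Set V) = ⊤ := by
      rw [eq_top_iff]; intro x _; exact hcon x
    have h1 := finrank_span_finset_le_card (R := F) ({a, wa} : Finset V)
    rw [Set.finrank, Finset.coe_pair, htop, finrank_top] at h1
    have h2 : ({a, wa} : Finset V).card ≤ 2 := Finset.card_le_two
    omega
  have hc0 : c ≠ 0 := by
    rintro rfl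
    exact hc (Submodule.zero_mem _)
  obtain ⟨wc, hwc⟩ := hII' c hc0
  by_cases hmem : a ∈ Submodule.span F ({c, wc} : Set V)
  · -- Case A
    obtain ⟨α, β, h⟩ := Submodule.mem_span_pair.mp hmem
    have hβ : β ≠ 0 := by
      rintro rfl
      rw [zero_smul, add_zero] at h
      have hα : α ≠ 0 := by
        rintro rfl
        rw [zero_smul] at h
        exact ha0 h.symm
      apply hc
      rw [Submodule.mem_span_pair]
      refine ⟨α⁻¹, 0, ?_⟩
      rw [← h, smul_smul, inv_mul_cancel₀ hα, one_smul, zero_smul, add_zero]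
    have hca : Valid H c a := by
      have := valid_comb hwc α β hβ
      rwa [h] at this
    obtain ⟨γ, δ, h2⟩ := Submodule.mem_span_pair.mp (step1 hc0 hca hwa)
    have hγ : γ ≠ 0 := by
      rintro rfl
      rw [zero_smul, zero_add] at h2
      exact hwa.1 δ h2
    apply hc
    rw [Submodule.mem_span_pair]
    refine ⟨-(γ⁻¹ * δ), γ⁻¹, ?_⟩
    rw [← h2, smul_add, smul_smul, smul_smul, inv_mul_cancel₀ hγ, one_smul, neg_smul]
    abel
  · -- Case B
    obtain ⟨α, β, γ, h3⟩ := Submodule.mem_span_triple.mp (basic hwa hwc hmem)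
    set x : V := α • a + β • wa with hx
    have hx2 : x = (-γ) • c + (1 : F) • wc := by
      rw [← h3, hx, neg_smul, one_smul]; abel
    have hcx : Valid H c x := by
      rw [hx2]; exact valid_comb hwc (-γ) 1 one_ne_zero
    have hx0 : x ≠ 0 := by
      intro h0
      apply hcx.1 0
      rw [zero_smul, h0]
    have hxS : x ∈ Submodule.span F ({c, wc} : Set V) := by
      rw [hx2]
      exact Submodule.add_mem _ (Submodule.smul_mem _ _ (Submodule.subset_span (by simp)))
        (Submodule.smul_mem _ _ (Submodule.subset_span (by simp)))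
    have hβ : β ≠ 0 := by
      intro hβ0
      rw [hβ0, zero_smul, add_zero] at hx
      have hα : α ≠ 0 := by
        intro hα0
        rw [hα0, zero_smul] at hx
        exact hx0 hx
      apply hmem
      have : a = α⁻¹ • x := by rw [hx, smul_smul, inv_mul_cancel₀ hα, one_smul]
      rw [this]
      exact Submodule.smul_mem _ _ hxS
    have hax : Valid H a x := valid_comb hwa α β hβ
    obtain ⟨wx, hwx⟩ := hII' x hx0
    obtain ⟨p, q, h4⟩ := Submodule.mem_span_pair.mp (step1 ha0 hax hwx)
    obtain ⟨p', q', h5⟩ := Submodule.mem_span_pair.mp (step1 hc0 hcx hwx)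
    have hp : p ≠ 0 := by
      rintro rfl
      rw [zero_smul, zero_add] at h4
      exact hwx.1 q h4
    have hwxS : wx ∈ Submodule.span F ({c, wc} : Set V) := by
      rw [← h5]
      exact Submodule.add_mem _ (Submodule.smul_mem _ _ (Submodule.subset_span (by simp)))
        (Submodule.smul_mem _ _ hxS)
    apply hmem
    have : a = p⁻¹ • (wx - q • x) := by
      rw [← h4, add_sub_cancel_right, smul_smul, inv_mul_cancel₀ hp, one_smul]
    rw [this]
    exact Submodule.smul_mem _ _ (Submodule.sub_mem _ hwxS (Submodule.smul_mem _ _ hxS))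

end Cfsg.Agent.Lib.H11.MinIdx
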