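import Cfsg.Agent.Lib.H26.MinIdxDefs

/-!
# S2140-D3 (helper11): Case I is impossible for `n = 3`.
-/

set_option autoImplicit false

namespace Cfsg.Agent.Lib.H11.MinIdx

open Module MulAction Cfsg.Agent.Lib.H26.MinIdx
open scoped LinearAlgebra.Projectivization

variable {F V : Type*} [Field F] [AddCommGroup V] [Module F V]

theorem tv_congr {f f' : Dual F V} {v v' : V} (hf : f = f') (hv : v = v') (h : f v = 0)
    (h' : f' v' = 0) : tv f v h = tv f' v' h' := by
  subst hf; subst hv; rfl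

/-- a nontrivial transvection fixes no coset of a subgroup without nontrivial transvections -/
theorem d3_no_fix (H : Subgroup (SpecialLinearGroup F V))
    (hno : ∀ (f : Dual F V) (v : V) (h : f v = 0), f ≠ 0 → v ≠ 0 → tv f v h ∉ H)
    (ω : SpecialLinearGroup F V ⧸ H) (f : Dual F V) (v : V) (h : f v = 0) (hf : f ≠ 0)
    (hv : v ≠ 0) : tv f v h • ω ≠ ω := by
  induction ω using QuotientGroup.induction_on with
  | H g =>
    intro heq
    rw [MulAction.Quotient.smul_mk, QuotientGroup.eq] at heq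
    have h1 : g⁻¹ * tv f v h * g ∈ H := by
      have := H.inv_mem heq
      rw [smul_eq_mul] at this
      convert this using 1
      group
    have h2 : g⁻¹ * tv f v h * g = tv (dualConj g⁻¹ f) (g⁻¹ v) (by simpa using h) := by
      rw [← conj_tv g⁻¹ f v h, inv_inv]
    rw [h2] at h1
    refine hno _ _ _ ?_ ?_ h1
    · intro h0
      apply hf
      ext x
      have := dualConj_apply_apply g⁻¹ f x
      rw [h0] at this
      simpa using this.symm
    · intro h0
      apply hv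
      have := sl_apply_inv_apply g v
      rw [h0, sl_map_zero] at this
      exact this.symm

/-- the functional `β b* + γ c*` -/
noncomputable def d3f (bs : Basis (Fin 3) F V) (β γ : F) : Dual F V :=
  β • bs.coord 1 + γ • bs.coord 2

theorem d3f_a (bs : Basis (Fin 3) F V) (β γ : F) : d3f bs β γ (bs 0) = 0 := by
  simp [d3f, Basis.coord_apply, Basis.repr_self]

theorem d3f_b (bs : Basis (Fin 3) F V) (β γ : F) : d3f bs β γ (bs 1) = β := by
  simp [d3f, Basis.coord_apply, Basis.repr_self]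

theorem d3f_c (bs : Basis (Fin 3) F V) (β γ : F) : d3f bs β γ (bs 2) = γ := by
  simp [d3f, Basis.coord_apply, Basis.repr_self]

theorem d3f_sub (bs : Basis (Fin 3) F V) (β γ β' γ' : F) :
    d3f bs β γ - d3f bs β' γ' = d3f bs (β - β') (γ - γ') := by
  simp only [d3f]; module

theorem d3f_eq_zero (bs : Basis (Fin 3) F V) {β γ : F} (h : d3f bs β γ = 0) : β = 0 ∧ γ = 0 := by
  constructor
  · rw [← d3f_b bs β γ, h]; rfl
  · rw [← d3f_c bs β γ, h]; rfl

/-- `Q_a` acts semiregularly on the cosets -/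
theorem d3_inj (bs : Basis (Fin 3) F V) (H : Subgroup (SpecialLinearGroup F V))
    (hno : ∀ (f : Dual F V) (v : V) (h : f v = 0), f ≠ 0 → v ≠ 0 → tv f v h ∉ H)
    (ω₀ : SpecialLinearGroup F V ⧸ H) {β γ β' γ' : F}
    (heq : tv (d3f bs β γ) (bs 0) (d3f_a bs β γ) • ω₀ =
      tv (d3f bs β' γ') (bs 0) (d3f_a bs β' γ') • ω₀) : β = β' ∧ γ = γ' := by
  have h1 : (tv (d3f bs β' γ') (bs 0) (d3f_a bs β' γ'))⁻¹ •
      (tv (d3f bs β γ) (bs 0) (d3f_a bs β γ) • ω₀) = ω₀ := by
    rw [heq, inv_smul_smul]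
  rw [← mul_smul, tv_inv, tv_mul_tv_left] at h1
  have h2 : -d3f bs β' γ' + d3f bs β γ = d3f bs (β - β') (γ - γ') := by
    rw [← d3f_sub]; abel
  by_cases h0 : d3f bs (β - β') (γ - γ') = 0
  · obtain ⟨h3, h4⟩ := d3f_eq_zero bs h0
    rw [sub_eq_zero] at h3 h4
    exact ⟨h3, h4⟩
  · exfalso
    refine d3_no_fix H hno ω₀ _ (bs 0) _ ?_ (bs.ne_zero 0) h1
    rw [h2]; exact h0

/-- `Q_a` is regular on the cosets -/
theorem d3_regular [Finite F] (bs : Basis (Fin 3) F V) (H : Subgroup (SpecialLinearGroup F V))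
    (hidx : H.index = Nat.card F ^ 2)
    (hno : ∀ (f : Dual F V) (v : V) (h : f v = 0), f ≠ 0 → v ≠ 0 → tv f v h ∉ H)
    (ω₀ ω : SpecialLinearGroup F V ⧸ H) :
    ∃ β γ : F, ω = tv (d3f bs β γ) (bs 0) (d3f_a bs β γ) • ω₀ := by
  have hcard : Nat.card (SpecialLinearGroup F V ⧸ H) = Nat.card F ^ 2 := hidx
  have hpos : Nat.card F ^ 2 ≠ 0 := pow_ne_zero _ Nat.card_pos.ne'
  have hfin : Finite (SpecialLinearGroup F V ⧸ H) :=
    Nat.finite_of_card_ne_zero (by rw [hcard]; exact hpos)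
  set φ : F × F → SpecialLinearGroup F V ⧸ H :=
    fun p => tv (d3f bs p.1 p.2) (bs 0) (d3f_a bs p.1 p.2) • ω₀ with hφ
  have hinj : Function.Injective φ := by
    rintro ⟨β, γ⟩ ⟨β', γ'⟩ heq
    simp only [hφ] at heq
    obtain ⟨h3, h4⟩ := d3_inj bs H hno ω₀ heq
    rw [h3, h4]
  have hbij : Function.Bijective φ := by
    rw [Nat.bijective_iff_injective_and_card]
    refine ⟨hinj, ?_⟩
    rw [hcard, Nat.card_prod, sq]
  obtain ⟨⟨β, γ⟩, hp⟩ := hbij.2 ω
  exact ⟨β, γ, hp.symm⟩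

theorem d3_coord (bs : Basis (Fin 3) F V) (i j : Fin 3) :
    bs.coord i (bs j) = if j = i then 1 else 0 := by
  rw [Basis.coord_apply, Basis.repr_self, Finsupp.single_apply]

theorem d3f_apply (bs : Basis (Fin 3) F V) (β γ : F) (v : V) :
    d3f bs β γ v = β * bs.coord 1 v + γ * bs.coord 2 v := by
  simp [d3f]

/-- characteristic `2` -/
theorem d3_char_two [Finite F] (bs : Basis (Fin 3) F V) (H : Subgroup (SpecialLinearGroup F V))
    (hidx : H.index = Nat.card F ^ 2)
    (hno : ∀ (f : Dual F V) (v : V) (h : f v = 0), f ≠ 0 → v ≠ 0 → tv f v h ∉ H)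
    (h2 : (2 : F) = 0) : False := by
  set ω₀ : SpecialLinearGroup F V ⧸ H := ((1 : SpecialLinearGroup F V) : SpecialLinearGroup F V ⧸ H)
    with hω₀
  have hcb : bs.coord 2 (bs 1) = 0 := by rw [d3_coord]; simp
  have hca : bs.coord 2 (bs 0) = 0 := by rw [d3_coord]; simp
  have hcc : bs.coord 2 (bs 2) = 1 := by rw [d3_coord]; simp
  have hc0 : bs.coord 2 ≠ 0 := by
    intro h0
    rw [h0] at hcc
    exact zero_ne_one hcc
  set t := tv (bs.coord 2) (bs 1) hcb with ht
  obtain ⟨β, γ, hβγ⟩ := d3_regular bs H hidx hno ω₀ (t • ω₀)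
  set x := tv (d3f bs β γ) (bs 0) (d3f_a bs β γ) with hx
  have hy : (x⁻¹ * t) • ω₀ = ω₀ := by rw [mul_smul, hβγ, inv_smul_smul]
  have hyv : ∀ v, (x⁻¹ * t) v =
      v + bs.coord 2 v • bs 1 - (d3f bs β γ v + bs.coord 2 v * β) • bs 0 := by
    intro v
    rw [hx, ht, tv_inv, sl_mul_apply, tv_apply, tv_apply]
    simp only [LinearMap.neg_apply, map_add, map_smul, d3f_b, smul_eq_mul]
    module
  by_cases hβ : β = 0
  · have hv0 : bs.coord 2 (bs 1 - γ • bs 0) = 0 := by
      rw [map_sub, map_smul, hcb, hca, smul_zero, sub_zero]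
    have hy2 : x⁻¹ * t = tv (bs.coord 2) (bs 1 - γ • bs 0) hv0 := by
      ext v
      rw [hyv v, tv_apply, d3f_apply, hβ]
      module
    rw [hy2] at hy
    refine d3_no_fix H hno ω₀ _ _ _ hc0 ?_ hy
    intro h0
    have := congrArg (bs.coord 1) h0
    rw [map_sub, map_smul, d3_coord, d3_coord, map_zero] at this
    simp at this
  · have hv0 : (-β • bs.coord 2) (bs 0) = 0 := by
      rw [LinearMap.smul_apply, hca, smul_zero]
    have key : ∀ v, (x⁻¹ * t) ((x⁻¹ * t) v) = v + (-β * bs.coord 2 v) • bs 0 +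
        (2 : F) • (bs.coord 2 v • bs 1 - (d3f bs β γ v) • bs 0 - (bs.coord 2 v * β) • bs 0) := by
      intro v
      rw [hyv ((x⁻¹ * t) v), hyv v]
      simp only [map_add, map_sub, map_smul, hca, hcb, d3f_a, d3f_b, smul_eq_mul, mul_zero,
        add_zero, sub_zero]
      module
    have hy2 : (x⁻¹ * t) * (x⁻¹ * t) = tv (-β • bs.coord 2) (bs 0) hv0 := by
      ext v
      rw [sl_mul_apply, key v, h2, zero_smul, add_zero, tv_apply, LinearMap.smul_apply, smul_eq_mul]
    have hyy : ((x⁻¹ * t) * (x⁻¹ * t)) • ω₀ = ω₀ := by rw [mul_smul, hy, hy]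
    rw [hy2] at hyy
    refine d3_no_fix H hno ω₀ _ _ _ ?_ (bs.ne_zero 0) hyy
    intro h0
    have := congrArg (fun f : Dual F V => f (bs 2)) h0
    simp only [LinearMap.smul_apply, hcc, smul_eq_mul, mul_one, LinearMap.zero_apply] at this
    exact hβ (neg_eq_zero.mp this)

/-- the involution `diag(1, -1, -1)` as a product of transvections -/
theorem d3_exists_z (bs : Basis (Fin 3) F V) :
    ∃ z : SpecialLinearGroup F V, z (bs 0) = bs 0 ∧ z (bs 1) = -bs 1 ∧ z (bs 2) = -bs 2 := by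
  have hcb : bs.coord 2 (bs 1) = 0 := by rw [d3_coord]; simp
  have hca : bs.coord 2 (bs 0) = 0 := by rw [d3_coord]; simp
  have hcc : bs.coord 2 (bs 2) = 1 := by rw [d3_coord]; simp
  have hba : bs.coord 1 (bs 0) = 0 := by rw [d3_coord]; simp
  have hbb : bs.coord 1 (bs 1) = 1 := by rw [d3_coord]; simp
  have hbc : bs.coord 1 (bs 2) = 0 := by rw [d3_coord]; simp
  have hbc' : (-bs.coord 1) (bs 2) = 0 := by rw [LinearMap.neg_apply, hbc, neg_zero]
  set t₁ := tv (bs.coord 2) (bs 1) hcb with ht₁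
  set t₂ := tv (-bs.coord 1) (bs 2) hbc' with ht₂
  set w := t₁ * t₂ * t₁ with hw
  have hwa : w (bs 0) = bs 0 := by
    simp [hw, ht₁, ht₂, hca, hba]
  have hwb : w (bs 1) = -bs 2 := by
    simp [hw, ht₁, ht₂, hcb, hbb]
  have hwc : w (bs 2) = bs 1 := by
    simp [hw, ht₁, ht₂, hcb, hbb, hcc, hbc]
  refine ⟨w * w, ?_, ?_, ?_⟩
  · rw [sl_mul_apply, hwa, hwa]
  · rw [sl_mul_apply, hwb]
    have : w (-bs 2) = -w (bs 2) := map_neg w.1 _
    rw [this, hwc]
  · rw [sl_mul_apply, hwc, hwb]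

/-- odd characteristic -/
theorem d3_char_odd [Finite F] (bs : Basis (Fin 3) F V) (H : Subgroup (SpecialLinearGroup F V))
    (hidx : H.index = Nat.card F ^ 2)
    (hno : ∀ (f : Dual F V) (v : V) (h : f v = 0), f ≠ 0 → v ≠ 0 → tv f v h ∉ H)
    (h2 : (2 : F) ≠ 0) : False := by
  classical
  have hcard : Nat.card (SpecialLinearGroup F V ⧸ H) = Nat.card F ^ 2 := hidx
  have hpos : Nat.card F ^ 2 ≠ 0 := pow_ne_zero _ Nat.card_pos.ne'
  have hfin : Finite (SpecialLinearGroup F V ⧸ H) :=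
    Nat.finite_of_card_ne_zero (by rw [hcard]; exact hpos)
  have hcb : bs.coord 2 (bs 1) = 0 := by rw [d3_coord]; simp
  have hca : bs.coord 2 (bs 0) = 0 := by rw [d3_coord]; simp
  have hcc : bs.coord 2 (bs 2) = 1 := by rw [d3_coord]; simp
  have hba : bs.coord 1 (bs 0) = 0 := by rw [d3_coord]; simp
  have hbb : bs.coord 1 (bs 1) = 1 := by rw [d3_coord]; simp
  have hbc : bs.coord 1 (bs 2) = 0 := by rw [d3_coord]; simp
  have hc0 : bs.coord 2 ≠ 0 := by
    intro h0
    rw [h0] at hcc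
    exact zero_ne_one hcc
  obtain ⟨t₁, ht₁⟩ : ∃ t : SpecialLinearGroup F V, t = tv (bs.coord 2) (bs 1) hcb := ⟨_, rfl⟩
  obtain ⟨z, hza, hzb, hzc⟩ := d3_exists_z bs
  have hzz : z * z = 1 := by
    have h1 : ((z * z).1 : V →ₗ[F] V) = LinearMap.id := by
      apply bs.ext
      intro i
      show z (z (bs i)) = bs i
      have hneg : ∀ v, z (-v) = -z v := fun v => map_neg z.1 v
      fin_cases i
      · show z (z (bs 0)) = bs 0
        rw [hza, hza]
      · show z (z (bs 1)) = bs 1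
        rw [hzb, hneg, hzb, neg_neg]
      · show z (z (bs 2)) = bs 2
        rw [hzc, hneg, hzc, neg_neg]
    ext v
    exact LinearMap.congr_fun h1 v
  have hzinv : z⁻¹ = z := inv_eq_of_mul_eq_one_right hzz
  -- conjugation of functionals
  have hdual : ∀ (f : Dual F V), f (bs 0) = 0 → dualConj z f = -f := by
    intro f hf
    apply bs.ext
    intro i
    rw [dualConj_apply, hzinv, LinearMap.neg_apply]
    fin_cases i
    · show f (z (bs 0)) = -f (bs 0)
      rw [hza, hf, neg_zero]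
    · show f (z (bs 1)) = -f (bs 1)
      rw [hzb, map_neg]
    · show f (z (bs 2)) = -f (bs 2)
      rw [hzc, map_neg]
  -- odd cardinality
  have hchar : ringChar F ≠ 2 := by
    intro h
    have : CharP F 2 := h ▸ ringChar.charP F
    exact h2 (by exact_mod_cast CharP.cast_eq_zero F 2)
  have hodd : ¬ 2 ∣ Nat.card (SpecialLinearGroup F V ⧸ H) := by
    have := Fintype.ofFinite F
    have h1 := FiniteField.odd_card_of_char_ne_two hchar
    rw [hcard, Nat.card_eq_fintype_card]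
    intro hdvd
    have := (Nat.Prime.dvd_of_dvd_pow Nat.prime_two hdvd)
    omega
  -- a fixed point
  obtain ⟨ω₀, hω₀⟩ : ∃ ω₀ : SpecialLinearGroup F V ⧸ H, z • ω₀ = ω₀ := by
    have := Fintype.ofFinite (SpecialLinearGroup F V ⧸ H)
    have : Fact (Nat.Prime 2) := ⟨Nat.prime_two⟩
    have hσ : (MulAction.toPerm z : Equiv.Perm (SpecialLinearGroup F V ⧸ H)) ^ 2 ^ 1 = 1 := by
      ext ω
      simp only [pow_one, sq, Equiv.Perm.coe_mul, Function.comp_apply, MulAction.toPerm_apply,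
        Equiv.Perm.coe_one, id_eq]
      rw [← mul_smul, hzz, one_smul]
    obtain ⟨ω₀, h⟩ := Equiv.Perm.exists_fixed_point_of_prime (p := 2) (n := 1)
      (by rw [← Nat.card_eq_fintype_card]; exact hodd) hσ
    exact ⟨ω₀, h⟩
  -- uniqueness
  have huniq : ∀ ω : SpecialLinearGroup F V ⧸ H, z • ω = ω → ω = ω₀ := by
    intro ω hω
    obtain ⟨β, γ, h⟩ := d3_regular bs H hidx hno ω₀ ω
    have hconj : z * tv (d3f bs β γ) (bs 0) (d3f_a bs β γ) * z⁻¹ =
        tv (d3f bs (-β) (-γ)) (bs 0) (d3f_a bs (-β) (-γ)) := by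
      rw [conj_tv]
      apply tv_congr
      · rw [hdual _ (d3f_a bs β γ)]
        simp only [d3f]; module
      · exact hza
    have h3 : z • ω = tv (d3f bs (-β) (-γ)) (bs 0) (d3f_a bs (-β) (-γ)) • ω₀ := by
      rw [← hconj, mul_smul, mul_smul, hzinv, hω₀, h]
    rw [hω, h] at h3
    obtain ⟨h4, h5⟩ := d3_inj bs H hno ω₀ h3
    have hβ : β = 0 := by
      have : (2 : F) * β = 0 := by linear_combination h4
      rcases mul_eq_zero.mp this with h | h
      · exact absurd h h2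
      · exact h
    have hγ : γ = 0 := by
      have : (2 : F) * γ = 0 := by linear_combination h5
      rcases mul_eq_zero.mp this with h | h
      · exact absurd h h2
      · exact h
    rw [h]
    have : tv (d3f bs β γ) (bs 0) (d3f_a bs β γ) = 1 := by
      rw [← tv_zero_left (bs 0)]
      apply tv_congr _ rfl
      rw [hβ, hγ]; simp [d3f]
    rw [this, one_smul]
  -- `t₁` commutes with `z`
  have hcomm : z * t₁ * z⁻¹ = t₁ := by
    rw [ht₁, conj_tv]
    ext v
    rw [tv_apply, tv_apply, hdual _ hca, hzb, LinearMap.neg_apply, smul_neg, neg_smul, neg_neg]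
  have h5 : z • (t₁ • ω₀) = t₁ • ω₀ := by
    have : z * t₁ = t₁ * z := by
      calc z * t₁ = z * t₁ * z⁻¹ * z := by group
        _ = t₁ * z := by rw [hcomm]
    rw [← mul_smul, this, mul_smul, hω₀]
  have h6 := huniq _ h5
  rw [ht₁] at h6
  exact d3_no_fix H hno ω₀ _ _ _ hc0 (bs.ne_zero 1) h6

/-- **S2140-D3**.  Case I is impossible for n = 3. -/
theorem not_caseI_three [Finite F] [Module.Finite F V] (hn : finrank F V = 3)
    (H : Subgroup (SpecialLinearGroup F V)) (hidx : H.index = Nat.card F ^ 2)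
    (hno : ∀ (f : Dual F V) (v : V) (h : f v = 0), f ≠ 0 → v ≠ 0 → tv f v h ∉ H) : False := by
  have bs : Basis (Fin 3) F V := Module.finBasisOfFinrankEq F V hn
  by_cases h2 : (2 : F) = 0
  · exact d3_char_two bs H hidx hno h2
  · exact d3_char_odd bs H hidx hno h2

end Cfsg.Agent.Lib.H11.MinIdx
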