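import Mathlib
import Cfsg.Prelude.Def_Transfer
import Cfsg.Prelude.Def_CaseTheorems
import Cfsg.Agent.Lib.H26.NGPDefs
import Cfsg.Agent.S3763

/-!
# S1904 piece C1BIG (helper11): an extraspecial 2-group of order `2^(2k+1)`, `k ≥ 3`, violates (N).
-/

set_option autoImplicit false

open Cfsg.Agent.Lib.H26.NGP

namespace Cfsg.Agent.Lib.H11.NGP

universe u

variable {X : Type u} [Group X] [Finite X]

omit [Finite X] in
/-- a subgroup containing the centre which equals the commutator subgroup is normal -/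
theorem c1big_normal_of_center_le (hcomm : commutator X = Subgroup.center X) (B : Subgroup X)
    (hZB : Subgroup.center X ≤ B) : B.Normal := by
  constructor
  intro b hb g
  have h1 : g * b * g⁻¹ = (g * b * g⁻¹ * b⁻¹) * b := by group
  rw [h1]
  refine B.mul_mem (hZB ?_) hb
  rw [← hcomm, commutator_def]
  exact Subgroup.commutator_mem_commutator (H₁ := ⊤) (H₂ := ⊤) (Subgroup.mem_top g)
    (Subgroup.mem_top b)

omit [Finite X] in
/-- `A ⊔ Z(X)` is abelian when `A` is. -/
theorem c1big_ab_sup (A : Subgroup X) (hA : ∀ a ∈ A, ∀ b ∈ A, a * b = b * a) :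
    Ab (A ⊔ Subgroup.center X) := by
  intro x hx y hy
  rw [Subgroup.mem_sup_of_normal_right] at hx hy
  obtain ⟨a, ha, n, hn, rfl⟩ := hx
  obtain ⟨b, hb, m, hm, rfl⟩ := hy
  have hn' := Subgroup.mem_center_iff.mp hn
  have hm' := Subgroup.mem_center_iff.mp hm
  calc a * n * (b * m) = a * (n * b) * m := by group
    _ = a * (b * n) * m := by rw [hn' b]
    _ = (a * b) * (n * m) := by group
    _ = (b * a) * (m * n) := by rw [hA a ha b hb, hm' n]
    _ = b * (a * m) * n := by group
    _ = b * (m * a) * n := by rw [hm' a]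
    _ = b * m * (a * n) := by group

theorem c1_extra_big (hne : NE X) (hes : Cfsg.IsExtraspecial 2 X) (k : ℕ) (hk : 3 ≤ k)
    (hcard : Nat.card X = 2 ^ (2 * k + 1)) : False := by
  classical
  have hr := (Cfsg.Agent.S3763.result.{u, 0} hes k hcard).1
  have hnot : ¬ Cfsg.PRankLE 2 (k - 1) X := by
    rcases hr with ⟨_, h⟩ | ⟨_, h⟩
    · exact h
    · intro h'
      apply h
      intro A hA1 hA2
      refine (h' A hA1 hA2).trans ?_
      exact Nat.pow_le_pow_right (by norm_num) (by omega)
  unfold Cfsg.PRankLE at hnot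
  simp only [not_forall] at hnot
  obtain ⟨A, hAc, hAe, hAcard⟩ := hnot
  have hAcard' : 4 < Nat.card A := by
    have h4 : (4 : ℕ) ≤ 2 ^ (k - 1) := by
      calc (4 : ℕ) = 2 ^ 2 := by norm_num
        _ ≤ 2 ^ (k - 1) := Nat.pow_le_pow_right (by norm_num) (by omega)
    omega
  have hAcomm : ∀ a ∈ A, ∀ b ∈ A, a * b = b * a := by
    intro a ha b hb
    have := hAc.is_comm.comm (⟨a, ha⟩ : A) ⟨b, hb⟩
    exact congrArg Subtype.val this
  have hcomm : commutator X = Subgroup.center X := hes.1.2.2
  have hBn : (A ⊔ Subgroup.center X).Normal :=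
    c1big_normal_of_center_le hcomm _ le_sup_right
  have hBab : Ab (A ⊔ Subgroup.center X) := c1big_ab_sup A hAcomm
  have : Fintype A := Fintype.ofFinite A
  have hS := hne (A ⊔ Subgroup.center X) hBn hBab
    ((Finset.univ : Finset A).image (fun a : A => (a : X))) (by
      intro s hs
      rw [Finset.mem_image] at hs
      obtain ⟨a, _, rfl⟩ := hs
      refine ⟨(le_sup_left : A ≤ A ⊔ Subgroup.center X) a.2, ?_⟩
      have := hAe a.1 a.2
      rwa [pow_two] at this)
  rw [Finset.card_image_of_injective _ Subtype.val_injective, Finset.card_univ,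
    ← Nat.card_eq_fintype_card] at hS
  omega

end Cfsg.Agent.Lib.H11.NGP
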