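import Mathlib
import Cfsg.Prelude.Def_Transfer
import Cfsg.Prelude.Def_CaseTheorems
import Cfsg.Agent.Lib.H26.NGPDefs
import Cfsg.Agent.Lib.H11.NGPC1BIG
import Cfsg.Agent.S4416

/-!
# S1904 piece C132 (helper11): an extraspecial group of order 32 satisfying (N) has 11 involutions.
-/

set_option autoImplicit false

open Cfsg.Agent.Lib.H26.NGP

namespace Cfsg.Agent.Lib.H11.NGP

universe u

variable {X : Type u} [Group X] [Finite X]

omit [Finite X] in
/-- two commuting elements generate an abelian subgroup (elementwise) -/
theorem c132_closure_pair_comm (t s : X) (hts : t * s = s * t) :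
    ∀ a ∈ Subgroup.closure ({t, s} : Set X), ∀ b ∈ Subgroup.closure ({t, s} : Set X),
      a * b = b * a := by
  have hcomm : ∀ x ∈ ({t, s} : Set X), ∀ y ∈ ({t, s} : Set X), x * y = y * x := by
    intro x hx y hy
    rcases hx with rfl | rfl <;> rcases hy with rfl | rfl
    · rfl
    · exact hts
    · exact hts.symm
    · rfl
  intro a ha b hb
  have := (Subgroup.isMulCommutative_closure (k := ({t, s} : Set X)) hcomm).is_comm.comm
    ⟨a, ha⟩ ⟨b, hb⟩
  exact congrArg Subtype.val this

theorem c1_order_32 (hne : NE X) (hes : Cfsg.IsExtraspecial 2 X) (hcard : Nat.card X = 32) :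
    Nat.card {x : X // orderOf x = 2} = 11 := by
  classical
  have : Fintype X := Fintype.ofFinite X
  have : Fact (Nat.Prime 2) := ⟨Nat.prime_two⟩
  obtain ⟨⟨m, hm1, hm, hcnt⟩, -⟩ := Cfsg.Agent.S4416.result.{u, 0} X hes
  have hm2 : m = 2 := by
    rw [hcard] at hm
    have h5 : (2 : ℕ) ^ 5 = 2 ^ (2 * m + 1) := by
      rw [← hm]; norm_num
    have := Nat.pow_right_injective (le_refl 2) h5
    omega
  subst hm2
  set T : Finset X := Finset.univ.filter (fun x => x * x = 1) with hT
  have hTcard : Nat.card {x : X // x ^ 2 = 1} = T.card := by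
    rw [Nat.card_eq_fintype_card]
    exact Fintype.card_of_subtype T (by intro x; simp [hT, pow_two])
  have hgoal : Nat.card {x : X // orderOf x = 2} = (T.erase 1).card := by
    rw [Nat.card_eq_fintype_card]
    refine Fintype.card_of_subtype (T.erase 1) ?_
    intro x
    simp only [Finset.mem_filter, Finset.mem_univ, true_and, Finset.mem_erase, hT]
    rw [orderOf_eq_prime_iff, pow_two]
    tauto
  have h1T : (1 : X) ∈ T := by simp [hT]
  rw [hgoal, Finset.card_erase_of_mem h1T]
  rw [hTcard] at hcnt
  rcases hcnt with h20 | h12
  · exfalso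
    have hTc : T.card = 20 := by rw [h20]; norm_num
    have hXc : Fintype.card X = 32 := by rw [← Nat.card_eq_fintype_card]; exact hcard
    -- the centre
    have hZ2 : Nat.card (Subgroup.center X) = 2 := hes.2
    obtain ⟨z, hzZ, hz1⟩ : ∃ z ∈ Subgroup.center X, z ≠ 1 := by
      have hnb : Subgroup.center X ≠ ⊥ := by
        intro h
        rw [h] at hZ2
        simp at hZ2
      obtain ⟨⟨z, hz⟩, h⟩ := (Subgroup.ne_bot_iff_exists_ne_one).mp hnb
      exact ⟨z, hz, fun h' => h (Subtype.ext h')⟩
    have hzz : z * z = 1 := by
      have h1 := pow_card_eq_one' (G := Subgroup.center X) (x := ⟨z, hzZ⟩)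
      rw [hZ2] at h1
      have h2 := congrArg Subtype.val h1
      simpa [pow_two] using h2
    set Zf : Finset X := Finset.univ.filter (fun x => x ∈ Subgroup.center X) with hZf
    have hZfc : Zf.card = 2 := by
      rw [← hZ2, Nat.card_eq_fintype_card]
      exact (Fintype.card_of_subtype Zf (by intro x; simp [hZf])).symm
    obtain ⟨t, htT, htZ⟩ : ∃ t ∈ T, t ∉ Zf :=
      Finset.exists_mem_notMem_of_card_lt_card (by rw [hZfc, hTc]; norm_num)
    have htt : t * t = 1 := by simpa [hT] using htT
    have htZ' : t ∉ Subgroup.center X := by simpa [hZf] using htZ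
    set T' : Finset X := T \ (Zf ∪ Zf.image (fun x => t * x)) with hT'
    have hT'c : 16 ≤ T'.card := by
      have h1 := Finset.le_card_sdiff (Zf ∪ Zf.image (fun x => t * x)) T
      have h2 := Finset.card_union_le Zf (Zf.image (fun x => t * x))
      have h3 : (Zf.image (fun x => t * x)).card ≤ Zf.card := Finset.card_image_le
      rw [← hT'] at h1
      omega
    have hmemT' : ∀ s ∈ T', s * s = 1 ∧ s ∉ Subgroup.center X ∧
        ∀ c ∈ Subgroup.center X, s ≠ t * c := by
      intro s hs
      rw [hT', Finset.mem_sdiff, Finset.mem_union, not_or] at hs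
      obtain ⟨hs1, hs2, hs3⟩ := hs
      refine ⟨by simpa [hT] using hs1, by simpa [hZf] using hs2, ?_⟩
      intro c hc hsc
      apply hs3
      rw [Finset.mem_image]
      exact ⟨c, by simpa [hZf] using hc, hsc.symm⟩
    by_cases h : ∃ s ∈ T', t * s = s * t
    · obtain ⟨s, hsT', hts⟩ := h
      obtain ⟨hss, hsZ, hstc⟩ := hmemT' s hsT'
      have hcomm : commutator X = Subgroup.center X := hes.1.2.2
      set B : Subgroup X := Subgroup.closure ({t, s} : Set X) ⊔ Subgroup.center X with hB
      have hBn : B.Normal := c1big_normal_of_center_le hcomm _ le_sup_right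
      have hBab : Ab B := c1big_ab_sup _ (c132_closure_pair_comm t s hts)
      have htB : t ∈ B :=
        (le_sup_left : Subgroup.closure ({t, s} : Set X) ≤ B)
          (Subgroup.subset_closure (by simp))
      have hsB : s ∈ B :=
        (le_sup_left : Subgroup.closure ({t, s} : Set X) ≤ B)
          (Subgroup.subset_closure (by simp))
      have hzB : z ∈ B := (le_sup_right : Subgroup.center X ≤ B) hzZ
      have h1Z : (1 : X) ∈ Subgroup.center X := Subgroup.one_mem _
      have ht1 : t ≠ 1 := fun h => htZ' (h ▸ h1Z)
      have htz : t ≠ z := fun h => htZ' (h ▸ hzZ)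
      have hs1 : s ≠ 1 := fun h => hsZ (h ▸ h1Z)
      have hsz : s ≠ z := fun h => hsZ (h ▸ hzZ)
      have hst : s ≠ t := by
        have := hstc 1 h1Z
        rwa [mul_one] at this
      have hstz : s ≠ t * z := hstc z hzZ
      have htinv : t⁻¹ = t := inv_eq_of_mul_eq_one_right htt
      have hts1 : t * s ≠ 1 := by
        intro h
        apply hst
        have := eq_inv_of_mul_eq_one_right h
        rw [this, htinv]
      have htsz : t * s ≠ z := by
        intro h
        apply hstz
        have : s = t⁻¹ * z := by rw [← h]; group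
        rw [this, htinv]
      have htst : t * s ≠ t := by
        intro h
        apply hs1
        exact mul_left_cancel (h.trans (mul_one t).symm)
      have htss : t * s ≠ s := by
        intro h
        apply ht1
        exact mul_right_cancel (h.trans (one_mul s).symm)
      have htsts : (t * s) * (t * s) = 1 := by
        calc (t * s) * (t * s) = t * (s * t) * s := by group
          _ = t * (t * s) * s := by rw [hts]
          _ = (t * t) * (s * s) := by group
          _ = 1 := by rw [htt, hss, one_mul]
      have hS := hne B hBn hBab ({1, z, t, s, t * s} : Finset X) (by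
        intro x hx
        simp only [Finset.mem_insert, Finset.mem_singleton] at hx
        rcases hx with rfl | rfl | rfl | rfl | rfl
        · exact ⟨B.one_mem, one_mul 1⟩
        · exact ⟨hzB, hzz⟩
        · exact ⟨htB, htt⟩
        · exact ⟨hsB, hss⟩
        · exact ⟨B.mul_mem htB hsB, htsts⟩)
      have hcard5 : ({1, z, t, s, t * s} : Finset X).card = 5 := by
        rw [Finset.card_insert_of_notMem, Finset.card_insert_of_notMem,
          Finset.card_insert_of_notMem, Finset.card_insert_of_notMem, Finset.card_singleton]
        · simp only [Finset.mem_singleton]; exact fun h => htss h.symm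
        · simp only [Finset.mem_insert, Finset.mem_singleton, not_or]
          exact ⟨fun h => hst h.symm, fun h => htst h.symm⟩
        · simp only [Finset.mem_insert, Finset.mem_singleton, not_or]
          exact ⟨fun h => htz h.symm, fun h => hsz h.symm, fun h => htsz h.symm⟩
        · simp only [Finset.mem_insert, Finset.mem_singleton, not_or]
          exact ⟨fun h => hz1 h.symm, fun h => ht1 h.symm, fun h => hs1 h.symm,
            fun h => hts1 h.symm⟩
      omega
    · simp only [not_exists, not_and] at h
      have hinj : Set.InjOn (fun s => t * s) (T' : Set X) :=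
        fun a _ b _ hab => mul_left_cancel hab
      have hmaps : ∀ s ∈ T', (fun s => t * s) s ∈ Finset.univ \ T := by
        intro s hs
        obtain ⟨hss, -, -⟩ := hmemT' s hs
        simp only [Finset.mem_sdiff, Finset.mem_univ, true_and, hT, Finset.mem_filter]
        intro hh
        apply h s hs
        have htinv : t⁻¹ = t := inv_eq_of_mul_eq_one_right htt
        have hsinv : s⁻¹ = s := inv_eq_of_mul_eq_one_right hss
        have h1 : (t * s)⁻¹ = t * s := inv_eq_of_mul_eq_one_right hh
        rw [mul_inv_rev, htinv, hsinv] at h1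
        exact h1.symm
      have h1 := Finset.card_le_card_of_injOn _ hmaps hinj
      have h2 : (Finset.univ \ T).card = 12 := by
        rw [Finset.card_univ_sdiff, hXc, hTc]
      omega
  · have : T.card = 12 := by rw [h12]; norm_num
    omega

end Cfsg.Agent.Lib.H11.NGP
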