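import Mathlib
import Cfsg.Prelude.Def_Sporadic_a
import Cfsg.Prelude.Def_SporadicCombinatorics
import Cfsg.Agent.Lib.H27.Co0Mod2
import Cfsg.Agent.Lib.H27.Leech32Shapes
import Cfsg.Agent.Lib.H18.NXDefs
import Cfsg.Agent.Lib.H28.Steiner
import Cfsg.Agent.Lib.H28.GolayConcrete

set_option autoImplicit false

namespace Cfsg.Agent.Lib.H11.NX

open Cfsg Finset Cfsg.Agent.Lib.H27 Cfsg.Agent.Lib.H28 Cfsg.Agent.Lib.H18.NX

/-- The even subsets of a finite set containing `a` correspond to all subsets of the rest. -/
theorem card_even_powerset {α : Type*} [DecidableEq α] (X : Finset α) (a : α) (ha : a ∈ X) :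
    ((X.powerset).filter (fun S => Even S.card)).card = 2 ^ (X.card - 1) := by
  have hY : (X.erase a).powerset.card = 2 ^ (X.card - 1) := by
    rw [card_powerset, card_erase_of_mem ha]
  rw [← hY]
  apply Finset.card_nbij' (fun S => S.erase a)
    (fun T => if Even T.card then T else insert a T)
  · intro S hS
    simp only [coe_filter, mem_powerset, Set.mem_ofPred_eq] at hS
    simp only [coe_powerset, Set.mem_preimage, Set.mem_powerset_iff, coe_subset]
    exact erase_subset_erase a hS.1
  · intro T hT
    simp only [coe_powerset, Set.mem_preimage, Set.mem_powerset_iff, coe_subset] at hT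
    have haT : a ∉ T := fun h => notMem_erase a X (hT h)
    have hTX : T ⊆ X := hT.trans (erase_subset a X)
    simp only [coe_filter, mem_powerset, Set.mem_ofPred_eq]
    split_ifs with h
    · exact ⟨hTX, h⟩
    · refine ⟨insert_subset ha hTX, ?_⟩
      rw [card_insert_of_notMem haT]
      exact Nat.even_add_one.2 h
  · intro S hS
    simp only [coe_filter, mem_powerset, Set.mem_ofPred_eq] at hS
    dsimp only
    by_cases haS : a ∈ S
    · have hc : (S.erase a).card + 1 = S.card := card_erase_add_one haS
      have hodd : ¬ Even (S.erase a).card := by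
        intro h
        have := hS.2
        rw [← hc] at this
        exact (Nat.even_add_one.1 this) h
      simp only [hodd, if_false]
      exact insert_erase haS
    · rw [erase_eq_of_notMem haS]
      simp only [hS.2, if_true]
  · intro T hT
    simp only [coe_powerset, Set.mem_preimage, Set.mem_powerset_iff, coe_subset] at hT
    have haT : a ∉ T := fun h => notMem_erase a X (hT h)
    dsimp only
    split_ifs with h
    · exact erase_eq_of_notMem haT
    · exact erase_insert haT

theorem card_golayPt : Fintype.card GolayPt = 24 := by decide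

/-- 77 octads pass through two given points. -/
theorem card_octads_through (p q : GolayPt) (hpq : p ≠ q) :
    ((blocksF octads).filter (({p, q} : Finset GolayPt) ⊆ ·)).card = 77 := by
  have h := steiner_count octads_isSteinerSystem ({p, q} : Finset GolayPt)
    (by rw [card_pair hpq]; norm_num)
  rw [card_pair hpq, card_golayPt] at h
  have e1 : Nat.choose (8 - 2) (5 - 2) = 20 := by decide
  have e2 : Nat.choose (24 - 2) (5 - 2) = 1540 := by decide
  rw [e1, e2] at h
  omega

/-- The vector with entries `2` on `O \ S`, `-2` on `S` (for `S ⊆ O`), `0` elsewhere. -/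
def xOS (O S : Finset GolayPt) : GolayPt → ℤ :=
  fun k => (if k ∈ O then 2 else 0) - (if k ∈ S then 4 else 0)

theorem xOS_of_mem_S {O S : Finset GolayPt} (hS : S ⊆ O) {k : GolayPt} (hk : k ∈ S) :
    xOS O S k = -2 := by
  unfold xOS
  rw [if_pos (hS hk), if_pos hk]
  norm_num

theorem xOS_of_mem_O {O S : Finset GolayPt} {k : GolayPt} (hk : k ∈ O) (hkS : k ∉ S) :
    xOS O S k = 2 := by
  unfold xOS
  rw [if_pos hk, if_neg hkS]
  norm_num

theorem xOS_of_not_mem {O S : Finset GolayPt} (hS : S ⊆ O) {k : GolayPt} (hk : k ∉ O) :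
    xOS O S k = 0 := by
  unfold xOS
  rw [if_neg hk, if_neg (fun h => hk (hS h))]
  norm_num

theorem xOS_abs {O S : Finset GolayPt} (hS : S ⊆ O) (k : GolayPt) :
    |xOS O S k| = if k ∈ O then 2 else 0 := by
  by_cases hk : k ∈ O
  · rw [if_pos hk]
    by_cases hkS : k ∈ S
    · rw [xOS_of_mem_S hS hkS]; norm_num
    · rw [xOS_of_mem_O hk hkS]; norm_num
  · rw [if_neg hk, xOS_of_not_mem hS hk]; norm_num

theorem xOS_ne_zero_iff {O S : Finset GolayPt} (hS : S ⊆ O) (k : GolayPt) :
    xOS O S k ≠ 0 ↔ k ∈ O := by
  constructor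
  · intro h
    by_contra hk
    exact h (xOS_of_not_mem hS hk)
  · intro hk
    by_cases hkS : k ∈ S
    · rw [xOS_of_mem_S hS hkS]; norm_num
    · rw [xOS_of_mem_O hk hkS]; norm_num

theorem xOS_neg_iff {O S : Finset GolayPt} (hS : S ⊆ O) (k : GolayPt) :
    xOS O S k < 0 ↔ k ∈ S := by
  constructor
  · intro h
    by_contra hkS
    by_cases hk : k ∈ O
    · rw [xOS_of_mem_O hk hkS] at h; norm_num at h
    · rw [xOS_of_not_mem hS hk] at h; norm_num at h
  · intro hkS
    rw [xOS_of_mem_S hS hkS]; norm_num

theorem xOS_sum (O S : Finset GolayPt) : ∑ k, xOS O S k = 2 * (O.card : ℤ) - 4 * (S.card : ℤ) := by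
  unfold xOS
  rw [Finset.sum_sub_distrib, Finset.sum_ite_mem, Finset.sum_ite_mem, Finset.univ_inter,
    Finset.univ_inter, Finset.sum_const, Finset.sum_const]
  simp only [nsmul_eq_mul]
  ring

/-- Lattice membership of `xOS O S` for an octad `O` and an even subset `S`. -/
theorem xOS_mem {c : GolayPt → ZMod 2} (hc : c ∈ golayCode) (h8 : (support₂ c).card = 8)
    {S : Finset GolayPt} (hS : S ⊆ support₂ c) (hev : Even S.card) :
    xOS (support₂ c) S ∈ leechLattice := by
  apply mem_leechLattice_of_leechDesc (m := 0) (c := c)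
  refine ⟨hc, fun i => ?_, ?_⟩
  · by_cases hi : i ∈ support₂ c
    · rw [val_one_of_mem hi]
      by_cases hiS : i ∈ S
      · rw [xOS_of_mem_S hS hiS]; decide
      · rw [xOS_of_mem_O hi hiS]; decide
    · rw [val_zero_of_not_mem hi, xOS_of_not_mem hS hi]; decide
  · rw [xOS_sum, h8]
    obtain ⟨r, hr⟩ := hev
    rw [hr]
    unfold Int.ModEq
    push_cast
    omega


/-- The parameter set: octads through `p, q` together with an even subset of the other six
points. -/
noncomputable def parTB (p q : GolayPt) : Finset (Σ _ : Finset GolayPt, Finset GolayPt) :=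
  ((blocksF octads).filter (({p, q} : Finset GolayPt) ⊆ ·)).sigma
    (fun O => ((O \ {p, q}).powerset).filter (fun S => Even S.card))

theorem mem_parTB {p q : GolayPt} {a : Σ _ : Finset GolayPt, Finset GolayPt} :
    a ∈ parTB p q ↔ a.1 ∈ octads ∧ ({p, q} : Finset GolayPt) ⊆ a.1 ∧ a.2 ⊆ a.1 \ {p, q} ∧
      Even a.2.card := by
  unfold parTB
  rw [Finset.mem_sigma, Finset.mem_filter, mem_blocksF, Finset.mem_filter, Finset.mem_powerset]
  tauto

theorem card_parTB (p q : GolayPt) (hpq : p ≠ q) : (parTB p q).card = 2464 := by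
  unfold parTB
  rw [Finset.card_sigma]
  have h32 : ∀ O ∈ (blocksF octads).filter (({p, q} : Finset GolayPt) ⊆ ·),
      (((O \ {p, q}).powerset).filter (fun S => Even S.card)).card = 32 := by
    intro O hO
    rw [Finset.mem_filter, mem_blocksF] at hO
    have h8 : O.card = 8 := hO.1.2
    have h6 : (O \ {p, q}).card = 6 := by
      rw [Finset.card_sdiff_of_subset hO.2, h8, Finset.card_pair hpq]
    have hne : (O \ {p, q}).Nonempty := by
      rw [← Finset.card_pos, h6]; norm_num
    obtain ⟨a, ha⟩ := hne
    rw [card_even_powerset _ a ha, h6]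
    norm_num
  rw [Finset.sum_congr rfl h32, Finset.sum_const, card_octads_through p q hpq]
  rfl

theorem dot_vecA_right (x : GolayPt → ℤ) (p q : GolayPt) :
    dotInt x (vecA p q 4 4) = 4 * x p + 4 * x q := by
  have : dotInt x (vecA p q 4 4) = dotInt (vecA p q 4 4) x := by
    unfold dotInt
    exact Finset.sum_congr rfl (fun _ _ => mul_comm _ _)
  rw [this, dotInt_vecA]

/-- (CNTB) -/
theorem ncard_TB (p q : GolayPt) (hpq : p ≠ q) : (TB p q).ncard = 2464 := by
  classical
  rw [← card_parTB p q hpq, ← Set.ncard_coe_finset (parTB p q)]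
  symm
  have hmemL : ∀ a : Σ _ : Finset GolayPt, Finset GolayPt, a ∈ (parTB p q : Set _) →
      xOS a.1 a.2 ∈ leechLattice := by
    intro a ha
    rw [Finset.mem_coe, mem_parTB] at ha
    obtain ⟨⟨⟨c, hc, hcO⟩, h8⟩, -, hS, hev⟩ := ha
    have hS' : a.2 ⊆ a.1 := hS.trans Finset.sdiff_subset
    rw [← hcO] at h8 hS' ⊢
    exact xOS_mem hc h8 hS' hev
  apply Set.ncard_congr (fun a ha => (⟨xOS a.1 a.2, hmemL a ha⟩ : leechLattice))
  · -- maps into TB
    intro a ha
    have ha' := ha
    rw [Finset.mem_coe, mem_parTB] at ha'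
    obtain ⟨⟨⟨c, hc, hcO⟩, h8⟩, hpqO, hS, hev⟩ := ha'
    have hS' : a.2 ⊆ a.1 := hS.trans Finset.sdiff_subset
    have hp : p ∈ a.1 := hpqO (by simp)
    have hq : q ∈ a.1 := hpqO (by simp)
    have hpS : p ∉ a.2 := fun h => by
      have := hS h
      rw [Finset.mem_sdiff] at this
      exact this.2 (by simp)
    have hqS : q ∉ a.2 := fun h => by
      have := hS h
      rw [Finset.mem_sdiff] at this
      exact this.2 (by simp)
    refine ⟨⟨c, hc, by rw [hcO]; exact h8, fun k => ?_⟩, ?_⟩
    · show |xOS a.1 a.2 k| = _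
      rw [xOS_abs hS', ← hcO]
      by_cases hk : k ∈ support₂ c
      · rw [if_pos hk, if_pos ((mem_support₂_iff c k).1 hk)]
      · rw [if_neg hk, if_neg (fun h => hk ((mem_support₂_iff c k).2 h))]
    · show dotInt (xOS a.1 a.2) (vecA p q 4 4) = 16
      rw [dot_vecA_right, xOS_of_mem_O hp hpS, xOS_of_mem_O hq hqS]
      norm_num
  · -- injective
    rintro ⟨O, S⟩ ⟨O', S'⟩ ha hb hab
    rw [Finset.mem_coe, mem_parTB] at ha hb
    have hS : S ⊆ O := ha.2.2.1.trans Finset.sdiff_subset
    have hS' : S' ⊆ O' := hb.2.2.1.trans Finset.sdiff_subset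
    have hfun : ∀ k, xOS O S k = xOS O' S' k := by
      intro k
      have := congrArg (fun v : leechLattice => (v : GolayPt → ℤ) k) hab
      exact this
    have hO : O = O' := by
      ext k
      rw [← xOS_ne_zero_iff hS k, ← xOS_ne_zero_iff hS' k, hfun k]
    have hSS : S = S' := by
      ext k
      rw [← xOS_neg_iff hS k, ← xOS_neg_iff hS' k, hfun k]
    subst hO
    subst hSS
    rfl
  · -- surjective
    rintro w ⟨⟨c, hc, h8, habs⟩, hdot⟩
    rw [dot_vecA_right] at hdot
    have hle : ∀ k, |(w : GolayPt → ℤ) k| ≤ 2 := by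
      intro k
      rw [habs k]
      split_ifs <;> norm_num
    have hwp : (w : GolayPt → ℤ) p = 2 := by
      have h1 := abs_le.1 (hle p)
      have h2 := abs_le.1 (hle q)
      omega
    have hwq : (w : GolayPt → ℤ) q = 2 := by
      have h1 := abs_le.1 (hle p)
      have h2 := abs_le.1 (hle q)
      omega
    set O : Finset GolayPt := support₂ c with hOdef
    set S : Finset GolayPt := Finset.univ.filter (fun k => (w : GolayPt → ℤ) k < 0) with hSdef
    have hmemO : ∀ k, k ∈ O ↔ (w : GolayPt → ℤ) k ≠ 0 := by
      intro k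
      rw [hOdef, mem_support₂_iff]
      constructor
      · intro h h0
        have := habs k
        rw [if_pos h, h0] at this
        norm_num at this
      · intro h hck
        have := habs k
        rw [if_neg (by simpa using hck), abs_eq_zero] at this
        exact h this
    have hSO : S ⊆ O := by
      intro k hk
      rw [hSdef, Finset.mem_filter] at hk
      rw [hmemO]
      omega
    have hpO : p ∈ O := by rw [hmemO, hwp]; norm_num
    have hqO : q ∈ O := by rw [hmemO, hwq]; norm_num
    have hfun : ∀ k, xOS O S k = (w : GolayPt → ℤ) k := by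
      intro k
      by_cases hk : k ∈ O
      · have hck : c k ≠ 0 := (mem_support₂_iff c k).1 hk
        have h2 := habs k
        rw [if_pos hck] at h2
        by_cases hkS : k ∈ S
        · rw [xOS_of_mem_S hSO hkS]
          rw [hSdef, Finset.mem_filter] at hkS
          rcases abs_eq (by norm_num : (0 : ℤ) ≤ 2) |>.1 h2 with e | e
          · omega
          · exact e.symm
        · rw [xOS_of_mem_O hk hkS]
          have hnn : ¬ (w : GolayPt → ℤ) k < 0 := by
            intro h
            exact hkS (by rw [hSdef, Finset.mem_filter]; exact ⟨Finset.mem_univ _, h⟩)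
          rcases abs_eq (by norm_num : (0 : ℤ) ≤ 2) |>.1 h2 with e | e
          · exact e.symm
          · omega
      · rw [xOS_of_not_mem hSO hk]
        have := (hmemO k).not.1 hk
        push Not at this
        exact this.symm
    have hev : Even S.card := by
      have hsum := even_of_abs_two w.2 habs
      have : ∑ k, (w : GolayPt → ℤ) k = ∑ k, xOS O S k :=
        Finset.sum_congr rfl (fun k _ => (hfun k).symm)
      rw [this, xOS_sum, hOdef, h8] at hsum
      rw [Nat.even_iff]
      push_cast at hsum
      omega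
    have hmem : (⟨O, S⟩ : Σ _ : Finset GolayPt, Finset GolayPt) ∈ (parTB p q : Set _) := by
      rw [Finset.mem_coe, mem_parTB]
      refine ⟨⟨⟨c, hc, rfl⟩, h8⟩, ?_, ?_, hev⟩
      · intro k hk
        rw [Finset.mem_insert, Finset.mem_singleton] at hk
        rcases hk with rfl | rfl
        · exact hpO
        · exact hqO
      · intro k hk
        rw [Finset.mem_sdiff]
        refine ⟨hSO hk, fun hkpq => ?_⟩
        rw [hSdef, Finset.mem_filter] at hk
        rw [Finset.mem_insert, Finset.mem_singleton] at hkpq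
        rcases hkpq with rfl | rfl <;> omega
    refine ⟨⟨O, S⟩, hmem, ?_⟩
    exact Subtype.ext (funext hfun)

end Cfsg.Agent.Lib.H11.NX
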