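import Mathlib
import Cfsg.Prelude.Def_Characters
import Cfsg.Agent.Lib.L0.CharOps
import Cfsg.Agent.Lib.H5.Ord.SylPrime2

/-!
S0977 piece (O4): values of an irreducible character at an involution `t` of `N_G(K)`, `|K| = 5`,
`C_G(K) = K`: restriction to the dihedral group `H = K ∪ K t` of order 10.
(Exact signature of `tools/blueprints/S0977_sigs.lean`; architect helper24.)
-/
set_option autoImplicit false

namespace Cfsg.Agent.Lib.H11.O4320
open Cfsg
open scoped BigOperators ComplexConjugate
universe u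

/-- The subgroup `K ∪ K t` for an involution `t` normalizing `K`. -/
def dihSub {G : Type u} [Group G] (K : Subgroup G) {t : G}
    (htN : t ∈ Subgroup.normalizer (K : Set G)) (htt : t * t = 1) : Subgroup G where
  carrier := {g | g ∈ K ∨ g * t ∈ K}
  one_mem' := Or.inl K.one_mem
  mul_mem' := by
    intro a b ha hb
    have hti : t⁻¹ = t := inv_eq_of_mul_eq_one_left htt
    have hnorm : ∀ y, y ∈ K → t * y * t ∈ K := fun y hy => by
      have := (Subgroup.mem_normalizer_iff.mp htN y).mp hy
      rwa [hti] at this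
    rcases ha with ha | ha <;> rcases hb with hb | hb
    · exact Or.inl (K.mul_mem ha hb)
    · refine Or.inr ?_
      have : a * b * t = a * (b * t) := by group
      rw [this]; exact K.mul_mem ha hb
    · refine Or.inr ?_
      have : a * b * t = (a * t) * (t * b * t) := by
        calc a * b * t = a * (t * t) * b * t := by rw [htt, mul_one]
          _ = (a * t) * (t * b * t) := by group
      rw [this]; exact K.mul_mem ha (hnorm b hb)
    · refine Or.inl ?_
      have : a * b = (a * t) * (t * (b * t) * t) := by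
        calc a * b = a * (t * t) * b * (t * t) := by rw [htt, mul_one, mul_one]
          _ = (a * t) * (t * (b * t) * t) := by group
      rw [this]; exact K.mul_mem ha (hnorm _ hb)
  inv_mem' := by
    intro a ha
    have hti : t⁻¹ = t := inv_eq_of_mul_eq_one_left htt
    have hnorm : ∀ y, y ∈ K → t * y * t ∈ K := fun y hy => by
      have := (Subgroup.mem_normalizer_iff.mp htN y).mp hy
      rwa [hti] at this
    rcases ha with ha | ha
    · exact Or.inl (K.inv_mem ha)
    · refine Or.inr ?_
      have : a⁻¹ * t = t * (a * t)⁻¹ * t := by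
        calc a⁻¹ * t = (t * t) * a⁻¹ * t := by rw [htt, one_mul]
          _ = t * (t * a⁻¹) * t := by group
          _ = t * (a * t)⁻¹ * t := by rw [mul_inv_rev, hti]
      rw [this]; exact hnorm _ (K.inv_mem ha)

theorem mem_dihSub {G : Type u} [Group G] (K : Subgroup G) {t : G}
    (htN : t ∈ Subgroup.normalizer (K : Set G)) (htt : t * t = 1) (g : G) :
    g ∈ dihSub K htN htt ↔ g ∈ K ∨ g * t ∈ K := Iff.rfl

/-- Splitting a sum over `K ∪ K t` into the two cosets. -/
theorem sum_dihSub {G : Type u} [Group G] [Fintype G] (K : Subgroup G) {t : G}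
    (htN : t ∈ Subgroup.normalizer (K : Set G)) (htt : t * t = 1) (htK : t ∉ K)
    [Fintype (dihSub K htN htt)] [DecidablePred (· ∈ K)] (F : G → ℂ) :
    ∑ h : dihSub K htN htt, F h =
      (∑ g : G, if g ∈ K then F g else 0) + ∑ g : G, if g ∈ K then F (g * t) else 0 := by
  classical
  have h1 : ∑ h : dihSub K htN htt, F h = ∑ g : G, if g ∈ dihSub K htN htt then F g else 0 := by
    rw [← Finset.sum_filter]
    exact (Finset.sum_subtype (Finset.univ.filter (· ∈ dihSub K htN htt))
      (fun g => by simp) F).symm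
  rw [h1]
  have h2 : ∀ g : G, (if g ∈ dihSub K htN htt then F g else 0) =
      (if g ∈ K then F g else 0) + (if g * t ∈ K then F g else 0) := by
    intro g
    by_cases hg : g ∈ K
    · have hgt : g * t ∉ K := fun h => htK (by
        have := K.mul_mem (K.inv_mem hg) h
        simpa using this)
      have : g ∈ dihSub K htN htt := Or.inl hg
      simp [this, hg, hgt]
    · by_cases hgt : g * t ∈ K
      · have : g ∈ dihSub K htN htt := Or.inr hgt
        simp [this, hg, hgt]
      · have : g ∉ dihSub K htN htt := fun h => h.elim hg hgt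
        simp [this, hg, hgt]
  rw [Finset.sum_congr rfl (fun g _ => h2 g), Finset.sum_add_distrib]
  congr 1
  have h3 := Equiv.sum_comp (Equiv.mulRight t) (fun g : G => if g ∈ K then F (g * t) else 0)
  rw [← h3]
  refine Finset.sum_congr rfl (fun g _ => ?_)
  simp only [Equiv.coe_mulRight]
  have : g * t * t = g := by rw [mul_assoc, htt, mul_one]
  rw [this]
  by_cases hgt : g * t ∈ K <;> simp [hgt]

set_option linter.unusedVariables false in
/-- (O4) values at an involution `t` of `N_G(K)`: `n₊ = ⟨χ|_H, 1_H⟩`, `n₋ = ⟨χ|_H, sgn⟩` for the dihedral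
group `H = K ∪ K t` of order 10. -/
theorem invol_values {G : Type u} [Group G] [Fintype G] (K : Subgroup G) (hK : Nat.card K = 5)
    (hC : Subgroup.centralizer (K : Set G) = K) {x : G} (hx : x ∈ K) (hx1 : x ≠ 1)
    (hconj : ∀ k ∈ K, k ≠ 1 → IsConj x k) {t : G} (htN : t ∈ Subgroup.normalizer (K : Set G))
    (ht : orderOf t = 2) (χ : IrrCharacter G) (d : ℕ) (hd : (χ : G → ℂ) 1 = d) (m : ℤ)
    (hm : (χ : G → ℂ) x = m) :
    ∃ np nm : ℕ, (5 : ℤ) * ((np : ℤ) + nm) = d + 4 * m ∧ (χ : G → ℂ) t = (np : ℂ) - nm := by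
  classical
  have : Fact (Nat.Prime 5) := ⟨by norm_num⟩
  have htt : t * t = 1 := by
    have := pow_orderOf_eq_one t
    rwa [ht, pow_two] at this
  have hti : t⁻¹ = t := inv_eq_of_mul_eq_one_left htt
  -- `t ∉ K`
  have htK : t ∉ K := by
    intro h
    have h1 : orderOf (⟨t, h⟩ : K) ∣ Nat.card K := orderOf_dvd_natCard _
    have h2 : orderOf (⟨t, h⟩ : K) = orderOf t := by
      rw [← Subgroup.orderOf_coe]
    rw [h2, ht, hK] at h1
    omega
  -- `t` inverts `K`
  have hinv : ∀ y ∈ K, t * y * t⁻¹ = y⁻¹ :=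
    Cfsg.Agent.Lib.H5.SylPrime.conj_eq_inv_of_not_mem_centralizer K hK htN
      (by rw [htt]; exact Subgroup.one_mem _) (by rw [hC]; exact htK)
  -- `χ` is a class function
  have hχchar : Cfsg.IsCharacter G (χ : G → ℂ) := Cfsg.Agent.Lib.L0.isCharacter_of_irr χ.2
  have hcf : Cfsg.IsClassFunction G (χ : G → ℂ) :=
    Cfsg.Agent.Lib.L0.isClassFunction_of_isCharacter hχchar
  -- `χ k = m` on `K \ {1}`
  have hχK : ∀ k ∈ K, k ≠ 1 → (χ : G → ℂ) k = m := by
    intro k hk hk1
    obtain ⟨c, hc⟩ := isConj_iff.mp (hconj k hk hk1)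
    rw [← hc, hcf x c, hm]
  -- `χ (k t) = χ t` for `k ∈ K`
  have hχKt : ∀ k ∈ K, (χ : G → ℂ) (k * t) = (χ : G → ℂ) t := by
    intro k hk
    have hk5 : k ^ 5 = 1 := by
      have := pow_card_eq_one' (G := K) (x := ⟨k, hk⟩)
      rw [hK] at this
      have := congrArg (Subtype.val) this
      simpa using this
    have hc3 : k ^ 3 ∈ K := K.pow_mem hk 3
    have h1 : (k ^ 3) * t * (k ^ 3)⁻¹ = k * t := by
      have h2 : t * (k ^ 3)⁻¹ * t⁻¹ = k ^ 3 := by
        have := hinv _ (K.inv_mem hc3)
        rwa [inv_inv] at this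
      calc (k ^ 3) * t * (k ^ 3)⁻¹ = (k ^ 3) * (t * (k ^ 3)⁻¹ * t⁻¹) * t := by group
        _ = (k ^ 3) * (k ^ 3) * t := by rw [h2]
        _ = k ^ 5 * k * t := by group
        _ = k * t := by rw [hk5, one_mul]
    rw [← h1, hcf t (k ^ 3)]
  -- the finite set `K`
  set KF : Finset G := Finset.univ.filter (· ∈ K) with hKF
  have hKFcard : KF.card = 5 := by
    rw [← hK, Nat.card_eq_fintype_card, Fintype.card_subtype]
  -- the two basic sums
  have hA : (∑ g : G, if g ∈ K then (χ : G → ℂ) g else 0) = (d : ℂ) + 4 * (m : ℂ) := by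
    rw [← Finset.sum_filter]
    have h1 : (1 : G) ∈ KF := Finset.mem_filter.mpr ⟨Finset.mem_univ _, K.one_mem⟩
    rw [← Finset.add_sum_erase KF _ h1, hd]
    congr 1
    have h2 : ∀ g ∈ KF.erase 1, (χ : G → ℂ) g = (m : ℂ) := by
      intro g hg
      obtain ⟨hg1, hg2⟩ := Finset.mem_erase.mp hg
      exact hχK g (Finset.mem_filter.mp hg2).2 hg1
    rw [Finset.sum_congr rfl h2, Finset.sum_const, Finset.card_erase_of_mem h1, hKFcard]
    simp
  have hB : (∑ g : G, if g ∈ K then (χ : G → ℂ) (g * t) else 0) = 5 * (χ : G → ℂ) t := by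
    rw [← Finset.sum_filter]
    have h2 : ∀ g ∈ KF, (χ : G → ℂ) (g * t) = (χ : G → ℂ) t := fun g hg =>
      hχKt g (Finset.mem_filter.mp hg).2
    rw [Finset.sum_congr rfl h2, Finset.sum_const, hKFcard]
    simp
  -- the subgroup `H`
  set H : Subgroup G := dihSub K htN htt with hH
  have : Fintype H := Fintype.ofFinite H
  -- its order
  have hHcard : (Nat.card H : ℂ) = 10 := by
    have h1 := sum_dihSub K htN htt htK (fun _ => (1 : ℂ))
    have h2 : (∑ g : G, if g ∈ K then (1 : ℂ) else 0) = 5 := by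
      rw [← Finset.sum_filter, Finset.sum_const, hKFcard]; simp
    rw [h2] at h1
    have h3 : (∑ h : H, (1 : ℂ)) = (Nat.card H : ℂ) := by
      rw [Finset.sum_const, Nat.card_eq_fintype_card]; simp
    rw [← h3, h1]; norm_num
  -- the sign homomorphism
  let sg : G → ℂ := fun g => if g ∈ K then 1 else -1
  let sgU : G → ℂˣ := fun g => if g ∈ K then 1 else -1
  have hsgU : ∀ g, ((sgU g : ℂˣ) : ℂ) = sg g := by
    intro g
    by_cases hg : g ∈ K <;> simp [sgU, sg, hg]
  let sgn : H →* ℂˣ :=
    { toFun := fun h => sgU h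
      map_one' := by simp [sgU, K.one_mem]
      map_mul' := by
        rintro ⟨a, ha⟩ ⟨b, hb⟩
        show sgU (a * b) = sgU a * sgU b
        have hnorm : ∀ y, y ∈ K → t * y * t ∈ K := fun y hy => by
          have := (Subgroup.mem_normalizer_iff.mp htN y).mp hy
          rwa [hti] at this
        by_cases haK : a ∈ K <;> by_cases hbK : b ∈ K
        · simp [sgU, haK, hbK, K.mul_mem haK hbK]
        · have : a * b ∉ K := fun h => hbK (by
            have := K.mul_mem (K.inv_mem haK) h
            simpa using this)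
          simp [sgU, haK, hbK, this]
        · have : a * b ∉ K := fun h => haK (by
            have := K.mul_mem h (K.inv_mem hbK)
            simpa using this)
          simp [sgU, haK, hbK, this]
        · have hat : a * t ∈ K := ha.resolve_left haK
          have hbt : b * t ∈ K := hb.resolve_left hbK
          have : a * b ∈ K := by
            have h1 : a * b = (a * t) * (t * (b * t) * t) := by
              calc a * b = a * (t * t) * b * (t * t) := by rw [htt, mul_one, mul_one]
                _ = (a * t) * (t * (b * t) * t) := by group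
            rw [h1]; exact K.mul_mem hat (hnorm _ hbt)
          simp [sgU, haK, hbK, this] }
  -- characters of `H`
  have hχH : Cfsg.IsCharacter H (fun h : H => (χ : G → ℂ) h) :=
    Cfsg.Agent.Lib.L0.isCharacter_restrict H hχchar
  have hone : Cfsg.IsIrrCharacter H (1 : H → ℂ) := Cfsg.Agent.Lib.L0.isIrrCharacter_one
  have hsgn : Cfsg.IsIrrCharacter H (fun h : H => ((sgn h : ℂˣ) : ℂ)) :=
    Cfsg.Agent.Lib.L0.isIrrCharacter_of_hom sgn
  obtain ⟨np, hnp⟩ := Cfsg.Agent.Lib.L0.classInner_char_irr_nat hχH hone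
  obtain ⟨nm, hnm⟩ := Cfsg.Agent.Lib.L0.classInner_char_irr_nat hχH hsgn
  -- evaluate the two inner products
  have hsgreal : ∀ g : G, conj (sg g) = sg g := by
    intro g
    by_cases hg : g ∈ K <;> simp [sg, hg]
  have e1 : (10 : ℂ) * (np : ℂ) = (d : ℂ) + 4 * (m : ℂ) + 5 * (χ : G → ℂ) t := by
    rw [← hnp]
    unfold Cfsg.classInner
    rw [hHcard]
    have h1 := sum_dihSub K htN htt htK (fun g => (χ : G → ℂ) g)
    have h2 : (∑ g : H, (fun h : H => (χ : G → ℂ) h) g * conj ((1 : H → ℂ) g)) =
        ∑ h : H, (χ : G → ℂ) h := by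
      refine Finset.sum_congr rfl (fun g _ => ?_)
      simp
    rw [h2, h1, hA, hB]
    field_simp
  have e2 : (10 : ℂ) * (nm : ℂ) = (d : ℂ) + 4 * (m : ℂ) - 5 * (χ : G → ℂ) t := by
    rw [← hnm]
    unfold Cfsg.classInner
    rw [hHcard]
    have h1 := sum_dihSub K htN htt htK (fun g => (χ : G → ℂ) g * sg g)
    have h2 : (∑ g : H, (fun h : H => (χ : G → ℂ) h) g *
        conj ((fun h : H => ((sgn h : ℂˣ) : ℂ)) g)) = ∑ h : H, (χ : G → ℂ) h * sg h := by
      refine Finset.sum_congr rfl (fun g _ => ?_)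
      show (χ : G → ℂ) g * conj ((sgU g : ℂˣ) : ℂ) = _
      rw [hsgU, hsgreal]
    have h3 : (∑ g : G, if g ∈ K then (χ : G → ℂ) g * sg g else 0) =
        ∑ g : G, if g ∈ K then (χ : G → ℂ) g else 0 := by
      refine Finset.sum_congr rfl (fun g _ => ?_)
      by_cases hg : g ∈ K <;> simp [sg, hg]
    have h4 : (∑ g : G, if g ∈ K then (χ : G → ℂ) (g * t) * sg (g * t) else 0) =
        -∑ g : G, if g ∈ K then (χ : G → ℂ) (g * t) else 0 := by
      rw [← Finset.sum_neg_distrib]
      refine Finset.sum_congr rfl (fun g _ => ?_)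
      by_cases hg : g ∈ K
      · have hgt : g * t ∉ K := fun h => htK (by
          have := K.mul_mem (K.inv_mem hg) h
          simpa using this)
        simp [sg, hg, hgt]
      · simp [hg]
    rw [h2, h1, h3, h4, hA, hB]
    field_simp
    ring
  refine ⟨np, nm, ?_, ?_⟩
  · have h : ((5 : ℤ) * ((np : ℤ) + nm) : ℂ) = ((d + 4 * m : ℤ) : ℂ) := by
      push_cast
      have : (10 : ℂ) * ((np : ℂ) + nm) = 2 * ((d : ℂ) + 4 * m) := by
        rw [mul_add, e1, e2]; ring
      linear_combination (1 / 2 : ℂ) * this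
    exact_mod_cast h
  · have : (10 : ℂ) * ((np : ℂ) - nm) = 10 * (χ : G → ℂ) t := by
      rw [mul_sub, e1, e2]; ring
    have h10 : (10 : ℂ) ≠ 0 := by norm_num
    exact (mul_left_cancel₀ h10 this).symm

end Cfsg.Agent.Lib.H11.O4320
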