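import Mathlib
import Cfsg.Agent.Lib.H5.Ord.SylPrime2

/-!
S0980 piece (E8): fusion in `K` of order 5 with `C_G(K) = K`, `|N_G(K)| = 10`: `x ~ x⁻¹`, `x ≁ x^2`.
(Exact signature of `tools/blueprints/S0980_sigs.lean`; architect helper16.)
-/
set_option autoImplicit false

namespace Cfsg.Agent.Lib.H11.O5760
universe u

/-- (E8) fusion in `K`: `N = N_G(K)` has order 10, `K = C_G(K)` has index 2 in it.  An involution `g ∈ N`
(Cauchy) inverts `K`: `x ~ x⁻¹`.  If `h x h⁻¹ = x^2` then `h ∈ N` (`K = zpowers x`), `h^2 ∈ K = C_G(K)` (index 2),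
but `h^2 x h^-2 = x^4 ≠ x`. -/
theorem conj_facts {G : Type u} [Group G] [Finite G] (K : Subgroup G) (hK : Nat.card K = 5)
    (hC : Subgroup.centralizer (K : Set G) = K)
    (hN : Nat.card (Subgroup.normalizer (K : Set G)) = 10) {x : G} (hx : x ∈ K) (hx1 : x ≠ 1) :
    IsConj x x⁻¹ ∧ ¬ IsConj x (x ^ 2) := by
  classical
  have : Fact (Nat.Prime 5) := ⟨by norm_num⟩
  have : Fact (Nat.Prime 2) := ⟨Nat.prime_two⟩
  -- `x` generates `K`
  have hzp : Subgroup.zpowers x = K := by
    have hle : Subgroup.zpowers x ≤ K := (Subgroup.zpowers_le).mpr hx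
    have hdvd : Nat.card (Subgroup.zpowers x) ∣ 5 := hK ▸ Subgroup.card_dvd_of_le hle
    have h5 : Nat.Prime 5 := by norm_num
    rcases (Nat.dvd_prime h5).mp hdvd with h1 | h1
    · exfalso
      apply hx1
      have hbot : Subgroup.zpowers x = ⊥ := Subgroup.card_eq_one.mp h1
      exact Subgroup.zpowers_eq_bot.mp hbot
    · exact Subgroup.eq_of_le_of_card_ge hle (by rw [h1, hK])
  have hx5 : x ^ 5 = 1 := by
    have := pow_card_eq_one' (G := K) (x := ⟨x, hx⟩)
    rw [hK] at this
    have := congrArg (Subtype.val) this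
    simpa using this
  -- `K` is abelian, so every element of `K` commutes with `x`
  have hKx : ∀ y ∈ K, y * x = x * y := by
    intro y hy
    have hy' : y ∈ Subgroup.centralizer (K : Set G) := by rw [hC]; exact hy
    exact ((Subgroup.mem_centralizer_iff.mp hy') x hx).symm
  refine ⟨?_, ?_⟩
  · -- an involution of `N` inverts `K`
    have h2 : 2 ∣ Nat.card (Subgroup.normalizer (K : Set G)) := by rw [hN]; norm_num
    obtain ⟨g0, hg0⟩ := exists_prime_orderOf_dvd_card' (G := Subgroup.normalizer (K : Set G)) 2 h2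
    have hg2 : orderOf (g0 : G) = 2 := by rw [Subgroup.orderOf_coe, hg0]
    have hgg : (g0 : G) * (g0 : G) = 1 := by
      have := pow_orderOf_eq_one (g0 : G)
      rwa [hg2, pow_two] at this
    have hgK : (g0 : G) ∉ K := by
      intro h
      have h1 : orderOf (⟨(g0 : G), h⟩ : K) ∣ Nat.card K := orderOf_dvd_natCard _
      have h3 : orderOf (⟨(g0 : G), h⟩ : K) = orderOf (g0 : G) := by
        rw [← Subgroup.orderOf_coe]
      rw [h3, hg2, hK] at h1
      omega
    have hinv := Cfsg.Agent.Lib.H5.SylPrime.conj_eq_inv_of_not_mem_centralizer K hK g0.2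
      (by rw [hgg]; exact Subgroup.one_mem _) (by rw [hC]; exact hgK)
    exact isConj_iff.mpr ⟨(g0 : G), hinv x hx⟩
  · intro hconj
    obtain ⟨h, hh⟩ := isConj_iff.mp hconj
    -- conjugation by `h` maps `K` into `K`
    have hmap : ∀ y ∈ K, h * y * h⁻¹ ∈ K := by
      intro y hy
      have hy' : y ∈ Subgroup.zpowers x := by rw [hzp]; exact hy
      obtain ⟨i, rfl⟩ := Subgroup.mem_zpowers_iff.mp hy'
      have : h * x ^ i * h⁻¹ = (h * x * h⁻¹) ^ i := by
        simp [conj_zpow]
      rw [this, hh]
      exact K.zpow_mem (K.pow_mem hx 2) i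
    -- hence `h` normalizes `K`
    have hhN : h ∈ Subgroup.normalizer (K : Set G) := by
      rw [Subgroup.mem_normalizer_iff]
      intro y
      refine ⟨hmap y, fun hy => ?_⟩
      let c : K → K := fun k => ⟨h * k * h⁻¹, hmap k k.2⟩
      have hcinj : Function.Injective c := by
        intro a b hab
        have := congrArg Subtype.val hab
        simp only [c] at this
        exact Subtype.ext (mul_left_cancel (mul_right_cancel this))
      obtain ⟨k', hk'⟩ := (Finite.injective_iff_surjective.mp hcinj) ⟨h * y * h⁻¹, hy⟩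
      have := congrArg Subtype.val hk'
      simp only [c] at this
      have hyk : (k' : G) = y := mul_left_cancel (mul_right_cancel this)
      rw [← hyk]; exact k'.2
    -- `K` has index 2 in `N`
    have hidx : (K.subgroupOf (Subgroup.normalizer (K : Set G))).index = 2 := by
      have h1 := Subgroup.card_mul_index (K.subgroupOf (Subgroup.normalizer (K : Set G)))
      have h2 : Nat.card (K.subgroupOf (Subgroup.normalizer (K : Set G))) = 5 := by
        rw [Nat.card_congr (Subgroup.subgroupOfEquivOfLe Subgroup.le_normalizer).toEquiv, hK]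
      rw [h2, hN] at h1
      omega
    have hsq := Subgroup.mul_self_mem_of_index_two hidx (⟨h, hhN⟩ : Subgroup.normalizer (K : Set G))
    have hhhK : h * h ∈ K := by
      have := Subgroup.mem_subgroupOf.mp hsq
      simpa using this
    -- but `h * h` does not commute with `x`
    have hcomm := hKx (h * h) hhhK
    have h4 : (h * h) * x * (h * h)⁻¹ = x ^ 4 := by
      calc (h * h) * x * (h * h)⁻¹ = h * (h * x * h⁻¹) * h⁻¹ := by group
        _ = h * x ^ 2 * h⁻¹ := by rw [hh]
        _ = (h * x * h⁻¹) ^ 2 := by simp [conj_pow]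
        _ = (x ^ 2) ^ 2 := by rw [hh]
        _ = x ^ 4 := by rw [← pow_mul]
    have h5 : (h * h) * x * (h * h)⁻¹ = x := by
      rw [hcomm]; group
    have h6 : x ^ 4 = x := h4.symm.trans h5
    -- `x^4 = x` gives `x^3 = 1`, with `x^5 = 1`: `x = 1`
    have h7 : x ^ 3 = 1 := by
      have : x ^ 3 * x = 1 * x := by rw [one_mul, ← pow_succ]; exact h6
      exact mul_right_cancel this
    apply hx1
    have h8 : x ^ 6 = 1 := by
      have : x ^ 6 = (x ^ 3) ^ 2 := by rw [← pow_mul]
      rw [this, h7, one_pow]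
    calc x = x ^ 6 * (x ^ 5)⁻¹ := by group
      _ = 1 := by rw [h8, hx5]; simp

end Cfsg.Agent.Lib.H11.O5760
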