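import Mathlib

/-!
S0980 piece (E9): a 2-central involution in a group of order 5760 = 2^7 * 45.
(Exact signature of `tools/blueprints/S0980_sigs.lean`; architect helper16.)
-/
set_option autoImplicit false

namespace Cfsg.Agent.Lib.H11.O5760
universe u

/-- (E9) PURE Mathlib: a 2-central involution.  `S` a subgroup of order `2^7`, `Z(S) ≠ 1`, Cauchy in `Z(S)`;
`S ≤ C_G(z)`. -/
theorem central_involution {G : Type u} [Group G] [Finite G] (hG : Nat.card G = 5760) :
    ∃ z : G, orderOf z = 2 ∧ 128 ∣ Nat.card (Subgroup.centralizer ({z} : Set G)) := by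
  classical
  have : Fact (Nat.Prime 2) := ⟨Nat.prime_two⟩
  have hdvd : 2 ^ 7 ∣ Nat.card G := by rw [hG]; norm_num
  obtain ⟨S, hS⟩ := Sylow.exists_subgroup_card_pow_prime 2 hdvd
  have hSp : IsPGroup 2 S := IsPGroup.of_card hS
  have hSnt : Nontrivial S := by
    rw [← Finite.one_lt_card_iff_nontrivial, hS]; norm_num
  have hZnt : Nontrivial (Subgroup.center S) := hSp.center_nontrivial
  -- the centre of `S` has even order
  have hZp : IsPGroup 2 (Subgroup.center S) := hSp.to_subgroup _
  obtain ⟨k, hk⟩ := (IsPGroup.iff_card).mp hZp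
  have hk0 : k ≠ 0 := by
    rintro rfl
    have h1 : 1 < Nat.card (Subgroup.center S) := Finite.one_lt_card_iff_nontrivial.mpr hZnt
    rw [hk] at h1
    norm_num at h1
  have h2 : 2 ∣ Nat.card (Subgroup.center S) := by
    rw [hk]; exact dvd_pow_self 2 hk0
  obtain ⟨z0, hz0⟩ := exists_prime_orderOf_dvd_card' (G := Subgroup.center S) 2 h2
  refine ⟨((z0 : S) : G), ?_, ?_⟩
  · rw [Subgroup.orderOf_coe, Subgroup.orderOf_coe, hz0]
  · have hle : S ≤ Subgroup.centralizer ({((z0 : S) : G)} : Set G) := by
      intro s hs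
      rw [Subgroup.mem_centralizer_singleton_iff]
      have hc := (Subgroup.mem_center_iff.mp z0.2) ⟨s, hs⟩
      -- `hc : ⟨s, hs⟩ * z0 = z0 * ⟨s, hs⟩` in `S`
      have := congrArg (Subtype.val) hc
      simpa using this
    have := Subgroup.card_dvd_of_le hle
    rw [hS] at this
    norm_num at this
    exact this

end Cfsg.Agent.Lib.H11.O5760
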