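import Mathlib
import Cfsg.Prelude.Def_Characters
import Cfsg.Prelude.Def_Blocks
import Cfsg.Agent.Lib.H24.ChiefFactor

/-!
S4930 piece (P3a): for `K` normal in `G`, `P` a Sylow 2-subgroup and `χ` of odd degree, the restriction `χ_K`
has a `P`-invariant irreducible constituent (Clifford + a fixed point of the 2-group `P` on the odd set of
constituents).  (Exact signature of `tools/blueprints/S4930_sigs.lean`; architect helper24.)
-/
set_option autoImplicit false
set_option linter.unusedSectionVars false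

namespace Cfsg.Agent.Lib.H11.OD
open Cfsg Cfsg.Agent.Lib.L0 Cfsg.Agent.Lib.H23 Cfsg.Agent.Lib.H24 Cfsg.Agent.Lib.H8
open scoped ComplexConjugate
universe u

section
variable {G : Type u} [Group G] [Fintype G] (K : Subgroup G) [hKn : K.Normal] [Fintype ↥K]

/-- The restriction of a class function of `G` has the same inner product with all conjugates of a function
on the normal subgroup `K`. -/
theorem classInner_conjChar (χ : G → ℂ) (hχ : IsClassFunction G χ) (ψ : K → ℂ) (g : G) :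
    classInner (fun k : K => χ (k : G)) (conjChar K ψ g) = classInner (fun k : K => χ (k : G)) ψ := by
  unfold classInner
  congr 1
  have h := Equiv.sum_comp (MulAut.conjNormal g : MulAut K).toEquiv
    (fun k : K => χ (k : G) * conj (ψ k))
  rw [← h]
  refine Finset.sum_congr rfl (fun k _ => ?_)
  have h1 : (((MulAut.conjNormal g : MulAut K).toEquiv k : K) : G) = g * (k : G) * g⁻¹ :=
    MulAut.conjNormal_apply g k
  have h2 : (MulAut.conjNormal g : MulAut K).toEquiv k =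
      ⟨g * (k : G) * g⁻¹, hKn.conj_mem k k.2 g⟩ := Subtype.ext h1
  show χ (k : G) * conj (ψ ⟨g * (k : G) * g⁻¹, hKn.conj_mem k k.2 g⟩) = _
  rw [h2]
  show _ = χ (g * (k : G) * g⁻¹) * conj (ψ ⟨g * (k : G) * g⁻¹, hKn.conj_mem k k.2 g⟩)
  rw [hχ (k : G) g]

omit [Fintype ↥K] in
theorem conjChar_one (ψ : K → ℂ) : conjChar K ψ 1 = ψ := by
  funext n
  rw [conjChar_apply]
  congr 1
  apply Subtype.ext
  show 1 * (n : G) * 1⁻¹ = n
  group

omit [Fintype ↥K] in
theorem conjChar_conjChar (ψ : K → ℂ) (a b : G) :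
    conjChar K (conjChar K ψ a) b = conjChar K ψ (a * b) := by
  funext n
  rw [conjChar_apply, conjChar_apply, conjChar_apply]
  congr 1
  apply Subtype.ext
  show a * (b * (n : G) * b⁻¹) * a⁻¹ = a * b * (n : G) * (a * b)⁻¹
  group

end

/-- (P3a) `K` normal in `G`, `P` a Sylow 2-subgroup, `χ` of odd degree: `χ_K` has a `P`-invariant irreducible
constituent. -/
theorem exists_invariant_constituent {G : Type u} [Group G] [Fintype G] (P : Sylow 2 G) (K : Subgroup G)
    [K.Normal] [Fintype ↥K] (χ : IrrCharacter G) (hχ : ¬ 2 ∣ charDegree (χ : G → ℂ)) :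
    ∃ θ : IrrCharacter ↥K, classInner (fun k : ↥K => (χ : G → ℂ) (k : G)) (θ : ↥K → ℂ) ≠ 0 ∧
      ∀ x ∈ (P : Subgroup G), ∀ k k' : ↥K, (k' : G) = x * (k : G) * x⁻¹ →
        (θ : ↥K → ℂ) k' = (θ : ↥K → ℂ) k := by
  classical
  have hχchar : IsCharacter G (χ : G → ℂ) := isCharacter_of_irr χ.2
  have hcf : IsClassFunction G (χ : G → ℂ) := isClassFunction_of_isCharacter hχchar
  have hcK : IsCharacter K (fun k : K => (χ : G → ℂ) (k : G)) := isCharacter_restrict K hχchar
  have h1ne : (fun k : K => (χ : G → ℂ) (k : G)) 1 ≠ 0 := by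
    show (χ : G → ℂ) ((1 : K) : G) ≠ 0
    rw [Subgroup.coe_one]
    exact irr_one_ne_zero χ
  obtain ⟨φ, hφ, hc⟩ := exists_irr_constituent hcK h1ne
  obtain ⟨F, hF, hφF, hsum⟩ := clifford_finset K (χ : G → ℂ) χ.2 φ hφ hc
  obtain ⟨c, hcn⟩ := classInner_char_irr_nat hcK hφ
  rw [hcn] at hsum hc
  have hc0 : (c : ℂ) ≠ 0 := hc
  have hFirr : ∀ ψ ∈ F, IsIrrCharacter K ψ := fun ψ hψ => by
    obtain ⟨k, rfl⟩ := hF ψ hψ
    exact isIrrCharacter_conjNormal K φ hφ k
  -- inner products with irreducible characters of `K`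
  have hinner : ∀ ξ : K → ℂ, IsIrrCharacter K ξ →
      classInner (fun k : K => (χ : G → ℂ) (k : G)) ξ = (c : ℂ) * (if ξ ∈ F then 1 else 0) := by
    intro ξ hξ
    rw [hsum, classInner_smul_left, classInner_sum_left]
    congr 1
    rw [Finset.sum_congr rfl (fun ψ hψ => irr_classInner_eq (hFirr ψ hψ) hξ)]
    rw [Finset.sum_ite_eq' F ξ (fun _ => (1 : ℂ))]
  -- `F` is closed under conjugation
  have hFconj : ∀ ψ ∈ F, ∀ g : G, conjChar K ψ g ∈ F := by
    intro ψ hψ g
    have h1 := hinner ψ (hFirr ψ hψ)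
    rw [if_pos hψ, mul_one] at h1
    have h2 := classInner_conjChar K (χ : G → ℂ) hcf ψ g
    have h3 := hinner (conjChar K ψ g) (isIrrCharacter_conjNormal K ψ (hFirr ψ hψ) g)
    by_contra hno
    rw [if_neg hno, mul_zero, h2, h1] at h3
    exact hc0 h3
  -- all members of `F` have the same degree
  have hdeg : ∀ ψ ∈ F, ψ 1 = φ 1 := by
    intro ψ hψ
    obtain ⟨k, rfl⟩ := hF ψ hψ
    rw [conjChar_apply]
    congr 1
    apply Subtype.ext
    show k * ((1 : K) : G) * k⁻¹ = ((1 : K) : G)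
    rw [Subgroup.coe_one]; group
  -- the degree formula `χ(1) = c |F| φ(1)`
  obtain ⟨d, hd0, hd⟩ := irr_one_eq (⟨φ, hφ⟩ : IrrCharacter K)
  have hd' : φ 1 = (d : ℂ) := hd
  have hχ1 : (χ : G → ℂ) 1 = (c : ℂ) * ((F.card : ℂ) * (d : ℂ)) := by
    have h1 := congrFun hsum 1
    simp only [Pi.smul_apply, Finset.sum_apply, smul_eq_mul] at h1
    rw [Finset.sum_congr rfl (fun ψ hψ => hdeg ψ hψ), Finset.sum_const, nsmul_eq_mul, hd'] at h1
    rw [← h1, Subgroup.coe_one]
  have hFodd : ¬ 2 ∣ F.card := by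
    intro h2
    apply hχ
    have h3 : ((charDegree (χ : G → ℂ) : ℕ) : ℂ) = ((c * (F.card * d) : ℕ) : ℂ) := by
      rw [charDegree_irr, hχ1]; push_cast; ring
    have h4 : charDegree (χ : G → ℂ) = c * (F.card * d) := by exact_mod_cast h3
    rw [h4]
    exact Dvd.dvd.mul_left (Dvd.dvd.mul_right h2 d) c
  -- the action of `P` on `F`
  let act : MulAction (P : Subgroup G) {ψ : K → ℂ // ψ ∈ F} :=
    { smul := fun x ψ => ⟨conjChar K ψ.1 ((x : G)⁻¹), hFconj ψ.1 ψ.2 _⟩
      one_smul := fun ψ => by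
        apply Subtype.ext
        show conjChar K ψ.1 (((1 : (P : Subgroup G)) : G)⁻¹) = ψ.1
        rw [Subgroup.coe_one, inv_one, conjChar_one]
      mul_smul := fun x y ψ => by
        apply Subtype.ext
        show conjChar K ψ.1 (((x * y : (P : Subgroup G)) : G)⁻¹) =
          conjChar K (conjChar K ψ.1 ((y : G)⁻¹)) ((x : G)⁻¹)
        rw [conjChar_conjChar, Subgroup.coe_mul, mul_inv_rev] }
  have hcardF : Nat.card {ψ : K → ℂ // ψ ∈ F} = F.card := by
    rw [Nat.card_eq_fintype_card, Fintype.card_coe]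
  have hP2 : IsPGroup 2 (P : Subgroup G) := P.isPGroup'
  obtain ⟨θ, hθ⟩ := hP2.nonempty_fixed_point_of_prime_not_dvd_card {ψ : K → ℂ // ψ ∈ F}
    (by rw [hcardF]; exact hFodd)
  refine ⟨⟨θ.1, hFirr θ.1 θ.2⟩, ?_, ?_⟩
  · show classInner (fun k : K => (χ : G → ℂ) (k : G)) θ.1 ≠ 0
    rw [hinner θ.1 (hFirr θ.1 θ.2), if_pos θ.2, mul_one]
    exact hc0
  · intro x hx k k' hkk'
    have h1 := hθ ⟨x⁻¹, (P : Subgroup G).inv_mem hx⟩
    have h2 : conjChar K θ.1 (((⟨x⁻¹, (P : Subgroup G).inv_mem hx⟩ : (P : Subgroup G)) : G)⁻¹) = θ.1 :=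
      congrArg Subtype.val h1
    simp only [inv_inv] at h2
    have h3 := congrFun h2 k
    rw [conjChar_apply] at h3
    show θ.1 k' = θ.1 k
    rw [← h3]
    have hk : k' = ⟨x * (k : G) * x⁻¹, (inferInstance : K.Normal).conj_mem k k.2 x⟩ :=
      Subtype.ext hkk'
    rw [hk]

end Cfsg.Agent.Lib.H11.OD
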