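import Mathlib
import Cfsg.Prelude.Def_Solvable

/-!
# S2936, rank one (helper11): overgroups of a Sylow `p`-subgroup in a simple group whose Sylow `p`-subgroups act
transitively on the other Sylow `p`-subgroups

`eq_top_of_sylow_trans`: `G` finite simple, `U0 ≠ 1` a Sylow `p`-subgroup transitive (by conjugation) on
`Syl_p(G) ∖ {U0}`; if `M ≤ G` has `O_p(M) = 1` and `p ∤ |G : M|` then `M = G`.
-/

set_option autoImplicit false

namespace Cfsg.Agent.Lib.H11.OG

open Cfsg
open scoped Pointwise

variable {G : Type*} [Group G]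

/-- the transitivity hypothesis is invariant under conjugation of the base Sylow subgroup -/
theorem sylow_trans_smul (p : ℕ) [Fact p.Prime] (U0 : Sylow p G)
    (htr : ∀ V W : Sylow p G, V ≠ U0 → W ≠ U0 → ∃ s ∈ (U0 : Subgroup G), s • V = W) (g : G) :
    ∀ V W : Sylow p G, V ≠ g • U0 → W ≠ g • U0 → ∃ s ∈ ((g • U0 : Sylow p G) : Subgroup G), s • V = W := by
  intro V W hV hW
  have hV' : g⁻¹ • V ≠ U0 := by
    intro e
    apply hV
    rw [← e, smul_inv_smul]
  have hW' : g⁻¹ • W ≠ U0 := by
    intro e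
    apply hW
    rw [← e, smul_inv_smul]
  obtain ⟨s, hs, hsV⟩ := htr _ _ hV' hW'
  refine ⟨g * s * g⁻¹, ?_, ?_⟩
  · rw [Sylow.coe_subgroup_smul]
    have := Subgroup.smul_mem_pointwise_smul s (MulAut.conj g) (U0 : Subgroup G) hs
    simpa [MulAut.smul_def, MulAut.conj_apply] using this
  · rw [mul_smul, mul_smul, hsV, smul_inv_smul]

/-- a subgroup of `p'`-index contains a Sylow `p`-subgroup of `G` -/
theorem exists_sylow_le_of_not_dvd_index [Finite G] (p : ℕ) [Fact p.Prime] (M : Subgroup G)
    (hidx : ¬ p ∣ M.index) : ∃ U : Sylow p G, (U : Subgroup G) ≤ M := by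
  obtain ⟨P⟩ : Nonempty (Sylow p M) := inferInstance
  have hP : IsPGroup p (P.map M.subtype : Subgroup G) :=
    P.isPGroup'.map M.subtype
  obtain ⟨U, hU⟩ := hP.exists_le_sylow
  have hle : (P.map M.subtype : Subgroup G) ≤ M := by
    rintro x ⟨y, -, rfl⟩
    exact y.2
  -- cardinalities agree
  have hcardP : Nat.card (P.map M.subtype : Subgroup G) = Nat.card (P : Subgroup M) :=
    Nat.card_congr ((P : Subgroup M).equivMapOfInjective M.subtype M.subtype_injective).symm.toEquiv
  have h1 : Nat.card (P : Subgroup M) = p ^ (Nat.card M).factorization p := P.card_eq_multiplicity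
  have h2 : Nat.card (U : Subgroup G) = p ^ (Nat.card G).factorization p := U.card_eq_multiplicity
  have h3 : (Nat.card G).factorization p = (Nat.card M).factorization p := by
    have hmul : Nat.card G = Nat.card M * M.index := (Subgroup.card_mul_index M).symm
    rw [hmul, Nat.factorization_mul Nat.card_pos.ne' (Subgroup.index_ne_zero_of_finite)]
    simp [Nat.factorization_eq_zero_of_not_dvd hidx]
  have heq : (P.map M.subtype : Subgroup G) = U := by
    apply Subgroup.eq_of_le_of_card_ge hU
    rw [hcardP, h1, h2, h3]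
  exact ⟨U, heq ▸ hle⟩

/-- **Rank one**: in a finite simple group whose Sylow `p`-subgroup `U0 ≠ 1` is transitive on the other
Sylow `p`-subgroups, a subgroup `M` of `p'`-index with `O_p(M) = 1` is the whole group. -/
theorem eq_top_of_sylow_trans [Finite G] [IsSimpleGroup G] (p : ℕ) [Fact p.Prime] (U0 : Sylow p G)
    (hne : (U0 : Subgroup G) ≠ ⊥)
    (htr : ∀ V W : Sylow p G, V ≠ U0 → W ≠ U0 → ∃ s ∈ (U0 : Subgroup G), s • V = W)
    (M : Subgroup G) (hM : Cfsg.pCore p ↥M = ⊥) (hidx : ¬ p ∣ M.index) : M = ⊤ := by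
  classical
  obtain ⟨U1, hU1⟩ := exists_sylow_le_of_not_dvd_index p M hidx
  obtain ⟨g, rfl⟩ := MulAction.exists_smul_eq G U0 U1
  have htr1 := sylow_trans_smul p U0 htr g
  set U1 : Sylow p G := g • U0 with hU1def
  have hU1ne : (U1 : Subgroup G) ≠ ⊥ := by
    intro e
    apply hne
    have hc : Nat.card (U1 : Subgroup G) = Nat.card (U0 : Subgroup G) := by
      rw [U1.card_eq_multiplicity, U0.card_eq_multiplicity]
    rw [e, Subgroup.card_bot] at hc
    exact Subgroup.card_eq_one.mp hc.symm
  -- some Sylow subgroup of `G` inside `M` differs from `U1`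
  have hex : ∃ V : Sylow p G, (V : Subgroup G) ≤ M ∧ V ≠ U1 := by
    by_contra hcon
    push Not at hcon
    -- then `U1` is normalized by `M`
    have hnorm : ((U1 : Subgroup G).subgroupOf M).Normal := by
      rw [Subgroup.normal_subgroupOf_iff_le_normalizer hU1]
      intro m hm
      have h1 : (⟨m, hm⟩ : M) • U1 = U1 := hcon _ (Sylow.smul_le hU1 ⟨m, hm⟩)
      exact Sylow.smul_eq_iff_mem_normalizer.mp h1
    have hpg : IsPGroup p ((U1 : Subgroup G).subgroupOf M) :=
      U1.isPGroup'.comap_of_injective M.subtype M.subtype_injective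
    have hle : (U1 : Subgroup G).subgroupOf M ≤ Cfsg.pCore p ↥M :=
      le_sSup ⟨hnorm, hpg⟩
    rw [hM, le_bot_iff] at hle
    apply hU1ne
    rw [eq_bot_iff]
    intro x hx
    have : (⟨x, hU1 hx⟩ : M) ∈ (U1 : Subgroup G).subgroupOf M := by
      rw [Subgroup.mem_subgroupOf]; exact hx
    rw [hle, Subgroup.mem_bot] at this
    rw [Subgroup.mem_bot]
    exact congrArg Subtype.val this
  obtain ⟨V, hVM, hVne⟩ := hex
  -- all Sylow subgroups lie in `M`
  have hall : ∀ W : Sylow p G, (W : Subgroup G) ≤ M := by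
    intro W
    by_cases hW : W = U1
    · rw [hW]; exact hU1
    · obtain ⟨s, hs, rfl⟩ := htr1 V W hVne hW
      exact Sylow.smul_le hVM ⟨s, hU1 hs⟩
  -- the normal closure of `U1` is `⊤`
  have hnc : Subgroup.normalClosure ((U1 : Subgroup G) : Set G) = ⊤ := by
    rcases (Subgroup.normalClosure_normal (s := ((U1 : Subgroup G) : Set G))).eq_bot_or_eq_top with h | h
    · exfalso
      apply hU1ne
      rw [eq_bot_iff, ← h]
      exact Subgroup.le_normalClosure
    · exact h
  rw [eq_top_iff, ← hnc]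
  unfold Subgroup.normalClosure
  rw [Subgroup.closure_le]
  intro a ha
  rw [Group.mem_conjugatesOfSet_iff] at ha
  obtain ⟨b, hb, hba⟩ := ha
  obtain ⟨c, hc⟩ := isConj_iff.mp hba
  have h1 : a ∈ ((c • U1 : Sylow p G) : Subgroup G) := by
    rw [Sylow.coe_subgroup_smul]
    have := Subgroup.smul_mem_pointwise_smul b (MulAut.conj c) (U1 : Subgroup G) hb
    rw [MulAut.smul_def, MulAut.conj_apply, hc] at this
    exact this
  exact hall _ h1

end Cfsg.Agent.Lib.H11.OG
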