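import Mathlib
import Cfsg.Prelude.Def_LieTypeChar
import Cfsg.Prelude.Def_Solvable
import Cfsg.Agent.Lib.H11.OGRK1
import Cfsg.Agent.S1163

/-!
# S2936, Suzuki groups (helper11)

`eq_top_of_coset_trans`: the rank one criterion `eq_top_of_sylow_trans` in coset form.
`og_Sz`: `M ≤ Sz(q)` of odd index with `O_2(M) = 1` is `Sz(q)` (from the landed S1163).
-/

set_option autoImplicit false

namespace Cfsg.Agent.Lib.H11.OG

open Cfsg
open scoped Pointwise

/-- coset form of the transitivity hypothesis -/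
theorem sylow_trans_of_coset_trans {G : Type*} [Group G] [Finite G] (p : ℕ) [Fact p.Prime]
    (U0 : Sylow p G)
    (htr : ∀ x y : G ⧸ Subgroup.normalizer ((U0 : Subgroup G) : Set G),
      x ≠ QuotientGroup.mk 1 → y ≠ QuotientGroup.mk 1 → ∃ s ∈ (U0 : Subgroup G), s • x = y) :
    ∀ V W : Sylow p G, V ≠ U0 → W ≠ U0 → ∃ s ∈ (U0 : Subgroup G), s • V = W := by
  intro V W hV hW
  obtain ⟨g, rfl⟩ := MulAction.exists_smul_eq G U0 V
  obtain ⟨h, rfl⟩ := MulAction.exists_smul_eq G U0 W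
  have hmem : ∀ k : G, k ∈ Subgroup.normalizer ((U0 : Subgroup G) : Set G) → k • U0 = U0 := by
    intro k hk
    exact Sylow.smul_eq_iff_mem_normalizer.mpr hk
  have hg : ((g : G) : G ⧸ Subgroup.normalizer ((U0 : Subgroup G) : Set G)) ≠ QuotientGroup.mk 1 := by
    intro e
    apply hV
    have h1 : (1 : G)⁻¹ * g ∈ Subgroup.normalizer ((U0 : Subgroup G) : Set G) := QuotientGroup.eq.mp e.symm
    rw [inv_one, one_mul] at h1
    exact hmem g h1
  have hh : ((h : G) : G ⧸ Subgroup.normalizer ((U0 : Subgroup G) : Set G)) ≠ QuotientGroup.mk 1 := by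
    intro e
    apply hW
    have h1 : (1 : G)⁻¹ * h ∈ Subgroup.normalizer ((U0 : Subgroup G) : Set G) := QuotientGroup.eq.mp e.symm
    rw [inv_one, one_mul] at h1
    exact hmem h h1
  obtain ⟨s, hs, hsx⟩ := htr _ _ hg hh
  refine ⟨s, hs, ?_⟩
  have h1 : (((s * g : G)) : G ⧸ Subgroup.normalizer ((U0 : Subgroup G) : Set G)) = (h : G) := hsx
  have h2 : (s * g)⁻¹ * h ∈ Subgroup.normalizer ((U0 : Subgroup G) : Set G) := QuotientGroup.eq.mp h1
  have h3 := hmem _ h2
  rw [← mul_smul]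
  have h4 : h • U0 = (s * g) • (((s * g)⁻¹ * h) • U0) := by
    rw [← mul_smul, mul_inv_cancel_left]
  rw [h4, h3]

/-- rank one criterion, coset form: `U0` is transitive on the cosets of `N(U0)` other than the base coset -/
theorem eq_top_of_coset_trans {G : Type*} [Group G] [Finite G] [IsSimpleGroup G] (p : ℕ) [Fact p.Prime]
    (U0 : Sylow p G) (hN : Subgroup.normalizer ((U0 : Subgroup G) : Set G) ≠ ⊤)
    (htr : ∀ x y : G ⧸ Subgroup.normalizer ((U0 : Subgroup G) : Set G),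
      x ≠ QuotientGroup.mk 1 → y ≠ QuotientGroup.mk 1 → ∃ s ∈ (U0 : Subgroup G), s • x = y)
    (M : Subgroup G) (hM : Cfsg.pCore p ↥M = ⊥) (hidx : ¬ p ∣ M.index) : M = ⊤ := by
  apply eq_top_of_sylow_trans p U0 _ (sylow_trans_of_coset_trans p U0 htr) M hM hidx
  intro e
  apply hN
  rw [e, eq_top_iff]
  intro g _
  rw [Subgroup.mem_normalizer_iff]
  intro x
  simp only [Subgroup.mem_bot]
  constructor
  · rintro rfl; simp
  · intro h
    have : g⁻¹ * (g * x * g⁻¹) * g = g⁻¹ * 1 * g := by rw [h]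
    simpa [mul_assoc] using this

/-- SZ: overgroups of odd index with trivial `2`-core in a simple Suzuki group -/
theorem og_Sz (F : Type*) [Field F] [Fintype F] [Fact (Nat.Prime 2)] (m : ℕ) (hm : 1 ≤ m)
    (hF : Fintype.card F = 2 ^ (2 * m + 1)) (hs : IsSimpleGroup ↥(Lie.Sz F (2 ^ (m + 1))))
    (M : Subgroup ↥(Lie.Sz F (2 ^ (m + 1)))) (hM : Cfsg.pCore 2 ↥M = ⊥) (hidx : ¬ 2 ∣ M.index) :
    M = ⊤ := by
  obtain ⟨-, S, -, hidxN, -, hsharp⟩ := Cfsg.Agent.S1163.result hm hF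
  apply eq_top_of_coset_trans 2 S _ _ M hM hidx
  · intro htop
    rw [htop, Subgroup.index_top] at hidxN
    have : 0 < (2 ^ (2 * m + 1)) ^ 2 := by positivity
    omega
  · intro x y hx hy
    obtain ⟨s, hs1, -⟩ := hsharp x y hx hy
    exact ⟨s, s.2, hs1⟩

end Cfsg.Agent.Lib.H11.OG
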