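import Cfsg.Agent.Lib.H11.OmegaWittAny
import Cfsg.Agent.S0287

/-!
Normal subgroups of `Ω(Q)` are central or everything: any finite index type with at least 7 elements, every
finite field; and the special case of `Cfsg.quadFormPlus n F`, `n ≥ 4`.
-/

set_option autoImplicit false

namespace Cfsg.Agent.Lib.H11.OmegaDichAny

open Matrix
open scoped MatrixGroups
open Cfsg.Agent.Lib.H11.OmegaSimple Cfsg.Agent.Lib.H11.OmegaTrans Cfsg.Agent.Lib.H11.SiegelGen
  Cfsg.Agent.Lib.H11.IsoReindex Cfsg.Agent.Lib.H11.OmegaWittAny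

/-- `Ω` is generated by the Siegel elements, all finite fields -/
theorem commutator_eq_S_all {F : Type*} [Field F] [Fintype F] {n : ℕ} (Q : QuadraticForm F (Fin n → F))
    (hQ : (QuadraticMap.polarBilin Q).Nondegenerate) (hn : 7 ≤ n) :
    commutator ↥(Cfsg.isometryGroup F ⇑Q) = S Q := by
  by_cases h2 : (2 : F) = 0
  · refine commutator_eq_S_of_rGen Q hQ ?_ hn
    intro g
    rw [Cfsg.Agent.S0786.result Q hQ (Or.inr (by omega))]
    exact Subgroup.mem_top g
  · exact commutator_eq_S Q hQ h2 (by omega)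

/-- a normal subgroup of `Ω(Q)` is central or everything (`Fin n`, all finite fields) -/
theorem dichotomy_fin {F : Type*} [Field F] [Fintype F] {n : ℕ} (Q : QuadraticForm F (Fin n → F))
    (hQ : (QuadraticMap.polarBilin Q).Nondegenerate) (hn : 7 ≤ n)
    (N : Subgroup ↥(Cfsg.Omega F ⇑Q)) (hN : N.Normal) :
    N ≤ Subgroup.center ↥(Cfsg.Omega F ⇑Q) ∨ N = ⊤ :=
  dichotomy Q hQ (adj_all Q hQ (by omega)) hn (commutator_eq_S_all Q hQ hn) N hN

/-- transport of the dichotomy along a group isomorphism -/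
theorem dichotomy_of_equiv {A B : Type*} [Group A] [Group B] (Ψ : A ≃* B)
    (h : ∀ N : Subgroup B, N.Normal → N ≤ Subgroup.center B ∨ N = ⊤)
    (N : Subgroup A) (hN : N.Normal) : N ≤ Subgroup.center A ∨ N = ⊤ := by
  have hN' : (N.map Ψ.toMonoidHom).Normal := hN.map _ Ψ.surjective
  rcases h _ hN' with h1 | h1
  · left
    intro g hg
    have h2 : Ψ g ∈ Subgroup.center B := h1 (Subgroup.mem_map_of_mem _ hg)
    rw [Subgroup.mem_center_iff] at h2 ⊢
    intro a
    have := h2 (Ψ a)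
    rw [← map_mul, ← map_mul] at this
    exact Ψ.injective this
  · right
    rw [eq_top_iff]
    intro g _
    have h2 : Ψ g ∈ N.map Ψ.toMonoidHom := by rw [h1]; trivial
    obtain ⟨g', hg', h3⟩ := h2
    have : g' = g := Ψ.injective h3
    rw [← this]
    exact hg'

/-- a normal subgroup of `Ω(Q)` is central or everything (any index type, all finite fields) -/
theorem dichotomy_any {F : Type*} [Field F] [Fintype F] {ι : Type} [Fintype ι] [DecidableEq ι]
    (Q : QuadraticForm F (ι → F)) (hQ : (QuadraticMap.polarBilin Q).Nondegenerate)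
    (hcard : 7 ≤ Fintype.card ι) (N : Subgroup ↥(Cfsg.Omega F ⇑Q)) (hN : N.Normal) :
    N ≤ Subgroup.center ↥(Cfsg.Omega F ⇑Q) ∨ N = ⊤ := by
  set e := Fintype.equivFin ι
  let Θ : ↥(Cfsg.isometryGroup F ⇑Q) ≃* ↥(Cfsg.isometryGroup F ⇑(trQF e Q)) := isoEquiv e ⇑Q
  exact dichotomy_of_equiv (commutatorCongr Θ)
    (fun N' hN' => dichotomy_fin (trQF e Q) (nondeg_trQF _ Q hQ) hcard N' hN') N hN

/-- a normal subgroup of `Ω⁺_{2n}(F)`, `n ≥ 4`, is central or everything -/
theorem dichotomy_plus {F : Type*} [Field F] [Fintype F] {n : ℕ} (hn : 4 ≤ n)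
    (N : Subgroup ↥(Cfsg.Omega F (Cfsg.quadFormPlus n F))) (hN : N.Normal) :
    N ≤ Subgroup.center ↥(Cfsg.Omega F (Cfsg.quadFormPlus n F)) ∨ N = ⊤ := by
  have key : ∀ Q₀ : (Fin n ⊕ Fin n → F) → F, ⇑(Cfsg.Agent.Lib.H13.plusQF F n) = Q₀ →
      ∀ N : Subgroup ↥(Cfsg.Omega F Q₀), N.Normal → N ≤ Subgroup.center ↥(Cfsg.Omega F Q₀) ∨ N = ⊤ := by
    rintro _ rfl N hN
    exact dichotomy_any (Cfsg.Agent.Lib.H13.plusQF F n) (Cfsg.Agent.S0287.nondeg n)
      (by rw [Fintype.card_sum, Fintype.card_fin]; omega) N hN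
  exact key _ (Cfsg.Agent.S0287.coe_plusQF n) N hN

end Cfsg.Agent.Lib.H11.OmegaDichAny
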