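/-
S2345 (architect helper12), piece GEN: a normal subgroup of `Ω⁺_{2n}(F)` (`n ≥ 4`, any finite field) containing the
radical elements `uO S` is everything.  Via `Lib/H11/OmegaDichAny.dichotomy_plus` (normal subgroups are central or `⊤`).
-/
import Cfsg.Agent.Lib.H12.OPMinDefs
import Cfsg.Agent.Lib.H11.OmegaDichAny
import Cfsg.Agent.Lib.H6.OPSiegel

set_option autoImplicit false

namespace Cfsg.Agent.Lib.H11.OPMin

open Matrix Cfsg.Agent.Lib.H12.OPMin

variable {F : Type*} [Field F]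

/-- the elementary alternating matrix `E_kj - E_jk` -/
def eAlt {n : ℕ} (k j : Fin n) : Alt n F :=
  ⟨Matrix.single k j (1 : F) - Matrix.single j k (1 : F), by
    have := sub_transpose_mem (Matrix.single k j (1 : F))
    rwa [Matrix.transpose_single] at this⟩

theorem eAlt_val {n : ℕ} (k j : Fin n) :
    ((eAlt k j : Alt n F) : Matrix (Fin n) (Fin n) F) =
      Matrix.single k j (1 : F) - Matrix.single j k (1 : F) := rfl

/-- the transvection `1 + E_ik` in `GL_n` -/
def trvGL {n : ℕ} (i k : Fin n) (hik : i ≠ k) : GL (Fin n) F :=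
  ⟨Matrix.transvection i k (1 : F), Matrix.transvection i k (-1 : F),
    by rw [Matrix.transvection_mul_transvection_same (h := hik), add_neg_cancel, Matrix.transvection_zero],
    by rw [Matrix.transvection_mul_transvection_same (h := hik), neg_add_cancel, Matrix.transvection_zero]⟩

theorem trvGL_val {n : ℕ} (i k : Fin n) (hik : i ≠ k) :
    ((trvGL i k hik : GL (Fin n) F) : Matrix (Fin n) (Fin n) F) = 1 + Matrix.single i k (1 : F) := rfl

theorem det_trvGL {n : ℕ} (i k : Fin n) (hik : i ≠ k) :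
    Matrix.GeneralLinearGroup.det (trvGL i k hik : GL (Fin n) F) = 1 := by
  apply Units.ext
  rw [Matrix.GeneralLinearGroup.val_det_apply]
  exact Matrix.det_transvection_of_ne i k hik 1

/-- `(1 + E_ik) (E_kj - E_jk) (1 + E_ik)ᵀ = (E_kj - E_jk) + (E_ij - E_ji)` -/
theorem cong_trv {n : ℕ} (i j k : Fin n) (_hij : i ≠ j) (hik : i ≠ k) (hjk : j ≠ k) :
    congE (trvGL i k hik) (eAlt k j : Alt n F) = eAlt k j + eAlt i j := by
  apply Subtype.ext
  rw [congE_val, AddSubgroup.coe_add, eAlt_val, eAlt_val, trvGL_val, Matrix.transpose_add,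
    Matrix.transpose_one, Matrix.transpose_single]
  have e1 : Matrix.single i k (1 : F) * Matrix.single j k (1 : F) = 0 :=
    Matrix.single_mul_single_of_ne (1 : F) i k j hjk.symm 1
  have e2 : Matrix.single k j (1 : F) * Matrix.single k i (1 : F) = 0 :=
    Matrix.single_mul_single_of_ne (1 : F) k j k hjk 1
  have e3 : Matrix.single i j (1 : F) * Matrix.single k i (1 : F) = 0 :=
    Matrix.single_mul_single_of_ne (1 : F) i j k hjk 1
  have e4 : Matrix.single i k (1 : F) * Matrix.single k j (1 : F) = Matrix.single i j (1 : F) := by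
    rw [Matrix.single_mul_single_same, mul_one]
  have e5 : Matrix.single j k (1 : F) * Matrix.single k i (1 : F) = Matrix.single j i (1 : F) := by
    rw [Matrix.single_mul_single_same, mul_one]
  simp only [Matrix.add_mul, Matrix.mul_add, Matrix.sub_mul, Matrix.mul_sub, Matrix.one_mul,
    Matrix.mul_one, e1, e2, e3, e4, e5, Matrix.zero_mul]
  abel

theorem lO_eq_levO {n : ℕ} (A : GL (Fin n) F) :
    (lO A : OG n F) = Cfsg.Agent.Lib.H6.OPSiegel.levO A := OG_ext rfl

theorem uO_neg {n : ℕ} (S : Alt n F) : uO (-S) = (uO S)⁻¹ := by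
  rw [eq_inv_iff_mul_eq_one, ← uO_add, neg_add_cancel]
  apply OG_ext
  show uMat (0 : Matrix (Fin n) (Fin n) F) = 1
  exact uMat_zero

/-- the long root element `uO (E_ij - E_ji)` is a commutator (`n ≥ 3`, any field) -/
theorem uO_eAlt_mem {n : ℕ} (i j k : Fin n) (hij : i ≠ j) (hik : i ≠ k) (hjk : j ≠ k) :
    uO (eAlt i j : Alt n F) ∈ Cfsg.Omega F (Cfsg.quadFormPlus n F) := by
  have h1 := Cfsg.Agent.Lib.H6.OPSiegel.commElem_mem (lO (trvGL i k hik)) (uO (eAlt k j : Alt n F))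
  rw [lO_conj, cong_trv i j k hij hik hjk, ← uO_neg, ← uO_add] at h1
  have h2 : (eAlt k j + eAlt i j + -eAlt k j : Alt n F) = eAlt i j := by abel
  rwa [h2] at h1

theorem gen_Omega [Fintype F] {n : ℕ} (hn : 4 ≤ n) (N : Subgroup (OmG n F)) [N.Normal]
    (h : ∀ (S : Alt n F) (hS : uO S ∈ Cfsg.Omega F (Cfsg.quadFormPlus n F)), (⟨uO S, hS⟩ : OmG n F) ∈ N) :
    N = ⊤ := by
  rcases Cfsg.Agent.Lib.H11.OmegaDichAny.dichotomy_plus hn N inferInstance with hc | hc
  swap
  · exact hc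
  exfalso
  let i0 : Fin n := ⟨0, by omega⟩
  let i1 : Fin n := ⟨1, by omega⟩
  let i2 : Fin n := ⟨2, by omega⟩
  have h01 : i0 ≠ i1 := by intro h; have := congrArg Fin.val h; simp [i0, i1] at this
  have h02 : i0 ≠ i2 := by intro h; have := congrArg Fin.val h; simp [i0, i2] at this
  have h12 : i1 ≠ i2 := by intro h; have := congrArg Fin.val h; simp [i1, i2] at this
  -- `z = uO (E_01 - E_10) ∈ N ≤ Z(Ω)`
  have hz : uO (eAlt i0 i1 : Alt n F) ∈ Cfsg.Omega F (Cfsg.quadFormPlus n F) :=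
    uO_eAlt_mem i0 i1 i2 h01 h02 h12
  have hzc := hc (h _ hz)
  -- `g = lO (1 + E_20) ∈ Ω`
  have hg : lO (trvGL i2 i0 h02.symm : GL (Fin n) F) ∈ Cfsg.Omega F (Cfsg.quadFormPlus n F) := by
    rw [lO_eq_levO]
    exact Cfsg.Agent.Lib.H6.OPSiegel.levO_mem_of_det_one (by omega) _ (det_trvGL i2 i0 h02.symm)
  have hcomm := Subgroup.mem_center_iff.mp hzc ⟨_, hg⟩
  have h3 : lO (trvGL i2 i0 h02.symm : GL (Fin n) F) * uO (eAlt i0 i1 : Alt n F) =
      uO (eAlt i0 i1 : Alt n F) * lO (trvGL i2 i0 h02.symm : GL (Fin n) F) :=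
    congrArg Subtype.val hcomm
  have h4 : lO (trvGL i2 i0 h02.symm : GL (Fin n) F) * uO (eAlt i0 i1 : Alt n F) *
      (lO (trvGL i2 i0 h02.symm : GL (Fin n) F))⁻¹ = uO (eAlt i0 i1 : Alt n F) := by
    rw [h3, mul_inv_cancel_right]
  rw [lO_conj, cong_trv i2 i1 i0 h12.symm h02.symm h01.symm] at h4
  have h5 := uO_injective h4
  have h6 : (eAlt i2 i1 : Alt n F) = 0 := by
    have : (eAlt i0 i1 + eAlt i2 i1 : Alt n F) = eAlt i0 i1 + 0 := by rw [h5, add_zero]
    exact add_left_cancel this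
  have h7 := congrFun (congrFun (congrArg Subtype.val h6) i2) i1
  rw [eAlt_val] at h7
  simp [h12, h12.symm] at h7

end Cfsg.Agent.Lib.H11.OPMin
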