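import Cfsg.Agent.Lib.H11.SimMax5

/-!
Maximality of the orthogonal group `O(Q)` in `Sp_2m(F)` in characteristic two: basic lemmas.
-/

set_option autoImplicit false
set_option linter.unusedSimpArgs false
set_option linter.unusedSectionVars false
set_option linter.unusedVariables false

namespace Cfsg.Agent.Lib.H11.OSpMax

open Matrix Module
open Cfsg.Agent.Lib.H28 Cfsg.Agent.Lib.H11.SubspMax
open Cfsg.Agent.Lib.H4 (sympForm_self sympForm_add_left sympForm_add_right sympForm_smul_left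
  sympForm_smul_right sympForm_swap)

variable {F : Type*} [Field F] {m : ℕ}

local notation "VV" => (Fin m ⊕ Fin m → F)
local notation "GG" => GL (Fin m ⊕ Fin m) F
local notation "MM" => Matrix (Fin m ⊕ Fin m) (Fin m ⊕ Fin m) F

/-- the data of a quadratic form in characteristic two over a perfect field polarising to the
standard alternating form -/
structure QData (Q : (Fin m ⊕ Fin m → F) → F) : Prop where
  two : (2 : F) = 0
  smul : ∀ (c : F) (v : Fin m ⊕ Fin m → F), Q (c • v) = c ^ 2 * Q v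
  add : ∀ u v : Fin m ⊕ Fin m → F, Q (u + v) = Q u + Q v + Cfsg.sympForm m F u v
  sq : ∀ a : F, ∃ b : F, b * b = a

variable {Q : (Fin m ⊕ Fin m → F) → F}

section qd
variable (hQ : QData Q)
include hQ

theorem Q_zero : Q (0 : VV) = 0 := by
  have := hQ.smul 0 0
  simpa using this

theorem card_idx : Fintype.card (Fin m ⊕ Fin m) = m + m := by
  rw [Fintype.card_sum, Fintype.card_fin]

/-- every value is taken by `Q` on the orthogonal complement of few vectors -/
theorem exists_Q_perp {k : ℕ} (vs : Fin k → VV) (hk : 2 * k + 1 ≤ m + m) (d : F) :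
    ∃ z : VV, Q z = d ∧ ∀ i, Cfsg.sympForm m F z (vs i) = 0 := by
  obtain ⟨x, y, hxy, hx, hy⟩ := Cfsg.Agent.Lib.H11.SimMax.exists_hyp
    (Cfsg.Agent.Lib.H11.SimMax.sympForm_isSymplectic F m) vs (by rw [card_idx hQ]; exact hk)
  obtain ⟨z0, hz0, hz0vs⟩ : ∃ z0 : VV, Q z0 ≠ 0 ∧ ∀ i, Cfsg.sympForm m F z0 (vs i) = 0 := by
    by_cases h1 : Q x = 0
    · by_cases h2 : Q y = 0
      · refine ⟨x + y, ?_, fun i => ?_⟩
        · rw [hQ.add, h1, h2, hxy]; simp
        · rw [sympForm_add_left, hx i, hy i, add_zero]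
      · exact ⟨y, h2, hy⟩
    · exact ⟨x, h1, hx⟩
  obtain ⟨b, hb⟩ := hQ.sq (d / Q z0)
  refine ⟨b • z0, ?_, fun i => ?_⟩
  · rw [hQ.smul, pow_two, hb, div_mul_cancel₀ _ hz0]
  · rw [sympForm_smul_left, hz0vs i, mul_zero]

/-- the orthogonal transvection at a nonsingular vector lies in the orthogonal group -/
theorem rho_mem (a : VV) (ha : Q a ≠ 0) :
    stv a (1 / Q a) ∈ Cfsg.Geo.quadSimilarityGroup Q ⊓ Cfsg.spGL m F := by
  refine ⟨⟨1, fun x => ?_⟩, stv_mem_spGL a _⟩
  rw [stv_mulVec, hQ.add, hQ.smul, sympForm_smul_right, Units.val_one, one_mul]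
  have h2 := hQ.two
  field_simp
  linear_combination (Cfsg.sympForm m F x a ^ 2) * h2

theorem move_step (u w : VV) (hQuw : Q u = Q w) (hB : Cfsg.sympForm m F u w ≠ 0) :
    ∃ g ∈ Cfsg.Geo.quadSimilarityGroup Q ⊓ Cfsg.spGL m F, (g : MM) *ᵥ u = w := by
  have h2 := hQ.two
  have hQa : Q (u + w) = Cfsg.sympForm m F u w := by
    rw [hQ.add, hQuw]
    linear_combination (Q w) * h2
  have hne : Q (u + w) ≠ 0 := by rw [hQa]; exact hB
  refine ⟨stv (u + w) (1 / Q (u + w)), rho_mem hQ _ hne, ?_⟩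
  rw [stv_mulVec, sympForm_add_right, sympForm_self, zero_add, hQa, one_div,
    inv_mul_cancel₀ hB, one_smul, ← add_assoc]
  have : u + u = 0 := by
    rw [← two_smul F u, h2, zero_smul]
  rw [this, zero_add]

theorem move (hm : 7 ≤ m + m) (u w : VV) (hu0 : u ≠ 0) (hw0 : w ≠ 0) (hQuw : Q u = Q w) :
    ∃ g ∈ Cfsg.Geo.quadSimilarityGroup Q ⊓ Cfsg.spGL m F, (g : MM) *ᵥ u = w := by
  have h2 := hQ.two
  by_cases hB : Cfsg.sympForm m F u w = 0
  · obtain ⟨y0, hy1, hy2⟩ := Cfsg.Agent.Lib.H11.SimMax.exists_common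
      (Cfsg.Agent.Lib.H11.SimMax.sympForm_isSymplectic F m) u w hu0 hw0
    obtain ⟨z, hz, hzvs⟩ := exists_Q_perp hQ ![u, w, y0] (by simpa using hm) (Q u + Q y0)
    have hzu : Cfsg.sympForm m F z u = 0 := by simpa using hzvs 0
    have hzw : Cfsg.sympForm m F z w = 0 := by simpa using hzvs 1
    have hzy : Cfsg.sympForm m F z y0 = 0 := by simpa using hzvs 2
    have hQy : Q (y0 + z) = Q u := by
      rw [hQ.add, hz, sympForm_eq_swap hzy]
      linear_combination (Q y0) * h2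
    have h1 : Cfsg.sympForm m F u (y0 + z) ≠ 0 := by
      rw [sympForm_add_right, sympForm_eq_swap hzu, add_zero]; exact hy1
    have h3 : Cfsg.sympForm m F (y0 + z) w ≠ 0 := by
      rw [sympForm_add_left, hzw, add_zero]; exact sympForm_ne_swap hy2
    obtain ⟨g1, hg1, e1⟩ := move_step hQ u (y0 + z) hQy.symm h1
    obtain ⟨g2, hg2, e2⟩ := move_step hQ (y0 + z) w (hQy.trans hQuw) h3
    refine ⟨g2 * g1, Subgroup.mul_mem _ hg2 hg1, ?_⟩
    rw [gl_mul_mulVec, e1, e2]
  · exact move_step hQ u w hQuw hB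

/-- an element of `Sp` outside the orthogonal group changes the value of `Q` at some nonsingular
vector -/
theorem exists_bad (hm : 3 ≤ m + m) (h : GG) (hSp : h ∈ Cfsg.spGL m F)
    (hh : h ∉ Cfsg.Geo.quadSimilarityGroup Q) :
    ∃ a : VV, Q a ≠ 0 ∧ Q ((h : MM) *ᵥ a) ≠ Q a := by
  by_contra hcon
  push Not at hcon
  apply hh
  refine ⟨1, fun v => ?_⟩
  rw [Units.val_one, one_mul]
  by_cases hv : Q v = 0
  · obtain ⟨a1, ha1, ha1vs⟩ := exists_Q_perp hQ ![v] (by simpa using hm) 1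
    have ha1v : Cfsg.sympForm m F a1 v = 0 := by simpa using ha1vs 0
    have h1 : Q a1 ≠ 0 := by rw [ha1]; exact one_ne_zero
    have h3 : Q (v + a1) ≠ 0 := by
      rw [hQ.add, hv, sympForm_eq_swap ha1v, zero_add, add_zero]; exact h1
    have e1 := hcon a1 h1
    have e3 := hcon (v + a1) h3
    rw [Matrix.mulVec_add, hQ.add, (mem_spGL_iff h).1 hSp, e1, hQ.add] at e3
    linear_combination e3
  · exact hcon v hv

end qd

end Cfsg.Agent.Lib.H11.OSpMax
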