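import Cfsg.Agent.Lib.H11.OSpMax1

set_option autoImplicit false
set_option linter.unusedSimpArgs false
set_option linter.unusedSectionVars false
set_option linter.unusedVariables false

namespace Cfsg.Agent.Lib.H11.OSpMax

open Matrix Module
open Cfsg.Agent.Lib.H28 Cfsg.Agent.Lib.H11.SubspMax
open Cfsg.Agent.Lib.H4 (sympForm_self sympForm_add_left sympForm_add_right sympForm_smul_left
  sympForm_smul_right sympForm_swap)

variable {F : Type*} [Field F] {m : ℕ}

local notation "VV" => (Fin m ⊕ Fin m → F)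
local notation "GG" => GL (Fin m ⊕ Fin m) F
local notation "MM" => Matrix (Fin m ⊕ Fin m) (Fin m ⊕ Fin m) F

variable {Q : (Fin m ⊕ Fin m → F) → F}

section qd
variable (hQ : QData Q)
include hQ

/-- a vector with prescribed `Q`-value and prescribed product with a nonzero vector -/
theorem exists_Q_B (hm : 5 ≤ m + m) (u : VV) (hu0 : u ≠ 0) (d t : F) :
    ∃ v : VV, Q v = d ∧ Cfsg.sympForm m F v u = t := by
  have h2 := hQ.two
  obtain ⟨y, hy⟩ := exists_sympForm_ne u hu0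
  have hyu : Cfsg.sympForm m F y u ≠ 0 := sympForm_ne_swap hy
  obtain ⟨v0, hv0⟩ : ∃ v0 : VV, v0 = (t / Cfsg.sympForm m F y u) • y := ⟨_, rfl⟩
  have hv0u : Cfsg.sympForm m F v0 u = t := by
    rw [hv0, sympForm_smul_left, div_mul_cancel₀ _ hyu]
  obtain ⟨z, hz, hzvs⟩ := exists_Q_perp hQ ![u, v0] (by simpa using hm) (d + Q v0)
  have hzu : Cfsg.sympForm m F z u = 0 := by simpa using hzvs 0
  have hzv : Cfsg.sympForm m F z v0 = 0 := by simpa using hzvs 1
  refine ⟨v0 + z, ?_, ?_⟩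
  · rw [hQ.add, hz, sympForm_eq_swap hzv]
    linear_combination (Q v0) * h2
  · rw [sympForm_add_left, hv0u, hzu, add_zero]

theorem exists_sing (hm : 5 ≤ m + m) : ∃ u : VV, u ≠ 0 ∧ Q u = 0 := by
  have hne : Nonempty (Fin m ⊕ Fin m) := by
    rw [← Fintype.card_pos_iff, card_idx hQ]; omega
  obtain ⟨i⟩ := hne
  obtain ⟨u1, hu1⟩ : ∃ u : VV, u ≠ 0 := by
    refine ⟨Pi.single i 1, ?_⟩
    intro h0
    have := congrFun h0 i
    simp at this
  obtain ⟨v, hv, hvu⟩ := exists_Q_B hQ hm u1 hu1 0 1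
  refine ⟨v, ?_, hv⟩
  rintro rfl
  rw [sympForm_zero_left] at hvu
  exact zero_ne_one hvu

theorem osp_lt (hm : 5 ≤ m + m) :
    Cfsg.Geo.quadSimilarityGroup Q ⊓ Cfsg.spGL m F < Cfsg.spGL m F := by
  refine lt_of_le_of_ne inf_le_right ?_
  intro heq
  obtain ⟨u0, hu0, hQu0⟩ := exists_sing hQ hm
  have hmem : stv u0 (1 : F) ∈ Cfsg.Geo.quadSimilarityGroup Q ⊓ Cfsg.spGL m F := by
    rw [heq]; exact stv_mem_spGL u0 1
  obtain ⟨⟨c, hc⟩, -⟩ := hmem
  obtain ⟨x, hx, hxvs⟩ := exists_Q_perp hQ ![u0] (by simpa using (by omega : 3 ≤ m + m)) 1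
  have hxu : Cfsg.sympForm m F x u0 = 0 := by simpa using hxvs 0
  have hc1 : (c : F) = 1 := by
    have := hc x
    rw [stv_mulVec, hxu, mul_zero, zero_smul, add_zero, hx, mul_one] at this
    exact this.symm
  obtain ⟨y, hy⟩ := exists_sympForm_ne u0 hu0
  have hyu : Cfsg.sympForm m F y u0 ≠ 0 := sympForm_ne_swap hy
  have := hc y
  rw [hc1, one_mul, stv_mulVec, one_mul, hQ.add, hQ.smul, hQu0, mul_zero, add_zero,
    sympForm_smul_right] at this
  have h3 : Cfsg.sympForm m F y u0 * Cfsg.sympForm m F y u0 = 0 := by linear_combination this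
  exact hyu (mul_self_eq_zero.1 h3)

theorem osp_maximal (hm : 7 ≤ m + m) :
    Cfsg.Geo.IsMaximalIn (Cfsg.spGL m F) (Cfsg.Geo.quadSimilarityGroup Q ⊓ Cfsg.spGL m F) := by
  have h2 := hQ.two
  have hm5 : 5 ≤ m + m := by omega
  refine ⟨osp_lt hQ hm5, ?_⟩
  intro M hNM hMS
  by_cases hMN : M = Cfsg.Geo.quadSimilarityGroup Q ⊓ Cfsg.spGL m F
  · left; exact hMN
  right
  obtain ⟨h, hhM, hhN⟩ : ∃ h ∈ M, h ∉ Cfsg.Geo.quadSimilarityGroup Q := by
    by_contra hcon
    push Not at hcon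
    apply hMN
    apply le_antisymm _ hNM
    intro g hg
    exact ⟨hcon g hg, hMS hg⟩
  obtain ⟨a, hQa, hbad⟩ := exists_bad hQ (by omega) h (hMS hhM) hhN
  have ha0 : a ≠ 0 := by
    rintro rfl
    exact hQa (Q_zero hQ)
  obtain ⟨u, hu⟩ : ∃ u, u = (h : MM) *ᵥ a := ⟨_, rfl⟩
  obtain ⟨c, hc⟩ : ∃ c : F, c = 1 / Q a := ⟨_, rfl⟩
  have hc0 : c ≠ 0 := by rw [hc]; exact one_div_ne_zero hQa
  have hu0 : u ≠ 0 := by
    intro h0
    apply ha0
    have := gl_inv_mulVec h a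
    rw [← hu, h0, Matrix.mulVec_zero] at this
    exact this.symm
  have hguM : stv u c ∈ M := by
    rw [hu, conj_stv h (hMS hhM) a c]
    refine M.mul_mem (M.mul_mem hhM (hNM ?_)) (M.inv_mem hhM)
    rw [hc]; exact rho_mem hQ a hQa
  obtain ⟨κ, hκ⟩ : ∃ κ : F, κ = c + c ^ 2 * Q u := ⟨_, rfl⟩
  have hκ0 : κ ≠ 0 := by
    intro h0
    apply hbad
    rw [← hu]
    have h1 : c * (1 + c * Q u) = 0 := by rw [← h0, hκ]; ring
    have h3 : 1 + c * Q u = 0 := (mul_eq_zero.1 h1).resolve_left hc0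
    have h4 : Q a * c = 1 := by rw [hc]; field_simp
    linear_combination (Q a) * h3 - (Q u) * h4 - (Q a) * h2
  -- transvections at singular vectors
  have hsing : ∀ e : F, e ≠ 0 → ∃ w : VV, w ≠ 0 ∧ Q w = 0 ∧ stv w e ∈ M := by
    intro e he
    obtain ⟨t, ht⟩ := hQ.sq (1 / (κ * e))
    have ht0 : t ≠ 0 := by
      rintro rfl
      rw [mul_zero] at ht
      exact (one_div_ne_zero (mul_ne_zero hκ0 he)) ht.symm
    obtain ⟨v, hQv, hvu⟩ := exists_Q_B hQ hm5 u hu0 (κ * t ^ 2) t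
    have hQv0 : Q v ≠ 0 := by rw [hQv]; exact mul_ne_zero hκ0 (pow_ne_zero 2 ht0)
    have he' : e = 1 / Q v := by
      rw [hQv, pow_two, ht]
      field_simp
    have hw : (stv u c : MM) *ᵥ v = v + (c * t) • u := by rw [stv_mulVec, hvu]
    refine ⟨v + (c * t) • u, ?_, ?_, ?_⟩
    · intro h0
      have : Cfsg.sympForm m F (v + (c * t) • u) u = t := by
        rw [sympForm_add_left, sympForm_smul_left, sympForm_self, mul_zero, add_zero, hvu]
      rw [h0, sympForm_zero_left] at this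
      exact ht0 this.symm
    · rw [hQ.add, hQ.smul, sympForm_smul_right, hvu, hQv, hκ]
      linear_combination (c * t ^ 2 + c ^ 2 * t ^ 2 * Q u) * h2
    · rw [← hw, he', conj_stv (stv u c) (hMS hguM) v (1 / Q v)]
      exact M.mul_mem (M.mul_mem hguM (hNM (rho_mem hQ v hQv0))) (M.inv_mem hguM)
  obtain ⟨u0, hu00, hQu0⟩ := exists_sing hQ hm5
  have hu0S : u0 ∈ Scl M := by
    intro e
    by_cases he : e = 0
    · subst he
      have : stv u0 (0 : F) = 1 := by
        apply gl_ext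
        intro x
        rw [stv_mulVec, zero_mul, zero_smul, add_zero, Units.val_one, Matrix.one_mulVec]
      rw [this]; exact M.one_mem
    · obtain ⟨w, hw0, hQw, hwM⟩ := hsing e he
      obtain ⟨g, hg, hgw⟩ := move hQ hm w u0 hw0 hu00 (hQw.trans hQu0.symm)
      rw [← hgw, conj_stv g hg.2 w e]
      exact M.mul_mem (M.mul_mem (hNM hg) hwM) (M.inv_mem (hNM hg))
  have hsingS : ∀ w : VV, Q w = 0 → w ∈ Scl M := by
    intro w hQw
    by_cases hw0 : w = 0
    · subst hw0; exact Scl_zero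
    · obtain ⟨g, hg, hgw⟩ := move hQ hm u0 w hu00 hw0 (hQu0.trans hQw.symm)
      rw [← hgw]
      exact Scl_inv hMS (hNM hg) hu0S
  apply eq_spGL_of_Scl hMS
  intro w
  by_cases hQw : Q w = 0
  · exact hsingS w hQw
  have hw0 : w ≠ 0 := by
    rintro rfl
    exact hQw (Q_zero hQ)
  obtain ⟨us, hQus, husw⟩ := exists_Q_B hQ hm5 w hw0 0 (Q w)
  have hwus : Cfsg.sympForm m F w us = - Q w := by rw [sympForm_swap, husw]
  obtain ⟨v', hv'⟩ : ∃ v' : VV, v' = (Q w)⁻¹ • (w + us) := ⟨_, rfl⟩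
  have hQv' : Q v' = 0 := by
    rw [hv', hQ.smul, hQ.add, hQus, hwus]
    ring
  have hv'S : v' ∈ Scl M := hsingS v' hQv'
  have husS : us ∈ Scl M := hsingS us hQus
  have hne : Cfsg.sympForm m F v' us ≠ 0 := by
    rw [hv', sympForm_smul_left, sympForm_add_left, sympForm_self, add_zero, hwus]
    field_simp
    exact neg_ne_zero.2 one_ne_zero
  have h5 := Scl_smul (Q w) (Scl_add hMS husS hv'S hne (Q w)⁻¹)
  have h6 : Q w • (v' + (Q w)⁻¹ • us) = w := by
    rw [hv', smul_add, smul_smul, smul_smul, mul_inv_cancel₀ hQw, one_smul, one_smul, add_assoc]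
    have : us + us = 0 := by rw [← two_smul F us, h2, zero_smul]
    rw [this, add_zero]
  rw [h6] at h5
  exact h5

end qd

end Cfsg.Agent.Lib.H11.OSpMax
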