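import Mathlib

/-! S3999 piece P4 HALL: normal Sylow subgroups for all primes dividing `n` give a normal Hall
subgroup of order `n`. -/

set_option autoImplicit false

namespace Cfsg.Agent.Lib.H11.OT

universe u

theorem card_sup_of_coprime {G : Type u} [Group G] [Finite G] (H K : Subgroup G) [K.Normal]
    (h : (Nat.card H).Coprime (Nat.card K)) :
    Nat.card (H ⊔ K : Subgroup G) = Nat.card H * Nat.card K := by
  have hbot : K ⊓ H = ⊥ := (Subgroup.disjoint_of_coprime_natCard h.symm).eq_bot
  have h1 : K.relIndex (H ⊔ K) = K.relIndex H := Subgroup.relIndex_sup_right H K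
  have h2 : K.relIndex H = Nat.card H := by
    rw [← Subgroup.inf_relIndex_right, hbot, Subgroup.relIndex_bot_left]
  have h3 : Nat.card K * K.relIndex (H ⊔ K) = Nat.card (H ⊔ K : Subgroup G) := by
    have hle : K ≤ H ⊔ K := le_sup_right
    have := Subgroup.card_mul_index (K.subgroupOf (H ⊔ K))
    rw [Subgroup.relIndex]
    rw [← this]
    congr 1
    exact (Nat.card_congr (Subgroup.subgroupOfEquivOfLe hle).toEquiv).symm
  rw [← h3, h1, h2, mul_comm]

theorem exists_normal_of_subset {G : Type u} [Group G] [Finite G] (n m : ℕ) (hnm : n.Coprime m)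
    (hcard : Nat.card G = n * m)
    (h : ∀ (q : ℕ) [Fact q.Prime], q ∣ n → ∀ Q : Sylow q G, (Q : Subgroup G).Normal)
    (S : Finset ℕ) (hS : S ⊆ n.primeFactors) :
    ∃ N : Subgroup G, N.Normal ∧ Nat.card N = ∏ q ∈ S, q ^ n.factorization q := by
  classical
  induction S using Finset.induction_on with
  | empty => exact ⟨⊥, inferInstance, by simp⟩
  | insert q S hq ih =>
    obtain ⟨N, hN, hNc⟩ := ih (fun x hx => hS (Finset.mem_insert_of_mem hx))
    have hqmem : q ∈ n.primeFactors := hS (Finset.mem_insert_self q S)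
    have hqp : q.Prime := Nat.prime_of_mem_primeFactors hqmem
    have hqn : q ∣ n := Nat.dvd_of_mem_primeFactors hqmem
    have : Fact q.Prime := ⟨hqp⟩
    have hn0 : n ≠ 0 := by
      intro h0; rw [h0] at hqmem; simp at hqmem
    have hm0 : m ≠ 0 := by
      intro h0
      have : Nat.card G = 0 := by rw [hcard, h0, mul_zero]
      exact Nat.card_pos.ne' this
    let Q : Sylow q G := default
    have hQn : (Q : Subgroup G).Normal := h q hqn Q
    have hqm : ¬ q ∣ m := fun hd => by
      have := Nat.Coprime.eq_one_of_dvd (Nat.Coprime.coprime_dvd_left hqn hnm) hd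
      exact hqp.one_lt.ne' this
    have hQc : Nat.card (Q : Subgroup G) = q ^ n.factorization q := by
      rw [Sylow.card_eq_multiplicity, hcard, Nat.factorization_mul hn0 hm0]
      simp [Nat.factorization_eq_zero_of_not_dvd hqm]
    have hcop : (Nat.card N).Coprime (Nat.card (Q : Subgroup G)) := by
      rw [hNc, hQc]
      apply Nat.Coprime.pow_right
      apply Nat.Coprime.prod_left
      intro r hr
      apply Nat.Coprime.pow_left
      have hrp : r.Prime := Nat.prime_of_mem_primeFactors (hS (Finset.mem_insert_of_mem hr))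
      rw [Nat.coprime_primes hrp hqp]
      rintro rfl
      exact hq hr
    refine ⟨N ⊔ (Q : Subgroup G), inferInstance, ?_⟩
    rw [card_sup_of_coprime N (Q : Subgroup G) hcop, hNc, hQc, Finset.prod_insert hq, mul_comm]

theorem exists_normal_hall {G : Type u} [Group G] [Finite G] (n m : ℕ) (hnm : n.Coprime m)
    (hcard : Nat.card G = n * m)
    (h : ∀ (q : ℕ) [Fact q.Prime], q ∣ n → ∀ Q : Sylow q G, (Q : Subgroup G).Normal) :
    ∃ N : Subgroup G, N.Normal ∧ Nat.card N = n := by
  obtain ⟨N, hN, hc⟩ := exists_normal_of_subset n m hnm hcard h n.primeFactors (Finset.Subset.refl _)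
  refine ⟨N, hN, ?_⟩
  rw [hc]
  have hn0 : n ≠ 0 := by
    intro h0
    have : Nat.card G = 0 := by rw [hcard, h0, zero_mul]
    exact Nat.card_pos.ne' this
  exact Nat.prod_factorization_pow_eq_self hn0

end Cfsg.Agent.Lib.H11.OT
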