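import Mathlib
import Cfsg.Agent.Lib.H11.OType1

set_option autoImplicit false

/-!
# A unipotent orthogonal matrix with a single Jordan block in characteristic two

On `F^j ⊕ F^j` the matrix `[[P, P], [0, P⁻ᵀ]]` (`P` a Jordan block) preserves the quadratic form
`x₀² + x ⬝ y + y₀²` when `2 = 0`.
-/

namespace Cfsg.Agent.Lib.H11.Jordan

open Module Matrix

variable {K : Type*} [Field K]

/-- the rank type of `[[P, P], [0, R]]` with `Pᵀ R = 1` -/
theorem rankType_regular_block {j : ℕ} (hj : 1 ≤ j) (R : Matrix (Fin j) (Fin j) K)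
    (hPR : (Cfsg.jordanBlock j K)ᵀ * R = 1) (hR : HasType R {j}) :
    RankType (Matrix.fromBlocks (Cfsg.jordanBlock j K) (Cfsg.jordanBlock j K) 0 R) {2 * j} := by
  have hP := hasType_jordanBlock (K := K) hj
  have hcard : Fintype.card (Fin j ⊕ Fin j) = 2 * j := by
    rw [Fintype.card_sum, Fintype.card_fin]; ring
  rw [← hcard]
  have hsub : Matrix.fromBlocks (Cfsg.jordanBlock j K) (Cfsg.jordanBlock j K) 0 R - 1 =
      Matrix.fromBlocks (Cfsg.jordanBlock j K - 1) (Cfsg.jordanBlock j K) 0 (R - 1) := by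
    ext (a | a) (b | b) <;> simp [Matrix.one_apply]
  apply rankType_singleton_of_rank_ge
  · rw [hcard]; omega
  · obtain ⟨b', hb'⟩ := fromBlocks_triang_pow (Cfsg.jordanBlock j K - 1) (Cfsg.jordanBlock j K)
      (R - 1) j
    rw [hcard, two_mul, pow_add, hsub, hb', hP.rank_singleton.1, hR.rank_singleton.1,
      Matrix.fromBlocks_multiply]
    simp
  · set M := Matrix.fromBlocks (Cfsg.jordanBlock j K) (Cfsg.jordanBlock j K) 0 R - 1 with hM
    have hker : LinearMap.ker M.mulVecLin ≤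
        Submodule.span K {(Pi.single (Sum.inl ⟨j - 1, by omega⟩) 1 : Fin j ⊕ Fin j → K)} := by
      intro v hv
      rw [LinearMap.mem_ker, Matrix.mulVecLin_apply] at hv
      rw [ker_regular_symp hj R hPR v hv]
      exact Submodule.smul_mem _ _ (Submodule.subset_span rfl)
    have hw : (Pi.single (Sum.inl ⟨j - 1, by omega⟩) 1 : Fin j ⊕ Fin j → K) ≠ 0 := by
      intro h
      have := congrFun h (Sum.inl ⟨j - 1, by omega⟩)
      simp at this
    have h3 := Submodule.finrank_mono hker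
    rw [finrank_span_singleton hw] at h3
    have h4 := LinearMap.finrank_range_add_finrank_ker M.mulVecLin
    rw [Module.finrank_fintype_fun_eq_card] at h4
    unfold Matrix.rank
    omega

/-- in characteristic two, `(Pᵀ z) ⬝ (Pᵀ z) = z₀²` for the Jordan block `P` -/
theorem jordanBlock_transpose_dot_self [CharP K 2] (j' : ℕ) (z : Fin (j' + 1) → K) :
    ((Cfsg.jordanBlock (j' + 1) K)ᵀ *ᵥ z) ⬝ᵥ ((Cfsg.jordanBlock (j' + 1) K)ᵀ *ᵥ z) = z 0 * z 0 := by
  have h1 : (Cfsg.jordanBlock (j' + 1) K)ᵀ *ᵥ z =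
      z + (Cfsg.jordanBlock (j' + 1) K - 1)ᵀ *ᵥ z := by
    rw [Matrix.transpose_sub, Matrix.transpose_one, Matrix.sub_mulVec, Matrix.one_mulVec]
    abel
  rw [h1]
  set s := (Cfsg.jordanBlock (j' + 1) K - 1)ᵀ *ᵥ z with hs
  have hs' : ∀ i : Fin (j' + 1), s i =
      if h : (i : ℕ) + 1 < j' + 1 then z ⟨(i : ℕ) + 1, h⟩ else 0 :=
    fun i => jordanBlock_sub_one_transpose_mulVec_apply z i
  have e1 : (z + s) ⬝ᵥ (z + s) = z ⬝ᵥ z + s ⬝ᵥ s := by
    simp only [dotProduct, Pi.add_apply]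
    rw [← Finset.sum_add_distrib]
    apply Finset.sum_congr rfl
    intro i _
    exact CharTwo.add_mul_self _ _
  have e2 : z ⬝ᵥ z = z 0 * z 0 + ∑ i : Fin j', z i.succ * z i.succ := by
    simp only [dotProduct]
    rw [Fin.sum_univ_succ]
  have e3 : s ⬝ᵥ s = ∑ i : Fin j', z i.succ * z i.succ := by
    simp only [dotProduct]
    rw [Fin.sum_univ_castSucc]
    have l1 : s (Fin.last j') = 0 := by
      rw [hs', dif_neg]
      simp
    rw [l1, mul_zero, add_zero]
    apply Finset.sum_congr rfl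
    intro i _
    have l2 : s i.castSucc = z i.succ := by
      rw [hs', dif_pos (by simp)]
      rfl
    rw [l2]
  rw [e1, e2, e3, add_assoc, CharTwo.add_self_eq_zero, add_zero]

/-- a unipotent isometry with a single Jordan block of even size, characteristic two -/
theorem OReal.single_even_char_two [CharP K 2] {j : ℕ} (hj : 1 ≤ j) : OReal K {2 * j} := by
  classical
  obtain ⟨j', rfl⟩ : ∃ j', j = j' + 1 := ⟨j - 1, by omega⟩
  have hP := hasType_jordanBlock (K := K) hj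
  have hu : IsUnit (Cfsg.jordanBlock (j' + 1) K) := by
    have := hP.isNilpotent.isUnit_one_add
    rwa [add_sub_cancel] at this
  obtain ⟨U, hU⟩ := hu
  obtain ⟨P, hPdef⟩ : ∃ P : Matrix (Fin (j' + 1)) (Fin (j' + 1)) K,
      P = Cfsg.jordanBlock (j' + 1) K := ⟨_, rfl⟩
  obtain ⟨R, hRdef⟩ : ∃ R : Matrix (Fin (j' + 1)) (Fin (j' + 1)) K,
      R = (((U⁻¹ : (Matrix (Fin (j' + 1)) (Fin (j' + 1)) K)ˣ) :
        Matrix (Fin (j' + 1)) (Fin (j' + 1)) K))ᵀ := ⟨_, rfl⟩
  have h1 : P * ((U⁻¹ : (Matrix (Fin (j' + 1)) (Fin (j' + 1)) K)ˣ) :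
      Matrix (Fin (j' + 1)) (Fin (j' + 1)) K) = 1 := by
    rw [hPdef, ← hU]; exact U.mul_inv
  have h2 : ((U⁻¹ : (Matrix (Fin (j' + 1)) (Fin (j' + 1)) K)ˣ) :
      Matrix (Fin (j' + 1)) (Fin (j' + 1)) K) * P = 1 := by
    rw [hPdef, ← hU]; exact U.inv_mul
  have hPR : Pᵀ * R = 1 := by
    rw [hRdef, ← Matrix.transpose_mul, h2, Matrix.transpose_one]
  have hRtype : HasType R {j' + 1} := by
    rw [hRdef]
    rw [hPdef] at h1
    exact hP.inv_transpose h1
  have hT : RankType (Matrix.fromBlocks P P 0 R) {2 * (j' + 1)} := by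
    rw [hPdef] at hPR ⊢
    exact rankType_regular_block hj R hPR hRtype
  -- the quadratic form
  obtain ⟨D, hD⟩ : ∃ D : Matrix (Fin (j' + 1)) (Fin (j' + 1)) K,
      D = Matrix.diagonal (Pi.single 0 1) := ⟨_, rfl⟩
  have hDq : ∀ x : Fin (j' + 1) → K, x ⬝ᵥ D *ᵥ x = x 0 * x 0 := by
    intro x
    rw [hD]
    simp only [dotProduct, Matrix.mulVec_diagonal]
    rw [Finset.sum_eq_single 0]
    · simp
    · intro b _ hb
      simp [hb]
    · intro h
      exact absurd (Finset.mem_univ _) h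
  have hDt : Dᵀ = D := by rw [hD, Matrix.diagonal_transpose]
  have hHq : ∀ w : Fin (j' + 1) ⊕ Fin (j' + 1) → K,
      w ⬝ᵥ (Matrix.fromBlocks D (1 : Matrix (Fin (j' + 1)) (Fin (j' + 1)) K) 0 D) *ᵥ w =
        w (Sum.inl 0) * w (Sum.inl 0) + (w ∘ Sum.inl) ⬝ᵥ (w ∘ Sum.inr) +
          w (Sum.inr 0) * w (Sum.inr 0) := by
    intro w
    have e : w = Sum.elim (w ∘ Sum.inl) (w ∘ Sum.inr) := by
      funext z; rcases z with z | z <;> rfl
    rw [Matrix.fromBlocks_mulVec]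
    conv_lhs => rw [e]
    rw [sumElim_dotProduct_sumElim]
    simp only [Sum.elim_comp_inl, Sum.elim_comp_inr, Matrix.zero_mulVec, zero_add,
      Matrix.one_mulVec, dotProduct_add, hDq]
    simp only [Function.comp_apply]
  refine ⟨Fin (j' + 1) ⊕ Fin (j' + 1), inferInstance, inferInstance,
    Matrix.fromBlocks D (1 : Matrix (Fin (j' + 1)) (Fin (j' + 1)) K) 0 D,
    Matrix.fromBlocks P P 0 R, ?_, ?_, hT⟩
  · rw [Matrix.fromBlocks_transpose, Matrix.fromBlocks_add]
    simp only [Matrix.transpose_zero, Matrix.transpose_one, add_zero, zero_add, hDt]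
    have hDD : D + D = 0 := by
      ext a b
      exact CharTwo.add_self_eq_zero _
    rw [hDD]
    have : (Matrix.fromBlocks (0 : Matrix (Fin (j' + 1)) (Fin (j' + 1)) K)
        (1 : Matrix (Fin (j' + 1)) (Fin (j' + 1)) K)
        (1 : Matrix (Fin (j' + 1)) (Fin (j' + 1)) K) (0 : Matrix (Fin (j' + 1)) (Fin (j' + 1)) K)) *
        (Matrix.fromBlocks (0 : Matrix (Fin (j' + 1)) (Fin (j' + 1)) K)
        (1 : Matrix (Fin (j' + 1)) (Fin (j' + 1)) K)
        (1 : Matrix (Fin (j' + 1)) (Fin (j' + 1)) K) (0 : Matrix (Fin (j' + 1)) (Fin (j' + 1)) K)) = 1 := by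
      rw [Matrix.fromBlocks_multiply]
      simp only [Matrix.zero_mul, Matrix.mul_zero, Matrix.one_mul, zero_add, add_zero]
      exact Matrix.fromBlocks_one
    exact (Matrix.isUnit_iff_isUnit_det _).mp ⟨⟨_, _, this, this⟩, rfl⟩
  · intro w
    rw [hHq, hHq]
    set x := w ∘ Sum.inl with hx
    set y := w ∘ Sum.inr with hy
    have hAw : Matrix.fromBlocks P P 0 R *ᵥ w = Sum.elim (P *ᵥ (x + y)) (R *ᵥ y) := by
      rw [Matrix.fromBlocks_mulVec, Matrix.zero_mulVec, zero_add, Matrix.mulVec_add]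
    rw [hAw]
    simp only [Sum.elim_inl, Sum.elim_inr, Sum.elim_comp_inl, Sum.elim_comp_inr]
    -- row zero of `P`
    have ha : ∀ u : Fin (j' + 1) → K, (P *ᵥ u) 0 = u 0 := by
      intro u
      rw [hPdef, Matrix.mulVec, dotProduct, Finset.sum_eq_single 0]
      · rw [jordanBlock_apply, if_pos (Or.inl rfl), one_mul]
      · intro b _ hb
        rw [jordanBlock_apply, if_neg, zero_mul]
        rintro (h | h)
        · exact hb (Fin.ext h.symm)
        · simp at h
      · intro h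
        exact absurd (Finset.mem_univ _) h
    have hb : (P *ᵥ (x + y)) ⬝ᵥ (R *ᵥ y) = (x + y) ⬝ᵥ y := by
      calc (P *ᵥ (x + y)) ⬝ᵥ (R *ᵥ y) = ((x + y) ᵥ* Pᵀ) ⬝ᵥ (R *ᵥ y) := by
            rw [Matrix.vecMul_transpose]
        _ = (x + y) ⬝ᵥ (Pᵀ *ᵥ (R *ᵥ y)) := (Matrix.dotProduct_mulVec (x + y) Pᵀ (R *ᵥ y)).symm
        _ = (x + y) ⬝ᵥ y := by rw [Matrix.mulVec_mulVec, hPR, Matrix.one_mulVec]
    have hc : (R *ᵥ y) 0 * (R *ᵥ y) 0 = y ⬝ᵥ y := by
      have := jordanBlock_transpose_dot_self j' (R *ᵥ y)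
      rw [← hPdef, Matrix.mulVec_mulVec, hPR, Matrix.one_mulVec] at this
      exact this.symm
    rw [ha, hb, hc, Pi.add_apply, CharTwo.add_mul_self, add_dotProduct]
    have hyy : y ⬝ᵥ y + y ⬝ᵥ y = 0 := CharTwo.add_self_eq_zero _
    have hx0 : x 0 = w (Sum.inl 0) := rfl
    have hy0 : y 0 = w (Sum.inr 0) := rfl
    rw [hx0, hy0]
    linear_combination hyy

end Cfsg.Agent.Lib.H11.Jordan
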