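/-
S2547 (Steinberg character of `PΩ_{2m+1}(q)`, `q` odd), the Ω side, part 2: `O = Ω · T`.
Every isometry of `quadFormOdd m F` (`m ≥ 1`, `|F|` odd) becomes an element of `Ω` after multiplication by a DIAGONAL
isometry (`1`, the reflection in `x₀`, `diag(ν, ν⁻¹)` on `(e₀, f₀)`, or their product).
Via Cartan–Dieudonné (`ConfOrth.exists_refl_list`) and the spinor norm criterion (`OmegaCrit.mem_Omega_iff_list`).
-/
import Cfsg.Agent.Lib.H11.ConfOrth6
import Cfsg.Agent.S0286

set_option autoImplicit false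

namespace Cfsg.Agent.Lib.H11.OddSt

open Matrix
open scoped MatrixGroups
open Cfsg.Agent.S0286 Cfsg.Agent.Lib.H13.HypPairs Cfsg.Agent.Lib.H13.OmegaCrit

variable {F : Type*} [Field F]

/-- diagonal matrices -/
def IsDg {ι : Type} (M : Matrix ι ι F) : Prop := ∀ k l, k ≠ l → M k l = 0

theorem isDg_one {ι : Type} [DecidableEq ι] : IsDg (1 : Matrix ι ι F) :=
  fun _ _ h => Matrix.one_apply_ne h

theorem IsDg.mul {ι : Type} [Fintype ι] {A B : Matrix ι ι F} (hA : IsDg A) (hB : IsDg B) :
    IsDg (A * B) := by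
  classical
  intro k l hkl
  rw [Matrix.mul_apply]
  apply Finset.sum_eq_zero
  intro j _
  by_cases hj : k = j
  · subst hj
    rw [hB k l hkl, mul_zero]
  · rw [hA k j hj, zero_mul]

/-- a matrix acting diagonally on vectors is diagonal -/
theorem isDg_of_mulVec {ι : Type} [Fintype ι] [DecidableEq ι] (M : Matrix ι ι F) (d : ι → F)
    (h : ∀ x : ι → F, M *ᵥ x = fun k => d k * x k) : IsDg M := by
  intro k l hkl
  have := congrFun (h (Pi.single l 1)) k
  rw [Matrix.mulVec_single_one] at this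
  rw [Matrix.col_apply] at this
  rw [this, Pi.single_eq_of_ne hkl, mul_zero]

/-- the inverse of an invertible diagonal matrix is diagonal -/
theorem IsDg.of_mul_eq_one {ι : Type} [Fintype ι] [DecidableEq ι] {A B : Matrix ι ι F} (hA : IsDg A)
    (h : A * B = 1) : IsDg B := by
  intro k l hkl
  have h1 : ∀ j, (A * B) k j = A k k * B k j := by
    intro j
    rw [Matrix.mul_apply, Finset.sum_eq_single k]
    · intro b _ hb
      rw [hA k b (Ne.symm hb), zero_mul]
    · intro hk
      exact absurd (Finset.mem_univ k) hk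
  have h2 := h1 k
  rw [h, Matrix.one_apply_eq] at h2
  have h3 := h1 l
  rw [h, Matrix.one_apply_ne hkl] at h3
  have hne : A k k ≠ 0 := by
    intro h0
    rw [h0, zero_mul] at h2
    exact one_ne_zero h2
  rcases mul_eq_zero.mp h3.symm with h4 | h4
  · exact absurd h4 hne
  · exact h4

section odd

variable (m : ℕ)

/-- the polar form of `quadFormOdd` -/
theorem polar_odd (x y : Unit ⊕ K m → F) :
    QuadraticMap.polar (⇑(oddQF F m)) x y = 2 * x (Sum.inl ()) * y (Sum.inl ()) +
      ∑ i : Fin m, (x (Sum.inr (Sum.inl i)) * y (Sum.inr (Sum.inr i)) +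
        x (Sum.inr (Sum.inr i)) * y (Sum.inr (Sum.inl i))) := by
  unfold QuadraticMap.polar
  rw [oddQF_apply, oddQF_apply, oddQF_apply]
  unfold Cfsg.quadFormOdd
  simp only [Pi.add_apply]
  rw [Finset.sum_add_distrib]
  have h1 : ∑ i : Fin m, (x (Sum.inr (Sum.inl i)) + y (Sum.inr (Sum.inl i))) *
      (x (Sum.inr (Sum.inr i)) + y (Sum.inr (Sum.inr i))) =
      ∑ i : Fin m, x (Sum.inr (Sum.inl i)) * x (Sum.inr (Sum.inr i)) +
      ∑ i : Fin m, y (Sum.inr (Sum.inl i)) * y (Sum.inr (Sum.inr i)) +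
      (∑ i : Fin m, x (Sum.inr (Sum.inl i)) * y (Sum.inr (Sum.inr i)) +
       ∑ i : Fin m, x (Sum.inr (Sum.inr i)) * y (Sum.inr (Sum.inl i))) := by
    rw [← Finset.sum_add_distrib, ← Finset.sum_add_distrib, ← Finset.sum_add_distrib]
    apply Finset.sum_congr rfl
    intro i _
    ring
  rw [h1]
  ring

/-- the vector `x₀` -/
def vx : Unit ⊕ K m → F := Pi.single (Sum.inl ()) 1

/-- the vector `e_i - c f_i` -/
def vu {m : ℕ} (i : Fin m) (c : F) : Unit ⊕ K m → F :=
  Pi.single (Sum.inr (Sum.inl i)) 1 - c • Pi.single (Sum.inr (Sum.inr i)) 1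

theorem Q_vx : oddQF F m (vx m) = 1 := by
  rw [oddQF_apply]
  unfold Cfsg.quadFormOdd vx
  simp

theorem Q_vu {m : ℕ} (i : Fin m) (c : F) : oddQF F m (vu i c) = -c := by
  rw [oddQF_apply]
  unfold Cfsg.quadFormOdd vu
  rw [Finset.sum_eq_single i]
  · simp
  · intro j _ hj
    simp [hj]
  · intro h
    exact absurd (Finset.mem_univ i) h

theorem polar_vx (x : Unit ⊕ K m → F) :
    QuadraticMap.polar (⇑(oddQF F m)) (vx m) x = 2 * x (Sum.inl ()) := by
  rw [polar_odd]
  unfold vx
  simp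

theorem polar_vu {m : ℕ} (i : Fin m) (c : F) (x : Unit ⊕ K m → F) :
    QuadraticMap.polar (⇑(oddQF F m)) (vu i c) x =
      x (Sum.inr (Sum.inr i)) - c * x (Sum.inr (Sum.inl i)) := by
  rw [polar_odd]
  unfold vu
  rw [Finset.sum_eq_single i]
  · simp
    ring
  · intro j _ hj
    simp [hj]
  · intro h
    exact absurd (Finset.mem_univ i) h

open Cfsg.Agent.Lib.H4 in
theorem refl_vx_mulVec (x : Unit ⊕ K m → F) :
    Cfsg.reflectionMatrix (⇑(oddQF F m)) (vx m) *ᵥ x =
      fun k => (if k = Sum.inl () then (-1 : F) else 1) * x k := by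
  rw [reflectionMatrix_mulVec, Q_vx, polar_vx]
  funext k
  rcases k with ⟨⟩ | k
  · simp [vx]
    ring
  · simp [vx]

open Cfsg.Agent.Lib.H4 in
theorem refl_vu_mulVec {m : ℕ} (i : Fin m) (c : F) (hc : c ≠ 0) (x : Unit ⊕ K m → F) :
    Cfsg.reflectionMatrix (⇑(oddQF F m)) (vu i c) *ᵥ x =
      fun k => if k = Sum.inr (Sum.inl i) then c⁻¹ * x (Sum.inr (Sum.inr i))
        else if k = Sum.inr (Sum.inr i) then c * x (Sum.inr (Sum.inl i)) else x k := by
  rw [reflectionMatrix_mulVec, Q_vu, polar_vu]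
  funext k
  rcases k with ⟨⟩ | k | k
  · simp [vu]
  · by_cases hk : k = i
    · subst hk
      simp [vu]
      field_simp
      ring
    · simp [vu, hk]
  · by_cases hk : k = i
    · subst hk
      simp [vu]
      field_simp
      ring
    · simp [vu, hk]

theorem isDg_refl_vx : IsDg (Cfsg.reflectionMatrix (⇑(oddQF F m)) (vx m)) :=
  isDg_of_mulVec _ _ (refl_vx_mulVec m)

theorem isDg_refl_vu {m : ℕ} (i : Fin m) (c : F) (hc : c ≠ 0) :
    IsDg (Cfsg.reflectionMatrix (⇑(oddQF F m)) (vu i 1) *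
      Cfsg.reflectionMatrix (⇑(oddQF F m)) (vu i c)) := by
  apply isDg_of_mulVec _ (fun k => if k = Sum.inr (Sum.inl i) then c
    else if k = Sum.inr (Sum.inr i) then c⁻¹ else 1)
  intro x
  rw [← Matrix.mulVec_mulVec, refl_vu_mulVec i c hc, refl_vu_mulVec i 1 one_ne_zero]
  funext k
  by_cases h1 : k = Sum.inr (Sum.inl i)
  · subst h1
    simp
  · by_cases h2 : k = Sum.inr (Sum.inr i)
    · subst h2
      simp
    · simp [h1, h2]

theorem isDg_inv_GL {ι : Type} [Fintype ι] [DecidableEq ι] (g : GL ι F) (h : IsDg (g : Matrix ι ι F)) :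
    IsDg ((g⁻¹ : GL ι F) : Matrix ι ι F) :=
  h.of_mul_eq_one (by rw [← Units.val_mul, mul_inv_cancel, Units.val_one])

/-- `O = Ω · T` for the `QuadraticForm` version -/
theorem covers_aux [Fintype F] (h2 : (2 : F) ≠ 0) (hm : 1 ≤ m)
    (g : ↥(Cfsg.isometryGroup F ⇑(oddQF F m))) :
    ∃ t : ↥(Cfsg.isometryGroup F ⇑(oddQF F m)),
      IsDg ((t : GL (Unit ⊕ K m) F) : Matrix (Unit ⊕ K m) (Unit ⊕ K m) F) ∧
      g * t ∈ Cfsg.Omega F ⇑(oddQF F m) := by
  classical
  have hQ := nondeg (F := F) h2 m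
  have hcard : 2 ≤ Fintype.card (Unit ⊕ K m) := by
    rw [Fintype.card_sum, Fintype.card_sum, Fintype.card_fin, Fintype.card_unique]
    omega
  obtain ⟨vs, hvs, hg⟩ := Cfsg.Agent.Lib.H11.ConfOrth.exists_refl_list (oddQF F m) hQ h2 g.1 g.2
  have hchar : ringChar F ≠ 2 := by
    intro h
    apply h2
    have := CharP.cast_eq_zero F (ringChar F)
    rw [h] at this
    exact_mod_cast this
  obtain ⟨ν, hν⟩ := FiniteField.exists_nonsquare hchar
  have hν0 : ν ≠ 0 := by
    rintro rfl
    exact hν ⟨0, by simp⟩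
  let i0 : Fin m := ⟨0, hm⟩
  set P := (vs.map (fun v => oddQF F m v)).prod with hP
  have hP0 : P ≠ 0 := by
    rw [hP]
    apply List.prod_ne_zero
    intro h0
    rw [List.mem_map] at h0
    obtain ⟨v, hv, hv0⟩ := h0
    exact hvs v hv hv0
  have hx : oddQF F m (vx m) ≠ 0 := by rw [Q_vx]; exact one_ne_zero
  have hu1 : oddQF F m (vu i0 1) ≠ 0 := by rw [Q_vu]; exact neg_ne_zero.mpr one_ne_zero
  have huν : oddQF F m (vu i0 ν) ≠ 0 := by rw [Q_vu]; exact neg_ne_zero.mpr hν0
  -- the key: for every list `ws` of the four shapes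
  have key : ∀ ws : List (Unit ⊕ K m → F), (∀ v ∈ ws, oddQF F m v ≠ 0) →
      IsDg (ws.map (fun v => Cfsg.reflectionMatrix (⇑(oddQF F m)) v)).prod →
      Even (vs.length + ws.length) → IsSquare (P * (ws.map (fun v => oddQF F m v)).prod) →
      ∃ t : ↥(Cfsg.isometryGroup F ⇑(oddQF F m)),
        IsDg ((t : GL (Unit ⊕ K m) F) : Matrix (Unit ⊕ K m) (Unit ⊕ K m) F) ∧
        g * t ∈ Cfsg.Omega F ⇑(oddQF F m) := by
    intro ws hws hdg hev hsq
    obtain ⟨t, ht⟩ := exists_of_list (oddQF F m) ws hws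
    refine ⟨t, by rw [ht]; exact hdg, ?_⟩
    rw [mem_Omega_iff_list (oddQF F m) h2 hcard hQ (g * t) (vs ++ ws)
      (by
        intro v hv
        rcases List.mem_append.mp hv with h | h
        · exact hvs v h
        · exact hws v h)
      (by
        rw [Subgroup.coe_mul, Units.val_mul, hg, ht, List.map_append, List.prod_append])]
    refine ⟨by rw [List.length_append]; exact hev, ?_⟩
    rw [List.map_append, List.prod_append]
    exact hsq
  have hsqν : ¬ IsSquare P → IsSquare (P * ν) := by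
    intro hns
    rw [← quadraticChar_one_iff_isSquare (mul_ne_zero hP0 hν0), map_mul,
      quadraticChar_neg_one_iff_not_isSquare.mpr hns, quadraticChar_neg_one_iff_not_isSquare.mpr hν]
    norm_num
  by_cases hev : Even vs.length
  · by_cases hsq : IsSquare P
    · exact key [] (by simp) (by simpa using isDg_one) (by simpa using hev) (by simpa using hsq)
    · refine key [vu i0 1, vu i0 ν] ?_ ?_ ?_ ?_
      · intro v hv
        simp only [List.mem_cons, List.not_mem_nil, or_false] at hv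
        rcases hv with rfl | rfl
        · exact hu1
        · exact huν
      · simpa using isDg_refl_vu i0 ν hν0
      · simp only [List.length_cons, List.length_nil]
        exact hev.add (by decide)
      · simp only [List.map_cons, List.map_nil, List.prod_cons, List.prod_nil, Q_vu, mul_one]
        have : P * (-1 * -ν) = P * ν := by ring
        rw [this]
        exact hsqν hsq
  · rw [Nat.not_even_iff_odd] at hev
    by_cases hsq : IsSquare P
    · refine key [vx m] ?_ ?_ ?_ ?_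
      · intro v hv
        simp only [List.mem_cons, List.not_mem_nil, or_false] at hv
        rw [hv]
        exact hx
      · simpa using isDg_refl_vx m
      · simp only [List.length_cons, List.length_nil]
        exact hev.add_odd (by decide)
      · simp only [List.map_cons, List.map_nil, List.prod_cons, List.prod_nil, Q_vx, mul_one]
        exact hsq
    · refine key [vx m, vu i0 1, vu i0 ν] ?_ ?_ ?_ ?_
      · intro v hv
        simp only [List.mem_cons, List.not_mem_nil, or_false] at hv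
        rcases hv with rfl | rfl | rfl
        · exact hx
        · exact hu1
        · exact huν
      · simp only [List.map_cons, List.map_nil, List.prod_cons, List.prod_nil, Matrix.mul_one]
        exact (isDg_refl_vx m).mul (isDg_refl_vu i0 ν hν0)
      · simp only [List.length_cons, List.length_nil]
        exact hev.add_odd (by decide)
      · simp only [List.map_cons, List.map_nil, List.prod_cons, List.prod_nil, Q_vx, Q_vu, mul_one]
        have : P * (1 * (-1 * -ν)) = P * ν := by ring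
        rw [this]
        exact hsqν hsq

end odd

/-- **`O_{2m+1}(F) = Ω · T`**: every isometry of `quadFormOdd m F` (`m ≥ 1`, `|F|` odd) times a suitable diagonal
isometry lies in `Ω`. -/
theorem covers [Fintype F] (hodd : Odd (Fintype.card F)) (m : ℕ) (hm : 1 ≤ m)
    (g : ↥(Cfsg.isometryGroup F (Cfsg.quadFormOdd m F))) :
    ∃ t : ↥(Cfsg.isometryGroup F (Cfsg.quadFormOdd m F)),
      (∀ k l, k ≠ l → ((t : GL (Unit ⊕ (Fin m ⊕ Fin m)) F) :
        Matrix (Unit ⊕ (Fin m ⊕ Fin m)) (Unit ⊕ (Fin m ⊕ Fin m)) F) k l = 0) ∧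
      (∀ k l, k ≠ l → (((t⁻¹ : ↥(Cfsg.isometryGroup F (Cfsg.quadFormOdd m F))) :
        GL (Unit ⊕ (Fin m ⊕ Fin m)) F) :
        Matrix (Unit ⊕ (Fin m ⊕ Fin m)) (Unit ⊕ (Fin m ⊕ Fin m)) F) k l = 0) ∧
      g * t ∈ Cfsg.Omega F (Cfsg.quadFormOdd m F) := by
  have h2 : (2 : F) ≠ 0 := two_ne_zero_of_odd hodd
  have key : ∀ Q₀ : (Unit ⊕ (Fin m ⊕ Fin m) → F) → F, ⇑(oddQF F m) = Q₀ →
      ∀ g : ↥(Cfsg.isometryGroup F Q₀), ∃ t : ↥(Cfsg.isometryGroup F Q₀),
        IsDg ((t : GL (Unit ⊕ (Fin m ⊕ Fin m)) F) :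
          Matrix (Unit ⊕ (Fin m ⊕ Fin m)) (Unit ⊕ (Fin m ⊕ Fin m)) F) ∧
        g * t ∈ Cfsg.Omega F Q₀ := by
    rintro _ rfl g
    exact covers_aux m h2 hm g
  obtain ⟨t, ht1, ht2⟩ := key _ (coe_oddQF m) g
  exact ⟨t, ht1, isDg_inv_GL t.1 ht1, ht2⟩

end Cfsg.Agent.Lib.H11.OddSt
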