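/-
S2547 (Steinberg character of `PΩ_{2m+1}(q)`, `q` odd), the Ω side, part 3: for `m ≥ 3` the centre of `Ω_{2m+1}(F)` is
trivial and the `p`-part of `|PΩ_{2m+1}(F)|` is `q^(m²)`.
-/
import Cfsg.Agent.S0292
import Cfsg.Agent.Lib.H12.StPSLD

set_option autoImplicit false

namespace Cfsg.Agent.Lib.H11.OddSt

open Cfsg.Agent.Lib.H11.OmegaGen

variable {F : Type*} [Field F] [Fintype F]

/-- the centre of `Ω_{2m+1}(F)` is trivial (`m ≥ 3`, `|F|` odd) -/
theorem center_eq_bot (hodd : Odd (Fintype.card F)) (m : ℕ) (hm : 3 ≤ m) :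
    Subgroup.center ↥(Cfsg.Omega F (Cfsg.quadFormOdd m F)) = ⊥ := by
  have h2 : (2 : F) ≠ 0 := Cfsg.Agent.S0286.two_ne_zero_of_odd hodd
  have hcard : Fintype.card (Unit ⊕ (Fin m ⊕ Fin m)) = 1 + (m + m) := by
    rw [Fintype.card_sum, Fintype.card_sum, Fintype.card_fin, Fintype.card_unique]
  have hnd := Cfsg.Agent.S0286.nondeg (F := F) h2 m
  have hcen := center_omega_eq_bot_of_odd (Cfsg.Agent.S0286.oddQF F m) hnd h2
    (by rw [hcard]; omega) (by rw [hcard]; exact ⟨m, by ring⟩)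
  rw [Cfsg.Agent.S0286.coe_oddQF] at hcen
  exact hcen

/-- the `p`-part of `|PΩ_{2m+1}(F)|` is `q^(m²)` (`m ≥ 3`, `|F|` odd) -/
theorem ppart (p : ℕ) [Fact p.Prime] [CharP F p] (hodd : Odd (Fintype.card F)) (m : ℕ) (hm : 3 ≤ m) :
    p ^ (Nat.card (Cfsg.POmega F (Cfsg.quadFormOdd m F))).factorization p =
      Fintype.card F ^ (m ^ 2) := by
  obtain ⟨f, hp, hf⟩ := FiniteField.card F p
  set q := Fintype.card F with hq
  have hq1 : 1 ≤ q := Fintype.card_pos
  have hpq : p ∣ q := by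
    rw [hf]
    exact dvd_pow_self p f.ne_zero
  have hp2 : p ≠ 2 := by
    rintro rfl
    obtain ⟨k, hk⟩ := hpq
    rw [hk] at hodd
    exact (Nat.not_even_iff_odd.mpr hodd) ⟨k, by ring⟩
  have hcard := Cfsg.Agent.S0292.result (F := F) (q := q) rfl hodd m hm
  set N := Nat.card (Cfsg.POmega F (Cfsg.quadFormOdd m F)) with hN
  have hN0 : N ≠ 0 := by
    intro h0
    have hq0 : q ^ (m ^ 2) ≠ 0 := pow_ne_zero _ (by omega)
    rw [h0, mul_zero] at hcard
    rcases mul_eq_zero.mp hcard.symm with h | h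
    · exact hq0 h
    · rw [Finset.prod_eq_zero_iff] at h
      obtain ⟨i, _, hi⟩ := h
      have : 2 ≤ q := by
        rw [hf]
        calc 2 ≤ p := hp.two_le
          _ = p ^ 1 := (pow_one p).symm
          _ ≤ p ^ (f : ℕ) := Nat.pow_le_pow_right hp.pos f.pos
      have h4 : 2 ≤ q ^ (2 * (i + 1)) := by
        calc 2 ≤ q := this
          _ = q ^ 1 := (pow_one q).symm
          _ ≤ q ^ (2 * (i + 1)) := Nat.pow_le_pow_right hq1 (by omega)
      omega
  have hcop : (∏ i ∈ Finset.range m, (q ^ (2 * (i + 1)) - 1)).Coprime p := by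
    apply Nat.Coprime.prod_left
    intro i _
    apply Cfsg.Agent.Lib.H12.StPSL.coprime_pred_of_dvd hp
    · exact dvd_trans hpq (dvd_pow_self q (by omega))
    · exact Nat.one_le_pow _ _ hq1
  have hM0 : (∏ i ∈ Finset.range m, (q ^ (2 * (i + 1)) - 1)) ≠ 0 := by
    intro h0
    rw [h0, mul_zero] at hcard
    omega
  have hvM : (∏ i ∈ Finset.range m, (q ^ (2 * (i + 1)) - 1)).factorization p = 0 :=
    Nat.factorization_eq_zero_of_not_dvd (fun h =>
      (Nat.Prime.coprime_iff_not_dvd hp).mp hcop.symm h)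
  have hq0 : q ^ (m ^ 2) ≠ 0 := pow_ne_zero _ (by omega)
  have hv2 : (2 : ℕ).factorization p = 0 := by
    apply Nat.factorization_eq_zero_of_not_dvd
    intro h
    have := (Nat.prime_dvd_prime_iff_eq hp Nat.prime_two).mp h
    exact hp2 this
  have h1 : (2 * N).factorization p = N.factorization p := by
    rw [Nat.factorization_mul (by norm_num) hN0, Finsupp.add_apply, hv2, zero_add]
  rw [← h1, hcard, Nat.factorization_mul hq0 hM0, Finsupp.add_apply, hvM, add_zero]
  have e3 : q ^ (m ^ 2) = p ^ ((f : ℕ) * (m ^ 2)) := by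
    rw [hf, ← pow_mul]
  rw [e3, hp.factorization_pow, Finsupp.single_eq_same]

end Cfsg.Agent.Lib.H11.OddSt
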