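/-
S2547 (Steinberg character of `PΩ_{2m+1}(q)`, `q` odd), the Ω side, part 1:
transport of `HasSteinberg` along an isomorphism and the small cases `m = 1, 2` through the exceptional isomorphisms
`PΩ_3(q) ≅ PSL_2(q)` (S0298) and `PΩ_5(q) ≅ PSp_4(q)` (S0301) from S2544 / S2545.
-/
import Cfsg.Agent.Lib.H8.BNSteinberg
import Cfsg.Agent.Lib.H23.RelMGroup
import Cfsg.Agent.S0298
import Cfsg.Agent.S0301
import Cfsg.Agent.S2544
import Cfsg.Agent.S2545

set_option autoImplicit false

namespace Cfsg.Agent.Lib.H11.OddSt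

open Cfsg.Agent.Lib.H8.BNSteinberg

/-- `HasSteinberg` is invariant under isomorphism -/
theorem hasSteinberg_of_mulEquiv {A B : Type*} [Group A] [Group B] (e : A ≃* B) (p : ℕ) [Fact p.Prime]
    (h : HasSteinberg p A) : HasSteinberg p B := by
  obtain ⟨χ, hχ, hQ⟩ := h
  refine ⟨χ ∘ e.symm, Cfsg.Agent.Lib.H23.isIrrCharacter_comp_mulEquiv e.symm hχ, fun Q => ?_⟩
  have hr : (Q : Subgroup B) ≤ e.toMonoidHom.range := by
    intro x _
    exact ⟨e.symm x, e.apply_symm_apply x⟩
  let Q' : Sylow p A := Q.comapOfInjective e.toMonoidHom e.injective hr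
  have hQ' : ∀ a : A, a ∈ Q' ↔ e a ∈ Q := fun a => Iff.rfl
  obtain ⟨h1, h2⟩ := hQ Q'
  constructor
  · show χ (e.symm 1) = _
    rw [map_one, h1]
    congr 1
    refine Nat.card_congr ⟨fun a => ⟨e a.1, (hQ' a.1).1 a.2⟩, fun b => ⟨e.symm b.1, ?_⟩, ?_, ?_⟩
    · apply (hQ' _).2
      rw [e.apply_symm_apply]
      exact b.2
    · intro a
      apply Subtype.ext
      exact e.symm_apply_apply a.1
    · intro b
      apply Subtype.ext
      exact e.apply_symm_apply b.1
  · intro x hx hx1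
    show χ (e.symm x) = 0
    apply h2
    · apply (hQ' _).2
      rw [e.apply_symm_apply]
      exact hx
    · intro h
      apply hx1
      have := congrArg e h
      rwa [e.apply_symm_apply, map_one] at this

variable {F : Type*} [Field F] [Fintype F]

/-- S2547 for `m = 1` -/
theorem hasSteinberg_one (p : ℕ) [Fact p.Prime] [CharP F p] (hodd : Odd (Fintype.card F)) :
    HasSteinberg p (Cfsg.POmega F (Cfsg.quadFormOdd 1 F)) := by
  obtain ⟨e⟩ := Cfsg.Agent.S0298.result (F := F) hodd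
  exact hasSteinberg_of_mulEquiv e.symm p (Cfsg.Agent.S2544.result (F := F) p 2 le_rfl)

/-- S2547 for `m = 2` -/
theorem hasSteinberg_two (p : ℕ) [Fact p.Prime] [CharP F p] (hodd : Odd (Fintype.card F)) :
    HasSteinberg p (Cfsg.POmega F (Cfsg.quadFormOdd 2 F)) := by
  obtain ⟨e⟩ := Cfsg.Agent.S0301.result (F := F) hodd
  exact hasSteinberg_of_mulEquiv e.symm p (Cfsg.Agent.S2545.result (F := F) p 2 (by norm_num))

end Cfsg.Agent.Lib.H11.OddSt
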