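import Cfsg.Agent.Lib.H11.OmNd13
import Cfsg.Agent.Lib.H11.SpinSign

/-!
Imprimitive subgroups of `Ω` in odd dimension: basic facts about orthogonal decompositions into
isometric non-degenerate blocks.
-/

set_option autoImplicit false
set_option linter.unusedSimpArgs false
set_option linter.unusedSectionVars false
set_option linter.unusedVariables false

namespace Cfsg.Agent.Lib.H11.OmImp

open Matrix Module
open Cfsg.Agent.Lib.H28 Cfsg.Agent.Lib.H11.SubspMax
open Cfsg.Agent.Lib.H11.CD Cfsg.Agent.Lib.H11.SiegelGen Cfsg.Agent.Lib.H11.OrMax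
open Cfsg.Agent.Lib.H11.OmTs Cfsg.Agent.Lib.H11.OmNd
open Cfsg.Agent.Lib.H11.SpPair (finrank_le_inf_ker_add_one exists_mem_kers_not_mem)

variable {F : Type*} [Field F] {n : ℕ} (Q : QuadraticForm F (Fin n → F))

set_option quotPrecheck false in
local notation "P" => QuadraticMap.polar (⇑Q)

/-- an orthogonal decomposition into isometric non-degenerate blocks of dimension `k` -/
structure ODec {t : ℕ} (k : ℕ) (D : Fin t → Submodule F (Fin n → F)) : Prop where
  orth : ∀ i j, i ≠ j → ∀ a ∈ D i, ∀ b ∈ D j, P a b = 0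
  span : ∀ x : Fin n → F, ∃ c : Fin t → (Fin n → F), (∀ i, c i ∈ D i) ∧ x = ∑ i, c i
  nd : ∀ i, ∀ a ∈ D i, a ≠ 0 → ∃ a' ∈ D i, P a a' ≠ 0
  fr : ∀ i, finrank F (D i) = k
  iso : ∀ i j, ∃ e : D i ≃ₗ[F] D j, ∀ w : D i, Q ((e w : D j) : Fin n → F) = Q (w : Fin n → F)

variable {Q} {t k : ℕ} {D : Fin t → Submodule F (Fin n → F)}

theorem ODec.ndOn (h : ODec Q k D) (i : Fin t) :
    Cfsg.Geo.IsNondegenerateOn (QuadraticMap.polar (⇑Q)) (D i) := by
  intro w hw hw0
  obtain ⟨a', ha', hne⟩ := h.nd i w hw hw0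
  exact ⟨⟨a', ha', by rw [P_comm]; exact hne⟩, ⟨a', ha', hne⟩⟩

theorem ODec.pair (h : ODec Q k D) (i : Fin t) : NdPair Q (D i) (perp Q (D i)) :=
  ndPair_perp (h.ndOn i)

theorem ODec.le_perp (h : ODec Q k D) {i j : Fin t} (hij : i ≠ j) : D j ≤ perp Q (D i) := by
  intro x hx
  rw [mem_perp]
  intro w hw
  exact h.orth i j hij w hw x hx

/-- the part of a block orthogonal to a vector -/
noncomputable def Xv (A : Submodule F (Fin n → F)) (v : Fin n → F) : Submodule F (Fin n → F) :=
  A ⊓ LinearMap.ker (fr Q v)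

theorem mem_Xv {A : Submodule F (Fin n → F)} {v x : Fin n → F} :
    x ∈ Xv (Q := Q) A v ↔ x ∈ A ∧ P v x = 0 := by
  unfold Xv
  rw [Submodule.mem_inf, LinearMap.mem_ker, fr_apply]

theorem finrank_Xv (A : Submodule F (Fin n → F)) (v : Fin n → F) :
    finrank F A ≤ finrank F (Xv (Q := Q) A v) + 1 :=
  finrank_le_inf_ker_add_one A (fr Q v)

/-- the orthogonal complement of a non-singular vector inside a non-degenerate subspace is
non-degenerate -/
theorem nd_Xv (h2 : (2 : F) ≠ 0) {A : Submodule F (Fin n → F)}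
    (hA : ∀ a ∈ A, a ≠ 0 → ∃ a' ∈ A, P a a' ≠ 0) {v : Fin n → F} (hv : v ∈ A) (hQv : Q v ≠ 0) :
    ∀ a ∈ Xv (Q := Q) A v, a ≠ 0 → ∃ a' ∈ Xv (Q := Q) A v, P a a' ≠ 0 := by
  intro a ha ha0
  rw [mem_Xv] at ha
  obtain ⟨d, hd, hne⟩ := hA a ha.1 ha0
  refine ⟨d - (P v d / (2 * Q v)) • v, ?_, ?_⟩
  · rw [mem_Xv]
    refine ⟨A.sub_mem hd (A.smul_mem _ hv), ?_⟩
    rw [QuadraticMap.polar_sub_right, QuadraticMap.polar_smul_right, P_self, smul_eq_mul]
    field_simp
    ring
  · rw [QuadraticMap.polar_sub_right, QuadraticMap.polar_smul_right, P_comm Q a v, ha.2, smul_zero,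
      sub_zero]
    exact hne

/-- universality: a non-degenerate subspace of dimension at least `2` represents every non-zero
scalar -/
theorem exists_Q_eq_of_nd [Finite F] (h2 : (2 : F) ≠ 0) {A : Submodule F (Fin n → F)}
    (hA : ∀ a ∈ A, a ≠ 0 → ∃ a' ∈ A, P a a' ≠ 0) (hfr : 2 ≤ finrank F A) (c : F) (hc : c ≠ 0) :
    ∃ a ∈ A, Q a = c := by
  let B : LinearMap.BilinForm F A := (2 * c)⁻¹ • QuadraticMap.polarBilin (Q.comp A.subtype)
  have hk : (2 * c)⁻¹ ≠ 0 := inv_ne_zero (mul_ne_zero h2 hc)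
  have hBapp : ∀ x y : A, B x y = (2 * c)⁻¹ * P (x : Fin n → F) (y : Fin n → F) := by
    intro x y
    simp only [B, LinearMap.smul_apply, QuadraticMap.polarBilin_apply_apply, smul_eq_mul]
    rfl
  have hS : B.IsSymm := ⟨fun x y => by
    rw [hBapp, hBapp, QuadraticMap.polar_comm]⟩
  have hB : B.Nondegenerate := by
    constructor
    · intro x hx
      by_contra hx0
      have hx0' : (x : Fin n → F) ≠ 0 := fun h => hx0 (Subtype.ext h)
      obtain ⟨a', ha', hne⟩ := hA x x.2 hx0'
      apply hne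
      have := hx ⟨a', ha'⟩
      rw [hBapp] at this
      exact (mul_eq_zero.1 this).resolve_left hk
    · intro x hx
      by_contra hx0
      have hx0' : (x : Fin n → F) ≠ 0 := fun h => hx0 (Subtype.ext h)
      obtain ⟨a', ha', hne⟩ := hA x x.2 hx0'
      apply hne
      have := hx ⟨a', ha'⟩
      rw [hBapp] at this
      rw [P_comm]
      exact (mul_eq_zero.1 this).resolve_left hk
  obtain ⟨v, hv⟩ := Cfsg.Agent.S0756.exists_norm_one h2 B hS hB hfr
  refine ⟨v.1, v.2, ?_⟩
  rw [hBapp, Cfsg.Agent.Lib.H4.polar_self] at hv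
  field_simp at hv
  linear_combination hv

/-- Lemma V: in a non-degenerate subspace of dimension at least `3`, a vector of norm `Q v` with
prescribed product with the non-singular vector `v` -/
theorem exists_vec [Finite F] (h2 : (2 : F) ≠ 0) {A : Submodule F (Fin n → F)}
    (hA : ∀ a ∈ A, a ≠ 0 → ∃ a' ∈ A, P a a' ≠ 0) (hfr : 3 ≤ finrank F A) {v : Fin n → F}
    (hv : v ∈ A) (hQv : Q v ≠ 0) (p : F) : ∃ y ∈ A, Q y = Q v ∧ P v y = p := by
  obtain ⟨s, hs⟩ : ∃ s, s = p / (2 * Q v) := ⟨_, rfl⟩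
  have hps : 2 * Q v * s = p := by
    rw [hs]; field_simp
  by_cases hc : Q v * (1 - s * s) = 0
  · refine ⟨s • v, A.smul_mem _ hv, ?_, ?_⟩
    · rw [QuadraticMap.map_smul, smul_eq_mul]
      linear_combination -hc
    · rw [QuadraticMap.polar_smul_right, P_self, smul_eq_mul, ← hps]; ring
  · have hX := finrank_Xv (Q := Q) A v
    obtain ⟨w, hw, hQw⟩ := exists_Q_eq_of_nd h2 (nd_Xv h2 hA hv hQv) (by omega) _ hc
    rw [mem_Xv] at hw
    refine ⟨s • v + w, A.add_mem (A.smul_mem _ hv) hw.1, ?_, ?_⟩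
    · rw [Q_add, QuadraticMap.map_smul, hQw, QuadraticMap.polar_smul_left, hw.2, smul_eq_mul]
      ring
    · rw [QuadraticMap.polar_add_right, QuadraticMap.polar_smul_right, P_self, hw.2, smul_eq_mul,
        ← hps]
      ring

/-! ### Small facts about finite fields -/

theorem exists_ne3 [Fintype F] [DecidableEq F] (hq : 5 ≤ Fintype.card F) :
    ∃ c : F, c ≠ 0 ∧ c ≠ 1 ∧ c ≠ -1 := by
  by_contra hcon
  push Not at hcon
  have hsub : (Finset.univ : Finset F) ⊆ {0, 1, -1} := by
    intro c _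
    by_cases h0 : c = 0
    · simp [h0]
    · by_cases h1 : c = 1
      · simp [h1]
      · have := hcon c h0 h1
        simp [this]
  have h1 := Finset.card_le_card hsub
  have h2 : ({0, 1, -1} : Finset F).card ≤ 3 := Finset.card_le_three
  rw [Finset.card_univ] at h1
  omega

theorem exists_avoid2 [Fintype F] [DecidableEq F] (hq : 3 ≤ Fintype.card F) (a b : F) :
    ∃ p : F, p ≠ a ∧ p ≠ b := by
  by_contra hcon
  push Not at hcon
  have hsub : (Finset.univ : Finset F) ⊆ {a, b} := by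
    intro c _
    by_cases h0 : c = a
    · simp [h0]
    · have := hcon c h0
      simp [this]
  have h1 := Finset.card_le_card hsub
  have h2 : ({a, b} : Finset F).card ≤ 2 := Finset.card_le_two
  rw [Finset.card_univ] at h1
  omega

/-- every element of a finite field of odd order is a sum of two squares -/
theorem exists_sq_add_sq [Fintype F] (h2 : (2 : F) ≠ 0) (c : F) : ∃ a b : F, a * a + b * b = c := by
  classical
  have hchar : ringChar F ≠ 2 := by
    intro h
    apply h2
    have := CharP.cast_eq_zero F (ringChar F)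
    rw [h] at this
    exact_mod_cast this
  have hodd : Fintype.card F % 2 = 1 := FiniteField.odd_card_of_char_ne_two hchar
  obtain ⟨a, b, hab⟩ := FiniteField.exists_root_sum_quadratic (R := F)
    (f := Polynomial.X ^ 2) (g := Polynomial.X ^ 2 - Polynomial.C c)
    (Polynomial.degree_X_pow 2) (Polynomial.degree_X_pow_sub_C (by decide) _) hodd
  refine ⟨a, b, ?_⟩
  simp only [Polynomial.eval_pow, Polynomial.eval_X, Polynomial.eval_sub, Polynomial.eval_C] at hab
  linear_combination hab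

end Cfsg.Agent.Lib.H11.OmImp
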