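import Cfsg.Agent.Lib.H11.OmImp1

/-!
Imprimitive subgroups of `Ω` in odd dimension: elements of the stabiliser acting on one block.
-/

set_option autoImplicit false
set_option linter.unusedSimpArgs false
set_option linter.unusedSectionVars false
set_option linter.unusedVariables false

namespace Cfsg.Agent.Lib.H11.OmImp

open Matrix Module
open Cfsg.Agent.Lib.H28 Cfsg.Agent.Lib.H11.SubspMax
open Cfsg.Agent.Lib.H11.CD Cfsg.Agent.Lib.H11.SiegelGen Cfsg.Agent.Lib.H11.OrMax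
open Cfsg.Agent.Lib.H11.OmTs Cfsg.Agent.Lib.H11.OmNd Cfsg.Agent.Lib.H11.PairStab
open Cfsg.Agent.Lib.H11.SpinSign (reflEl_smul reflEl_mul_self reflEl_conj)
open Cfsg.Agent.Lib.H11.SpPair (finrank_le_inf_ker_add_one exists_mem_kers_not_mem)

variable {F : Type*} [Field F] {n : ℕ} {Q : QuadraticForm F (Fin n → F)}

set_option quotPrecheck false in
local notation "P" => QuadraticMap.polar (⇑Q)

variable {t k : ℕ} {D : Fin t → Submodule F (Fin n → F)}

/-- the isometry `g` acts inside `A` and trivially on the orthogonal complement of `A` -/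
def Loc (Q : QuadraticForm F (Fin n → F)) (A : Submodule F (Fin n → F))
    (g : ↥(Cfsg.isometryGroup F ⇑Q)) : Prop :=
  (∀ y ∈ A, act Q g y ∈ A) ∧ ∀ e ∈ perp Q A, act Q g e = e

theorem Loc.mul {A : Submodule F (Fin n → F)} {g g' : ↥(Cfsg.isometryGroup F ⇑Q)}
    (hg : Loc Q A g) (hg' : Loc Q A g') : Loc Q A (g * g') := by
  refine ⟨fun y hy => ?_, fun e he => ?_⟩
  · rw [act_mul]; exact hg.1 _ (hg'.1 y hy)
  · rw [act_mul, hg'.2 e he, hg.2 e he]

theorem loc_refl {A : Submodule F (Fin n → F)} {v : Fin n → F} (hv : v ∈ A) (hQv : Q v ≠ 0) :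
    Loc Q A (reflEl Q v hQv) := by
  refine ⟨fun y hy => ?_, fun e he => ?_⟩
  · rw [reflEl_act]; exact A.sub_mem hy (A.smul_mem _ hv)
  · exact reflEl_act_of_polar_zero Q v hQv e (mem_perp.1 he v hv)

theorem loc_sg {A : Submodule F (Fin n → F)} {u y : Fin n → F} (hu : u ∈ A) (hy : y ∈ A)
    (hQu : Q u = 0) (huy : P u y = 0) : Loc Q A (sg Q u y) := by
  refine ⟨fun x hx => ?_, fun e he => ?_⟩
  · rw [sg_act Q u y hQu huy]
    exact A.sub_mem (A.sub_mem (A.add_mem hx (A.smul_mem _ hy)) (A.smul_mem _ hu)) (A.smul_mem _ hu)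
  · rw [sg_act Q u y hQu huy, mem_perp.1 he u hu, mem_perp.1 he y hy]
    simp

section fin
variable [Fintype F]

/-- membership in the stabiliser of the decomposition -/
theorem mem_N_of_mapsTo (h : ODec Q k D) (g : ↥(Cfsg.isometryGroup F ⇑Q))
    (hg : g ∈ commutator ↥(Cfsg.isometryGroup F ⇑Q)) (π : Equiv.Perm (Fin t))
    (hmap : ∀ i, ∀ y ∈ D i, act Q g y ∈ D (π i)) :
    (g : GL (Fin n) F) ∈ Cfsg.Geo.decompositionStabilizer D ⊓ Cfsg.Geo.omegaGL (⇑Q) := by
  refine ⟨⟨π, fun i => ?_⟩, coe_mem_omegaGL Q g hg⟩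
  apply Submodule.eq_of_le_of_finrank_eq
  · rintro _ ⟨y, hy, rfl⟩
    rw [Matrix.toLin'_apply, act_def]
    exact hmap i y hy
  · rw [finrank_map_gl, h.fr, h.fr]

/-- elements acting on one block only lie in the stabiliser -/
theorem Loc.mem_N (h : ODec Q k D) {i : Fin t} {g : ↥(Cfsg.isometryGroup F ⇑Q)}
    (hl : Loc Q (D i) g) (hg : g ∈ commutator ↥(Cfsg.isometryGroup F ⇑Q)) :
    (g : GL (Fin n) F) ∈ Cfsg.Geo.decompositionStabilizer D ⊓ Cfsg.Geo.omegaGL (⇑Q) := by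
  apply mem_N_of_mapsTo h g hg 1
  intro j y hy
  rw [Equiv.Perm.one_apply]
  by_cases hji : j = i
  · subst hji; exact hl.1 y hy
  · rw [hl.2 y (h.le_perp (Ne.symm hji) hy)]; exact hy

/-- products of two reflections of equal norm lie in `Ω` -/
theorem rr_mem_comm (hQ : (QuadraticMap.polarBilin Q).Nondegenerate) (hn : 7 ≤ n)
    {v v' : Fin n → F} (hv : Q v ≠ 0) (hv' : Q v' ≠ 0) (hvv' : Q v' = Q v) :
    reflEl Q v hv * reflEl Q v' hv' ∈ commutator ↥(Cfsg.isometryGroup F ⇑Q) := by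
  rw [comm_eq_S Q hQ hn]
  obtain ⟨h1, h2, h3⟩ := rel_all' Q hQ (by omega) v v' hv hvv'
  exact h3

/-- Lemma W: inside a block, `Ω`-elements of the stabiliser acting on that block only are
transitive on the vectors of a given non-zero norm -/
theorem exists_move (h2 : (2 : F) ≠ 0) (hQ : (QuadraticMap.polarBilin Q).Nondegenerate)
    (hn : 7 ≤ n) {A : Submodule F (Fin n → F)}
    (hA : ∀ a ∈ A, a ≠ 0 → ∃ a' ∈ A, P a a' ≠ 0) (hfr : 3 ≤ finrank F A)
    {v v' : Fin n → F} (hv : v ∈ A) (hv' : v' ∈ A) (hQv : Q v ≠ 0) (hvv' : Q v' = Q v) :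
    ∃ g : ↥(Cfsg.isometryGroup F ⇑Q), g ∈ commutator ↥(Cfsg.isometryGroup F ⇑Q) ∧ Loc Q A g ∧
      act Q g v = v' := by
  have hQv' : Q v' ≠ 0 := by rw [hvv']; exact hQv
  by_cases hd : Q (v - v') = 0
  · -- use `v + v'`
    have hP : P v v' = 2 * Q v := by
      rw [Q_sub', hvv'] at hd
      linear_combination -hd
    have hs : Q (v + v') = 4 * Q v := by
      rw [Q_add, hvv', hP]; ring
    have h4 : (4 : F) ≠ 0 := by
      have : (4 : F) = 2 * 2 := by norm_num
      rw [this]; exact mul_ne_zero h2 h2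
    have hs0 : Q (v + v') ≠ 0 := by rw [hs]; exact mul_ne_zero h4 hQv
    have h2v' : Q ((2 : F) • v') ≠ 0 := by
      rw [QuadraticMap.map_smul, smul_eq_mul, hvv']
      exact mul_ne_zero (mul_ne_zero h2 h2) hQv
    refine ⟨reflEl Q ((2 : F) • v') h2v' * reflEl Q (v + v') hs0, ?_, ?_, ?_⟩
    · apply rr_mem_comm hQ hn
      rw [hs, QuadraticMap.map_smul, smul_eq_mul, hvv']; ring
    · exact (loc_refl (A.smul_mem _ hv') h2v').mul (loc_refl (A.add_mem hv hv') hs0)
    · rw [reflEl_smul Q v' hQv' 2 h2 h2v', act_mul]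
      have e1 : act Q (reflEl Q (v + v') hs0) v = -v' := by
        rw [reflEl_act, hs, QuadraticMap.polar_add_left, P_self, P_comm Q v' v, hP]
        have : (4 * Q v)⁻¹ * (2 * Q v + 2 * Q v) = 1 := by
          field_simp
          ring
        rw [this, one_smul]
        abel
      rw [e1, act_neg, reflEl_act_self, neg_neg]
  · -- use `v - v'` and a reflection orthogonal to `v'`
    have hX := finrank_Xv (Q := Q) A v'
    obtain ⟨b, hb, hQb⟩ := exists_Q_eq_of_nd h2 (nd_Xv h2 hA hv' hQv') (by omega) _ hd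
    rw [mem_Xv] at hb
    have hQb0 : Q b ≠ 0 := by rw [hQb]; exact hd
    refine ⟨reflEl Q b hQb0 * reflEl Q (v - v') hd, ?_, ?_, ?_⟩
    · exact rr_mem_comm hQ hn hQb0 hd hQb.symm
    · exact (loc_refl hb.1 hQb0).mul (loc_refl (A.sub_mem hv hv') hd)
    · rw [act_mul]
      have e1 : act Q (reflEl Q (v - v') hd) v = v' := by
        rw [reflEl_act, QuadraticMap.polar_sub_left, P_self, P_comm Q v' v]
        have hq : Q (v - v') = 2 * Q v - P v v' := by
          rw [Q_sub', hvv']; ring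
        have : (Q (v - v'))⁻¹ * (2 * Q v - P v v') = 1 := by
          rw [← hq]; exact inv_mul_cancel₀ hd
        rw [this, one_smul]
        abel
      rw [e1]
      exact reflEl_act_of_polar_zero Q b hQb0 v' (by rw [P_comm]; exact hb.2)

/-- a singular partner inside a non-degenerate subspace -/
theorem exists_partner_of_nd {A : Submodule F (Fin n → F)}
    (hA : ∀ a ∈ A, a ≠ 0 → ∃ a' ∈ A, P a a' ≠ 0) {u : Fin n → F} (hu : u ∈ A) (hu0 : u ≠ 0)
    (hQu : Q u = 0) : ∃ f ∈ A, Q f = 0 ∧ P u f = 1 := by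
  obtain ⟨a', ha', hne⟩ := hA u hu hu0
  obtain ⟨a'', ha'', h1⟩ : ∃ a'' ∈ A, P u a'' = 1 := by
    refine ⟨(P u a')⁻¹ • a', A.smul_mem _ ha', ?_⟩
    rw [QuadraticMap.polar_smul_right, smul_eq_mul, inv_mul_cancel₀ hne]
  refine ⟨a'' - Q a'' • u, A.sub_mem ha'' (A.smul_mem _ hu), ?_, ?_⟩
  · rw [Q_sub', QuadraticMap.map_smul, hQu, QuadraticMap.polar_smul_right, P_comm Q a'' u, h1]
    simp
  · rw [QuadraticMap.polar_sub_right, QuadraticMap.polar_smul_right, P_self, hQu, h1]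
    simp

/-- the scaling element `u ↦ l² u` of a block -/
theorem exists_scale (hQ : (QuadraticMap.polarBilin Q).Nondegenerate)
    (hn : 7 ≤ n) {A : Submodule F (Fin n → F)}
    (hA : ∀ a ∈ A, a ≠ 0 → ∃ a' ∈ A, P a a' ≠ 0)
    {u : Fin n → F} (hu : u ∈ A) (hu0 : u ≠ 0) (hQu : Q u = 0) (l : F) (hl : l ≠ 0) :
    ∃ g : ↥(Cfsg.isometryGroup F ⇑Q), g ∈ commutator ↥(Cfsg.isometryGroup F ⇑Q) ∧ Loc Q A g ∧
      act Q g u = (l * l) • u := by
  obtain ⟨f, hf, hQf, huf⟩ := exists_partner_of_nd hA hu hu0 hQu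
  have hfu : P f u = 1 := by rw [P_comm]; exact huf
  have hb : l * l ≠ 0 := mul_ne_zero hl hl
  have hQ1 : Q (l • (u + f)) = l * l := by
    rw [QuadraticMap.map_smul, Q_add, hQu, hQf, huf]; simp
  have hQ2 : Q (u + (l * l) • f) = l * l := by
    rw [Q_add, QuadraticMap.map_smul, hQu, hQf, QuadraticMap.polar_smul_right, huf]; simp
  have n1 : Q (l • (u + f)) ≠ 0 := by rw [hQ1]; exact hb
  have n2 : Q (u + (l * l) • f) ≠ 0 := by rw [hQ2]; exact hb
  refine ⟨reflEl Q _ n1 * reflEl Q _ n2, ?_, ?_, ?_⟩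
  · exact rr_mem_comm hQ hn n1 n2 (by rw [hQ1, hQ2])
  · exact (loc_refl (A.smul_mem _ (A.add_mem hu hf)) n1).mul
      (loc_refl (A.add_mem hu (A.smul_mem _ hf)) n2)
  · rw [act_mul]
    have s1 : act Q (reflEl Q _ n2) u = -((l * l) • f) := by
      rw [reflEl_act, hQ2, QuadraticMap.polar_add_left, P_self, hQu, QuadraticMap.polar_smul_left,
        hfu, smul_eq_mul, mul_zero, zero_add, mul_one, inv_mul_cancel₀ hb, one_smul]
      abel
    have s2 : act Q (reflEl Q _ n1) f = -u := by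
      rw [reflEl_act, hQ1, QuadraticMap.polar_smul_left, QuadraticMap.polar_add_left, huf, P_self,
        hQf, smul_eq_mul, mul_zero, add_zero, mul_one, smul_smul]
      have : (l * l)⁻¹ * l * l = 1 := by
        rw [mul_assoc]; exact inv_mul_cancel₀ hb
      rw [this, one_smul]
      abel
    rw [s1, act_neg, act_smul, s2]
    simp

/-- `x` can be shifted by a non-zero singular vector orthogonal to it, using an element of `Ω`
acting on `A` only -/
def Shiftable (Q : QuadraticForm F (Fin n → F)) (A : Submodule F (Fin n → F)) (x : Fin n → F) :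
    Prop :=
  ∃ g : ↥(Cfsg.isometryGroup F ⇑Q), g ∈ commutator ↥(Cfsg.isometryGroup F ⇑Q) ∧ Loc Q A g ∧
    ∃ w', w' ∈ A ∧ w' ≠ 0 ∧ Q w' = 0 ∧ QuadraticMap.polar (⇑Q) x w' = 0 ∧ act Q g x = x + w'

/-- singular vectors are shiftable when the field has at least `5` elements -/
theorem shiftable_of_sing [DecidableEq F] (hQ : (QuadraticMap.polarBilin Q).Nondegenerate)
    (hn : 7 ≤ n) (hq : 5 ≤ Fintype.card F) {A : Submodule F (Fin n → F)}
    (hA : ∀ a ∈ A, a ≠ 0 → ∃ a' ∈ A, P a a' ≠ 0)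
    {u : Fin n → F} (hu : u ∈ A) (hu0 : u ≠ 0) (hQu : Q u = 0) : Shiftable Q A u := by
  obtain ⟨l, hl0, hl1, hl2⟩ := exists_ne3 (F := F) hq
  obtain ⟨g, hg, hloc, hgu⟩ := exists_scale hQ hn hA hu hu0 hQu l hl0
  have hll : l * l - 1 ≠ 0 := by
    intro h
    have : (l - 1) * (l + 1) = 0 := by linear_combination h
    rcases mul_eq_zero.1 this with h' | h'
    · exact hl1 (by linear_combination h')
    · exact hl2 (by linear_combination h')
  refine ⟨g, hg, hloc, (l * l - 1) • u, A.smul_mem _ hu, smul_ne_zero hll hu0, ?_, ?_, ?_⟩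
  · rw [QuadraticMap.map_smul, hQu, smul_zero]
  · rw [QuadraticMap.polar_smul_right, P_self, hQu]; simp
  · rw [hgu]; module

/-- every non-zero vector of a non-degenerate subspace of dimension at least `5` is shiftable -/
theorem shiftable_of_five (hQ : (QuadraticMap.polarBilin Q).Nondegenerate)
    (hn : 7 ≤ n) {A : Submodule F (Fin n → F)}
    (hA : ∀ a ∈ A, a ≠ 0 → ∃ a' ∈ A, P a a' ≠ 0) (hfr : 5 ≤ finrank F A)
    {x : Fin n → F} (hx : x ∈ A) (hx0 : x ≠ 0) : Shiftable Q A x := by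
  obtain ⟨g₀, hg₀, hne⟩ := hA x hx hx0
  have h1 := finrank_le_inf_ker_add_one A (fr Q x)
  have h2 := finrank_le_inf_ker_add_one (A ⊓ LinearMap.ker (fr Q x)) (fr Q g₀)
  obtain ⟨e, he, he0, hQe⟩ := exists_sing_in (Q := Q)
    ((A ⊓ LinearMap.ker (fr Q x)) ⊓ LinearMap.ker (fr Q g₀)) (by omega)
  rw [Submodule.mem_inf, Submodule.mem_inf, LinearMap.mem_ker, LinearMap.mem_ker, fr_apply,
    fr_apply] at he
  obtain ⟨⟨heA, hxe⟩, hge⟩ := he
  have heg : P e g₀ = 0 := by rw [P_comm]; exact hge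
  have hex : P e x = 0 := by rw [P_comm]; exact hxe
  have hgx : P g₀ x ≠ 0 := by rw [P_comm]; exact hne
  refine ⟨sg Q e g₀, sg_mem_comm Q hQ hn e g₀ hQe heg, loc_sg heA hg₀ hQe heg,
    (-(P g₀ x)) • e, A.smul_mem _ heA, smul_ne_zero (neg_ne_zero.2 hgx) he0, ?_, ?_, ?_⟩
  · rw [QuadraticMap.map_smul, hQe, smul_zero]
  · rw [QuadraticMap.polar_smul_right, hxe, smul_zero]
  · rw [sg_act Q e g₀ hQe heg, hex]
    module

end fin

end Cfsg.Agent.Lib.H11.OmImp
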