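import Cfsg.Agent.Lib.H11.OmImp2

/-!
Imprimitive subgroups of `Ω` in odd dimension: the calculus of negated reflections.
-/

set_option autoImplicit false
set_option linter.unusedSimpArgs false
set_option linter.unusedSectionVars false
set_option linter.unusedVariables false

namespace Cfsg.Agent.Lib.H11.OmImp

open Matrix Module
open Cfsg.Agent.Lib.H28 Cfsg.Agent.Lib.H11.SubspMax
open Cfsg.Agent.Lib.H11.CD Cfsg.Agent.Lib.H11.SiegelGen Cfsg.Agent.Lib.H11.OrMax
open Cfsg.Agent.Lib.H11.OmTs Cfsg.Agent.Lib.H11.OmNd Cfsg.Agent.Lib.H11.PairStab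
open Cfsg.Agent.Lib.H11.SpinSign (reflEl_smul reflEl_mul_self reflEl_conj negOne negOne_act
  negOne_val detHom detHom_val detHom_reflEl chi chi_reflEl)

variable {F : Type*} [Field F] {n : ℕ} {Q : QuadraticForm F (Fin n → F)}

set_option quotPrecheck false in
local notation "P" => QuadraticMap.polar (⇑Q)

variable {t k : ℕ} {D : Fin t → Submodule F (Fin n → F)} {M : Subgroup (GL (Fin n) F)}
  {x : Fin n → F}

theorem negOne_comm (g : ↥(Cfsg.isometryGroup F ⇑Q)) : negOne Q * g = g * negOne Q := by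
  apply el_ext
  intro x
  rw [act_mul, act_mul, negOne_act, negOne_act, act_neg]

theorem negOne_mul_self : negOne Q * negOne Q = 1 := by
  apply el_ext
  intro x
  rw [act_mul, negOne_act, negOne_act, neg_neg, act_one]

/-- the vectors whose negated reflection lies in `M` -/
def InR (Q : QuadraticForm F (Fin n → F)) (M : Subgroup (GL (Fin n) F)) (x : Fin n → F) : Prop :=
  ∃ hx : Q x ≠ 0, ((negOne Q * reflEl Q x hx : ↥(Cfsg.isometryGroup F ⇑Q)) : GL (Fin n) F) ∈ M

theorem InR.map (hx : InR Q M x) (g : ↥(Cfsg.isometryGroup F ⇑Q))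
    (hg : (g : GL (Fin n) F) ∈ M) : InR Q M (act Q g x) := by
  obtain ⟨hx0, hxM⟩ := hx
  have hgx : Q (act Q g x) ≠ 0 := by rw [Q_act]; exact hx0
  refine ⟨hgx, ?_⟩
  have e : negOne Q * reflEl Q (act Q g x) hgx = g * (negOne Q * reflEl Q x hx0) * g⁻¹ := by
    rw [← reflEl_conj Q g x hx0 hgx, ← mul_assoc g, ← negOne_comm g]
    simp only [mul_assoc]
  rw [e, coe_conj]
  exact M.mul_mem (M.mul_mem hg hxM) (M.inv_mem hg)

theorem InR.neg [Fintype F] (hx : InR Q M x) : InR Q M (-x) := by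
  obtain ⟨hx0, hxM⟩ := hx
  have hnx : Q (-x) ≠ 0 := by rw [QuadraticMap.map_neg]; exact hx0
  refine ⟨hnx, ?_⟩
  rw [Cfsg.Agent.Lib.H11.ReflClass.reflEl_neg Q x hx0 hnx]
  exact hxM

theorem InR.smul (hx : InR Q M x) (a : F) (ha : a ≠ 0) : InR Q M (a • x) := by
  obtain ⟨hx0, hxM⟩ := hx
  have hnx : Q (a • x) ≠ 0 := by
    rw [QuadraticMap.map_smul]; exact mul_ne_zero (mul_ne_zero ha ha) hx0
  refine ⟨hnx, ?_⟩
  rw [reflEl_smul Q x hx0 a ha hnx]
  exact hxM

/-- closure under reflections -/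
theorem InR.refl [Fintype F] {x y : Fin n → F} (hx : InR Q M x) (hy : InR Q M y) :
    InR Q M (act Q (reflEl Q y hy.1) x) := by
  have h1 := hx.map _ hy.2
  rw [act_mul, negOne_act] at h1
  have h2 := h1.neg
  rwa [neg_neg] at h2

/-- products of two reflections in vectors of `R` lie in `M` -/
theorem InR.rr_mem {x y : Fin n → F} (hx : InR Q M x) (hy : InR Q M y) :
    ((reflEl Q x hx.1 * reflEl Q y hy.1 : ↥(Cfsg.isometryGroup F ⇑Q)) : GL (Fin n) F) ∈ M := by
  have e : reflEl Q x hx.1 * reflEl Q y hy.1 =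
      (negOne Q * reflEl Q x hx.1) * (negOne Q * reflEl Q y hy.1) := by
    rw [mul_assoc, ← mul_assoc (reflEl Q x hx.1), ← negOne_comm, mul_assoc, ← mul_assoc,
      negOne_mul_self, one_mul]
  rw [e]
  have : (((negOne Q * reflEl Q x hx.1) * (negOne Q * reflEl Q y hy.1) :
      ↥(Cfsg.isometryGroup F ⇑Q)) : GL (Fin n) F) =
      ((negOne Q * reflEl Q x hx.1 : ↥(Cfsg.isometryGroup F ⇑Q)) : GL (Fin n) F) *
      ((negOne Q * reflEl Q y hy.1 : ↥(Cfsg.isometryGroup F ⇑Q)) : GL (Fin n) F) := by simp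
  rw [this]
  exact M.mul_mem hx.2 hy.2

/-- the product of the reflections in `v` and `v + z`, `z` singular and orthogonal to `v`, is a
Siegel element -/
theorem rr_eq_sg {v z : Fin n → F} (hv : Q v ≠ 0) (hz : Q z = 0) (hvz : P v z = 0)
    (hvz' : Q (v + z) ≠ 0) :
    reflEl Q v hv * reflEl Q (v + z) hvz' = sg Q z ((Q v)⁻¹ • v) := by
  have hzv : P z v = 0 := by rw [P_comm]; exact hvz
  have hQvz : Q (v + z) = Q v := by rw [Q_add, hz, hvz]; ring
  have h1 : P z ((Q v)⁻¹ • v) = 0 := by rw [QuadraticMap.polar_smul_right, hzv, smul_zero]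
  apply el_ext
  intro x
  rw [act_mul, sg_act Q z _ hz h1, reflEl_act Q (v + z), hQvz, reflEl_act Q v]
  simp only [QuadraticMap.polar_sub_right, QuadraticMap.polar_smul_right,
    QuadraticMap.polar_add_right, QuadraticMap.polar_add_left, QuadraticMap.polar_smul_left,
    P_self, hvz, hz, hzv, QuadraticMap.map_smul, smul_eq_mul]
  have e1 : (Q v)⁻¹ * (Q v)⁻¹ * Q v * P z x = (Q v)⁻¹ * P z x := by
    field_simp
  have e2 : (Q v)⁻¹ * (P v x - (Q v)⁻¹ * (P v x + P z x) * (2 * Q v + 0)) =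
      (Q v)⁻¹ * (P v x - 2 * (P v x + P z x)) := by
    field_simp
    ring
  rw [e1, e2]
  module

section fin
variable [Fintype F]

theorem detHom_negOne_odd (hodd : Odd n) : detHom Q (negOne Q) = -1 := by
  apply Units.ext
  rw [detHom_val, negOne_val, Matrix.det_neg, Matrix.det_one, Fintype.card_fin, hodd.neg_one_pow]
  simp

open scoped Classical in
/-- in odd dimension there is a norm `κ` such that the negated reflections in vectors of norm `κ`
lie in `Ω` -/
theorem exists_kappa (hQ : (QuadraticMap.polarBilin Q).Nondegenerate) (h2 : (2 : F) ≠ 0)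
    (hn : 2 ≤ n) (hodd : Odd n) :
    ∃ κ : F, κ ≠ 0 ∧ ∀ (v : Fin n → F) (hv : Q v ≠ 0), Q v = κ →
      negOne Q * reflEl Q v hv ∈ commutator ↥(Cfsg.isometryGroup F ⇑Q) := by
  have main := (Cfsg.Agent.Lib.H11.SpinSign.main Q hQ h2 hn 1 one_ne_zero).2
  have hchar : ringChar F ≠ 2 := by
    intro h
    apply h2
    have := CharP.cast_eq_zero F (ringChar F)
    rw [h] at this
    exact_mod_cast this
  obtain ⟨ν, hν⟩ := FiniteField.exists_nonsquare hchar
  have hν0 : ν ≠ 0 := by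
    rintro rfl
    exact hν ⟨0, by simp⟩
  have hd : ∀ (v : Fin n → F) (hv : Q v ≠ 0), detHom Q (negOne Q * reflEl Q v hv) = 1 := by
    intro v hv
    rw [map_mul, detHom_negOne_odd hodd, detHom_reflEl]
    simp
  rcases Int.units_eq_one_or (chi Q 1 (negOne Q)) with h | h
  · refine ⟨ν, hν0, fun v hv hvν => ?_⟩
    rw [main]
    refine ⟨hd v hv, ?_⟩
    rw [map_mul, h, chi_reflEl Q h2 v hv 1 one_ne_zero, if_neg, one_mul]
    rintro ⟨s, hs⟩
    rw [hvν] at hs
    have hs0 : s ≠ 0 := by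
      rintro rfl
      simp at hs
    apply hν
    refine ⟨s⁻¹, ?_⟩
    field_simp
    linear_combination hs
  · refine ⟨1, one_ne_zero, fun v hv hv1 => ?_⟩
    rw [main]
    refine ⟨hd v hv, ?_⟩
    rw [map_mul, h, chi_reflEl Q h2 v hv 1 one_ne_zero, if_pos ⟨1, by rw [hv1]; ring⟩]
    simp

/-- vectors of norm `κ` in the blocks lie in `R` -/
theorem InR_of_block (h : ODec Q k D)
    (hNM : Cfsg.Geo.decompositionStabilizer D ⊓ Cfsg.Geo.omegaGL (⇑Q) ≤ M) {κ : F} (hκ0 : κ ≠ 0)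
    (hκ : ∀ (v : Fin n → F) (hv : Q v ≠ 0), Q v = κ →
      negOne Q * reflEl Q v hv ∈ commutator ↥(Cfsg.isometryGroup F ⇑Q))
    {i : Fin t} {v : Fin n → F} (hv : v ∈ D i) (hQv : Q v = κ) : InR Q M v := by
  have hv0 : Q v ≠ 0 := by rw [hQv]; exact hκ0
  refine ⟨hv0, hNM ?_⟩
  apply mem_N_of_mapsTo h _ (hκ v hv0 hQv) 1
  intro j y hy
  rw [Equiv.Perm.one_apply, act_mul, negOne_act]
  apply (D j).neg_mem
  by_cases hji : j = i
  · subst hji; exact (loc_refl hv hv0).1 y hy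
  · rw [(loc_refl hv hv0).2 y (h.le_perp (Ne.symm hji) hy)]; exact hy

end fin

end Cfsg.Agent.Lib.H11.OmImp
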