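import Cfsg.Agent.Lib.H11.OmImp3

/-!
Imprimitive subgroups of `Ω` in odd dimension: moves in the set `R`.
-/

set_option autoImplicit false
set_option linter.unusedSimpArgs false
set_option linter.unusedSectionVars false
set_option linter.unusedVariables false

namespace Cfsg.Agent.Lib.H11.OmImp

open Matrix Module
open Cfsg.Agent.Lib.H28 Cfsg.Agent.Lib.H11.SubspMax
open Cfsg.Agent.Lib.H11.CD Cfsg.Agent.Lib.H11.SiegelGen Cfsg.Agent.Lib.H11.OrMax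
open Cfsg.Agent.Lib.H11.OmTs Cfsg.Agent.Lib.H11.OmNd Cfsg.Agent.Lib.H11.PairStab
open Cfsg.Agent.Lib.H11.SpinSign (reflEl_smul reflEl_mul_self reflEl_conj negOne negOne_act
  negOne_val detHom detHom_val detHom_reflEl chi chi_reflEl)

variable {F : Type*} [Field F] {n : ℕ} {Q : QuadraticForm F (Fin n → F)}

set_option quotPrecheck false in
local notation "P" => QuadraticMap.polar (⇑Q)

variable {t k : ℕ} {D : Fin t → Submodule F (Fin n → F)} {M : Subgroup (GL (Fin n) F)}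

section fin
variable [Fintype F]

/-- the general move: reflecting `x` in its image under an element of `M` -/
theorem InR.move {x : Fin n → F} (hx : InR Q M x) (g : ↥(Cfsg.isometryGroup F ⇑Q))
    (hg : (g : GL (Fin n) F) ∈ M) :
    InR Q M (x - ((Q x)⁻¹ * P (act Q g x) x) • act Q g x) := by
  have hy := hx.map g hg
  have := hx.refl hy
  rwa [reflEl_act, Q_act] at this

/-- the move with coefficient `1` -/
theorem InR.move_one {x : Fin n → F} (hx : InR Q M x) (g : ↥(Cfsg.isometryGroup F ⇑Q))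
    (hg : (g : GL (Fin n) F) ∈ M) (hP : P x (act Q g x) = Q x) : InR Q M (x - act Q g x) := by
  have := hx.move g hg
  rwa [P_comm, hP, inv_mul_cancel₀ hx.1, one_smul] at this

/-- the action of a product of two elements acting on different blocks -/
theorem act_two (h : ODec Q k D) {i j : Fin t} (hij : i ≠ j)
    {g₁ g₂ : ↥(Cfsg.isometryGroup F ⇑Q)} (hl₁ : Loc Q (D i) g₁) (hl₂ : Loc Q (D j) g₂)
    {x₁ x₂ x'' : Fin n → F} (h₁ : x₁ ∈ D i) (h₂ : x₂ ∈ D j) (hp₁ : x'' ∈ perp Q (D i))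
    (hp₂ : x'' ∈ perp Q (D j)) :
    act Q (g₁ * g₂) (x₁ + x₂ + x'') = act Q g₁ x₁ + act Q g₂ x₂ + x'' := by
  have e1 : act Q g₂ (x₁ + x₂ + x'') = x₁ + act Q g₂ x₂ + x'' := by
    rw [act_add, act_add, hl₂.2 x₁ (h.le_perp (Ne.symm hij) h₁), hl₂.2 x'' hp₂]
  rw [act_mul, e1, act_add, act_add, hl₁.2 x'' hp₁, hl₁.2 _ (h.le_perp hij (hl₂.1 x₂ h₂))]

/-- the norm of a sum of three mutually orthogonal vectors -/
theorem Q_three {a b c : Fin n → F} (hab : P a b = 0) (hac : P a c = 0) (hbc : P b c = 0) :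
    Q (a + b + c) = Q a + Q b + Q c := by
  rw [Q_add, Q_add, QuadraticMap.polar_add_left, hab, hac, hbc]
  ring

/-- the polar form on sums of three mutually orthogonal parts -/
theorem P_three {a b c a' b' c' : Fin n → F} (h1 : P a b' = 0) (h2 : P a c' = 0)
    (h3 : P b a' = 0) (h4 : P b c' = 0) (h5 : P c a' = 0) (h6 : P c b' = 0) :
    P (a + b + c) (a' + b' + c') = P a a' + P b b' + P c c' := by
  simp only [QuadraticMap.polar_add_left, QuadraticMap.polar_add_right, h1, h2, h3, h4, h5, h6]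
  ring

/-- the final step: a vector `v + z` of `R` with `v` of norm `κ` in one block and `z` singular in
another block gives a Siegel element of `M` -/
theorem sg_of_InR (h : ODec Q k D)
    (hNM : Cfsg.Geo.decompositionStabilizer D ⊓ Cfsg.Geo.omegaGL (⇑Q) ≤ M) {κ : F} (hκ0 : κ ≠ 0)
    (hκ : ∀ (v : Fin n → F) (hv : Q v ≠ 0), Q v = κ →
      negOne Q * reflEl Q v hv ∈ commutator ↥(Cfsg.isometryGroup F ⇑Q))
    {i j : Fin t} (hij : i ≠ j) {v z : Fin n → F} (hv : v ∈ D i) (hz : z ∈ D j) (hQv : Q v = κ)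
    (hQz : Q z = 0) (hz0 : z ≠ 0) (hR : InR Q M (v + z)) :
    ∃ u ∈ D j, ∃ y ∈ D i, u ≠ 0 ∧ y ≠ 0 ∧ Q u = 0 ∧
      ((sg Q u y : ↥(Cfsg.isometryGroup F ⇑Q)) : GL (Fin n) F) ∈ M := by
  have hvR : InR Q M v := InR_of_block h hNM hκ0 hκ hv hQv
  have hvz : P v z = 0 := h.orth i j hij v hv z hz
  have hv0 : Q v ≠ 0 := by rw [hQv]; exact hκ0
  have hmem := hvR.rr_mem hR
  rw [rr_eq_sg hv0 hQz hvz hR.1] at hmem
  refine ⟨z, hz, (Q v)⁻¹ • v, (D i).smul_mem _ hv, hz0, ?_, hQz, hmem⟩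
  apply smul_ne_zero (inv_ne_zero hv0)
  rintro rfl
  apply hv0
  exact map_zero Q

/-- membership in `M` of a product of two elements acting on single blocks -/
theorem two_mem_M (h : ODec Q k D)
    (hNM : Cfsg.Geo.decompositionStabilizer D ⊓ Cfsg.Geo.omegaGL (⇑Q) ≤ M) {i j : Fin t}
    {g₁ g₂ : ↥(Cfsg.isometryGroup F ⇑Q)} (hl₁ : Loc Q (D i) g₁) (hl₂ : Loc Q (D j) g₂)
    (hc₁ : g₁ ∈ commutator ↥(Cfsg.isometryGroup F ⇑Q))
    (hc₂ : g₂ ∈ commutator ↥(Cfsg.isometryGroup F ⇑Q)) :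
    ((g₁ * g₂ : ↥(Cfsg.isometryGroup F ⇑Q)) : GL (Fin n) F) ∈ M := by
  have : ((g₁ * g₂ : ↥(Cfsg.isometryGroup F ⇑Q)) : GL (Fin n) F) =
      (g₁ : GL (Fin n) F) * (g₂ : GL (Fin n) F) := by simp
  rw [this]
  exact M.mul_mem (hNM (hl₁.mem_N h hc₁)) (hNM (hl₂.mem_N h hc₂))

/-- the move `S`: if the component in the block `D j` can be shifted by a singular vector and the
component in `D i` is non-singular, then `M` contains a Siegel element mixing the two blocks -/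
theorem moveS (h : ODec Q k D)
    (hNM : Cfsg.Geo.decompositionStabilizer D ⊓ Cfsg.Geo.omegaGL (⇑Q) ≤ M) {κ : F} (hκ0 : κ ≠ 0)
    (hκ : ∀ (v : Fin n → F) (hv : Q v ≠ 0), Q v = κ →
      negOne Q * reflEl Q v hv ∈ commutator ↥(Cfsg.isometryGroup F ⇑Q))
    (h2 : (2 : F) ≠ 0) (hQ : (QuadraticMap.polarBilin Q).Nondegenerate) (hn : 7 ≤ n)
    (hk : 3 ≤ k) {i j : Fin t} (hij : i ≠ j)
    {x₁ x₂ x'' : Fin n → F} (h₁ : x₁ ∈ D i) (h₂ : x₂ ∈ D j) (hp₁ : x'' ∈ perp Q (D i))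
    (hp₂ : x'' ∈ perp Q (D j)) (hx : InR Q M (x₁ + x₂ + x'')) (hQx : Q (x₁ + x₂ + x'') = κ)
    (ha₁ : Q x₁ ≠ 0) (hsh : Shiftable Q (D j) x₂) :
    ∃ u ∈ D j, ∃ y ∈ D i, u ≠ 0 ∧ y ≠ 0 ∧ Q u = 0 ∧
      ((sg Q u y : ↥(Cfsg.isometryGroup F ⇑Q)) : GL (Fin n) F) ∈ M := by
  obtain ⟨g₂, hc₂, hl₂, w', hw', hw'0, hQw', hxw', hg₂⟩ := hsh
  obtain ⟨y₁, hy₁, hQy₁, hPy₁⟩ := exists_vec h2 (h.nd i) (by rw [h.fr]; exact hk) h₁ ha₁
    (2 * Q x₁ - κ)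
  obtain ⟨g₁, hc₁, hl₁, hg₁⟩ := exists_move h2 hQ hn (h.nd i) (by rw [h.fr]; exact hk) h₁ hy₁ ha₁
    hQy₁
  have hgM := two_mem_M h hNM hl₁ hl₂ hc₁ hc₂
  have hact := act_two h hij hl₁ hl₂ h₁ h₂ hp₁ hp₂
  rw [hg₁, hg₂] at hact
  -- orthogonality facts
  have o12 : ∀ a ∈ D i, ∀ b ∈ D j, P a b = 0 := fun a ha b hb => h.orth i j hij a ha b hb
  have o21 : ∀ b ∈ D j, ∀ a ∈ D i, P b a = 0 := fun b hb a ha => by
    rw [P_comm]; exact o12 a ha b hb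
  have o1p : ∀ a ∈ D i, P a x'' = 0 := fun a ha => mem_perp.1 hp₁ a ha
  have op1 : ∀ a ∈ D i, P x'' a = 0 := fun a ha => by rw [P_comm]; exact o1p a ha
  have o2p : ∀ b ∈ D j, P b x'' = 0 := fun b hb => mem_perp.1 hp₂ b hb
  have op2 : ∀ b ∈ D j, P x'' b = 0 := fun b hb => by rw [P_comm]; exact o2p b hb
  have hxw : x₂ + w' ∈ D j := (D j).add_mem h₂ hw'
  have hQsum : Q x₁ + Q x₂ + Q x'' = κ := by
    rw [← hQx, Q_three (o12 x₁ h₁ x₂ h₂) (o1p x₁ h₁) (o2p x₂ h₂)]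
  have hPx : P (x₁ + x₂ + x'') (act Q (g₁ * g₂) (x₁ + x₂ + x'')) = Q (x₁ + x₂ + x'') := by
    rw [hact, P_three (o12 x₁ h₁ _ hxw) (o1p x₁ h₁) (o21 x₂ h₂ y₁ hy₁) (o2p x₂ h₂)
      (op1 y₁ hy₁) (op2 _ hxw), hPy₁, QuadraticMap.polar_add_right, hxw', P_self, P_self, hQx]
    linear_combination 2 * hQsum
  have hR := hx.move_one _ hgM hPx
  rw [hact] at hR
  have e : x₁ + x₂ + x'' - (y₁ + (x₂ + w') + x'') = (x₁ - y₁) + (-w') := by abel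
  rw [e] at hR
  refine sg_of_InR h hNM hκ0 hκ hij ((D i).sub_mem h₁ hy₁) ((D j).neg_mem hw') ?_ ?_
    (neg_ne_zero.2 hw'0) hR
  · rw [Q_sub', hQy₁, hPy₁]; ring
  · rw [QuadraticMap.map_neg, hQw']

/-- the move `NS`: two non-singular components, field with at least `5` elements -/
theorem moveNS [DecidableEq F] (h : ODec Q k D)
    (hNM : Cfsg.Geo.decompositionStabilizer D ⊓ Cfsg.Geo.omegaGL (⇑Q) ≤ M) {κ : F} (hκ0 : κ ≠ 0)
    (hκ : ∀ (v : Fin n → F) (hv : Q v ≠ 0), Q v = κ →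
      negOne Q * reflEl Q v hv ∈ commutator ↥(Cfsg.isometryGroup F ⇑Q))
    (h2 : (2 : F) ≠ 0) (hQ : (QuadraticMap.polarBilin Q).Nondegenerate) (hn : 7 ≤ n)
    (hk : 3 ≤ k) (hq : 5 ≤ Fintype.card F) {i j : Fin t} (hij : i ≠ j)
    {x₁ x₂ x'' : Fin n → F} (h₁ : x₁ ∈ D i) (h₂ : x₂ ∈ D j) (hp₁ : x'' ∈ perp Q (D i))
    (hp₂ : x'' ∈ perp Q (D j)) (hx : InR Q M (x₁ + x₂ + x'')) (hQx : Q (x₁ + x₂ + x'') = κ)
    (ha₁ : Q x₁ ≠ 0) (ha₂ : Q x₂ ≠ 0) :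
    ∃ u ∈ D j, ∃ y ∈ D i, u ≠ 0 ∧ y ≠ 0 ∧ Q u = 0 ∧
      ((sg Q u y : ↥(Cfsg.isometryGroup F ⇑Q)) : GL (Fin n) F) ∈ M := by
  have hfi : 3 ≤ finrank F (D i) := by rw [h.fr]; exact hk
  have hfj : 3 ≤ finrank F (D j) := by rw [h.fr]; exact hk
  -- orthogonality facts
  have o12 : ∀ a ∈ D i, ∀ b ∈ D j, P a b = 0 := fun a ha b hb => h.orth i j hij a ha b hb
  have o21 : ∀ b ∈ D j, ∀ a ∈ D i, P b a = 0 := fun b hb a ha => by
    rw [P_comm]; exact o12 a ha b hb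
  have o1p : ∀ a ∈ D i, P a x'' = 0 := fun a ha => mem_perp.1 hp₁ a ha
  have op1 : ∀ a ∈ D i, P x'' a = 0 := fun a ha => by rw [P_comm]; exact o1p a ha
  have o2p : ∀ b ∈ D j, P b x'' = 0 := fun b hb => mem_perp.1 hp₂ b hb
  have op2 : ∀ b ∈ D j, P x'' b = 0 := fun b hb => by rw [P_comm]; exact o2p b hb
  have hQsum : Q x₁ + Q x₂ + Q x'' = κ := by
    rw [← hQx, Q_three (o12 x₁ h₁ x₂ h₂) (o1p x₁ h₁) (o2p x₂ h₂)]
  -- first move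
  obtain ⟨p₁, hp₁a, hp₁b⟩ := exists_avoid2 (F := F) (by omega) (2 * Q x₁) (2 * Q x₁ - κ)
  obtain ⟨y₁, hy₁, hQy₁, hPy₁⟩ := exists_vec h2 (h.nd i) hfi h₁ ha₁ p₁
  obtain ⟨y₂, hy₂, hQy₂, hPy₂⟩ := exists_vec h2 (h.nd j) hfj h₂ ha₂
    (2 * Q x₁ + 2 * Q x₂ - κ - p₁)
  obtain ⟨g₁, hc₁, hl₁, hg₁⟩ := exists_move h2 hQ hn (h.nd i) hfi h₁ hy₁ ha₁ hQy₁
  obtain ⟨g₂, hc₂, hl₂, hg₂⟩ := exists_move h2 hQ hn (h.nd j) hfj h₂ hy₂ ha₂ hQy₂
  have hgM := two_mem_M h hNM hl₁ hl₂ hc₁ hc₂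
  have hact := act_two h hij hl₁ hl₂ h₁ h₂ hp₁ hp₂
  rw [hg₁, hg₂] at hact
  have hPx : P (x₁ + x₂ + x'') (act Q (g₁ * g₂) (x₁ + x₂ + x'')) = Q (x₁ + x₂ + x'') := by
    rw [hact, P_three (o12 x₁ h₁ _ hy₂) (o1p x₁ h₁) (o21 x₂ h₂ y₁ hy₁) (o2p x₂ h₂)
      (op1 y₁ hy₁) (op2 _ hy₂), hPy₁, hPy₂, P_self, hQx]
    linear_combination 2 * hQsum
  have hR := hx.move_one _ hgM hPx
  rw [hact] at hR
  have e : x₁ + x₂ + x'' - (y₁ + y₂ + x'') = (x₁ - y₁) + (x₂ - y₂) + 0 := by abel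
  rw [e] at hR
  -- the new vector
  obtain ⟨z₁, hz₁⟩ : ∃ z₁, z₁ = x₁ - y₁ := ⟨_, rfl⟩
  obtain ⟨z₂, hz₂⟩ : ∃ z₂, z₂ = x₂ - y₂ := ⟨_, rfl⟩
  rw [← hz₁, ← hz₂] at hR
  have hz₁D : z₁ ∈ D i := by rw [hz₁]; exact (D i).sub_mem h₁ hy₁
  have hz₂D : z₂ ∈ D j := by rw [hz₂]; exact (D j).sub_mem h₂ hy₂
  have hQz₁ : Q z₁ = 2 * Q x₁ - p₁ := by rw [hz₁, Q_sub', hQy₁, hPy₁]; ring
  have hQz₂ : Q z₂ = κ - Q z₁ := by rw [hz₂, Q_sub', hQy₂, hPy₂, hQz₁]; ring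
  have ha : Q z₁ ≠ 0 := by
    rw [hQz₁]
    intro h0
    exact hp₁a (by linear_combination -h0)
  have hb : Q z₂ ≠ 0 := by
    rw [hQz₂, hQz₁]
    intro h0
    exact hp₁b (by linear_combination h0)
  -- second move
  obtain ⟨c, hc0, hc1, hc2⟩ := exists_ne3 (F := F) hq
  have hcc : c * c ≠ 1 := by
    intro hh
    have : (c - 1) * (c + 1) = 0 := by linear_combination hh
    rcases mul_eq_zero.1 this with h' | h'
    · exact hc1 (by linear_combination h')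
    · exact hc2 (by linear_combination h')
  obtain ⟨q₂, hq₂⟩ : ∃ q₂, q₂ = Q z₂ * (1 + c * c) / c := ⟨_, rfl⟩
  have hq₂c : c * q₂ = Q z₂ * (1 + c * c) := by rw [hq₂]; field_simp
  obtain ⟨v₁, hv₁, hQv₁, hPv₁⟩ := exists_vec h2 (h.nd i) hfi hz₁D ha (κ * c - q₂)
  obtain ⟨v₂, hv₂, hQv₂, hPv₂⟩ := exists_vec h2 (h.nd j) hfj hz₂D hb q₂
  obtain ⟨f₁, hd₁, hm₁, hf₁⟩ := exists_move h2 hQ hn (h.nd i) hfi hz₁D hv₁ ha hQv₁
  obtain ⟨f₂, hd₂, hm₂, hf₂⟩ := exists_move h2 hQ hn (h.nd j) hfj hz₂D hv₂ hb hQv₂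
  have hfM := two_mem_M h hNM hm₁ hm₂ hd₁ hd₂
  have h0i : (0 : Fin n → F) ∈ perp Q (D i) := Submodule.zero_mem _
  have h0j : (0 : Fin n → F) ∈ perp Q (D j) := Submodule.zero_mem _
  have hact2 := act_two h hij hm₁ hm₂ hz₁D hz₂D h0i h0j
  rw [hf₁, hf₂] at hact2
  have hQz : Q (z₁ + z₂ + 0) = κ := by
    rw [Q_three (o12 z₁ hz₁D z₂ hz₂D) (by simp) (by simp), hQz₂, map_zero]; ring
  have hR2 := hR.move _ hfM
  rw [hact2, hQz] at hR2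
  have hPP : P (v₁ + v₂ + 0) (z₁ + z₂ + 0) = κ * c := by
    rw [P_three (o12 v₁ hv₁ _ hz₂D) (by simp) (o21 v₂ hv₂ z₁ hz₁D) (by simp) (by simp) (by simp),
      P_comm Q v₁ z₁, P_comm Q v₂ z₂, hPv₁, hPv₂]
    simp
  rw [hPP] at hR2
  have hcoef : κ⁻¹ * (κ * c) = c := by field_simp
  rw [hcoef] at hR2
  have e2 : z₁ + z₂ + 0 - c • (v₁ + v₂ + 0) = (z₁ - c • v₁) + (z₂ - c • v₂) := by
    simp only [add_zero, smul_add]; abel
  rw [e2] at hR2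
  refine sg_of_InR h hNM hκ0 hκ hij ((D i).sub_mem hz₁D ((D i).smul_mem _ hv₁))
    ((D j).sub_mem hz₂D ((D j).smul_mem _ hv₂)) ?_ ?_ ?_ hR2
  · rw [Q_sub', QuadraticMap.map_smul, hQv₁, QuadraticMap.polar_smul_right, hPv₁, smul_eq_mul,
      smul_eq_mul]
    have : Q z₁ = κ - Q z₂ := by rw [hQz₂]; ring
    rw [this]
    linear_combination hq₂c
  · rw [Q_sub', QuadraticMap.map_smul, hQv₂, QuadraticMap.polar_smul_right, hPv₂, smul_eq_mul,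
      smul_eq_mul]
    linear_combination -hq₂c
  · intro h0
    have h1 : z₂ = c • v₂ := sub_eq_zero.1 h0
    have h3 := congrArg Q h1
    rw [QuadraticMap.map_smul, hQv₂, smul_eq_mul] at h3
    apply hcc
    have : (c * c - 1) * Q z₂ = 0 := by linear_combination -h3
    rcases mul_eq_zero.1 this with h' | h'
    · linear_combination h'
    · exact absurd h' hb

/-- the norm of a sum of vectors from different blocks -/
theorem Q_sum_orth (h : ODec Q k D) (c : Fin t → (Fin n → F)) (hc : ∀ i, c i ∈ D i)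
    (s : Finset (Fin t)) : Q (∑ i ∈ s, c i) = ∑ i ∈ s, Q (c i) := by
  classical
  induction s using Finset.induction_on with
  | empty => simp
  | insert a s ha ih =>
    rw [Finset.sum_insert ha, Finset.sum_insert ha, Q_add, ih]
    have : P (c a) (∑ i ∈ s, c i) = ∑ i ∈ s, P (c a) (c i) :=
      map_sum (QuadraticMap.polarBilin Q (c a)) _ _
    have hz : ∑ i ∈ s, P (c a) (c i) = 0 :=
      Finset.sum_eq_zero (fun i hi => h.orth a i (fun hai => ha (hai ▸ hi)) _ (hc a) _ (hc i))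
    rw [this, hz, add_zero]

/-- a vector outside all blocks has a non-singular component and another non-zero component -/
theorem exists_split (h : ODec Q k D) {x : Fin n → F} (hQx : Q x ≠ 0) (hxD : ∀ l, x ∉ D l) :
    ∃ i j, i ≠ j ∧ ∃ x₁ ∈ D i, ∃ x₂ ∈ D j, ∃ x'', x'' ∈ perp Q (D i) ∧ x'' ∈ perp Q (D j) ∧
      x = x₁ + x₂ + x'' ∧ Q x₁ ≠ 0 ∧ x₂ ≠ 0 := by
  classical
  obtain ⟨c, hc, hxc⟩ := h.span x
  obtain ⟨i, hi⟩ : ∃ i, Q (c i) ≠ 0 := by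
    by_contra hcon
    push Not at hcon
    apply hQx
    rw [hxc, Q_sum_orth h c hc]
    exact Finset.sum_eq_zero (fun i _ => hcon i)
  obtain ⟨j, hji, hj⟩ : ∃ j, j ≠ i ∧ c j ≠ 0 := by
    by_contra hcon
    push Not at hcon
    apply hxD i
    rw [hxc, Finset.sum_eq_single i (fun l _ hl => hcon l hl)
      (fun hh => absurd (Finset.mem_univ i) hh)]
    exact hc i
  refine ⟨i, j, Ne.symm hji, c i, hc i, c j, hc j, ∑ l ∈ (Finset.univ.erase i).erase j, c l,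
    ?_, ?_, ?_, hi, hj⟩
  · apply Submodule.sum_mem
    intro l hl
    have hli : l ≠ i := Finset.ne_of_mem_erase (Finset.mem_of_mem_erase hl)
    exact h.le_perp (Ne.symm hli) (hc l)
  · apply Submodule.sum_mem
    intro l hl
    have hlj : l ≠ j := Finset.ne_of_mem_erase hl
    exact h.le_perp (Ne.symm hlj) (hc l)
  · rw [hxc, add_assoc, Finset.add_sum_erase _ _ (Finset.mem_erase.2 ⟨hji, Finset.mem_univ j⟩),
      Finset.add_sum_erase _ _ (Finset.mem_univ i)]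

/-- Step 1: a vector of `R` of norm `κ` outside all blocks yields a Siegel element of `M` mixing
two blocks -/
theorem exists_sg_of_InR [DecidableEq F] (h : ODec Q k D)
    (hNM : Cfsg.Geo.decompositionStabilizer D ⊓ Cfsg.Geo.omegaGL (⇑Q) ≤ M) {κ : F} (hκ0 : κ ≠ 0)
    (hκ : ∀ (v : Fin n → F) (hv : Q v ≠ 0), Q v = κ →
      negOne Q * reflEl Q v hv ∈ commutator ↥(Cfsg.isometryGroup F ⇑Q))
    (h2 : (2 : F) ≠ 0) (hQ : (QuadraticMap.polarBilin Q).Nondegenerate) (hn : 7 ≤ n)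
    (hk : 3 ≤ k) (hkq : 5 ≤ k ∨ 5 ≤ Fintype.card F) {x : Fin n → F} (hx : InR Q M x)
    (hQx : Q x = κ) (hxD : ∀ l, x ∉ D l) :
    ∃ i j, i ≠ j ∧ ∃ u ∈ D j, ∃ y ∈ D i, u ≠ 0 ∧ y ≠ 0 ∧ Q u = 0 ∧
      ((sg Q u y : ↥(Cfsg.isometryGroup F ⇑Q)) : GL (Fin n) F) ∈ M := by
  obtain ⟨i, j, hij, x₁, h₁, x₂, h₂, x'', hp₁, hp₂, rfl, ha₁, hx₂⟩ :=
    exists_split h (by rw [hQx]; exact hκ0) hxD
  refine ⟨i, j, hij, ?_⟩
  rcases hkq with h5 | h5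
  · exact moveS h hNM hκ0 hκ h2 hQ hn hk hij h₁ h₂ hp₁ hp₂ hx hQx ha₁
      (shiftable_of_five hQ hn (h.nd j) (by rw [h.fr]; exact h5) h₂ hx₂)
  · by_cases ha₂ : Q x₂ = 0
    · exact moveS h hNM hκ0 hκ h2 hQ hn hk hij h₁ h₂ hp₁ hp₂ hx hQx ha₁
        (shiftable_of_sing hQ hn h5 (h.nd j) h₂ hx₂ ha₂)
    · exact moveNS h hNM hκ0 hκ h2 hQ hn hk h5 hij h₁ h₂ hp₁ hp₂ hx hQx ha₁ ha₂

end fin

end Cfsg.Agent.Lib.H11.OmImp
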