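import Cfsg.Agent.Lib.H11.OmImp4

/-!
Imprimitive subgroups of `Ω` in odd dimension: from one mixed Siegel element to all of them.
-/

set_option autoImplicit false
set_option linter.unusedSimpArgs false
set_option linter.unusedSectionVars false
set_option linter.unusedVariables false

namespace Cfsg.Agent.Lib.H11.OmImp

open Matrix Module
open Cfsg.Agent.Lib.H28 Cfsg.Agent.Lib.H11.SubspMax
open Cfsg.Agent.Lib.H11.CD Cfsg.Agent.Lib.H11.SiegelGen Cfsg.Agent.Lib.H11.OrMax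
open Cfsg.Agent.Lib.H11.OmTs Cfsg.Agent.Lib.H11.OmNd Cfsg.Agent.Lib.H11.PairStab
open Cfsg.Agent.Lib.H11.OmPair (sg_antisymm sg_neg_right)

variable {F : Type*} [Field F] {n : ℕ} {Q : QuadraticForm F (Fin n → F)}

set_option quotPrecheck false in
local notation "P" => QuadraticMap.polar (⇑Q)

variable {t k : ℕ} {D : Fin t → Submodule F (Fin n → F)} {M : Subgroup (GL (Fin n) F)}

section fin
variable [Fintype F]

/-- (L3a) if `M` contains one non-trivial Siegel element with centre `u` in the block `D j` and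
second vector in the block `D i`, it contains all of them -/
theorem sg_block_all (h : ODec Q k D)
    (hNM : Cfsg.Geo.decompositionStabilizer D ⊓ Cfsg.Geo.omegaGL (⇑Q) ≤ M)
    (h2 : (2 : F) ≠ 0) (hQ : (QuadraticMap.polarBilin Q).Nondegenerate) (hn : 7 ≤ n)
    (hk : 3 ≤ k) {i j : Fin t} (hij : i ≠ j) {u : Fin n → F} (hu : u ∈ D j) (hu0 : u ≠ 0)
    (hQu : Q u = 0) {y₀ : Fin n → F} (hy₀ : y₀ ∈ D i) (hy₀0 : y₀ ≠ 0)
    (hM : ((sg Q u y₀ : ↥(Cfsg.isometryGroup F ⇑Q)) : GL (Fin n) F) ∈ M) :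
    ∀ y ∈ D i, ((sg Q u y : ↥(Cfsg.isometryGroup F ⇑Q)) : GL (Fin n) F) ∈ M := by
  have huy : ∀ y ∈ D i, P u y = 0 := fun y hy => h.orth j i (Ne.symm hij) u hu y hy
  -- closure under squares
  have hsq : ∀ (a : F) (y : Fin n → F), y ∈ D i →
      ((sg Q u y : ↥(Cfsg.isometryGroup F ⇑Q)) : GL (Fin n) F) ∈ M →
      ((sg Q u ((a * a) • y) : ↥(Cfsg.isometryGroup F ⇑Q)) : GL (Fin n) F) ∈ M := by
    intro a y hy hyM
    by_cases ha : a = 0
    · rw [ha, mul_zero, zero_smul, sg_zero u hQu]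
      exact M.one_mem
    · obtain ⟨g, hg, hloc, hgu⟩ := exists_scale hQ hn (h.nd j) hu hu0 hQu a ha
      have hgM : (g : GL (Fin n) F) ∈ M := hNM (hloc.mem_N h hg)
      have := sg_conj_mem g hgM hQu (huy y hy) hyM
      rw [hgu, hloc.2 y (h.le_perp (Ne.symm hij) hy), sg_smul_left Q u y _ hQu (huy y hy)] at this
      exact this
  let T : Submodule F (Fin n → F) :=
    { carrier := {y | y ∈ D i ∧ ((sg Q u y : ↥(Cfsg.isometryGroup F ⇑Q)) : GL (Fin n) F) ∈ M}
      zero_mem' := ⟨(D i).zero_mem, by rw [sg_zero u hQu]; exact M.one_mem⟩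
      add_mem' := by
        rintro a b ⟨ha, haM⟩ ⟨hb, hbM⟩
        refine ⟨(D i).add_mem ha hb, ?_⟩
        rw [← sg_mul Q u a b hQu (huy a ha) (huy b hb)]
        have : ((sg Q u a * sg Q u b : ↥(Cfsg.isometryGroup F ⇑Q)) : GL (Fin n) F) =
            ((sg Q u a : ↥(Cfsg.isometryGroup F ⇑Q)) : GL (Fin n) F) *
            ((sg Q u b : ↥(Cfsg.isometryGroup F ⇑Q)) : GL (Fin n) F) := by simp
        rw [this]
        exact M.mul_mem haM hbM
      smul_mem' := by
        rintro c y ⟨hy, hyM⟩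
        refine ⟨(D i).smul_mem _ hy, ?_⟩
        obtain ⟨a, b, hab⟩ := exists_sq_add_sq h2 c
        have e : c • y = (a * a) • y + (b * b) • y := by rw [← add_smul, hab]
        rw [e, ← sg_mul Q u _ _ hQu (huy _ ((D i).smul_mem _ hy)) (huy _ ((D i).smul_mem _ hy))]
        have : ((sg Q u ((a * a) • y) * sg Q u ((b * b) • y) : ↥(Cfsg.isometryGroup F ⇑Q)) :
            GL (Fin n) F) =
            ((sg Q u ((a * a) • y) : ↥(Cfsg.isometryGroup F ⇑Q)) : GL (Fin n) F) *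
            ((sg Q u ((b * b) • y) : ↥(Cfsg.isometryGroup F ⇑Q)) : GL (Fin n) F) := by simp
        rw [this]
        exact M.mul_mem (hsq a y hy hyM) (hsq b y hy hyM) }
  have hT : ∀ y, y ∈ T ↔ y ∈ D i ∧
      ((sg Q u y : ↥(Cfsg.isometryGroup F ⇑Q)) : GL (Fin n) F) ∈ M := fun y => Iff.rfl
  have hle : D i ≤ T := by
    apply le_of_invariant' (h.pair i) (by rw [h.fr]; exact hk) T
    · intro e he z hz hQe hez y hy
      rw [hT] at hy ⊢
      have hloc := loc_sg he hz hQe hez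
      have hsM : ((sg Q e z : ↥(Cfsg.isometryGroup F ⇑Q)) : GL (Fin n) F) ∈ M :=
        hNM (hloc.mem_N h (sg_mem_comm Q hQ hn e z hQe hez))
      refine ⟨hloc.1 y hy.1, ?_⟩
      have := sg_conj_mem _ hsM hQu (huy y hy.1) hy.2
      rwa [hloc.2 u (h.le_perp hij hu)] at this
    · intro hcon
      have h1 : y₀ ∈ perp Q (D i) := hcon ((hT y₀).2 ⟨hy₀, hM⟩)
      have h3 : y₀ ∈ D i ⊓ perp Q (D i) := ⟨hy₀, h1⟩
      rw [(h.pair i).disj] at h3
      exact hy₀0 h3
  intro y hy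
  exact ((hT y).1 (hle hy)).2

/-- the Siegel elements with centre in `D j` and second vector in `D i` all lie in `M` -/
def JJ (Q : QuadraticForm F (Fin n → F)) (D : Fin t → Submodule F (Fin n → F))
    (M : Subgroup (GL (Fin n) F)) (j i : Fin t) : Prop :=
  ∀ u ∈ D j, Q u = 0 → ∀ y ∈ D i,
    ((sg Q u y : ↥(Cfsg.isometryGroup F ⇑Q)) : GL (Fin n) F) ∈ M

/-- a non-zero singular vector in each block -/
theorem ODec.exists_sing (h : ODec Q k D) (hk : 3 ≤ k) (i : Fin t) :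
    ∃ u ∈ D i, u ≠ 0 ∧ Q u = 0 :=
  exists_sing_in (Q := Q) (D i) (by rw [h.fr]; exact hk)

/-- from one mixed Siegel element to all Siegel elements mixing the two blocks -/
theorem JJ_of_sg (h : ODec Q k D)
    (hNM : Cfsg.Geo.decompositionStabilizer D ⊓ Cfsg.Geo.omegaGL (⇑Q) ≤ M)
    (h2 : (2 : F) ≠ 0) (hQ : (QuadraticMap.polarBilin Q).Nondegenerate) (hn : 7 ≤ n)
    (hk : 3 ≤ k) {i j : Fin t} (hij : i ≠ j) {u : Fin n → F} (hu : u ∈ D j) (hu0 : u ≠ 0)
    (hQu : Q u = 0) {y₀ : Fin n → F} (hy₀ : y₀ ∈ D i) (hy₀0 : y₀ ≠ 0)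
    (hM : ((sg Q u y₀ : ↥(Cfsg.isometryGroup F ⇑Q)) : GL (Fin n) F) ∈ M) :
    JJ Q D M j i ∧ JJ Q D M i j := by
  have s1 := sg_block_all h hNM h2 hQ hn hk hij hu hu0 hQu hy₀ hy₀0 hM
  -- all singular centres in `D i`
  have s2 : JJ Q D M i j := by
    intro u' hu' hQu' y hy
    by_cases hu'0 : u' = 0
    · subst hu'0
      have : sg Q (0 : Fin n → F) y = 1 := by
        apply el_ext
        intro x
        rw [sg_act Q _ _ (by simp) (by simp), act_one]
        simp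
      rw [this]; exact M.one_mem
    · have huu' : P u u' = 0 := h.orth j i (Ne.symm hij) u hu u' hu'
      have hu'u : P u' u = 0 := by rw [P_comm]; exact huu'
      have m1 := s1 u' hu'
      rw [← sg_antisymm u' u hQu' hQu hu'u] at m1
      exact sg_block_all h hNM h2 hQ hn hk (Ne.symm hij) hu' hu'0 hQu' ((D j).neg_mem hu)
        (neg_ne_zero.2 hu0) m1 y hy
  refine ⟨?_, s2⟩
  intro u'' hu'' hQu'' y hy
  by_cases hu''0 : u'' = 0
  · subst hu''0
    have : sg Q (0 : Fin n → F) y = 1 := by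
      apply el_ext
      intro x
      rw [sg_act Q _ _ (by simp) (by simp), act_one]
      simp
    rw [this]; exact M.one_mem
  · obtain ⟨u', hu', hu'0, hQu'⟩ := h.exists_sing hk i
    have h1 : P u' u'' = 0 := h.orth i j hij u' hu' u'' hu''
    have h1' : P u'' u' = 0 := by rw [P_comm]; exact h1
    have m1 := s2 u' hu' hQu' u'' hu''
    rw [← sg_antisymm u'' u' hQu'' hQu' h1'] at m1
    exact sg_block_all h hNM h2 hQ hn hk hij hu'' hu''0 hQu'' ((D i).neg_mem hu')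
      (neg_ne_zero.2 hu'0) m1 y hy

end fin

end Cfsg.Agent.Lib.H11.OmImp
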