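import Cfsg.Agent.Lib.H11.OmImp5

/-!
Imprimitive subgroups of `Ω` in odd dimension: isometries permuting the blocks.
-/

set_option autoImplicit false
set_option linter.unusedSimpArgs false
set_option linter.unusedSectionVars false
set_option linter.unusedVariables false

namespace Cfsg.Agent.Lib.H11.OmImp

open Matrix Module
open Cfsg.Agent.Lib.H28 Cfsg.Agent.Lib.H11.SubspMax
open Cfsg.Agent.Lib.H11.CD Cfsg.Agent.Lib.H11.SiegelGen Cfsg.Agent.Lib.H11.OrMax
open Cfsg.Agent.Lib.H11.OmTs Cfsg.Agent.Lib.H11.OmNd Cfsg.Agent.Lib.H11.PairStab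

variable {F : Type*} [Field F] {n : ℕ} {Q : QuadraticForm F (Fin n → F)}

set_option quotPrecheck false in
local notation "P" => QuadraticMap.polar (⇑Q)

variable {t k : ℕ} {D : Fin t → Submodule F (Fin n → F)} {M : Subgroup (GL (Fin n) F)}

theorem ODec.indep (h : ODec Q k D) : iSupIndep D := by
  intro i
  rw [Submodule.disjoint_def]
  intro x hx hx'
  have hle : (⨆ j, ⨆ (_ : j ≠ i), D j) ≤ perp Q (D i) := by
    apply iSup_le
    intro j
    apply iSup_le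
    intro hji
    exact h.le_perp (Ne.symm hji)
  have h3 : x ∈ D i ⊓ perp Q (D i) := ⟨hx, hle hx'⟩
  rw [(h.pair i).disj] at h3
  exact h3

theorem ODec.top (h : ODec Q k D) : iSup D = ⊤ := by
  rw [eq_top_iff]
  intro x _
  obtain ⟨c, hc, rfl⟩ := h.span x
  apply Submodule.sum_mem
  intro i _
  exact (le_iSup D i) (hc i)

/-- an isometry of `Q` permuting the blocks in a prescribed way -/
theorem exists_block_perm (h : ODec Q k D) (h2 : (2 : F) ≠ 0) (π : Equiv.Perm (Fin t)) :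
    ∃ g : ↥(Cfsg.isometryGroup F ⇑Q), ∀ i, ∀ y ∈ D i, act Q g y ∈ D (π i) := by
  classical
  rcases isEmpty_or_nonempty (Fin t) with hE | ⟨⟨i₀⟩⟩
  · exact ⟨1, fun i => isEmptyElim i⟩
  obtain ⟨b₀⟩ : Nonempty (Basis (Fin k) F (D i₀)) := ⟨Module.finBasisOfFinrankEq F (D i₀) (h.fr i₀)⟩
  choose e he using h.iso i₀
  obtain ⟨bs, hbs⟩ : ∃ bs : ∀ i, Basis (Fin k) F (D i),
      ∀ i x, ((bs i x : D i) : Fin n → F) = ((e i (b₀ x) : D i) : Fin n → F) :=
    ⟨fun i => b₀.map (e i), fun i x => by rw [Basis.map_apply]⟩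
  have hpol : ∀ i (a b : D i₀), P ((e i a : D i) : Fin n → F) ((e i b : D i) : Fin n → F) =
      P (a : Fin n → F) (b : Fin n → F) := by
    intro i a b
    unfold QuadraticMap.polar
    have : ((e i a : D i) : Fin n → F) + ((e i b : D i) : Fin n → F) =
        ((e i (a + b) : D i) : Fin n → F) := by
      rw [map_add]; rfl
    rw [this, he, he, he]
    rfl
  have gram : ∀ i i' x y, P ((bs i x : D i) : Fin n → F) ((bs i y : D i) : Fin n → F) =
      P ((bs i' x : D i') : Fin n → F) ((bs i' y : D i') : Fin n → F) := by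
    intro i i' x y
    rw [hbs, hbs, hbs, hbs, hpol, hpol]
  have hInt : DirectSum.IsInternal D :=
    DirectSum.isInternal_submodule_of_iSupIndep_of_iSup_eq_top h.indep h.top
  obtain ⟨cb, hcb⟩ : ∃ cb : Basis (Σ _ : Fin t, Fin k) F (Fin n → F),
      ∀ a, cb a = (bs a.1 a.2 : Fin n → F) := by
    refine ⟨hInt.collectedBasis bs, fun a => ?_⟩
    rw [DirectSum.IsInternal.collectedBasis_coe]
  obtain ⟨eπ, heπ⟩ : ∃ eπ : (Σ _ : Fin t, Fin k) ≃ (Σ _ : Fin t, Fin k),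
      ∀ a, eπ a = ⟨π a.1, a.2⟩ := by
    refine ⟨⟨fun a => ⟨π a.1, a.2⟩, fun a => ⟨π.symm a.1, a.2⟩, ?_, ?_⟩, fun a => rfl⟩
    · rintro ⟨i, x⟩; simp
    · rintro ⟨i, x⟩; simp
  obtain ⟨gL, hgL⟩ : ∃ gL : (Fin n → F) ≃ₗ[F] (Fin n → F), ∀ a, gL (cb a) = cb (eπ a) :=
    ⟨cb.equiv cb eπ, fun a => Basis.equiv_apply _ _ _ _⟩
  have hgLb : ∀ i x, gL (bs i x : Fin n → F) = (bs (π i) x : Fin n → F) := by
    intro i x
    have := hgL ⟨i, x⟩
    rw [hcb, heπ, hcb] at this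
    exact this
  have hisoP : ∀ u v : Fin n → F, P (gL u) (gL v) = P u v := by
    have : LinearMap.BilinForm.comp (QuadraticMap.polarBilin Q : LinearMap.BilinForm F (Fin n → F))
        (gL : (Fin n → F) →ₗ[F] (Fin n → F))
        (gL : (Fin n → F) →ₗ[F] (Fin n → F)) =
        (QuadraticMap.polarBilin Q : LinearMap.BilinForm F (Fin n → F)) := by
      apply LinearMap.BilinForm.ext_basis cb
      rintro ⟨i, x⟩ ⟨j, y⟩
      rw [LinearMap.BilinForm.comp_apply, hcb, hcb]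
      show P (gL (bs i x : Fin n → F)) (gL (bs j y : Fin n → F)) =
        P (bs i x : Fin n → F) (bs j y : Fin n → F)
      rw [hgLb, hgLb]
      by_cases hij : i = j
      · subst hij
        exact gram (π i) i x y
      · rw [h.orth (π i) (π j) (fun hh => hij (π.injective hh)) _ (bs (π i) x).2 _ (bs (π j) y).2,
          h.orth i j hij _ (bs i x).2 _ (bs j y).2]
    intro u v
    have h3 := LinearMap.congr_fun (LinearMap.congr_fun this u) v
    rw [LinearMap.BilinForm.comp_apply] at h3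
    exact h3
  have hisoQ : ∀ v : Fin n → F, Q (gL v) = Q v := by
    intro v
    have := hisoP v v
    rw [P_self, P_self] at this
    exact mul_left_cancel₀ h2 this
  have hmapsto : ∀ i, ∀ y ∈ D i, gL y ∈ D (π i) := by
    intro i y hy
    have h1 := (bs i).sum_repr ⟨y, hy⟩
    have h3 : y = ∑ a, (bs i).repr ⟨y, hy⟩ a • (bs i a : Fin n → F) := by
      have := congrArg (fun z : D i => (z : Fin n → F)) h1
      simp only [Submodule.coe_sum, Submodule.coe_smul] at this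
      exact this.symm
    rw [h3, map_sum]
    apply Submodule.sum_mem
    intro a _
    rw [map_smul, hgLb]
    exact (D (π i)).smul_mem _ (bs (π i) a).2
  refine ⟨elOfEquiv Q gL hisoQ, fun i y hy => ?_⟩
  rw [elOfEquiv_act]
  exact hmapsto i y hy

section fin
variable [Fintype F]

/-- the square of an isometry lies in `Ω` -/
theorem sq_mem_comm (hQ : (QuadraticMap.polarBilin Q).Nondegenerate) (h2 : (2 : F) ≠ 0)
    (g : ↥(Cfsg.isometryGroup F ⇑Q)) : g * g ∈ commutator ↥(Cfsg.isometryGroup F ⇑Q) := by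
  rw [← Abelianization.ker_of, MonoidHom.mem_ker, map_mul]
  exact Cfsg.Agent.Lib.H11.SpinSign.exp_two Q hQ h2 _

/-- `JJ` is transported by elements of `M` mapping blocks to blocks -/
theorem JJ_transfer (h : ODec Q k D) (g : ↥(Cfsg.isometryGroup F ⇑Q))
    (hgM : (g : GL (Fin n) F) ∈ M) {a b a' b' : Fin t} (hab' : a' ≠ b')
    (hga : ∀ y ∈ D a', act Q g y ∈ D a) (hgb : ∀ y ∈ D b', act Q g y ∈ D b)
    (hJ : JJ Q D M a b) : JJ Q D M a' b' := by
  intro u hu hQu y hy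
  have h1 := hJ (act Q g u) (hga u hu) (by rw [Q_act, hQu]) (act Q g y) (hgb y hy)
  have hgM' : ((g⁻¹ : ↥(Cfsg.isometryGroup F ⇑Q)) : GL (Fin n) F) ∈ M := by
    have : ((g⁻¹ : ↥(Cfsg.isometryGroup F ⇑Q)) : GL (Fin n) F) = (g : GL (Fin n) F)⁻¹ := by simp
    rw [this]; exact M.inv_mem hgM
  have h3 := sg_conj_mem g⁻¹ hgM' (by rw [Q_act, hQu])
    (by rw [polar_act]; exact h.orth a' b' hab' u hu y hy) h1
  rwa [Cfsg.Agent.Lib.H11.OmegaTrans.act_act_inv, Cfsg.Agent.Lib.H11.OmegaTrans.act_act_inv] at h3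

/-- rotating the blocks: from `(a, b)` to `(b, c)` -/
theorem JJ_cycle (h : ODec Q k D)
    (hNM : Cfsg.Geo.decompositionStabilizer D ⊓ Cfsg.Geo.omegaGL (⇑Q) ≤ M)
    (h2 : (2 : F) ≠ 0) (hQ : (QuadraticMap.polarBilin Q).Nondegenerate)
    {a b c : Fin t} (hab : a ≠ b) (hac : a ≠ c) (hbc : b ≠ c) (hJ : JJ Q D M a b) :
    JJ Q D M b c := by
  classical
  obtain ⟨π, hπ⟩ : ∃ π : Equiv.Perm (Fin t), π = Equiv.swap a c * Equiv.swap a b := ⟨_, rfl⟩
  have ha : π a = b := by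
    rw [hπ, Equiv.Perm.mul_apply, Equiv.swap_apply_left,
      Equiv.swap_apply_of_ne_of_ne (Ne.symm hab) hbc]
  have hb : π b = c := by
    rw [hπ, Equiv.Perm.mul_apply, Equiv.swap_apply_right, Equiv.swap_apply_left]
  have hc : π c = a := by
    rw [hπ, Equiv.Perm.mul_apply, Equiv.swap_apply_of_ne_of_ne (Ne.symm hac) (Ne.symm hbc),
      Equiv.swap_apply_right]
  obtain ⟨σ, hσ⟩ := exists_block_perm h h2 π
  have hmap : ∀ i, ∀ y ∈ D i, act Q (σ * σ) y ∈ D ((π * π) i) := by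
    intro i y hy
    rw [act_mul, Equiv.Perm.mul_apply]
    exact hσ _ _ (hσ i y hy)
  have hM : ((σ * σ : ↥(Cfsg.isometryGroup F ⇑Q)) : GL (Fin n) F) ∈ M :=
    hNM (mem_N_of_mapsTo h _ (sq_mem_comm hQ h2 σ) (π * π) hmap)
  refine JJ_transfer h (σ * σ) hM hbc ?_ ?_ hJ
  · intro y hy
    have := hmap b y hy
    rwa [Equiv.Perm.mul_apply, hb, hc] at this
  · intro y hy
    have := hmap c y hy
    rwa [Equiv.Perm.mul_apply, hc, ha] at this

/-- all mixed Siegel elements: symmetric version -/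
theorem JJ_all (h : ODec Q k D)
    (hNM : Cfsg.Geo.decompositionStabilizer D ⊓ Cfsg.Geo.omegaGL (⇑Q) ≤ M)
    (h2 : (2 : F) ≠ 0) (hQ : (QuadraticMap.polarBilin Q).Nondegenerate)
    {i₀ j₀ : Fin t} (hij : i₀ ≠ j₀) (h1 : JJ Q D M i₀ j₀) (h1' : JJ Q D M j₀ i₀) :
    ∀ a b : Fin t, a ≠ b → JJ Q D M a b := by
  -- one step
  have step : ∀ a b c : Fin t, a ≠ b → a ≠ c → b ≠ c → JJ Q D M a b → JJ Q D M b a →
      (JJ Q D M a c ∧ JJ Q D M c a) ∧ (JJ Q D M b c ∧ JJ Q D M c b) := by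
    intro a b c hab hac hbc J1 J2
    have J3 : JJ Q D M b c := JJ_cycle h hNM h2 hQ hab hac hbc J1
    have J4 : JJ Q D M c a := JJ_cycle h hNM h2 hQ hbc (Ne.symm hab) (Ne.symm hac) J3
    have J5 : JJ Q D M a c := JJ_cycle h hNM h2 hQ (Ne.symm hab) hbc hac J2
    have J6 : JJ Q D M c b := JJ_cycle h hNM h2 hQ hac hab (Ne.symm hbc) J5
    exact ⟨⟨J5, J4⟩, ⟨J3, J6⟩⟩
  have s1 : ∀ x : Fin t, x ≠ i₀ → JJ Q D M i₀ x ∧ JJ Q D M x i₀ := by
    intro x hx
    by_cases hxj : x = j₀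
    · subst hxj; exact ⟨h1, h1'⟩
    · exact (step i₀ j₀ x hij (Ne.symm hx) (Ne.symm hxj) h1 h1').1
  intro a b hab
  by_cases ha : a = i₀
  · subst ha; exact (s1 b (Ne.symm hab)).1
  · by_cases hb : b = i₀
    · subst hb; exact (s1 a ha).2
    · have := s1 a ha
      exact (step i₀ a b (Ne.symm ha) (Ne.symm hb) hab this.1 this.2).2.1

/-- singular vectors of the blocks are centres of full root groups of `M` -/
theorem mem_Cen_of_JJ (h : ODec Q k D)
    (hNM : Cfsg.Geo.decompositionStabilizer D ⊓ Cfsg.Geo.omegaGL (⇑Q) ≤ M)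
    (hQ : (QuadraticMap.polarBilin Q).Nondegenerate) (hn : 7 ≤ n)
    (hJ : ∀ a b : Fin t, a ≠ b → JJ Q D M a b) {a : Fin t} {u : Fin n → F} (hu : u ∈ D a)
    (hQu : Q u = 0) : u ∈ Cen Q M := by
  classical
  refine ⟨hQu, fun y huy => ?_⟩
  obtain ⟨c, hc, rfl⟩ := h.span y
  have hrest : ∀ s : Finset (Fin t), a ∉ s →
      P u (∑ l ∈ s, c l) = 0 ∧
      ((sg Q u (∑ l ∈ s, c l) : ↥(Cfsg.isometryGroup F ⇑Q)) : GL (Fin n) F) ∈ M := by
    intro s
    induction s using Finset.induction_on with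
    | empty =>
      intro _
      refine ⟨by simp, ?_⟩
      rw [Finset.sum_empty, sg_zero u hQu]
      exact M.one_mem
    | insert l s hl ih =>
      intro has
      have hla : l ≠ a := fun hh => has (hh ▸ Finset.mem_insert_self l s)
      have has' : a ∉ s := fun hh => has (Finset.mem_insert_of_mem hh)
      obtain ⟨ih1, ih2⟩ := ih has'
      have hul : P u (c l) = 0 := h.orth a l (Ne.symm hla) u hu _ (hc l)
      rw [Finset.sum_insert hl]
      refine ⟨by rw [QuadraticMap.polar_add_right, hul, ih1, add_zero], ?_⟩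
      rw [← sg_mul Q u _ _ hQu hul ih1]
      have : ((sg Q u (c l) * sg Q u (∑ l ∈ s, c l) : ↥(Cfsg.isometryGroup F ⇑Q)) :
          GL (Fin n) F) =
          ((sg Q u (c l) : ↥(Cfsg.isometryGroup F ⇑Q)) : GL (Fin n) F) *
          ((sg Q u (∑ l ∈ s, c l) : ↥(Cfsg.isometryGroup F ⇑Q)) : GL (Fin n) F) := by simp
      rw [this]
      exact M.mul_mem (hJ a l (Ne.symm hla) u hu hQu _ (hc l)) ih2
  obtain ⟨r1, r2⟩ := hrest (Finset.univ.erase a) (Finset.notMem_erase a _)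
  rw [← Finset.add_sum_erase _ _ (Finset.mem_univ a)] at huy ⊢
  have hua : P u (c a) = 0 := by
    rw [QuadraticMap.polar_add_right, r1, add_zero] at huy
    exact huy
  rw [← sg_mul Q u _ _ hQu hua r1]
  have : ((sg Q u (c a) * sg Q u (∑ l ∈ Finset.univ.erase a, c l) :
      ↥(Cfsg.isometryGroup F ⇑Q)) : GL (Fin n) F) =
      ((sg Q u (c a) : ↥(Cfsg.isometryGroup F ⇑Q)) : GL (Fin n) F) *
      ((sg Q u (∑ l ∈ Finset.univ.erase a, c l) : ↥(Cfsg.isometryGroup F ⇑Q)) :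
        GL (Fin n) F) := by simp
  rw [this]
  refine M.mul_mem (hNM ?_) r2
  exact (loc_sg hu (hc a) hQu hua).mem_N h (sg_mem_comm Q hQ hn u (c a) hQu hua)

/-- Step 2: a subgroup containing the stabiliser of the decomposition and one mixed Siegel
element contains `Ω` -/
theorem omega_le_of_sg (h : ODec Q k D)
    (hNM : Cfsg.Geo.decompositionStabilizer D ⊓ Cfsg.Geo.omegaGL (⇑Q) ≤ M)
    (h2 : (2 : F) ≠ 0) (hQ : (QuadraticMap.polarBilin Q).Nondegenerate) (hn : 7 ≤ n)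
    (hk : 3 ≤ k) {i j : Fin t} (hij : i ≠ j) {u : Fin n → F} (hu : u ∈ D j) (hu0 : u ≠ 0)
    (hQu : Q u = 0) {y₀ : Fin n → F} (hy₀ : y₀ ∈ D i) (hy₀0 : y₀ ≠ 0)
    (hM : ((sg Q u y₀ : ↥(Cfsg.isometryGroup F ⇑Q)) : GL (Fin n) F) ∈ M) :
    Cfsg.Geo.omegaGL (⇑Q) ≤ M := by
  obtain ⟨J1, J2⟩ := JJ_of_sg h hNM h2 hQ hn hk hij hu hu0 hQu hy₀ hy₀0 hM
  have hJ := JJ_all h hNM h2 hQ (Ne.symm hij) J1 J2
  obtain ⟨f, hf, hQf, huf⟩ := exists_partner_of_nd (h.nd j) hu hu0 hQu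
  have c1 := mem_Cen_of_JJ h hNM hQ hn hJ hu hQu
  have c2 := mem_Cen_of_JJ h hNM hQ hn hJ hf hQf
  apply omega_le_of_Cen Q M hQ hn
  intro z hz
  exact Cen_all Q M hQ c2 c1 (by rw [huf]; exact one_ne_zero) z hz

end fin

end Cfsg.Agent.Lib.H11.OmImp
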