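import Cfsg.Agent.Lib.H11.OmImp6

/-!
Imprimitive subgroups of `Ω` in odd dimension: an isometry mapping the vectors of norm `κ` of
the blocks into blocks stabilises the decomposition.
-/

set_option autoImplicit false
set_option linter.unusedSimpArgs false
set_option linter.unusedSectionVars false
set_option linter.unusedVariables false

namespace Cfsg.Agent.Lib.H11.OmImp

open Matrix Module
open Cfsg.Agent.Lib.H28 Cfsg.Agent.Lib.H11.SubspMax
open Cfsg.Agent.Lib.H11.CD Cfsg.Agent.Lib.H11.SiegelGen Cfsg.Agent.Lib.H11.OrMax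
open Cfsg.Agent.Lib.H11.OmTs Cfsg.Agent.Lib.H11.OmNd Cfsg.Agent.Lib.H11.PairStab

variable {F : Type*} [Field F] {n : ℕ} {Q : QuadraticForm F (Fin n → F)}

set_option quotPrecheck false in
local notation "P" => QuadraticMap.polar (⇑Q)

variable {t k : ℕ} {D : Fin t → Submodule F (Fin n → F)} {M : Subgroup (GL (Fin n) F)}

section fin
variable [Fintype F]

/-- auxiliary: a vector of norm `κ` with non-zero components in both of two orthogonal
subspaces -/
theorem split_aux [DecidableEq F] (h2 : (2 : F) ≠ 0) {A B : Submodule F (Fin n → F)}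
    (hA : ∀ a ∈ A, a ≠ 0 → ∃ a' ∈ A, P a a' ≠ 0) (hfA : 2 ≤ finrank F A)
    (hcond : 3 ≤ finrank F A ∨ 5 ≤ Fintype.card F) (hB0 : B ≠ ⊥) {κ : F} (hκ0 : κ ≠ 0) :
    ∃ a ∈ A, ∃ b ∈ B, a ≠ 0 ∧ b ≠ 0 ∧ Q a + Q b = κ := by
  obtain ⟨b₀, hb₀, hb₀0⟩ := (Submodule.ne_bot_iff B).1 hB0
  -- a vector `b` of `B` with `Q b ≠ κ`, or a singular vector of `A`
  have key : (∃ b ∈ B, b ≠ 0 ∧ Q b ≠ κ) ∨ (∃ a ∈ A, a ≠ 0 ∧ Q a = 0) := by
    by_cases hb : Q b₀ = κ
    · rcases hcond with h3 | h5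
      · right
        exact exists_sing_in (Q := Q) A h3
      · left
        obtain ⟨c, hc0, hc1, hc2⟩ := exists_ne3 (F := F) h5
        refine ⟨c • b₀, B.smul_mem _ hb₀, smul_ne_zero hc0 hb₀0, ?_⟩
        rw [QuadraticMap.map_smul, hb, smul_eq_mul]
        intro hh
        have : (c - 1) * (c + 1) * κ = 0 := by linear_combination hh
        rcases mul_eq_zero.1 this with h' | h'
        · rcases mul_eq_zero.1 h' with h'' | h''
          · exact hc1 (by linear_combination h'')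
          · exact hc2 (by linear_combination h'')
        · exact hκ0 h'
    · left
      exact ⟨b₀, hb₀, hb₀0, hb⟩
  rcases key with ⟨b, hb, hb0, hQb⟩ | ⟨a, ha, ha0, hQa⟩
  · have hc : κ - Q b ≠ 0 := fun hh => hQb (by linear_combination -hh)
    obtain ⟨a, ha, hQa⟩ := exists_Q_eq_of_nd h2 hA hfA _ hc
    refine ⟨a, ha, b, hb, ?_, hb0, by rw [hQa]; ring⟩
    rintro rfl
    apply hc
    rw [← hQa, map_zero]
  · by_cases hb : Q b₀ = κ
    · exact ⟨a, ha, b₀, hb₀, ha0, hb₀0, by rw [hQa, hb, zero_add]⟩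
    · have hc : κ - Q b₀ ≠ 0 := fun hh => hb (by linear_combination -hh)
      obtain ⟨a', ha', hQa'⟩ := exists_Q_eq_of_nd h2 hA hfA _ hc
      refine ⟨a', ha', b₀, hb₀, ?_, hb₀0, by rw [hQa']; ring⟩
      rintro rfl
      apply hc
      rw [← hQa', map_zero]

/-- (Lsplit) in a non-degenerate space of dimension `k ≥ 3` split orthogonally into two non-zero
parts there is a vector of norm `κ` with non-zero components in both parts -/
theorem exists_split_norm [DecidableEq F] (h2 : (2 : F) ≠ 0) {D₀ A B : Submodule F (Fin n → F)}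
    (hD : ∀ a ∈ D₀, a ≠ 0 → ∃ a' ∈ D₀, P a a' ≠ 0) (hfr : finrank F D₀ = k) (hk : 3 ≤ k)
    (hkq : 5 ≤ k ∨ 5 ≤ Fintype.card F) (hAD : A ≤ D₀) (hBD : B ≤ D₀)
    (horth : ∀ a ∈ A, ∀ b ∈ B, P a b = 0) (hsum : D₀ ≤ A ⊔ B) (hA0 : A ≠ ⊥) (hB0 : B ≠ ⊥)
    {κ : F} (hκ0 : κ ≠ 0) :
    ∃ a ∈ A, ∃ b ∈ B, a ≠ 0 ∧ b ≠ 0 ∧ Q (a + b) = κ := by
  have hA : ∀ a ∈ A, a ≠ 0 → ∃ a' ∈ A, P a a' ≠ 0 := by
    intro a ha ha0
    obtain ⟨d, hd, hne⟩ := hD a (hAD ha) ha0
    obtain ⟨a', ha', b', hb', rfl⟩ := Submodule.mem_sup.1 (hsum hd)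
    rw [QuadraticMap.polar_add_right, horth a ha b' hb', add_zero] at hne
    exact ⟨a', ha', hne⟩
  have hB : ∀ b ∈ B, b ≠ 0 → ∃ b' ∈ B, P b b' ≠ 0 := by
    intro b hb hb0
    obtain ⟨d, hd, hne⟩ := hD b (hBD hb) hb0
    obtain ⟨a', ha', b', hb', rfl⟩ := Submodule.mem_sup.1 (hsum hd)
    rw [QuadraticMap.polar_add_right, P_comm Q b a', horth a' ha' b hb, zero_add] at hne
    exact ⟨b', hb', hne⟩
  have hinf : A ⊓ B = ⊥ := by
    rw [eq_bot_iff]
    rintro x ⟨hxA, hxB⟩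
    rw [Submodule.mem_bot]
    by_contra hx0
    obtain ⟨a', ha', hne⟩ := hA x hxA hx0
    exact hne (by rw [P_comm]; exact horth a' ha' x hxB)
  have hsup : A ⊔ B = D₀ := le_antisymm (sup_le hAD hBD) hsum
  have hdim := Submodule.finrank_sup_add_finrank_inf_eq A B
  rw [hsup, hinf, finrank_bot, add_zero, hfr] at hdim
  have hAB : ∀ a ∈ A, ∀ b ∈ B, Q (a + b) = Q a + Q b := by
    intro a ha b hb
    rw [Q_add, horth a ha b hb, add_zero]
  have horth' : ∀ b ∈ B, ∀ a ∈ A, P b a = 0 := fun b hb a ha => by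
    rw [P_comm]; exact horth a ha b hb
  have hApos : 1 ≤ finrank F A := by
    by_contra hh
    have : finrank F A = 0 := by omega
    exact hA0 (Submodule.finrank_eq_zero.1 this)
  have hBpos : 1 ≤ finrank F B := by
    by_contra hh
    have : finrank F B = 0 := by omega
    exact hB0 (Submodule.finrank_eq_zero.1 this)
  by_cases h3A : 3 ≤ finrank F A
  · obtain ⟨a, ha, b, hb, ha0, hb0, hab⟩ := split_aux h2 hA (by omega) (Or.inl h3A) hB0 hκ0
    exact ⟨a, ha, b, hb, ha0, hb0, by rw [hAB a ha b hb, hab]⟩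
  · by_cases h3B : 3 ≤ finrank F B
    · obtain ⟨b, hb, a, ha, hb0, ha0, hab⟩ := split_aux h2 hB (by omega) (Or.inl h3B) hA0 hκ0
      exact ⟨a, ha, b, hb, ha0, hb0, by rw [hAB a ha b hb, add_comm, hab]⟩
    · have h5 : 5 ≤ Fintype.card F := by
        rcases hkq with h5 | h5
        · omega
        · exact h5
      by_cases h2A : 2 ≤ finrank F A
      · obtain ⟨a, ha, b, hb, ha0, hb0, hab⟩ := split_aux h2 hA h2A (Or.inr h5) hB0 hκ0
        exact ⟨a, ha, b, hb, ha0, hb0, by rw [hAB a ha b hb, hab]⟩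
      · obtain ⟨b, hb, a, ha, hb0, ha0, hab⟩ := split_aux h2 hB (by omega) (Or.inr h5) hA0 hκ0
        exact ⟨a, ha, b, hb, ha0, hb0, by rw [hAB a ha b hb, add_comm, hab]⟩

/-- the vectors of norm `κ` of a block span it -/
theorem span_kappa (h : ODec Q k D) (h2 : (2 : F) ≠ 0) (hk : 3 ≤ k) (i : Fin t) {κ : F}
    (hκ0 : κ ≠ 0) : D i ≤ Submodule.span F {v | v ∈ D i ∧ Q v = κ} := by
  have hfr : 3 ≤ finrank F (D i) := by rw [h.fr]; exact hk
  apply le_of_invariant' (h.pair i) hfr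
  · intro u hu y hy hQu huy x hx
    have hloc := loc_sg hu hy hQu huy
    induction hx using Submodule.span_induction with
    | mem x hx =>
      apply Submodule.subset_span
      exact ⟨hloc.1 x hx.1, by rw [Q_act]; exact hx.2⟩
    | zero =>
      rw [← act_def, Matrix.mulVec_zero]
      exact Submodule.zero_mem _
    | add x y _ _ hx hy =>
      rw [act_add]; exact Submodule.add_mem _ hx hy
    | smul a x _ hx =>
      rw [act_smul]; exact Submodule.smul_mem _ _ hx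
  · intro hcon
    obtain ⟨v₀, hv₀, hQv₀⟩ := exists_Q_eq_of_nd h2 (h.nd i) (by omega) κ hκ0
    have h1 : v₀ ∈ perp Q (D i) := hcon (Submodule.subset_span ⟨hv₀, hQv₀⟩)
    have h3 : v₀ ∈ D i ⊓ perp Q (D i) := ⟨hv₀, h1⟩
    rw [(h.pair i).disj, Submodule.mem_bot] at h3
    apply hκ0
    rw [← hQv₀, h3, map_zero]

/-- an isometry mapping the vectors of norm `κ` of the blocks into blocks maps every block into
a block -/
theorem block_map_of_kappa [DecidableEq F] (h : ODec Q k D) (h2 : (2 : F) ≠ 0) (hk : 3 ≤ k)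
    (hkq : 5 ≤ k ∨ 5 ≤ Fintype.card F) {κ : F} (hκ0 : κ ≠ 0)
    (g : ↥(Cfsg.isometryGroup F ⇑Q))
    (hg : ∀ i, ∀ v ∈ D i, Q v = κ → ∃ l, act Q g v ∈ D l) (i : Fin t) :
    ∃ j, ∀ y ∈ D i, act Q g y ∈ D j := by
  have hfr : 3 ≤ finrank F (D i) := by rw [h.fr]; exact hk
  obtain ⟨v₀, hv₀, hQv₀⟩ := exists_Q_eq_of_nd h2 (h.nd i) (by omega) κ hκ0
  obtain ⟨j₀, hj₀⟩ := hg i v₀ hv₀ hQv₀
  refine ⟨j₀, ?_⟩
  obtain ⟨gLin, hgLin⟩ : ∃ gLin : (Fin n → F) →ₗ[F] (Fin n → F), ∀ y, gLin y = act Q g y :=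
    ⟨Matrix.toLin' ((g : GL (Fin n) F) : Matrix (Fin n) (Fin n) F), fun y => by
      rw [Matrix.toLin'_apply, act_def]⟩
  obtain ⟨A, hAdef⟩ : ∃ A : Submodule F (Fin n → F), A = D i ⊓ (D j₀).comap gLin := ⟨_, rfl⟩
  obtain ⟨B, hBdef⟩ : ∃ B : Submodule F (Fin n → F), B = D i ⊓ (perp Q (D j₀)).comap gLin :=
    ⟨_, rfl⟩
  have memA : ∀ y, y ∈ A ↔ y ∈ D i ∧ act Q g y ∈ D j₀ := by
    intro y
    rw [hAdef, Submodule.mem_inf, Submodule.mem_comap, hgLin]
  have memB : ∀ y, y ∈ B ↔ y ∈ D i ∧ act Q g y ∈ perp Q (D j₀) := by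
    intro y
    rw [hBdef, Submodule.mem_inf, Submodule.mem_comap, hgLin]
  have hcover : ∀ v ∈ D i, Q v = κ → v ∈ A ∨ v ∈ B := by
    intro v hv hQv
    obtain ⟨l, hl⟩ := hg i v hv hQv
    by_cases hlj : l = j₀
    · left; rw [memA]; exact ⟨hv, hlj ▸ hl⟩
    · right; rw [memB]; exact ⟨hv, h.le_perp (Ne.symm hlj) hl⟩
  have hsum : D i ≤ A ⊔ B := by
    refine le_trans (span_kappa h h2 hk i hκ0) ?_
    rw [Submodule.span_le]
    rintro v ⟨hv, hQv⟩
    rcases hcover v hv hQv with hA | hB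
    · exact Submodule.mem_sup_left hA
    · exact Submodule.mem_sup_right hB
  have hinf : ∀ x ∈ A, x ∈ B → x = 0 := by
    intro x hxA hxB
    have h3 : act Q g x ∈ D j₀ ⊓ perp Q (D j₀) := ⟨((memA x).1 hxA).2, ((memB x).1 hxB).2⟩
    rw [(h.pair j₀).disj, Submodule.mem_bot] at h3
    have := Cfsg.Agent.Lib.H11.OmegaTrans.act_act_inv Q g x
    rw [h3, ← act_def, Matrix.mulVec_zero] at this
    exact this.symm
  by_cases hB0 : B = ⊥
  · intro y hy
    have := hsum hy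
    rw [hB0, sup_bot_eq] at this
    exact ((memA y).1 this).2
  · exfalso
    have hA0 : A ≠ ⊥ := by
      intro hh
      have : v₀ ∈ A := (memA v₀).2 ⟨hv₀, hj₀⟩
      rw [hh, Submodule.mem_bot] at this
      apply hκ0
      rw [← hQv₀, this, map_zero]
    have horth : ∀ a ∈ A, ∀ b ∈ B, P a b = 0 := by
      intro a ha b hb
      rw [← polar_act Q g]
      exact mem_perp.1 ((memB b).1 hb).2 _ ((memA a).1 ha).2
    obtain ⟨a, ha, b, hb, ha0, hb0, hab⟩ := exists_split_norm h2 (h.nd i) (h.fr i) hk hkq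
      (fun x hx => ((memA x).1 hx).1) (fun x hx => ((memB x).1 hx).1) horth hsum hA0 hB0 hκ0
    have hz : a + b ∈ D i := (D i).add_mem ((memA a).1 ha).1 ((memB b).1 hb).1
    rcases hcover _ hz hab with hzA | hzB
    · apply hb0
      apply hinf b _ hb
      have := A.sub_mem hzA ha
      rwa [add_sub_cancel_left] at this
    · apply ha0
      apply hinf a ha
      have := B.sub_mem hzB hb
      rwa [add_sub_cancel_right] at this

/-- Lemma Z: an isometry mapping the vectors of norm `κ` of the blocks into blocks stabilises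
the decomposition -/
theorem stab_of_maps_kappa [DecidableEq F] (h : ODec Q k D) (h2 : (2 : F) ≠ 0) (hk : 3 ≤ k)
    (hkq : 5 ≤ k ∨ 5 ≤ Fintype.card F) {κ : F} (hκ0 : κ ≠ 0)
    (g : ↥(Cfsg.isometryGroup F ⇑Q))
    (hg : ∀ i, ∀ v ∈ D i, Q v = κ → ∃ l, act Q g v ∈ D l) :
    (g : GL (Fin n) F) ∈ Cfsg.Geo.decompositionStabilizer D := by
  choose σ hσ using block_map_of_kappa h h2 hk hkq hκ0 g hg
  have hmap : ∀ i, (D i).map (Matrix.toLin' ((g : GL (Fin n) F) : Matrix (Fin n) (Fin n) F)) =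
      D (σ i) := by
    intro i
    apply Submodule.eq_of_le_of_finrank_eq
    · rintro _ ⟨y, hy, rfl⟩
      rw [Matrix.toLin'_apply, act_def]
      exact hσ i y hy
    · rw [finrank_map_gl, h.fr, h.fr]
  have hinj : Function.Injective σ := by
    intro i i' hii'
    by_contra hne
    have hDD : D i = D i' := map_gl_injective (g : GL (Fin n) F) (by rw [hmap, hmap, hii'])
    obtain ⟨v₀, hv₀, hQv₀⟩ := exists_Q_eq_of_nd h2 (h.nd i) (by rw [h.fr]; omega) κ hκ0
    have hv0 : v₀ ≠ 0 := by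
      rintro rfl
      apply hκ0
      rw [← hQv₀, map_zero]
    obtain ⟨a', ha', hne'⟩ := h.nd i v₀ hv₀ hv0
    apply hne'
    exact h.orth i i' hne v₀ hv₀ a' (hDD ▸ ha')
  have hbij : Function.Bijective σ := Finite.injective_iff_bijective.1 hinj
  refine ⟨Equiv.ofBijective σ hbij, fun i => ?_⟩
  rw [Equiv.ofBijective_apply]
  exact hmap i

end fin

end Cfsg.Agent.Lib.H11.OmImp
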