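import Cfsg.Agent.Lib.H11.OmImp7

/-!
Imprimitive subgroups of `Ω` in odd dimension: the stabiliser of an orthogonal decomposition into
isometric non-degenerate blocks of dimension at least `3` is maximal.
-/

set_option autoImplicit false
set_option linter.unusedSimpArgs false
set_option linter.unusedSectionVars false
set_option linter.unusedVariables false

namespace Cfsg.Agent.Lib.H11.OmImp

open Matrix Module
open Cfsg.Agent.Lib.H28 Cfsg.Agent.Lib.H11.SubspMax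
open Cfsg.Agent.Lib.H11.CD Cfsg.Agent.Lib.H11.SiegelGen Cfsg.Agent.Lib.H11.OrMax
open Cfsg.Agent.Lib.H11.OmTs Cfsg.Agent.Lib.H11.OmNd Cfsg.Agent.Lib.H11.PairStab

variable {F : Type*} [Field F] {n : ℕ} {Q : QuadraticForm F (Fin n → F)}

set_option quotPrecheck false in
local notation "P" => QuadraticMap.polar (⇑Q)

variable {t k : ℕ} {D : Fin t → Submodule F (Fin n → F)} {M : Subgroup (GL (Fin n) F)}

section fin
variable [Fintype F]

/-- a Siegel element mixing two blocks does not stabilise the decomposition -/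
theorem sg_not_mem_stab (h : ODec Q k D) (hk : 3 ≤ k) {i₀ i₁ : Fin t} (h01 : i₀ ≠ i₁) :
    ∃ s : ↥(Cfsg.isometryGroup F ⇑Q), (∃ u y, Q u = 0 ∧ P u y = 0 ∧ s = sg Q u y) ∧
      (s : GL (Fin n) F) ∉ Cfsg.Geo.decompositionStabilizer D := by
  obtain ⟨u, hu, hu0, hQu⟩ := h.exists_sing hk i₀
  obtain ⟨f, hf, hQf, huf⟩ := exists_partner_of_nd (h.nd i₀) hu hu0 hQu
  obtain ⟨y, hy, hy0, hQy⟩ := h.exists_sing hk i₁
  have huy : P u y = 0 := h.orth i₀ i₁ h01 u hu y hy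
  have hyf : P y f = 0 := by rw [P_comm]; exact h.orth i₀ i₁ h01 f hf y hy
  refine ⟨sg Q u y, ⟨u, y, hQu, huy, rfl⟩, ?_⟩
  rintro ⟨σ, hσ⟩
  have hsf : act Q (sg Q u y) f ∈ D (σ i₀) := by
    rw [← hσ i₀]
    refine ⟨f, hf, ?_⟩
    rw [Matrix.toLin'_apply, act_def]
  have hval : act Q (sg Q u y) f = f + y := by
    rw [sg_act Q u y hQu huy, huf, hyf, hQy]
    simp
  rw [hval] at hsf
  by_cases hσ0 : σ i₀ = i₀
  · rw [hσ0] at hsf
    have hy' : y ∈ D i₀ := by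
      have := (D i₀).sub_mem hsf hf
      rwa [add_sub_cancel_left] at this
    have h3 : y ∈ D i₀ ⊓ perp Q (D i₀) := ⟨hy', h.le_perp h01 hy⟩
    rw [(h.pair i₀).disj, Submodule.mem_bot] at h3
    exact hy0 h3
  · have h1 : f + y ∈ perp Q (D i₀) := h.le_perp (Ne.symm hσ0) hsf
    have h3 := mem_perp.1 h1 u hu
    rw [QuadraticMap.polar_add_right, huf, huy] at h3
    simp at h3

/-- the main theorem on `Fin n → F` -/
theorem imp_maximal (h : ODec Q k D) (h2 : (2 : F) ≠ 0)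
    (hQ : (QuadraticMap.polarBilin Q).Nondegenerate) (hn : 7 ≤ n) (hodd : Odd n) (hk : 3 ≤ k)
    (hkq : 5 ≤ k ∨ 5 ≤ Fintype.card F) (ht : 2 ≤ t) :
    Cfsg.Geo.IsMaximalIn (Cfsg.Geo.omegaGL (⇑Q))
      (Cfsg.Geo.decompositionStabilizer D ⊓ Cfsg.Geo.omegaGL (⇑Q)) := by
  classical
  constructor
  · apply lt_of_le_of_ne inf_le_right
    intro heq
    obtain ⟨s, ⟨u, y, hQu, huy, rfl⟩, hs⟩ := sg_not_mem_stab h hk
      (i₀ := (⟨0, by omega⟩ : Fin t)) (i₁ := (⟨1, by omega⟩ : Fin t)) (by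
        intro hh
        have := congrArg Fin.val hh
        simp at this)
    have hsΩ : ((sg Q u y : ↥(Cfsg.isometryGroup F ⇑Q)) : GL (Fin n) F) ∈
        Cfsg.Geo.omegaGL (⇑Q) := coe_mem_omegaGL Q _ (sg_mem_comm Q hQ hn u y hQu huy)
    rw [← heq] at hsΩ
    exact hs hsΩ.1
  · intro M hNM hMΩ
    by_cases hMN : M ≤ Cfsg.Geo.decompositionStabilizer D ⊓ Cfsg.Geo.omegaGL (⇑Q)
    · left; exact le_antisymm hMN hNM
    · right
      apply le_antisymm hMΩ
      obtain ⟨g₀, hg₀M, hg₀N⟩ := Set.not_subset.1 hMN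
      obtain ⟨g, hgc, rfl⟩ := exists_of_mem_omegaGL Q g₀ (hMΩ hg₀M)
      have hgS : (g : GL (Fin n) F) ∉ Cfsg.Geo.decompositionStabilizer D :=
        fun hh => hg₀N ⟨hh, hMΩ hg₀M⟩
      obtain ⟨κ, hκ0, hκ⟩ := exists_kappa hQ h2 (by omega) hodd
      obtain ⟨x, hxR, hQx, hxD⟩ : ∃ x, InR Q M x ∧ Q x = κ ∧ ∀ l, x ∉ D l := by
        by_contra hcon
        push Not at hcon
        apply hgS
        apply stab_of_maps_kappa h h2 hk hkq hκ0 g
        intro i v hv hQv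
        have hR := (InR_of_block h hNM hκ0 hκ hv hQv).map g hg₀M
        exact hcon _ hR (by rw [Q_act]; exact hQv)
      obtain ⟨i, j, hij, u, hu, y, hy, hu0, hy0, hQu, hsg⟩ :=
        exists_sg_of_InR h hNM hκ0 hκ h2 hQ hn hk hkq hxR hQx hxD
      exact omega_le_of_sg h hNM h2 hQ hn hk hij hu hu0 hQu hy hy0 hsg

end fin

end Cfsg.Agent.Lib.H11.OmImp
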