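import Cfsg.Agent.Lib.H11.OmImp8

/-!
Imprimitive subgroups of `Ω` in odd dimension: transport to an arbitrary index type.
-/

set_option autoImplicit false
set_option linter.unusedSimpArgs false
set_option linter.unusedSectionVars false
set_option linter.unusedVariables false

namespace Cfsg.Agent.Lib.H11.OmImp

open Matrix Module
open Cfsg.Agent.Lib.H28 Cfsg.Agent.Lib.H11.SubspMax
open Cfsg.Agent.Lib.H11.CD Cfsg.Agent.Lib.H11.SiegelGen Cfsg.Agent.Lib.H11.OrMax
open Cfsg.Agent.Lib.H11.OmTs Cfsg.Agent.Lib.H11.OmNd Cfsg.Agent.Lib.H11.PairStab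
open Cfsg.Agent.Lib.H11.IsoReindex

section Any

variable {F : Type*} [Field F] {ι κ : Type} [Fintype ι] [DecidableEq ι] [Fintype κ] [DecidableEq κ]

theorem comp_symm_comp (e : ι ≃ κ) (z : ι → F) : (z ∘ e.symm) ∘ e = z := by funext i; simp

theorem comp_comp_symm (e : ι ≃ κ) (z : κ → F) : (z ∘ e) ∘ e.symm = z := by funext i; simp

theorem toLin'_glReindex (e : ι ≃ κ) (g : GL ι F) (x : κ → F) :
    Matrix.toLin' ((glReindex e g : GL κ F) : Matrix κ κ F) x =
      (Matrix.toLin' (g : Matrix ι ι F) (x ∘ e)) ∘ e.symm := by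
  rw [Matrix.toLin'_apply, Matrix.toLin'_apply]
  exact glReindex_mulVec e g x

/-- images of transported subspaces -/
theorem map_trW_iff (e : ι ≃ κ) (g : GL ι F) (W W' : Submodule F (ι → F)) :
    (trW e W).map (Matrix.toLin' ((glReindex e g : GL κ F) : Matrix κ κ F)) = trW e W' ↔
      W.map (Matrix.toLin' (g : Matrix ι ι F)) = W' := by
  constructor
  · intro h
    ext w'
    constructor
    · rintro ⟨w, hw, rfl⟩
      have h1 : w ∘ e.symm ∈ trW e W := by rw [mem_trW, comp_symm_comp]; exact hw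
      have h3 : Matrix.toLin' ((glReindex e g : GL κ F) : Matrix κ κ F) (w ∘ e.symm) ∈
          trW e W' := by
        rw [← h]; exact Submodule.mem_map_of_mem h1
      rw [toLin'_glReindex, mem_trW, comp_symm_comp, comp_symm_comp] at h3
      exact h3
    · intro hw'
      have h1 : w' ∘ e.symm ∈ trW e W' := by rw [mem_trW, comp_symm_comp]; exact hw'
      rw [← h] at h1
      obtain ⟨x, hx, hxe⟩ := h1
      rw [toLin'_glReindex] at hxe
      refine ⟨x ∘ e, hx, ?_⟩
      have := congrArg (fun z : κ → F => z ∘ e) hxe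
      simp only [comp_symm_comp] at this
      exact this
  · intro h
    ext x'
    constructor
    · rintro ⟨x, hx, rfl⟩
      rw [toLin'_glReindex, mem_trW, comp_symm_comp, ← h]
      exact Submodule.mem_map_of_mem hx
    · intro hx'
      rw [mem_trW, ← h] at hx'
      obtain ⟨w, hw, hwe⟩ := hx'
      have hw1 : w ∘ e.symm ∈ trW e W := by rw [mem_trW, comp_symm_comp]; exact hw
      refine ⟨w ∘ e.symm, hw1, ?_⟩
      rw [toLin'_glReindex, comp_symm_comp, hwe, comp_comp_symm]

/-- the stabiliser of a decomposition transported along a reindexing -/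
theorem comap_decompositionStabilizer (e : ι ≃ κ) {t : ℕ} (D : Fin t → Submodule F (ι → F)) :
    (Cfsg.Geo.decompositionStabilizer (fun i => trW e (D i))).comap
      (glReindex (F := F) e).toMonoidHom = Cfsg.Geo.decompositionStabilizer D := by
  ext g
  rw [Subgroup.mem_comap]
  change (∃ σ : Equiv.Perm (Fin t), ∀ i,
      (trW e (D i)).map (Matrix.toLin' ((glReindex e g : GL κ F) : Matrix κ κ F)) =
        trW e (D (σ i))) ↔
    ∃ σ : Equiv.Perm (Fin t), ∀ i, (D i).map (Matrix.toLin' (g : Matrix ι ι F)) = D (σ i)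
  constructor
  · rintro ⟨σ, hσ⟩
    exact ⟨σ, fun i => (map_trW_iff e g _ _).1 (hσ i)⟩
  · rintro ⟨σ, hσ⟩
    exact ⟨σ, fun i => (map_trW_iff e g _ _).2 (hσ i)⟩

/-- a transported subspace is linearly equivalent to the original one -/
noncomputable def trWEquiv (e : ι ≃ κ) (W : Submodule F (ι → F)) : trW e W ≃ₗ[F] W :=
  LinearEquiv.ofSubmodule' (LinearEquiv.funCongrLeft F F e) W

theorem trWEquiv_apply (e : ι ≃ κ) (W : Submodule F (ι → F)) (x : trW e W) :
    ((trWEquiv e W x : W) : ι → F) = (x : κ → F) ∘ e := rfl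

theorem trWEquiv_symm_apply (e : ι ≃ κ) (W : Submodule F (ι → F)) (w : W) :
    (((trWEquiv e W).symm w : trW e W) : κ → F) ∘ e = (w : ι → F) := by
  rw [← trWEquiv_apply, LinearEquiv.apply_symm_apply]

/-- transport of an orthogonal decomposition -/
theorem odec_tr {n : ℕ} (e : ι ≃ Fin n) (Q : QuadraticForm F (ι → F)) {t k : ℕ}
    (D : Fin t → Submodule F (ι → F)) (hD : Cfsg.Geo.IsOrthogonalMDecomposition (⇑Q) k D) :
    ODec (trQF e Q) k (fun i => trW e (D i)) where
  orth := by
    intro i j hij a ha b hb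
    rw [coe_trQF, polar_tr]
    exact hD.decomp.orthogonal i j hij _ ((mem_trW e _ a).1 ha) _ ((mem_trW e _ b).1 hb)
  span := by
    intro x
    have hx : x ∘ e ∈ iSup D := by rw [hD.decomp.decomp.iSup_eq_top]; exact Submodule.mem_top
    rw [Submodule.mem_iSup_iff_exists_finsupp] at hx
    obtain ⟨f, hf, hfx⟩ := hx
    refine ⟨fun i => (f i) ∘ e.symm, fun i => ?_, ?_⟩
    · show (f i) ∘ e.symm ∈ trW e (D i)
      rw [mem_trW, comp_symm_comp]; exact hf i
    · rw [Finsupp.sum_fintype _ _ (fun i => rfl)] at hfx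
      funext a
      have := congrFun hfx (e.symm a)
      simp only [Function.comp_apply, Equiv.apply_symm_apply, Finset.sum_apply] at this ⊢
      exact this.symm
  nd := by
    intro i a ha ha0
    have := nondegOn_trW e (⇑Q) (D i) (hD.decomp.nondegenerate i) a ha ha0
    rw [coe_trQF]
    exact this.2
  fr := by
    intro i
    show finrank F (trW e (D i)) = k
    rw [finrank_trW, hD.decomp.decomp.finrank_eq]
  iso := by
    intro i j
    obtain ⟨e', he'⟩ := hD.isometric i j
    refine ⟨(trWEquiv e (D i)).trans (e'.trans (trWEquiv e (D j)).symm), fun w => ?_⟩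
    have hl : ∀ x, (trQF e Q) x = Q (x ∘ e) := fun x => rfl
    rw [hl, hl, LinearEquiv.trans_apply, LinearEquiv.trans_apply, trWEquiv_symm_apply, he', trWEquiv_apply]

/-- the main theorem for an arbitrary index type -/
theorem imp_maximal_any [Fintype F] (Q : (ι → F) → F)
    (hQ : Cfsg.Geo.IsNondegenerateQuadraticForm Q) (hn : 7 ≤ Fintype.card ι)
    (hodd : Odd (Fintype.card ι)) (h2 : (2 : F) ≠ 0) {t k : ℕ} (D : Fin t → Submodule F (ι → F))
    (hD : Cfsg.Geo.IsOrthogonalMDecomposition Q k D) (hk : 3 ≤ k)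
    (hkq : 5 ≤ k ∨ 5 ≤ Fintype.card F) :
    Cfsg.Geo.IsMaximalIn (Cfsg.Geo.omegaGL Q)
      (Cfsg.Geo.decompositionStabilizer D ⊓ Cfsg.Geo.omegaGL Q) := by
  obtain ⟨e, -⟩ : ∃ e : ι ≃ Fin (Fintype.card ι), True := ⟨Fintype.equivFin ι, trivial⟩
  have hD' : Cfsg.Geo.IsOrthogonalMDecomposition (⇑(Cfsg.Agent.Lib.H29.Orth.toQF Q hQ)) k D := by
    rw [Cfsg.Agent.Lib.H29.Orth.coe_toQF]; exact hD
  have h := odec_tr e (Cfsg.Agent.Lib.H29.Orth.toQF Q hQ) D hD'
  have h1 := imp_maximal h h2
    (nondeg_trQF e _ (Cfsg.Agent.Lib.H29.Orth.toQF_nondegenerate Q hQ)) hn hodd hk hkq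
    hD.decomp.decomp.two_le
  rw [coe_trQF, Cfsg.Agent.Lib.H29.Orth.coe_toQF] at h1
  have h3 := isMaximalIn_comap (glReindex (F := F) e) h1
  rw [Subgroup.comap_inf, comap_omegaGL, comap_decompositionStabilizer] at h3
  exact h3

end Any

end Cfsg.Agent.Lib.H11.OmImp
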