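import Cfsg.Agent.Lib.H11.OmPair10
import Cfsg.Agent.Lib.H13.Witt

/-!
Non-degenerate subspace stabilisers in `Ω`: a non-degenerate subspace `A` and its orthogonal
complement `E`.
-/

set_option autoImplicit false
set_option linter.unusedSimpArgs false
set_option linter.unusedSectionVars false
set_option linter.unusedVariables false

namespace Cfsg.Agent.Lib.H11.OmNd

open Matrix Module
open Cfsg.Agent.Lib.H28 Cfsg.Agent.Lib.H11.SubspMax
open Cfsg.Agent.Lib.H11.CD Cfsg.Agent.Lib.H11.SiegelGen Cfsg.Agent.Lib.H11.OrMax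
open Cfsg.Agent.Lib.H11.OmTs
open Cfsg.Agent.Lib.H11.SpPair (finrank_le_inf_ker_add_one exists_mem_kers_not_mem)

variable {F : Type*} [Field F] {n : ℕ} (Q : QuadraticForm F (Fin n → F))

set_option quotPrecheck false in
local notation "P" => QuadraticMap.polar (⇑Q)

/-- an orthogonal decomposition `A ⊥ E` of the whole space with `A` non-degenerate -/
structure NdPair (A E : Submodule F (Fin n → F)) : Prop where
  orth : ∀ a ∈ A, ∀ e ∈ E, P a e = 0
  span : ∀ x : Fin n → F, ∃ a ∈ A, ∃ e ∈ E, x = a + e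
  nd : ∀ a ∈ A, a ≠ 0 → ∃ a' ∈ A, P a a' ≠ 0

variable {Q} {A E : Submodule F (Fin n → F)}

theorem NdPair.orth' (h : NdPair Q A E) {a e : Fin n → F} (ha : a ∈ A) (he : e ∈ E) :
    P e a = 0 := by rw [P_comm]; exact h.orth a ha e he

theorem NdPair.disj (h : NdPair Q A E) : A ⊓ E = ⊥ := by
  rw [eq_bot_iff]
  rintro x ⟨hxA, hxE⟩
  rw [Submodule.mem_bot]
  by_contra hx0
  obtain ⟨a', ha', hne⟩ := h.nd x hxA hx0
  exact hne (h.orth' ha' hxE)

theorem NdPair.nd_E (h : NdPair Q A E) (hQ : (QuadraticMap.polarBilin Q).Nondegenerate)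
    {e : Fin n → F} (he : e ∈ E) (he0 : e ≠ 0) : ∃ e' ∈ E, P e e' ≠ 0 := by
  obtain ⟨x, hx⟩ := exists_P_ne Q hQ e he0
  obtain ⟨a, ha, e', he', rfl⟩ := h.span x
  rw [QuadraticMap.polar_add_right, h.orth' ha he, zero_add] at hx
  exact ⟨e', he', hx⟩

theorem NdPair.symm (h : NdPair Q A E) (hQ : (QuadraticMap.polarBilin Q).Nondegenerate) :
    NdPair Q E A where
  orth := fun e he a ha => h.orth' ha he
  span := fun x => by
    obtain ⟨a, ha, e, he, rfl⟩ := h.span x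
    exact ⟨e, he, a, ha, add_comm _ _⟩
  nd := fun e he he0 => h.nd_E hQ he he0

/-- a vector outside `A` has a non-zero `E`-component -/
theorem NdPair.comp_ne (h : NdPair Q A E) {a e : Fin n → F} (ha : a ∈ A)
    (hx : a + e ∉ A) : e ≠ 0 := by
  rintro rfl
  rw [add_zero] at hx
  exact hx ha

/-- a singular partner inside `A` -/
theorem NdPair.exists_partner (h : NdPair Q A E) {u : Fin n → F} (hu : u ∈ A) (hu0 : u ≠ 0)
    (hQu : Q u = 0) : ∃ f ∈ A, Q f = 0 ∧ P u f = 1 := by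
  obtain ⟨a', ha', hne⟩ := h.nd u hu hu0
  obtain ⟨a'', ha'', h1⟩ : ∃ a'' ∈ A, P u a'' = 1 := by
    refine ⟨(P u a')⁻¹ • a', A.smul_mem _ ha', ?_⟩
    rw [QuadraticMap.polar_smul_right, smul_eq_mul, inv_mul_cancel₀ hne]
  refine ⟨a'' - Q a'' • u, A.sub_mem ha'' (A.smul_mem _ hu), ?_, ?_⟩
  · rw [Q_sub', QuadraticMap.map_smul, hQu, QuadraticMap.polar_smul_right, P_comm Q a'' u, h1]
    simp
  · rw [QuadraticMap.polar_sub_right, QuadraticMap.polar_smul_right, P_self, hQu, h1]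
    simp

/-- the projection of a vector of `A` onto the orthogonal complement of a hyperbolic pair -/
theorem proj_hyp {u f : Fin n → F} (hQu : Q u = 0) (hQf : Q f = 0) (huf : P u f = 1)
    (a : Fin n → F) :
    P u (a - P a f • u - P a u • f) = 0 ∧ P f (a - P a f • u - P a u • f) = 0 := by
  have hfu : P f u = 1 := by rw [P_comm]; exact huf
  refine ⟨?_, ?_⟩
  · rw [QuadraticMap.polar_sub_right, QuadraticMap.polar_sub_right, QuadraticMap.polar_smul_right,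
      QuadraticMap.polar_smul_right, P_self, hQu, huf, P_comm Q a u]
    simp
  · rw [QuadraticMap.polar_sub_right, QuadraticMap.polar_sub_right, QuadraticMap.polar_smul_right,
      QuadraticMap.polar_smul_right, P_self, hQf, hfu, P_comm Q a f]
    simp

/-- a non-zero singular vector in a subspace of dimension at least three -/
theorem exists_sing_in [Finite F] (X : Submodule F (Fin n → F)) (hX : 3 ≤ finrank F X) :
    ∃ u ∈ X, u ≠ 0 ∧ Q u = 0 := by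
  obtain ⟨v, hv0, hv⟩ := Cfsg.Agent.Lib.H13.exists_singular_of_three_le (Q.comp X.subtype) hX
  refine ⟨v.1, v.2, fun h => hv0 (Subtype.ext h), ?_⟩
  rw [QuadraticMap.comp_apply] at hv
  exact hv

/-- a hyperbolic pair of `A` orthogonal to a given hyperbolic pair of `A` -/
theorem NdPair.exists_hyp_perp_in [Finite F] (h : NdPair Q A E) (hfr : 5 ≤ finrank F A)
    {u f : Fin n → F} (hu : u ∈ A) (hf : f ∈ A) (hQu : Q u = 0) (hQf : Q f = 0)
    (huf : P u f = 1) :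
    ∃ u₁ ∈ A, ∃ f₁ ∈ A, Q u₁ = 0 ∧ Q f₁ = 0 ∧ P u₁ f₁ = 1 ∧ P u u₁ = 0 ∧ P f u₁ = 0 ∧
      P u f₁ = 0 ∧ P f f₁ = 0 := by
  have h1 := finrank_le_inf_ker_add_one A (fr Q u)
  have h2 := finrank_le_inf_ker_add_one (A ⊓ LinearMap.ker (fr Q u)) (fr Q f)
  obtain ⟨u₁, hu₁X, hu₁0, hQu₁⟩ := exists_sing_in (Q := Q)
    (A ⊓ LinearMap.ker (fr Q u) ⊓ LinearMap.ker (fr Q f)) (by omega)
  have hu₁A : u₁ ∈ A := hu₁X.1.1
  have hu₁u : P u u₁ = 0 := LinearMap.mem_ker.1 hu₁X.1.2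
  have hu₁f : P f u₁ = 0 := LinearMap.mem_ker.1 hu₁X.2
  obtain ⟨a', ha', hne⟩ := h.nd u₁ hu₁A hu₁0
  obtain ⟨a'', ha'', hdef⟩ : ∃ a'' ∈ A, a'' = a' - P a' f • u - P a' u • f :=
    ⟨_, A.sub_mem (A.sub_mem ha' (A.smul_mem _ hu)) (A.smul_mem _ hf), rfl⟩
  obtain ⟨p1, p2⟩ := proj_hyp hQu hQf huf a'
  rw [← hdef] at p1 p2
  have hu₁u' : P u₁ u = 0 := by rw [P_comm]; exact hu₁u
  have hu₁f' : P u₁ f = 0 := by rw [P_comm]; exact hu₁f
  have hne' : P u₁ a'' ≠ 0 := by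
    rw [hdef, QuadraticMap.polar_sub_right, QuadraticMap.polar_sub_right,
      QuadraticMap.polar_smul_right, QuadraticMap.polar_smul_right, hu₁u', hu₁f']
    simpa using hne
  obtain ⟨b, hb, hb1, hbu, hbf⟩ : ∃ b ∈ A, P u₁ b = 1 ∧ P u b = 0 ∧ P f b = 0 := by
    refine ⟨(P u₁ a'')⁻¹ • a'', A.smul_mem _ ha'', ?_, ?_, ?_⟩
    · rw [QuadraticMap.polar_smul_right, smul_eq_mul, inv_mul_cancel₀ hne']
    · rw [QuadraticMap.polar_smul_right, p1, smul_zero]
    · rw [QuadraticMap.polar_smul_right, p2, smul_zero]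
  refine ⟨u₁, hu₁A, b - Q b • u₁, A.sub_mem hb (A.smul_mem _ hu₁A), hQu₁, ?_, ?_, hu₁u, hu₁f,
    ?_, ?_⟩
  · rw [Q_sub', QuadraticMap.map_smul, hQu₁, QuadraticMap.polar_smul_right, P_comm Q b u₁, hb1]
    simp
  · rw [QuadraticMap.polar_sub_right, QuadraticMap.polar_smul_right, P_self, hQu₁, hb1]
    simp
  · rw [QuadraticMap.polar_sub_right, QuadraticMap.polar_smul_right, hbu, hu₁u]
    simp
  · rw [QuadraticMap.polar_sub_right, QuadraticMap.polar_smul_right, hbf, hu₁f]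
    simp

/-- the orthogonal complement in `A` of a hyperbolic pair represents every scalar -/
theorem NdPair.exists_rep [Finite F] (h : NdPair Q A E) (hfr : 5 ≤ finrank F A)
    {u f : Fin n → F} (hu : u ∈ A) (hf : f ∈ A) (hQu : Q u = 0) (hQf : Q f = 0)
    (huf : P u f = 1) (c : F) : ∃ a ∈ A, P u a = 0 ∧ P f a = 0 ∧ Q a = c := by
  obtain ⟨u₁, hu₁, f₁, hf₁, hQu₁, hQf₁, h11, h1, h2, h3, h4⟩ :=
    h.exists_hyp_perp_in hfr hu hf hQu hQf huf
  refine ⟨u₁ + c • f₁, A.add_mem hu₁ (A.smul_mem _ hf₁), ?_, ?_, ?_⟩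
  · rw [QuadraticMap.polar_add_right, QuadraticMap.polar_smul_right, h1, h3]; simp
  · rw [QuadraticMap.polar_add_right, QuadraticMap.polar_smul_right, h2, h4]; simp
  · rw [Q_add, QuadraticMap.map_smul, hQu₁, hQf₁, QuadraticMap.polar_smul_right, h11]; simp

/-- a singular vector of `A` not orthogonal to a given non-zero vector of `A` -/
theorem NdPair.exists_sing_nonorth [Finite F] (h : NdPair Q A E) (hfr : 3 ≤ finrank F A)
    {a₀ : Fin n → F} (ha₀ : a₀ ∈ A) (ha₀0 : a₀ ≠ 0) : ∃ u ∈ A, Q u = 0 ∧ P u a₀ ≠ 0 := by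
  obtain ⟨u₀, hu₀, hu₀0, hQu₀⟩ := exists_sing_in (Q := Q) A hfr
  obtain ⟨f₀, hf₀, hQf₀, huf⟩ := h.exists_partner hu₀ hu₀0 hQu₀
  by_cases h1 : P u₀ a₀ ≠ 0
  · exact ⟨u₀, hu₀, hQu₀, h1⟩
  by_cases h2 : P f₀ a₀ ≠ 0
  · exact ⟨f₀, hf₀, hQf₀, h2⟩
  rw [not_not] at h1 h2
  obtain ⟨x, hx, hne⟩ := h.nd a₀ ha₀ ha₀0
  obtain ⟨x', hx', hdef⟩ : ∃ x' ∈ A, x' = x - P x f₀ • u₀ - P x u₀ • f₀ :=
    ⟨_, A.sub_mem (A.sub_mem hx (A.smul_mem _ hu₀)) (A.smul_mem _ hf₀), rfl⟩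
  obtain ⟨p1, p2⟩ := proj_hyp hQu₀ hQf₀ huf x
  rw [← hdef] at p1 p2
  have h1' : P a₀ u₀ = 0 := by rw [P_comm]; exact h1
  have h2' : P a₀ f₀ = 0 := by rw [P_comm]; exact h2
  have hne' : P a₀ x' ≠ 0 := by
    rw [hdef, QuadraticMap.polar_sub_right, QuadraticMap.polar_sub_right,
      QuadraticMap.polar_smul_right, QuadraticMap.polar_smul_right, h1', h2']
    simpa using hne
  refine ⟨x' + (f₀ - Q x' • u₀), A.add_mem hx' (A.sub_mem hf₀ (A.smul_mem _ hu₀)), ?_, ?_⟩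
  · have e1 : Q (f₀ - Q x' • u₀) = - Q x' := by
      rw [Q_sub', QuadraticMap.map_smul, hQu₀, hQf₀, QuadraticMap.polar_smul_right, P_comm Q f₀ u₀,
        huf]
      simp
    have e2 : P x' (f₀ - Q x' • u₀) = 0 := by
      rw [QuadraticMap.polar_sub_right, QuadraticMap.polar_smul_right, P_comm Q x' f₀, p2,
        P_comm Q x' u₀, p1]
      simp
    rw [Q_add, e1, e2]; ring
  · rw [QuadraticMap.polar_add_left, QuadraticMap.polar_sub_left, QuadraticMap.polar_smul_left, h1,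
      h2, P_comm Q x' a₀]
    simpa using hne'

end Cfsg.Agent.Lib.H11.OmNd
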