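import Cfsg.Agent.Lib.H11.OmNd9

/-!
Irreducibility of `E` under its reflections and Siegel elements, in all dimensions.
-/

set_option autoImplicit false
set_option linter.unusedSimpArgs false
set_option linter.unusedSectionVars false
set_option linter.unusedVariables false

namespace Cfsg.Agent.Lib.H11.OmNd

open Matrix Module
open Cfsg.Agent.Lib.H28 Cfsg.Agent.Lib.H11.SubspMax
open Cfsg.Agent.Lib.H11.CD Cfsg.Agent.Lib.H11.SiegelGen Cfsg.Agent.Lib.H11.OrMax
open Cfsg.Agent.Lib.H11.OmTs

variable {F : Type*} [Field F] {n : ℕ} {Q : QuadraticForm F (Fin n → F)}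

set_option quotPrecheck false in
local notation "P" => QuadraticMap.polar (⇑Q)

variable {A E : Submodule F (Fin n → F)}

theorem exists_three_ne [Fintype F] (hq : 4 ≤ Fintype.card F) (l₀ : F) :
    ∃ a b c : F, a ≠ l₀ ∧ b ≠ l₀ ∧ c ≠ l₀ ∧ a ≠ b ∧ a ≠ c ∧ b ≠ c := by
  classical
  have h1 : 2 < ((Finset.univ : Finset F).erase l₀).card := by
    rw [Finset.card_erase_of_mem (Finset.mem_univ _), Finset.card_univ]
    omega
  obtain ⟨a, ha, b, hb, c, hc, hab, hac, hbc⟩ := Finset.two_lt_card.1 h1
  exact ⟨a, b, c, Finset.ne_of_mem_erase ha, Finset.ne_of_mem_erase hb,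
    Finset.ne_of_mem_erase hc, hab, hac, hbc⟩

/-- the reflections of a non-degenerate plane act irreducibly, unless `q ≤ 3` and the plane
contains singular vectors -/
theorem irr_plane [Fintype F] (h : NdPair Q A E)
    (hQ : (QuadraticMap.polarBilin Q).Nondegenerate) (hE : finrank F E = 2)
    (hex : 4 ≤ Fintype.card F ∨ ∀ e ∈ E, Q e = 0 → e = 0)
    (S : Submodule F (Fin n → F)) (hSE : S ≤ E) (hS0 : S ≠ ⊥)
    (hinv : ∀ e₀ ∈ E, ∀ (he₀ : Q e₀ ≠ 0), ∀ s ∈ S, act Q (reflEl Q e₀ he₀) s ∈ S) : S = E := by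
  by_contra hne
  have hlt : ¬ E ≤ S := fun hle => hne (le_antisymm hSE hle)
  obtain ⟨x₀, hx₀E, hx₀S⟩ := Set.not_subset.mp hlt
  obtain ⟨s, hsS, hs0⟩ := Submodule.exists_mem_ne_zero_of_ne_bot hS0
  have hsE : s ∈ E := hSE hsS
  -- a vector of `E` outside `S` not orthogonal to `s`
  obtain ⟨x, hxE, hxS, hsx⟩ : ∃ x ∈ E, x ∉ S ∧ P s x ≠ 0 := by
    by_cases h1 : P s x₀ ≠ 0
    · exact ⟨x₀, hx₀E, hx₀S, h1⟩
    rw [not_not] at h1
    refine ⟨x₀ + s, E.add_mem hx₀E hsE, fun hmem => hx₀S ?_, ?_⟩
    · have := S.sub_mem hmem hsS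
      rwa [add_sub_cancel_right] at this
    · rw [QuadraticMap.polar_add_right, h1, zero_add]
      intro hss
      -- then `s` is orthogonal to `E`, which is spanned by `s` and `x₀`
      obtain ⟨e', he', hne'⟩ := h.nd_E hQ hsE hs0
      apply hne'
      -- `e'` lies in the span of `s` and `x₀`
      have hli : LinearIndependent F ![(⟨s, hsE⟩ : E), ⟨x₀, hx₀E⟩] := by
        rw [LinearIndependent.pair_iff]
        intro a b hab
        have hab' : a • s + b • x₀ = 0 := by
          have := congrArg Subtype.val hab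
          simpa using this
        have hb : b = 0 := by
          by_contra hb
          apply hx₀S
          have h3 : x₀ = (-(b⁻¹ * a)) • s := by
            have h4 : b • x₀ = -(a • s) := eq_neg_of_add_eq_zero_right hab'
            have h5 : x₀ = b⁻¹ • (b • x₀) := by rw [smul_smul, inv_mul_cancel₀ hb, one_smul]
            rw [h5, h4, smul_neg, smul_smul, neg_smul]
          rw [h3]
          exact S.smul_mem _ hsS
        rw [hb, zero_smul, add_zero] at hab'
        exact ⟨(smul_eq_zero.1 hab').resolve_right hs0, hb⟩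
      have hspan : (⊤ : Submodule F E) ≤ Submodule.span F (Set.range ![(⟨s, hsE⟩ : E), ⟨x₀, hx₀E⟩]) := by
        have := hli.span_eq_top_of_card_eq_finrank' (by simp [hE])
        rw [this]
      have hmem : (⟨e', he'⟩ : E) ∈ Submodule.span F (Set.range ![(⟨s, hsE⟩ : E), ⟨x₀, hx₀E⟩]) :=
        hspan Submodule.mem_top
      rw [Matrix.range_cons, Matrix.range_cons, Matrix.range_empty, Set.union_empty,
        Set.union_comm, ← Set.insert_eq, Submodule.mem_span_pair] at hmem
      obtain ⟨a, b, hab⟩ := hmem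
      have hab' : a • x₀ + b • s = e' := by
        have := congrArg Subtype.val hab
        simpa using this
      rw [← hab', QuadraticMap.polar_add_right, QuadraticMap.polar_smul_right,
        QuadraticMap.polar_smul_right, h1, hss]
      simp
  -- the vectors `x + l • s`
  have key : ∀ l : F, P s x + l * P s s ≠ 0 → Q x + l * P s x + l ^ 2 * Q s = 0 := by
    intro l hl
    have hvE : x + l • s ∈ E := E.add_mem hxE (E.smul_mem l hsE)
    have hvS : x + l • s ∉ S := by
      intro hmem
      apply hxS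
      have := S.sub_mem hmem (S.smul_mem l hsS)
      rwa [add_sub_cancel_right] at this
    have hQv : Q (x + l • s) = Q x + l * P s x + l ^ 2 * Q s := by
      rw [Q_add, QuadraticMap.map_smul, QuadraticMap.polar_smul_right, P_comm Q x s]
      simp only [smul_eq_mul]
      ring
    rw [← hQv]
    by_contra hQne
    rcases mem_or_orth_of_invariant S hinv hvE hQne with h3 | h3
    · exact hvS h3
    · apply hl
      have := h3 s hsS
      rw [QuadraticMap.polar_add_right, QuadraticMap.polar_smul_right, smul_eq_mul] at this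
      exact this
  rcases hex with hq | haniso
  · -- three distinct good scalars
    obtain ⟨l₀, hl₀⟩ : ∃ l₀ : F, ∀ l, l ≠ l₀ → P s x + l * P s s ≠ 0 := by
      by_cases ht : P s s = 0
      · exact ⟨0, fun l _ => by rw [ht, mul_zero, add_zero]; exact hsx⟩
      · refine ⟨-(P s x / P s s), fun l hl h0 => hl ?_⟩
        field_simp
        linear_combination h0
    obtain ⟨l₁, l₂, l₃, h1, h2, h3, h12, h13, h23⟩ := exists_three_ne hq l₀
    have e1 := key l₁ (hl₀ l₁ h1)
    have e2 := key l₂ (hl₀ l₂ h2)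
    have e3 := key l₃ (hl₀ l₃ h3)
    have f1 : P s x + Q s * (l₁ + l₂) = 0 := by
      have : (l₁ - l₂) * (P s x + Q s * (l₁ + l₂)) = 0 := by linear_combination e1 - e2
      exact (mul_eq_zero.1 this).resolve_left (sub_ne_zero.2 h12)
    have f2 : P s x + Q s * (l₁ + l₃) = 0 := by
      have : (l₁ - l₃) * (P s x + Q s * (l₁ + l₃)) = 0 := by linear_combination e1 - e3
      exact (mul_eq_zero.1 this).resolve_left (sub_ne_zero.2 h13)
    have f3 : Q s = 0 := by
      have : (l₂ - l₃) * Q s = 0 := by linear_combination f1 - f2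
      exact (mul_eq_zero.1 this).resolve_left (sub_ne_zero.2 h23)
    rw [f3, zero_mul, add_zero] at f1
    exact hsx f1
  · have e0 := key 0 (by rw [zero_mul, add_zero]; exact hsx)
    simp only [zero_mul, add_zero, ne_eq, OfNat.ofNat_ne_zero, not_false_eq_true, zero_pow] at e0
    have := haniso x hxE e0
    apply hxS
    rw [this]
    exact S.zero_mem

/-- irreducibility of `E` under its reflections and Siegel elements -/
theorem irr_general [Fintype F] (h : NdPair Q A E)
    (hQ : (QuadraticMap.polarBilin Q).Nondegenerate)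
    (hplane : finrank F E = 2 → (4 ≤ Fintype.card F ∨ ∀ e ∈ E, Q e = 0 → e = 0))
    (S : Submodule F (Fin n → F)) (hSE : S ≤ E) (hS0 : S ≠ ⊥)
    (hinv : ∀ e₀ ∈ E, ∀ (he₀ : Q e₀ ≠ 0), ∀ s ∈ S, act Q (reflEl Q e₀ he₀) s ∈ S)
    (hinv' : ∀ e ∈ E, ∀ z ∈ E, Q e = 0 → P e z = 0 → ∀ s ∈ S, act Q (sg Q e z) s ∈ S) :
    S = E := by
  by_cases h3 : 3 ≤ finrank F E
  · have hSA : ¬ S ≤ A := by
      intro hle
      apply hS0
      rw [eq_bot_iff, ← h.disj]
      exact le_inf hle hSE
    exact le_antisymm hSE (le_of_invariant' (h.symm hQ) h3 S hinv' hSA)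
  by_cases h2 : finrank F E = 2
  · exact irr_plane h hQ h2 (hplane h2) S hSE hS0 hinv
  · have hpos : 0 < finrank F S := by
      by_contra h0
      have h0' : finrank F S = 0 := by omega
      exact hS0 (Submodule.finrank_eq_zero.1 h0')
    exact Submodule.eq_of_le_of_finrank_le hSE (by omega)

end Cfsg.Agent.Lib.H11.OmNd
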