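import Cfsg.Agent.Lib.H11.OmNd10

/-!
Glue: the stabiliser in `Ω` of a non-degenerate subspace `W` (with `W^⊥` as partner).
-/

set_option autoImplicit false
set_option linter.unusedSimpArgs false
set_option linter.unusedSectionVars false
set_option linter.unusedVariables false

namespace Cfsg.Agent.Lib.H11.OmNd

open Matrix Module
open Cfsg.Agent.Lib.H28 Cfsg.Agent.Lib.H11.SubspMax
open Cfsg.Agent.Lib.H11.CD Cfsg.Agent.Lib.H11.SiegelGen Cfsg.Agent.Lib.H11.OrMax
open Cfsg.Agent.Lib.H11.OmTs Cfsg.Agent.Lib.H11.PairStab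

variable {F : Type*} [Field F] {n : ℕ} (Q : QuadraticForm F (Fin n → F))

set_option quotPrecheck false in
local notation "P" => QuadraticMap.polar (⇑Q)

/-- the orthogonal complement of a subspace for the polar form -/
def perp (W : Submodule F (Fin n → F)) : Submodule F (Fin n → F) :=
  LinearMap.BilinForm.orthogonal (QuadraticMap.polarBilin Q) W

variable {Q} {W : Submodule F (Fin n → F)}

theorem mem_perp {x : Fin n → F} : x ∈ perp Q W ↔ ∀ w ∈ W, P w x = 0 := by
  unfold perp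
  rw [LinearMap.BilinForm.mem_orthogonal_iff]
  rfl

theorem perp_disjoint (hW : Cfsg.Geo.IsNondegenerateOn (QuadraticMap.polar (⇑Q)) W) :
    Disjoint W (perp Q W) := by
  rw [Submodule.disjoint_def]
  intro x hxW hxE
  by_contra hx0
  obtain ⟨⟨w, hw, hne⟩, -⟩ := hW x hxW hx0
  exact hne (mem_perp.1 hxE w hw)

theorem perp_isCompl (hW : Cfsg.Geo.IsNondegenerateOn (QuadraticMap.polar (⇑Q)) W) :
    IsCompl W (perp Q W) := by
  unfold perp
  rw [LinearMap.BilinForm.isCompl_orthogonal_iff_disjoint]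
  · exact perp_disjoint hW
  · intro x y hxy
    rw [QuadraticMap.polarBilin_apply_apply] at hxy ⊢
    rw [QuadraticMap.polar_comm]; exact hxy

theorem ndPair_perp (hW : Cfsg.Geo.IsNondegenerateOn (QuadraticMap.polar (⇑Q)) W) :
    NdPair Q W (perp Q W) := by
  refine ⟨fun a ha e he => mem_perp.1 he a ha, ?_, fun a ha ha0 => (hW a ha ha0).2⟩
  intro x
  have hx : x ∈ W ⊔ perp Q W := by
    rw [(perp_isCompl hW).sup_eq_top]; exact Submodule.mem_top
  obtain ⟨x₁, h₁, x₂, h₂, hx⟩ := Submodule.mem_sup.1 hx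
  exact ⟨x₁, h₁, x₂, h₂, hx.symm⟩

theorem finrank_perp (hW : Cfsg.Geo.IsNondegenerateOn (QuadraticMap.polar (⇑Q)) W) :
    finrank F W + finrank F (perp Q W) = n := by
  have := Submodule.finrank_add_eq_of_isCompl (perp_isCompl hW)
  rw [this]
  simp

variable {A E : Submodule F (Fin n → F)}

/-- in `Ω`, the stabilisers of the two parts of a pair coincide -/
theorem stab_le_stab (h : NdPair Q A E) (hQ : (QuadraticMap.polarBilin Q).Nondegenerate) :
    Cfsg.Geo.subspaceStabilizer A ⊓ Cfsg.Geo.omegaGL (⇑Q) ≤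
      Cfsg.Geo.subspaceStabilizer E ⊓ Cfsg.Geo.omegaGL (⇑Q) := by
  rintro h₀ ⟨hh₀A, hh₀Ω⟩
  refine ⟨?_, hh₀Ω⟩
  obtain ⟨g, -, rfl⟩ := exists_of_mem_omegaGL Q h₀ hh₀Ω
  have hA := (mem_subspaceStabilizer_iff _ A).1 hh₀A
  apply stab_of_le
  intro e he
  rw [act_def]
  apply maps_E h hQ g _ he
  intro x hx
  rw [hA (act Q g⁻¹ x), act_def, Cfsg.Agent.Lib.H11.OmegaTrans.act_inv_act]
  exact hx

theorem stab_eq_stab (h : NdPair Q A E) (hQ : (QuadraticMap.polarBilin Q).Nondegenerate) :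
    Cfsg.Geo.subspaceStabilizer A ⊓ Cfsg.Geo.omegaGL (⇑Q) =
      Cfsg.Geo.subspaceStabilizer E ⊓ Cfsg.Geo.omegaGL (⇑Q) :=
  le_antisymm (stab_le_stab h hQ) (stab_le_stab (h.symm hQ) hQ)

/-- no isometry maps a subspace into one of smaller dimension -/
theorem no_map_of_finrank_lt (hlt : finrank F E < finrank F A)
    (g : ↥(Cfsg.isometryGroup F ⇑Q)) : ¬ ∀ x ∈ A, act Q g x ∈ E := by
  intro hall
  have hle : A.map (Matrix.toLin' ((g : GL (Fin n) F) : Matrix (Fin n) (Fin n) F)) ≤ E := by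
    rintro _ ⟨x, hx, rfl⟩
    rw [Matrix.toLin'_apply, act_def]
    exact hall x hx
  have := Submodule.finrank_mono hle
  rw [finrank_map_gl] at this
  omega

/-- the stabiliser in `Ω` of a non-degenerate subspace is maximal -/
theorem nd_stab_maximal [Fintype F] (hQ : (QuadraticMap.polarBilin Q).Nondegenerate)
    (hn : 13 ≤ n) (hW0 : W ≠ ⊥) (hW1 : W ≠ ⊤)
    (hW : Cfsg.Geo.IsNondegenerateOn (QuadraticMap.polar (⇑Q)) W)
    (hns : 2 * finrank F W = n →
      ∀ g : ↥(Cfsg.isometryGroup F ⇑Q), ¬ ∀ x ∈ W, act Q g x ∈ perp Q W)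
    (hplW : finrank F W = 2 → (4 ≤ Fintype.card F ∨ ∀ e ∈ W, Q e = 0 → e = 0))
    (hplE : finrank F (perp Q W) = 2 →
      (4 ≤ Fintype.card F ∨ ∀ e ∈ perp Q W, Q e = 0 → e = 0)) :
    Cfsg.Geo.IsMaximalIn (Cfsg.Geo.omegaGL (⇑Q))
      (Cfsg.Geo.subspaceStabilizer W ⊓ Cfsg.Geo.omegaGL (⇑Q)) := by
  have h := ndPair_perp hW
  have hfr := finrank_perp hW
  have hE0 : perp Q W ≠ ⊥ := by
    intro hE
    apply hW1
    have := (perp_isCompl hW).sup_eq_top
    rwa [hE, sup_bot_eq] at this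
  rcases Nat.lt_or_ge (finrank F W) (finrank F (perp Q W)) with hlt | hge
  · rw [stab_eq_stab h hQ]
    refine nd_maximal' (h.symm hQ) hQ (by omega) (by omega) hW0
      (no_map_of_finrank_lt hlt) ?_
    intro S hSE hS0 hinv hinv'
    exact irr_general (h.symm hQ) hQ hplW S hSE hS0 hinv hinv'
  · refine nd_maximal' h hQ (by omega) (by omega) hE0 ?_ ?_
    · rcases Nat.lt_or_ge (finrank F (perp Q W)) (finrank F W) with hlt | hge'
      · exact no_map_of_finrank_lt hlt
      · exact hns (by omega)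
    · intro S hSE hS0 hinv hinv'
      exact irr_general h hQ hplE S hSE hS0 hinv hinv'

end Cfsg.Agent.Lib.H11.OmNd
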