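import Cfsg.Agent.Lib.H11.OmNd11
import Cfsg.Agent.Lib.H13.MinusClass

/-!
A similarity of multiplier `-1` on an even-dimensional non-degenerate quadratic space over a
finite field; consequence: if an isometry maps a non-degenerate half-dimensional subspace of
even dimension into its orthogonal complement, the space is of plus type.
-/

set_option autoImplicit false
set_option linter.unusedSimpArgs false
set_option linter.unusedSectionVars false
set_option linter.unusedVariables false

namespace Cfsg.Agent.Lib.H11.OmNd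

open Matrix Module
open Cfsg.Agent.Lib.H28 Cfsg.Agent.Lib.H11.SubspMax
open Cfsg.Agent.Lib.H11.CD Cfsg.Agent.Lib.H11.SiegelGen Cfsg.Agent.Lib.H11.OrMax
open Cfsg.Agent.Lib.H11.OmTs Cfsg.Agent.Lib.H11.PairStab
open Cfsg.Agent.Lib.H13 Cfsg.Agent.Lib.H13.MinusClass

section Sim

variable {F : Type*} [Field F]

/-- `(x, y) ↦ (x, -y)` on the plus-type coordinate space -/
def negPlus (d : ℕ) : (Fin d ⊕ Fin d → F) →ₗ[F] (Fin d ⊕ Fin d → F) where
  toFun v := Sum.elim (fun j => v (Sum.inl j)) (fun j => - v (Sum.inr j))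
  map_add' u v := by
    funext i
    rcases i with j | j
    · simp
    · simp; ring
  map_smul' c v := by
    funext i
    rcases i with j | j
    · simp
    · simp

theorem quadFormPlus_negPlus (d : ℕ) (v : Fin d ⊕ Fin d → F) :
    Cfsg.quadFormPlus d F (negPlus d v) = - Cfsg.quadFormPlus d F v := by
  unfold Cfsg.quadFormPlus negPlus
  simp only [LinearMap.coe_mk, AddHom.coe_mk, Sum.elim_inl, Sum.elim_inr, mul_neg,
    Finset.sum_neg_distrib]

/-- the analogous map on the minus-type coordinate space -/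
def negMinus (k : ℕ) (α β ζ : F) : (IM k → F) →ₗ[F] (IM k → F) where
  toFun v := Sum.elim (Sum.elim (fun j => v (Sum.inl (Sum.inl j)))
      (fun j => - v (Sum.inl (Sum.inr j))))
    ![α * v (Sum.inr 0) - β * ζ * v (Sum.inr 1), β * v (Sum.inr 0) + (α + β) * v (Sum.inr 1)]
  map_add' u v := by
    funext i
    rcases i with (j | j) | l
    · simp
    · simp; ring
    · fin_cases l
      · simp; ring
      · simp; ring
  map_smul' c v := by
    funext i
    rcases i with (j | j) | l
    · simp
    · simp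
    · fin_cases l
      · simp; ring
      · simp; ring

theorem quadFormMinus_negMinus (k : ℕ) (α β ζ : F) (h : α ^ 2 + α * β + ζ * β ^ 2 = -1)
    (v : IM k → F) :
    Cfsg.quadFormMinus k F 1 ζ (negMinus k α β ζ v) = - Cfsg.quadFormMinus k F 1 ζ v := by
  unfold Cfsg.quadFormMinus negMinus
  simp only [LinearMap.coe_mk, AddHom.coe_mk, Sum.elim_inl, Sum.elim_inr, mul_neg,
    Finset.sum_neg_distrib, Matrix.cons_val_zero, Matrix.cons_val_one]
  linear_combination (v (Sum.inr 0) ^ 2 + v (Sum.inr 0) * v (Sum.inr 1)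
    + ζ * v (Sum.inr 1) ^ 2) * h

theorem exists_norm_neg_one [Finite F] (ζ : F) (hζ : ∀ t : F, t ^ 2 + t + ζ ≠ 0) :
    ∃ α β : F, α ^ 2 + α * β + ζ * β ^ 2 = -1 := by
  have haniso : ∀ v : IM 0 → F, minusQF F 0 1 ζ v = 0 → v = 0 := by
    intro v hv
    rw [minusQF_apply] at hv
    unfold Cfsg.quadFormMinus at hv
    simp only [Finset.univ_eq_empty, Finset.sum_empty, zero_add, one_mul] at hv
    have h1 : v (Sum.inr 1) = 0 := by
      by_contra h1
      apply hζ (v (Sum.inr 0) / v (Sum.inr 1))
      field_simp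
      linear_combination hv
    rw [h1] at hv
    have h0 : v (Sum.inr 0) = 0 := by
      have : v (Sum.inr 0) ^ 2 = 0 := by linear_combination hv
      exact pow_eq_zero_iff (two_ne_zero) |>.1 this
    funext i
    rcases i with (j | j) | l
    · exact j.elim0
    · exact j.elim0
    · fin_cases l
      · exact h0
      · exact h1
  have hfr : 2 ≤ finrank F (IM 0 → F) := by
    rw [Module.finrank_fintype_fun_eq_card]
    simp
  obtain ⟨v, hv⟩ := exists_eq_of_anisotropic (minusQF F 0 1 ζ) haniso hfr (-1)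
  rw [minusQF_apply] at hv
  unfold Cfsg.quadFormMinus at hv
  simp only [Finset.univ_eq_empty, Finset.sum_empty, zero_add, one_mul] at hv
  exact ⟨v (Sum.inr 0), v (Sum.inr 1), by linear_combination hv⟩

/-- a similarity with multiplier `-1` -/
theorem exists_neg_similarity [Finite F] {V : Type*} [AddCommGroup V] [Module F V]
    [FiniteDimensional F V] (Q : QuadraticForm F V)
    (hQ : (QuadraticMap.polarBilin Q).Nondegenerate) (hev : Even (finrank F V)) :
    ∃ θ : V →ₗ[F] V, ∀ v, Q (θ v) = - Q v := by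
  obtain ⟨d, hd⟩ := hev
  have hd' : finrank F V = 2 * d := by omega
  rcases Nat.eq_zero_or_pos d with h0 | hpos
  · refine ⟨0, fun v => ?_⟩
    have : finrank F V = 0 := by omega
    have hsub : Subsingleton V := Module.finrank_zero_iff.1 this
    rw [Subsingleton.elim v 0]
    simp
  rcases classify Q hQ hpos hd' with ⟨Φ, hΦ⟩ | ⟨ζ, hζ, Φ, hΦ⟩
  · refine ⟨Φ.symm.toLinearMap ∘ₗ negPlus d ∘ₗ Φ.toLinearMap, fun v => ?_⟩
    rw [hΦ, hΦ v]
    simp only [LinearMap.coe_comp, LinearEquiv.coe_coe, Function.comp_apply,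
      LinearEquiv.apply_symm_apply]
    exact quadFormPlus_negPlus d _
  · obtain ⟨α, β, hαβ⟩ := exists_norm_neg_one ζ hζ
    refine ⟨Φ.symm.toLinearMap ∘ₗ negMinus (d - 1) α β ζ ∘ₗ Φ.toLinearMap, fun v => ?_⟩
    rw [hΦ, hΦ v]
    simp only [LinearMap.coe_comp, LinearEquiv.coe_coe, Function.comp_apply,
      LinearEquiv.apply_symm_apply]
    exact quadFormMinus_negMinus (d - 1) α β ζ hαβ _

end Sim

variable {F : Type*} [Field F] {n : ℕ} {Q : QuadraticForm F (Fin n → F)}

set_option quotPrecheck false in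
local notation "P" => QuadraticMap.polar (⇑Q)

variable {W : Submodule F (Fin n → F)}

theorem comp_subtype_nondegenerate
    (hW : Cfsg.Geo.IsNondegenerateOn (QuadraticMap.polar (⇑Q)) W) :
    (QuadraticMap.polarBilin (Q.comp W.subtype)).Nondegenerate := by
  rw [nondegenerate_polar_iff]
  intro x hx
  by_contra hx0
  have hx0' : (x : Fin n → F) ≠ 0 := fun h => hx0 (Subtype.ext h)
  obtain ⟨-, ⟨y, hy, hne⟩⟩ := hW x x.2 hx0'
  apply hne
  have := hx ⟨y, hy⟩
  simpa [QuadraticMap.polar, QuadraticMap.comp_apply] using this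

/-- if an isometry maps a non-degenerate even-dimensional subspace into its orthogonal
complement, the sum of the two contains a totally singular subspace of the same dimension -/
theorem plus_of_swap [Finite F]
    (hW : Cfsg.Geo.IsNondegenerateOn (QuadraticMap.polar (⇑Q)) W)
    (hev : Even (finrank F W)) (g : ↥(Cfsg.isometryGroup F ⇑Q))
    (hg : ∀ x ∈ W, act Q g x ∈ perp Q W) :
    ∃ U : Submodule F (Fin n → F), (∀ u ∈ U, Q u = 0) ∧ finrank F U = finrank F W := by
  obtain ⟨θ, hθ⟩ := exists_neg_similarity (Q.comp W.subtype) (comp_subtype_nondegenerate hW) hev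
  let L : ↥W →ₗ[F] (Fin n → F) :=
    W.subtype + (Matrix.toLin' ((g : GL (Fin n) F) : Matrix (Fin n) (Fin n) F)) ∘ₗ W.subtype ∘ₗ θ
  have hL : ∀ w : ↥W, L w = (w : Fin n → F) + act Q g (θ w : Fin n → F) := by
    intro w
    simp only [L, LinearMap.add_apply, Submodule.coe_subtype, LinearMap.coe_comp,
      Function.comp_apply, Matrix.toLin'_apply, act_def]
  refine ⟨LinearMap.range L, ?_, ?_⟩
  · rintro _ ⟨w, rfl⟩
    rw [hL, Q_add, Q_act]
    have h1 : Q (θ w : Fin n → F) = - Q (w : Fin n → F) := by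
      have := hθ w
      simpa [QuadraticMap.comp_apply] using this
    have h2 : P (w : Fin n → F) (act Q g (θ w : Fin n → F)) = 0 :=
      mem_perp.1 (hg _ (θ w).2) _ w.2
    rw [h1, h2]
    ring
  · apply LinearMap.finrank_range_of_inj
    rw [← LinearMap.ker_eq_bot, LinearMap.ker_eq_bot']
    intro w hw
    rw [hL] at hw
    have hmem : (w : Fin n → F) ∈ perp Q W := by
      have : (w : Fin n → F) = - act Q g (θ w : Fin n → F) := eq_neg_of_add_eq_zero_left hw
      rw [this]
      exact (perp Q W).neg_mem (hg _ (θ w).2)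
    have := (Submodule.disjoint_def.1 (perp_disjoint hW)) _ w.2 hmem
    exact Subtype.ext this

end Cfsg.Agent.Lib.H11.OmNd
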