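import Cfsg.Agent.Lib.H11.OmNd12
import Cfsg.Agent.Lib.H11.OmTs5

/-!
Statement-level versions of `nd_stab_maximal`.
-/

set_option autoImplicit false
set_option linter.unusedSimpArgs false
set_option linter.unusedSectionVars false
set_option linter.unusedVariables false

namespace Cfsg.Agent.Lib.H11.OmNd

open Matrix Module
open Cfsg.Agent.Lib.H28 Cfsg.Agent.Lib.H11.SubspMax
open Cfsg.Agent.Lib.H11.CD Cfsg.Agent.Lib.H11.SiegelGen Cfsg.Agent.Lib.H11.OrMax
open Cfsg.Agent.Lib.H11.OmTs Cfsg.Agent.Lib.H11.PairStab Cfsg.Agent.Lib.H11.IsoReindex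

section FinN

variable {F : Type*} [Field F] {n : ℕ} {Q : QuadraticForm F (Fin n → F)}

set_option quotPrecheck false in
local notation "P" => QuadraticMap.polar (⇑Q)

variable {W : Submodule F (Fin n → F)}

/-- a plane with a non-zero singular vector is of plus type -/
theorem plus_of_sing {ι : Type} (Q : QuadraticForm F (ι → F)) {U : Submodule F (ι → F)}
    (h2 : finrank F U = 2) {e : ι → F} (he : e ∈ U) (he0 : e ≠ 0) (hQe : Q e = 0) :
    Cfsg.Geo.IsPlusTypeOn (⇑Q) U := by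
  refine ⟨Submodule.span F {e}, ?_, ?_, ?_⟩
  · rw [Submodule.span_le]
    intro x hx
    rw [Set.mem_singleton_iff] at hx
    rw [hx]; exact he
  · intro w hw
    obtain ⟨c, rfl⟩ := Submodule.mem_span_singleton.1 hw
    rw [QuadraticMap.map_smul, hQe, smul_zero]
  · rw [finrank_span_singleton he0, h2]

theorem nd_stab_maximal_hex [Fintype F] (hQ : (QuadraticMap.polarBilin Q).Nondegenerate)
    (hn : 13 ≤ n) (hW0 : W ≠ ⊥) (hW1 : W ≠ ⊤)
    (hW : Cfsg.Geo.IsNondegenerateOn (QuadraticMap.polar (⇑Q)) W)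
    (hns : 2 * finrank F W = n →
      ∀ g : ↥(Cfsg.isometryGroup F ⇑Q), ¬ ∀ x ∈ W, act Q g x ∈ perp Q W)
    (hex : ¬ (Fintype.card F ≤ 3 ∧ (∃ U : Submodule F (Fin n → F), finrank F U = 2 ∧
      Cfsg.Geo.IsNondegenerateOn (QuadraticMap.polar (⇑Q)) U ∧ Cfsg.Geo.IsPlusTypeOn (⇑Q) U ∧
      (U = W ∨ (Cfsg.Geo.AreOrthogonalFor (QuadraticMap.polar (⇑Q)) U W ∧
        finrank F U + finrank F W = n))))) :
    Cfsg.Geo.IsMaximalIn (Cfsg.Geo.omegaGL (⇑Q))
      (Cfsg.Geo.subspaceStabilizer W ⊓ Cfsg.Geo.omegaGL (⇑Q)) := by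
  refine nd_stab_maximal hQ hn hW0 hW1 hW hns ?_ ?_
  · intro h2
    by_contra hcon
    push Not at hcon
    obtain ⟨hq, e, he, hQe, he0⟩ := hcon
    exact hex ⟨by omega, W, h2, hW, plus_of_sing Q h2 he he0 hQe, Or.inl rfl⟩
  · intro h2
    by_contra hcon
    push Not at hcon
    obtain ⟨hq, e, he, hQe, he0⟩ := hcon
    have h := ndPair_perp hW
    refine hex ⟨by omega, perp Q W, h2, ?_, plus_of_sing Q h2 he he0 hQe, Or.inr ⟨?_, ?_⟩⟩
    · intro w hw hw0
      obtain ⟨x, hx, hne⟩ := h.nd_E hQ hw hw0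
      refine ⟨⟨x, hx, ?_⟩, ⟨x, hx, hne⟩⟩
      rw [P_comm]; exact hne
    · intro u hu v hv
      exact h.orth' hv hu
    · rw [add_comm]; exact finrank_perp hW

end FinN

section Any

variable {F : Type*} [Field F] {ι κ : Type} [Fintype ι] [DecidableEq ι] [Fintype κ] [DecidableEq κ]

theorem trW_ne_top (e : ι ≃ κ) (W : Submodule F (ι → F)) (hW : W ≠ ⊤) : trW e W ≠ ⊤ := by
  intro h
  apply hW
  rw [eq_top_iff]
  intro w _
  have h1 : w ∘ e.symm ∈ trW e W := by rw [h]; exact Submodule.mem_top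
  rw [mem_trW] at h1
  have : (w ∘ e.symm) ∘ e = w := by funext i; simp
  rwa [this] at h1

theorem finrank_trW (e : ι ≃ κ) (W : Submodule F (ι → F)) :
    finrank F (trW e W) = finrank F W := by
  have h1 : trW e W = W.map (LinearEquiv.funCongrLeft F F e).symm.toLinearMap := by
    ext x
    rw [mem_trW, Submodule.mem_map]
    constructor
    · intro hx
      refine ⟨x ∘ e, hx, ?_⟩
      funext i
      simp [LinearEquiv.funCongrLeft]
    · rintro ⟨y, hy, rfl⟩
      have : ((LinearEquiv.funCongrLeft F F e).symm.toLinearMap y) ∘ e = y := by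
        funext i
        simp [LinearEquiv.funCongrLeft]
      rw [this]; exact hy
  rw [h1]
  exact LinearEquiv.finrank_map_eq _ _

theorem polar_tr (e : ι ≃ κ) (Q : (ι → F) → F) (x y : κ → F) :
    QuadraticMap.polar (tr e Q) x y = QuadraticMap.polar Q (x ∘ e) (y ∘ e) := rfl

theorem nondegOn_trW (e : ι ≃ κ) (Q : (ι → F) → F) (W : Submodule F (ι → F))
    (hW : Cfsg.Geo.IsNondegenerateOn (QuadraticMap.polar Q) W) :
    Cfsg.Geo.IsNondegenerateOn (QuadraticMap.polar (tr e Q)) (trW e W) := by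
  intro w hw hw0
  have hw' : w ∘ e ∈ W := (mem_trW e W w).1 hw
  have hw0' : w ∘ e ≠ 0 := by
    intro h
    apply hw0
    funext i
    have := congrFun h (e.symm i)
    simpa using this
  obtain ⟨⟨x, hx, hx1⟩, ⟨y, hy, hy1⟩⟩ := hW _ hw' hw0'
  have key : ∀ z : ι → F, (z ∘ e.symm) ∘ e = z := fun z => by funext i; simp
  refine ⟨⟨x ∘ e.symm, ?_, ?_⟩, ⟨y ∘ e.symm, ?_, ?_⟩⟩
  · rw [mem_trW, key]; exact hx
  · rw [polar_tr, key]; exact hx1
  · rw [mem_trW, key]; exact hy
  · rw [polar_tr, key]; exact hy1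

/-- version for an arbitrary index type, when neither `W` and `W^⊥` have equal dimensions nor
`W^⊥` is a plane -/
theorem nd_stab_maximal_any [Fintype F] (Q : (ι → F) → F)
    (hQ : Cfsg.Geo.IsNondegenerateQuadraticForm Q) (hn : 13 ≤ Fintype.card ι)
    (W : Submodule F (ι → F)) (hW0 : W ≠ ⊥) (hW1 : W ≠ ⊤)
    (hW : Cfsg.Geo.IsNondegenerateOn (QuadraticMap.polar Q) W)
    (hns : 2 * finrank F W ≠ Fintype.card ι)
    (hplW : finrank F W = 2 → (4 ≤ Fintype.card F ∨ ∀ e ∈ W, Q e = 0 → e = 0))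
    (hplE : finrank F W + 2 ≠ Fintype.card ι) :
    Cfsg.Geo.IsMaximalIn (Cfsg.Geo.omegaGL Q)
      (Cfsg.Geo.subspaceStabilizer W ⊓ Cfsg.Geo.omegaGL Q) := by
  obtain ⟨e, -⟩ : ∃ e : ι ≃ Fin (Fintype.card ι), True := ⟨Fintype.equivFin ι, trivial⟩
  have hW' : Cfsg.Geo.IsNondegenerateOn
      (QuadraticMap.polar (⇑(trQF e (Cfsg.Agent.Lib.H29.Orth.toQF Q hQ)))) (trW e W) := by
    rw [coe_trQF, Cfsg.Agent.Lib.H29.Orth.coe_toQF]
    exact nondegOn_trW e Q W hW
  have h1 := nd_stab_maximal (Q := trQF e (Cfsg.Agent.Lib.H29.Orth.toQF Q hQ))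
    (nondeg_trQF e _ (Cfsg.Agent.Lib.H29.Orth.toQF_nondegenerate Q hQ)) hn
    (trW_ne_bot e W hW0) (trW_ne_top e W hW1) hW'
    (fun h => by
      exfalso
      rw [finrank_trW] at h
      exact hns h)
    (fun h2 => by
      rw [finrank_trW] at h2
      rcases hplW h2 with h4 | hani
      · left; exact h4
      · right
        intro x hx hQx
        rw [coe_trQF, Cfsg.Agent.Lib.H29.Orth.coe_toQF] at hQx
        have := hani _ ((mem_trW e W x).1 hx) hQx
        funext i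
        have h3 := congrFun this (e.symm i)
        simpa using h3)
    (fun h2 => by
      exfalso
      have := finrank_perp hW'
      rw [finrank_trW] at this
      omega)
  rw [coe_trQF, Cfsg.Agent.Lib.H29.Orth.coe_toQF] at h1
  have h2 := isMaximalIn_comap (glReindex (F := F) e) h1
  rw [Subgroup.comap_inf, comap_omegaGL, comap_subspaceStabilizer] at h2
  exact h2

end Any

end Cfsg.Agent.Lib.H11.OmNd
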