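import Cfsg.Agent.Lib.H11.OmNd1

/-!
Elements of the stabiliser of a non-degenerate subspace.
-/

set_option autoImplicit false
set_option linter.unusedSimpArgs false
set_option linter.unusedSectionVars false
set_option linter.unusedVariables false

namespace Cfsg.Agent.Lib.H11.OmNd

open Matrix Module
open Cfsg.Agent.Lib.H28 Cfsg.Agent.Lib.H11.SubspMax
open Cfsg.Agent.Lib.H11.CD Cfsg.Agent.Lib.H11.SiegelGen Cfsg.Agent.Lib.H11.OrMax
open Cfsg.Agent.Lib.H11.OmTs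

variable {F : Type*} [Field F] {n : ℕ} {Q : QuadraticForm F (Fin n → F)}

set_option quotPrecheck false in
local notation "P" => QuadraticMap.polar (⇑Q)

variable {A E : Submodule F (Fin n → F)}

/-- Siegel elements of `A` lie in the stabiliser -/
theorem sg_mem_N [Fintype F] (hQ : (QuadraticMap.polarBilin Q).Nondegenerate) (hn : 7 ≤ n)
    {u y : Fin n → F} (hu : u ∈ A) (hy : y ∈ A) (hQu : Q u = 0) (huy : P u y = 0) :
    ((sg Q u y : ↥(Cfsg.isometryGroup F ⇑Q)) : GL (Fin n) F) ∈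
      Cfsg.Geo.subspaceStabilizer A ⊓ Cfsg.Geo.omegaGL (⇑Q) := by
  refine ⟨stab_of_le ?_, coe_mem_omegaGL Q _ (sg_mem_comm Q hQ hn u y hQu huy)⟩
  intro x hx
  rw [act_def, sg_act Q u y hQu huy]
  exact A.sub_mem (A.sub_mem (A.add_mem hx (A.smul_mem _ hy)) (A.smul_mem _ hu)) (A.smul_mem _ hu)

theorem refl_maps (h : NdPair Q A E) {v : Fin n → F} (hv : Q v ≠ 0) (hvA : v ∈ A ∨ v ∈ E)
    {x : Fin n → F} (hx : x ∈ A) : act Q (reflEl Q v hv) x ∈ A := by
  rcases hvA with hvA | hvE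
  · rw [reflEl_act]
    exact A.sub_mem hx (A.smul_mem _ hvA)
  · rw [reflEl_act_of_polar_zero Q v hv x (h.orth' hx hvE)]
    exact hx

/-- products of two reflections of equal norm in vectors of `A ∪ E` lie in the stabiliser -/
theorem rr_mem_N [Fintype F] (h : NdPair Q A E) (hQ : (QuadraticMap.polarBilin Q).Nondegenerate)
    (hn : 7 ≤ n) {v v' : Fin n → F} (hv : Q v ≠ 0) (hv' : Q v' ≠ 0) (hvv' : Q v' = Q v)
    (hvA : v ∈ A ∨ v ∈ E) (hv'A : v' ∈ A ∨ v' ∈ E) :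
    ((reflEl Q v hv * reflEl Q v' hv' : ↥(Cfsg.isometryGroup F ⇑Q)) : GL (Fin n) F) ∈
      Cfsg.Geo.subspaceStabilizer A ⊓ Cfsg.Geo.omegaGL (⇑Q) := by
  refine ⟨stab_of_le ?_, coe_mem_omegaGL Q _ ?_⟩
  · intro x hx
    rw [act_def, act_mul]
    exact refl_maps h hv hvA (refl_maps h hv' hv'A hx)
  · rw [comm_eq_S Q hQ hn]
    obtain ⟨h1, h2, h3⟩ := rel_all' Q hQ (by omega) v v' hv hvv'
    exact h3

/-- an isometry stabilising `A` also stabilises `E` -/
theorem maps_E (h : NdPair Q A E) (hQ : (QuadraticMap.polarBilin Q).Nondegenerate)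
    (g : ↥(Cfsg.isometryGroup F ⇑Q)) (hg : ∀ x ∈ A, act Q g⁻¹ x ∈ A) {e : Fin n → F}
    (he : e ∈ E) : act Q g e ∈ E := by
  obtain ⟨a, ha, e', he', hx⟩ := h.span (act Q g e)
  have ha0 : a = 0 := by
    by_contra ha0
    obtain ⟨a', ha', hne⟩ := h.nd a ha ha0
    apply hne
    have h1 : P (act Q g e) a' = P a a' := by
      rw [hx, QuadraticMap.polar_add_left, h.orth' ha' he', add_zero]
    rw [← h1, ← polar_act Q g⁻¹, Cfsg.Agent.Lib.H11.OmegaTrans.act_act_inv]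
    exact h.orth' (hg a' ha') he
  rw [hx, ha0, zero_add]
  exact he'

end Cfsg.Agent.Lib.H11.OmNd
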