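import Cfsg.Agent.Lib.H11.OmNd2

/-!
Invariant subspaces of the Siegel elements of `A`, and step B1.
-/

set_option autoImplicit false
set_option linter.unusedSimpArgs false
set_option linter.unusedSectionVars false
set_option linter.unusedVariables false

namespace Cfsg.Agent.Lib.H11.OmNd

open Matrix Module
open Cfsg.Agent.Lib.H28 Cfsg.Agent.Lib.H11.SubspMax
open Cfsg.Agent.Lib.H11.CD Cfsg.Agent.Lib.H11.SiegelGen Cfsg.Agent.Lib.H11.OrMax
open Cfsg.Agent.Lib.H11.OmTs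
open Cfsg.Agent.Lib.H11.PairStab (finrank_map_gl)

variable {F : Type*} [Field F] {n : ℕ} {Q : QuadraticForm F (Fin n → F)}

set_option quotPrecheck false in
local notation "P" => QuadraticMap.polar (⇑Q)

variable {A E : Submodule F (Fin n → F)} {M : Subgroup (GL (Fin n) F)}

/-- one step: a vector of `T` not orthogonal to the singular `u ∈ A` forces `A ∩ u^⊥ ≤ T` -/
theorem inv_step [Finite F] (h : NdPair Q A E) (hfr : 5 ≤ finrank F A)
    (T : Submodule F (Fin n → F))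
    (hinv : ∀ u ∈ A, ∀ y ∈ A, Q u = 0 → P u y = 0 → ∀ t ∈ T, act Q (sg Q u y) t ∈ T)
    {u t : Fin n → F} (hu : u ∈ A) (hQu : Q u = 0) (ht : t ∈ T) (hut : P u t ≠ 0) :
    ∀ y ∈ A, P u y = 0 → y ∈ T := by
  have hu0 : u ≠ 0 := by
    rintro rfl
    apply hut
    simp [QuadraticMap.polar]
  obtain ⟨f, hf, hQf, huf⟩ := h.exists_partner hu hu0 hQu
  obtain ⟨u₁, hu₁, f₁, hf₁, hQu₁, hQf₁, h11, h1, h2, h3, h4⟩ :=
    h.exists_hyp_perp_in hfr hu hf hQu hQf huf
  -- the vectors `τ y`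
  have hτ : ∀ y ∈ A, P u y = 0 → P u t • y - P y t • u - (Q y * P u t) • u ∈ T := by
    intro y hy huy
    have := T.sub_mem (hinv u hu y hy hQu huy t ht) ht
    rw [sg_act Q u y hQu huy] at this
    have e : t + P u t • y - P y t • u - (Q y * P u t) • u - t =
        P u t • y - P y t • u - (Q y * P u t) • u := by abel
    rwa [e] at this
  have huT : u ∈ T := by
    have a1 := hτ u₁ hu₁ h1
    have a2 := hτ f₁ hf₁ h3
    have a3 := hτ (u₁ + f₁) (A.add_mem hu₁ hf₁) (by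
      rw [QuadraticMap.polar_add_right, h1, h3, add_zero])
    have a4 := T.sub_mem (T.add_mem a1 a2) a3
    have e : P u t • u₁ - P u₁ t • u - (Q u₁ * P u t) • u +
        (P u t • f₁ - P f₁ t • u - (Q f₁ * P u t) • u) -
        (P u t • (u₁ + f₁) - P (u₁ + f₁) t • u - (Q (u₁ + f₁) * P u t) • u) = P u t • u := by
      rw [QuadraticMap.polar_add_left, Q_add, hQu₁, hQf₁, h11]
      module
    rw [e] at a4
    have := T.smul_mem (P u t)⁻¹ a4
    rwa [smul_smul, inv_mul_cancel₀ hut, one_smul] at this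
  intro y hy huy
  have a1 := hτ y hy huy
  have a2 : P u t • y ∈ T := by
    have := T.add_mem (T.add_mem a1 (T.smul_mem (P y t) huT)) (T.smul_mem (Q y * P u t) huT)
    have e : P u t • y - P y t • u - (Q y * P u t) • u + P y t • u + (Q y * P u t) • u =
        P u t • y := by abel
    rwa [e] at this
  have := T.smul_mem (P u t)⁻¹ a2
  rwa [smul_smul, inv_mul_cancel₀ hut, one_smul] at this

/-- a subspace invariant under the Siegel elements of `A` and not inside `E` contains `A` -/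
theorem le_of_invariant [Finite F] (h : NdPair Q A E) (hfr : 5 ≤ finrank F A)
    (T : Submodule F (Fin n → F))
    (hinv : ∀ u ∈ A, ∀ y ∈ A, Q u = 0 → P u y = 0 → ∀ t ∈ T, act Q (sg Q u y) t ∈ T)
    (hT : ¬ T ≤ E) : A ≤ T := by
  obtain ⟨t, htT, htE⟩ := Set.not_subset.mp hT
  obtain ⟨a₀, ha₀, e₀, he₀, rfl⟩ := h.span t
  have ha₀0 : a₀ ≠ 0 := by
    rintro rfl
    rw [zero_add] at htE
    exact htE he₀
  obtain ⟨u, hu, hQu, hua₀⟩ := h.exists_sing_nonorth (by omega) ha₀ ha₀0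
  have hut : P u (a₀ + e₀) ≠ 0 := by
    rw [QuadraticMap.polar_add_right, h.orth u hu e₀ he₀, add_zero]; exact hua₀
  have hu0 : u ≠ 0 := by
    rintro rfl
    apply hua₀
    simp [QuadraticMap.polar]
  have s1 := inv_step h hfr T hinv hu hQu htT hut
  obtain ⟨f, hf, hQf, huf⟩ := h.exists_partner hu hu0 hQu
  obtain ⟨u₁, hu₁, f₁, hf₁, hQu₁, hQf₁, h11, h1, h2, h3, h4⟩ :=
    h.exists_hyp_perp_in hfr hu hf hQu hQf huf
  have hf₁T : f₁ ∈ T := s1 f₁ hf₁ h3
  have s2 := inv_step h hfr T hinv hu₁ hQu₁ hf₁T (by rw [h11]; exact one_ne_zero)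
  have hfT : f ∈ T := s2 f hf (by rw [P_comm]; exact h2)
  intro a ha
  have h5 : a - P u a • f ∈ T := by
    apply s1 _ (A.sub_mem ha (A.smul_mem _ hf))
    rw [QuadraticMap.polar_sub_right, QuadraticMap.polar_smul_right, huf]
    simp
  have := T.add_mem h5 (T.smul_mem (P u a) hfT)
  rwa [sub_add_cancel] at this

/-- a Siegel element fixes the vectors orthogonal to its two vectors -/
theorem sg_fix {a b : Fin n → F} (ha : Q a = 0) (hab : P a b = 0) {x : Fin n → F}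
    (hax : P a x = 0) (hbx : P b x = 0) : act Q (sg Q a b) x = x := by
  rw [sg_act Q a b ha hab, hax, hbx]
  simp

/-- B1: an element of `M` not stabilising `A` gives an element of `M` with a large fixed space not
stabilising `A` -/
theorem exists_fix_not_mem [Fintype F] (h : NdPair Q A E)
    (hQ : (QuadraticMap.polarBilin Q).Nondegenerate) (hn : 7 ≤ n) (hfr : 5 ≤ finrank F A)
    (hNM : Cfsg.Geo.subspaceStabilizer A ⊓ Cfsg.Geo.omegaGL (⇑Q) ≤ M)
    (g₀ : ↥(Cfsg.isometryGroup F ⇑Q)) (hg₀M : (g₀ : GL (Fin n) F) ∈ M)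
    (hg₀ : ¬ ∀ x ∈ A, act Q g₀ x ∈ A) (hns : ¬ ∀ x ∈ A, act Q g₀ x ∈ E) :
    ∃ g : ↥(Cfsg.isometryGroup F ⇑Q), (g : GL (Fin n) F) ∈ M ∧
      (∃ a b : Fin n → F, ∀ x, P a x = 0 → P b x = 0 → act Q g x = x) ∧
      ¬ ∀ x ∈ A, act Q g x ∈ A := by
  by_contra hcon
  push Not at hcon
  obtain ⟨T, hTdef⟩ : ∃ T : Submodule F (Fin n → F),
      T = A.map (Matrix.toLin' ((g₀ : GL (Fin n) F) : Matrix (Fin n) (Fin n) F)) := ⟨_, rfl⟩
  have hmemT : ∀ x ∈ A, act Q g₀ x ∈ T := by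
    intro x hx
    rw [hTdef]
    exact ⟨x, hx, by rw [Matrix.toLin'_apply, act_def]⟩
  have hinv : ∀ u ∈ A, ∀ y ∈ A, Q u = 0 → P u y = 0 → ∀ t ∈ T, act Q (sg Q u y) t ∈ T := by
    intro u hu y hy hQu huy t ht
    rw [hTdef] at ht
    obtain ⟨x, hx, rfl⟩ := ht
    rw [Matrix.toLin'_apply, act_def]
    have h1 := sg_conj Q g₀⁻¹ u y hQu huy
    rw [inv_inv] at h1
    have hQa : Q (act Q g₀⁻¹ u) = 0 := by rw [Q_act]; exact hQu
    have hab : P (act Q g₀⁻¹ u) (act Q g₀⁻¹ y) = 0 := by rw [polar_act]; exact huy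
    have h4 : ((g₀⁻¹ * sg Q u y * g₀ : ↥(Cfsg.isometryGroup F ⇑Q)) : GL (Fin n) F) ∈ M := by
      have e : ((g₀⁻¹ * sg Q u y * g₀ : ↥(Cfsg.isometryGroup F ⇑Q)) : GL (Fin n) F) =
          (g₀ : GL (Fin n) F)⁻¹ * ((sg Q u y : ↥(Cfsg.isometryGroup F ⇑Q)) : GL (Fin n) F) *
            (g₀ : GL (Fin n) F) := by simp
      rw [e]
      exact M.mul_mem (M.mul_mem (M.inv_mem hg₀M) (hNM (sg_mem_N hQ hn hu hy hQu huy))) hg₀M
    have h5 := hcon (g₀⁻¹ * sg Q u y * g₀) h4 ⟨act Q g₀⁻¹ u, act Q g₀⁻¹ y, by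
      intro x hax hbx
      rw [h1]
      exact sg_fix hQa hab hax hbx⟩ x hx
    have h6 := hmemT _ h5
    rwa [act_mul, act_mul, Cfsg.Agent.Lib.H11.OmegaTrans.act_inv_act] at h6
  have hTE : ¬ T ≤ E := by
    intro hle
    exact hns (fun x hx => hle (hmemT x hx))
  have hle := le_of_invariant h hfr T hinv hTE
  have heq : A = T := Submodule.eq_of_le_of_finrank_eq hle (by rw [hTdef, finrank_map_gl])
  apply hg₀
  intro x hx
  rw [heq]
  exact hmemT x hx

end Cfsg.Agent.Lib.H11.OmNd
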