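import Cfsg.Agent.Lib.H11.OmNd3

/-!
The key step: a Siegel element of `M` with centre in `A` and second vector outside `A`.
-/

set_option autoImplicit false
set_option linter.unusedSimpArgs false
set_option linter.unusedSectionVars false
set_option linter.unusedVariables false

namespace Cfsg.Agent.Lib.H11.OmNd

open Matrix Module
open Cfsg.Agent.Lib.H28 Cfsg.Agent.Lib.H11.SubspMax
open Cfsg.Agent.Lib.H11.CD Cfsg.Agent.Lib.H11.SiegelGen Cfsg.Agent.Lib.H11.OrMax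
open Cfsg.Agent.Lib.H11.OmTs
open Cfsg.Agent.Lib.H11.SpPair (finrank_le_inf_ker_add_one)

variable {F : Type*} [Field F] {n : ℕ} {Q : QuadraticForm F (Fin n → F)}

set_option quotPrecheck false in
local notation "P" => QuadraticMap.polar (⇑Q)

variable {A E : Submodule F (Fin n → F)} {M : Subgroup (GL (Fin n) F)}

theorem exists_sg_mixed [Fintype F] (h : NdPair Q A E)
    (hQ : (QuadraticMap.polarBilin Q).Nondegenerate) (hn : 7 ≤ n) (hfr : 6 ≤ finrank F A)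
    (hNM : Cfsg.Geo.subspaceStabilizer A ⊓ Cfsg.Geo.omegaGL (⇑Q) ≤ M)
    (g : ↥(Cfsg.isometryGroup F ⇑Q)) (hgM : (g : GL (Fin n) F) ∈ M) (a b : Fin n → F)
    (hfix : ∀ x, P a x = 0 → P b x = 0 → act Q g x = x) (hg : ¬ ∀ x ∈ A, act Q g x ∈ A) :
    ∃ u ∈ A, u ≠ 0 ∧ Q u = 0 ∧ ∃ y' : Fin n → F, P u y' = 0 ∧ y' ∉ A ∧
      ((sg Q u y' : ↥(Cfsg.isometryGroup F ⇑Q)) : GL (Fin n) F) ∈ M := by
  push Not at hg
  obtain ⟨y, hy, hgy⟩ := hg
  have h1 := finrank_le_inf_ker_add_one A (fr Q a)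
  have h2 := finrank_le_inf_ker_add_one (A ⊓ LinearMap.ker (fr Q a)) (fr Q b)
  have h3 := finrank_le_inf_ker_add_one
    (A ⊓ LinearMap.ker (fr Q a) ⊓ LinearMap.ker (fr Q b)) (fr Q y)
  obtain ⟨u, huX, hu0, hQu⟩ := exists_sing_in (Q := Q)
    (A ⊓ LinearMap.ker (fr Q a) ⊓ LinearMap.ker (fr Q b) ⊓ LinearMap.ker (fr Q y)) (by omega)
  have huA : u ∈ A := huX.1.1.1
  have hau : P a u = 0 := LinearMap.mem_ker.1 huX.1.1.2
  have hbu : P b u = 0 := LinearMap.mem_ker.1 huX.1.2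
  have hyu : P y u = 0 := LinearMap.mem_ker.1 huX.2
  have huy : P u y = 0 := by rw [P_comm]; exact hyu
  have hgu : act Q g u = u := hfix u hau hbu
  refine ⟨u, huA, hu0, hQu, act Q g y, ?_, hgy, ?_⟩
  · have := polar_act Q g u y
    rw [hgu] at this
    rw [this]; exact huy
  · have h5 := sg_conj Q g u y hQu huy
    rw [hgu] at h5
    rw [← h5]
    have e : ((g * sg Q u y * g⁻¹ : ↥(Cfsg.isometryGroup F ⇑Q)) : GL (Fin n) F) =
        (g : GL (Fin n) F) * ((sg Q u y : ↥(Cfsg.isometryGroup F ⇑Q)) : GL (Fin n) F) *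
          (g : GL (Fin n) F)⁻¹ := by simp
    rw [e]
    exact M.mul_mem (M.mul_mem hgM (hNM (sg_mem_N hQ hn huA hy hQu huy))) (M.inv_mem hgM)

end Cfsg.Agent.Lib.H11.OmNd
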