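import Cfsg.Agent.Lib.H11.OmNd4

/-!
From one mixed Siegel element to the full root group.
-/

set_option autoImplicit false
set_option linter.unusedSimpArgs false
set_option linter.unusedSectionVars false
set_option linter.unusedVariables false

namespace Cfsg.Agent.Lib.H11.OmNd

open Matrix Module
open Cfsg.Agent.Lib.H28 Cfsg.Agent.Lib.H11.SubspMax
open Cfsg.Agent.Lib.H11.CD Cfsg.Agent.Lib.H11.SiegelGen Cfsg.Agent.Lib.H11.OrMax
open Cfsg.Agent.Lib.H11.OmTs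

variable {F : Type*} [Field F] {n : ℕ} {Q : QuadraticForm F (Fin n → F)}

set_option quotPrecheck false in
local notation "P" => QuadraticMap.polar (⇑Q)

variable {A E : Submodule F (Fin n → F)} {M : Subgroup (GL (Fin n) F)}

theorem sg_zero (u : Fin n → F) (hu : Q u = 0) : sg Q u 0 = 1 := by
  apply el_ext
  intro x
  rw [sg_act Q u 0 hu (by simp [QuadraticMap.polar]), act_one]
  simp [QuadraticMap.polar]

theorem coe_conj (g s : ↥(Cfsg.isometryGroup F ⇑Q)) :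
    ((g * s * g⁻¹ : ↥(Cfsg.isometryGroup F ⇑Q)) : GL (Fin n) F) =
      (g : GL (Fin n) F) * (s : GL (Fin n) F) * (g : GL (Fin n) F)⁻¹ := by simp

/-- conjugating a Siegel element of `M` by an element of `M` -/
theorem sg_conj_mem (g : ↥(Cfsg.isometryGroup F ⇑Q)) (hgM : (g : GL (Fin n) F) ∈ M)
    {u y : Fin n → F} (hu : Q u = 0) (huy : P u y = 0)
    (hM : ((sg Q u y : ↥(Cfsg.isometryGroup F ⇑Q)) : GL (Fin n) F) ∈ M) :
    ((sg Q (act Q g u) (act Q g y) : ↥(Cfsg.isometryGroup F ⇑Q)) : GL (Fin n) F) ∈ M := by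
  rw [← sg_conj Q g u y hu huy, coe_conj]
  exact M.mul_mem (M.mul_mem hgM hM) (M.inv_mem hgM)

/-- scaling the second vector of a Siegel element of `M` with centre in `A` and second vector
in `E` -/
theorem sg_smul_mem [Fintype F] (h : NdPair Q A E)
    (hQ : (QuadraticMap.polarBilin Q).Nondegenerate) (hn : 7 ≤ n) (hfr : 5 ≤ finrank F A)
    (hNM : Cfsg.Geo.subspaceStabilizer A ⊓ Cfsg.Geo.omegaGL (⇑Q) ≤ M)
    {u : Fin n → F} (hu : u ∈ A) (hu0 : u ≠ 0) (hQu : Q u = 0) {e : Fin n → F} (he : e ∈ E)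
    (hM : ((sg Q u e : ↥(Cfsg.isometryGroup F ⇑Q)) : GL (Fin n) F) ∈ M) (c : F) (hc : c ≠ 0) :
    ((sg Q u (c • e) : ↥(Cfsg.isometryGroup F ⇑Q)) : GL (Fin n) F) ∈ M := by
  have hue : P u e = 0 := h.orth u hu e he
  obtain ⟨f, hf, hQf, huf⟩ := h.exists_partner hu hu0 hQu
  have hfu : P f u = 1 := by rw [P_comm]; exact huf
  obtain ⟨a₁, ha₁, h1u, h1f, hQa₁⟩ := h.exists_rep hfr hu hf hQu hQf huf c⁻¹
  obtain ⟨a₂, ha₂, h2u, h2f, hQa₂⟩ := h.exists_rep hfr hu hf hQu hQf huf 1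
  have hv₁ : Q (u + c⁻¹ • f) = c⁻¹ := by
    rw [Q_add, QuadraticMap.map_smul, hQu, hQf, QuadraticMap.polar_smul_right, huf]; simp
  have hv₂ : Q (u + f) = 1 := by rw [Q_add, hQu, hQf, huf]; simp
  have hc' : c⁻¹ ≠ 0 := inv_ne_zero hc
  have n1 : Q (u + c⁻¹ • f) ≠ 0 := by rw [hv₁]; exact hc'
  have n2 : Q a₁ ≠ 0 := by rw [hQa₁]; exact hc'
  have n3 : Q (u + f) ≠ 0 := by rw [hv₂]; exact one_ne_zero
  have n4 : Q a₂ ≠ 0 := by rw [hQa₂]; exact one_ne_zero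
  have m1 := hNM (rr_mem_N h hQ hn n1 n2 (by rw [hQa₁, hv₁])
    (Or.inl (A.add_mem hu (A.smul_mem _ hf))) (Or.inl ha₁))
  have m2 := hNM (rr_mem_N h hQ hn n3 n4 (by rw [hQa₂, hv₂]) (Or.inl (A.add_mem hu hf))
    (Or.inl ha₂))
  obtain ⟨ρ, hρ⟩ : ∃ ρ : ↥(Cfsg.isometryGroup F ⇑Q),
      ρ = (reflEl Q (u + c⁻¹ • f) n1 * reflEl Q a₁ n2) * (reflEl Q (u + f) n3 * reflEl Q a₂ n4) :=
    ⟨_, rfl⟩
  have hρM : (ρ : GL (Fin n) F) ∈ M := by
    rw [hρ]
    have e : (((reflEl Q (u + c⁻¹ • f) n1 * reflEl Q a₁ n2) *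
        (reflEl Q (u + f) n3 * reflEl Q a₂ n4) : ↥(Cfsg.isometryGroup F ⇑Q)) : GL (Fin n) F) =
        ((reflEl Q (u + c⁻¹ • f) n1 * reflEl Q a₁ n2 : ↥(Cfsg.isometryGroup F ⇑Q)) :
          GL (Fin n) F) *
        ((reflEl Q (u + f) n3 * reflEl Q a₂ n4 : ↥(Cfsg.isometryGroup F ⇑Q)) : GL (Fin n) F) := by
      simp
    rw [e]
    exact M.mul_mem m1 m2
  have hρu : act Q ρ u = c • u := by
    rw [hρ, act_mul, act_mul, act_mul,
      reflEl_act_of_polar_zero Q a₂ n4 u (by rw [P_comm]; exact h2u)]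
    have s1 : act Q (reflEl Q (u + f) n3) u = -f := by
      rw [reflEl_act, hv₂, QuadraticMap.polar_add_left, P_self, hQu, hfu]
      simp
    rw [s1, act_neg, act_neg, reflEl_act_of_polar_zero Q a₁ n2 f (by rw [P_comm]; exact h1f)]
    rw [reflEl_act, hv₁, QuadraticMap.polar_add_left, QuadraticMap.polar_smul_left, huf, P_self,
      hQf]
    simp only [inv_inv, mul_zero, smul_zero, add_zero, mul_one, smul_add, smul_smul,
      mul_inv_cancel₀ hc, one_smul]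
    abel
  have hρe : act Q ρ e = e := by
    have o1 : P a₂ e = 0 := h.orth a₂ ha₂ e he
    have o2 : P (u + f) e = 0 := h.orth _ (A.add_mem hu hf) e he
    have o3 : P a₁ e = 0 := h.orth a₁ ha₁ e he
    have o4 : P (u + c⁻¹ • f) e = 0 := h.orth _ (A.add_mem hu (A.smul_mem _ hf)) e he
    rw [hρ, act_mul, act_mul, act_mul, reflEl_act_of_polar_zero Q a₂ n4 e o1,
      reflEl_act_of_polar_zero Q _ n3 e o2, reflEl_act_of_polar_zero Q a₁ n2 e o3,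
      reflEl_act_of_polar_zero Q _ n1 e o4]
  have h5 := sg_conj_mem ρ hρM hQu hue hM
  rw [hρu, hρe, sg_smul_left Q u e c hQu hue] at h5
  exact h5

/-- applying a reflection of `E` to the second vector -/
theorem sg_refl_mem [Fintype F] (h : NdPair Q A E)
    (hQ : (QuadraticMap.polarBilin Q).Nondegenerate) (hn : 7 ≤ n) (hfr : 5 ≤ finrank F A)
    (hNM : Cfsg.Geo.subspaceStabilizer A ⊓ Cfsg.Geo.omegaGL (⇑Q) ≤ M)
    {u : Fin n → F} (hu : u ∈ A) (hu0 : u ≠ 0) (hQu : Q u = 0) {e : Fin n → F} (he : e ∈ E)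
    (hM : ((sg Q u e : ↥(Cfsg.isometryGroup F ⇑Q)) : GL (Fin n) F) ∈ M)
    {e₀ : Fin n → F} (he₀ : e₀ ∈ E) (hQe₀ : Q e₀ ≠ 0) :
    ((sg Q u (act Q (reflEl Q e₀ hQe₀) e) : ↥(Cfsg.isometryGroup F ⇑Q)) : GL (Fin n) F) ∈ M := by
  have hue : P u e = 0 := h.orth u hu e he
  obtain ⟨f, hf, hQf, huf⟩ := h.exists_partner hu hu0 hQu
  obtain ⟨a', ha', h1u, h1f, hQa'⟩ := h.exists_rep hfr hu hf hQu hQf huf (Q e₀)
  have n2 : Q a' ≠ 0 := by rw [hQa']; exact hQe₀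
  have m1 := hNM (rr_mem_N h hQ hn hQe₀ n2 hQa' (Or.inr he₀) (Or.inl ha'))
  have hρu : act Q (reflEl Q e₀ hQe₀ * reflEl Q a' n2) u = u := by
    rw [act_mul, reflEl_act_of_polar_zero Q a' n2 u (by rw [P_comm]; exact h1u),
      reflEl_act_of_polar_zero Q e₀ hQe₀ u (h.orth' hu he₀)]
  have hρe : act Q (reflEl Q e₀ hQe₀ * reflEl Q a' n2) e = act Q (reflEl Q e₀ hQe₀) e := by
    rw [act_mul, reflEl_act_of_polar_zero Q a' n2 e (h.orth a' ha' e he)]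
  have h5 := sg_conj_mem _ m1 hQu hue hM
  rw [hρu, hρe] at h5
  exact h5

/-- a mixed Siegel element with centre `u ∈ A` makes `u` a centre of `M`, if the reflections of
`E` act irreducibly on `E` -/
theorem mem_Cen_of_mixed [Fintype F] (h : NdPair Q A E)
    (hQ : (QuadraticMap.polarBilin Q).Nondegenerate) (hn : 7 ≤ n) (hfr : 5 ≤ finrank F A)
    (hNM : Cfsg.Geo.subspaceStabilizer A ⊓ Cfsg.Geo.omegaGL (⇑Q) ≤ M)
    (hirr : ∀ S : Submodule F (Fin n → F), S ≤ E → S ≠ ⊥ →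
      (∀ e₀ ∈ E, ∀ (he₀ : Q e₀ ≠ 0), ∀ s ∈ S, act Q (reflEl Q e₀ he₀) s ∈ S) → S = E)
    {u : Fin n → F} (hu : u ∈ A) (hu0 : u ≠ 0) (hQu : Q u = 0) {y' : Fin n → F}
    (huy' : P u y' = 0) (hy' : y' ∉ A)
    (hM : ((sg Q u y' : ↥(Cfsg.isometryGroup F ⇑Q)) : GL (Fin n) F) ∈ M) : u ∈ Cen Q M := by
  -- the subspace of second vectors in `E`
  obtain ⟨S, hS⟩ : ∃ S : Submodule F (Fin n → F), ∀ e, e ∈ S ↔
      (e ∈ E ∧ ((sg Q u e : ↥(Cfsg.isometryGroup F ⇑Q)) : GL (Fin n) F) ∈ M) := by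
    refine ⟨{ carrier := {e | e ∈ E ∧
                ((sg Q u e : ↥(Cfsg.isometryGroup F ⇑Q)) : GL (Fin n) F) ∈ M}
              add_mem' := ?_
              zero_mem' := ?_
              smul_mem' := ?_ }, fun e => Iff.rfl⟩
    · rintro e e' ⟨he, hM1⟩ ⟨he', hM2⟩
      refine ⟨E.add_mem he he', ?_⟩
      rw [← sg_mul Q u e e' hQu (h.orth u hu e he) (h.orth u hu e' he')]
      have e1 : ((sg Q u e * sg Q u e' : ↥(Cfsg.isometryGroup F ⇑Q)) : GL (Fin n) F) =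
          ((sg Q u e : ↥(Cfsg.isometryGroup F ⇑Q)) : GL (Fin n) F) *
          ((sg Q u e' : ↥(Cfsg.isometryGroup F ⇑Q)) : GL (Fin n) F) := by simp
      rw [e1]
      exact M.mul_mem hM1 hM2
    · refine ⟨E.zero_mem, ?_⟩
      rw [sg_zero u hQu]
      exact M.one_mem
    · rintro c e ⟨he, hM1⟩
      by_cases hc : c = 0
      · rw [hc, zero_smul]
        refine ⟨E.zero_mem, ?_⟩
        rw [sg_zero u hQu]
        exact M.one_mem
      · exact ⟨E.smul_mem c he, sg_smul_mem h hQ hn hfr hNM hu hu0 hQu he hM1 c hc⟩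
  have hSE : S ≤ E := fun e he => ((hS e).1 he).1
  -- `S` is non-zero
  obtain ⟨a₁, ha₁, e₁, he₁, rfl⟩ := h.span y'
  have he₁0 : e₁ ≠ 0 := h.comp_ne ha₁ hy'
  have hua₁ : P u a₁ = 0 := by
    rw [QuadraticMap.polar_add_right, h.orth u hu e₁ he₁, add_zero] at huy'
    exact huy'
  have he₁S : e₁ ∈ S := by
    rw [hS]
    refine ⟨he₁, ?_⟩
    have h1 : sg Q u e₁ = sg Q u (a₁ + e₁) * sg Q u (-a₁) := by
      rw [sg_mul Q u _ _ hQu huy' (by rw [QuadraticMap.polar_neg_right, hua₁, neg_zero])]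
      congr 1
      abel
    rw [h1]
    have e1 : ((sg Q u (a₁ + e₁) * sg Q u (-a₁) : ↥(Cfsg.isometryGroup F ⇑Q)) : GL (Fin n) F) =
        ((sg Q u (a₁ + e₁) : ↥(Cfsg.isometryGroup F ⇑Q)) : GL (Fin n) F) *
        ((sg Q u (-a₁) : ↥(Cfsg.isometryGroup F ⇑Q)) : GL (Fin n) F) := by simp
    rw [e1]
    exact M.mul_mem hM (hNM (sg_mem_N hQ hn hu (A.neg_mem ha₁) hQu
      (by rw [QuadraticMap.polar_neg_right, hua₁, neg_zero])))
  have hS0 : S ≠ ⊥ := by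
    intro hbot
    rw [hbot, Submodule.mem_bot] at he₁S
    exact he₁0 he₁S
  have hSeq : S = E := by
    apply hirr S hSE hS0
    intro e₀ he₀ hQe₀ s hs
    obtain ⟨hsE, hsM⟩ := (hS s).1 hs
    rw [hS]
    refine ⟨?_, sg_refl_mem h hQ hn hfr hNM hu hu0 hQu hsE hsM he₀ hQe₀⟩
    rw [reflEl_act]
    exact E.sub_mem hsE (E.smul_mem _ he₀)
  -- conclusion
  refine ⟨hQu, fun y huy => ?_⟩
  obtain ⟨a, ha, e, he, rfl⟩ := h.span y
  have hua : P u a = 0 := by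
    rw [QuadraticMap.polar_add_right, h.orth u hu e he, add_zero] at huy
    exact huy
  have heS : e ∈ S := by rw [hSeq]; exact he
  rw [← sg_mul Q u a e hQu hua (h.orth u hu e he)]
  have e1 : ((sg Q u a * sg Q u e : ↥(Cfsg.isometryGroup F ⇑Q)) : GL (Fin n) F) =
      ((sg Q u a : ↥(Cfsg.isometryGroup F ⇑Q)) : GL (Fin n) F) *
      ((sg Q u e : ↥(Cfsg.isometryGroup F ⇑Q)) : GL (Fin n) F) := by simp
  rw [e1]
  exact M.mul_mem (hNM (sg_mem_N hQ hn hu ha hQu hua)) ((hS e).1 heS).2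

end Cfsg.Agent.Lib.H11.OmNd
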