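import Cfsg.Agent.Lib.H11.OmNd5

/-!
Irreducibility of the reflections of `E` on `E`, for `q ≥ 3` and `dim E ≥ 3`.
-/

set_option autoImplicit false
set_option linter.unusedSimpArgs false
set_option linter.unusedSectionVars false
set_option linter.unusedVariables false

namespace Cfsg.Agent.Lib.H11.OmNd

open Matrix Module
open Cfsg.Agent.Lib.H28 Cfsg.Agent.Lib.H11.SubspMax
open Cfsg.Agent.Lib.H11.CD Cfsg.Agent.Lib.H11.SiegelGen Cfsg.Agent.Lib.H11.OrMax
open Cfsg.Agent.Lib.H11.OmTs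
open Cfsg.Agent.Lib.H11.SpPair (finrank_le_inf_ker_add_one)

variable {F : Type*} [Field F] {n : ℕ} {Q : QuadraticForm F (Fin n → F)}

set_option quotPrecheck false in
local notation "P" => QuadraticMap.polar (⇑Q)

variable {A E : Submodule F (Fin n → F)}

theorem exists_ne_two [Fintype F] (hq : 3 ≤ Fintype.card F) (a b : F) :
    ∃ c : F, c ≠ a ∧ c ≠ b := by
  classical
  have h1 : ({a, b} : Finset F).card < (Finset.univ : Finset F).card := by
    rw [Finset.card_univ]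
    exact lt_of_le_of_lt Finset.card_le_two (by omega)
  obtain ⟨c, -, hc⟩ := Finset.exists_mem_notMem_of_card_lt_card h1
  refine ⟨c, fun h => hc (by rw [h]; simp), fun h => hc (by rw [h]; simp)⟩

/-- a nonsingular vector of `E` lies in an invariant subspace or is orthogonal to it -/
theorem mem_or_orth_of_invariant (S : Submodule F (Fin n → F))
    (hinv : ∀ e₀ ∈ E, ∀ (he₀ : Q e₀ ≠ 0), ∀ s ∈ S, act Q (reflEl Q e₀ he₀) s ∈ S)
    {e₀ : Fin n → F} (he₀ : e₀ ∈ E) (hQe₀ : Q e₀ ≠ 0) : e₀ ∈ S ∨ ∀ s ∈ S, P s e₀ = 0 := by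
  by_cases hall : ∀ s ∈ S, P s e₀ = 0
  · right; exact hall
  left
  push Not at hall
  obtain ⟨s, hs, hne⟩ := hall
  have h1 := hinv e₀ he₀ hQe₀ s hs
  rw [reflEl_act] at h1
  have h2 : ((Q e₀)⁻¹ * P e₀ s) • e₀ ∈ S := by
    have := S.sub_mem hs h1
    rwa [sub_sub_cancel] at this
  have hne' : (Q e₀)⁻¹ * P e₀ s ≠ 0 :=
    mul_ne_zero (inv_ne_zero hQe₀) (by rw [P_comm]; exact hne)
  have := S.smul_mem ((Q e₀)⁻¹ * P e₀ s)⁻¹ h2
  rwa [smul_smul, inv_mul_cancel₀ hne', one_smul] at this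

theorem irr_of_three [Fintype F] (h : NdPair Q A E)
    (hQ : (QuadraticMap.polarBilin Q).Nondegenerate) (hq : 3 ≤ Fintype.card F)
    (hE : 3 ≤ finrank F E) (S : Submodule F (Fin n → F)) (hSE : S ≤ E) (hS0 : S ≠ ⊥)
    (hinv : ∀ e₀ ∈ E, ∀ (he₀ : Q e₀ ≠ 0), ∀ s ∈ S, act Q (reflEl Q e₀ he₀) s ∈ S) : S = E := by
  by_contra hne
  have hlt : ¬ E ≤ S := fun hle => hne (le_antisymm hSE hle)
  obtain ⟨x₁, hx₁E, hx₁S⟩ := Set.not_subset.mp hlt
  obtain ⟨ψ, hψx₁, hψS⟩ := Submodule.exists_le_ker_of_notMem hx₁S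
  obtain ⟨s₀, hs₀S, hs₀0⟩ := Submodule.exists_mem_ne_zero_of_ne_bot hS0
  obtain ⟨e', he'E, hs₀e'⟩ := h.nd_E hQ (hSE hs₀S) hs₀0
  -- nonsingular vectors of `E` are killed by `ψ` or by `P s₀`
  have star : ∀ x ∈ E, ψ x ≠ 0 → P s₀ x ≠ 0 → Q x = 0 := by
    intro x hx h1 h2
    by_contra hQx
    rcases mem_or_orth_of_invariant S hinv hx hQx with h3 | h3
    · exact h1 (hψS h3)
    · exact h2 (h3 s₀ hs₀S)
  -- a good vector
  obtain ⟨x₀, hx₀E, hx₀1, hx₀2⟩ : ∃ x₀ ∈ E, ψ x₀ ≠ 0 ∧ P s₀ x₀ ≠ 0 := by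
    by_cases c1 : P s₀ x₁ ≠ 0
    · exact ⟨x₁, hx₁E, hψx₁, c1⟩
    by_cases c2 : ψ e' ≠ 0
    · exact ⟨e', he'E, c2, hs₀e'⟩
    rw [not_not] at c1 c2
    refine ⟨x₁ + e', E.add_mem hx₁E he'E, ?_, ?_⟩
    · rw [map_add, c2, add_zero]; exact hψx₁
    · rw [QuadraticMap.polar_add_right, c1, zero_add]; exact hs₀e'
  -- a non-zero vector of `E` killed by both functionals
  have f1 := finrank_le_inf_ker_add_one E ψ
  have f2 := finrank_le_inf_ker_add_one (E ⊓ LinearMap.ker ψ) (fr Q s₀)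
  have hKpos : 0 < finrank F ↥(E ⊓ LinearMap.ker ψ ⊓ LinearMap.ker (fr Q s₀)) := by omega
  have hK0 : E ⊓ LinearMap.ker ψ ⊓ LinearMap.ker (fr Q s₀) ≠ ⊥ := by
    intro hbot
    rw [hbot, finrank_bot] at hKpos
    exact lt_irrefl _ hKpos
  obtain ⟨k, hkK, hk0⟩ := Submodule.exists_mem_ne_zero_of_ne_bot hK0
  have hkE : k ∈ E := hkK.1.1
  have hψk : ψ k = 0 := LinearMap.mem_ker.1 hkK.1.2
  have hs₀k : P s₀ k = 0 := LinearMap.mem_ker.1 hkK.2
  -- `k` is orthogonal to the good vectors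
  have good : ∀ x ∈ E, ψ x ≠ 0 → P s₀ x ≠ 0 → P x k = 0 := by
    intro x hx h1 h2
    have key : ∀ c : F, c ≠ 0 → Q k + c * P x k = 0 := by
      intro c hc
      have g1 : ψ (c • x) ≠ 0 := by
        rw [map_smul, smul_eq_mul]; exact mul_ne_zero hc h1
      have g2 : P s₀ (c • x) ≠ 0 := by
        rw [QuadraticMap.polar_smul_right, smul_eq_mul]; exact mul_ne_zero hc h2
      have a1 := star (c • x) (E.smul_mem c hx) g1 g2
      have a2 := star (c • x + k) (E.add_mem (E.smul_mem c hx) hkE)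
        (by rw [map_add, hψk, add_zero]; exact g1)
        (by rw [QuadraticMap.polar_add_right, hs₀k, add_zero]; exact g2)
      rw [Q_add, a1, QuadraticMap.polar_smul_left, smul_eq_mul, zero_add] at a2
      exact a2
    obtain ⟨c, hc0, hc1⟩ := exists_ne_two hq (0 : F) 1
    have k1 := key 1 one_ne_zero
    have k2 := key c hc0
    have k3 : (c - 1) * P x k = 0 := by linear_combination k2 - k1
    exact (mul_eq_zero.1 k3).resolve_left (sub_ne_zero.2 hc1)
  -- `k` is orthogonal to `E`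
  have hkperp : ∀ x ∈ E, P k x = 0 := by
    intro x hx
    obtain ⟨l, hl1, hl2⟩ := exists_ne_two hq (-(ψ x / ψ x₀)) (-(P s₀ x / P s₀ x₀))
    have g1 : ψ (x + l • x₀) ≠ 0 := by
      rw [map_add, map_smul, smul_eq_mul]
      intro h0
      apply hl1
      field_simp
      linear_combination h0
    have g2 : P s₀ (x + l • x₀) ≠ 0 := by
      rw [QuadraticMap.polar_add_right, QuadraticMap.polar_smul_right, smul_eq_mul]
      intro h0
      apply hl2
      field_simp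
      linear_combination h0
    have a1 := good (x + l • x₀) (E.add_mem hx (E.smul_mem l hx₀E)) g1 g2
    have a2 := good x₀ hx₀E hx₀1 hx₀2
    rw [QuadraticMap.polar_add_left, QuadraticMap.polar_smul_left, a2, smul_zero, add_zero] at a1
    rw [P_comm]; exact a1
  obtain ⟨e'', he'', hne''⟩ := h.nd_E hQ hkE hk0
  exact hne'' (hkperp e'' he'')

end Cfsg.Agent.Lib.H11.OmNd
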