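import Cfsg.Agent.Lib.H11.OmNd6

/-!
The stabiliser in `Ω` of a non-degenerate subspace `A` of dimension at least six is maximal, if no
isometry maps `A` into `E = A^⊥` and the reflections of `E` act irreducibly on `E`.
-/

set_option autoImplicit false
set_option linter.unusedSimpArgs false
set_option linter.unusedSectionVars false
set_option linter.unusedVariables false

namespace Cfsg.Agent.Lib.H11.OmNd

open Matrix Module
open Cfsg.Agent.Lib.H28 Cfsg.Agent.Lib.H11.SubspMax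
open Cfsg.Agent.Lib.H11.CD Cfsg.Agent.Lib.H11.SiegelGen Cfsg.Agent.Lib.H11.OrMax
open Cfsg.Agent.Lib.H11.OmTs

variable {F : Type*} [Field F] {n : ℕ} {Q : QuadraticForm F (Fin n → F)}

set_option quotPrecheck false in
local notation "P" => QuadraticMap.polar (⇑Q)

variable {A E : Submodule F (Fin n → F)}

/-- the stabiliser of `A` is a proper subgroup of `Ω` -/
theorem nd_lt [Fintype F] (h : NdPair Q A E)
    (hQ : (QuadraticMap.polarBilin Q).Nondegenerate) (hn : 7 ≤ n) (hfr : 3 ≤ finrank F A)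
    (hE0 : E ≠ ⊥) :
    Cfsg.Geo.subspaceStabilizer A ⊓ Cfsg.Geo.omegaGL (⇑Q) < Cfsg.Geo.omegaGL (⇑Q) := by
  refine lt_of_le_of_ne inf_le_right ?_
  intro heq
  obtain ⟨u, hu, hu0, hQu⟩ := exists_sing_in (Q := Q) A hfr
  obtain ⟨f, hf, hQf, huf⟩ := h.exists_partner hu hu0 hQu
  obtain ⟨e, he, he0⟩ := Submodule.exists_mem_ne_zero_of_ne_bot hE0
  have hue : P u e = 0 := h.orth u hu e he
  have hmem : ((sg Q u e : ↥(Cfsg.isometryGroup F ⇑Q)) : GL (Fin n) F) ∈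
      Cfsg.Geo.subspaceStabilizer A ⊓ Cfsg.Geo.omegaGL (⇑Q) := by
    rw [heq]
    exact coe_mem_omegaGL Q _ (sg_mem_comm Q hQ hn u e hQu hue)
  have h1 := ((mem_subspaceStabilizer_iff _ A).1 hmem.1 f).1 hf
  rw [act_def, sg_act Q u e hQu hue, huf, h.orth' hf he] at h1
  simp only [one_smul, zero_smul, sub_zero, mul_one] at h1
  have h2 : e ∈ A := by
    have := A.sub_mem (A.add_mem h1 (A.smul_mem (Q e) hu)) hf
    have e1 : f + e - Q e • u + Q e • u - f = e := by abel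
    rwa [e1] at this
  have h3 : e ∈ A ⊓ E := ⟨h2, he⟩
  rw [h.disj, Submodule.mem_bot] at h3
  exact he0 h3

theorem nd_maximal [Fintype F] (h : NdPair Q A E)
    (hQ : (QuadraticMap.polarBilin Q).Nondegenerate) (hn : 7 ≤ n) (hfr : 6 ≤ finrank F A)
    (hE0 : E ≠ ⊥)
    (hns : ∀ g : ↥(Cfsg.isometryGroup F ⇑Q), ¬ ∀ x ∈ A, act Q g x ∈ E)
    (hirr : ∀ S : Submodule F (Fin n → F), S ≤ E → S ≠ ⊥ →
      (∀ e₀ ∈ E, ∀ (he₀ : Q e₀ ≠ 0), ∀ s ∈ S, act Q (reflEl Q e₀ he₀) s ∈ S) → S = E) :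
    Cfsg.Geo.IsMaximalIn (Cfsg.Geo.omegaGL (⇑Q))
      (Cfsg.Geo.subspaceStabilizer A ⊓ Cfsg.Geo.omegaGL (⇑Q)) := by
  refine ⟨nd_lt h hQ hn (by omega) hE0, ?_⟩
  intro M hNM hMS
  by_cases hMN : M = Cfsg.Geo.subspaceStabilizer A ⊓ Cfsg.Geo.omegaGL (⇑Q)
  · left; exact hMN
  right
  obtain ⟨h₀, hh₀M, hh₀N⟩ : ∃ h₀ ∈ M, h₀ ∉ Cfsg.Geo.subspaceStabilizer A := by
    by_contra hcon
    push Not at hcon
    exact hMN (le_antisymm (fun g hg => ⟨hcon g hg, hMS hg⟩) hNM)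
  obtain ⟨g₀, -, rfl⟩ := exists_of_mem_omegaGL Q h₀ (hMS hh₀M)
  have hg₀ : ¬ ∀ x ∈ A, act Q g₀ x ∈ A := by
    intro hall
    apply hh₀N
    apply stab_of_le
    intro w hw
    rw [act_def]
    exact hall w hw
  obtain ⟨g, hgM, ⟨a, b, hfix⟩, hg⟩ :=
    exists_fix_not_mem h hQ hn (by omega) hNM g₀ hh₀M hg₀ (hns g₀)
  obtain ⟨u, hu, hu0, hQu, y', huy', hy', hM⟩ :=
    exists_sg_mixed h hQ hn hfr hNM g hgM a b hfix hg
  have huC : u ∈ Cen Q M := mem_Cen_of_mixed h hQ hn (by omega) hNM hirr hu hu0 hQu huy' hy' hM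
  -- a second centre, not orthogonal to the first
  obtain ⟨w, hw, hQw, huw⟩ := h.exists_partner hu hu0 hQu
  have hwu : P w u = 1 := by rw [P_comm]; exact huw
  obtain ⟨z, hz, hzu, hzw, hQz⟩ := h.exists_rep (by omega) hu hw hQu hQw huw 1
  have hwz : P w z = 0 := hzw
  have hsgM : ((sg Q w z : ↥(Cfsg.isometryGroup F ⇑Q)) : GL (Fin n) F) ∈ M :=
    hNM (sg_mem_N hQ hn hw hz hQw hwz)
  have hu'C := Cen_act Q M huC (sg Q w z) hsgM
  have hu' : act Q (sg Q w z) u = u + z - Q z • w := by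
    rw [sg_act Q w z hQw hwz, hwu, P_comm Q z u, hzu]
    simp
  have hpol : P (act Q (sg Q w z) u) u ≠ 0 := by
    rw [hu', QuadraticMap.polar_sub_left, QuadraticMap.polar_add_left,
      QuadraticMap.polar_smul_left, P_self, hQu, P_comm Q z u, hzu, hwu, hQz]
    simp
  apply le_antisymm hMS
  apply omega_le_of_Cen Q M hQ hn
  intro x hx
  exact Cen_all Q M hQ huC hu'C hpol x hx

end Cfsg.Agent.Lib.H11.OmNd
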