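import Cfsg.Agent.Lib.H11.OmNd7
import Cfsg.Agent.Lib.H11.AltForm

/-!
The stabiliser in `Ω` of a decomposition into two non-isometric non-degenerate subspaces of odd
dimension is maximal.
-/

set_option autoImplicit false
set_option linter.unusedSimpArgs false
set_option linter.unusedSectionVars false
set_option linter.unusedVariables false

namespace Cfsg.Agent.Lib.H11.OmNd

open Matrix Module
open Cfsg.Agent.Lib.H28 Cfsg.Agent.Lib.H11.SubspMax
open Cfsg.Agent.Lib.H11.CD Cfsg.Agent.Lib.H11.SiegelGen Cfsg.Agent.Lib.H11.OrMax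
open Cfsg.Agent.Lib.H11.OmTs
open Cfsg.Agent.Lib.H11.PairStab (mem_stab_of_stab2 cases_of_mem_stab sup_eq_top_of_decomp
  inf_eq_bot_of_decomp gl_inj)

variable {F : Type*} [Field F] {n : ℕ} {Q : QuadraticForm F (Fin n → F)}

set_option quotPrecheck false in
local notation "P" => QuadraticMap.polar (⇑Q)

/-- a subspace of odd dimension on which the polar form is non-degenerate forces odd
characteristic -/
theorem two_ne_zero_of_odd_nd (W : Submodule F (Fin n → F))
    (hW : ∀ w ∈ W, w ≠ 0 → ∃ x ∈ W, P w x ≠ 0) (hodd : Odd (finrank F W)) : (2 : F) ≠ 0 := by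
  intro h2
  have hB : ∀ x y : W, (LinearMap.BilinForm.restrict (QuadraticMap.polarBilin Q) W) x y =
      P (x : Fin n → F) (y : Fin n → F) := fun x y => rfl
  have hAlt : (LinearMap.BilinForm.restrict (QuadraticMap.polarBilin Q) W).IsAlt := by
    intro x
    rw [hB, P_self, h2, zero_mul]
  have hnd : (LinearMap.BilinForm.restrict (QuadraticMap.polarBilin Q) W).Nondegenerate := by
    refine ⟨fun x hx => ?_, fun y hy => ?_⟩
    · by_contra hx0
      obtain ⟨z, hz, hne⟩ := hW x x.2 (fun h => hx0 (Subtype.ext h))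
      exact hne (by rw [← hB x ⟨z, hz⟩]; exact hx ⟨z, hz⟩)
    · by_contra hy0
      obtain ⟨z, hz, hne⟩ := hW y y.2 (fun h => hy0 (Subtype.ext h))
      exact hne (by rw [P_comm, ← hB ⟨z, hz⟩ y]; exact hy ⟨z, hz⟩)
  have := Cfsg.Agent.Lib.H11.even_finrank_of_nondegenerate_isAlt (finrank F W) _ hAlt hnd rfl
  exact (Nat.not_even_iff_odd.2 hodd) this

theorem three_le_card [Fintype F] (h2 : (2 : F) ≠ 0) : 3 ≤ Fintype.card F := by
  classical
  have h1 : ({0, 1, 2} : Finset F).card = 3 := by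
    rw [Finset.card_insert_of_notMem, Finset.card_insert_of_notMem, Finset.card_singleton]
    · rw [Finset.mem_singleton]
      intro h
      exact one_ne_zero (α := F) (by linear_combination (-1 : F) * h)
    · rw [Finset.mem_insert, Finset.mem_singleton]
      rintro (h | h)
      · exact one_ne_zero h.symm
      · exact h2 h.symm
  rw [← h1]
  exact Finset.card_le_univ _

variable {D : Fin 2 → Submodule F (Fin n → F)} {k : ℕ}

theorem halves_maximal [Fintype F] (hQ : (QuadraticMap.polarBilin Q).Nondegenerate)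
    (hn : 13 ≤ n) (hk : 2 * k = n) (hko : Odd k)
    (hD : Cfsg.Geo.IsNondegenerateMDecomposition (QuadraticMap.polar (⇑Q)) k D)
    (hni : ¬ Cfsg.Geo.AreIsometricFor (⇑Q) (D 0) (D 1)) :
    Cfsg.Geo.IsMaximalIn (Cfsg.Geo.omegaGL (⇑Q))
      (Cfsg.Geo.decompositionStabilizer D ⊓ Cfsg.Geo.omegaGL (⇑Q)) := by
  have hfr0 : finrank F (D 0) = k := hD.decomp.finrank_eq 0
  have hfr1 : finrank F (D 1) = k := hD.decomp.finrank_eq 1
  have hP : NdPair Q (D 0) (D 1) := by
    refine ⟨hD.orthogonal 0 1 (by decide), ?_, ?_⟩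
    · intro x
      have hx : x ∈ D 0 ⊔ D 1 := by
        rw [sup_eq_top_of_decomp hD.decomp]; exact Submodule.mem_top
      obtain ⟨x₁, h₁, x₂, h₂, hx⟩ := Submodule.mem_sup.1 hx
      exact ⟨x₁, h₁, x₂, h₂, hx.symm⟩
    · intro a ha ha0
      exact (hD.nondegenerate 0 a ha ha0).2
  have h2 : (2 : F) ≠ 0 := two_ne_zero_of_odd_nd (D 1)
    (fun w hw hw0 => (hD.nondegenerate 1 w hw hw0).2) (by rw [hfr1]; exact hko)
  have hq := three_le_card h2
  -- no isometry maps `D 0` into `D 1`
  have hns : ∀ g : ↥(Cfsg.isometryGroup F ⇑Q), ¬ ∀ x ∈ D 0, act Q g x ∈ D 1 := by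
    intro g hg
    apply hni
    let L : ↥(D 0) →ₗ[F] ↥(D 1) :=
      (Matrix.toLin' ((g : GL (Fin n) F) : Matrix (Fin n) (Fin n) F)).restrict (p := D 0)
        (q := D 1) (fun x hx => by
          rw [Matrix.toLin'_apply, act_def]; exact hg x hx)
    have hL : ∀ x : ↥(D 0), ((L x : ↥(D 1)) : Fin n → F) = act Q g (x : Fin n → F) := by
      intro x
      show (Matrix.toLin' ((g : GL (Fin n) F) : Matrix (Fin n) (Fin n) F)) (x : Fin n → F) = _
      rw [Matrix.toLin'_apply, act_def]
    have hinj : Function.Injective L := by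
      intro x y hxy
      have h1 : act Q g (x : Fin n → F) = act Q g (y : Fin n → F) := by
        rw [← hL, ← hL, hxy]
      apply Subtype.ext
      rw [← act_def, ← act_def] at h1
      exact gl_inj _ h1
    refine ⟨LinearMap.linearEquivOfInjective L hinj (by rw [hfr0, hfr1]), fun w => ?_⟩
    have : ((LinearMap.linearEquivOfInjective L hinj (by rw [hfr0, hfr1]) w : ↥(D 1)) :
        Fin n → F) = act Q g (w : Fin n → F) := by
      rw [← hL]
      rfl
    rw [this, Q_act]
  -- the decomposition stabiliser is the stabiliser of `D 0`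
  have heq : Cfsg.Geo.decompositionStabilizer D ⊓ Cfsg.Geo.omegaGL (⇑Q) =
      Cfsg.Geo.subspaceStabilizer (D 0) ⊓ Cfsg.Geo.omegaGL (⇑Q) := by
    apply le_antisymm
    · rintro g₁ ⟨hg1, hg2⟩
      refine ⟨?_, hg2⟩
      obtain ⟨g, -, rfl⟩ := exists_of_mem_omegaGL Q g₁ hg2
      rcases cases_of_mem_stab _ hg1 with h6 | h6
      · exact stab_of_le h6.1
      · exfalso
        exact hns g (fun x hx => by rw [← act_def]; exact h6.1 x hx)
    · rintro g₁ ⟨hg1, hg2⟩
      refine ⟨?_, hg2⟩
      obtain ⟨g, -, rfl⟩ := exists_of_mem_omegaGL Q g₁ hg2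
      have hA : ∀ x ∈ D 0, act Q g x ∈ D 0 := fun x hx => by
        rw [← act_def]
        exact ((mem_subspaceStabilizer_iff _ (D 0)).1 hg1 x).1 hx
      have hAinv : ∀ x ∈ D 0, act Q g⁻¹ x ∈ D 0 := fun x hx => by
        have := ((mem_subspaceStabilizer_iff _ (D 0)).1 hg1 (act Q g⁻¹ x)).2
        rw [act_def, Cfsg.Agent.Lib.H11.OmegaTrans.act_inv_act] at this
        exact this hx
      apply mem_stab_of_stab2
      · intro x hx; rw [act_def]; exact hA x hx
      · intro x hx; rw [act_def]; exact maps_E hP hQ g hAinv hx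
  rw [heq]
  have hE0 : D 1 ≠ ⊥ := by
    intro hbot
    rw [hbot, finrank_bot] at hfr1
    omega
  exact nd_maximal hP hQ (by omega) (by omega) hE0 hns
    (fun S hSE hS0 hinv => irr_of_three hP hQ hq (by omega) S hSE hS0 hinv)

end Cfsg.Agent.Lib.H11.OmNd
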