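import Cfsg.Agent.Lib.H11.OmNd8

/-!
Sharper versions: invariant subspaces for `dim A ≥ 3`, and irreducibility hypotheses using both the
reflections and the Siegel elements of `E`.
-/

set_option autoImplicit false
set_option linter.unusedSimpArgs false
set_option linter.unusedSectionVars false
set_option linter.unusedVariables false

namespace Cfsg.Agent.Lib.H11.OmNd

open Matrix Module
open Cfsg.Agent.Lib.H28 Cfsg.Agent.Lib.H11.SubspMax
open Cfsg.Agent.Lib.H11.CD Cfsg.Agent.Lib.H11.SiegelGen Cfsg.Agent.Lib.H11.OrMax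
open Cfsg.Agent.Lib.H11.OmTs
open Cfsg.Agent.Lib.H11.SpPair (finrank_le_inf_ker_add_one)

variable {F : Type*} [Field F] {n : ℕ} {Q : QuadraticForm F (Fin n → F)}

set_option quotPrecheck false in
local notation "P" => QuadraticMap.polar (⇑Q)

variable {A E : Submodule F (Fin n → F)} {M : Subgroup (GL (Fin n) F)}

/-- two non-orthogonal vectors of `A` orthogonal to a hyperbolic pair of `A` -/
theorem NdPair.exists_pair_perp (h : NdPair Q A E) (hfr : 3 ≤ finrank F A)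
    {u f : Fin n → F} (hu : u ∈ A) (hf : f ∈ A) (hQu : Q u = 0) (hQf : Q f = 0)
    (huf : P u f = 1) :
    ∃ y ∈ A, ∃ y' ∈ A, P y y' ≠ 0 ∧ P u y = 0 ∧ P f y = 0 ∧ P u y' = 0 ∧ P f y' = 0 := by
  have h1 := finrank_le_inf_ker_add_one A (fr Q u)
  have h2 := finrank_le_inf_ker_add_one (A ⊓ LinearMap.ker (fr Q u)) (fr Q f)
  have hpos : 0 < finrank F ↥(A ⊓ LinearMap.ker (fr Q u) ⊓ LinearMap.ker (fr Q f)) := by omega
  have hne : A ⊓ LinearMap.ker (fr Q u) ⊓ LinearMap.ker (fr Q f) ≠ ⊥ := by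
    intro hbot
    rw [hbot, finrank_bot] at hpos
    exact lt_irrefl _ hpos
  obtain ⟨y, hyX, hy0⟩ := Submodule.exists_mem_ne_zero_of_ne_bot hne
  have hyA : y ∈ A := hyX.1.1
  have huy : P u y = 0 := LinearMap.mem_ker.1 hyX.1.2
  have hfy : P f y = 0 := LinearMap.mem_ker.1 hyX.2
  obtain ⟨a', ha', hya'⟩ := h.nd y hyA hy0
  obtain ⟨p1, p2⟩ := proj_hyp hQu hQf huf a'
  refine ⟨y, hyA, a' - P a' f • u - P a' u • f,
    A.sub_mem (A.sub_mem ha' (A.smul_mem _ hu)) (A.smul_mem _ hf), ?_, huy, hfy, p1, p2⟩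
  rw [QuadraticMap.polar_sub_right, QuadraticMap.polar_sub_right, QuadraticMap.polar_smul_right,
    QuadraticMap.polar_smul_right, P_comm Q y u, huy, P_comm Q y f, hfy]
  simpa using hya'

/-- one step (sharper version): a vector of `T` not orthogonal to the singular `u ∈ A` forces
`u ∈ T` and `A ∩ u^⊥ ≤ T` -/
theorem inv_step' (h : NdPair Q A E) (hfr : 3 ≤ finrank F A)
    (T : Submodule F (Fin n → F))
    (hinv : ∀ u ∈ A, ∀ y ∈ A, Q u = 0 → P u y = 0 → ∀ t ∈ T, act Q (sg Q u y) t ∈ T)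
    {u t : Fin n → F} (hu : u ∈ A) (hQu : Q u = 0) (ht : t ∈ T) (hut : P u t ≠ 0) :
    u ∈ T ∧ ∀ y ∈ A, P u y = 0 → y ∈ T := by
  have hu0 : u ≠ 0 := by
    rintro rfl
    apply hut
    simp [QuadraticMap.polar]
  obtain ⟨f, hf, hQf, huf⟩ := h.exists_partner hu hu0 hQu
  obtain ⟨y₁, hy₁, y₂, hy₂, h12, h1, -, h3, -⟩ := h.exists_pair_perp hfr hu hf hQu hQf huf
  have hτ : ∀ y ∈ A, P u y = 0 → P u t • y - P y t • u - (Q y * P u t) • u ∈ T := by
    intro y hy huy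
    have := T.sub_mem (hinv u hu y hy hQu huy t ht) ht
    rw [sg_act Q u y hQu huy] at this
    have e : t + P u t • y - P y t • u - (Q y * P u t) • u - t =
        P u t • y - P y t • u - (Q y * P u t) • u := by abel
    rwa [e] at this
  have huT : u ∈ T := by
    have a1 := hτ y₁ hy₁ h1
    have a2 := hτ y₂ hy₂ h3
    have a3 := hτ (y₁ + y₂) (A.add_mem hy₁ hy₂) (by
      rw [QuadraticMap.polar_add_right, h1, h3, add_zero])
    have a4 := T.sub_mem (T.add_mem a1 a2) a3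
    have e : P u t • y₁ - P y₁ t • u - (Q y₁ * P u t) • u +
        (P u t • y₂ - P y₂ t • u - (Q y₂ * P u t) • u) -
        (P u t • (y₁ + y₂) - P (y₁ + y₂) t • u - (Q (y₁ + y₂) * P u t) • u) =
        (P y₁ y₂ * P u t) • u := by
      rw [QuadraticMap.polar_add_left, Q_add]
      module
    rw [e] at a4
    have hne : P y₁ y₂ * P u t ≠ 0 := mul_ne_zero h12 hut
    have := T.smul_mem (P y₁ y₂ * P u t)⁻¹ a4
    rwa [smul_smul, inv_mul_cancel₀ hne, one_smul] at this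
  refine ⟨huT, ?_⟩
  intro y hy huy
  have a1 := hτ y hy huy
  have a2 : P u t • y ∈ T := by
    have := T.add_mem (T.add_mem a1 (T.smul_mem (P y t) huT)) (T.smul_mem (Q y * P u t) huT)
    have e : P u t • y - P y t • u - (Q y * P u t) • u + P y t • u + (Q y * P u t) • u =
        P u t • y := by abel
    rwa [e] at this
  have := T.smul_mem (P u t)⁻¹ a2
  rwa [smul_smul, inv_mul_cancel₀ hut, one_smul] at this

/-- a subspace invariant under the Siegel elements of `A` and not inside `E` contains `A`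
(`dim A ≥ 3`) -/
theorem le_of_invariant' [Finite F] (h : NdPair Q A E) (hfr : 3 ≤ finrank F A)
    (T : Submodule F (Fin n → F))
    (hinv : ∀ u ∈ A, ∀ y ∈ A, Q u = 0 → P u y = 0 → ∀ t ∈ T, act Q (sg Q u y) t ∈ T)
    (hT : ¬ T ≤ E) : A ≤ T := by
  obtain ⟨t, htT, htE⟩ := Set.not_subset.mp hT
  obtain ⟨a₀, ha₀, e₀, he₀, rfl⟩ := h.span t
  have ha₀0 : a₀ ≠ 0 := by
    rintro rfl
    rw [zero_add] at htE
    exact htE he₀
  obtain ⟨u, hu, hQu, hua₀⟩ := h.exists_sing_nonorth hfr ha₀ ha₀0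
  have hut : P u (a₀ + e₀) ≠ 0 := by
    rw [QuadraticMap.polar_add_right, h.orth u hu e₀ he₀, add_zero]; exact hua₀
  have hu0 : u ≠ 0 := by
    rintro rfl
    apply hua₀
    simp [QuadraticMap.polar]
  obtain ⟨huT, s1⟩ := inv_step' h hfr T hinv hu hQu htT hut
  obtain ⟨f, hf, hQf, huf⟩ := h.exists_partner hu hu0 hQu
  have hfu : P f u ≠ 0 := by rw [P_comm, huf]; exact one_ne_zero
  obtain ⟨hfT, s2⟩ := inv_step' h hfr T hinv hf hQf huT hfu
  intro a ha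
  have h5 : a - P u a • f ∈ T := by
    apply s1 _ (A.sub_mem ha (A.smul_mem _ hf))
    rw [QuadraticMap.polar_sub_right, QuadraticMap.polar_smul_right, huf]
    simp
  have := T.add_mem h5 (T.smul_mem (P u a) hfT)
  rwa [sub_add_cancel] at this

/-- Siegel elements of `E` lie in the stabiliser of `A` -/
theorem sgE_mem_N [Fintype F] (h : NdPair Q A E)
    (hQ : (QuadraticMap.polarBilin Q).Nondegenerate) (hn : 7 ≤ n)
    {e z : Fin n → F} (he : e ∈ E) (hz : z ∈ E) (hQe : Q e = 0) (hez : P e z = 0) :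
    ((sg Q e z : ↥(Cfsg.isometryGroup F ⇑Q)) : GL (Fin n) F) ∈
      Cfsg.Geo.subspaceStabilizer A ⊓ Cfsg.Geo.omegaGL (⇑Q) := by
  refine ⟨stab_of_le ?_, coe_mem_omegaGL Q _ (sg_mem_comm Q hQ hn e z hQe hez)⟩
  intro x hx
  rw [act_def, sg_fix hQe hez (h.orth' hx he) (h.orth' hx hz)]
  exact hx

/-- applying a Siegel element of `E` to the second vector -/
theorem sg_sgE_mem [Fintype F] (h : NdPair Q A E)
    (hQ : (QuadraticMap.polarBilin Q).Nondegenerate) (hn : 7 ≤ n)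
    (hNM : Cfsg.Geo.subspaceStabilizer A ⊓ Cfsg.Geo.omegaGL (⇑Q) ≤ M)
    {u : Fin n → F} (hu : u ∈ A) (hQu : Q u = 0) {e' : Fin n → F} (he' : e' ∈ E)
    (hM : ((sg Q u e' : ↥(Cfsg.isometryGroup F ⇑Q)) : GL (Fin n) F) ∈ M)
    {e z : Fin n → F} (he : e ∈ E) (hz : z ∈ E) (hQe : Q e = 0) (hez : P e z = 0) :
    ((sg Q u (act Q (sg Q e z) e') : ↥(Cfsg.isometryGroup F ⇑Q)) : GL (Fin n) F) ∈ M := by
  have m1 := hNM (sgE_mem_N h hQ hn he hz hQe hez)
  have hρu : act Q (sg Q e z) u = u := sg_fix hQe hez (h.orth' hu he) (h.orth' hu hz)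
  have h5 := sg_conj_mem _ m1 hQu (h.orth u hu e' he') hM
  rw [hρu] at h5
  exact h5

/-- sharper version of `mem_Cen_of_mixed`: the irreducibility hypothesis may use both the
reflections and the Siegel elements of `E` -/
theorem mem_Cen_of_mixed' [Fintype F] (h : NdPair Q A E)
    (hQ : (QuadraticMap.polarBilin Q).Nondegenerate) (hn : 7 ≤ n) (hfr : 5 ≤ finrank F A)
    (hNM : Cfsg.Geo.subspaceStabilizer A ⊓ Cfsg.Geo.omegaGL (⇑Q) ≤ M)
    (hirr : ∀ S : Submodule F (Fin n → F), S ≤ E → S ≠ ⊥ →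
      (∀ e₀ ∈ E, ∀ (he₀ : Q e₀ ≠ 0), ∀ s ∈ S, act Q (reflEl Q e₀ he₀) s ∈ S) →
      (∀ e ∈ E, ∀ z ∈ E, Q e = 0 → P e z = 0 → ∀ s ∈ S, act Q (sg Q e z) s ∈ S) → S = E)
    {u : Fin n → F} (hu : u ∈ A) (hu0 : u ≠ 0) (hQu : Q u = 0) {y' : Fin n → F}
    (huy' : P u y' = 0) (hy' : y' ∉ A)
    (hM : ((sg Q u y' : ↥(Cfsg.isometryGroup F ⇑Q)) : GL (Fin n) F) ∈ M) : u ∈ Cen Q M := by
  obtain ⟨S, hS⟩ : ∃ S : Submodule F (Fin n → F), ∀ e, e ∈ S ↔
      (e ∈ E ∧ ((sg Q u e : ↥(Cfsg.isometryGroup F ⇑Q)) : GL (Fin n) F) ∈ M) := by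
    refine ⟨{ carrier := {e | e ∈ E ∧
                ((sg Q u e : ↥(Cfsg.isometryGroup F ⇑Q)) : GL (Fin n) F) ∈ M}
              add_mem' := ?_
              zero_mem' := ?_
              smul_mem' := ?_ }, fun e => Iff.rfl⟩
    · rintro e e' ⟨he, hM1⟩ ⟨he', hM2⟩
      refine ⟨E.add_mem he he', ?_⟩
      rw [← sg_mul Q u e e' hQu (h.orth u hu e he) (h.orth u hu e' he')]
      have e1 : ((sg Q u e * sg Q u e' : ↥(Cfsg.isometryGroup F ⇑Q)) : GL (Fin n) F) =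
          ((sg Q u e : ↥(Cfsg.isometryGroup F ⇑Q)) : GL (Fin n) F) *
          ((sg Q u e' : ↥(Cfsg.isometryGroup F ⇑Q)) : GL (Fin n) F) := by simp
      rw [e1]
      exact M.mul_mem hM1 hM2
    · refine ⟨E.zero_mem, ?_⟩
      rw [sg_zero u hQu]
      exact M.one_mem
    · rintro c e ⟨he, hM1⟩
      by_cases hc : c = 0
      · rw [hc, zero_smul]
        refine ⟨E.zero_mem, ?_⟩
        rw [sg_zero u hQu]
        exact M.one_mem
      · exact ⟨E.smul_mem c he, sg_smul_mem h hQ hn hfr hNM hu hu0 hQu he hM1 c hc⟩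
  have hSE : S ≤ E := fun e he => ((hS e).1 he).1
  obtain ⟨a₁, ha₁, e₁, he₁, rfl⟩ := h.span y'
  have he₁0 : e₁ ≠ 0 := h.comp_ne ha₁ hy'
  have hua₁ : P u a₁ = 0 := by
    rw [QuadraticMap.polar_add_right, h.orth u hu e₁ he₁, add_zero] at huy'
    exact huy'
  have he₁S : e₁ ∈ S := by
    rw [hS]
    refine ⟨he₁, ?_⟩
    have h1 : sg Q u e₁ = sg Q u (a₁ + e₁) * sg Q u (-a₁) := by
      rw [sg_mul Q u _ _ hQu huy' (by rw [QuadraticMap.polar_neg_right, hua₁, neg_zero])]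
      congr 1
      abel
    rw [h1]
    have e1 : ((sg Q u (a₁ + e₁) * sg Q u (-a₁) : ↥(Cfsg.isometryGroup F ⇑Q)) : GL (Fin n) F) =
        ((sg Q u (a₁ + e₁) : ↥(Cfsg.isometryGroup F ⇑Q)) : GL (Fin n) F) *
        ((sg Q u (-a₁) : ↥(Cfsg.isometryGroup F ⇑Q)) : GL (Fin n) F) := by simp
    rw [e1]
    exact M.mul_mem hM (hNM (sg_mem_N hQ hn hu (A.neg_mem ha₁) hQu
      (by rw [QuadraticMap.polar_neg_right, hua₁, neg_zero])))
  have hS0 : S ≠ ⊥ := by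
    intro hbot
    rw [hbot, Submodule.mem_bot] at he₁S
    exact he₁0 he₁S
  have hSeq : S = E := by
    apply hirr S hSE hS0
    · intro e₀ he₀ hQe₀ s hs
      obtain ⟨hsE, hsM⟩ := (hS s).1 hs
      rw [hS]
      refine ⟨?_, sg_refl_mem h hQ hn hfr hNM hu hu0 hQu hsE hsM he₀ hQe₀⟩
      rw [reflEl_act]
      exact E.sub_mem hsE (E.smul_mem _ he₀)
    · intro e he z hz hQe hez s hs
      obtain ⟨hsE, hsM⟩ := (hS s).1 hs
      rw [hS]
      refine ⟨?_, sg_sgE_mem h hQ hn hNM hu hQu hsE hsM he hz hQe hez⟩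
      rw [sg_act Q e z hQe hez]
      exact E.sub_mem (E.sub_mem (E.add_mem hsE (E.smul_mem _ hz)) (E.smul_mem _ he))
        (E.smul_mem _ he)
  refine ⟨hQu, fun y huy => ?_⟩
  obtain ⟨a, ha, e, he, rfl⟩ := h.span y
  have hua : P u a = 0 := by
    rw [QuadraticMap.polar_add_right, h.orth u hu e he, add_zero] at huy
    exact huy
  have heS : e ∈ S := by rw [hSeq]; exact he
  rw [← sg_mul Q u a e hQu hua (h.orth u hu e he)]
  have e1 : ((sg Q u a * sg Q u e : ↥(Cfsg.isometryGroup F ⇑Q)) : GL (Fin n) F) =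
      ((sg Q u a : ↥(Cfsg.isometryGroup F ⇑Q)) : GL (Fin n) F) *
      ((sg Q u e : ↥(Cfsg.isometryGroup F ⇑Q)) : GL (Fin n) F) := by simp
  rw [e1]
  exact M.mul_mem (hNM (sg_mem_N hQ hn hu ha hQu hua)) ((hS e).1 heS).2

/-- sharper version of `nd_maximal` -/
theorem nd_maximal' [Fintype F] (h : NdPair Q A E)
    (hQ : (QuadraticMap.polarBilin Q).Nondegenerate) (hn : 7 ≤ n) (hfr : 6 ≤ finrank F A)
    (hE0 : E ≠ ⊥)
    (hns : ∀ g : ↥(Cfsg.isometryGroup F ⇑Q), ¬ ∀ x ∈ A, act Q g x ∈ E)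
    (hirr : ∀ S : Submodule F (Fin n → F), S ≤ E → S ≠ ⊥ →
      (∀ e₀ ∈ E, ∀ (he₀ : Q e₀ ≠ 0), ∀ s ∈ S, act Q (reflEl Q e₀ he₀) s ∈ S) →
      (∀ e ∈ E, ∀ z ∈ E, Q e = 0 → P e z = 0 → ∀ s ∈ S, act Q (sg Q e z) s ∈ S) → S = E) :
    Cfsg.Geo.IsMaximalIn (Cfsg.Geo.omegaGL (⇑Q))
      (Cfsg.Geo.subspaceStabilizer A ⊓ Cfsg.Geo.omegaGL (⇑Q)) := by
  refine ⟨nd_lt h hQ hn (by omega) hE0, ?_⟩
  intro M hNM hMS
  by_cases hMN : M = Cfsg.Geo.subspaceStabilizer A ⊓ Cfsg.Geo.omegaGL (⇑Q)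
  · left; exact hMN
  right
  obtain ⟨h₀, hh₀M, hh₀N⟩ : ∃ h₀ ∈ M, h₀ ∉ Cfsg.Geo.subspaceStabilizer A := by
    by_contra hcon
    push Not at hcon
    exact hMN (le_antisymm (fun g hg => ⟨hcon g hg, hMS hg⟩) hNM)
  obtain ⟨g₀, -, rfl⟩ := exists_of_mem_omegaGL Q h₀ (hMS hh₀M)
  have hg₀ : ¬ ∀ x ∈ A, act Q g₀ x ∈ A := by
    intro hall
    apply hh₀N
    apply stab_of_le
    intro w hw
    rw [act_def]
    exact hall w hw
  obtain ⟨g, hgM, ⟨a, b, hfix⟩, hg⟩ :=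
    exists_fix_not_mem h hQ hn (by omega) hNM g₀ hh₀M hg₀ (hns g₀)
  obtain ⟨u, hu, hu0, hQu, y', huy', hy', hM⟩ :=
    exists_sg_mixed h hQ hn hfr hNM g hgM a b hfix hg
  have huC : u ∈ Cen Q M :=
    mem_Cen_of_mixed' h hQ hn (by omega) hNM hirr hu hu0 hQu huy' hy' hM
  obtain ⟨w, hw, hQw, huw⟩ := h.exists_partner hu hu0 hQu
  have hwu : P w u = 1 := by rw [P_comm]; exact huw
  obtain ⟨z, hz, hzu, hzw, hQz⟩ := h.exists_rep (by omega) hu hw hQu hQw huw 1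
  have hwz : P w z = 0 := hzw
  have hsgM : ((sg Q w z : ↥(Cfsg.isometryGroup F ⇑Q)) : GL (Fin n) F) ∈ M :=
    hNM (sg_mem_N hQ hn hw hz hQw hwz)
  have hu'C := Cen_act Q M huC (sg Q w z) hsgM
  have hu' : act Q (sg Q w z) u = u + z - Q z • w := by
    rw [sg_act Q w z hQw hwz, hwu, P_comm Q z u, hzu]
    simp
  have hpol : P (act Q (sg Q w z) u) u ≠ 0 := by
    rw [hu', QuadraticMap.polar_sub_left, QuadraticMap.polar_add_left,
      QuadraticMap.polar_smul_left, P_self, hQu, P_comm Q z u, hzu, hwu, hQz]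
    simp
  apply le_antisymm hMS
  apply omega_le_of_Cen Q M hQ hn
  intro x hx
  exact Cen_all Q M hQ huC hu'C hpol x hx

end Cfsg.Agent.Lib.H11.OmNd
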