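import Cfsg.Agent.Lib.H11.OmNd13

/-!
Characteristic two: the stabiliser in `Ω` of a nonsingular point is maximal.
-/

set_option autoImplicit false
set_option linter.unusedSimpArgs false
set_option linter.unusedSectionVars false
set_option linter.unusedVariables false

namespace Cfsg.Agent.Lib.H11.OmNs

open Matrix Module
open Cfsg.Agent.Lib.H28 Cfsg.Agent.Lib.H11.SubspMax
open Cfsg.Agent.Lib.H11.CD Cfsg.Agent.Lib.H11.SiegelGen Cfsg.Agent.Lib.H11.OrMax
open Cfsg.Agent.Lib.H11.OmTs Cfsg.Agent.Lib.H11.PairStab Cfsg.Agent.Lib.H11.OmNd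
open Cfsg.Agent.Lib.H11.SpPair

variable {F : Type*} [Field F] {n : ℕ} {Q : QuadraticForm F (Fin n → F)}

set_option quotPrecheck false in
local notation "P" => QuadraticMap.polar (⇑Q)

variable {v : Fin n → F} {M : Subgroup (GL (Fin n) F)}

/-- Siegel elements with both vectors orthogonal to `v` fix `v` -/
theorem sg_fix_v {u y : Fin n → F} (hQu : Q u = 0) (huy : P u y = 0) (huv : P u v = 0)
    (hyv : P y v = 0) : act Q (sg Q u y) v = v := by
  rw [sg_act Q u y hQu huy, huv, hyv]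
  simp

theorem sg_mem_N [Fintype F] (hQ : (QuadraticMap.polarBilin Q).Nondegenerate) (hn : 7 ≤ n)
    {u y : Fin n → F} (hQu : Q u = 0) (huy : P u y = 0) (huv : P u v = 0) (hyv : P y v = 0) :
    ((sg Q u y : ↥(Cfsg.isometryGroup F ⇑Q)) : GL (Fin n) F) ∈
      Cfsg.Geo.subspaceStabilizer (Submodule.span F {v}) ⊓ Cfsg.Geo.omegaGL (⇑Q) := by
  refine ⟨stab_of_le ?_, coe_mem_omegaGL Q _ (sg_mem_comm Q hQ hn u y hQu huy)⟩
  intro w hw
  obtain ⟨c, rfl⟩ := Submodule.mem_span_singleton.1 hw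
  rw [act_def, act_smul, sg_fix_v hQu huy huv hyv]
  exact Submodule.smul_mem _ _ (Submodule.mem_span_singleton_self v)

/-- in characteristic two an isometry stabilising a nonsingular point fixes the vector -/
theorem fix_of_stab (h2 : (2 : F) = 0) (hv : Q v ≠ 0) (g : ↥(Cfsg.isometryGroup F ⇑Q))
    (hg : (g : GL (Fin n) F) ∈ Cfsg.Geo.subspaceStabilizer (Submodule.span F {v})) :
    act Q g v = v := by
  have h1 := ((mem_subspaceStabilizer_iff _ _).1 hg v).1 (Submodule.mem_span_singleton_self v)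
  rw [act_def] at h1
  obtain ⟨c, hc⟩ := Submodule.mem_span_singleton.1 h1
  have h3 : Q (act Q g v) = Q v := Q_act Q g v
  rw [← hc, QuadraticMap.map_smul, smul_eq_mul] at h3
  have hcc : c * c = 1 := by
    have : (c * c - 1) * Q v = 0 := by linear_combination h3
    rcases mul_eq_zero.1 this with h | h
    · linear_combination h
    · exact absurd h hv
  have h4 : (c - 1) * (c - 1) = 0 := by linear_combination hcc + (1 - c) * h2
  have h5 : c = 1 := by
    rcases mul_eq_zero.1 h4 with h | h <;> linear_combination h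
  rw [← hc, h5, one_smul]

/-- not being in the span of a nonsingular vector -/
theorem not_mem_span_of_sing (hv : Q v ≠ 0) {u : Fin n → F} (hu0 : u ≠ 0) (hQu : Q u = 0) :
    u ∉ Submodule.span F {v} := by
  intro hmem
  obtain ⟨c, rfl⟩ := Submodule.mem_span_singleton.1 hmem
  rw [QuadraticMap.map_smul, smul_eq_mul] at hQu
  rcases mul_eq_zero.1 hQu with h | h
  · rcases mul_eq_zero.1 h with h | h <;> exact hu0 (by rw [h, zero_smul])
  · exact hv h

theorem finrank_ker3 (hn : 6 ≤ n) (a b c : Fin n → F) :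
    3 ≤ finrank F ↥(((⊤ : Submodule F (Fin n → F)) ⊓ LinearMap.ker (fr Q a)) ⊓
      LinearMap.ker (fr Q b) ⊓ LinearMap.ker (fr Q c)) := by
  have h1 := finrank_le_inf_ker_add_one (⊤ : Submodule F (Fin n → F)) (fr Q a)
  have h2 := finrank_le_inf_ker_add_one ((⊤ : Submodule F (Fin n → F)) ⊓ LinearMap.ker (fr Q a))
    (fr Q b)
  have h3 := finrank_le_inf_ker_add_one
    ((⊤ : Submodule F (Fin n → F)) ⊓ LinearMap.ker (fr Q a) ⊓ LinearMap.ker (fr Q b)) (fr Q c)
  have h4 : finrank F (⊤ : Submodule F (Fin n → F)) = n := by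
    rw [finrank_top, Module.finrank_fintype_fun_eq_card, Fintype.card_fin]
  omega

theorem ns_lt [Fintype F] (hQ : (QuadraticMap.polarBilin Q).Nondegenerate) (hn : 7 ≤ n)
    (hv : Q v ≠ 0) :
    Cfsg.Geo.subspaceStabilizer (Submodule.span F {v}) ⊓ Cfsg.Geo.omegaGL (⇑Q) <
      Cfsg.Geo.omegaGL (⇑Q) := by
  refine lt_of_le_of_ne inf_le_right ?_
  intro heq
  obtain ⟨u, hu, hu0, hQu⟩ := exists_sing_in (Q := Q) _ (finrank_ker3 (Q := Q) (by omega) v v v)
  have hvu : P v u = 0 := LinearMap.mem_ker.1 hu.2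
  have hnm : v ∉ Submodule.span F {u} := by
    intro hmem
    obtain ⟨c, rfl⟩ := Submodule.mem_span_singleton.1 hmem
    apply hv
    rw [QuadraticMap.map_smul, hQu, smul_zero]
  obtain ⟨φ, hφ0, hφ1⟩ := Submodule.exists_le_ker_of_notMem hnm
  obtain ⟨y, rfl⟩ := OrMax.exists_fr Q hQ φ
  have hyv : P y v ≠ 0 := hφ0
  have hyu : P y u = 0 := hφ1 (Submodule.mem_span_singleton_self u)
  have huy : P u y = 0 := by rw [P_comm]; exact hyu
  have huv : P u v = 0 := by rw [P_comm]; exact hvu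
  have hmem : ((sg Q u y : ↥(Cfsg.isometryGroup F ⇑Q)) : GL (Fin n) F) ∈
      Cfsg.Geo.subspaceStabilizer (Submodule.span F {v}) ⊓ Cfsg.Geo.omegaGL (⇑Q) := by
    rw [heq]
    exact coe_mem_omegaGL Q _ (sg_mem_comm Q hQ hn u y hQu huy)
  have h1 := ((mem_subspaceStabilizer_iff _ _).1 hmem.1 v).1 (Submodule.mem_span_singleton_self v)
  rw [act_def, sg_act Q u y hQu huy, huv] at h1
  have h2 : P y v • u ∈ Submodule.span F {v} := by
    have := Submodule.sub_mem _ (Submodule.mem_span_singleton_self v) h1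
    simpa using this
  have h3 : u ∈ Submodule.span F {v} := by
    have := Submodule.smul_mem _ (P y v)⁻¹ h2
    rwa [smul_smul, inv_mul_cancel₀ hyv, one_smul] at this
  exact not_mem_span_of_sing hv hu0 hQu h3

/-- the key step: a centre of a full root group in `M` -/
theorem exists_mem_Cen [Fintype F] (hQ : (QuadraticMap.polarBilin Q).Nondegenerate) (hn : 7 ≤ n)
    (h2 : (2 : F) = 0) (hv : Q v ≠ 0)
    (hNM : Cfsg.Geo.subspaceStabilizer (Submodule.span F {v}) ⊓ Cfsg.Geo.omegaGL (⇑Q) ≤ M)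
    (g₀ : ↥(Cfsg.isometryGroup F ⇑Q)) (hg₀M : (g₀ : GL (Fin n) F) ∈ M)
    (hg₀ : act Q g₀ v ∉ Submodule.span F {v}) :
    ∃ u₁, u₁ ≠ 0 ∧ P v u₁ = 0 ∧ u₁ ∈ Cen Q M := by
  obtain ⟨a, ha⟩ : ∃ a, a = act Q g₀⁻¹ v := ⟨_, rfl⟩
  have hga : act Q g₀ a = v := by rw [ha, Cfsg.Agent.Lib.H11.OmegaTrans.act_inv_act]
  have hPa : ∀ x, P v (act Q g₀ x) = P a x := by
    intro x
    rw [← hga, polar_act]
  have hQa : Q a = Q v := by rw [← hga, Q_act]
  have haL : a ∉ Submodule.span F {v} := by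
    intro hmem
    obtain ⟨c, hc⟩ := Submodule.mem_span_singleton.1 hmem
    have hc0 : c ≠ 0 := by
      rintro rfl
      rw [zero_smul] at hc
      apply hv
      rw [← hQa, ← hc, QuadraticMap.map_zero]
    apply hg₀
    have : act Q g₀ v = c⁻¹ • v := by
      have h1 : act Q g₀ (c • v) = v := by rw [hc]; exact hga
      rw [act_smul] at h1
      rw [eq_inv_smul_iff₀ hc0]; exact h1
    rw [this]
    exact Submodule.smul_mem _ _ (Submodule.mem_span_singleton_self v)
  have hav0 : a + v ≠ 0 := by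
    intro h
    apply haL
    have : a = (-1 : F) • v := by rw [neg_one_smul]; exact eq_neg_of_add_eq_zero_left h
    rw [this]
    exact Submodule.smul_mem _ _ (Submodule.mem_span_singleton_self v)
  obtain ⟨w, hw⟩ := exists_P_ne Q hQ (a + v) hav0
  obtain ⟨u, hu, hu0, hQu⟩ := exists_sing_in (Q := Q) _ (finrank_ker3 (Q := Q) (by omega) v a w)
  have hvu : P v u = 0 := LinearMap.mem_ker.1 hu.1.1.2
  have hau : P a u = 0 := LinearMap.mem_ker.1 hu.1.2
  have hwu : P w u = 0 := LinearMap.mem_ker.1 hu.2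
  have hvv : P v v = 0 := by rw [P_self, h2, zero_mul]
  have haa : P a a = 0 := by rw [P_self, h2, zero_mul]
  -- `a` is not in the span of `u` and `v`
  have hnm : a ∉ Submodule.span F {u, v} := by
    intro hmem
    rw [Submodule.mem_span_pair] at hmem
    obtain ⟨α, β, hαβ⟩ := hmem
    have hα : α ≠ 0 := by
      rintro rfl
      apply haL
      rw [← hαβ, zero_smul, zero_add]
      exact Submodule.smul_mem _ _ (Submodule.mem_span_singleton_self v)
    -- `u = α⁻¹ • (a - β • v)`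
    have hu' : u = α⁻¹ • a - (α⁻¹ * β) • v := by
      rw [← hαβ, smul_add, smul_smul, smul_smul, inv_mul_cancel₀ hα, one_smul, add_sub_cancel_right]
    have e1 : P v u = α⁻¹ * P v a := by
      rw [hu', QuadraticMap.polar_sub_right, QuadraticMap.polar_smul_right,
        QuadraticMap.polar_smul_right, hvv]
      simp
    have e2 : P a u = -(α⁻¹ * β) * P a v := by
      rw [hu', QuadraticMap.polar_sub_right, QuadraticMap.polar_smul_right,
        QuadraticMap.polar_smul_right, haa]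
      simp
    by_cases hav : P a v = 0
    · -- then `Q u = (α⁻¹ + α⁻¹ β)² Q v`
      have e3 : Q u = (α⁻¹ * α⁻¹ + (α⁻¹ * β) * (α⁻¹ * β)) * Q v := by
        rw [hu', Q_sub', QuadraticMap.map_smul, QuadraticMap.map_smul,
          QuadraticMap.polar_smul_left, QuadraticMap.polar_smul_right, hav, hQa]
        simp only [smul_eq_mul]
        ring
      rw [hQu] at e3
      have e4 : α⁻¹ * α⁻¹ + (α⁻¹ * β) * (α⁻¹ * β) = 0 :=
        (mul_eq_zero.1 e3.symm).resolve_right hv
      have e5 : (α⁻¹ - α⁻¹ * β) * (α⁻¹ - α⁻¹ * β) = 0 := by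
        linear_combination e4 - (α⁻¹ * (α⁻¹ * β)) * h2
      have e6 : α⁻¹ = α⁻¹ * β := by
        rcases mul_eq_zero.1 e5 with h | h <;> linear_combination h
      have e7 : u = α⁻¹ • (a + v) := by
        rw [hu', ← e6, smul_add]
        have : -(α⁻¹ • v) = α⁻¹ • v := by
          have : (2 : F) • (α⁻¹ • v) = 0 := by rw [h2, zero_smul]
          rw [two_smul] at this
          exact neg_eq_of_add_eq_zero_left this
        rw [sub_eq_add_neg, this]
      apply hw
      have : P w (α⁻¹ • (a + v)) = 0 := by rw [← e7]; exact hwu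
      rw [QuadraticMap.polar_smul_right, smul_eq_mul] at this
      rw [P_comm]
      exact (mul_eq_zero.1 this).resolve_left (inv_ne_zero hα)
    · rw [hvu] at e1
      have : P v a = 0 := (mul_eq_zero.1 e1.symm).resolve_left (inv_ne_zero hα)
      rw [P_comm] at this
      exact hav this
  obtain ⟨φ, hφ0, hφ1⟩ := Submodule.exists_le_ker_of_notMem hnm
  obtain ⟨y₀, rfl⟩ := OrMax.exists_fr Q hQ φ
  have hy₀a : P y₀ a ≠ 0 := hφ0
  have hy₀u : P y₀ u = 0 := hφ1 (Submodule.subset_span (by simp))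
  have hy₀v : P y₀ v = 0 := hφ1 (Submodule.subset_span (by simp))
  -- the centre
  have huv : P u v = 0 := by rw [P_comm]; exact hvu
  refine ⟨act Q g₀ u, ?_, ?_, ?_, ?_⟩
  · intro h
    apply hu0
    have := congrArg (act Q g₀⁻¹) h
    rw [Cfsg.Agent.Lib.H11.OmegaTrans.act_act_inv] at this
    rw [this]
    exact Matrix.mulVec_zero _
  · rw [hPa]; exact hau
  · rw [Q_act]; exact hQu
  · intro z hz
    -- choose `y` in `u^⊥ ∩ v^⊥` with `P a y = P v z`
    obtain ⟨y, hy⟩ : ∃ y, y = ((P y₀ a)⁻¹ * P v z) • y₀ := ⟨_, rfl⟩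
    have hyu : P u y = 0 := by
      rw [hy, QuadraticMap.polar_smul_right, P_comm Q u y₀, hy₀u, smul_zero]
    have hyv : P y v = 0 := by rw [hy, QuadraticMap.polar_smul_left, hy₀v, smul_zero]
    have hya : P a y = P v z := by
      rw [hy, QuadraticMap.polar_smul_right, P_comm Q a y₀, smul_eq_mul, mul_comm, ← mul_assoc,
        mul_inv_cancel₀ hy₀a, one_mul]
    have m1 : ((sg Q (act Q g₀ u) (act Q g₀ y) : ↥(Cfsg.isometryGroup F ⇑Q)) :
        GL (Fin n) F) ∈ M :=
      sg_conj_mem g₀ hg₀M hQu hyu (hNM (sg_mem_N hQ hn hQu hyu huv hyv))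
    -- the difference is orthogonal to `v`
    have hQu₁ : Q (act Q g₀ u) = 0 := by rw [Q_act]; exact hQu
    have hu₁y : P (act Q g₀ u) (act Q g₀ y) = 0 := by rw [polar_act]; exact hyu
    have hd1 : P (act Q g₀ u) (z - act Q g₀ y) = 0 := by
      rw [QuadraticMap.polar_sub_right, hz, hu₁y, sub_zero]
    have hd2 : P (z - act Q g₀ y) v = 0 := by
      rw [QuadraticMap.polar_sub_left, P_comm Q z v, P_comm Q _ v, hPa, hya, sub_self]
    have hu₁v : P (act Q g₀ u) v = 0 := by rw [P_comm, hPa]; exact hau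
    have m2 := hNM (sg_mem_N hQ hn hQu₁ hd1 hu₁v hd2)
    have e : sg Q (act Q g₀ u) z =
        sg Q (act Q g₀ u) (act Q g₀ y) * sg Q (act Q g₀ u) (z - act Q g₀ y) := by
      rw [sg_mul Q _ _ _ hQu₁ hu₁y hd1]
      congr 1
      abel
    rw [e]
    exact M.mul_mem m1 m2

/-- characteristic two: the stabiliser in `Ω` of a nonsingular point is maximal -/
theorem ns_maximal [Fintype F] (hQ : (QuadraticMap.polarBilin Q).Nondegenerate) (hn : 7 ≤ n)
    (h2 : (2 : F) = 0) (hv : Q v ≠ 0) :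
    Cfsg.Geo.IsMaximalIn (Cfsg.Geo.omegaGL (⇑Q))
      (Cfsg.Geo.subspaceStabilizer (Submodule.span F {v}) ⊓ Cfsg.Geo.omegaGL (⇑Q)) := by
  refine ⟨ns_lt hQ hn hv, ?_⟩
  intro M hNM hMS
  by_cases hMN : M = Cfsg.Geo.subspaceStabilizer (Submodule.span F {v}) ⊓ Cfsg.Geo.omegaGL (⇑Q)
  · left; exact hMN
  right
  obtain ⟨h₀, hh₀M, hh₀N⟩ : ∃ h₀ ∈ M,
      h₀ ∉ Cfsg.Geo.subspaceStabilizer (Submodule.span F {v}) := by
    by_contra hcon
    push Not at hcon
    exact hMN (le_antisymm (fun g hg => ⟨hcon g hg, hMS hg⟩) hNM)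
  obtain ⟨g₀, -, rfl⟩ := exists_of_mem_omegaGL Q h₀ (hMS hh₀M)
  have hg₀ : act Q g₀ v ∉ Submodule.span F {v} := by
    intro hmem
    apply hh₀N
    apply stab_of_le
    intro w hw
    obtain ⟨c, rfl⟩ := Submodule.mem_span_singleton.1 hw
    rw [act_def, act_smul]
    exact Submodule.smul_mem _ _ hmem
  obtain ⟨u₁, hu₁0, hvu₁, hu₁C⟩ := exists_mem_Cen hQ hn h2 hv hNM g₀ hh₀M hg₀
  have hnm : u₁ ∉ Submodule.span F {v} := not_mem_span_of_sing hv hu₁0 hu₁C.1
  obtain ⟨φ, hφ0, hφ1⟩ := Submodule.exists_le_ker_of_notMem hnm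
  obtain ⟨f, rfl⟩ := OrMax.exists_fr Q hQ φ
  have hfu : P f u₁ ≠ 0 := hφ0
  have hfv : P f v = 0 := hφ1 (Submodule.mem_span_singleton_self v)
  obtain ⟨u₃, hu₃⟩ : ∃ u₃, u₃ = f - (Q f * (P f u₁)⁻¹) • u₁ := ⟨_, rfl⟩
  have hQu₁ : Q u₁ = 0 := hu₁C.1
  have hu₁v : P u₁ v = 0 := by rw [P_comm]; exact hvu₁
  have hQu₃ : Q u₃ = 0 := by
    rw [hu₃, Q_sub', QuadraticMap.map_smul, hQu₁, QuadraticMap.polar_smul_right, smul_eq_mul,
      smul_eq_mul, mul_zero, add_zero, mul_assoc, inv_mul_cancel₀ hfu, mul_one, sub_self]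
  have hu₃u₁ : P u₃ u₁ = P f u₁ := by
    rw [hu₃, QuadraticMap.polar_sub_left, QuadraticMap.polar_smul_left, P_self, hQu₁]
    simp
  have hu₃v : P u₃ v = 0 := by
    rw [hu₃, QuadraticMap.polar_sub_left, QuadraticMap.polar_smul_left, hfv, hu₁v]
    simp
  have hvv : P v v = 0 := by rw [P_self, h2, zero_mul]
  have m := hNM (sg_mem_N hQ hn hQu₃ hu₃v hu₃v hvv)
  have hC2 := Cen_act Q M hu₁C (sg Q u₃ v) m
  have hne : P (act Q (sg Q u₃ v) u₁) u₁ ≠ 0 := by
    rw [sg_act Q u₃ v hQu₃ hu₃v, hvu₁, hu₃u₁]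
    simp only [zero_smul, sub_zero, QuadraticMap.polar_sub_left, QuadraticMap.polar_add_left,
      QuadraticMap.polar_smul_left, smul_eq_mul, P_self, hQu₁, mul_zero, zero_add, hvu₁, hu₃u₁]
    intro h
    have h3 : Q v * P f u₁ * P f u₁ = 0 := by linear_combination -h
    rcases mul_eq_zero.1 h3 with h4 | h4
    · rcases mul_eq_zero.1 h4 with h5 | h5
      · exact hv h5
      · exact hfu h5
    · exact hfu h4
  have hall := Cen_all Q M hQ hu₁C hC2 hne
  exact le_antisymm hMS (omega_le_of_Cen Q M hQ hn (fun z hz => hall z hz))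

end Cfsg.Agent.Lib.H11.OmNs
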