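import Cfsg.Agent.Lib.H11.OmPair9

set_option autoImplicit false
set_option linter.unusedSimpArgs false
set_option linter.unusedSectionVars false
set_option linter.unusedVariables false

namespace Cfsg.Agent.Lib.H11.OmPair

open Matrix Module
open Cfsg.Agent.Lib.H28 Cfsg.Agent.Lib.H11.SubspMax
open Cfsg.Agent.Lib.H11.CD Cfsg.Agent.Lib.H11.SiegelGen Cfsg.Agent.Lib.H11.OrMax
open Cfsg.Agent.Lib.H11.OmTs Cfsg.Agent.Lib.H11.PairStab Cfsg.Agent.Lib.H11.SpPair

variable {F : Type*} [Field F] {n : ℕ} {Q : QuadraticForm F (Fin n → F)}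

/-- the stabiliser in `Ω` of a pair of complementary maximal totally singular subspaces of even
dimension is maximal -/
theorem ts_pair_maximal [Fintype F] (hQ : (QuadraticMap.polarBilin Q).Nondegenerate)
    (hn : 13 ≤ n) {k : ℕ} (hnk : n = 2 * k) (hke : Even k)
    (D : Fin 2 → Submodule F (Fin n → F)) (hD : Cfsg.Geo.IsMDecomposition k D)
    (hts : ∀ i, ∀ w ∈ D i, Q w = 0) :
    Cfsg.Geo.IsMaximalIn (Cfsg.Geo.omegaGL (⇑Q))
      (Cfsg.Geo.decompositionStabilizer D ⊓ Cfsg.Geo.omegaGL (⇑Q)) := by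
  have hP : QPair Q (D 0) (D 1) k := qpair_of_decomp hD hts
  obtain ⟨s, hs, hs1, hs2⟩ := exists_swap hP hQ (by omega) hke
  refine pair_maximal_of_swap hP hQ (by omega) (by omega) s ⟨?_, coe_mem_omegaGL Q s hs⟩ hs1 hs2
  refine mem_stab_of_swap2 (by rw [hP.fr₁, hP.fr₂]) _ ?_ ?_
  · intro x hx
    rw [act_def]
    exact hs1 x hx
  · intro x hx
    rw [act_def]
    exact hs2 x hx

end Cfsg.Agent.Lib.H11.OmPair
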