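import Cfsg.Agent.Lib.H11.OmPar4

set_option autoImplicit false
set_option linter.unusedSimpArgs false
set_option linter.unusedSectionVars false
set_option linter.unusedVariables false

namespace Cfsg.Agent.Lib.H11.OmPar

open Matrix Module
open Cfsg.Agent.Lib.H28 Cfsg.Agent.Lib.H11.SubspMax
open Cfsg.Agent.Lib.H11.CD Cfsg.Agent.Lib.H11.SiegelGen Cfsg.Agent.Lib.H11.OrMax
open Cfsg.Agent.Lib.H11.OmTs Cfsg.Agent.Lib.H13

variable {F : Type*} [Field F] {n : ℕ} (Q : QuadraticForm F (Fin n → F))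

set_option quotPrecheck false in
local notation "P" => QuadraticMap.polar (⇑Q)

/-- `Ω⁺`, `n/2` odd: the stabiliser of a pair of complementary maximal totally singular
subspaces is not maximal (it fixes both) -/
theorem ts_pair_not_maximal [Fintype F] (hQ : (QuadraticMap.polarBilin Q).Nondegenerate)
    (hn : 13 ≤ n) {k : ℕ} (hnk : n = 2 * k) (hko : Odd k)
    (D : Fin 2 → Submodule F (Fin n → F)) (hD : Cfsg.Geo.IsMDecomposition k D)
    (hts : ∀ i, ∀ w ∈ D i, Q w = 0) :
    ∃ K : Subgroup (GL (Fin n) F),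
      Cfsg.Geo.decompositionStabilizer D ⊓ Cfsg.Geo.omegaGL (⇑Q) < K ∧
        K < Cfsg.Geo.omegaGL (⇑Q) := by
  have hdisj : D 0 ⊓ D 1 = ⊥ := by
    have := hD.indep.pairwiseDisjoint (show (0 : Fin 2) ≠ 1 by decide)
    exact disjoint_iff.1 this
  have hD0 : D 0 ≠ ⊥ := by
    intro h
    have := hD.finrank_eq 0
    rw [h, finrank_bot] at this
    omega
  have hfin : ∀ i : Fin 2, i = 0 ∨ i = 1 := by decide
  refine ⟨Cfsg.Geo.subspaceStabilizer (D 0) ⊓ Cfsg.Geo.omegaGL (⇑Q), lt_of_le_of_ne ?_ ?_,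
    ts_lt Q hQ (by omega) (D 0) hD0 (hts 0)⟩
  · rintro h ⟨hhD, hΩ⟩
    refine ⟨?_, hΩ⟩
    obtain ⟨σ, hσ⟩ := hhD
    by_cases hσ0 : σ 0 = 0
    · apply stab_of_le
      intro w hw
      have h1 : (h : Matrix (Fin n) (Fin n) F) *ᵥ w ∈
          (D 0).map (Matrix.toLin' (h : Matrix (Fin n) (Fin n) F)) :=
        ⟨w, hw, by rw [Matrix.toLin'_apply]⟩
      rw [hσ 0, hσ0] at h1
      exact h1
    · exfalso
      have hσ1 : σ 0 = 1 := (hfin (σ 0)).resolve_left hσ0
      obtain ⟨g, hg, rfl⟩ := exists_of_mem_omegaGL Q h hΩ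
      have hpar := even_of_mem_omega Q hQ hnk (by omega) (D 0) (hts 0) (hD.finrank_eq 0) g hg
      have h0 := hσ 0
      rw [Matrix.toLin'_apply', hσ1] at h0
      rw [h0, hdisj, finrank_bot, Nat.sub_zero] at hpar
      exact (Nat.not_even_iff_odd.2 hko) hpar
  · intro heq
    obtain ⟨u, huD, hu0⟩ := Submodule.exists_mem_ne_zero_of_ne_bot hD0
    obtain ⟨y, hyD, hyu⟩ : ∃ y ∈ D 0, y ∉ Submodule.span F {u} := by
      by_contra hcon
      push Not at hcon
      have h1 : D 0 ≤ Submodule.span F {u} := hcon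
      have h2 := Submodule.finrank_mono h1
      have h3 := finrank_span_singleton (K := F) hu0
      have := hD.finrank_eq 0
      omega
    have hQu : Q u = 0 := hts 0 u huD
    have hQy : Q y = 0 := hts 0 y hyD
    have huy : P u y = 0 := P_eq_zero_of_ts Q (hts 0) huD hyD
    -- a vector of `D 1` not orthogonal to `u`
    obtain ⟨x, hxD, hux⟩ : ∃ x ∈ D 1, P u x ≠ 0 := by
      by_contra hcon
      push Not at hcon
      have hle : ∀ i, D i ≤ LinearMap.ker (fr Q u) := by
        intro i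
        rcases hfin i with rfl | rfl
        · intro t ht
          rw [LinearMap.mem_ker, fr_apply]
          exact P_eq_zero_of_ts Q (hts 0) huD ht
        · intro t ht
          rw [LinearMap.mem_ker, fr_apply]
          exact hcon t ht
      have htop : (⊤ : Submodule F (Fin n → F)) ≤ LinearMap.ker (fr Q u) := by
        rw [← hD.iSup_eq_top]
        exact iSup_le hle
      apply hu0
      apply hQ.1 u
      intro z
      have := htop (Submodule.mem_top (x := z))
      rw [LinearMap.mem_ker, fr_apply] at this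
      rw [QuadraticMap.polarBilin_apply_apply]
      exact this
    have hmem : ((sg Q u y : ↥(Cfsg.isometryGroup F ⇑Q)) : GL (Fin n) F) ∈
        Cfsg.Geo.subspaceStabilizer (D 0) ⊓ Cfsg.Geo.omegaGL (⇑Q) := by
      refine ⟨?_, coe_mem_omegaGL Q _ (sg_mem_comm Q hQ (by omega) u y hQu huy)⟩
      apply stab_of_le
      intro t ht
      rw [act_def, sg_act Q u y hQu huy, P_eq_zero_of_ts Q (hts 0) huD ht,
        P_eq_zero_of_ts Q (hts 0) hyD ht]
      simp only [zero_smul, mul_zero, add_zero, sub_zero]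
      exact ht
    rw [← heq] at hmem
    obtain ⟨σ, hσ⟩ := hmem.1
    have hfix : ((sg Q u y : ↥(Cfsg.isometryGroup F ⇑Q)) : GL (Fin n) F).1 *ᵥ u = u := by
      rw [act_def, sg_act Q u y hQu huy, P_self, hQu, P_comm Q y u, huy]
      simp
    have hσ1 : σ 1 = 1 := by
      rcases hfin (σ 1) with h1 | h1
      · exfalso
        have h0 : σ 0 = 1 := by
          rcases hfin (σ 0) with h0 | h0
          · exfalso
            have := σ.injective (h0.trans h1.symm)
            exact absurd this (by decide)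
          · exact h0
        have h2 : u ∈ (D 0).map (Matrix.toLin'
            (((sg Q u y : ↥(Cfsg.isometryGroup F ⇑Q)) : GL (Fin n) F) :
              Matrix (Fin n) (Fin n) F)) := ⟨u, huD, by rw [Matrix.toLin'_apply]; exact hfix⟩
        rw [hσ 0, h0] at h2
        have h3 : u ∈ D 0 ⊓ D 1 := ⟨huD, h2⟩
        rw [hdisj, Submodule.mem_bot] at h3
        exact hu0 h3
      · exact h1
    have h2 : ((sg Q u y : ↥(Cfsg.isometryGroup F ⇑Q)) : GL (Fin n) F).1 *ᵥ x ∈ (D 1).map
        (Matrix.toLin' (((sg Q u y : ↥(Cfsg.isometryGroup F ⇑Q)) : GL (Fin n) F) :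
          Matrix (Fin n) (Fin n) F)) := ⟨x, hxD, by rw [Matrix.toLin'_apply]⟩
    rw [hσ 1, hσ1, act_def, sg_act Q u y hQu huy, hQy] at h2
    simp only [zero_mul, zero_smul, sub_zero] at h2
    have h3 : P u x • y - P y x • u ∈ D 1 := by
      have := (D 1).sub_mem h2 hxD
      have e : x + P u x • y - P y x • u - x = P u x • y - P y x • u := by abel
      rwa [e] at this
    have h4 : P u x • y - P y x • u ∈ D 0 ⊓ D 1 :=
      ⟨(D 0).sub_mem ((D 0).smul_mem _ hyD) ((D 0).smul_mem _ huD), h3⟩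
    rw [hdisj, Submodule.mem_bot, sub_eq_zero] at h4
    apply hyu
    have : y = (P u x)⁻¹ • (P y x • u) := by
      rw [← h4, smul_smul, inv_mul_cancel₀ hux, one_smul]
    rw [this]
    exact Submodule.smul_mem _ _ (Submodule.smul_mem _ _ (Submodule.mem_span_singleton_self u))

end Cfsg.Agent.Lib.H11.OmPar
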