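import Cfsg.Agent.Lib.H11.PairStab
import Cfsg.Agent.Lib.H11.OmPar5

set_option autoImplicit false
set_option linter.unusedSimpArgs false
set_option linter.unusedSectionVars false
set_option linter.unusedVariables false

namespace Cfsg.Agent.Lib.H11.OmPair

open Matrix Module
open Cfsg.Agent.Lib.H28 Cfsg.Agent.Lib.H11.SubspMax
open Cfsg.Agent.Lib.H11.CD Cfsg.Agent.Lib.H11.SiegelGen Cfsg.Agent.Lib.H11.OrMax
open Cfsg.Agent.Lib.H11.OmTs Cfsg.Agent.Lib.H11.PairStab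

variable {F : Type*} [Field F] {n : ℕ} (Q : QuadraticForm F (Fin n → F))

set_option quotPrecheck false in
local notation "P" => QuadraticMap.polar (⇑Q)

/-- a pair of complementary totally singular subspaces of dimension `k` -/
structure QPair (U₁ U₂ : Submodule F (Fin n → F)) (k : ℕ) : Prop where
  ts₁ : ∀ u ∈ U₁, Q u = 0
  ts₂ : ∀ u ∈ U₂, Q u = 0
  disj : U₁ ⊓ U₂ = ⊥
  span : ∀ x : Fin n → F, ∃ x₁ ∈ U₁, ∃ x₂ ∈ U₂, x = x₁ + x₂
  fr₁ : finrank F U₁ = k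
  fr₂ : finrank F U₂ = k

variable {Q} {U₁ U₂ : Submodule F (Fin n → F)} {k : ℕ}

theorem QPair.symm (h : QPair Q U₁ U₂ k) : QPair Q U₂ U₁ k where
  ts₁ := h.ts₂
  ts₂ := h.ts₁
  disj := by rw [inf_comm]; exact h.disj
  span := fun x => by
    obtain ⟨x₁, h₁, x₂, h₂, hx⟩ := h.span x
    exact ⟨x₂, h₂, x₁, h₁, by rw [hx, add_comm]⟩
  fr₁ := h.fr₂
  fr₂ := h.fr₁

theorem QPair.iso₁ (h : QPair Q U₁ U₂ k) {u v : Fin n → F} (hu : u ∈ U₁) (hv : v ∈ U₁) :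
    P u v = 0 := P_eq_zero_of_ts Q h.ts₁ hu hv

theorem QPair.iso₂ (h : QPair Q U₁ U₂ k) {u v : Fin n → F} (hu : u ∈ U₂) (hv : v ∈ U₂) :
    P u v = 0 := P_eq_zero_of_ts Q h.ts₂ hu hv

theorem QPair.exists_ne (h : QPair Q U₁ U₂ k) (hQ : (QuadraticMap.polarBilin Q).Nondegenerate)
    {x : Fin n → F} (hx : x ∈ U₁) (hx0 : x ≠ 0) : ∃ y ∈ U₂, P x y ≠ 0 := by
  obtain ⟨y₀, hy₀⟩ : ∃ y₀, P x y₀ ≠ 0 := by
    by_contra hcon
    push Not at hcon
    apply hx0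
    apply hQ.1 x
    intro z
    rw [QuadraticMap.polarBilin_apply_apply]
    exact hcon z
  obtain ⟨y₁, h₁, y₂, h₂, rfl⟩ := h.span y₀
  rw [QuadraticMap.polar_add_right, h.iso₁ hx h₁, zero_add] at hy₀
  exact ⟨y₂, h₂, hy₀⟩

/-- `U₂` is the dual of `U₁` -/
theorem QPair.exists_dual (h : QPair Q U₁ U₂ k) (hQ : (QuadraticMap.polarBilin Q).Nondegenerate)
    (φ : Dual F (Fin n → F)) : ∃ y ∈ U₂, ∀ x ∈ U₁, P x y = φ x := by
  let ψ : U₂ →ₗ[F] Dual F U₁ :=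
    (Submodule.dualRestrict U₁) ∘ₗ ((QuadraticMap.polarBilin Q).flip) ∘ₗ U₂.subtype
  have hψ : ∀ (y : U₂) (x : U₁), ψ y x = P (x : Fin n → F) (y : Fin n → F) := by
    intro y x
    show (Submodule.dualRestrict U₁) (((QuadraticMap.polarBilin Q).flip) (y : Fin n → F)) x = _
    rw [Submodule.dualRestrict_apply]
    show (QuadraticMap.polarBilin Q) (x : Fin n → F) (y : Fin n → F) = _
    rw [QuadraticMap.polarBilin_apply_apply]
  have hinj : Function.Injective ψ := by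
    rw [injective_iff_map_eq_zero]
    intro y hy
    by_contra hy0
    have hy0' : (y : Fin n → F) ≠ 0 := fun h0 => hy0 (Subtype.ext h0)
    obtain ⟨x, hx, hxy⟩ := h.symm.exists_ne hQ y.2 hy0'
    apply hxy
    have := hψ y ⟨x, hx⟩
    rw [hy, LinearMap.zero_apply] at this
    rw [P_comm, ← this]
  have hfr : finrank F U₂ = finrank F (Dual F U₁) := by
    rw [Subspace.dual_finrank_eq, h.fr₁, h.fr₂]
  have hsurj : Function.Surjective ψ :=
    (LinearMap.injective_iff_surjective_of_finrank_eq_finrank hfr).1 hinj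
  obtain ⟨y, hy⟩ := hsurj (Submodule.dualRestrict U₁ φ)
  refine ⟨y, y.2, fun x hx => ?_⟩
  have := hψ y ⟨x, hx⟩
  rw [hy, Submodule.dualRestrict_apply] at this
  exact this.symm

/-- separate a vector of `U₁` from a subspace by a vector of `U₂` -/
theorem QPair.exists_sep (h : QPair Q U₁ U₂ k) (hQ : (QuadraticMap.polarBilin Q).Nondegenerate)
    (S : Submodule F (Fin n → F)) {v : Fin n → F} (hv : v ∈ U₁) (hvS : v ∉ S) :
    ∃ y ∈ U₂, (∀ x ∈ U₁, x ∈ S → P x y = 0) ∧ P v y = 1 := by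
  obtain ⟨f, hfv, hfS⟩ := Submodule.exists_le_ker_of_notMem hvS
  obtain ⟨y, hy, hyx⟩ := h.exists_dual hQ ((f v)⁻¹ • f)
  refine ⟨y, hy, ?_, ?_⟩
  · intro x hx hxS
    have : f x = 0 := hfS hxS
    rw [hyx x hx, LinearMap.smul_apply, this, smul_zero]
  · rw [hyx v hv, LinearMap.smul_apply, smul_eq_mul, inv_mul_cancel₀ hfv]

theorem qpair_of_decomp {D : Fin 2 → Submodule F (Fin n → F)}
    (hD : Cfsg.Geo.IsMDecomposition k D) (hts : ∀ i, ∀ w ∈ D i, Q w = 0) :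
    QPair Q (D 0) (D 1) k where
  ts₁ := hts 0
  ts₂ := hts 1
  disj := inf_eq_bot_of_decomp hD
  span := by
    intro x
    have hx : x ∈ D 0 ⊔ D 1 := by rw [sup_eq_top_of_decomp hD]; exact Submodule.mem_top
    obtain ⟨x₁, h₁, x₂, h₂, hx⟩ := Submodule.mem_sup.1 hx
    exact ⟨x₁, h₁, x₂, h₂, hx.symm⟩
  fr₁ := hD.finrank_eq 0
  fr₂ := hD.finrank_eq 1

end Cfsg.Agent.Lib.H11.OmPair
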