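import Cfsg.Agent.Lib.H11.OmPair2

set_option autoImplicit false
set_option linter.unusedSimpArgs false
set_option linter.unusedSectionVars false
set_option linter.unusedVariables false

namespace Cfsg.Agent.Lib.H11.OmPair

open Matrix Module
open Cfsg.Agent.Lib.H28 Cfsg.Agent.Lib.H11.SubspMax
open Cfsg.Agent.Lib.H11.CD Cfsg.Agent.Lib.H11.SiegelGen Cfsg.Agent.Lib.H11.OrMax
open Cfsg.Agent.Lib.H11.OmTs Cfsg.Agent.Lib.H11.PairStab Cfsg.Agent.Lib.H11.SpPair

variable {F : Type*} [Field F] {n : ℕ} {Q : QuadraticForm F (Fin n → F)}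

set_option quotPrecheck false in
local notation "P" => QuadraticMap.polar (⇑Q)

variable {U₁ U₂ : Submodule F (Fin n → F)} {k : ℕ}

theorem not_mem_span_symm' {u v : Fin n → F} (hv0 : v ≠ 0)
    (h : u ∉ Submodule.span F {v}) : v ∉ Submodule.span F {u} := by
  intro hmem
  obtain ⟨a, ha⟩ := Submodule.mem_span_singleton.1 hmem
  have ha0 : a ≠ 0 := by
    rintro rfl
    rw [zero_smul] at ha
    exact hv0 ha.symm
  apply h
  rw [Submodule.mem_span_singleton]
  exact ⟨a⁻¹, by rw [← ha, smul_smul, inv_mul_cancel₀ ha0, one_smul]⟩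

/-- action of a Levi root element on `U₁` -/
theorem sg_act_left (hP : QPair Q U₁ U₂ k) {a y x : Fin n → F} (ha : a ∈ U₁) (hy : y ∈ U₂)
    (hay : P a y = 0) (hx : x ∈ U₁) : act Q (sg Q a y) x = x - P y x • a := by
  rw [sg_act Q a y (hP.ts₁ a ha) hay, hP.iso₁ ha hx]
  simp

/-- action of a Levi root element on `U₂` -/
theorem sg_act_right (hP : QPair Q U₁ U₂ k) {a y x : Fin n → F} (ha : a ∈ U₁) (hy : y ∈ U₂)
    (hay : P a y = 0) (hx : x ∈ U₂) : act Q (sg Q a y) x = x + P a x • y := by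
  rw [sg_act Q a y (hP.ts₁ a ha) hay, hP.iso₂ hy hx, hP.ts₂ y hy]
  simp

/-- a subspace of dimension `k` invariant under the Levi root elements is `U₁` or `U₂` -/
theorem eq_of_invariant (hP : QPair Q U₁ U₂ k) (hQ : (QuadraticMap.polarBilin Q).Nondegenerate)
    (hk : 3 ≤ k) (T : Submodule F (Fin n → F)) (hT : finrank F T = k)
    (hinv : ∀ a ∈ U₁, ∀ y ∈ U₂, P a y = 0 → ∀ t ∈ T, act Q (sg Q a y) t ∈ T) :
    T = U₁ ∨ T = U₂ := by
  by_cases hTU : T ≤ U₂
  · right
    exact Submodule.eq_of_le_of_finrank_eq hTU (by rw [hT, hP.fr₂])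
  left
  obtain ⟨t, htT, htU⟩ := Set.not_subset.mp hTU
  obtain ⟨t₁, ht₁, t₂, ht₂, rfl⟩ := hP.span t
  have ht₁0 : t₁ ≠ 0 := by
    rintro rfl
    rw [zero_add] at htU
    exact htU ht₂
  obtain ⟨y, hy, hty⟩ := hP.exists_ne hQ ht₁ ht₁0
  obtain ⟨a₀, ha₀, hk', ha₀S⟩ := exists_mem_kers_not_mem (F := F) [fr Q y, fr Q t₂] U₁ ⊥ (by
    rw [finrank_bot, hP.fr₁]
    simp only [List.length_cons, List.length_nil]
    omega)
  have hya₀ : P y a₀ = 0 := by
    have := hk' (fr Q y) (by simp)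
    rwa [fr_apply] at this
  have ht₂a₀ : P t₂ a₀ = 0 := by
    have := hk' (fr Q t₂) (by simp)
    rwa [fr_apply] at this
  have ha₀0 : a₀ ≠ 0 := fun h => ha₀S (by rw [h]; exact Submodule.zero_mem _)
  have ha₀y : P a₀ y = 0 := by rw [P_comm]; exact hya₀
  have ha₀T : a₀ ∈ T := by
    have h1 := hinv a₀ ha₀ y hy ha₀y _ htT
    rw [sg_act Q a₀ y (hP.ts₁ a₀ ha₀) ha₀y, hP.ts₂ y hy, QuadraticMap.polar_add_right,
      QuadraticMap.polar_add_right, hP.iso₁ ha₀ ht₁, P_comm Q a₀ t₂, ht₂a₀, hP.iso₂ hy ht₂] at h1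
    simp only [zero_add, add_zero, zero_smul, zero_mul, sub_zero] at h1
    have h3 : P y t₁ • a₀ ∈ T := by
      have := T.sub_mem htT h1
      rwa [sub_sub_cancel] at this
    have hne : P y t₁ ≠ 0 := by rw [P_comm]; exact hty
    have := T.smul_mem (P y t₁)⁻¹ h3
    rwa [smul_smul, inv_mul_cancel₀ hne, one_smul] at this
  have hle : U₁ ≤ T := by
    intro a ha
    by_cases haS : a ∈ Submodule.span F {a₀}
    · obtain ⟨c, rfl⟩ := Submodule.mem_span_singleton.1 haS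
      exact T.smul_mem c ha₀T
    · have h1 : a₀ ∉ Submodule.span F {a} := not_mem_span_symm' ha₀0 haS
      obtain ⟨y', hy', hay', ha₀y'⟩ := hP.exists_sep hQ (Submodule.span F {a}) ha₀ h1
      have hay'0 : P a y' = 0 := hay' a ha (Submodule.mem_span_singleton_self a)
      have h3 := hinv a ha y' hy' hay'0 a₀ ha₀T
      rw [sg_act_left hP ha hy' hay'0 ha₀, P_comm Q y' a₀, ha₀y', one_smul] at h3
      have := T.sub_mem ha₀T h3
      rwa [sub_sub_cancel] at this
  exact (Submodule.eq_of_le_of_finrank_eq hle (by rw [hT, hP.fr₁])).symm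

/-- a root element fixes a non-zero vector of `U₁`, so it cannot map `U₁` into `U₂` -/
theorem sg_not_swap (hP : QPair Q U₁ U₂ k) (hk : 3 ≤ k) (a y : Fin n → F) (ha : Q a = 0)
    (hay : P a y = 0) : ¬ ∀ x ∈ U₁, act Q (sg Q a y) x ∈ U₂ := by
  intro h1
  obtain ⟨x, hx, hk', hxS⟩ := exists_mem_kers_not_mem (F := F) [fr Q a, fr Q y] U₁ ⊥ (by
    rw [finrank_bot, hP.fr₁]
    simp only [List.length_cons, List.length_nil]
    omega)
  have hax : P a x = 0 := by
    have := hk' (fr Q a) (by simp)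
    rwa [fr_apply] at this
  have hyx : P y x = 0 := by
    have := hk' (fr Q y) (by simp)
    rwa [fr_apply] at this
  have h3 := h1 x hx
  rw [sg_act Q a y ha hay, hax, hyx] at h3
  simp only [zero_smul, mul_zero, add_zero, sub_zero] at h3
  have h5 : x ∈ U₁ ⊓ U₂ := ⟨hx, h3⟩
  rw [hP.disj, Submodule.mem_bot] at h5
  exact hxS (by rw [h5]; exact Submodule.zero_mem _)

end Cfsg.Agent.Lib.H11.OmPair
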