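import Cfsg.Agent.Lib.H11.OmPair3

set_option autoImplicit false
set_option linter.unusedSimpArgs false
set_option linter.unusedSectionVars false
set_option linter.unusedVariables false

namespace Cfsg.Agent.Lib.H11.OmPair

open Matrix Module
open Cfsg.Agent.Lib.H28 Cfsg.Agent.Lib.H11.SubspMax
open Cfsg.Agent.Lib.H11.CD Cfsg.Agent.Lib.H11.SiegelGen Cfsg.Agent.Lib.H11.OrMax
open Cfsg.Agent.Lib.H11.OmTs Cfsg.Agent.Lib.H11.PairStab Cfsg.Agent.Lib.H11.SpPair

variable {F : Type*} [Field F] {n : ℕ} {Q : QuadraticForm F (Fin n → F)}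

set_option quotPrecheck false in
local notation "P" => QuadraticMap.polar (⇑Q)

variable {D : Fin 2 → Submodule F (Fin n → F)} {k : ℕ} {M : Subgroup (GL (Fin n) F)}

/-- the Levi root elements lie in the stabiliser of the pair -/
theorem sg_mem_N [Fintype F] (hP : QPair Q (D 0) (D 1) k)
    (hQ : (QuadraticMap.polarBilin Q).Nondegenerate) (hn : 7 ≤ n) {a y : Fin n → F}
    (ha : a ∈ D 0) (hy : y ∈ D 1) (hay : P a y = 0) :
    ((sg Q a y : ↥(Cfsg.isometryGroup F ⇑Q)) : GL (Fin n) F) ∈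
      Cfsg.Geo.decompositionStabilizer D ⊓ Cfsg.Geo.omegaGL (⇑Q) := by
  refine ⟨mem_stab_of_stab2 _ ?_ ?_,
    coe_mem_omegaGL Q _ (sg_mem_comm Q hQ hn a y (hP.ts₁ a ha) hay)⟩
  · intro x hx
    rw [act_def, sg_act_left hP ha hy hay hx]
    exact (D 0).sub_mem hx ((D 0).smul_mem _ ha)
  · intro x hx
    rw [act_def, sg_act_right hP ha hy hay hx]
    exact (D 1).add_mem hx ((D 1).smul_mem _ hy)

/-- B1: an element of `M` outside the stabiliser gives a root element of `M` outside it -/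
theorem exists_sg_not_mem [Fintype F] (hP : QPair Q (D 0) (D 1) k)
    (hQ : (QuadraticMap.polarBilin Q).Nondegenerate) (hn : 7 ≤ n) (hk : 3 ≤ k)
    (hNM : Cfsg.Geo.decompositionStabilizer D ⊓ Cfsg.Geo.omegaGL (⇑Q) ≤ M)
    (hMS : M ≤ Cfsg.Geo.omegaGL (⇑Q))
    (h : GL (Fin n) F) (hhM : h ∈ M) (hh : h ∉ Cfsg.Geo.decompositionStabilizer D) :
    ∃ a y : Fin n → F, Q a = 0 ∧ Q y = 0 ∧ P a y = 0 ∧
      ((sg Q a y : ↥(Cfsg.isometryGroup F ⇑Q)) : GL (Fin n) F) ∈ M ∧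
      ((sg Q a y : ↥(Cfsg.isometryGroup F ⇑Q)) : GL (Fin n) F) ∉
        Cfsg.Geo.decompositionStabilizer D := by
  by_contra hcon
  push Not at hcon
  obtain ⟨g, -, rfl⟩ := exists_of_mem_omegaGL Q h (hMS hhM)
  -- the conjugates of the Levi root elements stabilise both subspaces
  have key : ∀ a ∈ D 0, ∀ y ∈ D 1, P a y = 0 →
      (∀ x ∈ D 0, act Q (g⁻¹ * sg Q a y * g) x ∈ D 0) ∧
      (∀ x ∈ D 1, act Q (g⁻¹ * sg Q a y * g) x ∈ D 1) := by
    intro a ha y hy hay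
    have h1 := sg_conj Q g⁻¹ a y (hP.ts₁ a ha) hay
    rw [inv_inv] at h1
    have hQa : Q (act Q g⁻¹ a) = 0 := by rw [Q_act]; exact hP.ts₁ a ha
    have hQy : Q (act Q g⁻¹ y) = 0 := by rw [Q_act]; exact hP.ts₂ y hy
    have h3 : P (act Q g⁻¹ a) (act Q g⁻¹ y) = 0 := by rw [polar_act]; exact hay
    have h4 : ((g⁻¹ * sg Q a y * g : ↥(Cfsg.isometryGroup F ⇑Q)) : GL (Fin n) F) ∈ M := by
      have e : ((g⁻¹ * sg Q a y * g : ↥(Cfsg.isometryGroup F ⇑Q)) : GL (Fin n) F) =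
          (g : GL (Fin n) F)⁻¹ * ((sg Q a y : ↥(Cfsg.isometryGroup F ⇑Q)) : GL (Fin n) F) *
            (g : GL (Fin n) F) := by simp
      rw [e]
      exact M.mul_mem (M.mul_mem (M.inv_mem hhM) (hNM (sg_mem_N hP hQ hn ha hy hay))) hhM
    rw [h1] at h4 ⊢
    have h5 := hcon _ _ hQa hQy h3 h4
    rcases cases_of_mem_stab _ h5 with h6 | h6
    · exact h6
    · exfalso
      exact sg_not_swap hP hk _ _ hQa h3 h6.1
  have hinv : ∀ i : Fin 2, ∀ a ∈ D 0, ∀ y ∈ D 1, P a y = 0 →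
      ∀ t ∈ (D i).map (Matrix.toLin' ((g : GL (Fin n) F) : Matrix (Fin n) (Fin n) F)),
        act Q (sg Q a y) t ∈
          (D i).map (Matrix.toLin' ((g : GL (Fin n) F) : Matrix (Fin n) (Fin n) F)) := by
    intro i a ha y hy hay t ht
    obtain ⟨x, hx, rfl⟩ := ht
    have h1 : act Q (g⁻¹ * sg Q a y * g) x ∈ D i := by
      have := key a ha y hy hay
      revert x
      revert i
      rw [Fin.forall_fin_two]
      exact ⟨fun x hx => this.1 x hx, fun x hx => this.2 x hx⟩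
    refine ⟨_, h1, ?_⟩
    rw [Matrix.toLin'_apply, Matrix.toLin'_apply, act_def, act_def, act_mul, act_mul,
      Cfsg.Agent.Lib.H11.OmegaTrans.act_inv_act]
  have hT := fun i => eq_of_invariant hP hQ hk
    ((D i).map (Matrix.toLin' ((g : GL (Fin n) F) : Matrix (Fin n) (Fin n) F)))
    (by
      rw [finrank_map_gl]
      revert i
      rw [Fin.forall_fin_two]
      exact ⟨hP.fr₁, hP.fr₂⟩) (hinv i)
  have hne : D 0 ≠ D 1 := by
    intro heq
    have h1 := hP.disj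
    rw [heq, inf_idem] at h1
    have := hP.fr₂
    rw [h1, finrank_bot] at this
    omega
  apply hh
  exact mem_stab_of_images hne _ (hT 0) (hT 1)

end Cfsg.Agent.Lib.H11.OmPair
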