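import Cfsg.Agent.Lib.H11.OmPair4

set_option autoImplicit false
set_option linter.unusedSimpArgs false
set_option linter.unusedSectionVars false
set_option linter.unusedVariables false

namespace Cfsg.Agent.Lib.H11.OmPair

open Matrix Module
open Cfsg.Agent.Lib.H28 Cfsg.Agent.Lib.H11.SubspMax
open Cfsg.Agent.Lib.H11.CD Cfsg.Agent.Lib.H11.SiegelGen Cfsg.Agent.Lib.H11.OrMax
open Cfsg.Agent.Lib.H11.OmTs Cfsg.Agent.Lib.H11.PairStab Cfsg.Agent.Lib.H11.SpPair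

variable {F : Type*} [Field F] {n : ℕ} {Q : QuadraticForm F (Fin n → F)}

set_option quotPrecheck false in
local notation "P" => QuadraticMap.polar (⇑Q)

variable {U₁ U₂ : Submodule F (Fin n → F)} {k : ℕ} {M : Subgroup (GL (Fin n) F)}

theorem sg_antisymm (u v : Fin n → F) (hu : Q u = 0) (hv : Q v = 0) (huv : P u v = 0) :
    sg Q u (-v) = sg Q v u := by
  apply el_ext
  intro x
  have h1 : P u (-v) = 0 := by rw [QuadraticMap.polar_neg_right, huv, neg_zero]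
  have h2 : P v u = 0 := by rw [P_comm]; exact huv
  rw [sg_act Q u (-v) hu h1, sg_act Q v u hv h2, QuadraticMap.map_neg, hv, hu,
    QuadraticMap.polar_neg_left]
  module

theorem sg_neg_right (u v : Fin n → F) (hu : Q u = 0) (huv : P u v = 0) :
    sg Q u (-v) = (sg Q u v)⁻¹ := by
  have h1 : P u (-v) = 0 := by rw [QuadraticMap.polar_neg_right, huv, neg_zero]
  rw [eq_inv_iff_mul_eq_one, sg_mul Q u (-v) v hu h1 huv, neg_add_cancel]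
  apply el_ext
  intro x
  rw [sg_act Q u 0 hu (by simp), act_one]
  simp

/-- Lemma C: a root element of `M` whose two vectors have independent `U₁`-components produces a
non-trivial element of `M` in the unipotent radical of the stabiliser of `U₁` -/
theorem exists_rad_of_sg (hP : QPair Q U₁ U₂ k) (hQ : (QuadraticMap.polarBilin Q).Nondegenerate)
    (hk : 5 ≤ k)
    (hL : ∀ a ∈ U₁, ∀ y ∈ U₂, P a y = 0 →
      ((sg Q a y : ↥(Cfsg.isometryGroup F ⇑Q)) : GL (Fin n) F) ∈ M)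
    {a₁ a₂ y₁ y₂ : Fin n → F} (ha₁ : a₁ ∈ U₁) (ha₂ : a₂ ∈ U₂) (hy₁ : y₁ ∈ U₁) (hy₂ : y₂ ∈ U₂)
    (hQa : Q (a₁ + a₂) = 0) (hQy : Q (y₁ + y₂) = 0) (hay : P (a₁ + a₂) (y₁ + y₂) = 0)
    (hM : ((sg Q (a₁ + a₂) (y₁ + y₂) : ↥(Cfsg.isometryGroup F ⇑Q)) : GL (Fin n) F) ∈ M)
    (ha₁0 : a₁ ≠ 0) (hy₁S : y₁ ∉ Submodule.span F {a₁}) :
    ∃ u ∈ U₁, ∃ v ∈ U₁, u ≠ 0 ∧ v ∉ Submodule.span F {u} ∧
      ((sg Q u v : ↥(Cfsg.isometryGroup F ⇑Q)) : GL (Fin n) F) ∈ M := by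
  obtain ⟨z, hz, hzS, hy₁z⟩ := hP.exists_sep hQ (Submodule.span F {a₁}) hy₁ hy₁S
  have ha₁z : P a₁ z = 0 := hzS a₁ ha₁ (Submodule.mem_span_singleton_self a₁)
  obtain ⟨w, hw, hwk, hwS⟩ := exists_mem_kers_not_mem (F := F) [fr Q a₂, fr Q y₂, fr Q z] U₁
    (Submodule.span F {a₁}) (by
      rw [finrank_span_singleton ha₁0, hP.fr₁]
      simp only [List.length_cons, List.length_nil]
      omega)
  have ha₂w : P a₂ w = 0 := by
    have := hwk (fr Q a₂) (by simp)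
    rwa [fr_apply] at this
  have hy₂w : P y₂ w = 0 := by
    have := hwk (fr Q y₂) (by simp)
    rwa [fr_apply] at this
  have hzw : P z w = 0 := by
    have := hwk (fr Q z) (by simp)
    rwa [fr_apply] at this
  have hw0 : w ≠ 0 := by
    rintro rfl
    exact hwS (Submodule.zero_mem _)
  have hQw : Q w = 0 := hP.ts₁ w hw
  have hQz : Q z = 0 := hP.ts₂ z hz
  have hwz : P w z = 0 := by rw [P_comm]; exact hzw
  have hwa₁ : P w a₁ = 0 := hP.iso₁ hw ha₁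
  have hwy₁ : P w y₁ = 0 := hP.iso₁ hw hy₁
  have hwa₂ : P w a₂ = 0 := by rw [P_comm]; exact ha₂w
  have hwy₂ : P w y₂ = 0 := by rw [P_comm]; exact hy₂w
  have hwa : P w (a₁ + a₂) = 0 := by rw [QuadraticMap.polar_add_right, hwa₁, hwa₂, add_zero]
  have hwy : P w (y₁ + y₂) = 0 := by rw [QuadraticMap.polar_add_right, hwy₁, hwy₂, add_zero]
  have hza : P z (a₁ + a₂) = 0 := by
    rw [QuadraticMap.polar_add_right, P_comm Q z a₁, ha₁z, hP.iso₂ hz ha₂, add_zero]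
  have hzy : P z (y₁ + y₂) = 1 := by
    rw [QuadraticMap.polar_add_right, P_comm Q z y₁, hy₁z, hP.iso₂ hz hy₂, add_zero]
  -- the Levi element `l`
  have hla : act Q (sg Q w z) (a₁ + a₂) = a₁ + a₂ := by
    rw [sg_act Q w z hQw hwz, hwa, hza]
    simp
  have hly : act Q (sg Q w z) (y₁ + y₂) = y₁ + y₂ + -w := by
    rw [sg_act Q w z hQw hwz, hwy, hzy]
    simp [sub_eq_add_neg]
  have hconj := sg_conj Q (sg Q w z) (a₁ + a₂) (y₁ + y₂) hQa hay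
  rw [hla, hly] at hconj
  have haw : P (a₁ + a₂) (-w) = 0 := by
    rw [QuadraticMap.polar_neg_right, P_comm, hwa, neg_zero]
  rw [← sg_mul Q (a₁ + a₂) (y₁ + y₂) (-w) hQa hay haw] at hconj
  have hlM : ((sg Q w z : ↥(Cfsg.isometryGroup F ⇑Q)) : GL (Fin n) F) ∈ M := hL w hw z hz hwz
  have h1 : ((sg Q (a₁ + a₂) (-w) : ↥(Cfsg.isometryGroup F ⇑Q)) : GL (Fin n) F) ∈ M := by
    have e : sg Q (a₁ + a₂) (-w) = (sg Q (a₁ + a₂) (y₁ + y₂))⁻¹ *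
        (sg Q w z * sg Q (a₁ + a₂) (y₁ + y₂) * (sg Q w z)⁻¹) := by
      rw [hconj]; group
    rw [e]
    have e2 : (((sg Q (a₁ + a₂) (y₁ + y₂))⁻¹ *
        (sg Q w z * sg Q (a₁ + a₂) (y₁ + y₂) * (sg Q w z)⁻¹) :
          ↥(Cfsg.isometryGroup F ⇑Q)) : GL (Fin n) F) =
        ((sg Q (a₁ + a₂) (y₁ + y₂) : ↥(Cfsg.isometryGroup F ⇑Q)) : GL (Fin n) F)⁻¹ *
        (((sg Q w z : ↥(Cfsg.isometryGroup F ⇑Q)) : GL (Fin n) F) *
          ((sg Q (a₁ + a₂) (y₁ + y₂) : ↥(Cfsg.isometryGroup F ⇑Q)) : GL (Fin n) F) *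
          ((sg Q w z : ↥(Cfsg.isometryGroup F ⇑Q)) : GL (Fin n) F)⁻¹) := by simp
    rw [e2]
    exact M.mul_mem (M.inv_mem hM) (M.mul_mem (M.mul_mem hlM hM) (M.inv_mem hlM))
  have haw' : P (a₁ + a₂) w = 0 := by rw [P_comm]; exact hwa
  rw [sg_antisymm (a₁ + a₂) w hQa hQw haw', ← sg_mul Q w a₁ a₂ hQw hwa₁ hwa₂] at h1
  have h3 : ((sg Q w a₂ : ↥(Cfsg.isometryGroup F ⇑Q)) : GL (Fin n) F) ∈ M := hL w hw a₂ ha₂ hwa₂
  refine ⟨w, hw, a₁, ha₁, hw0, not_mem_span_symm' ha₁0 hwS, ?_⟩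
  have e3 : ((sg Q w a₁ : ↥(Cfsg.isometryGroup F ⇑Q)) : GL (Fin n) F) =
      ((sg Q w a₁ * sg Q w a₂ : ↥(Cfsg.isometryGroup F ⇑Q)) : GL (Fin n) F) *
        ((sg Q w a₂ : ↥(Cfsg.isometryGroup F ⇑Q)) : GL (Fin n) F)⁻¹ := by simp
  rw [e3]
  exact M.mul_mem h1 (M.inv_mem h3)

end Cfsg.Agent.Lib.H11.OmPair
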