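import Cfsg.Agent.Lib.H11.OmPair5

set_option autoImplicit false
set_option linter.unusedSimpArgs false
set_option linter.unusedSectionVars false
set_option linter.unusedVariables false

namespace Cfsg.Agent.Lib.H11.OmPair

open Matrix Module
open Cfsg.Agent.Lib.H28 Cfsg.Agent.Lib.H11.SubspMax
open Cfsg.Agent.Lib.H11.CD Cfsg.Agent.Lib.H11.SiegelGen Cfsg.Agent.Lib.H11.OrMax
open Cfsg.Agent.Lib.H11.OmTs Cfsg.Agent.Lib.H11.PairStab Cfsg.Agent.Lib.H11.SpPair

variable {F : Type*} [Field F] {n : ℕ} {Q : QuadraticForm F (Fin n → F)}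

set_option quotPrecheck false in
local notation "P" => QuadraticMap.polar (⇑Q)

variable {U₁ U₂ : Submodule F (Fin n → F)} {k : ℕ} {M : Subgroup (GL (Fin n) F)}

theorem finrank_span_pair_le' {V : Type*} [AddCommGroup V] [Module F V] (u v : V) :
    finrank F ↥(Submodule.span F ({u, v} : Set V)) ≤ 2 := by
  classical
  have h1 := finrank_span_finset_le_card (R := F) ({u, v} : Finset V)
  have h2 : ({u, v} : Finset V).card ≤ 2 := Finset.card_le_two
  have h3 : ((({u, v} : Finset V)) : Set V) = {u, v} := by simp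
  rw [Set.finrank, h3] at h1
  omega

/-- one step of the closure argument: moving the second argument -/
theorem rad_step_aux (hP : QPair Q U₁ U₂ k) (hQ : (QuadraticMap.polarBilin Q).Nondegenerate)
    (hL : ∀ a ∈ U₁, ∀ y ∈ U₂, P a y = 0 →
      ((sg Q a y : ↥(Cfsg.isometryGroup F ⇑Q)) : GL (Fin n) F) ∈ M)
    {u v : Fin n → F} (hu : u ∈ U₁) (hv : v ∈ U₁)
    (huv : ((sg Q u v : ↥(Cfsg.isometryGroup F ⇑Q)) : GL (Fin n) F) ∈ M)
    {w : Fin n → F} (hw : w ∈ U₁)
    (hvS : v ∉ Submodule.span F ({u, w} : Set (Fin n → F))) :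
    ((sg Q u w : ↥(Cfsg.isometryGroup F ⇑Q)) : GL (Fin n) F) ∈ M := by
  obtain ⟨z, hz, hzS, hvz⟩ := hP.exists_sep hQ _ hv hvS
  have huz : P u z = 0 := hzS u hu (Submodule.subset_span (by simp))
  have hwz : P w z = 0 := hzS w hw (Submodule.subset_span (by simp))
  have hQu : Q u = 0 := hP.ts₁ u hu
  have huv0 : P u v = 0 := hP.iso₁ hu hv
  have huw0 : P u w = 0 := hP.iso₁ hu hw
  have hlu : act Q (sg Q w z) u = u := by
    rw [sg_act_left hP hw hz hwz hu, P_comm Q z u, huz, zero_smul, sub_zero]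
  have hlv : act Q (sg Q w z) v = v + -w := by
    rw [sg_act_left hP hw hz hwz hv, P_comm Q z v, hvz, one_smul, sub_eq_add_neg]
  have hconj := sg_conj Q (sg Q w z) u v hQu huv0
  rw [hlu, hlv] at hconj
  have huw' : P u (-w) = 0 := by rw [QuadraticMap.polar_neg_right, huw0, neg_zero]
  rw [← sg_mul Q u v (-w) hQu huv0 huw', sg_neg_right u w hQu huw0] at hconj
  have hlM : ((sg Q w z : ↥(Cfsg.isometryGroup F ⇑Q)) : GL (Fin n) F) ∈ M := hL w hw z hz hwz
  have e : sg Q u w = (sg Q w z * sg Q u v * (sg Q w z)⁻¹)⁻¹ * sg Q u v := by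
    rw [hconj]; group
  rw [e]
  have e2 : (((sg Q w z * sg Q u v * (sg Q w z)⁻¹)⁻¹ * sg Q u v :
      ↥(Cfsg.isometryGroup F ⇑Q)) : GL (Fin n) F) =
      (((sg Q w z : ↥(Cfsg.isometryGroup F ⇑Q)) : GL (Fin n) F) *
        ((sg Q u v : ↥(Cfsg.isometryGroup F ⇑Q)) : GL (Fin n) F) *
        ((sg Q w z : ↥(Cfsg.isometryGroup F ⇑Q)) : GL (Fin n) F)⁻¹)⁻¹ *
      ((sg Q u v : ↥(Cfsg.isometryGroup F ⇑Q)) : GL (Fin n) F) := by simp
  rw [e2]
  exact M.mul_mem (M.inv_mem (M.mul_mem (M.mul_mem hlM huv) (M.inv_mem hlM))) huv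

/-- from one independent pair `(u, v)` to all second arguments -/
theorem rad_step (hP : QPair Q U₁ U₂ k) (hQ : (QuadraticMap.polarBilin Q).Nondegenerate)
    (hk : 4 ≤ k)
    (hL : ∀ a ∈ U₁, ∀ y ∈ U₂, P a y = 0 →
      ((sg Q a y : ↥(Cfsg.isometryGroup F ⇑Q)) : GL (Fin n) F) ∈ M)
    {u v : Fin n → F} (hu : u ∈ U₁) (hv : v ∈ U₁) (hvu : v ∉ Submodule.span F {u})
    (huv : ((sg Q u v : ↥(Cfsg.isometryGroup F ⇑Q)) : GL (Fin n) F) ∈ M) :
    ∀ w ∈ U₁, ((sg Q u w : ↥(Cfsg.isometryGroup F ⇑Q)) : GL (Fin n) F) ∈ M := by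
  intro w hw
  obtain ⟨w₀, hw₀, -, hw₀S⟩ := exists_mem_kers_not_mem (F := F) [] U₁
    (Submodule.span F ({u, v} : Set (Fin n → F)) ⊔ Submodule.span F {w}) (by
      have h1 := finrank_span_pair_le' (F := F) u v
      have h2 := Submodule.finrank_add_le_finrank_add_finrank
        (Submodule.span F ({u, v} : Set (Fin n → F))) (Submodule.span F {w})
      have h3 : finrank F ↥(Submodule.span F {w}) ≤ 1 := by
        have := finrank_span_le_card (R := F) ({w} : Set (Fin n → F))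
        simpa using this
      rw [hP.fr₁]
      simp only [List.length_nil, add_zero]
      omega)
  have huS : u ∈ Submodule.span F ({u, v} : Set (Fin n → F)) ⊔ Submodule.span F {w} :=
    Submodule.mem_sup_left (Submodule.subset_span (by simp))
  have hvS : v ∈ Submodule.span F ({u, v} : Set (Fin n → F)) ⊔ Submodule.span F {w} :=
    Submodule.mem_sup_left (Submodule.subset_span (by simp))
  have hwS : w ∈ Submodule.span F ({u, v} : Set (Fin n → F)) ⊔ Submodule.span F {w} :=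
    Submodule.mem_sup_right (Submodule.mem_span_singleton_self w)
  -- `v ∉ span {u, w₀}`
  have h1 : v ∉ Submodule.span F ({u, w₀} : Set (Fin n → F)) := by
    intro hmem
    obtain ⟨α, β, hαβ⟩ := Submodule.mem_span_pair.1 hmem
    by_cases hβ : β = 0
    · apply hvu
      rw [Submodule.mem_span_singleton]
      exact ⟨α, by rw [← hαβ, hβ, zero_smul, add_zero]⟩
    · apply hw₀S
      have : w₀ = β⁻¹ • (v - α • u) := by
        rw [← hαβ, add_sub_cancel_left, smul_smul, inv_mul_cancel₀ hβ, one_smul]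
      rw [this]
      exact Submodule.smul_mem _ _ (Submodule.sub_mem _ hvS (Submodule.smul_mem _ _ huS))
  -- `v ∉ span {u, w - w₀}`
  have h2 : v ∉ Submodule.span F ({u, w - w₀} : Set (Fin n → F)) := by
    intro hmem
    obtain ⟨α, β, hαβ⟩ := Submodule.mem_span_pair.1 hmem
    by_cases hβ : β = 0
    · apply hvu
      rw [Submodule.mem_span_singleton]
      exact ⟨α, by rw [← hαβ, hβ, zero_smul, add_zero]⟩
    · apply hw₀S
      have : w₀ = w - β⁻¹ • (v - α • u) := by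
        rw [← hαβ, add_sub_cancel_left, smul_smul, inv_mul_cancel₀ hβ, one_smul]
        abel
      rw [this]
      exact Submodule.sub_mem _ hwS
        (Submodule.smul_mem _ _ (Submodule.sub_mem _ hvS (Submodule.smul_mem _ _ huS)))
  have h3 := rad_step_aux hP hQ hL hu hv huv hw₀ h1
  have h4 := rad_step_aux hP hQ hL hu hv huv (U₁.sub_mem hw hw₀) h2
  have hQu : Q u = 0 := hP.ts₁ u hu
  have e := sg_mul Q u w₀ (w - w₀) hQu (hP.iso₁ hu hw₀) (hP.iso₁ hu (U₁.sub_mem hw hw₀))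
  rw [add_sub_cancel] at e
  rw [← e]
  exact M.mul_mem h3 h4

/-- the whole unipotent radical lies in `M` -/
theorem rad_all (hP : QPair Q U₁ U₂ k) (hQ : (QuadraticMap.polarBilin Q).Nondegenerate)
    (hk : 4 ≤ k)
    (hL : ∀ a ∈ U₁, ∀ y ∈ U₂, P a y = 0 →
      ((sg Q a y : ↥(Cfsg.isometryGroup F ⇑Q)) : GL (Fin n) F) ∈ M)
    {u v : Fin n → F} (hu : u ∈ U₁) (hv : v ∈ U₁) (hu0 : u ≠ 0)
    (hvu : v ∉ Submodule.span F {u})
    (huv : ((sg Q u v : ↥(Cfsg.isometryGroup F ⇑Q)) : GL (Fin n) F) ∈ M) :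
    ∀ u' ∈ U₁, ∀ w ∈ U₁, ((sg Q u' w : ↥(Cfsg.isometryGroup F ⇑Q)) : GL (Fin n) F) ∈ M := by
  have s1 := rad_step hP hQ hk hL hu hv hvu huv
  intro u' hu' w hw
  have hQu : Q u = 0 := hP.ts₁ u hu
  by_cases hS : u' ∈ Submodule.span F {u}
  · obtain ⟨c, rfl⟩ := Submodule.mem_span_singleton.1 hS
    rw [sg_smul_left Q u w c hQu (hP.iso₁ hu hw)]
    exact s1 _ (U₁.smul_mem c hw)
  · have h1 := s1 (-u') (U₁.neg_mem hu')
    rw [sg_antisymm u u' hQu (hP.ts₁ u' hu') (hP.iso₁ hu hu')] at h1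
    have hu'0 : u' ≠ 0 := by
      rintro rfl
      exact hS (Submodule.zero_mem _)
    exact rad_step hP hQ hk hL hu' hu (not_mem_span_symm' hu0 hS) h1 w hw

end Cfsg.Agent.Lib.H11.OmPair
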