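import Cfsg.Agent.Lib.H11.OmPair6

set_option autoImplicit false
set_option linter.unusedSimpArgs false
set_option linter.unusedSectionVars false
set_option linter.unusedVariables false

namespace Cfsg.Agent.Lib.H11.OmPair

open Matrix Module
open Cfsg.Agent.Lib.H28 Cfsg.Agent.Lib.H11.SubspMax
open Cfsg.Agent.Lib.H11.CD Cfsg.Agent.Lib.H11.SiegelGen Cfsg.Agent.Lib.H11.OrMax
open Cfsg.Agent.Lib.H11.OmTs Cfsg.Agent.Lib.H11.PairStab Cfsg.Agent.Lib.H11.SpPair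

variable {F : Type*} [Field F] {n : ℕ} {Q : QuadraticForm F (Fin n → F)}

set_option quotPrecheck false in
local notation "P" => QuadraticMap.polar (⇑Q)

variable {D : Fin 2 → Submodule F (Fin n → F)} {k : ℕ} {M : Subgroup (GL (Fin n) F)}

theorem dep_key {a y : Fin n → F} (h : a = 0 ∨ y ∈ Submodule.span F {a}) (x : Fin n → F) :
    P a x • y - P y x • a = 0 := by
  rcases h with rfl | h
  · simp
  · obtain ⟨c, rfl⟩ := Submodule.mem_span_singleton.1 h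
    rw [QuadraticMap.polar_smul_left, smul_eq_mul, smul_smul, mul_comm, sub_self]

/-- C': a root element of `M` outside the stabiliser of the pair gives an element of a unipotent
radical in `M` -/
theorem exists_rad_of_not_mem [Fintype F] (hP : QPair Q (D 0) (D 1) k)
    (hQ : (QuadraticMap.polarBilin Q).Nondegenerate) (hn : 7 ≤ n) (hk : 5 ≤ k)
    (hNM : Cfsg.Geo.decompositionStabilizer D ⊓ Cfsg.Geo.omegaGL (⇑Q) ≤ M)
    {a y : Fin n → F} (hQa : Q a = 0) (hQy : Q y = 0) (hay : P a y = 0)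
    (hM : ((sg Q a y : ↥(Cfsg.isometryGroup F ⇑Q)) : GL (Fin n) F) ∈ M)
    (hnot : ((sg Q a y : ↥(Cfsg.isometryGroup F ⇑Q)) : GL (Fin n) F) ∉
      Cfsg.Geo.decompositionStabilizer D) :
    (∃ u ∈ D 0, ∃ v ∈ D 0, u ≠ 0 ∧ v ∉ Submodule.span F {u} ∧
      ((sg Q u v : ↥(Cfsg.isometryGroup F ⇑Q)) : GL (Fin n) F) ∈ M) ∨
    (∃ u ∈ D 1, ∃ v ∈ D 1, u ≠ 0 ∧ v ∉ Submodule.span F {u} ∧
      ((sg Q u v : ↥(Cfsg.isometryGroup F ⇑Q)) : GL (Fin n) F) ∈ M) := by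
  obtain ⟨a₁, ha₁, a₂, ha₂, rfl⟩ := hP.span a
  obtain ⟨y₁, hy₁, y₂, hy₂, rfl⟩ := hP.span y
  have hL : ∀ a ∈ D 0, ∀ y ∈ D 1, P a y = 0 →
      ((sg Q a y : ↥(Cfsg.isometryGroup F ⇑Q)) : GL (Fin n) F) ∈ M :=
    fun a ha y hy hay => hNM (sg_mem_N hP hQ hn ha hy hay)
  have hL' : ∀ a ∈ D 1, ∀ y ∈ D 0, P a y = 0 →
      ((sg Q a y : ↥(Cfsg.isometryGroup F ⇑Q)) : GL (Fin n) F) ∈ M := by
    intro a ha y hy hay
    have hya : P y a = 0 := by rw [P_comm]; exact hay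
    rw [← sg_antisymm y a (hP.ts₁ y hy) (hP.ts₂ a ha) hya]
    exact hL y hy (-a) ((D 1).neg_mem ha) (by
      rw [QuadraticMap.polar_neg_right, hya, neg_zero])
  by_cases hc1 : a₁ ≠ 0 ∧ y₁ ∉ Submodule.span F {a₁}
  · left
    exact exists_rad_of_sg hP hQ hk hL ha₁ ha₂ hy₁ hy₂ hQa hQy hay hM hc1.1 hc1.2
  by_cases hc2 : a₂ ≠ 0 ∧ y₂ ∉ Submodule.span F {a₂}
  · right
    refine exists_rad_of_sg hP.symm hQ hk hL' ha₂ ha₁ hy₂ hy₁ ?_ ?_ ?_ ?_ hc2.1 hc2.2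
    · rw [add_comm a₂]; exact hQa
    · rw [add_comm y₂]; exact hQy
    · rw [add_comm a₂, add_comm y₂]; exact hay
    · rw [add_comm a₂, add_comm y₂]; exact hM
  exfalso
  apply hnot
  have hc1' : a₁ = 0 ∨ y₁ ∈ Submodule.span F {a₁} := by
    by_contra hcon
    push Not at hcon
    exact hc1 hcon
  have hc2' : a₂ = 0 ∨ y₂ ∈ Submodule.span F {a₂} := by
    by_contra hcon
    push Not at hcon
    exact hc2 hcon
  apply mem_stab_of_stab2
  · intro x hx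
    rw [act_def, sg_act Q _ _ hQa hay, hQy, QuadraticMap.polar_add_left,
      QuadraticMap.polar_add_left, hP.iso₁ ha₁ hx, hP.iso₁ hy₁ hx, zero_add, zero_add, zero_mul,
      zero_smul, sub_zero]
    have h1 := dep_key (Q := Q) hc2' x
    have e : x + P a₂ x • (y₁ + y₂) - P y₂ x • (a₁ + a₂) =
        x + P a₂ x • y₁ - P y₂ x • a₁ + (P a₂ x • y₂ - P y₂ x • a₂) := by
      rw [smul_add, smul_add]; abel
    rw [e, h1, add_zero]
    exact (D 0).sub_mem ((D 0).add_mem hx ((D 0).smul_mem _ hy₁)) ((D 0).smul_mem _ ha₁)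
  · intro x hx
    rw [act_def, sg_act Q _ _ hQa hay, hQy, QuadraticMap.polar_add_left,
      QuadraticMap.polar_add_left, hP.iso₂ ha₂ hx, hP.iso₂ hy₂ hx, add_zero, add_zero, zero_mul,
      zero_smul, sub_zero]
    have h1 := dep_key (Q := Q) hc1' x
    have e : x + P a₁ x • (y₁ + y₂) - P y₁ x • (a₁ + a₂) =
        x + P a₁ x • y₂ - P y₁ x • a₂ + (P a₁ x • y₁ - P y₁ x • a₁) := by
      rw [smul_add, smul_add]; abel
    rw [e, h1, add_zero]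
    exact (D 1).sub_mem ((D 1).add_mem hx ((D 1).smul_mem _ hy₂)) ((D 1).smul_mem _ ha₂)

/-- if the unipotent radical lies in `M`, the vectors of `U₁` are centres for `M` -/
theorem mem_Cen_of_rad {U₁ U₂ : Submodule F (Fin n → F)} (hP : QPair Q U₁ U₂ k)
    (hL : ∀ a ∈ U₁, ∀ y ∈ U₂, P a y = 0 →
      ((sg Q a y : ↥(Cfsg.isometryGroup F ⇑Q)) : GL (Fin n) F) ∈ M)
    (hR : ∀ u' ∈ U₁, ∀ w ∈ U₁, ((sg Q u' w : ↥(Cfsg.isometryGroup F ⇑Q)) : GL (Fin n) F) ∈ M)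
    {u : Fin n → F} (hu : u ∈ U₁) : u ∈ Cen Q M := by
  refine ⟨hP.ts₁ u hu, fun y hy => ?_⟩
  obtain ⟨y₁, hy₁, y₂, hy₂, rfl⟩ := hP.span y
  have h1 : P u y₁ = 0 := hP.iso₁ hu hy₁
  have h2 : P u y₂ = 0 := by
    rw [QuadraticMap.polar_add_right, h1, zero_add] at hy
    exact hy
  rw [← sg_mul Q u y₁ y₂ (hP.ts₁ u hu) h1 h2]
  exact M.mul_mem (hR u hu y₁ hy₁) (hL u hu y₂ hy₂ h2)

end Cfsg.Agent.Lib.H11.OmPair
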