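import Cfsg.Agent.Lib.H11.OmPair7

set_option autoImplicit false
set_option linter.unusedSimpArgs false
set_option linter.unusedSectionVars false
set_option linter.unusedVariables false

namespace Cfsg.Agent.Lib.H11.OmPair

open Matrix Module
open Cfsg.Agent.Lib.H28 Cfsg.Agent.Lib.H11.SubspMax
open Cfsg.Agent.Lib.H11.CD Cfsg.Agent.Lib.H11.SiegelGen Cfsg.Agent.Lib.H11.OrMax
open Cfsg.Agent.Lib.H11.OmTs Cfsg.Agent.Lib.H11.PairStab Cfsg.Agent.Lib.H11.SpPair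

variable {F : Type*} [Field F] {n : ℕ} {Q : QuadraticForm F (Fin n → F)}

set_option quotPrecheck false in
local notation "P" => QuadraticMap.polar (⇑Q)

variable {D : Fin 2 → Submodule F (Fin n → F)} {k : ℕ} {M : Subgroup (GL (Fin n) F)}

/-- the stabiliser of the pair is a proper subgroup of `Ω` -/
theorem N_lt [Fintype F] (hP : QPair Q (D 0) (D 1) k)
    (hQ : (QuadraticMap.polarBilin Q).Nondegenerate) (hn : 7 ≤ n) (hk : 2 ≤ k) :
    Cfsg.Geo.decompositionStabilizer D ⊓ Cfsg.Geo.omegaGL (⇑Q) < Cfsg.Geo.omegaGL (⇑Q) := by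
  refine lt_of_le_of_ne inf_le_right ?_
  intro heq
  have hD0 : D 0 ≠ ⊥ := by
    intro h
    have := hP.fr₁
    rw [h, finrank_bot] at this
    omega
  obtain ⟨u, hu, hu0⟩ := Submodule.exists_mem_ne_zero_of_ne_bot hD0
  obtain ⟨v, hv, -, hvS⟩ := exists_mem_kers_not_mem (F := F) [] (D 0) (Submodule.span F {u}) (by
    rw [finrank_span_singleton hu0, hP.fr₁]
    simp only [List.length_nil, add_zero]
    omega)
  have hQu : Q u = 0 := hP.ts₁ u hu
  have huv : P u v = 0 := hP.iso₁ hu hv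
  have hmem : ((sg Q u v : ↥(Cfsg.isometryGroup F ⇑Q)) : GL (Fin n) F) ∈
      Cfsg.Geo.decompositionStabilizer D ⊓ Cfsg.Geo.omegaGL (⇑Q) := by
    rw [heq]
    exact coe_mem_omegaGL Q _ (sg_mem_comm Q hQ hn u v hQu huv)
  have hfix : act Q (sg Q u v) u = u := by
    rw [sg_act Q u v hQu huv, P_self, hQu, P_comm Q v u, huv]
    simp
  obtain ⟨x, hx, hux⟩ := hP.exists_ne hQ hu hu0
  rcases cases_of_mem_stab _ hmem.1 with ⟨-, h2⟩ | ⟨h1, -⟩
  · have h3 := h2 x hx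
    rw [act_def, sg_act Q u v hQu huv, hP.ts₁ v hv, zero_mul, zero_smul, sub_zero] at h3
    have h4 : P u x • v - P v x • u ∈ D 1 := by
      have := (D 1).sub_mem h3 hx
      have e : x + P u x • v - P v x • u - x = P u x • v - P v x • u := by abel
      rwa [e] at this
    have h5 : P u x • v - P v x • u ∈ D 0 ⊓ D 1 :=
      ⟨(D 0).sub_mem ((D 0).smul_mem _ hv) ((D 0).smul_mem _ hu), h4⟩
    rw [hP.disj, Submodule.mem_bot, sub_eq_zero] at h5
    apply hvS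
    rw [Submodule.mem_span_singleton]
    exact ⟨(P u x)⁻¹ * P v x, by
      rw [mul_smul, ← h5, smul_smul, inv_mul_cancel₀ hux, one_smul]⟩
  · have h3 := h1 u hu
    rw [act_def, hfix] at h3
    have h5 : u ∈ D 0 ⊓ D 1 := ⟨hu, h3⟩
    rw [hP.disj, Submodule.mem_bot] at h5
    exact hu0 h5

/-- maximality, given an element interchanging the two subspaces -/
theorem pair_maximal_of_swap [Fintype F] (hP : QPair Q (D 0) (D 1) k)
    (hQ : (QuadraticMap.polarBilin Q).Nondegenerate) (hn : 7 ≤ n) (hk : 5 ≤ k)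
    (s : ↥(Cfsg.isometryGroup F ⇑Q))
    (hsN : (s : GL (Fin n) F) ∈ Cfsg.Geo.decompositionStabilizer D ⊓ Cfsg.Geo.omegaGL (⇑Q))
    (hs1 : ∀ x ∈ D 0, act Q s x ∈ D 1) (hs2 : ∀ x ∈ D 1, act Q s x ∈ D 0) :
    Cfsg.Geo.IsMaximalIn (Cfsg.Geo.omegaGL (⇑Q))
      (Cfsg.Geo.decompositionStabilizer D ⊓ Cfsg.Geo.omegaGL (⇑Q)) := by
  refine ⟨N_lt hP hQ hn (by omega), ?_⟩
  intro M hNM hMS
  by_cases hMN : M = Cfsg.Geo.decompositionStabilizer D ⊓ Cfsg.Geo.omegaGL (⇑Q)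
  · left; exact hMN
  right
  obtain ⟨h, hhM, hhN⟩ : ∃ h ∈ M, h ∉ Cfsg.Geo.decompositionStabilizer D := by
    by_contra hcon
    push Not at hcon
    apply hMN
    apply le_antisymm _ hNM
    intro g hg
    exact ⟨hcon g hg, hMS hg⟩
  obtain ⟨a, y, hQa, hQy, hay, haM, hnot⟩ :=
    exists_sg_not_mem hP hQ hn (by omega) hNM hMS h hhM hhN
  have hL : ∀ a ∈ D 0, ∀ y ∈ D 1, P a y = 0 →
      ((sg Q a y : ↥(Cfsg.isometryGroup F ⇑Q)) : GL (Fin n) F) ∈ M :=
    fun a ha y hy hay => hNM (sg_mem_N hP hQ hn ha hy hay)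
  have hL' : ∀ a ∈ D 1, ∀ y ∈ D 0, P a y = 0 →
      ((sg Q a y : ↥(Cfsg.isometryGroup F ⇑Q)) : GL (Fin n) F) ∈ M := by
    intro a ha y hy hay
    have hya : P y a = 0 := by rw [P_comm]; exact hay
    rw [← sg_antisymm y a (hP.ts₁ y hy) (hP.ts₂ a ha) hya]
    exact hL y hy (-a) ((D 1).neg_mem ha) (by
      rw [QuadraticMap.polar_neg_right, hya, neg_zero])
  have both : (∀ u ∈ D 0, u ∈ Cen Q M) ∧ (∀ u ∈ D 1, u ∈ Cen Q M) := by
    rcases exists_rad_of_not_mem hP hQ hn hk hNM hQa hQy hay haM hnot with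
      ⟨u, hu, v, hv, hu0, hvu, huv⟩ | ⟨u, hu, v, hv, hu0, hvu, huv⟩
    · have hR := rad_all hP hQ (by omega) hL hu hv hu0 hvu huv
      have h0 : ∀ u ∈ D 0, u ∈ Cen Q M := fun u hu => mem_Cen_of_rad hP hL hR hu
      refine ⟨h0, fun u hu => ?_⟩
      have hmap := map_eq_of_maps (s : GL (Fin n) F) (D 0) (D 1) hs1 (by rw [hP.fr₁, hP.fr₂])
      have hu' : u ∈ (D 0).map (Matrix.toLin' ((s : GL (Fin n) F) : Matrix (Fin n) (Fin n) F)) := by
        rw [hmap]; exact hu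
      obtain ⟨x, hx, rfl⟩ := hu'
      rw [Matrix.toLin'_apply]
      exact Cen_act Q M (h0 x hx) s (hNM hsN)
    · have hR := rad_all hP.symm hQ (by omega) hL' hu hv hu0 hvu huv
      have h0 : ∀ u ∈ D 1, u ∈ Cen Q M := fun u hu => mem_Cen_of_rad hP.symm hL' hR hu
      refine ⟨fun u hu => ?_, h0⟩
      have hmap := map_eq_of_maps (s : GL (Fin n) F) (D 1) (D 0) hs2 (by rw [hP.fr₁, hP.fr₂])
      have hu' : u ∈ (D 1).map (Matrix.toLin' ((s : GL (Fin n) F) : Matrix (Fin n) (Fin n) F)) := by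
        rw [hmap]; exact hu
      obtain ⟨x, hx, rfl⟩ := hu'
      rw [Matrix.toLin'_apply]
      exact Cen_act Q M (h0 x hx) s (hNM hsN)
  apply le_antisymm hMS
  have hD0 : D 0 ≠ ⊥ := by
    intro h
    have := hP.fr₁
    rw [h, finrank_bot] at this
    omega
  obtain ⟨u, hu, hu0⟩ := Submodule.exists_mem_ne_zero_of_ne_bot hD0
  obtain ⟨u', hu', huu'⟩ := hP.exists_ne hQ hu hu0
  apply omega_le_of_Cen Q M hQ hn
  intro z hz
  exact Cen_all Q M hQ (both.1 u hu) (both.2 u' hu') (by rw [P_comm]; exact huu') z hz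

end Cfsg.Agent.Lib.H11.OmPair
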