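import Cfsg.Agent.Lib.H11.OmPair8
import Cfsg.Agent.Lib.H11.SpinSign

set_option autoImplicit false
set_option linter.unusedSimpArgs false
set_option linter.unusedSectionVars false
set_option linter.unusedVariables false

namespace Cfsg.Agent.Lib.H11.OmPair

open Matrix Module
open Cfsg.Agent.Lib.H28 Cfsg.Agent.Lib.H11.SubspMax
open Cfsg.Agent.Lib.H11.CD Cfsg.Agent.Lib.H11.SiegelGen Cfsg.Agent.Lib.H11.OrMax
open Cfsg.Agent.Lib.H11.OmTs Cfsg.Agent.Lib.H11.PairStab Cfsg.Agent.Lib.H11.SpPair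

variable {F : Type*} [Field F] {n : ℕ} {Q : QuadraticForm F (Fin n → F)}

set_option quotPrecheck false in
local notation "P" => QuadraticMap.polar (⇑Q)

variable {U₁ U₂ : Submodule F (Fin n → F)} {k : ℕ}

/-- dual bases of a pair of complementary totally singular subspaces -/
theorem QPair.exists_dual_bases (h : QPair Q U₁ U₂ k)
    (hQ : (QuadraticMap.polarBilin Q).Nondegenerate) :
    ∃ (b : Basis (Fin k) F U₁) (f : Fin k → (Fin n → F)), (∀ j, f j ∈ U₂) ∧
      ∀ i j, P ((b i : U₁) : Fin n → F) (f j) = if i = j then 1 else 0 := by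
  let ψ : U₂ →ₗ[F] Dual F U₁ :=
    (Submodule.dualRestrict U₁) ∘ₗ ((QuadraticMap.polarBilin Q).flip) ∘ₗ U₂.subtype
  have hψ : ∀ (y : U₂) (x : U₁), ψ y x = P (x : Fin n → F) (y : Fin n → F) := by
    intro y x
    show (Submodule.dualRestrict U₁) (((QuadraticMap.polarBilin Q).flip) (y : Fin n → F)) x = _
    rw [Submodule.dualRestrict_apply]
    show (QuadraticMap.polarBilin Q) (x : Fin n → F) (y : Fin n → F) = _
    rw [QuadraticMap.polarBilin_apply_apply]
  have hinj : Function.Injective ψ := by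
    rw [injective_iff_map_eq_zero]
    intro y hy
    by_contra hy0
    have hy0' : (y : Fin n → F) ≠ 0 := fun h0 => hy0 (Subtype.ext h0)
    obtain ⟨x, hx, hxy⟩ := h.symm.exists_ne hQ y.2 hy0'
    apply hxy
    have := hψ y ⟨x, hx⟩
    rw [hy, LinearMap.zero_apply] at this
    rw [P_comm, ← this]
  have hfr : finrank F U₂ = finrank F (Dual F U₁) := by
    rw [Subspace.dual_finrank_eq, h.fr₁, h.fr₂]
  have hsurj : Function.Surjective ψ :=
    (LinearMap.injective_iff_surjective_of_finrank_eq_finrank hfr).1 hinj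
  let b : Basis (Fin k) F U₁ := Module.finBasisOfFinrankEq F U₁ h.fr₁
  choose y hy using fun j => hsurj (b.coord j)
  refine ⟨b, fun j => (y j : Fin n → F), fun j => (y j).2, ?_⟩
  intro i j
  rw [← hψ (y j) (b i), hy j, Basis.coord_apply, Basis.repr_self, Finsupp.single_apply]

theorem Q_sub_hyp (e f : Fin n → F) (he : Q e = 0) (hf : Q f = 0) (hef : P e f = 1) :
    Q (e - f) = -1 := by rw [Q_sub', he, hf, hef]; ring

/-- the swap of a hyperbolic pair by the reflection in `e - f` -/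
theorem refl_swap (e f : Fin n → F) (he : Q e = 0) (hf : Q f = 0) (hef : P e f = 1)
    (hv : Q (e - f) ≠ 0) : act Q (reflEl Q (e - f) hv) e = f ∧
      act Q (reflEl Q (e - f) hv) f = e := by
  have hQv : Q (e - f) = -1 := Q_sub_hyp e f he hf hef
  refine ⟨?_, ?_⟩
  · rw [reflEl_act, hQv, QuadraticMap.polar_sub_left, P_self, he, P_comm Q f e, hef]
    have : ((-1 : F))⁻¹ * (2 * 0 - 1) = 1 := by
      rw [inv_neg, inv_one]; ring
    rw [this, one_smul]
    abel
  · rw [reflEl_act, hQv, QuadraticMap.polar_sub_left, P_self, hf, hef]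
    have : ((-1 : F))⁻¹ * (1 - 2 * 0) = -1 := by
      rw [inv_neg, inv_one]; ring
    rw [this, neg_one_smul]
    abel

/-- for `k` even, some element of `Ω` interchanges `U₁` and `U₂` -/
theorem exists_swap [Fintype F] (hP : QPair Q U₁ U₂ k)
    (hQ : (QuadraticMap.polarBilin Q).Nondegenerate) (hn : 7 ≤ n) (hke : Even k) :
    ∃ s : ↥(Cfsg.isometryGroup F ⇑Q), s ∈ commutator ↥(Cfsg.isometryGroup F ⇑Q) ∧
      (∀ x ∈ U₁, act Q s x ∈ U₂) ∧ (∀ x ∈ U₂, act Q s x ∈ U₁) := by
  obtain ⟨b, f, hf, hbf⟩ := hP.exists_dual_bases hQ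
  obtain ⟨e, he⟩ : ∃ e : Fin k → (Fin n → F), ∀ i, e i = ((b i : U₁) : Fin n → F) :=
    ⟨fun i => ((b i : U₁) : Fin n → F), fun i => rfl⟩
  have heU : ∀ i, e i ∈ U₁ := fun i => by rw [he]; exact (b i).2
  have hef : ∀ i j, P (e i) (f j) = if i = j then 1 else 0 := fun i j => by rw [he]; exact hbf i j
  have hQe : ∀ i, Q (e i) = 0 := fun i => hP.ts₁ _ (heU i)
  have hQf : ∀ i, Q (f i) = 0 := fun i => hP.ts₂ _ (hf i)
  have hee : ∀ i j, P (e i) (e j) = 0 := fun i j => hP.iso₁ (heU i) (heU j)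
  have hff : ∀ i j, P (f i) (f j) = 0 := fun i j => hP.iso₂ (hf i) (hf j)
  have hefi : ∀ i, P (e i) (f i) = 1 := fun i => by rw [hef, if_pos rfl]
  have hv : ∀ i, Q (e i - f i) ≠ 0 := fun i => by
    rw [Q_sub_hyp _ _ (hQe i) (hQf i) (hefi i)]; exact neg_ne_zero.2 one_ne_zero
  have hQv : ∀ i, Q (e i - f i) = -1 := fun i => Q_sub_hyp _ _ (hQe i) (hQf i) (hefi i)
  -- orthogonality of `e i - f i` to the other basis vectors
  have hve : ∀ i j, j ≠ i → P (e i - f i) (e j) = 0 := by
    intro i j hji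
    rw [QuadraticMap.polar_sub_left, hee, P_comm Q (f i) (e j), hef, if_neg hji, sub_zero]
  have hvf : ∀ i j, j ≠ i → P (e i - f i) (f j) = 0 := by
    intro i j hji
    rw [QuadraticMap.polar_sub_left, hff, hef, if_neg (Ne.symm hji), sub_zero]
  obtain ⟨χ, hχ⟩ : ∃ χ : ↥(Cfsg.isometryGroup F ⇑Q) →* Abelianization ↥(Cfsg.isometryGroup F ⇑Q),
      χ = Abelianization.of := ⟨_, rfl⟩
  have hker : ∀ g, χ g = 1 ↔ g ∈ commutator ↥(Cfsg.isometryGroup F ⇑Q) := by
    intro g
    rw [hχ, ← MonoidHom.mem_ker, Abelianization.ker_of]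
  have hrr : ∀ i j, χ (reflEl Q (e i - f i) (hv i)) * χ (reflEl Q (e j - f j) (hv j)) = 1 := by
    intro i j
    rw [← map_mul, hker, comm_eq_S Q hQ hn]
    obtain ⟨h1, h2, h3⟩ := rel_all' Q hQ (by omega) (e i - f i) (e j - f j) (hv i) (by
      rw [hQv, hQv])
    exact h3
  have main : ∀ k' : ℕ, k' ≤ k → ∃ s : ↥(Cfsg.isometryGroup F ⇑Q),
      (Even k' → χ s = 1) ∧
      (Odd k' → ∀ j : Fin k, χ s * χ (reflEl Q (e j - f j) (hv j)) = 1) ∧
      (∀ j : Fin k, j.val < k' → act Q s (e j) = f j ∧ act Q s (f j) = e j) ∧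
      (∀ j : Fin k, k' ≤ j.val → act Q s (e j) = e j ∧ act Q s (f j) = f j) := by
    intro k'
    induction k' with
    | zero =>
      intro _
      refine ⟨1, fun _ => map_one χ, fun h => absurd h (by decide),
        fun j hj => absurd hj (Nat.not_lt_zero _), fun j _ => ⟨act_one Q _, act_one Q _⟩⟩
    | succ k' ih =>
      intro hk'
      obtain ⟨s, h1, h2, h3, h4⟩ := ih (by omega)
      obtain ⟨i, hi⟩ : ∃ i : Fin k, i.val = k' := ⟨⟨k', by omega⟩, rfl⟩
      refine ⟨reflEl Q (e i - f i) (hv i) * s, ?_, ?_, ?_, ?_⟩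
      · intro hev
        have hodd : Odd k' := by
          rw [Nat.even_add_one] at hev
          exact Nat.not_even_iff_odd.1 hev
        rw [map_mul, mul_comm]
        exact h2 hodd i
      · intro hodd j
        have hev : Even k' := by
          rw [Nat.odd_add_one] at hodd
          exact Nat.not_odd_iff_even.1 hodd
        rw [map_mul, h1 hev, mul_one]
        exact hrr i j
      · intro j hj
        rw [act_mul, act_mul]
        by_cases hji : j.val < k'
        · obtain ⟨a1, a2⟩ := h3 j hji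
          have hne : j ≠ i := fun h => by rw [h, hi] at hji; exact lt_irrefl _ hji
          rw [a1, a2]
          exact ⟨reflEl_act_of_polar_zero Q _ _ _ (hvf i j hne),
            reflEl_act_of_polar_zero Q _ _ _ (hve i j hne)⟩
        · have hji' : j = i := Fin.ext (by omega)
          rw [hji']
          obtain ⟨a1, a2⟩ := h4 i (by omega)
          rw [a1, a2]
          exact refl_swap _ _ (hQe i) (hQf i) (hefi i) (hv i)
      · intro j hj
        have hne : j ≠ i := fun h => by rw [h, hi] at hj; omega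
        obtain ⟨a1, a2⟩ := h4 j (by omega)
        rw [act_mul, act_mul, a1, a2]
        exact ⟨reflEl_act_of_polar_zero Q _ _ _ (hve i j hne),
          reflEl_act_of_polar_zero Q _ _ _ (hvf i j hne)⟩
  obtain ⟨s, h1, -, h3, -⟩ := main k le_rfl
  have hs : ∀ j : Fin k, act Q s (e j) = f j ∧ act Q s (f j) = e j := fun j => h3 j j.2
  -- every vector of `U₁` in terms of the basis
  have hrepr : ∀ x ∈ U₁, ∃ c : Fin k → F, x = ∑ j, c j • e j := by
    intro x hx
    refine ⟨fun j => b.repr ⟨x, hx⟩ j, ?_⟩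
    have := congrArg (fun z : U₁ => (z : Fin n → F)) (b.sum_repr ⟨x, hx⟩)
    simp only [Submodule.coe_sum, Submodule.coe_smul] at this
    exact this.symm.trans (Finset.sum_congr rfl (fun j _ => by rw [he]))
  have hact_sum : ∀ (c : Fin k → F) (v : Fin k → (Fin n → F)),
      act Q s (∑ j, c j • v j) = ∑ j, c j • act Q s (v j) := by
    intro c v
    unfold act
    rw [Matrix.mulVec_sum]
    apply Finset.sum_congr rfl
    intro j _
    rw [Matrix.mulVec_smul]
  have hs1 : ∀ x ∈ U₁, act Q s x ∈ U₂ := by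
    intro x hx
    obtain ⟨c, rfl⟩ := hrepr x hx
    rw [hact_sum]
    apply Submodule.sum_mem
    intro j _
    rw [(hs j).1]
    exact U₂.smul_mem _ (hf j)
  refine ⟨s, (hker s).1 (h1 hke), hs1, ?_⟩
  -- the image of `U₂` contains `U₁`, hence equals it
  have hle : U₁ ≤ U₂.map (Matrix.toLin' ((s : GL (Fin n) F) : Matrix (Fin n) (Fin n) F)) := by
    intro x hx
    obtain ⟨c, rfl⟩ := hrepr x hx
    refine ⟨∑ j, c j • f j, Submodule.sum_mem _ (fun j _ => U₂.smul_mem _ (hf j)), ?_⟩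
    rw [Matrix.toLin'_apply, act_def, hact_sum]
    apply Finset.sum_congr rfl
    intro j _
    rw [(hs j).2]
  have heq := Submodule.eq_of_le_of_finrank_eq hle (by rw [finrank_map_gl, hP.fr₁, hP.fr₂])
  intro y hy
  rw [heq]
  exact ⟨y, hy, by rw [Matrix.toLin'_apply, act_def]⟩

end Cfsg.Agent.Lib.H11.OmPair
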