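import Cfsg.Agent.Lib.H13.PlusSplit

set_option autoImplicit false
set_option linter.unusedSimpArgs false
set_option linter.unusedSectionVars false
set_option linter.unusedVariables false

namespace Cfsg.Agent.Lib.H11.OmPar

open Matrix Module QuadraticMap
open Cfsg.Agent.Lib.H13 Cfsg.Agent.Lib.H13.HypPairs Cfsg.Agent.Lib.H13.PlusTS Cfsg.Agent.Lib.H13.PlusLevi
  Cfsg.Agent.Lib.H13.MaxTS Cfsg.Agent.Lib.H13.PlusSplit

variable {F : Type*} [Field F] [Fintype F] {m : ℕ}

/-- elements of `Ω` have determinant one -/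
theorem det_eq_one_of_mem_comm {ι : Type} [Fintype ι] [DecidableEq ι] (Q : (ι → F) → F)
    (g : ↥(Cfsg.isometryGroup F Q)) (hg : g ∈ commutator ↥(Cfsg.isometryGroup F Q)) :
    ((g : GL ι F) : Matrix ι ι F).det = 1 := by
  let ψ : ↥(Cfsg.isometryGroup F Q) →* Fˣ :=
    (Matrix.GeneralLinearGroup.det).comp (Cfsg.isometryGroup F Q).subtype
  have h1 : g ∈ ψ.ker := Abelianization.commutator_subset_ker ψ hg
  rw [MonoidHom.mem_ker] at h1
  have h2 := congrArg Units.val h1
  simpa [ψ] using h2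

/-- odd characteristic version of `even_iff_mem_Omega_ts`: parity is detected by the determinant -/
theorem even_iff_det_ts (h2 : (2 : F) ≠ 0) (W : Submodule F (K m → F))
    (hW : finrank F W = m) (hW0 : ∀ w ∈ W, plusQF F m w = 0)
    (g : ↥(Cfsg.isometryGroup F ⇑(plusQF F m))) :
    Even (m - finrank F ↥(W ⊓ W.map
        (Matrix.mulVecLin ((g : GL (K m) F) : Matrix (K m) (K m) F)))) ↔
      ((g : GL (K m) F) : Matrix (K m) (K m) F).det = 1 := by
  obtain ⟨vs, hvs, -, hmap⟩ := exists_refl_list (plusQF F m) (U0 F m) U0_ts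
    (fun x hx => U0_perp x hx) _ W hW0 (by rw [hW, finrank_U0]) rfl
  have hvs' : ∀ v ∈ vs, plusQF F m v ≠ 0 := fun v hv => by rw [hvs v hv]; exact one_ne_zero
  obtain ⟨a, ha⟩ := exists_of_list (plusQF F m) vs hvs'
  rw [← ha] at hmap
  have h1 : (U0 F m).map (Matrix.mulVecLin (((a * g * a⁻¹ :
      ↥(Cfsg.isometryGroup F ⇑(plusQF F m))) : GL (K m) F) : Matrix (K m) (K m) F)) =
      (W.map (Matrix.mulVecLin ((g : GL (K m) F) : Matrix (K m) (K m) F))).map
        (Matrix.mulVecLin ((a : GL (K m) F) : Matrix (K m) (K m) F)) := by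
    rw [map_mul', map_mul']
    congr 2
    rw [← hmap, ← map_mul', inv_mul_cancel, map_one']
  have h2' : U0 F m ⊓ (U0 F m).map (Matrix.mulVecLin (((a * g * a⁻¹ :
      ↥(Cfsg.isometryGroup F ⇑(plusQF F m))) : GL (K m) F) : Matrix (K m) (K m) F)) =
      (W ⊓ W.map (Matrix.mulVecLin ((g : GL (K m) F) : Matrix (K m) (K m) F))).map
        (Matrix.mulVecLin ((a : GL (K m) F) : Matrix (K m) (K m) F)) := by
    rw [h1, Submodule.map_inf _ (mulVecLin_injective _ a), hmap]
  have key := PlusTS.even_iff_det (F := F) (m := m) h2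
  rw [← Cfsg.Agent.S0287.coe_plusQF] at key
  have h3 := key (a * g * a⁻¹)
  rw [h2', finrank_map'] at h3
  rw [h3]
  have hdet : ((((a * g * a⁻¹ : ↥(Cfsg.isometryGroup F ⇑(plusQF F m))) : GL (K m) F)) :
      Matrix (K m) (K m) F).det = ((g : GL (K m) F) : Matrix (K m) (K m) F).det := by
    have e1 : ((((a * g * a⁻¹ : ↥(Cfsg.isometryGroup F ⇑(plusQF F m))) : GL (K m) F)) :
      Matrix (K m) (K m) F) = ((a : GL (K m) F) : Matrix (K m) (K m) F) *
        ((g : GL (K m) F) : Matrix (K m) (K m) F) *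
        (((a⁻¹ : ↥(Cfsg.isometryGroup F ⇑(plusQF F m))) : GL (K m) F) : Matrix (K m) (K m) F) := rfl
    have e2 : ((a : GL (K m) F) : Matrix (K m) (K m) F) *
        (((a⁻¹ : ↥(Cfsg.isometryGroup F ⇑(plusQF F m))) : GL (K m) F) : Matrix (K m) (K m) F) = 1 := by
      rw [← Units.val_mul, ← Subgroup.coe_mul, mul_inv_cancel]
      rfl
    have e3 : ((a : GL (K m) F) : Matrix (K m) (K m) F).det *
        ((((a⁻¹ : ↥(Cfsg.isometryGroup F ⇑(plusQF F m))) : GL (K m) F) : Matrix (K m) (K m) F)).det = 1 := by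
      rw [← Matrix.det_mul, e2, Matrix.det_one]
    rw [e1, Matrix.det_mul, Matrix.det_mul]
    linear_combination (((g : GL (K m) F) : Matrix (K m) (K m) F).det) * e3
  rw [hdet]

/-- for the standard hyperbolic form: elements of `Ω` move a maximal totally singular
subspace to one in the same family -/
theorem even_of_mem_Omega_std (h : Fintype.card F ≠ 2 ∨ m ≠ 2) (W : Submodule F (K m → F))
    (hW : finrank F W = m) (hW0 : ∀ w ∈ W, plusQF F m w = 0)
    (g : ↥(Cfsg.isometryGroup F ⇑(plusQF F m)))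
    (hg : g ∈ commutator ↥(Cfsg.isometryGroup F ⇑(plusQF F m))) :
    Even (m - finrank F ↥(W ⊓ W.map
        (Matrix.mulVecLin ((g : GL (K m) F) : Matrix (K m) (K m) F)))) := by
  by_cases h2 : (2 : F) = 0
  · have : CharP F 2 := CharTwo.of_one_ne_zero_of_two_eq_zero one_ne_zero h2
    exact (even_iff_mem_Omega_ts h W hW hW0 g).2 hg
  · exact (even_iff_det_ts h2 W hW hW0 g).2 (det_eq_one_of_mem_comm _ g hg)

end Cfsg.Agent.Lib.H11.OmPar
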