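import Cfsg.Agent.Lib.H11.OmPar1
import Cfsg.Agent.Lib.H11.IsoReindex

set_option autoImplicit false
set_option linter.unusedSimpArgs false
set_option linter.unusedSectionVars false
set_option linter.unusedVariables false

namespace Cfsg.Agent.Lib.H11.OmPar

open Matrix Module QuadraticMap

section conj

variable {F : Type*} [Field F] {ι κ : Type} [Fintype ι] [DecidableEq ι] [Fintype κ] [DecidableEq κ]

/-- matrix of a linear equivalence between coordinate spaces -/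
noncomputable def cmat (φ : (ι → F) ≃ₗ[F] (κ → F)) : Matrix κ ι F :=
  LinearMap.toMatrix' (φ : (ι → F) →ₗ[F] (κ → F))

theorem cmat_mulVec (φ : (ι → F) ≃ₗ[F] (κ → F)) (x : ι → F) : cmat φ *ᵥ x = φ x := by
  unfold cmat
  rw [LinearMap.toMatrix'_mulVec]
  rfl

theorem cmat_mul_symm (φ : (ι → F) ≃ₗ[F] (κ → F)) : cmat φ * cmat φ.symm = 1 := by
  unfold cmat
  rw [← LinearMap.toMatrix'_comp, ← LinearMap.toMatrix'_id]
  congr 1
  ext x : 1
  simp

theorem cmat_symm_mul (φ : (ι → F) ≃ₗ[F] (κ → F)) : cmat φ.symm * cmat φ = 1 := by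
  have := cmat_mul_symm φ.symm
  rwa [LinearEquiv.symm_symm] at this

/-- conjugation of `GL` by a linear equivalence of coordinate spaces -/
noncomputable def conjGL (φ : (ι → F) ≃ₗ[F] (κ → F)) : GL ι F →* GL κ F where
  toFun g := ⟨cmat φ * (g : Matrix ι ι F) * cmat φ.symm,
    cmat φ * ((g⁻¹ : GL ι F) : Matrix ι ι F) * cmat φ.symm, by
      rw [Matrix.mul_assoc (cmat φ * (g : Matrix ι ι F)), ← Matrix.mul_assoc (cmat φ.symm),
        ← Matrix.mul_assoc (cmat φ.symm), cmat_symm_mul, Matrix.one_mul,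
        Matrix.mul_assoc (cmat φ), ← Matrix.mul_assoc (g : Matrix ι ι F), ← Units.val_mul,
        mul_inv_cancel, Units.val_one, Matrix.one_mul, cmat_mul_symm], by
      rw [Matrix.mul_assoc (cmat φ * ((g⁻¹ : GL ι F) : Matrix ι ι F)),
        ← Matrix.mul_assoc (cmat φ.symm),
        ← Matrix.mul_assoc (cmat φ.symm), cmat_symm_mul, Matrix.one_mul,
        Matrix.mul_assoc (cmat φ), ← Matrix.mul_assoc ((g⁻¹ : GL ι F) : Matrix ι ι F),
        ← Units.val_mul, inv_mul_cancel, Units.val_one, Matrix.one_mul, cmat_mul_symm]⟩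
  map_one' := by
    apply Units.ext
    show cmat φ * ((1 : GL ι F) : Matrix ι ι F) * cmat φ.symm = 1
    rw [Units.val_one, Matrix.mul_one, cmat_mul_symm]
  map_mul' g h := by
    apply Units.ext
    show cmat φ * ((g * h : GL ι F) : Matrix ι ι F) * cmat φ.symm =
      (cmat φ * (g : Matrix ι ι F) * cmat φ.symm) * (cmat φ * (h : Matrix ι ι F) * cmat φ.symm)
    rw [Matrix.mul_assoc (cmat φ * (g : Matrix ι ι F)), ← Matrix.mul_assoc (cmat φ.symm),
      ← Matrix.mul_assoc (cmat φ.symm), cmat_symm_mul, Matrix.one_mul, Units.val_mul]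
    simp only [Matrix.mul_assoc]

theorem conjGL_val (φ : (ι → F) ≃ₗ[F] (κ → F)) (g : GL ι F) :
    ((conjGL φ g : GL κ F) : Matrix κ κ F) = cmat φ * (g : Matrix ι ι F) * cmat φ.symm := rfl

theorem conjGL_mulVec (φ : (ι → F) ≃ₗ[F] (κ → F)) (g : GL ι F) (x : ι → F) :
    ((conjGL φ g : GL κ F) : Matrix κ κ F) *ᵥ (φ x) = φ ((g : Matrix ι ι F) *ᵥ x) := by
  rw [conjGL_val, ← Matrix.mulVec_mulVec, ← Matrix.mulVec_mulVec, cmat_mulVec, cmat_mulVec,
    LinearEquiv.symm_apply_apply]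

theorem conjGL_mem_iso (φ : (ι → F) ≃ₗ[F] (κ → F)) (Q : (ι → F) → F) (Q' : (κ → F) → F)
    (hφ : ∀ x, Q' (φ x) = Q x) (g : GL ι F) (hg : g ∈ Cfsg.isometryGroup F Q) :
    conjGL φ g ∈ Cfsg.isometryGroup F Q' := by
  rw [Cfsg.Agent.Lib.H11.IsoReindex.mem_iso_iff'] at hg ⊢
  intro y
  obtain ⟨x, rfl⟩ := φ.surjective y
  show Q' (((conjGL φ g : GL κ F) : Matrix κ κ F) *ᵥ (φ x)) = _
  rw [conjGL_mulVec, hφ, hφ, hg]

/-- the induced homomorphism of isometry groups -/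
noncomputable def isoHom (φ : (ι → F) ≃ₗ[F] (κ → F)) (Q : (ι → F) → F) (Q' : (κ → F) → F)
    (hφ : ∀ x, Q' (φ x) = Q x) : ↥(Cfsg.isometryGroup F Q) →* ↥(Cfsg.isometryGroup F Q') where
  toFun g := ⟨conjGL φ (g : GL ι F), conjGL_mem_iso φ Q Q' hφ _ g.2⟩
  map_one' := by
    apply Subtype.ext
    show conjGL φ ((1 : ↥(Cfsg.isometryGroup F Q)) : GL ι F) = 1
    rw [Subgroup.coe_one, map_one]
  map_mul' g h := by
    apply Subtype.ext
    show conjGL φ ((g * h : ↥(Cfsg.isometryGroup F Q)) : GL ι F) =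
      conjGL φ (g : GL ι F) * conjGL φ (h : GL ι F)
    rw [Subgroup.coe_mul, map_mul]

theorem isoHom_mulVec (φ : (ι → F) ≃ₗ[F] (κ → F)) (Q : (ι → F) → F) (Q' : (κ → F) → F)
    (hφ : ∀ x, Q' (φ x) = Q x) (g : ↥(Cfsg.isometryGroup F Q)) (x : ι → F) :
    ((isoHom φ Q Q' hφ g : GL κ F) : Matrix κ κ F) *ᵥ (φ x) =
      φ (((g : GL ι F) : Matrix ι ι F) *ᵥ x) :=
  conjGL_mulVec φ _ x

theorem isoHom_mem_comm (φ : (ι → F) ≃ₗ[F] (κ → F)) (Q : (ι → F) → F) (Q' : (κ → F) → F)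
    (hφ : ∀ x, Q' (φ x) = Q x) (g : ↥(Cfsg.isometryGroup F Q))
    (hg : g ∈ commutator ↥(Cfsg.isometryGroup F Q)) :
    isoHom φ Q Q' hφ g ∈ commutator ↥(Cfsg.isometryGroup F Q') := by
  have h1 : (commutator ↥(Cfsg.isometryGroup F Q)).map (isoHom φ Q Q' hφ) ≤
      commutator ↥(Cfsg.isometryGroup F Q') := by
    rw [commutator_def, commutator_def, Subgroup.map_commutator]
    exact Subgroup.commutator_mono le_top le_top
  exact h1 (Subgroup.mem_map_of_mem _ hg)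

/-- image of a subspace under the conjugated element -/
theorem map_isoHom (φ : (ι → F) ≃ₗ[F] (κ → F)) (Q : (ι → F) → F) (Q' : (κ → F) → F)
    (hφ : ∀ x, Q' (φ x) = Q x) (g : ↥(Cfsg.isometryGroup F Q)) (T : Submodule F (ι → F)) :
    (T.map (φ : (ι → F) →ₗ[F] (κ → F))).map
        (Matrix.mulVecLin ((isoHom φ Q Q' hφ g : GL κ F) : Matrix κ κ F)) =
      (T.map (Matrix.mulVecLin ((g : GL ι F) : Matrix ι ι F))).map
        (φ : (ι → F) →ₗ[F] (κ → F)) := by
  rw [← Submodule.map_comp, ← Submodule.map_comp]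
  congr 1
  apply LinearMap.ext
  intro x
  rw [LinearMap.comp_apply, LinearMap.comp_apply, Matrix.mulVecLin_apply, Matrix.mulVecLin_apply]
  exact isoHom_mulVec φ Q Q' hφ g x

end conj

end Cfsg.Agent.Lib.H11.OmPar
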