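import Cfsg.Agent.Lib.H11.OmTs3

set_option autoImplicit false
set_option linter.unusedSimpArgs false
set_option linter.unusedSectionVars false
set_option linter.unusedVariables false

namespace Cfsg.Agent.Lib.H11.OmTs

open Matrix Module
open Cfsg.Agent.Lib.H28 Cfsg.Agent.Lib.H11.SubspMax
open Cfsg.Agent.Lib.H11.CD Cfsg.Agent.Lib.H11.SiegelGen Cfsg.Agent.Lib.H11.OrMax

variable {F : Type*} [Field F] {n : ℕ} (Q : QuadraticForm F (Fin n → F))

set_option quotPrecheck false in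
local notation "P" => QuadraticMap.polar (⇑Q)

/-- the stabiliser of a totally singular subspace is a proper subgroup of `Ω` -/
theorem ts_lt [Fintype F] (hQ : (QuadraticMap.polarBilin Q).Nondegenerate) (hn : 7 ≤ n)
    (W : Submodule F (Fin n → F)) (hW0 : W ≠ ⊥) (hW : ∀ w ∈ W, Q w = 0) :
    Cfsg.Geo.subspaceStabilizer W ⊓ Cfsg.Geo.omegaGL (⇑Q) < Cfsg.Geo.omegaGL (⇑Q) := by
  refine lt_of_le_of_ne inf_le_right ?_
  intro heq
  obtain ⟨w, hwW, hw0⟩ := Submodule.exists_mem_ne_zero_of_ne_bot hW0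
  obtain ⟨f, hQf, hwf⟩ := Cfsg.Agent.Lib.H13.exists_hyperbolic_pair Q hQ w hw0 (hW w hwW)
  obtain ⟨y, hy, hQy⟩ := exists_nonsing_ker Q hQ ![fr Q f, fr Q w] (by omega)
  have hfy : P f y = 0 := hy 0
  have hwy : P w y = 0 := hy 1
  have hmem : ((sg Q f y : ↥(Cfsg.isometryGroup F ⇑Q)) : GL (Fin n) F) ∈
      Cfsg.Geo.subspaceStabilizer W ⊓ Cfsg.Geo.omegaGL (⇑Q) := by
    rw [heq]
    exact coe_mem_omegaGL Q _ (sg_mem_comm Q hQ hn f y hQf hfy)
  have h1 := ((mem_subspaceStabilizer_iff _ W).1 hmem.1 w).1 hwW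
  rw [act_def, sg_act Q f y hQf hfy, P_comm Q y w, hwy, P_comm Q f w, hwf, one_smul, zero_smul,
    sub_zero, mul_one] at h1
  have h2 := P_eq_zero_of_ts Q hW hwW h1
  rw [QuadraticMap.polar_sub_right, QuadraticMap.polar_add_right,
    QuadraticMap.polar_smul_right, P_self, hW w hwW, hwy, hwf] at h2
  apply hQy
  simpa using h2

/-- the stabiliser of a totally singular subspace is maximal in `Ω`, except for
`(n/2 - 1)`-spaces in plus type -/
theorem ts_maximal [Fintype F] (hQ : (QuadraticMap.polarBilin Q).Nondegenerate) (hn : 7 ≤ n)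
    (W : Submodule F (Fin n → F)) (hW0 : W ≠ ⊥) (hW : ∀ w ∈ W, Q w = 0)
    (hex : 2 * (finrank F W + 1) = n →
      ¬ ∃ T : Submodule F (Fin n → F), (∀ t ∈ T, Q t = 0) ∧ 2 * finrank F T = n) :
    Cfsg.Geo.IsMaximalIn (Cfsg.Geo.omegaGL (⇑Q))
      (Cfsg.Geo.subspaceStabilizer W ⊓ Cfsg.Geo.omegaGL (⇑Q)) := by
  refine ⟨ts_lt Q hQ hn W hW0 hW, ?_⟩
  intro M hNM hMS
  by_cases hMN : M = Cfsg.Geo.subspaceStabilizer W ⊓ Cfsg.Geo.omegaGL (⇑Q)
  · left; exact hMN
  right
  apply le_antisymm hMS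
  obtain ⟨h, hhM, hhN⟩ : ∃ h ∈ M, h ∉ Cfsg.Geo.subspaceStabilizer W := by
    by_contra hcon
    push Not at hcon
    apply hMN
    apply le_antisymm _ hNM
    intro g hg
    exact ⟨hcon g hg, hMS hg⟩
  obtain ⟨g₀, hg₀, rfl⟩ := exists_of_mem_omegaGL Q h (hMS hhM)
  obtain ⟨w, hwW, hw⟩ : ∃ w ∈ W, act Q g₀ w ∉ W := by
    by_contra hcon
    push Not at hcon
    exact hhN (stab_of_le (fun w hw => hcon w hw))
  have hWC : ∀ u ∈ W, u ∈ Cen Q M := fun u hu =>
    Cen_mono Q hNM (mem_Cen_of_ts Q hQ hn W hW u hu)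
  obtain ⟨u', hu'⟩ : ∃ u', u' = act Q g₀ w := ⟨_, rfl⟩
  rw [← hu'] at hw
  have hu'C : u' ∈ Cen Q M := by
    rw [hu']; exact Cen_act Q M (hWC w hwW) g₀ hhM
  have hQu' : Q u' = 0 := hu'C.1
  apply omega_le_of_Cen Q M hQ hn
  by_cases hc : ∃ w₁ ∈ W, P u' w₁ ≠ 0
  · obtain ⟨w₁, hw₁, hne⟩ := hc
    exact fun z hz => Cen_all Q M hQ (hWC w₁ hw₁) hu'C hne z hz
  push Not at hc
  -- the vector a
  obtain ⟨φ, hφ0, hφ1⟩ := Submodule.exists_le_ker_of_notMem hw
  obtain ⟨a₀, rfl⟩ := OrMax.exists_fr Q hQ φ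
  have ha₀u' : P a₀ u' ≠ 0 := hφ0
  have ha₀W : ∀ w₁ ∈ W, P a₀ w₁ = 0 := fun w₁ hw₁ => hφ1 hw₁
  obtain ⟨a₁, ha₁⟩ : ∃ a₁, a₁ = (P a₀ u')⁻¹ • a₀ := ⟨_, rfl⟩
  have ha₁u' : P a₁ u' = 1 := by
    rw [ha₁, QuadraticMap.polar_smul_left, smul_eq_mul, inv_mul_cancel₀ ha₀u']
  have ha₁W : ∀ w₁ ∈ W, P a₁ w₁ = 0 := fun w₁ hw₁ => by
    rw [ha₁, QuadraticMap.polar_smul_left, ha₀W w₁ hw₁, smul_zero]
  obtain ⟨a, ha⟩ : ∃ a, a = a₁ - Q a₁ • u' := ⟨_, rfl⟩
  have hQa : Q a = 0 := by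
    rw [ha, Q_sub', QuadraticMap.map_smul, hQu', QuadraticMap.polar_smul_right, ha₁u']
    simp
  have hau' : P a u' = 1 := by
    rw [ha, QuadraticMap.polar_sub_left, QuadraticMap.polar_smul_left, P_self, hQu', ha₁u']
    simp
  have haW : ∀ w₁ ∈ W, P a w₁ = 0 := fun w₁ hw₁ => by
    rw [ha, QuadraticMap.polar_sub_left, QuadraticMap.polar_smul_left, ha₁W w₁ hw₁, hc w₁ hw₁]
    simp
  -- the vector y
  obtain ⟨y, hyW, hya, hyu', hQy⟩ : ∃ y, (∀ w₁ ∈ W, P w₁ y = 0) ∧ P a y = 0 ∧ P u' y = 0 ∧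
      Q y ≠ 0 := by
    by_contra hcon
    push Not at hcon
    obtain ⟨U, hU⟩ : ∃ U : Submodule F (Fin n → F),
        U = LinearMap.BilinForm.orthogonal (QuadraticMap.polarBilin Q) W ⊓
          LinearMap.ker (fr Q a) ⊓ LinearMap.ker (fr Q u') := ⟨_, rfl⟩
    have hUmem : ∀ x, x ∈ U ↔ ((∀ w₁ ∈ W, P w₁ x = 0) ∧ P a x = 0 ∧ P u' x = 0) := by
      intro x
      rw [hU, Submodule.mem_inf, Submodule.mem_inf, LinearMap.BilinForm.mem_orthogonal_iff,
        LinearMap.mem_ker, LinearMap.mem_ker, fr_apply, fr_apply, and_assoc]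
      rfl
    have hUts : ∀ x ∈ U, Q x = 0 := by
      intro x hx
      obtain ⟨h1, h2, h3⟩ := (hUmem x).1 hx
      exact hcon x h1 h2 h3
    have hUrank : n ≤ finrank F U + finrank F W + 2 := by
      have h1 := LinearMap.BilinForm.finrank_orthogonal hQ W
      rw [Module.finrank_fin_fun] at h1
      have h2 := finrank_inf_ker
        (LinearMap.BilinForm.orthogonal (QuadraticMap.polarBilin Q) W) (fr Q a)
      have h3 := finrank_inf_ker
        (LinearMap.BilinForm.orthogonal (QuadraticMap.polarBilin Q) W ⊓ LinearMap.ker (fr Q a))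
        (fr Q u')
      rw [← hU] at h3
      omega
    -- T = U + <a>
    have haU : a ∉ U := by
      intro hmem
      have := ((hUmem a).1 hmem).2.2
      rw [P_comm, hau'] at this
      exact one_ne_zero this
    have hTts : ∀ t ∈ U ⊔ Submodule.span F {a}, Q t = 0 := by
      intro t ht
      rw [Submodule.mem_sup] at ht
      obtain ⟨x, hx, s, hs, rfl⟩ := ht
      rw [Submodule.mem_span_singleton] at hs
      obtain ⟨c, rfl⟩ := hs
      rw [Q_add, hUts x hx, QuadraticMap.map_smul, hQa, QuadraticMap.polar_smul_right, P_comm,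
        ((hUmem x).1 hx).2.1]
      simp
    have hTrank : finrank F U + 1 ≤ finrank F (U ⊔ Submodule.span F {a} : Submodule F (Fin n → F)) := by
      have hlt : U < U ⊔ Submodule.span F {a} := by
        refine lt_of_le_of_ne le_sup_left ?_
        intro heq
        apply haU
        rw [heq]
        exact Submodule.mem_sup_right (Submodule.mem_span_singleton_self a)
      have := Submodule.finrank_lt_finrank_of_lt hlt
      omega
    -- T' = W + <u'>
    have hT'ts : ∀ t ∈ W ⊔ Submodule.span F {u'}, Q t = 0 := by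
      intro t ht
      rw [Submodule.mem_sup] at ht
      obtain ⟨x, hx, s, hs, rfl⟩ := ht
      rw [Submodule.mem_span_singleton] at hs
      obtain ⟨c, rfl⟩ := hs
      rw [Q_add, hW x hx, QuadraticMap.map_smul, hQu', QuadraticMap.polar_smul_right, P_comm,
        hc x hx]
      simp
    have hT'rank : finrank F W + 1 ≤
        finrank F (W ⊔ Submodule.span F {u'} : Submodule F (Fin n → F)) := by
      have hlt : W < W ⊔ Submodule.span F {u'} := by
        refine lt_of_le_of_ne le_sup_left ?_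
        intro heq
        apply hw
        rw [heq]
        exact Submodule.mem_sup_right (Submodule.mem_span_singleton_self u')
      have := Submodule.finrank_lt_finrank_of_lt hlt
      omega
    have b1 := ts_le_half Q hQ _ hTts
    have b2 := ts_le_half Q hQ _ hT'ts
    have e1 : 2 * (finrank F W + 1) = n := by omega
    exact hex e1 ⟨_, hTts, by omega⟩
  -- the Siegel element
  have hgP : ((sg Q a y : ↥(Cfsg.isometryGroup F ⇑Q)) : GL (Fin n) F) ∈ M := by
    apply hNM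
    refine ⟨?_, coe_mem_omegaGL Q _ (sg_mem_comm Q hQ hn a y hQa hya)⟩
    apply stab_of_le
    intro w₁ hw₁
    rw [act_def, sg_act Q a y hQa hya, haW w₁ hw₁, P_comm Q y w₁, hyW w₁ hw₁]
    simpa using hw₁
  have hu''C := Cen_act Q M hu'C (sg Q a y) hgP
  have hne : P u' (act Q (sg Q a y) u') ≠ 0 := by
    rw [sg_act Q a y hQa hya, hau', P_comm Q y u', hyu']
    rw [QuadraticMap.polar_sub_right, QuadraticMap.polar_sub_right, QuadraticMap.polar_add_right,
      QuadraticMap.polar_smul_right, QuadraticMap.polar_smul_right, QuadraticMap.polar_smul_right,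
      P_self, hQu', hyu', P_comm Q u' a, hau']
    simpa using hQy
  exact fun z hz => Cen_all Q M hQ hu''C hu'C hne z hz

end Cfsg.Agent.Lib.H11.OmTs
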