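import Cfsg.Agent.Lib.H11.OmPar2
import Cfsg.Agent.Lib.H11.OmTs4
import Cfsg.Agent.Lib.H13.OrthEmbed

set_option autoImplicit false
set_option linter.unusedSimpArgs false
set_option linter.unusedSectionVars false
set_option linter.unusedVariables false

namespace Cfsg.Agent.Lib.H11.OmPar

open Matrix Module
open Cfsg.Agent.Lib.H28 Cfsg.Agent.Lib.H11.SubspMax
open Cfsg.Agent.Lib.H11.CD Cfsg.Agent.Lib.H11.SiegelGen Cfsg.Agent.Lib.H11.OrMax
open Cfsg.Agent.Lib.H11.OmTs Cfsg.Agent.Lib.H13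

variable {F : Type*} [Field F] {n : ℕ} (Q : QuadraticForm F (Fin n → F))

set_option quotPrecheck false in
local notation "P" => QuadraticMap.polar (⇑Q)

/-- `Ω` preserves the two families of maximal totally singular subspaces -/
theorem even_of_mem_omega [Fintype F] (hQ : (QuadraticMap.polarBilin Q).Nondegenerate) {m : ℕ}
    (hn : n = 2 * m) (hm : 3 ≤ m) (T : Submodule F (Fin n → F)) (hT : ∀ t ∈ T, Q t = 0)
    (hdim : finrank F T = m) (g : ↥(Cfsg.isometryGroup F ⇑Q))
    (hg : g ∈ commutator ↥(Cfsg.isometryGroup F ⇑Q)) :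
    Even (m - finrank F ↥(T ⊓ T.map
      (Matrix.mulVecLin ((g : GL (Fin n) F) : Matrix (Fin n) (Fin n) F)))) := by
  have hV : finrank F (Fin n → F) = 2 * m := by
    rw [Module.finrank_fintype_fun_eq_card, Fintype.card_fin, hn]
  obtain ⟨b, hb⟩ := exists_plus_basis Q hQ hV T (by omega) hT
  obtain ⟨φ, hφdef⟩ : ∃ φ : (Fin n → F) ≃ₗ[F] (Fin m ⊕ Fin m → F), φ = b.equivFun := ⟨_, rfl⟩
  have hφ : ∀ x, (plusQF F m) (φ x) = Q x := by
    intro x
    rw [plusQF_apply, hφdef, ← hb]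
  have h1 := even_of_mem_Omega_std (F := F) (m := m) (Or.inr (by omega))
    (T.map (φ : (Fin n → F) →ₗ[F] (Fin m ⊕ Fin m → F)))
    (by rw [LinearEquiv.finrank_map_eq φ T, hdim])
    (by
      rintro w ⟨t, ht, rfl⟩
      show (plusQF F m) (φ t) = 0
      rw [hφ]; exact hT t ht)
    (isoHom φ ⇑Q ⇑(plusQF F m) hφ g) (isoHom_mem_comm φ _ _ hφ g hg)
  rw [map_isoHom, ← Submodule.map_inf _ φ.injective, LinearEquiv.finrank_map_eq φ] at h1
  exact h1

/-- a totally singular subspace of half dimension is its own orthogonal -/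
theorem orth_le_of_max (hQ : (QuadraticMap.polarBilin Q).Nondegenerate) {m : ℕ}
    (hn : n = 2 * m) (T : Submodule F (Fin n → F)) (hT : ∀ t ∈ T, Q t = 0)
    (hdim : finrank F T = m) :
    LinearMap.BilinForm.orthogonal (QuadraticMap.polarBilin Q) T ≤ T := by
  have hle : T ≤ LinearMap.BilinForm.orthogonal (QuadraticMap.polarBilin Q) T := by
    intro x hx
    rw [LinearMap.BilinForm.mem_orthogonal_iff]
    intro y hy
    show (QuadraticMap.polarBilin Q) y x = 0
    rw [QuadraticMap.polarBilin_apply_apply]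
    exact P_eq_zero_of_ts Q hT hy hx
  have h1 := LinearMap.BilinForm.finrank_orthogonal hQ T
  rw [Module.finrank_fin_fun] at h1
  have h2 : finrank F ↥(LinearMap.BilinForm.orthogonal (QuadraticMap.polarBilin Q) T) =
      finrank F T := by omega
  exact le_of_eq (Submodule.eq_of_le_of_finrank_eq hle h2.symm).symm

/-- every totally singular subspace lies in a totally singular subspace of half dimension,
in plus type -/
theorem exists_max_ts_ge (hQ : (QuadraticMap.polarBilin Q).Nondegenerate) {m : ℕ}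
    (hn : n = 2 * m) (T₀ : Submodule F (Fin n → F)) (hT₀ : ∀ t ∈ T₀, Q t = 0)
    (hdim₀ : finrank F T₀ = m) (W : Submodule F (Fin n → F)) (hW : ∀ w ∈ W, Q w = 0) :
    ∃ T : Submodule F (Fin n → F), W ≤ T ∧ (∀ t ∈ T, Q t = 0) ∧ finrank F T = m := by
  obtain ⟨Y, hY⟩ : ∃ Y, Y = LinearMap.BilinForm.orthogonal (QuadraticMap.polarBilin Q) (T₀ ⊔ W) :=
    ⟨_, rfl⟩
  have hYT : Y ≤ T₀ := by
    intro x hx
    apply orth_le_of_max Q hQ hn T₀ hT₀ hdim₀
    rw [hY, LinearMap.BilinForm.mem_orthogonal_iff] at hx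
    rw [LinearMap.BilinForm.mem_orthogonal_iff]
    intro y hy
    exact hx y (Submodule.mem_sup_left hy)
  have hYW : ∀ y ∈ Y, ∀ w ∈ W, P w y = 0 := by
    intro y hy w hw
    rw [hY, LinearMap.BilinForm.mem_orthogonal_iff] at hy
    have := hy w (Submodule.mem_sup_right hw)
    rwa [QuadraticMap.polarBilin_apply_apply] at this
  have hts : ∀ t ∈ W ⊔ Y, Q t = 0 := by
    intro t ht
    obtain ⟨w, hw, y, hy, rfl⟩ := Submodule.mem_sup.1 ht
    rw [Q_add, hW w hw, hT₀ y (hYT hy), hYW y hy w hw]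
    simp
  refine ⟨W ⊔ Y, le_sup_left, hts, ?_⟩
  have hle := ts_le_half Q hQ (W ⊔ Y) hts
  have h1 := LinearMap.BilinForm.finrank_orthogonal hQ (T₀ ⊔ W)
  rw [Module.finrank_fin_fun, ← hY] at h1
  have h2 := Submodule.finrank_sup_add_finrank_inf_eq T₀ W
  have h3 := Submodule.finrank_sup_add_finrank_inf_eq W Y
  have h4 : finrank F ↥(W ⊓ Y) ≤ finrank F ↥(T₀ ⊓ W) :=
    Submodule.finrank_mono (by
      intro x hx
      exact ⟨hYT hx.2, hx.1⟩)
  have h5 : finrank F ↥(T₀ ⊔ W) ≤ n := by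
    have := Submodule.finrank_le (T₀ ⊔ W)
    rwa [Module.finrank_fin_fun] at this
  omega

end Cfsg.Agent.Lib.H11.OmPar
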