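import Cfsg.Agent.Lib.H11.OmPar3

set_option autoImplicit false
set_option linter.unusedSimpArgs false
set_option linter.unusedSectionVars false
set_option linter.unusedVariables false

namespace Cfsg.Agent.Lib.H11.OmPar

open Matrix Module
open Cfsg.Agent.Lib.H28 Cfsg.Agent.Lib.H11.SubspMax
open Cfsg.Agent.Lib.H11.CD Cfsg.Agent.Lib.H11.SiegelGen Cfsg.Agent.Lib.H11.OrMax
open Cfsg.Agent.Lib.H11.OmTs Cfsg.Agent.Lib.H13

variable {F : Type*} [Field F] {n : ℕ} (Q : QuadraticForm F (Fin n → F))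

set_option quotPrecheck false in
local notation "P" => QuadraticMap.polar (⇑Q)

/-- an element of `Ω` which moves a maximal totally singular `T` to a subspace meeting it in
codimension at most one stabilises `T` -/
theorem stab_of_codim_le_one [Fintype F] (hQ : (QuadraticMap.polarBilin Q).Nondegenerate) {m : ℕ}
    (hn : n = 2 * m) (hm : 3 ≤ m) (T : Submodule F (Fin n → F)) (hT : ∀ t ∈ T, Q t = 0)
    (hdim : finrank F T = m) (g : ↥(Cfsg.isometryGroup F ⇑Q))
    (hg : g ∈ commutator ↥(Cfsg.isometryGroup F ⇑Q))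
    (hcod : m ≤ finrank F ↥(T ⊓ T.map
      (Matrix.mulVecLin ((g : GL (Fin n) F) : Matrix (Fin n) (Fin n) F))) + 1) :
    (g : GL (Fin n) F) ∈ Cfsg.Geo.subspaceStabilizer T := by
  have hpar := even_of_mem_omega Q hQ hn hm T hT hdim g hg
  have hle : finrank F ↥(T ⊓ T.map
      (Matrix.mulVecLin ((g : GL (Fin n) F) : Matrix (Fin n) (Fin n) F))) ≤ finrank F T :=
    Submodule.finrank_mono inf_le_left
  have hd : finrank F ↥(T ⊓ T.map
      (Matrix.mulVecLin ((g : GL (Fin n) F) : Matrix (Fin n) (Fin n) F))) = finrank F T := by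
    rcases Nat.even_or_odd' (m - finrank F ↥(T ⊓ T.map
      (Matrix.mulVecLin ((g : GL (Fin n) F) : Matrix (Fin n) (Fin n) F)))) with ⟨c, hc | hc⟩
    · omega
    · exfalso
      rw [hc] at hpar
      exact (Nat.not_even_iff_odd.2 ⟨c, rfl⟩) hpar
  have hle' : T ⊓ T.map
      (Matrix.mulVecLin ((g : GL (Fin n) F) : Matrix (Fin n) (Fin n) F)) ≤ T := inf_le_left
  have heq := Submodule.eq_of_le_of_finrank_eq hle' hd
  have hTle : T ≤ T.map (Matrix.mulVecLin ((g : GL (Fin n) F) : Matrix (Fin n) (Fin n) F)) := by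
    intro t ht
    have h3 : t ∈ T ⊓ T.map
        (Matrix.mulVecLin ((g : GL (Fin n) F) : Matrix (Fin n) (Fin n) F)) := by
      rw [heq]; exact ht
    exact h3.2
  have hinv : ((g : GL (Fin n) F))⁻¹ ∈ Cfsg.Geo.subspaceStabilizer T := by
    apply stab_of_le
    intro t ht
    obtain ⟨s, hs, hst⟩ := hTle ht
    rw [Matrix.mulVecLin_apply] at hst
    rw [← hst, gl_inv_mulVec]
    exact hs
  exact (Subgroup.inv_mem_iff _).1 hinv

/-- `Ω⁺`: the stabiliser of a totally singular `(n/2 - 1)`-space is not maximal -/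
theorem ts_submax_not_maximal [Fintype F] (hQ : (QuadraticMap.polarBilin Q).Nondegenerate)
    (hn : 13 ≤ n) {m : ℕ} (hnm : n = 2 * m) (T₀ : Submodule F (Fin n → F))
    (hT₀ : ∀ t ∈ T₀, Q t = 0) (hdim₀ : finrank F T₀ = m) (W : Submodule F (Fin n → F))
    (hW : ∀ w ∈ W, Q w = 0) (hWd : finrank F W + 1 = m) :
    ∃ K : Subgroup (GL (Fin n) F),
      Cfsg.Geo.subspaceStabilizer W ⊓ Cfsg.Geo.omegaGL (⇑Q) < K ∧ K < Cfsg.Geo.omegaGL (⇑Q) := by
  obtain ⟨T, hWT, hT, hTd⟩ := exists_max_ts_ge Q hQ hnm T₀ hT₀ hdim₀ W hW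
  have hT0 : T ≠ ⊥ := by
    intro h
    rw [h, finrank_bot] at hTd
    omega
  have hW0 : W ≠ ⊥ := by
    intro h
    rw [h, finrank_bot] at hWd
    omega
  refine ⟨Cfsg.Geo.subspaceStabilizer T ⊓ Cfsg.Geo.omegaGL (⇑Q), lt_of_le_of_ne ?_ ?_,
    ts_lt Q hQ (by omega) T hT0 hT⟩
  · rintro h ⟨hhW, hΩ⟩
    refine ⟨?_, hΩ⟩
    obtain ⟨g, hg, rfl⟩ := exists_of_mem_omegaGL Q h hΩ
    apply stab_of_codim_le_one Q hQ hnm (by omega) T hT hTd g hg
    have hle : W ≤ T ⊓ T.map
        (Matrix.mulVecLin ((g : GL (Fin n) F) : Matrix (Fin n) (Fin n) F)) := by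
      intro w hw
      refine ⟨hWT hw, ?_⟩
      refine ⟨(((g : GL (Fin n) F))⁻¹ : GL (Fin n) F).1 *ᵥ w, hWT ?_, ?_⟩
      · apply ((mem_subspaceStabilizer_iff _ W).1 hhW _).2
        rw [gl_mulVec_inv]
        exact hw
      · rw [Matrix.mulVecLin_apply, gl_mulVec_inv]
    have := Submodule.finrank_mono hle
    omega
  · intro heq
    -- a vector of `T` outside `W`
    obtain ⟨u, huT, huW⟩ : ∃ u ∈ T, u ∉ W := by
      by_contra hcon
      push Not at hcon
      have h1 : T ≤ W := hcon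
      have := Submodule.finrank_mono h1
      omega
    obtain ⟨w, hwW, hw0⟩ := Submodule.exists_mem_ne_zero_of_ne_bot hW0
    have hwu : w ∉ Submodule.span F {u} := by
      intro hmem
      obtain ⟨c, hc⟩ := Submodule.mem_span_singleton.1 hmem
      have hc0 : c ≠ 0 := by
        rintro rfl
        rw [zero_smul] at hc
        exact hw0 hc.symm
      apply huW
      have : u = c⁻¹ • w := by rw [← hc, smul_smul, inv_mul_cancel₀ hc0, one_smul]
      rw [this]
      exact W.smul_mem _ hwW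
    obtain ⟨f, hfw, hfu⟩ := Submodule.exists_le_ker_of_notMem hwu
    have hfu0 : f u = 0 := hfu (Submodule.mem_span_singleton_self u)
    obtain ⟨y, hy⟩ := exists_fr Q hQ f
    have hyu : P u y = 0 := by
      rw [P_comm, ← fr_apply, ← hy]; exact hfu0
    have hyw : P y w ≠ 0 := by
      rw [← fr_apply, ← hy]; exact hfw
    have hQu : Q u = 0 := hT u huT
    have hmem : ((sg Q u y : ↥(Cfsg.isometryGroup F ⇑Q)) : GL (Fin n) F) ∈
        Cfsg.Geo.subspaceStabilizer T ⊓ Cfsg.Geo.omegaGL (⇑Q) := by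
      refine ⟨?_, coe_mem_omegaGL Q _ (sg_mem_comm Q hQ (by omega) u y hQu hyu)⟩
      apply stab_of_le
      intro t ht
      rw [act_def, sg_act Q u y hQu hyu, P_eq_zero_of_ts Q hT huT ht]
      simp only [zero_smul, mul_zero, add_zero, sub_zero]
      exact T.sub_mem ht (T.smul_mem _ huT)
    rw [← heq] at hmem
    have h1 := ((mem_subspaceStabilizer_iff _ W).1 hmem.1 w).1 hwW
    rw [act_def, sg_act Q u y hQu hyu, P_eq_zero_of_ts Q hT huT (hWT hwW)] at h1
    simp only [zero_smul, mul_zero, add_zero, sub_zero] at h1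
    have h2 : P y w • u ∈ W := by
      have := W.sub_mem hwW h1
      rwa [sub_sub_cancel] at this
    apply huW
    have : u = (P y w)⁻¹ • (P y w • u) := by
      rw [smul_smul, inv_mul_cancel₀ hyw, one_smul]
    rw [this]
    exact W.smul_mem _ h2

end Cfsg.Agent.Lib.H11.OmPar
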