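import Cfsg.Agent.Lib.H11.SiegelGen

/-!
Transitivity properties of `Ω(Q)` (`q` odd, `n ≥ 7`): Witt's theorem inside `Ω`.
-/

set_option autoImplicit false
set_option linter.unusedSimpArgs false

namespace Cfsg.Agent.Lib.H11.OmegaTrans

open Matrix
open scoped MatrixGroups
open Cfsg.Agent.Lib.H11.CD Cfsg.Agent.Lib.H11.SpinSign Cfsg.Agent.Lib.H11.ReflClass
open Cfsg.Agent.Lib.H11.SiegelGen

variable {F : Type*} [Field F] {n : ℕ} (Q : QuadraticForm F (Fin n → F))

set_option quotPrecheck false in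
local notation "P" => QuadraticMap.polar (⇑Q)

theorem mem_commutator_iff_of (g : ↥(Cfsg.isometryGroup F ⇑Q)) :
    g ∈ commutator ↥(Cfsg.isometryGroup F ⇑Q) ↔
      (Abelianization.of g : Abelianization ↥(Cfsg.isometryGroup F ⇑Q)) = 1 := by
  rw [← Abelianization.ker_of, MonoidHom.mem_ker]

/-- adjust an isometry into the commutator subgroup by reflections fixing a given family -/
theorem exists_omega_of_perp [Fintype F] (hQ : (QuadraticMap.polarBilin Q).Nondegenerate)
    (h2 : (2 : F) ≠ 0) {ι : Type*} (x : ι → Fin n → F) (g : ↥(Cfsg.isometryGroup F ⇑Q))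
    (ν : F) (hν : ¬ IsSquare ν) (w₁ w₂ : Fin n → F) (hw₁ : Q w₁ ≠ 0) (hw₂ : Q w₂ ≠ 0)
    (h12 : Q w₂ = ν * Q w₁) (h₁ : ∀ j, P w₁ (x j) = 0) (h₂ : ∀ j, P w₂ (x j) = 0) :
    ∃ ω ∈ commutator ↥(Cfsg.isometryGroup F ⇑Q), ∀ j, act Q ω (x j) = act Q g (x j) := by
  have ha : (Abelianization.of (reflEl Q w₁ hw₁) : Abelianization ↥(Cfsg.isometryGroup F ⇑Q)) *
      Abelianization.of (reflEl Q w₁ hw₁) = 1 := by
    rw [← map_mul, reflEl_mul_self, map_one]
  have hb : (Abelianization.of (reflEl Q w₂ hw₂) : Abelianization ↥(Cfsg.isometryGroup F ⇑Q)) *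
      Abelianization.of (reflEl Q w₂ hw₂) = 1 := by
    rw [← map_mul, reflEl_mul_self, map_one]
  have f1 : ∀ j, act Q (reflEl Q w₁ hw₁) (x j) = x j := fun j =>
    reflEl_act_of_polar_zero Q w₁ hw₁ _ (h₁ j)
  have f2 : ∀ j, act Q (reflEl Q w₂ hw₂) (x j) = x j := fun j =>
    reflEl_act_of_polar_zero Q w₂ hw₂ _ (h₂ j)
  rcases of_mem_four Q hQ h2 ν hν w₁ w₂ hw₁ hw₂ h12 g with h | h | h | h
  · exact ⟨g, (mem_commutator_iff_of Q g).2 h, fun j => rfl⟩
  · refine ⟨g * reflEl Q w₁ hw₁, (mem_commutator_iff_of Q _).2 ?_, fun j => ?_⟩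
    · rw [map_mul, h, ha]
    · rw [act_mul, f1]
  · refine ⟨g * reflEl Q w₂ hw₂, (mem_commutator_iff_of Q _).2 ?_, fun j => ?_⟩
    · rw [map_mul, h, hb]
    · rw [act_mul, f2]
  · refine ⟨g * (reflEl Q w₂ hw₂ * reflEl Q w₁ hw₁), (mem_commutator_iff_of Q _).2 ?_, fun j => ?_⟩
    · rw [map_mul, map_mul, h, mul_assoc, ← mul_assoc (Abelianization.of (reflEl Q w₂ hw₂)), hb,
        one_mul, ha]
    · rw [act_mul, act_mul, f1, f2]

theorem act_inv_act (g : ↥(Cfsg.isometryGroup F ⇑Q)) (x : Fin n → F) :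
    act Q g (act Q g⁻¹ x) = x := by
  rw [← act_mul, mul_inv_cancel, act_one]

theorem act_act_inv (g : ↥(Cfsg.isometryGroup F ⇑Q)) (x : Fin n → F) :
    act Q g⁻¹ (act Q g x) = x := by
  rw [← act_mul, inv_mul_cancel, act_one]

theorem Q_hyp (e f : Fin n → F) (he : Q e = 0) (hf : Q f = 0) (hef : P e f = 1) (c : F) :
    Q (e + c • f) = c := by
  rw [QuadraticMap.map_add (⇑Q), QuadraticMap.map_smul, he, hf, QuadraticMap.polar_smul_right, hef,
    smul_eq_mul, smul_eq_mul]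
  ring

/-- the adjustment property: an isometry can be corrected into `Ω` without changing its values on a
family orthogonal to a hyperbolic pair -/
def Adj : Prop := ∀ (k : ℕ) (x : Fin k → Fin n → F) (g : ↥(Cfsg.isometryGroup F ⇑Q))
  (e f : Fin n → F), Q e = 0 → Q f = 0 → P e f = 1 → (∀ j, P e (x j) = 0) → (∀ j, P f (x j) = 0) →
    ∃ ω ∈ commutator ↥(Cfsg.isometryGroup F ⇑Q), ∀ j, act Q ω (x j) = act Q g (x j)

theorem adj_of_odd [Fintype F] (hQ : (QuadraticMap.polarBilin Q).Nondegenerate)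
    (h2 : (2 : F) ≠ 0) : Adj Q := by
  intro k x g e f he hf hef hex hfx
  have hchar : ringChar F ≠ 2 := by
    intro h
    apply h2
    have := CharP.cast_eq_zero F (ringChar F)
    rw [h] at this
    exact_mod_cast this
  obtain ⟨ν, hν⟩ := FiniteField.exists_nonsquare hchar
  have hν0 : ν ≠ 0 := by
    rintro rfl
    exact hν ⟨0, by simp⟩
  have hw : ∀ c : F, Q (e + c • f) = c ∧ ∀ i, P (e + c • f) (x i) = 0 := by
    intro c
    refine ⟨Q_hyp Q e f he hf hef c, fun i => ?_⟩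
    rw [QuadraticMap.polar_add_left, QuadraticMap.polar_smul_left, hex, hfx, smul_zero, add_zero]
  exact exists_omega_of_perp Q hQ h2 x g ν hν _ _
    (by rw [(hw 1).1]; exact one_ne_zero) (by rw [(hw ν).1]; exact hν0)
    (by rw [(hw 1).1, (hw ν).1, mul_one]) (hw 1).2 (hw ν).2

/-- Witt's theorem inside `Ω`, for families equivalent to one orthogonal to a hyperbolic pair -/
theorem omega_witt [Fintype F] (hQ : (QuadraticMap.polarBilin Q).Nondegenerate)
    (hadj : Adj Q) (k : ℕ) (x y x₀ : Fin k → Fin n → F)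
    (hx : LinearIndependent F x) (hy : LinearIndependent F y) (hx₀ : LinearIndependent F x₀)
    (hQy : ∀ i, Q (y i) = Q (x i)) (hPy : ∀ i j, P (y i) (y j) = P (x i) (x j))
    (hQ0 : ∀ i, Q (x₀ i) = Q (x i)) (hP0 : ∀ i j, P (x₀ i) (x₀ j) = P (x i) (x j))
    (e f : Fin n → F) (he : Q e = 0) (hf : Q f = 0) (hef : P e f = 1)
    (hex : ∀ i, P e (x₀ i) = 0) (hfx : ∀ i, P f (x₀ i) = 0) :
    ∃ ω ∈ commutator ↥(Cfsg.isometryGroup F ⇑Q), ∀ i, act Q ω (x i) = y i := by
  obtain ⟨g', hg', hgx⟩ := Cfsg.Agent.S0750.witt_family Q hQ k x y hx hy hQy hPy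
  obtain ⟨g₀', hg₀', hg₀x⟩ := Cfsg.Agent.S0750.witt_family Q hQ k x x₀ hx hx₀ hQ0 hP0
  set g := elOfEquiv Q g' hg' with hg
  set g₀ := elOfEquiv Q g₀' hg₀' with hg₀
  have hgx' : ∀ i, act Q g (x i) = y i := fun i => by rw [hg, elOfEquiv_act]; exact hgx i
  have hg₀x' : ∀ i, act Q g₀ (x i) = x₀ i := fun i => by rw [hg₀, elOfEquiv_act]; exact hg₀x i
  obtain ⟨ω, hω, hωx⟩ := hadj k x g (act Q g₀⁻¹ e) (act Q g₀⁻¹ f) (by rw [Q_act, he])
    (by rw [Q_act, hf]) (by rw [polar_act, hef])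
    (fun i => by rw [← polar_act Q g₀, act_inv_act, hg₀x', hex])
    (fun i => by rw [← polar_act Q g₀, act_inv_act, hg₀x', hfx])
  exact ⟨ω, hω, fun i => by rw [hωx, hgx']⟩

theorem gram_pair (a b a' b' : Fin n → F) (hQ0 : Q a' = Q a) (hQ1 : Q b' = Q b)
    (hP : P a' b' = P a b) :
    ∀ i j, P (![a', b'] i) (![a', b'] j) = P (![a, b] i) (![a, b] j) := by
  intro i j
  fin_cases i <;> fin_cases j
  · show P a' a' = P a a
    rw [Cfsg.Agent.Lib.H4.polar_self, Cfsg.Agent.Lib.H4.polar_self, hQ0]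
  · exact hP
  · show P b' a' = P b a
    rw [QuadraticMap.polar_comm, hP, QuadraticMap.polar_comm]
  · show P b' b' = P b b
    rw [Cfsg.Agent.Lib.H4.polar_self, Cfsg.Agent.Lib.H4.polar_self, hQ1]

theorem Q_pair (a b a' b' : Fin n → F) (hQ0 : Q a' = Q a) (hQ1 : Q b' = Q b) :
    ∀ i, Q (![a', b'] i) = Q (![a, b] i) := by
  intro i
  fin_cases i
  · exact hQ0
  · exact hQ1

theorem li_of_polar_ne (u w : Fin n → F) (hu : Q u = 0) (hw : Q w = 0) (h : P u w ≠ 0) :
    LinearIndependent F ![u, w] := by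
  rw [LinearIndependent.pair_iff]
  intro s t hst
  have h1 := congrArg (fun x => P u x) hst
  have h2 := congrArg (fun x => P w x) hst
  simp only [QuadraticMap.polar_add_right, QuadraticMap.polar_smul_right,
    Cfsg.Agent.Lib.H4.polar_self, hu, hw, smul_eq_mul, mul_zero, zero_add, add_zero,
    QuadraticMap.polar_zero_right, QuadraticMap.polar_comm (⇑Q) w u] at h1 h2
  exact ⟨(mul_eq_zero.1 h2).resolve_right h, (mul_eq_zero.1 h1).resolve_right h⟩

/-- `Ω` is transitive on nonzero singular vectors -/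
theorem omega_trans_sing [Fintype F] (hQ : (QuadraticMap.polarBilin Q).Nondegenerate)
    (hadj : Adj Q) (hn : 7 ≤ n) (u u' : Fin n → F) (hu0 : u ≠ 0) (hu'0 : u' ≠ 0)
    (hu : Q u = 0) (hu' : Q u' = 0) :
    ∃ ω ∈ commutator ↥(Cfsg.isometryGroup F ⇑Q), act Q ω u = u' := by
  obtain ⟨e₁, f₁, e₂, f₂, e₃, f₃, he₁, hf₁, he₂, hf₂, he₃, hf₃, h11, h22, h33, h12ee, h12ef,
    h12fe, h12ff, h3e1, h3f1, h3e2, h3f2, h3'e1, h3'f1, h3'e2, h3'f2⟩ := exists_three_pairs Q hQ hn
  have he₁0 : e₁ ≠ 0 := by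
    rintro rfl
    rw [QuadraticMap.polar_zero_left] at h11
    exact zero_ne_one h11
  obtain ⟨ω, hω, h⟩ := omega_witt Q hQ hadj 1 ![u] ![u'] ![e₁]
    (by rw [linearIndependent_unique_iff]; exact hu0)
    (by rw [linearIndependent_unique_iff]; exact hu'0)
    (by rw [linearIndependent_unique_iff]; exact he₁0)
    (fun i => by
      have hi : i = 0 := Subsingleton.elim _ _
      subst hi
      show Q u' = Q u
      rw [hu, hu'])
    (fun i j => by
      have hi : i = 0 := Subsingleton.elim _ _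
      have hj : j = 0 := Subsingleton.elim _ _
      subst hi; subst hj
      show P u' u' = P u u
      rw [Cfsg.Agent.Lib.H4.polar_self, Cfsg.Agent.Lib.H4.polar_self, hu, hu'])
    (fun i => by
      have hi : i = 0 := Subsingleton.elim _ _
      subst hi
      show Q e₁ = Q u
      rw [hu, he₁])
    (fun i j => by
      have hi : i = 0 := Subsingleton.elim _ _
      have hj : j = 0 := Subsingleton.elim _ _
      subst hi; subst hj
      show P e₁ e₁ = P u u
      rw [Cfsg.Agent.Lib.H4.polar_self, Cfsg.Agent.Lib.H4.polar_self, hu, he₁])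
    e₃ f₃ he₃ hf₃ h33
    (fun i => by
      have hi : i = 0 := Subsingleton.elim _ _
      subst hi
      exact h3e1)
    (fun i => by
      have hi : i = 0 := Subsingleton.elim _ _
      subst hi
      exact h3'e1)
  exact ⟨ω, hω, h 0⟩

/-- `Ω` is transitive on pairs of singular vectors with a given nonzero product -/
theorem omega_trans_hyp [Fintype F] (hQ : (QuadraticMap.polarBilin Q).Nondegenerate)
    (hadj : Adj Q) (hn : 7 ≤ n) (u w u' w' : Fin n → F)
    (hu : Q u = 0) (hw : Q w = 0) (hu' : Q u' = 0) (hw' : Q w' = 0) (huw : P u w ≠ 0)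
    (h : P u' w' = P u w) :
    ∃ ω ∈ commutator ↥(Cfsg.isometryGroup F ⇑Q), act Q ω u = u' ∧ act Q ω w = w' := by
  obtain ⟨e₁, f₁, e₂, f₂, e₃, f₃, he₁, hf₁, he₂, hf₂, he₃, hf₃, h11, h22, h33, h12ee, h12ef,
    h12fe, h12ff, h3e1, h3f1, h3e2, h3f2, h3'e1, h3'f1, h3'e2, h3'f2⟩ := exists_three_pairs Q hQ hn
  have hb : Q (P u w • f₁) = 0 := by rw [QuadraticMap.map_smul, hf₁, smul_zero]
  have hPb : P e₁ (P u w • f₁) = P u w := by
    rw [QuadraticMap.polar_smul_right, h11, smul_eq_mul, mul_one]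
  obtain ⟨ω, hω, h⟩ := omega_witt Q hQ hadj 2 ![u, w] ![u', w'] ![e₁, P u w • f₁]
    (li_of_polar_ne Q u w hu hw huw)
    (li_of_polar_ne Q u' w' hu' hw' (by rw [h]; exact huw))
    (li_of_polar_ne Q _ _ he₁ hb (by rw [hPb]; exact huw))
    (Q_pair Q _ _ _ _ (by rw [hu, hu']) (by rw [hw, hw']))
    (gram_pair Q _ _ _ _ (by rw [hu, hu']) (by rw [hw, hw']) h)
    (Q_pair Q _ _ _ _ (by rw [hu, he₁]) (by rw [hw, hb]))
    (gram_pair Q _ _ _ _ (by rw [hu, he₁]) (by rw [hw, hb]) hPb)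
    e₃ f₃ he₃ hf₃ h33
    (fun i => by
      fin_cases i
      · exact h3e1
      · show P e₃ (P u w • f₁) = 0
        rw [QuadraticMap.polar_smul_right, h3f1, smul_zero])
    (fun i => by
      fin_cases i
      · exact h3'e1
      · show P f₃ (P u w • f₁) = 0
        rw [QuadraticMap.polar_smul_right, h3'f1, smul_zero])
  exact ⟨ω, hω, h 0, h 1⟩

/-- `Ω` is transitive on independent pairs of orthogonal singular vectors -/
theorem omega_trans_ts [Fintype F] (hQ : (QuadraticMap.polarBilin Q).Nondegenerate)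
    (hadj : Adj Q) (hn : 7 ≤ n) (u z u' z' : Fin n → F)
    (hu : Q u = 0) (hz : Q z = 0) (hu' : Q u' = 0) (hz' : Q z' = 0) (huz : P u z = 0)
    (huz' : P u' z' = 0) (hli : LinearIndependent F ![u, z])
    (hli' : LinearIndependent F ![u', z']) :
    ∃ ω ∈ commutator ↥(Cfsg.isometryGroup F ⇑Q), act Q ω u = u' ∧ act Q ω z = z' := by
  obtain ⟨e₁, f₁, e₂, f₂, e₃, f₃, he₁, hf₁, he₂, hf₂, he₃, hf₃, h11, h22, h33, h12ee, h12ef,
    h12fe, h12ff, h3e1, h3f1, h3e2, h3f2, h3'e1, h3'f1, h3'e2, h3'f2⟩ := exists_three_pairs Q hQ hn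
  have hli₀ : LinearIndependent F ![e₁, e₂] := by
    rw [LinearIndependent.pair_iff]
    intro s t hst
    have h1 := congrArg (fun x => P f₁ x) hst
    have h2 := congrArg (fun x => P f₂ x) hst
    simp only [QuadraticMap.polar_add_right, QuadraticMap.polar_smul_right,
      QuadraticMap.polar_comm (⇑Q) f₁ e₁, QuadraticMap.polar_comm (⇑Q) f₂ e₂,
      QuadraticMap.polar_comm (⇑Q) f₂ e₁, h11, h22, h12fe, h12ef, smul_eq_mul, mul_zero, zero_add,
      add_zero, mul_one, QuadraticMap.polar_zero_right] at h1 h2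
    exact ⟨h1, h2⟩
  obtain ⟨ω, hω, h⟩ := omega_witt Q hQ hadj 2 ![u, z] ![u', z'] ![e₁, e₂] hli hli' hli₀
    (Q_pair Q _ _ _ _ (by rw [hu, hu']) (by rw [hz, hz']))
    (gram_pair Q _ _ _ _ (by rw [hu, hu']) (by rw [hz, hz']) (by rw [huz, huz']))
    (Q_pair Q _ _ _ _ (by rw [hu, he₁]) (by rw [hz, he₂]))
    (gram_pair Q _ _ _ _ (by rw [hu, he₁]) (by rw [hz, he₂]) (by rw [huz, h12ee]))
    e₃ f₃ he₃ hf₃ h33
    (fun i => by
      fin_cases i
      · exact h3e1
      · exact h3e2)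
    (fun i => by
      fin_cases i
      · exact h3'e1
      · exact h3'e2)
  exact ⟨ω, hω, h 0, h 1⟩

/-- in characteristic two, if `Ω` has index two then no reflection lies in `Ω` -/
theorem refl_not_mem_of_index_two [Fintype F] [CharP F 2]
    (hQ : (QuadraticMap.polarBilin Q).Nondegenerate) (hgen : RGen Q)
    (hidx : (commutator ↥(Cfsg.isometryGroup F ⇑Q)).index = 2) (w : Fin n → F) (hw : Q w ≠ 0) :
    reflEl Q w hw ∉ commutator ↥(Cfsg.isometryGroup F ⇑Q) := by
  intro hmem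
  have hchar : ringChar F = 2 := (ringChar.eq F 2).symm ▸ rfl
  have hw0 : w ≠ 0 := by
    rintro rfl
    rw [map_zero] at hw
    exact hw rfl
  have hall : ∀ r ∈ {r : ↥(Cfsg.isometryGroup F ⇑Q) | ∃ v, Q v ≠ 0 ∧
      ((r : GL (Fin n) F) : Matrix (Fin n) (Fin n) F) = Cfsg.reflectionMatrix (⇑Q) v},
      r ∈ commutator ↥(Cfsg.isometryGroup F ⇑Q) := by
    rintro r ⟨v, hv, hr⟩
    have hr' : r = reflEl Q v hv := by
      apply Subtype.ext; apply Units.ext; rw [hr]; rfl
    obtain ⟨c, hc⟩ := FiniteField.isSquare_of_char_two hchar (Q w / Q v)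
    have hc0 : c ≠ 0 := by
      rintro rfl
      rw [mul_zero] at hc
      exact (div_ne_zero hw hv) hc
    have hQcv : Q (c • v) = Q w := by
      rw [QuadraticMap.map_smul, smul_eq_mul, ← hc, div_mul_cancel₀ _ hv]
    have hcv : Q (c • v) ≠ 0 := by rw [hQcv]; exact hw
    have hcv0 : c • v ≠ 0 := by
      intro h
      rw [h, map_zero] at hcv
      exact hcv rfl
    obtain ⟨g', hg', hgx⟩ := Cfsg.Agent.S0750.witt_family Q hQ 1 ![w] ![c • v]
      (by rw [linearIndependent_unique_iff]; exact hw0)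
      (by rw [linearIndependent_unique_iff]; exact hcv0)
      (fun i => by
        have hi : i = 0 := Subsingleton.elim _ _
        subst hi
        exact hQcv)
      (fun i j => by
        have hi : i = 0 := Subsingleton.elim _ _
        have hj : j = 0 := Subsingleton.elim _ _
        subst hi; subst hj
        show P (c • v) (c • v) = P w w
        rw [Cfsg.Agent.Lib.H4.polar_self, Cfsg.Agent.Lib.H4.polar_self, hQcv])
    set g := elOfEquiv Q g' hg' with hg
    have hgw : act Q g w = c • v := by rw [hg, elOfEquiv_act]; exact hgx 0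
    have hgw' : Q (act Q g w) ≠ 0 := by rw [Q_act]; exact hw
    have h1 : g * reflEl Q w hw * g⁻¹ = reflEl Q v hv := by
      rw [reflEl_conj Q g w hw hgw', reflEl_congr Q _ _ hgw' hcv hgw, reflEl_smul Q v hv c hc0 hcv]
    rw [hr', ← h1]
    exact (inferInstance : (commutator ↥(Cfsg.isometryGroup F ⇑Q)).Normal).conj_mem _ hmem g
  have htop : commutator ↥(Cfsg.isometryGroup F ⇑Q) = ⊤ := by
    rw [eq_top_iff]
    intro g _
    exact (Subgroup.closure_le _).2 hall (hgen g)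
  rw [htop, Subgroup.index_top] at hidx
  omega

/-- the adjustment property in characteristic two, from `[O : Ω] = 2` -/
theorem adj_of_index_two [Fintype F] [CharP F 2]
    (hQ : (QuadraticMap.polarBilin Q).Nondegenerate) (hgen : RGen Q)
    (hidx : (commutator ↥(Cfsg.isometryGroup F ⇑Q)).index = 2) : Adj Q := by
  intro k x g e f he hf hef hex hfx
  by_cases hg : g ∈ commutator ↥(Cfsg.isometryGroup F ⇑Q)
  · exact ⟨g, hg, fun j => rfl⟩
  · have hw : Q (e + (1 : F) • f) ≠ 0 := by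
      rw [Q_hyp Q e f he hf hef]; exact one_ne_zero
    have hr := refl_not_mem_of_index_two Q hQ hgen hidx _ hw
    refine ⟨g * reflEl Q _ hw, ?_, fun j => ?_⟩
    · rw [Subgroup.mul_mem_iff_of_index_two hidx]
      exact ⟨fun h => absurd h hg, fun h => absurd h hr⟩
    · rw [act_mul, reflEl_act_of_polar_zero]
      rw [QuadraticMap.polar_add_left, QuadraticMap.polar_smul_left, hex, hfx, smul_zero, add_zero]

end Cfsg.Agent.Lib.H11.OmegaTrans
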