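import Cfsg.Agent.Lib.H11.OrMax3
import Cfsg.Agent.Lib.H11.OmegaTrans
import Cfsg.Agent.S0786

/-!
Maximality of the stabiliser of a totally singular subspace in `Ω(Q)`: general Siegel
transformations.
-/

set_option autoImplicit false
set_option linter.unusedSimpArgs false
set_option linter.unusedSectionVars false
set_option linter.unusedVariables false

namespace Cfsg.Agent.Lib.H11.OmTs

open Matrix Module
open Cfsg.Agent.Lib.H28 Cfsg.Agent.Lib.H11.SubspMax
open Cfsg.Agent.Lib.H11.CD Cfsg.Agent.Lib.H11.SiegelGen Cfsg.Agent.Lib.H11.OrMax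

variable {F : Type*} [Field F] {n : ℕ} (Q : QuadraticForm F (Fin n → F))

set_option quotPrecheck false in
local notation "P" => QuadraticMap.polar (⇑Q)

/-- the Siegel map `x ↦ x + P u x • y - P y x • u - (Q y * P u x) • u` -/
noncomputable def sgLin (u y : Fin n → F) : (Fin n → F) →ₗ[F] (Fin n → F) :=
  LinearMap.id + (fr Q u).smulRight y - (fr Q y).smulRight u - (Q y) • (fr Q u).smulRight u

theorem sgLin_apply (u y x : Fin n → F) :
    sgLin Q u y x = x + P u x • y - P y x • u - (Q y * P u x) • u := by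
  unfold sgLin
  simp only [LinearMap.sub_apply, LinearMap.add_apply, LinearMap.id_apply,
    LinearMap.smulRight_apply, LinearMap.smul_apply, fr_apply, smul_smul]

theorem Q_sgLin (u y : Fin n → F) (hu : Q u = 0) (huy : P u y = 0) (x : Fin n → F) :
    Q (sgLin Q u y x) = Q x := by
  rw [sgLin_apply]
  have huu : P u u = 0 := by rw [P_self, hu, mul_zero]
  have hyu : P y u = 0 := by rw [P_comm]; exact huy
  rw [Q_sub', Q_sub', Q_add, QuadraticMap.map_smul, QuadraticMap.map_smul, QuadraticMap.map_smul,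
    hu]
  simp only [QuadraticMap.polar_sub_left, QuadraticMap.polar_add_left,
    QuadraticMap.polar_smul_left, QuadraticMap.polar_smul_right, smul_eq_mul, huu, huy, hyu,
    mul_zero, sub_zero, add_zero, P_comm Q x u, P_comm Q x y]
  ring

theorem sgLin_sgLin (u y y' : Fin n → F) (hu : Q u = 0) (huy : P u y = 0) (huy' : P u y' = 0)
    (x : Fin n → F) : sgLin Q u y (sgLin Q u y' x) = sgLin Q u (y + y') x := by
  have huu : P u u = 0 := by rw [P_self, hu, mul_zero]
  have hyu : P y u = 0 := by rw [P_comm]; exact huy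
  rw [sgLin_apply, sgLin_apply, sgLin_apply]
  simp only [QuadraticMap.polar_sub_right, QuadraticMap.polar_add_right,
    QuadraticMap.polar_smul_right, QuadraticMap.polar_add_left, smul_eq_mul, huu, huy, huy', hyu,
    mul_zero, sub_zero, add_zero, Q_add]
  module

theorem sgLin_zero (u x : Fin n → F) : sgLin Q u 0 x = x := by
  rw [sgLin_apply]; simp

/-- the Siegel map as a linear equivalence -/
noncomputable def sgEquiv (u y : Fin n → F) (hu : Q u = 0) (huy : P u y = 0) :
    (Fin n → F) ≃ₗ[F] (Fin n → F) :=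
  LinearEquiv.ofLinearMap (sgLin Q u y) (sgLin Q u (-y))
    (by
      apply LinearMap.ext; intro x
      rw [LinearMap.comp_apply, sgLin_sgLin Q u y (-y) hu huy (by simp [huy]), add_neg_cancel,
        sgLin_zero, LinearMap.id_apply])
    (by
      apply LinearMap.ext; intro x
      rw [LinearMap.comp_apply, sgLin_sgLin Q u (-y) y hu (by simp [huy]) huy, neg_add_cancel,
        sgLin_zero, LinearMap.id_apply])

theorem sgEquiv_apply (u y : Fin n → F) (hu : Q u = 0) (huy : P u y = 0) (x : Fin n → F) :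
    sgEquiv Q u y hu huy x = sgLin Q u y x := rfl

open Classical in
/-- the Siegel transformation as an element of the isometry group (trivial if the hypotheses
fail) -/
noncomputable def sg (u y : Fin n → F) : ↥(Cfsg.isometryGroup F ⇑Q) :=
  if h : Q u = 0 ∧ P u y = 0 then
    elOfEquiv Q (sgEquiv Q u y h.1 h.2) (fun x => by
      rw [sgEquiv_apply]; exact Q_sgLin Q u y h.1 h.2 x)
  else 1

theorem sg_act (u y : Fin n → F) (hu : Q u = 0) (huy : P u y = 0) (x : Fin n → F) :
    act Q (sg Q u y) x = x + P u x • y - P y x • u - (Q y * P u x) • u := by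
  unfold sg
  rw [dif_pos ⟨hu, huy⟩, elOfEquiv_act, sgEquiv_apply]
  exact sgLin_apply Q u y x

theorem el_ext {g h : ↥(Cfsg.isometryGroup F ⇑Q)} (H : ∀ x, act Q g x = act Q h x) : g = h := by
  apply Subtype.ext
  exact gl_ext H

theorem sg_mul (u y y' : Fin n → F) (hu : Q u = 0) (huy : P u y = 0) (huy' : P u y' = 0) :
    sg Q u y * sg Q u y' = sg Q u (y + y') := by
  apply el_ext
  intro x
  have h3 : P u (y + y') = 0 := by rw [QuadraticMap.polar_add_right, huy, huy', add_zero]
  rw [act_mul, sg_act Q u y' hu huy', sg_act Q u y hu huy, sg_act Q u (y + y') hu h3,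
    ← sgLin_apply, ← sgLin_apply, ← sgLin_apply, sgLin_sgLin Q u y y' hu huy huy']

theorem sg_eq_siegEl (u y : Fin n → F) (hu : Q u = 0) (hy : Q y = 0) (huy : P u y = 0) :
    sg Q u y = siegEl Q u y hu hy huy 1 := by
  apply el_ext
  intro x
  rw [sg_act Q u y hu huy, siegEl_act, hy, zero_mul, zero_smul, sub_zero, one_mul, one_mul]

/-- conjugation of Siegel transformations -/
theorem sg_conj (g : ↥(Cfsg.isometryGroup F ⇑Q)) (u y : Fin n → F) (hu : Q u = 0)
    (huy : P u y = 0) : g * sg Q u y * g⁻¹ = sg Q (act Q g u) (act Q g y) := by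
  apply el_ext
  intro x
  have hu' : Q (act Q g u) = 0 := by rw [Q_act, hu]
  have huy' : P (act Q g u) (act Q g y) = 0 := by rw [polar_act, huy]
  rw [act_mul, act_mul, sg_act Q u y hu huy, sg_act Q _ _ hu' huy', Q_act]
  have e1 : P u (act Q g⁻¹ x) = P (act Q g u) x := by
    rw [← polar_act Q g, Cfsg.Agent.Lib.H11.OmegaTrans.act_inv_act]
  have e2 : P y (act Q g⁻¹ x) = P (act Q g y) x := by
    rw [← polar_act Q g, Cfsg.Agent.Lib.H11.OmegaTrans.act_inv_act]
  rw [e1, e2]
  rw [← act_def, Matrix.mulVec_sub, Matrix.mulVec_sub, Matrix.mulVec_add, Matrix.mulVec_smul,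
    Matrix.mulVec_smul, Matrix.mulVec_smul, act_def, act_def, act_def,
    Cfsg.Agent.Lib.H11.OmegaTrans.act_inv_act]

theorem sg_smul_left (u y : Fin n → F) (c : F) (hu : Q u = 0) (huy : P u y = 0) :
    sg Q (c • u) y = sg Q u (c • y) := by
  apply el_ext
  intro x
  have hu' : Q (c • u) = 0 := by rw [QuadraticMap.map_smul, hu, smul_zero]
  have h1 : P (c • u) y = 0 := by rw [QuadraticMap.polar_smul_left, huy, smul_zero]
  have h2 : P u (c • y) = 0 := by rw [QuadraticMap.polar_smul_right, huy, smul_zero]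
  rw [sg_act Q _ _ hu' h1, sg_act Q _ _ hu h2]
  simp only [QuadraticMap.polar_smul_left, QuadraticMap.map_smul, smul_eq_mul]
  module

end Cfsg.Agent.Lib.H11.OmTs
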