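import Cfsg.Agent.Lib.H11.OmTs1

set_option autoImplicit false
set_option linter.unusedSimpArgs false
set_option linter.unusedSectionVars false
set_option linter.unusedVariables false

namespace Cfsg.Agent.Lib.H11.OmTs

open Matrix Module
open Cfsg.Agent.Lib.H28 Cfsg.Agent.Lib.H11.SubspMax
open Cfsg.Agent.Lib.H11.CD Cfsg.Agent.Lib.H11.SiegelGen Cfsg.Agent.Lib.H11.OrMax

variable {F : Type*} [Field F] {n : ℕ} (Q : QuadraticForm F (Fin n → F))

set_option quotPrecheck false in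
local notation "P" => QuadraticMap.polar (⇑Q)

/-- `Ω` is generated by the long root elements (any characteristic) -/
theorem comm_eq_S [Fintype F] (hQ : (QuadraticMap.polarBilin Q).Nondegenerate) (hn : 7 ≤ n) :
    commutator ↥(Cfsg.isometryGroup F ⇑Q) = S Q := by
  apply commutator_eq_S_of_rGen Q hQ _ hn
  intro g
  rw [Cfsg.Agent.S0786.result Q hQ (Or.inr (by omega))]
  exact Subgroup.mem_top g

/-- general Siegel transformations lie in `Ω` -/
theorem sg_mem_comm [Fintype F] (hQ : (QuadraticMap.polarBilin Q).Nondegenerate) (hn : 7 ≤ n)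
    (u y : Fin n → F) (hu : Q u = 0) (huy : P u y = 0) :
    sg Q u y ∈ commutator ↥(Cfsg.isometryGroup F ⇑Q) := by
  rw [comm_eq_S Q hQ hn]
  obtain ⟨e, f, hQe, hQf, hef, hve, hvf⟩ := exists_hyp_perp Q hQ ![u, y] (by omega)
  have ue : P u e = 0 := hve 0
  have ye : P y e = 0 := hve 1
  have uf : P u f = 0 := hvf 0
  have yf : P y f = 0 := hvf 1
  obtain ⟨y₁, hy₁⟩ : ∃ y₁, y₁ = y + e - Q y • f := ⟨_, rfl⟩
  have hQy₁ : Q y₁ = 0 := by
    rw [hy₁, Q_sub', Q_add, QuadraticMap.map_smul, hQe, hQf, QuadraticMap.polar_smul_right,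
      QuadraticMap.polar_add_left, ye, yf, hef]
    simp
  have huy₁ : P u y₁ = 0 := by
    rw [hy₁, QuadraticMap.polar_sub_right, QuadraticMap.polar_add_right,
      QuadraticMap.polar_smul_right, huy, ue, uf]
    simp
  have hQe' : Q (-e) = 0 := by rw [QuadraticMap.map_neg, hQe]
  have hue' : P u (-e) = 0 := by rw [QuadraticMap.polar_neg_right, ue, neg_zero]
  have hQf' : Q (Q y • f) = 0 := by rw [QuadraticMap.map_smul, hQf, smul_zero]
  have huf' : P u (Q y • f) = 0 := by rw [QuadraticMap.polar_smul_right, uf, smul_zero]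
  have e1 : y = y₁ + -e + Q y • f := by rw [hy₁]; abel
  have h3 : P u (y₁ + -e) = 0 := by rw [QuadraticMap.polar_add_right, huy₁, hue', add_zero]
  have e2 : sg Q u y = sg Q u y₁ * sg Q u (-e) * sg Q u (Q y • f) := by
    rw [sg_mul Q u y₁ (-e) hu huy₁ hue', sg_mul Q u _ _ hu h3 huf', ← e1]
  rw [e2, sg_eq_siegEl Q u y₁ hu hQy₁ huy₁, sg_eq_siegEl Q u (-e) hu hQe' hue',
    sg_eq_siegEl Q u _ hu hQf' huf']
  exact Subgroup.mul_mem _ (Subgroup.mul_mem _ (siegEl_mem Q _ _ _ _ _ _)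
    (siegEl_mem Q _ _ _ _ _ _)) (siegEl_mem Q _ _ _ _ _ _)

theorem coe_mem_omegaGL (g : ↥(Cfsg.isometryGroup F ⇑Q))
    (hg : g ∈ commutator ↥(Cfsg.isometryGroup F ⇑Q)) :
    (g : GL (Fin n) F) ∈ Cfsg.Geo.omegaGL (⇑Q) :=
  Subgroup.mem_map_of_mem _ hg

theorem exists_of_mem_omegaGL (h : GL (Fin n) F) (hh : h ∈ Cfsg.Geo.omegaGL (⇑Q)) :
    ∃ g : ↥(Cfsg.isometryGroup F ⇑Q), g ∈ commutator ↥(Cfsg.isometryGroup F ⇑Q) ∧
      (g : GL (Fin n) F) = h := by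
  obtain ⟨g, hg, rfl⟩ := Subgroup.mem_map.1 hh
  exact ⟨g, hg, rfl⟩

/-- the centres of full Siegel root groups contained in `H` -/
def Cen (H : Subgroup (GL (Fin n) F)) : Set (Fin n → F) :=
  {u | Q u = 0 ∧ ∀ y, P u y = 0 → ((sg Q u y : ↥(Cfsg.isometryGroup F ⇑Q)) : GL (Fin n) F) ∈ H}

variable (H : Subgroup (GL (Fin n) F))

theorem Cen_mono {H H' : Subgroup (GL (Fin n) F)} (h : H ≤ H') : Cen Q H ⊆ Cen Q H' :=
  fun u hu => ⟨hu.1, fun y hy => h (hu.2 y hy)⟩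

theorem Cen_smul {u : Fin n → F} (hu : u ∈ Cen Q H) (c : F) : c • u ∈ Cen Q H := by
  refine ⟨by rw [QuadraticMap.map_smul, hu.1, smul_zero], fun y hy => ?_⟩
  by_cases hc : c = 0
  · subst hc
    have : sg Q ((0 : F) • u) y = 1 := by
      apply el_ext
      intro x
      rw [sg_act Q _ _ (by simp) (by simp), act_one]
      simp
    rw [this]
    exact H.one_mem
  · have huy : P u y = 0 := by
      rw [QuadraticMap.polar_smul_left, smul_eq_mul] at hy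
      exact (mul_eq_zero.1 hy).resolve_left hc
    rw [sg_smul_left Q u y c hu.1 huy]
    exact hu.2 _ (by rw [QuadraticMap.polar_smul_right, huy, smul_zero])

theorem Cen_act {u : Fin n → F} (hu : u ∈ Cen Q H) (g : ↥(Cfsg.isometryGroup F ⇑Q))
    (hg : (g : GL (Fin n) F) ∈ H) : act Q g u ∈ Cen Q H := by
  refine ⟨by rw [Q_act, hu.1], fun y hy => ?_⟩
  have h1 : P u (act Q g⁻¹ y) = 0 := by
    rw [← polar_act Q g, Cfsg.Agent.Lib.H11.OmegaTrans.act_inv_act]; exact hy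
  have h2 := sg_conj Q g u (act Q g⁻¹ y) hu.1 h1
  rw [Cfsg.Agent.Lib.H11.OmegaTrans.act_inv_act] at h2
  rw [← h2]
  have h3 := hu.2 _ h1
  have : ((g * sg Q u (act Q g⁻¹ y) * g⁻¹ : ↥(Cfsg.isometryGroup F ⇑Q)) : GL (Fin n) F) =
      (g : GL (Fin n) F) * (sg Q u (act Q g⁻¹ y) : ↥(Cfsg.isometryGroup F ⇑Q)) *
        (g : GL (Fin n) F)⁻¹ := by
    simp
  rw [this]
  exact H.mul_mem (H.mul_mem hg h3) (H.inv_mem hg)

/-- A1: a root group with centre `u'` moves `u` to any singular `z` not orthogonal to `u'` -/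
theorem Cen_step {u u' : Fin n → F} (hu : u ∈ Cen Q H) (hu' : u' ∈ Cen Q H)
    (huu' : P u' u ≠ 0) (z : Fin n → F) (hz : Q z = 0) (hzu' : P u' z ≠ 0) : z ∈ Cen Q H := by
  obtain ⟨γ, hγ⟩ : ∃ γ, γ = P u' u := ⟨_, rfl⟩
  obtain ⟨c, hc⟩ : ∃ c, c = γ / P u' z := ⟨_, rfl⟩
  have hc0 : c ≠ 0 := by rw [hc, hγ]; exact div_ne_zero huu' hzu'
  obtain ⟨z', hz'⟩ : ∃ z', z' = c • z := ⟨_, rfl⟩
  have hQz' : Q z' = 0 := by rw [hz', QuadraticMap.map_smul, hz, smul_zero]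
  have hz'u' : P u' z' = γ := by
    rw [hz', QuadraticMap.polar_smul_right, hc, smul_eq_mul, div_mul_cancel₀ _ hzu']
  obtain ⟨y₀, hy₀⟩ : ∃ y₀, y₀ = γ⁻¹ • (z' - u) := ⟨_, rfl⟩
  have hγ0 : γ ≠ 0 := by rw [hγ]; exact huu'
  have h1 : P u' y₀ = 0 := by
    rw [hy₀, QuadraticMap.polar_smul_right, QuadraticMap.polar_sub_right, hz'u', ← hγ, sub_self,
      smul_zero]
  have h2 : act Q (sg Q u' y₀) u = z' := by
    rw [sg_act Q u' y₀ hu'.1 h1, ← hγ]
    have e1 : Q y₀ = -(γ⁻¹ * γ⁻¹ * P z' u) := by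
      rw [hy₀, QuadraticMap.map_smul, Q_sub', hQz', hu.1]
      simp
    have e2 : P y₀ u = γ⁻¹ * P z' u := by
      rw [hy₀, QuadraticMap.polar_smul_left, QuadraticMap.polar_sub_left, P_self, hu.1]
      simp
    rw [e1, e2, hy₀, smul_smul, mul_inv_cancel₀ hγ0, one_smul]
    have : -(γ⁻¹ * γ⁻¹ * P z' u) * γ = -(γ⁻¹ * P z' u) := by
      field_simp
    rw [this]
    module
  have h3 : z' ∈ Cen Q H := by
    rw [← h2]
    exact Cen_act Q H hu _ (hu'.2 _ h1)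
  have : z = c⁻¹ • z' := by rw [hz', smul_smul, inv_mul_cancel₀ hc0, one_smul]
  rw [this]
  exact Cen_smul Q H h3 _

end Cfsg.Agent.Lib.H11.OmTs
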