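import Cfsg.Agent.Lib.H11.SpinSign

/-!
The centraliser of `Ω(Q)` in `O(Q)` consists of `±1`, for `q` odd and `n ≥ 7`.
-/

set_option autoImplicit false

namespace Cfsg.Agent.Lib.H11.OmegaCenter

open Matrix
open scoped MatrixGroups
open Cfsg.Agent.Lib.H11.CD Cfsg.Agent.Lib.H11.SpinSign

variable {F : Type*} [Field F] [Fintype F] {n : ℕ} (Q : QuadraticForm F (Fin n → F))

open scoped Classical in
/-- a product of two reflections in vectors of the same norm lies in `Ω` -/
theorem refl_mul_refl_mem (hQ : (QuadraticMap.polarBilin Q).Nondegenerate) (h2 : (2 : F) ≠ 0)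
    (hn : 2 ≤ n) (v w : Fin n → F) (hv : Q v ≠ 0) (hw : Q w ≠ 0) (h : Q w = Q v) :
    reflEl Q v hv * reflEl Q w hw ∈ commutator ↥(Cfsg.isometryGroup F ⇑Q) := by
  rw [(main Q hQ h2 hn 1 one_ne_zero).2]
  constructor
  · rw [map_mul, detHom_reflEl, detHom_reflEl]
    simp
  · rw [map_mul, chi_reflEl Q h2 v hv 1 one_ne_zero, chi_reflEl Q h2 w hw 1 one_ne_zero, h]
    split_ifs <;> simp

theorem polar_symm (x y : Fin n → F) :
    QuadraticMap.polar (⇑Q) x y = QuadraticMap.polar (⇑Q) y x := QuadraticMap.polar_comm _ _ _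

/-- `z v` lies in the span of `v, w` when `z` commutes with `r_v r_w` -/
theorem act_mem_span (h2 : (2 : F) ≠ 0) (z : ↥(Cfsg.isometryGroup F ⇑Q)) (v w : Fin n → F)
    (hv : Q v ≠ 0) (hw : Q w ≠ 0) (hvw : QuadraticMap.polar (⇑Q) v w = 0)
    (hz : z * (reflEl Q v hv * reflEl Q w hw) = (reflEl Q v hv * reflEl Q w hw) * z) :
    act Q z v = ((2 * Q v)⁻¹ * QuadraticMap.polar (⇑Q) v (act Q z v)) • v +
      ((2 * Q w)⁻¹ * QuadraticMap.polar (⇑Q) w (act Q z v)) • w := by
  have h1 : act Q (reflEl Q v hv * reflEl Q w hw) v = -v := by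
    rw [act_mul, reflEl_act_of_polar_zero Q w hw v (by rw [polar_symm]; exact hvw), reflEl_act_self]
  have h3 : act Q (z * (reflEl Q v hv * reflEl Q w hw)) v =
      act Q ((reflEl Q v hv * reflEl Q w hw) * z) v := by rw [hz]
  rw [act_mul, h1, act_neg, act_mul, act_mul, reflEl_act Q w hw, reflEl_act Q v hv,
    QuadraticMap.polar_sub_right, QuadraticMap.polar_smul_right, hvw, smul_eq_mul, mul_zero,
    sub_zero] at h3
  set y := act Q z v with hy
  have h4 : (2 : F) • y = ((Q v)⁻¹ * QuadraticMap.polar (⇑Q) v y) • v +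
      ((Q w)⁻¹ * QuadraticMap.polar (⇑Q) w y) • w := by
    rw [two_smul]
    have : y + y = y - (-y) := by abel
    rw [this, h3]
    abel
  have h5 : y = (2 : F)⁻¹ • ((2 : F) • y) := by
    rw [smul_smul, inv_mul_cancel₀ h2, one_smul]
  calc y = (2 : F)⁻¹ • ((2 : F) • y) := h5
    _ = (2 : F)⁻¹ • (((Q v)⁻¹ * QuadraticMap.polar (⇑Q) v y) • v +
      ((Q w)⁻¹ * QuadraticMap.polar (⇑Q) w y) • w) := by rw [h4]
    _ = _ := by
      rw [smul_add, smul_smul, smul_smul]
      congr 2
      · rw [mul_inv]; ring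
      · rw [mul_inv]; ring

/-- if `v, w, w'` are pairwise orthogonal of the same norm, then `v` is an eigenvector of
every `z` centralising `Ω` -/
theorem eigen_of_triple (hQ : (QuadraticMap.polarBilin Q).Nondegenerate) (h2 : (2 : F) ≠ 0)
    (hn : 2 ≤ n) (z : ↥(Cfsg.isometryGroup F ⇑Q))
    (hz : ∀ g ∈ commutator ↥(Cfsg.isometryGroup F ⇑Q), z * g = g * z)
    (v w w' : Fin n → F) (hv : Q v ≠ 0) (hw : Q w = Q v) (hw' : Q w' = Q v)
    (hvw : QuadraticMap.polar (⇑Q) v w = 0) (hvw' : QuadraticMap.polar (⇑Q) v w' = 0)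
    (hww' : QuadraticMap.polar (⇑Q) w w' = 0) :
    ∃ a : F, act Q z v = a • v := by
  have hwn : Q w ≠ 0 := by rw [hw]; exact hv
  have hwn' : Q w' ≠ 0 := by rw [hw']; exact hv
  have e1 := act_mem_span Q h2 z v w hv hwn hvw
    (hz _ (refl_mul_refl_mem Q hQ h2 hn v w hv hwn hw))
  have e2 := act_mem_span Q h2 z v w' hv hwn' hvw'
    (hz _ (refl_mul_refl_mem Q hQ h2 hn v w' hv hwn' hw'))
  set y := act Q z v with hy
  -- apply `polar w` to both expressions
  have e4 : QuadraticMap.polar (⇑Q) w y = QuadraticMap.polar (⇑Q) w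
      (((2 * Q v)⁻¹ * QuadraticMap.polar (⇑Q) v y) • v +
      ((2 * Q w')⁻¹ * QuadraticMap.polar (⇑Q) w' y) • w') := by
    rw [← e2]
  rw [QuadraticMap.polar_add_right, QuadraticMap.polar_smul_right, QuadraticMap.polar_smul_right,
    polar_symm Q w v, hvw, hww', smul_eq_mul, smul_eq_mul, mul_zero, mul_zero, add_zero] at e4
  refine ⟨(2 * Q v)⁻¹ * QuadraticMap.polar (⇑Q) v y, ?_⟩
  calc y = ((2 * Q v)⁻¹ * QuadraticMap.polar (⇑Q) v y) • v +
      ((2 * Q w)⁻¹ * QuadraticMap.polar (⇑Q) w y) • w := e1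
    _ = _ := by rw [e4, mul_zero, zero_smul, add_zero]

theorem Q_comb (x y : F) (p q : Fin n → F) (hpq : QuadraticMap.polar (⇑Q) p q = 0) :
    Q (x • p + y • q) = x * x * Q p + y * y * Q q := by
  rw [QuadraticMap.map_add (⇑Q), QuadraticMap.map_smul, QuadraticMap.map_smul,
    QuadraticMap.polar_smul_left, QuadraticMap.polar_smul_right, hpq]
  simp only [smul_eq_mul]
  ring

theorem polar_comb (x y : F) (p q r s : Fin n → F) (h1 : QuadraticMap.polar (⇑Q) p r = 0)
    (h2 : QuadraticMap.polar (⇑Q) p s = 0) (h3 : QuadraticMap.polar (⇑Q) q r = 0)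
    (h4 : QuadraticMap.polar (⇑Q) q s = 0) :
    QuadraticMap.polar (⇑Q) (x • p + y • q) (x • r + y • s) = 0 := by
  simp only [QuadraticMap.polar_add_left, QuadraticMap.polar_add_right,
    QuadraticMap.polar_smul_left, QuadraticMap.polar_smul_right, h1, h2, h3, h4, smul_eq_mul,
    mul_zero, add_zero]

/-- eigenvectors from an orthogonal triple of the right norm, moved by Witt -/
theorem eigen_of_exists_triple (hQ : (QuadraticMap.polarBilin Q).Nondegenerate) (h2 : (2 : F) ≠ 0)
    (hn : 2 ≤ n) (z : ↥(Cfsg.isometryGroup F ⇑Q))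
    (hz : ∀ g ∈ commutator ↥(Cfsg.isometryGroup F ⇑Q), z * g = g * z)
    (v a₁ a₂ a₃ : Fin n → F) (hv : Q v ≠ 0) (h1 : Q a₁ = Q v) (h2' : Q a₂ = Q v)
    (h3 : Q a₃ = Q v) (h12 : QuadraticMap.polar (⇑Q) a₁ a₂ = 0)
    (h13 : QuadraticMap.polar (⇑Q) a₁ a₃ = 0) (h23 : QuadraticMap.polar (⇑Q) a₂ a₃ = 0) :
    ∃ a : F, act Q z v = a • v := by
  obtain ⟨s, -, hs, -⟩ := exists_move Q h2 ⊤ v a₁ trivial trivial hv h1
  refine eigen_of_triple Q hQ h2 hn z hz v (act Q s a₂) (act Q s a₃) hv ?_ ?_ ?_ ?_ ?_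
  · rw [Q_act, h2']
  · rw [Q_act, h3]
  · rw [← hs, polar_act, h12]
  · rw [← hs, polar_act, h13]
  · rw [polar_act, h23]

/-- orthogonal eigenvectors with nonsingular sum have the same eigenvalue -/
theorem eigen_pair (h2 : (2 : F) ≠ 0) (z : ↥(Cfsg.isometryGroup F ⇑Q)) (y y' : Fin n → F)
    (a a' m : F) (hy : Q y ≠ 0) (hy' : Q y' ≠ 0)
    (hyy' : QuadraticMap.polar (⇑Q) y y' = 0) (ha : act Q z y = a • y) (ha' : act Q z y' = a' • y')
    (hm : act Q z (y + y') = m • (y + y')) : a = a' := by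
  rw [act_add, ha, ha'] at hm
  have e1 := congrArg (fun x => QuadraticMap.polar (⇑Q) y x) hm
  have e2 := congrArg (fun x => QuadraticMap.polar (⇑Q) y' x) hm
  simp only [QuadraticMap.polar_add_right, QuadraticMap.polar_smul_right, hyy',
    polar_symm Q y' y, Cfsg.Agent.Lib.H4.polar_self, smul_eq_mul, mul_zero, add_zero,
    zero_add] at e1 e2
  have h1 : a = m := mul_right_cancel₀ (mul_ne_zero h2 hy) e1
  have h3 : a' = m := mul_right_cancel₀ (mul_ne_zero h2 hy') e2
  rw [h1, h3]

/-- the centraliser of `Ω` in `O` consists of scalars `±1` -/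
theorem centralizer (hQ : (QuadraticMap.polarBilin Q).Nondegenerate) (h2 : (2 : F) ≠ 0)
    (hn : 7 ≤ n) (z : ↥(Cfsg.isometryGroup F ⇑Q))
    (hz : ∀ g ∈ commutator ↥(Cfsg.isometryGroup F ⇑Q), z * g = g * z) :
    ∃ l : F, (l = 1 ∨ l = -1) ∧ ∀ x, act Q z x = l • x := by
  obtain ⟨n', rfl⟩ : ∃ n', n = n' + 1 := ⟨n - 1, by omega⟩
  have hn' : 6 ≤ n' := by omega
  have hchar : ringChar F ≠ 2 := by
    intro h
    apply h2
    have := CharP.cast_eq_zero F (ringChar F)
    rw [h] at this
    exact_mod_cast this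
  obtain ⟨ν, hν⟩ := FiniteField.exists_nonsquare hchar
  have hν0 : ν ≠ 0 := by
    rintro rfl
    exact hν ⟨0, by simp⟩
  have hS : LinearMap.BilinForm.IsSymm (QuadraticMap.polarBilin Q) := ⟨fun x y => by
    simp only [QuadraticMap.polarBilin_apply_apply]
    rw [QuadraticMap.polar_comm]⟩
  obtain ⟨b, hortho, hone, hlast⟩ := Cfsg.Agent.S0756.result h2 (QuadraticMap.polarBilin Q) hS hQ
    (by rw [Module.finrank_fin_fun]) ν hν
  have hpol : ∀ i j, i ≠ j → QuadraticMap.polar (⇑Q) (b i) (b j) = 0 := fun i j h => hortho i j h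
  have hQb : ∀ i, i ≠ Fin.last n' → 2 * Q (b i) = 1 := by
    intro i h
    have := hone i h
    rw [QuadraticMap.polarBilin_apply_apply, Cfsg.Agent.Lib.H4.polar_self] at this
    exact this
  have hQl : 2 * Q (b (Fin.last n')) = 1 ∨ 2 * Q (b (Fin.last n')) = ν := by
    rw [QuadraticMap.polarBilin_apply_apply, Cfsg.Agent.Lib.H4.polar_self] at hlast
    exact hlast
  have hQne : ∀ i, Q (b i) ≠ 0 := by
    intro i hi
    by_cases h : i = Fin.last n'
    · subst h
      rw [hi, mul_zero] at hQl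
      rcases hQl with h | h
      · exact zero_ne_one h
      · exact hν0 h.symm
    · have := hQb i h
      rw [hi, mul_zero] at this
      exact zero_ne_one this
  let idx : Fin 6 → Fin (n' + 1) := fun k => ⟨k.1, by omega⟩
  have hidx_inj : ∀ k k', k ≠ k' → idx k ≠ idx k' := by
    intro k k' h h'
    apply h
    have := congrArg Fin.val h'
    exact Fin.ext this
  have hidx_last : ∀ k, idx k ≠ Fin.last n' := by
    intro k h
    have := congrArg Fin.val h
    simp only [idx, Fin.val_last] at this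
    omega
  -- every nonsingular vector is an eigenvector
  have heig : ∀ v : Fin (n' + 1) → F, Q v ≠ 0 → ∃ a : F, act Q z v = a • v := by
    intro v hv
    have hk : (2 * Q v)⁻¹ ≠ 0 := inv_ne_zero (mul_ne_zero h2 hv)
    obtain ⟨x, y, hxy⟩ := Cfsg.Agent.S0756.diag_universal h2 (2 * Q v)⁻¹ (2 * Q v)⁻¹ hk hk
    have hx : x ^ 2 + y ^ 2 = 2 * Q v := by
      field_simp at hxy
      linear_combination hxy
    have hQa : ∀ k k', k ≠ k' → Q (x • b (idx k) + y • b (idx k')) = Q v := by
      intro k k' h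
      rw [Q_comb Q x y _ _ (hpol _ _ (hidx_inj k k' h))]
      have e1 := hQb (idx k) (hidx_last k)
      have e2 := hQb (idx k') (hidx_last k')
      apply mul_left_cancel₀ h2
      linear_combination x * x * e1 + y * y * e2 + hx
    apply eigen_of_exists_triple Q hQ h2 (by omega) z hz v (x • b (idx 0) + y • b (idx 1))
      (x • b (idx 2) + y • b (idx 3)) (x • b (idx 4) + y • b (idx 5)) hv
      (hQa 0 1 (by decide)) (hQa 2 3 (by decide)) (hQa 4 5 (by decide))
    · apply polar_comb <;> apply hpol <;> apply hidx_inj <;> decide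
    · apply polar_comb <;> apply hpol <;> apply hidx_inj <;> decide
    · apply polar_comb <;> apply hpol <;> apply hidx_inj <;> decide
  choose a ha using fun i => heig (b i) (hQne i)
  have hsumQ : ∀ i j, i ≠ j → Q (b i + b j) = Q (b i) + Q (b j) := by
    intro i j h
    rw [QuadraticMap.map_add (⇑Q), hpol i j h, add_zero]
  have h01 : idx 0 ≠ idx 1 := hidx_inj 0 1 (by decide)
  -- non-last indices
  have hconst1 : ∀ i, i ≠ Fin.last n' → a i = a (idx 0) := by
    intro i hi
    by_cases hi0 : i = idx 0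
    · rw [hi0]
    · have hne : Q (b (idx 0) + b i) ≠ 0 := by
        rw [hsumQ _ _ (Ne.symm hi0)]
        have e1 := hQb (idx 0) (hidx_last 0)
        have e2 := hQb i hi
        intro h
        have : (2 : F) = 0 := by linear_combination 2 * h - e1 - e2
        exact h2 this
      obtain ⟨m, hm⟩ := heig _ hne
      exact (eigen_pair Q h2 z (b (idx 0)) (b i) (a (idx 0)) (a i) m (hQne _) (hQne _)
        (hpol _ _ (Ne.symm hi0)) (ha _) (ha _) hm).symm
  have hconst : ∀ i, a i = a (idx 0) := by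
    intro i
    by_cases hi : i = Fin.last n'
    · subst hi
      by_cases hsum : Q (b (idx 0)) + Q (b (Fin.last n')) = 0
      · -- use the triple
        have hy : act Q z (b (idx 0) + b (idx 1)) = a (idx 0) • (b (idx 0) + b (idx 1)) := by
          rw [act_add, ha, ha, hconst1 (idx 1) (hidx_last 1), smul_add]
        have e0 := hQb (idx 0) (hidx_last 0)
        have e1 := hQb (idx 1) (hidx_last 1)
        have hQy : Q (b (idx 0) + b (idx 1)) = 1 := by
          rw [hsumQ _ _ h01]
          apply mul_left_cancel₀ h2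
          linear_combination e0 + e1
        have hyl : QuadraticMap.polar (⇑Q) (b (idx 0) + b (idx 1)) (b (Fin.last n')) = 0 := by
          rw [QuadraticMap.polar_add_left, hpol _ _ (hidx_last 0), hpol _ _ (hidx_last 1),
            add_zero]
        have hne : Q (b (idx 0) + b (idx 1) + b (Fin.last n')) ≠ 0 := by
          rw [QuadraticMap.map_add (⇑Q), hyl, add_zero, hQy]
          intro h
          have : (1 : F) = 0 := by linear_combination 2 * h - 2 * hsum + e0
          exact one_ne_zero this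
        obtain ⟨m, hm⟩ := heig _ hne
        exact (eigen_pair Q h2 z _ (b (Fin.last n')) (a (idx 0)) (a (Fin.last n')) m
          (by rw [hQy]; exact one_ne_zero) (hQne _) hyl hy (ha _) hm).symm
      · have hne : Q (b (idx 0) + b (Fin.last n')) ≠ 0 := by
          rw [hsumQ _ _ (hidx_last 0)]
          exact hsum
        obtain ⟨m, hm⟩ := heig _ hne
        exact (eigen_pair Q h2 z (b (idx 0)) (b (Fin.last n')) (a (idx 0)) (a (Fin.last n')) m
          (hQne _) (hQne _) (hpol _ _ (hidx_last 0)) (ha _) (ha _) hm).symm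
    · exact hconst1 i hi
  refine ⟨a (idx 0), ?_, ?_⟩
  · have h1 := Q_act Q z (b (idx 0))
    rw [ha, QuadraticMap.map_smul, smul_eq_mul] at h1
    have h3 : a (idx 0) * a (idx 0) = 1 := by
      apply mul_right_cancel₀ (hQne (idx 0))
      rw [h1, one_mul]
    exact mul_self_eq_one_iff.1 h3
  · have hlin : Matrix.mulVecLin ((z : GL (Fin (n' + 1)) F) : Matrix (Fin (n' + 1)) (Fin (n' + 1)) F) =
        a (idx 0) • LinearMap.id := by
      apply b.ext
      intro i
      rw [Matrix.mulVecLin_apply, LinearMap.smul_apply, LinearMap.id_apply, ← hconst i]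
      exact ha i
    intro x
    have := congrArg (fun f => f x) hlin
    simp only [Matrix.mulVecLin_apply, LinearMap.smul_apply, LinearMap.id_apply] at this
    exact this

theorem centralizer_val (hQ : (QuadraticMap.polarBilin Q).Nondegenerate) (h2 : (2 : F) ≠ 0)
    (hn : 7 ≤ n) (z : ↥(Cfsg.isometryGroup F ⇑Q))
    (hz : ∀ g ∈ commutator ↥(Cfsg.isometryGroup F ⇑Q), z * g = g * z) :
    ((z : GL (Fin n) F) : Matrix (Fin n) (Fin n) F) = 1 ∨
      ((z : GL (Fin n) F) : Matrix (Fin n) (Fin n) F) = -1 := by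
  obtain ⟨l, hl, hx⟩ := centralizer Q hQ h2 hn z hz
  rcases hl with rfl | rfl
  · left
    rw [Matrix.ext_iff_mulVec]
    intro x
    rw [Matrix.one_mulVec]
    have := hx x
    rw [one_smul] at this
    exact this
  · right
    rw [Matrix.ext_iff_mulVec]
    intro x
    rw [Matrix.neg_mulVec, Matrix.one_mulVec]
    have := hx x
    rw [neg_smul, one_smul] at this
    exact this

end Cfsg.Agent.Lib.H11.OmegaCenter
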