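import Cfsg.Agent.Lib.H11.OmegaCenter2

/-!
Orders of `PΩ(Q)` in terms of `|O(Q)|`.
-/

set_option autoImplicit false

namespace Cfsg.Agent.Lib.H11.OmegaOrder

open Matrix
open scoped MatrixGroups
open Cfsg.Agent.Lib.H11.SiegelGen Cfsg.Agent.Lib.H11.OmegaTrans Cfsg.Agent.Lib.H11.OmegaSimple
open Cfsg.Agent.Lib.H11.OmegaCenter2 Cfsg.Agent.Lib.H11.IsoReindex Cfsg.Agent.Lib.H11.OmegaGen

variable {F : Type*} [Field F] [Fintype F]

theorem card_quot_center {G : Type*} [Group G] [Finite G] :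
    Nat.card (G ⧸ Subgroup.center G) * Nat.card (Subgroup.center G) = Nat.card G :=
  (Subgroup.card_eq_card_quotient_mul_card_subgroup (Subgroup.center G)).symm

open scoped Classical in
/-- `q` odd: `|PΩ| · 4 · |Z(Ω)| = |O|` -/
theorem card_pomega_odd {ι : Type} [Fintype ι] [DecidableEq ι] (Q : QuadraticForm F (ι → F))
    (hQ : (QuadraticMap.polarBilin Q).Nondegenerate) (h2 : (2 : F) ≠ 0)
    (hcard : 7 ≤ Fintype.card ι) :
    Nat.card (Cfsg.POmega F ⇑Q) *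
      (4 * if (∃ g : ↥(Cfsg.isometryGroup F ⇑Q), g ∈ Cfsg.Omega F ⇑Q ∧
        ((g : GL ι F) : Matrix ι ι F) = -1) then 2 else 1) =
      Nat.card ↥(Cfsg.isometryGroup F ⇑Q) := by
  have hidx := index_omega Q hQ h2 (by omega)
  have hcen := card_center_odd Q hQ h2 hcard
  have h1 := Subgroup.card_mul_index (Cfsg.Omega F ⇑Q)
  have h3 : Nat.card (Cfsg.POmega F ⇑Q) * Nat.card (Subgroup.center ↥(Cfsg.Omega F ⇑Q)) =
      Nat.card ↥(Cfsg.Omega F ⇑Q) := card_quot_center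
  rw [hidx] at h1
  rw [hcen] at h3
  rw [← h1, ← h3]
  ring

/-- characteristic two: `|PΩ| · 2 = |O|` -/
theorem card_pomega_char_two [CharP F 2] {n : ℕ} (Q : QuadraticForm F (Fin n → F))
    (hQ : (QuadraticMap.polarBilin Q).Nondegenerate) (hgen : RGen Q)
    (hidx : (Cfsg.Omega F ⇑Q).index = 2) (hn : 7 ≤ n) :
    Nat.card (Cfsg.POmega F ⇑Q) * 2 = Nat.card ↥(Cfsg.isometryGroup F ⇑Q) := by
  have hcen := center_eq_bot_char_two Q hQ (adj_of_index_two Q hQ hgen hidx) hn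
    (commutator_eq_S_of_rGen Q hQ hgen hn)
  have h1 := Subgroup.card_mul_index (Cfsg.Omega F ⇑Q)
  have h3 : Nat.card (Cfsg.POmega F ⇑Q) * Nat.card (Subgroup.center ↥(Cfsg.Omega F ⇑Q)) =
      Nat.card ↥(Cfsg.Omega F ⇑Q) := card_quot_center
  rw [hidx] at h1
  rw [hcen, Subgroup.card_bot, mul_one] at h3
  rw [← h1, ← h3]

/-- transport of the orders along a reindexing -/
theorem card_transport {ι : Type} [Fintype ι] [DecidableEq ι] (Q : QuadraticForm F (ι → F))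
    {k : ℕ} (e : ι ≃ Fin k) :
    Nat.card (Cfsg.POmega F ⇑Q) = Nat.card (Cfsg.POmega F ⇑(trQF e Q)) ∧
      Nat.card ↥(Cfsg.isometryGroup F ⇑Q) = Nat.card ↥(Cfsg.isometryGroup F ⇑(trQF e Q)) := by
  let Θ : ↥(Cfsg.isometryGroup F ⇑Q) ≃* ↥(Cfsg.isometryGroup F ⇑(trQF e Q)) := isoEquiv e ⇑Q
  exact ⟨Nat.card_congr (centerQuotCongr (commutatorCongr Θ)).toEquiv, Nat.card_congr Θ.toEquiv⟩

end Cfsg.Agent.Lib.H11.OmegaOrder
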