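import Cfsg.Agent.Lib.H11.OmegaTrans

/-!
`Ω(Q)` acts primitively on the singular points (`n ≥ 7`, given the adjustment property `Adj`).
-/

set_option autoImplicit false
set_option linter.unusedSimpArgs false

namespace Cfsg.Agent.Lib.H11.OmegaPrim

open Matrix
open scoped MatrixGroups LinearAlgebra.Projectivization Pointwise
open Cfsg.Agent.Lib.H11.CD Cfsg.Agent.Lib.H11.SpinSign Cfsg.Agent.Lib.H11.ReflClass
open Cfsg.Agent.Lib.H11.SiegelGen Cfsg.Agent.Lib.H11.OmegaTrans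

variable {F : Type*} [Field F] {n : ℕ} (Q : QuadraticForm F (Fin n → F))

set_option quotPrecheck false in
local notation "P" => QuadraticMap.polar (⇑Q)

theorem act_ne_zero (g : ↥(Cfsg.isometryGroup F ⇑Q)) (v : Fin n → F) (hv : v ≠ 0) :
    act Q g v ≠ 0 := by
  intro h
  apply hv
  have := congrArg (act Q g⁻¹) h
  rwa [act_act_inv, act, Matrix.mulVec_zero] at this

theorem smul_mk (g : ↥(Cfsg.isometryGroup F ⇑Q)) (v : Fin n → F) (hv : v ≠ 0) :
    g • Projectivization.mk F v hv = Projectivization.mk F (act Q g v) (act_ne_zero Q g v hv) := by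
  show (g : GL (Fin n) F) • Projectivization.mk F v hv = _
  rw [Projectivization.smul_mk]
  rfl

/-- a projective point is singular -/
def IsSing (p : ℙ F (Fin n → F)) : Prop := Q p.rep = 0

theorem isSing_mk (v : Fin n → F) (hv : v ≠ 0) :
    IsSing Q (Projectivization.mk F v hv) ↔ Q v = 0 := by
  obtain ⟨a, ha⟩ := Projectivization.exists_smul_eq_mk_rep F v hv
  rw [IsSing, ← ha, Units.smul_def, QuadraticMap.map_smul, smul_eq_mul]
  constructor
  · intro h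
    rcases mul_eq_zero.1 h with h | h
    · exact absurd h (mul_ne_zero a.ne_zero a.ne_zero)
    · exact h
  · intro h
    rw [h, mul_zero]

/-- the singular points, with the action of the isometry group -/
def singPts : SubMulAction ↥(Cfsg.isometryGroup F ⇑Q) (ℙ F (Fin n → F)) where
  carrier := {p | IsSing Q p}
  smul_mem' := by
    intro g p hp
    induction p using Projectivization.ind with
    | h v hv =>
      rw [Set.mem_ofPred_eq, isSing_mk] at hp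
      rw [Set.mem_ofPred_eq, smul_mk, isSing_mk, Q_act, hp]

/-- the singular point spanned by a singular vector -/
def mkS (v : Fin n → F) (hv : v ≠ 0) (hQv : Q v = 0) : ↥(singPts Q) :=
  ⟨Projectivization.mk F v hv, (isSing_mk Q v hv).2 hQv⟩

theorem smul_mkS (g : ↥(Cfsg.isometryGroup F ⇑Q)) (v : Fin n → F) (hv : v ≠ 0) (hQv : Q v = 0) :
    g • mkS Q v hv hQv = mkS Q (act Q g v) (act_ne_zero Q g v hv) (by rw [Q_act, hQv]) := by
  apply Subtype.ext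
  show g • Projectivization.mk F v hv = _
  rw [smul_mk]
  rfl

/-- the action of `Ω` on the singular points -/
instance instMulActionOmega : MulAction ↥(Cfsg.Omega F ⇑Q) ↥(singPts Q) :=
  Subgroup.instMulAction

instance instSMulOmega : SMul ↥(Cfsg.Omega F ⇑Q) ↥(singPts Q) :=
  (instMulActionOmega Q).toSMul

theorem smul_mkS' (g : ↥(Cfsg.Omega F ⇑Q)) (v : Fin n → F) (hv : v ≠ 0) (hQv : Q v = 0) :
    g • mkS Q v hv hQv = mkS Q (act Q g.1 v) (act_ne_zero Q g.1 v hv) (by rw [Q_act, hQv]) :=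
  smul_mkS Q g.1 v hv hQv

theorem exists_mkS (p : ↥(singPts Q)) : ∃ v hv hQv, p = mkS Q v hv hQv := by
  obtain ⟨p, hp⟩ := p
  induction p using Projectivization.ind with
  | h v hv =>
    exact ⟨v, hv, (isSing_mk Q v hv).1 hp, rfl⟩

theorem mkS_eq_iff (v w : Fin n → F) (hv : v ≠ 0) (hw : w ≠ 0) (hQv : Q v = 0) (hQw : Q w = 0) :
    mkS Q v hv hQv = mkS Q w hw hQw ↔ ∃ a : F, a • w = v := by
  rw [Subtype.ext_iff]
  exact Projectivization.mk_eq_mk_iff' F v w hv hw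

theorem li_of_ne (x y : Fin n → F) (hx : x ≠ 0) (hy : y ≠ 0) (hQx : Q x = 0) (hQy : Q y = 0)
    (h : mkS Q x hx hQx ≠ mkS Q y hy hQy) : LinearIndependent F ![x, y] := by
  rw [LinearIndependent.pair_iff' hx]
  intro a ha
  apply h
  rw [eq_comm, mkS_eq_iff]
  exact ⟨a, ha⟩

theorem mkS_smul (x : Fin n → F) (hx : x ≠ 0) (hQx : Q x = 0) (c : F) (hc : c ≠ 0) :
    mkS Q (c • x) (smul_ne_zero hc hx) (by rw [QuadraticMap.map_smul, hQx, smul_zero]) =
      mkS Q x hx hQx := by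
  rw [mkS_eq_iff]
  exact ⟨c, rfl⟩

theorem mkS_congr (x y : Fin n → F) (hx : x ≠ 0) (hQx : Q x = 0) (hy : y ≠ 0) (hQy : Q y = 0)
    (h : x = y) : mkS Q x hx hQx = mkS Q y hy hQy := by
  subst h; rfl

theorem claimA [Fintype F] (hQ : (QuadraticMap.polarBilin Q).Nondegenerate)
    (hadj : Adj Q) (hn : 7 ≤ n) {Δ : Set ↥(singPts Q)}
    (hΔ : MulAction.IsBlock ↥(Cfsg.Omega F ⇑Q) Δ) (x y y' : Fin n → F)
    (hx : x ≠ 0) (hy : y ≠ 0) (hy' : y' ≠ 0) (hQx : Q x = 0) (hQy : Q y = 0) (hQy' : Q y' = 0)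
    (hxΔ : mkS Q x hx hQx ∈ Δ) (hyΔ : mkS Q y hy hQy ∈ Δ)
    (hxy : P x y ≠ 0) (hxy' : P x y' ≠ 0) : mkS Q y' hy' hQy' ∈ Δ := by
  obtain ⟨c, hc⟩ : ∃ c, c = P x y / P x y' := ⟨_, rfl⟩
  have hc0 : c ≠ 0 := by rw [hc]; exact div_ne_zero hxy hxy'
  have hQcy' : Q (c • y') = 0 := by rw [QuadraticMap.map_smul, hQy', smul_zero]
  have hB : P x (c • y') = P x y := by
    rw [QuadraticMap.polar_smul_right, smul_eq_mul, hc, div_mul_cancel₀ _ hxy']
  obtain ⟨ω, hω, hωx, hωy⟩ := omega_trans_hyp Q hQ hadj hn x y x (c • y') hQx hQy hQx hQcy' hxy hB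
  have h1 : (⟨ω, hω⟩ : ↥(Cfsg.Omega F ⇑Q)) • mkS Q x hx hQx = mkS Q x hx hQx := by
    rw [smul_mkS']
    exact mkS_congr Q _ _ _ _ _ _ hωx
  have h2' : (⟨ω, hω⟩ : ↥(Cfsg.Omega F ⇑Q)) • Δ = Δ :=
    hΔ.smul_eq_of_mem hxΔ (by rw [h1]; exact hxΔ)
  rw [← mkS_smul Q y' hy' hQy' c hc0, ← h2']
  refine ⟨mkS Q y hy hQy, hyΔ, ?_⟩
  show (⟨ω, hω⟩ : ↥(Cfsg.Omega F ⇑Q)) • mkS Q y hy hQy = _
  rw [smul_mkS']
  exact mkS_congr Q _ _ _ _ _ _ hωy

theorem claimB [Fintype F] (hQ : (QuadraticMap.polarBilin Q).Nondegenerate)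
    (hadj : Adj Q) (hn : 7 ≤ n) {Δ : Set ↥(singPts Q)}
    (hΔ : MulAction.IsBlock ↥(Cfsg.Omega F ⇑Q) Δ) (x y y' : Fin n → F)
    (hx : x ≠ 0) (hy : y ≠ 0) (hy' : y' ≠ 0) (hQx : Q x = 0) (hQy : Q y = 0) (hQy' : Q y' = 0)
    (hxΔ : mkS Q x hx hQx ∈ Δ) (hyΔ : mkS Q y hy hQy ∈ Δ)
    (hne : mkS Q x hx hQx ≠ mkS Q y hy hQy) (hne' : mkS Q x hx hQx ≠ mkS Q y' hy' hQy')
    (hxy : P x y = 0) (hxy' : P x y' = 0) : mkS Q y' hy' hQy' ∈ Δ := by
  obtain ⟨ω, hω, hωx, hωy⟩ := omega_trans_ts Q hQ hadj hn x y x y' hQx hQy hQx hQy' hxy hxy'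
    (li_of_ne Q x y hx hy hQx hQy hne) (li_of_ne Q x y' hx hy' hQx hQy' hne')
  have h1 : (⟨ω, hω⟩ : ↥(Cfsg.Omega F ⇑Q)) • mkS Q x hx hQx = mkS Q x hx hQx := by
    rw [smul_mkS']
    exact mkS_congr Q _ _ _ _ _ _ hωx
  have h2' : (⟨ω, hω⟩ : ↥(Cfsg.Omega F ⇑Q)) • Δ = Δ :=
    hΔ.smul_eq_of_mem hxΔ (by rw [h1]; exact hxΔ)
  rw [← h2']
  refine ⟨mkS Q y hy hQy, hyΔ, ?_⟩
  show (⟨ω, hω⟩ : ↥(Cfsg.Omega F ⇑Q)) • mkS Q y hy hQy = _
  rw [smul_mkS']
  exact mkS_congr Q _ _ _ _ _ _ hωy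

theorem exists_nonorth (hQ : (QuadraticMap.polarBilin Q).Nondegenerate) (x : Fin n → F)
    (hx : x ≠ 0) : ∃ u, P x u ≠ 0 := by
  by_contra hcon
  push Not at hcon
  exact hx (hQ.1 x hcon)

theorem exists_nonorth₂ (hQ : (QuadraticMap.polarBilin Q).Nondegenerate) (x w : Fin n → F)
    (hx : x ≠ 0) (hw : w ≠ 0) : ∃ u, P x u ≠ 0 ∧ P w u ≠ 0 := by
  obtain ⟨u₁, hu₁⟩ := exists_nonorth Q hQ x hx
  obtain ⟨u₂, hu₂⟩ := exists_nonorth Q hQ w hw
  by_cases h1 : P w u₁ ≠ 0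
  · exact ⟨u₁, hu₁, h1⟩
  rw [not_not] at h1
  by_cases h2 : P x u₂ ≠ 0
  · exact ⟨u₂, h2, hu₂⟩
  rw [not_not] at h2
  refine ⟨u₁ + u₂, ?_, ?_⟩
  · rw [QuadraticMap.polar_add_right, h2, add_zero]; exact hu₁
  · rw [QuadraticMap.polar_add_right, h1, zero_add]; exact hu₂

/-- (E1) a singular vector not orthogonal to two given orthogonal singular vectors -/
theorem exists_sing_nonorth (hQ : (QuadraticMap.polarBilin Q).Nondegenerate) (x w : Fin n → F)
    (hx : x ≠ 0) (hw : w ≠ 0) (hQx : Q x = 0) (hxw : P x w = 0) :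
    ∃ u, u ≠ 0 ∧ Q u = 0 ∧ P x u ≠ 0 ∧ P w u ≠ 0 := by
  obtain ⟨u₀, h1, h2⟩ := exists_nonorth₂ Q hQ x w hx hw
  have hxx : P x x = 0 := by rw [Cfsg.Agent.Lib.H4.polar_self, hQx, mul_zero]
  have hwx : P w x = 0 := by rw [QuadraticMap.polar_comm, hxw]
  have h1' : P x (u₀ + (-Q u₀ / P x u₀) • x) ≠ 0 := by
    rw [QuadraticMap.polar_add_right, QuadraticMap.polar_smul_right, hxx, smul_zero, add_zero]
    exact h1
  refine ⟨u₀ + (-Q u₀ / P x u₀) • x, ?_, ?_, h1', ?_⟩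
  · rintro h
    rw [h, QuadraticMap.polar_zero_right] at h1'
    exact h1' rfl
  · rw [QuadraticMap.map_add (⇑Q), QuadraticMap.map_smul, hQx, smul_zero, add_zero,
      QuadraticMap.polar_smul_right, QuadraticMap.polar_comm (⇑Q) u₀ x, smul_eq_mul,
      div_mul_cancel₀ _ h1]
    ring
  · rw [QuadraticMap.polar_add_right, QuadraticMap.polar_smul_right, hwx, smul_zero, add_zero]
    exact h2

/-- (E2) a singular vector orthogonal to a hyperbolic pair -/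
theorem exists_sing_orth [Fintype F] (hQ : (QuadraticMap.polarBilin Q).Nondegenerate)
    (hadj : Adj Q) (hn : 7 ≤ n) (x w : Fin n → F) (hQx : Q x = 0) (hQw : Q w = 0)
    (hxw : P x w ≠ 0) : ∃ z, z ≠ 0 ∧ Q z = 0 ∧ P x z = 0 ∧ P w z = 0 := by
  obtain ⟨e₁, f₁, e₂, f₂, e₃, f₃, he₁, hf₁, he₂, hf₂, he₃, hf₃, h11, h22, h33, h12ee, h12ef,
    h12fe, h12ff, h3e1, h3f1, h3e2, h3f2, h3'e1, h3'f1, h3'e2, h3'f2⟩ := exists_three_pairs Q hQ hn
  have hb : Q (P x w • f₁) = 0 := by rw [QuadraticMap.map_smul, hf₁, smul_zero]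
  have hPb : P e₁ (P x w • f₁) = P x w := by
    rw [QuadraticMap.polar_smul_right, h11, smul_eq_mul, mul_one]
  obtain ⟨ω, -, hωx, hωw⟩ := omega_trans_hyp Q hQ hadj hn x w e₁ (P x w • f₁) hQx hQw he₁ hb hxw hPb
  have he₂0 : e₂ ≠ 0 := by
    rintro rfl
    rw [QuadraticMap.polar_zero_left] at h22
    exact zero_ne_one h22
  refine ⟨act Q ω⁻¹ e₂, act_ne_zero Q _ _ he₂0, by rw [Q_act, he₂], ?_, ?_⟩
  · rw [← polar_act Q ω, act_inv_act, hωx, h12ee]
  · rw [← polar_act Q ω, act_inv_act, hωw, QuadraticMap.polar_smul_left, h12fe, smul_zero]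

theorem isPretransitive [Fintype F] (hQ : (QuadraticMap.polarBilin Q).Nondegenerate)
    (hadj : Adj Q) (hn : 7 ≤ n) :
    MulAction.IsPretransitive ↥(Cfsg.Omega F ⇑Q) ↥(singPts Q) := by
  refine ⟨fun p q => ?_⟩
  obtain ⟨x, hx, hQx, rfl⟩ := exists_mkS Q p
  obtain ⟨y, hy, hQy, rfl⟩ := exists_mkS Q q
  obtain ⟨ω, hω, h⟩ := omega_trans_sing Q hQ hadj hn x y hx hy hQx hQy
  refine ⟨⟨ω, hω⟩, ?_⟩
  rw [smul_mkS']
  exact mkS_congr Q _ _ _ _ _ _ h

/-- `Ω` acts primitively on the singular points -/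
theorem isPreprimitive [Fintype F] (hQ : (QuadraticMap.polarBilin Q).Nondegenerate)
    (hadj : Adj Q) (hn : 7 ≤ n) :
    MulAction.IsPreprimitive ↥(Cfsg.Omega F ⇑Q) ↥(singPts Q) := by
  have htrans := isPretransitive Q hQ hadj hn
  refine { htrans with isTrivialBlock_of_isBlock := ?_ }
  intro Δ hΔ
  by_cases hs : Δ.Subsingleton
  · exact Or.inl hs
  right
  rw [Set.not_subsingleton_iff] at hs
  obtain ⟨p, hp, p', hp', hne⟩ := hs
  obtain ⟨x, hx, hQx, rfl⟩ := exists_mkS Q p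
  obtain ⟨y, hy, hQy, rfl⟩ := exists_mkS Q p'
  rw [Set.eq_univ_iff_forall]
  intro r
  obtain ⟨w, hw, hQw, rfl⟩ := exists_mkS Q r
  by_cases hxy : P x y ≠ 0
  · by_cases hxw : P x w ≠ 0
    · exact claimA Q hQ hadj hn hΔ x y w hx hy hw hQx hQy hQw hp hp' hxy hxw
    · rw [not_not] at hxw
      obtain ⟨u, hu, hQu, hxu, hwu⟩ := exists_sing_nonorth Q hQ x w hx hw hQx hxw
      have huΔ : mkS Q u hu hQu ∈ Δ :=
        claimA Q hQ hadj hn hΔ x y u hx hy hu hQx hQy hQu hp hp' hxy hxu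
      exact claimA Q hQ hadj hn hΔ u x w hu hx hw hQu hQx hQw huΔ hp
        (by rw [QuadraticMap.polar_comm]; exact hxu) (by rw [QuadraticMap.polar_comm]; exact hwu)
  · rw [not_not] at hxy
    by_cases hxw : P x w = 0
    · by_cases hxw' : mkS Q x hx hQx = mkS Q w hw hQw
      · rw [← hxw']; exact hp
      · exact claimB Q hQ hadj hn hΔ x y w hx hy hw hQx hQy hQw hp hp' hne hxw' hxy hxw
    · obtain ⟨z, hz, hQz, hxz, hwz⟩ := exists_sing_orth Q hQ hadj hn x w hQx hQw hxw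
      have hnez : mkS Q x hx hQx ≠ mkS Q z hz hQz := by
        intro h
        rw [mkS_eq_iff] at h
        obtain ⟨a, ha⟩ := h
        apply hxw
        rw [← ha, QuadraticMap.polar_smul_left, QuadraticMap.polar_comm, hwz, smul_zero]
      have hzΔ : mkS Q z hz hQz ∈ Δ :=
        claimB Q hQ hadj hn hΔ x y z hx hy hz hQx hQy hQz hp hp' hne hnez hxy hxz
      have hnezw : mkS Q z hz hQz ≠ mkS Q w hw hQw := by
        intro h
        rw [mkS_eq_iff] at h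
        obtain ⟨a, ha⟩ := h
        apply hxw
        have : P x z = a * P x w := by
          rw [← ha, QuadraticMap.polar_smul_right, smul_eq_mul]
        rw [hxz] at this
        have ha0 : a ≠ 0 := by
          rintro rfl
          rw [zero_smul] at ha
          exact hz ha.symm
        exact (mul_eq_zero.1 this.symm).resolve_left ha0
      exact claimB Q hQ hadj hn hΔ z x w hz hx hw hQz hQx hQw hzΔ hp hnez.symm hnezw
        (by rw [QuadraticMap.polar_comm]; exact hxz) (by rw [QuadraticMap.polar_comm]; exact hwz)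

end Cfsg.Agent.Lib.H11.OmegaPrim
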