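import Cfsg.Agent.Lib.H11.OmegaAll
import Cfsg.Agent.S0789

/-!
Witt's theorem inside `Ω(Q)` for a non-degenerate quadratic form on `ι → F`, any finite index type `ι`
with at least 5 elements, every finite field (odd or even): the adjustment property `Adj` holds
unconditionally, and `omega_witt` is transported along `Fintype.equivFin ι`.
-/

set_option autoImplicit false

namespace Cfsg.Agent.Lib.H11.OmegaWittAny

open Matrix
open scoped MatrixGroups
open Cfsg.Agent.Lib.H11.CD Cfsg.Agent.Lib.H11.OmegaTrans Cfsg.Agent.Lib.H11.SiegelGen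
  Cfsg.Agent.Lib.H11.IsoReindex

/-- the adjustment property, for all finite fields and all dimensions at least 5 -/
theorem adj_all {F : Type*} [Field F] [Fintype F] {n : ℕ} (Q : QuadraticForm F (Fin n → F))
    (hQ : (QuadraticMap.polarBilin Q).Nondegenerate) (hn : 5 ≤ n) : Adj Q := by
  by_cases h2 : (2 : F) = 0
  · have : CharP F 2 := CharTwo.of_one_ne_zero_of_two_eq_zero one_ne_zero h2
    refine adj_of_index_two Q hQ ?_ (Cfsg.Agent.S0789.result (by omega) Q hQ (Or.inr (by omega)))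
    intro g
    rw [Cfsg.Agent.S0786.result Q hQ (Or.inr (by omega))]
    exact Subgroup.mem_top g
  · exact adj_of_odd Q hQ h2

/-- **Witt's theorem inside `Ω`**, any index type, any finite field: two linearly independent families
with the same values of `Q` and the same Gram matrix, equivalent to a family `x₀` orthogonal to a
hyperbolic pair, are conjugate under `Ω = [O, O]` -/
theorem omega_witt_any {F : Type*} [Field F] [Fintype F] {ι : Type} [Fintype ι] [DecidableEq ι]
    (Q : QuadraticForm F (ι → F)) (hQ : (QuadraticMap.polarBilin Q).Nondegenerate)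
    (hcard : 5 ≤ Fintype.card ι) (k : ℕ) (x y x₀ : Fin k → ι → F)
    (hx : LinearIndependent F x) (hy : LinearIndependent F y) (hx₀ : LinearIndependent F x₀)
    (hQy : ∀ i, Q (y i) = Q (x i))
    (hPy : ∀ i j, QuadraticMap.polar (⇑Q) (y i) (y j) = QuadraticMap.polar (⇑Q) (x i) (x j))
    (hQ0 : ∀ i, Q (x₀ i) = Q (x i))
    (hP0 : ∀ i j, QuadraticMap.polar (⇑Q) (x₀ i) (x₀ j) = QuadraticMap.polar (⇑Q) (x i) (x j))
    (e f : ι → F) (he : Q e = 0) (hf : Q f = 0) (hef : QuadraticMap.polar (⇑Q) e f = 1)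
    (hex : ∀ i, QuadraticMap.polar (⇑Q) e (x₀ i) = 0)
    (hfx : ∀ i, QuadraticMap.polar (⇑Q) f (x₀ i) = 0) :
    ∃ ω : ↥(Cfsg.isometryGroup F ⇑Q), ω ∈ commutator ↥(Cfsg.isometryGroup F ⇑Q) ∧
      ∀ i, ((ω : GL ι F) : Matrix ι ι F) *ᵥ x i = y i := by
  classical
  set ε := Fintype.equivFin ι with hε
  set Q' := trQF ε Q with hQ'
  have hnd' := nondeg_trQF ε Q hQ
  -- the transport of vectors
  let T : (ι → F) →ₗ[F] (Fin (Fintype.card ι) → F) := LinearMap.funLeft F F ε.symm
  have hTε : ∀ v : ι → F, (T v) ∘ ε = v := by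
    intro v
    funext i
    simp [T, LinearMap.funLeft]
  have hQT : ∀ v : ι → F, Q' (T v) = Q v := by
    intro v
    show Q ((T v) ∘ ε) = Q v
    rw [hTε]
  have hPT : ∀ u v : ι → F, QuadraticMap.polar (⇑Q') (T u) (T v) = QuadraticMap.polar (⇑Q) u v := by
    intro u v
    unfold QuadraticMap.polar
    rw [← map_add, hQT, hQT, hQT]
  have hTinj : LinearMap.ker T = ⊥ := by
    rw [LinearMap.ker_eq_bot]
    intro u v huv
    have := congrArg (fun z => z ∘ ε) huv
    simpa [hTε] using this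
  have hLI : ∀ z : Fin k → ι → F, LinearIndependent F z → LinearIndependent F (fun i => T (z i)) :=
    fun z hz => hz.map' T hTinj
  obtain ⟨ω', hω', hωx⟩ : ∃ ω' : ↥(Cfsg.isometryGroup F (tr ε ⇑Q)),
      ω' ∈ commutator ↥(Cfsg.isometryGroup F (tr ε ⇑Q)) ∧
      ∀ i, ((ω' : GL (Fin (Fintype.card ι)) F) : Matrix _ _ F) *ᵥ T (x i) = T (y i) := by
    obtain ⟨ω', hω', hωx⟩ := omega_witt Q' hnd' (adj_all Q' hnd' hcard) k (fun i => T (x i))
      (fun i => T (y i)) (fun i => T (x₀ i)) (hLI x hx) (hLI y hy) (hLI x₀ hx₀)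
      (fun i => by rw [hQT, hQT, hQy]) (fun i j => by rw [hPT, hPT, hPy])
      (fun i => by rw [hQT, hQT, hQ0]) (fun i j => by rw [hPT, hPT, hP0])
      (T e) (T f) (by rw [hQT, he]) (by rw [hQT, hf]) (by rw [hPT, hef])
      (fun i => by rw [hPT, hex]) (fun i => by rw [hPT, hfx])
    exact ⟨ω', hω', hωx⟩
  refine ⟨(isoEquiv ε ⇑Q).symm ω', ?_, fun i => ?_⟩
  · rw [← mem_commutator_iff (isoEquiv ε ⇑Q), MulEquiv.apply_symm_apply]
    exact hω'
  · have h1 := hωx i
    have h2 : ω' = isoEquiv ε ⇑Q ((isoEquiv ε ⇑Q).symm ω') := (MulEquiv.apply_symm_apply _ _).symm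
    have h3 : ((ω' : GL (Fin (Fintype.card ι)) F) : Matrix _ _ F) *ᵥ T (x i) =
        ((((isoEquiv ε ⇑Q).symm ω' : ↥(Cfsg.isometryGroup F ⇑Q)) : GL ι F).1 *ᵥ
          ((T (x i)) ∘ ε)) ∘ ε.symm := by
      conv_lhs => rw [h2]
      exact glReindex_mulVec ε _ _
    rw [h3, hTε] at h1
    have h4 := congrArg (fun z => z ∘ ε) h1
    simp only [hTε] at h4
    rw [← h4]
    funext j
    simp
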