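import Cfsg.Agent.Lib.H11.SimMax2

set_option autoImplicit false
set_option linter.unusedSimpArgs false
set_option linter.unusedSectionVars false
set_option linter.unusedVariables false

namespace Cfsg.Agent.Lib.H11.SimMax

open Matrix Module
open Cfsg.Agent.Lib.H28 Cfsg.Agent.Lib.H11.SubspMax

variable {ι : Type} [Fintype ι] [DecidableEq ι] {F : Type*} [Field F]
variable {f : (ι → F) → (ι → F) → F}

/-- functionals `φ` killing `u` whose transvection with centre `u` lies in `M` -/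
def Tset (M : Subgroup (GL ι F)) (u : ι → F) : Set (Dual F (ι → F)) :=
  {φ | ∃ h : φ u = 0, tvGL φ u h ∈ M}

theorem tvGL_add (φ φ' : Dual F (ι → F)) (u : ι → F) (h : φ u = 0) (h' : φ' u = 0)
    (h'' : (φ + φ') u = 0) :
    tvGL (φ + φ') u h'' = tvGL φ u h * tvGL φ' u h' := by
  apply gl_ext
  intro x
  rw [gl_mul_mulVec, tvGL_mulVec, tvGL_mulVec, tvGL_mulVec, map_add, map_smul, h, smul_zero,
    add_zero, LinearMap.add_apply, add_smul]
  abel

theorem tvGL_neg (φ : Dual F (ι → F)) (u : ι → F) (h : φ u = 0) (h' : (-φ) u = 0) :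
    tvGL (-φ) u h' = (tvGL φ u h)⁻¹ := by
  rw [eq_comm, inv_eq_iff_mul_eq_one]
  apply gl_ext
  intro x
  rw [gl_mul_mulVec, tvGL_mulVec, tvGL_mulVec, Units.val_one, Matrix.one_mulVec, map_add,
    map_smul, h, smul_zero, add_zero, LinearMap.neg_apply, neg_smul]
  abel

theorem Tset_add (M : Subgroup (GL ι F)) (u : ι → F) {φ φ' : Dual F (ι → F)}
    (h : φ ∈ Tset M u) (h' : φ' ∈ Tset M u) : φ + φ' ∈ Tset M u := by
  obtain ⟨h1, h2⟩ := h
  obtain ⟨h1', h2'⟩ := h'
  have h'' : (φ + φ') u = 0 := by rw [LinearMap.add_apply, h1, h1', add_zero]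
  refine ⟨h'', ?_⟩
  rw [tvGL_add φ φ' u h1 h1' h'']
  exact M.mul_mem h2 h2'

theorem Tset_neg (M : Subgroup (GL ι F)) (u : ι → F) {φ : Dual F (ι → F)}
    (h : φ ∈ Tset M u) : -φ ∈ Tset M u := by
  obtain ⟨h1, h2⟩ := h
  have h' : (-φ) u = 0 := by rw [LinearMap.neg_apply, h1, neg_zero]
  refine ⟨h', ?_⟩
  rw [tvGL_neg φ u h1 h']
  exact M.inv_mem h2

theorem Tset_sub (M : Subgroup (GL ι F)) (u : ι → F) {φ φ' : Dual F (ι → F)}
    (h : φ ∈ Tset M u) (h' : φ' ∈ Tset M u) : φ - φ' ∈ Tset M u := by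
  rw [sub_eq_add_neg]
  exact Tset_add M u h (Tset_neg M u h')

/-- conjugation by an element of `M` fixing `u` -/
theorem Tset_conj (M : Subgroup (GL ι F)) (u : ι → F) {φ : Dual F (ι → F)}
    (h : φ ∈ Tset M u) (g : GL ι F) (hg : g ∈ M) (hgu : (g : Matrix ι ι F) *ᵥ u = u) :
    φ.comp (Matrix.toLin' ((g⁻¹ : GL ι F) : Matrix ι ι F)) ∈ Tset M u := by
  obtain ⟨h1, h2⟩ := h
  have hgu' : ((g⁻¹ : GL ι F) : Matrix ι ι F) *ᵥ u = u := by
    conv_lhs => rw [← hgu]
    rw [gl_inv_mulVec]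
  have h' : (φ.comp (Matrix.toLin' ((g⁻¹ : GL ι F) : Matrix ι ι F))) u = 0 := by
    rw [LinearMap.comp_apply, Matrix.toLin'_apply, hgu', h1]
  refine ⟨h', ?_⟩
  have : tvGL (φ.comp (Matrix.toLin' ((g⁻¹ : GL ι F) : Matrix ι ι F))) u h' =
      g * tvGL φ u h1 * g⁻¹ := by
    apply gl_ext
    intro x
    rw [gl_mul_mulVec, gl_mul_mulVec, tvGL_mulVec, tvGL_mulVec, Matrix.mulVec_add,
      Matrix.mulVec_smul, gl_mulVec_inv, hgu, LinearMap.comp_apply, Matrix.toLin'_apply]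
  rw [this]
  exact M.mul_mem (M.mul_mem hg h2) (M.inv_mem hg)

section symp
variable (hf : Cfsg.Geo.IsSymplecticForm f)
include hf

/-- the commutator trick: from `φ ∈ Tset` and `w ⊥ u` we get `(c * φ w) • fr w ∈ Tset` -/
theorem Tset_step (M : Subgroup (GL ι F))
    (hNM : Cfsg.Geo.similarityGroup f ⊓ Cfsg.Geo.specialLinear ι F ≤ M)
    (u : ι → F) {φ : Dual F (ι → F)} (h : φ ∈ Tset M u) (w : ι → F) (hw : f u w = 0) (c : F) :
    (c * φ w) • fr hf.bilinear w ∈ Tset M u := by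
  have hg : τ hf w c ∈ M := hNM (τ_mem hf w c)
  have hgu : ((τ hf w c : GL ι F) : Matrix ι ι F) *ᵥ u = u := τ_fix hf w c u hw
  have h2 := Tset_conj M u h (τ hf w c) hg hgu
  have h3 := Tset_sub M u h h2
  have : φ - φ.comp (Matrix.toLin' (((τ hf w c)⁻¹ : GL ι F) : Matrix ι ι F)) =
      (c * φ w) • fr hf.bilinear w := by
    apply LinearMap.ext
    intro x
    rw [LinearMap.sub_apply, LinearMap.comp_apply, Matrix.toLin'_apply, τ_inv, τ_mulVec,
      map_add, map_smul, LinearMap.smul_apply, fr_apply, smul_eq_mul, smul_eq_mul]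
    ring
  rw [this] at h3
  exact h3

/-- the key step: if `fr z ∈ Tset` (all scalar multiples) with `z ⊥ u`, `z ∉ F u`, then every
functional killing `u` is in `Tset` -/
theorem Tset_all (M : Subgroup (GL ι F))
    (hNM : Cfsg.Geo.similarityGroup f ⊓ Cfsg.Geo.specialLinear ι F ≤ M)
    (u z : ι → F) (hu : u ≠ 0) (hz : fr hf.bilinear z ∈ Tset M u)
    (hzu : ∀ c : F, z ≠ c • u) (φ : Dual F (ι → F)) (hφ : φ u = 0) : φ ∈ Tset M u := by
  -- step A: for w ⊥ u with f w z ≠ 0, all multiples of fr w are in Tset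
  have hA : ∀ w : ι → F, f u w = 0 → f w z ≠ 0 → ∀ c : F, c • fr hf.bilinear w ∈ Tset M u := by
    intro w hw hwz c
    have := Tset_step hf M hNM u hz w hw (c / f w z)
    rw [fr_apply, div_mul_cancel₀ _ hwz] at this
    exact this
  -- existence of w₀
  obtain ⟨w0, hw0u, hw0z⟩ : ∃ w0 : ι → F, f u w0 = 0 ∧ f w0 z ≠ 0 := by
    by_contra hcon
    push Not at hcon
    obtain ⟨c, hc⟩ := eq_smul_of_ker hf u z hu (fun w hw => by
      apply hcon
      rw [hf.skew, hw, neg_zero])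
    exact hzu c hc
  obtain ⟨y, rfl⟩ := exists_fr hf φ
  rw [fr_apply] at hφ
  by_cases hyz : f y z = 0
  · have hy' : f u (y + w0) = 0 := by
      rw [hf.bilinear.add_right, hφ, hw0u, add_zero]
    have hyz' : f (y + w0) z ≠ 0 := by
      rw [hf.bilinear.add_left, hyz, zero_add]; exact hw0z
    have h1 := hA (y + w0) hy' hyz' 1
    have h2 := hA w0 hw0u hw0z 1
    have h3 := Tset_sub M u h1 h2
    rw [one_smul, one_smul, ← fr_sub, add_sub_cancel_right] at h3
    exact h3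
  · have := hA y hφ hyz 1
    rwa [one_smul] at this

end symp

end Cfsg.Agent.Lib.H11.SimMax
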