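import Cfsg.Agent.Lib.H11.SiegelGen
import Cfsg.Agent.Lib.H11.SimMax3

/-!
Maximality of the similarity group of a quadratic form in `SL_n(F)` (odd characteristic):
basic geometry.
-/

set_option autoImplicit false
set_option linter.unusedSimpArgs false
set_option linter.unusedSectionVars false
set_option linter.unusedVariables false

namespace Cfsg.Agent.Lib.H11.OrMax

open Matrix Module
open Cfsg.Agent.Lib.H28 Cfsg.Agent.Lib.H11.SubspMax

variable {F : Type*} [Field F] {n : ℕ} (Q : QuadraticForm F (Fin n → F))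

set_option quotPrecheck false in
local notation "P" => QuadraticMap.polar (⇑Q)

theorem P_self (v : Fin n → F) : P v v = 2 * Q v := by
  rw [QuadraticMap.polar_self]; simp [two_smul, two_mul]

theorem Q_add (x y : Fin n → F) : Q (x + y) = Q x + Q y + P x y := by
  simp only [QuadraticMap.polar]; ring

theorem Q_sub' (x y : Fin n → F) : Q (x - y) = Q x + Q y - P x y := by
  rw [sub_eq_add_neg, Q_add, QuadraticMap.map_neg, QuadraticMap.polar_neg_right]; ring

theorem P_comm (x y : Fin n → F) : P x y = P y x := QuadraticMap.polar_comm _ _ _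

/-- the functional `x ↦ P z x` -/
noncomputable def fr (z : Fin n → F) : Dual F (Fin n → F) := QuadraticMap.polarBilin Q z

theorem fr_apply (z x : Fin n → F) : fr Q z x = P z x := rfl

theorem fr_add (z z' : Fin n → F) : fr Q (z + z') = fr Q z + fr Q z' :=
  (QuadraticMap.polarBilin Q).map_add z z'

theorem fr_smul (c : F) (z : Fin n → F) : fr Q (c • z) = c • fr Q z :=
  (QuadraticMap.polarBilin Q).map_smul c z

section nondeg
variable (hQ : (QuadraticMap.polarBilin Q).Nondegenerate)
include hQ

theorem exists_P_ne (v : Fin n → F) (hv : v ≠ 0) : ∃ w, P v w ≠ 0 := by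
  by_contra h
  push Not at h
  exact hv (hQ.1 v h)

/-- Riesz representation -/
theorem exists_fr (φ : Dual F (Fin n → F)) : ∃ z, φ = fr Q z := by
  refine ⟨(LinearMap.BilinForm.toDual (QuadraticMap.polarBilin Q) hQ).symm φ, ?_⟩
  apply LinearMap.ext
  intro x
  rw [fr_apply]
  have := LinearMap.BilinForm.apply_toDual_symm_apply (B := QuadraticMap.polarBilin Q) (hB := hQ) φ x
  exact this.symm

/-- a subspace of more than half the dimension contains a non-singular vector -/
theorem exists_nonsing_in (U : Submodule F (Fin n → F)) (h : n < 2 * finrank F U) :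
    ∃ x ∈ U, Q x ≠ 0 := by
  by_contra hcon
  push Not at hcon
  have hle : U ≤ LinearMap.BilinForm.orthogonal (QuadraticMap.polarBilin Q) U := by
    intro x hx
    rw [LinearMap.BilinForm.mem_orthogonal_iff]
    intro y hy
    show (QuadraticMap.polarBilin Q) y x = 0
    rw [QuadraticMap.polarBilin_apply_apply]
    simp only [QuadraticMap.polar]
    rw [hcon _ (U.add_mem hy hx), hcon _ hy, hcon _ hx]; ring
  have h1 := Submodule.finrank_mono hle
  rw [LinearMap.BilinForm.finrank_orthogonal hQ, Module.finrank_fin_fun] at h1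
  omega

end nondeg

/-- the common kernel of a finite family of functionals has small codimension -/
theorem finrank_ker_pi {k : ℕ} (fs : Fin k → Dual F (Fin n → F)) :
    n ≤ finrank F (LinearMap.ker (LinearMap.pi fs)) + k := by
  have h1 := LinearMap.finrank_range_add_finrank_ker (LinearMap.pi fs)
  have h2 : finrank F (LinearMap.range (LinearMap.pi fs)) ≤ k := by
    have := Submodule.finrank_le (LinearMap.range (LinearMap.pi fs))
    rwa [Module.finrank_fintype_fun_eq_card, Fintype.card_fin] at this
  rw [Module.finrank_fin_fun] at h1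
  omega

theorem mem_ker_pi {k : ℕ} (fs : Fin k → Dual F (Fin n → F)) (x : Fin n → F) :
    x ∈ LinearMap.ker (LinearMap.pi fs) ↔ ∀ i, fs i x = 0 := by
  rw [LinearMap.mem_ker]
  constructor
  · intro h i
    have := congrFun h i
    simpa using this
  · intro h
    funext i
    simpa using h i

/-- a non-singular vector killed by finitely many functionals -/
theorem exists_nonsing_ker (hQ : (QuadraticMap.polarBilin Q).Nondegenerate) {k : ℕ}
    (fs : Fin k → Dual F (Fin n → F)) (h : 2 * k < n) :
    ∃ x, (∀ i, fs i x = 0) ∧ Q x ≠ 0 := by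
  have h1 := finrank_ker_pi fs
  obtain ⟨x, hx, hQx⟩ := exists_nonsing_in Q hQ (LinearMap.ker (LinearMap.pi fs)) (by omega)
  exact ⟨x, (mem_ker_pi fs x).1 hx, hQx⟩

/-- hyperplane complement lemma -/
theorem exists_nonsing_ne (h2 : (2 : F) ≠ 0) (W : Submodule F (Fin n → F))
    (f : Dual F (Fin n → F)) (h0 : ∃ y ∈ W, f y ≠ 0) (h1 : ∃ w ∈ W, Q w ≠ 0) :
    ∃ y ∈ W, f y ≠ 0 ∧ Q y ≠ 0 := by
  by_contra hcon
  push Not at hcon
  obtain ⟨y0, hy0, hfy0⟩ := h0
  obtain ⟨w, hw, hQw⟩ := h1
  have hfw : f w = 0 := by
    by_contra hne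
    exact hQw (hcon w hw hne)
  have e1 := hcon (y0 + w) (W.add_mem hy0 hw) (by rw [map_add, hfw, add_zero]; exact hfy0)
  have e2 := hcon (y0 - w) (W.sub_mem hy0 hw) (by rw [map_sub, hfw, sub_zero]; exact hfy0)
  have e0 := hcon y0 hy0 hfy0
  rw [Q_add] at e1
  rw [Q_sub'] at e2
  apply hQw
  have : 2 * Q w = 0 := by linear_combination e1 + e2 - 2 * e0
  rcases mul_eq_zero.1 this with h | h
  · exact absurd h h2
  · exact h

end Cfsg.Agent.Lib.H11.OrMax
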