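import Cfsg.Agent.Lib.H11.OrMax1

set_option autoImplicit false
set_option linter.unusedSimpArgs false
set_option linter.unusedSectionVars false
set_option linter.unusedVariables false

namespace Cfsg.Agent.Lib.H11.OrMax

open Matrix Module
open Cfsg.Agent.Lib.H28 Cfsg.Agent.Lib.H11.SubspMax

variable {F : Type*} [Field F] [Fintype F] {n : ℕ} (Q : QuadraticForm F (Fin n → F))

set_option quotPrecheck false in
local notation "P" => QuadraticMap.polar (⇑Q)

/-- a hyperbolic pair inside a large subspace -/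
theorem exists_hyp_in (hQ : (QuadraticMap.polarBilin Q).Nondegenerate)
    (U : Submodule F (Fin n → F)) (h : n + 3 ≤ 2 * finrank F U) :
    ∃ e f, e ∈ U ∧ f ∈ U ∧ Q e = 0 ∧ Q f = 0 ∧ P e f = 1 := by
  obtain ⟨O, hO⟩ : ∃ O, O = LinearMap.BilinForm.orthogonal (QuadraticMap.polarBilin Q) U :=
    ⟨_, rfl⟩
  have hOr : finrank F O = n - finrank F U := by
    rw [hO, LinearMap.BilinForm.finrank_orthogonal hQ, Module.finrank_fin_fun]
  obtain ⟨R', hR'⟩ : ∃ R' : Submodule F ↥U, R' = Submodule.comap U.subtype O := ⟨_, rfl⟩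
  obtain ⟨U0, hU0⟩ := Submodule.exists_isCompl R'
  have h1 : finrank F R' ≤ finrank F O := by
    rw [← Submodule.finrank_map_subtype_eq U R']
    apply Submodule.finrank_mono
    rintro x ⟨y, hy, rfl⟩
    rw [hR'] at hy
    exact hy
  have h2 := Submodule.finrank_add_eq_of_isCompl hU0
  have hUle : finrank F U ≤ n := by
    have := Submodule.finrank_le U
    rwa [Module.finrank_fin_fun] at this
  have h3 : 3 ≤ finrank F U0 := by omega
  obtain ⟨v, hv0, hv⟩ := Cfsg.Agent.Lib.H13.exists_singular_of_three_le (V := ↥U0)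
    (Q.comp (U.subtype.comp U0.subtype)) h3
  obtain ⟨e, he⟩ : ∃ e : Fin n → F, e = ((v : ↥U) : Fin n → F) := ⟨_, rfl⟩
  have heU : e ∈ U := by rw [he]; exact (v : ↥U).2
  have hQe : Q e = 0 := by
    rw [he]
    exact hv
  have heO : e ∉ O := by
    intro hmem
    apply hv0
    have h4 : (v : ↥U) ∈ R' ⊓ U0 := by
      refine ⟨?_, v.2⟩
      rw [hR']
      show ((v : ↥U) : Fin n → F) ∈ O
      rw [← he]; exact hmem
    rw [hU0.inf_eq_bot, Submodule.mem_bot] at h4
    exact Subtype.ext h4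
  obtain ⟨y, hyU, hy⟩ : ∃ y ∈ U, P e y ≠ 0 := by
    by_contra hcon
    push Not at hcon
    apply heO
    rw [hO, LinearMap.BilinForm.mem_orthogonal_iff]
    intro y hy
    show (QuadraticMap.polarBilin Q) y e = 0
    rw [QuadraticMap.polarBilin_apply_apply, P_comm]
    exact hcon y hy
  obtain ⟨f0, hf0⟩ : ∃ f0, f0 = (P e y)⁻¹ • y := ⟨_, rfl⟩
  have hf0U : f0 ∈ U := by rw [hf0]; exact U.smul_mem _ hyU
  have hef0 : P e f0 = 1 := by
    rw [hf0, QuadraticMap.polar_smul_right, smul_eq_mul, inv_mul_cancel₀ hy]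
  refine ⟨e, f0 - Q f0 • e, heU, U.sub_mem hf0U (U.smul_mem _ heU), hQe, ?_, ?_⟩
  · rw [Q_sub', QuadraticMap.map_smul, hQe, QuadraticMap.polar_smul_right, P_comm, hef0]
    simp
  · rw [QuadraticMap.polar_sub_right, QuadraticMap.polar_smul_right, P_self, hQe, hef0]
    simp

/-- a hyperbolic pair orthogonal to finitely many vectors -/
theorem exists_hyp_perp (hQ : (QuadraticMap.polarBilin Q).Nondegenerate) {k : ℕ}
    (vs : Fin k → Fin n → F) (h : 2 * k + 3 ≤ n) :
    ∃ e f, Q e = 0 ∧ Q f = 0 ∧ P e f = 1 ∧ (∀ i, P (vs i) e = 0) ∧ ∀ i, P (vs i) f = 0 := by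
  have h1 := finrank_ker_pi (fun i => fr Q (vs i))
  obtain ⟨e, f, he, hf, hQe, hQf, hef⟩ := exists_hyp_in Q hQ
    (LinearMap.ker (LinearMap.pi (fun i => fr Q (vs i)))) (by omega)
  refine ⟨e, f, hQe, hQf, hef, fun i => ?_, fun i => ?_⟩
  · exact (mem_ker_pi _ e).1 he i
  · exact (mem_ker_pi _ f).1 hf i

/-- two orthogonal hyperbolic pairs orthogonal to finitely many vectors -/
theorem exists_two_hyp_perp (hQ : (QuadraticMap.polarBilin Q).Nondegenerate) {k : ℕ}
    (vs : Fin k → Fin n → F) (h : 2 * k + 7 ≤ n) :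
    ∃ e f e' f', Q e = 0 ∧ Q f = 0 ∧ P e f = 1 ∧ Q e' = 0 ∧ Q f' = 0 ∧ P e' f' = 1 ∧
      P e e' = 0 ∧ P e f' = 0 ∧ P f e' = 0 ∧ P f f' = 0 ∧
      (∀ i, P (vs i) e = 0) ∧ (∀ i, P (vs i) f = 0) ∧
      (∀ i, P (vs i) e' = 0) ∧ ∀ i, P (vs i) f' = 0 := by
  obtain ⟨e, f, hQe, hQf, hef, hve, hvf⟩ := exists_hyp_perp Q hQ vs (by omega)
  obtain ⟨e', f', hQe', hQf', hef', hve', hvf'⟩ := exists_hyp_perp Q hQ
    (Fin.cons e (Fin.cons f vs) : Fin (k + 2) → Fin n → F) (by omega)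
  have a1 := hve' 0
  have a2 := hve' 1
  have b1 := hvf' 0
  have b2 := hvf' 1
  have c1 : ∀ i : Fin k, P (vs i) e' = 0 := fun i => by
    have := hve' i.succ.succ
    simpa using this
  have c2 : ∀ i : Fin k, P (vs i) f' = 0 := fun i => by
    have := hvf' i.succ.succ
    simpa using this
  simp only [Fin.cons_zero] at a1 b1
  have a2' : P f e' = 0 := by simpa using a2
  have b2' : P f f' = 0 := by simpa using b2
  exact ⟨e, f, e', f', hQe, hQf, hef, hQe', hQf', hef', a1, b1, a2', b2', hve, hvf, c1, c2⟩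

end Cfsg.Agent.Lib.H11.OrMax
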