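import Cfsg.Agent.Lib.H11.OrMax2

set_option autoImplicit false
set_option linter.unusedSimpArgs false
set_option linter.unusedSectionVars false
set_option linter.unusedVariables false

namespace Cfsg.Agent.Lib.H11.OrMax

open Matrix Module
open Cfsg.Agent.Lib.H28 Cfsg.Agent.Lib.H11.SubspMax
open Cfsg.Agent.Lib.H11.CD Cfsg.Agent.Lib.H11.SiegelGen

variable {F : Type*} [Field F] {n : ℕ} (Q : QuadraticForm F (Fin n → F))

set_option quotPrecheck false in
local notation "P" => QuadraticMap.polar (⇑Q)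

/-- isometries of determinant one lie in the similarity group intersected with `SL` -/
theorem iso_mem_N (g : ↥(Cfsg.isometryGroup F ⇑Q))
    (hdet : ((g : GL (Fin n) F) : Matrix (Fin n) (Fin n) F).det = 1) :
    (g : GL (Fin n) F) ∈
      Cfsg.Geo.quadSimilarityGroup (⇑Q) ⊓ Cfsg.Geo.specialLinear (Fin n) F := by
  refine ⟨⟨1, fun v => ?_⟩, (mem_specialLinear_iff _).2 hdet⟩
  rw [Units.val_one, one_mul]
  exact Q_act Q g v

theorem act_def (g : ↥(Cfsg.isometryGroup F ⇑Q)) (x : Fin n → F) :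
    ((g : GL (Fin n) F) : Matrix (Fin n) (Fin n) F) *ᵥ x = act Q g x := rfl

theorem reflEl_det (v : Fin n → F) (hv : Q v ≠ 0) :
    (((reflEl Q v hv : ↥(Cfsg.isometryGroup F ⇑Q)) : GL (Fin n) F) :
      Matrix (Fin n) (Fin n) F).det = -1 := by
  rw [reflEl_val]
  exact (Cfsg.Agent.S0784.result Q v hv).2.2.2

theorem mul_det (g h : ↥(Cfsg.isometryGroup F ⇑Q)) :
    (((g * h : ↥(Cfsg.isometryGroup F ⇑Q)) : GL (Fin n) F) : Matrix (Fin n) (Fin n) F).det =
      ((g : GL (Fin n) F) : Matrix (Fin n) (Fin n) F).det *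
        ((h : GL (Fin n) F) : Matrix (Fin n) (Fin n) F).det := by
  rw [Subgroup.coe_mul, Units.val_mul, Matrix.det_mul]

/-- product of two reflections -/
noncomputable def rr (v w : Fin n → F) (hv : Q v ≠ 0) (hw : Q w ≠ 0) :
    ↥(Cfsg.isometryGroup F ⇑Q) := reflEl Q v hv * reflEl Q w hw

theorem rr_det (v w : Fin n → F) (hv : Q v ≠ 0) (hw : Q w ≠ 0) :
    (((rr Q v w hv hw : ↥(Cfsg.isometryGroup F ⇑Q)) : GL (Fin n) F) :
      Matrix (Fin n) (Fin n) F).det = 1 := by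
  unfold rr
  rw [mul_det, reflEl_det, reflEl_det]; ring

theorem rr_mem_N (v w : Fin n → F) (hv : Q v ≠ 0) (hw : Q w ≠ 0) :
    ((rr Q v w hv hw : ↥(Cfsg.isometryGroup F ⇑Q)) : GL (Fin n) F) ∈
      Cfsg.Geo.quadSimilarityGroup (⇑Q) ⊓ Cfsg.Geo.specialLinear (Fin n) F :=
  iso_mem_N Q _ (rr_det Q v w hv hw)

theorem rr_act (v w : Fin n → F) (hv : Q v ≠ 0) (hw : Q w ≠ 0) (hvw : P v w = 0)
    (x : Fin n → F) :
    act Q (rr Q v w hv hw) x =
      x - ((Q v)⁻¹ * P v x) • v - ((Q w)⁻¹ * P w x) • w := by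
  unfold rr
  rw [act_mul, reflEl_act, reflEl_act, QuadraticMap.polar_sub_right,
    QuadraticMap.polar_smul_right, hvw, smul_zero, sub_zero]
  abel

/-- Witt's theorem with determinant one -/
theorem witt_det_one [Fintype F] (hQ : (QuadraticMap.polarBilin Q).Nondegenerate)
    (k : ℕ) (x y : Fin k → Fin n → F)
    (hx : LinearIndependent F x) (hy : LinearIndependent F y)
    (hQy : ∀ i, Q (y i) = Q (x i)) (hPy : ∀ i j, P (y i) (y j) = P (x i) (x j))
    (hk : 2 * k < n) :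
    ∃ g : ↥(Cfsg.isometryGroup F ⇑Q),
      ((g : GL (Fin n) F) : Matrix (Fin n) (Fin n) F).det = 1 ∧ ∀ i, act Q g (x i) = y i := by
  obtain ⟨g', hg', hgx⟩ := Cfsg.Agent.S0750.witt_family Q hQ k x y hx hy hQy hPy
  obtain ⟨g, hg⟩ : ∃ g, g = elOfEquiv Q g' hg' := ⟨_, rfl⟩
  have hgx' : ∀ i, act Q g (x i) = y i := fun i => by rw [hg, elOfEquiv_act]; exact hgx i
  rcases (Cfsg.Agent.S0785.result Q hQ).1 g with hd | hd
  · exact ⟨g, hd, hgx'⟩
  · obtain ⟨w, hw, hQw⟩ := exists_nonsing_ker Q hQ (fun i => fr Q (y i)) hk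
    refine ⟨reflEl Q w hQw * g, ?_, fun i => ?_⟩
    · rw [mul_det, reflEl_det, hd]; ring
    · rw [act_mul, hgx', reflEl_act_of_polar_zero]
      rw [P_comm]
      exact hw i

end Cfsg.Agent.Lib.H11.OrMax
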