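import Cfsg.Agent.Lib.H11.OrMax3

set_option autoImplicit false
set_option linter.unusedSimpArgs false
set_option linter.unusedSectionVars false
set_option linter.unusedVariables false

namespace Cfsg.Agent.Lib.H11.OrMax

open Matrix Module
open Cfsg.Agent.Lib.H28 Cfsg.Agent.Lib.H11.SubspMax
open Cfsg.Agent.Lib.H11.CD Cfsg.Agent.Lib.H11.SiegelGen

variable {F : Type*} [Field F] {n : ℕ} (Q : QuadraticForm F (Fin n → F))

set_option quotPrecheck false in
local notation "P" => QuadraticMap.polar (⇑Q)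

/-- a linear bijection preserving orthogonality to non-singular vectors is a similarity -/
theorem sim_of_orth (hQ : (QuadraticMap.polarBilin Q).Nondegenerate) (h2 : (2 : F) ≠ 0)
    (hn : 5 ≤ n)
    (T : (Fin n → F) →ₗ[F] (Fin n → F)) (hinj : ∀ x, T x = 0 → x = 0)
    (hsurj : ∀ y, ∃ x, T x = y)
    (H : ∀ a x, Q a ≠ 0 → P a x = 0 → P (T a) (T x) = 0) :
    ∃ μ : F, μ ≠ 0 ∧ ∀ v, Q (T v) = μ * Q v := by
  -- step 1
  have h1 : ∀ a x, Q a ≠ 0 → P (T a) (T x) = (Q (T a) / Q a) * P a x := by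
    intro a x ha
    have e1 : P a (x - (P a x / (2 * Q a)) • a) = 0 := by
      rw [QuadraticMap.polar_sub_right, QuadraticMap.polar_smul_right, P_self, smul_eq_mul]
      field_simp
      ring
    have e2 := H a _ ha e1
    rw [map_sub, map_smul, QuadraticMap.polar_sub_right, QuadraticMap.polar_smul_right, P_self,
      smul_eq_mul] at e2
    have e3 : P (T a) (T x) = P a x / (2 * Q a) * (2 * Q (T a)) := by linear_combination e2
    rw [e3]
    field_simp
  -- step 2
  have h2' : ∀ a a', Q a ≠ 0 → Q a' ≠ 0 → P a a' ≠ 0 → Q (T a) / Q a = Q (T a') / Q a' := by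
    intro a a' ha ha' haa'
    have e1 := h1 a a' ha
    have e2 := h1 a' a ha'
    rw [P_comm Q (T a') (T a), P_comm Q a' a, e1] at e2
    exact mul_right_cancel₀ haa' e2
  -- step 3
  have h3 : ∀ a a', Q a ≠ 0 → Q a' ≠ 0 → Q (T a) / Q a = Q (T a') / Q a' := by
    intro a a' ha ha'
    by_cases haa' : P a a' = 0
    · by_cases hs : Q a + Q a' = 0
      · obtain ⟨w, hw, hQw⟩ := exists_nonsing_ker Q hQ ![fr Q a, fr Q a'] (by omega)
        have hw0 : P a w = 0 := hw 0
        have hw1 : P a' w = 0 := hw 1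
        have q1 : Q (a + a' + w) ≠ 0 := by
          rw [Q_add, Q_add, QuadraticMap.polar_add_left, haa', hw0, hw1]
          intro h0
          apply hQw
          linear_combination h0 - hs
        have p1 : P a (a + a' + w) ≠ 0 := by
          rw [QuadraticMap.polar_add_right, QuadraticMap.polar_add_right, P_self, haa', hw0]
          simpa using mul_ne_zero h2 ha
        have p2 : P a' (a + a' + w) ≠ 0 := by
          rw [QuadraticMap.polar_add_right, QuadraticMap.polar_add_right, P_self, P_comm Q a' a,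
            haa', hw1]
          simpa using mul_ne_zero h2 ha'
        rw [h2' a _ ha q1 p1, h2' a' _ ha' q1 p2]
      · have q1 : Q (a + a') ≠ 0 := by
          rw [Q_add, haa', add_zero]; exact hs
        have p1 : P a (a + a') ≠ 0 := by
          rw [QuadraticMap.polar_add_right, P_self, haa', add_zero]
          exact mul_ne_zero h2 ha
        have p2 : P a' (a + a') ≠ 0 := by
          rw [QuadraticMap.polar_add_right, P_self, P_comm Q a' a, haa', zero_add]
          exact mul_ne_zero h2 ha'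
        rw [h2' a _ ha q1 p1, h2' a' _ ha' q1 p2]
    · exact h2' a a' ha ha' haa'
  -- a base vector
  obtain ⟨a0, -, ha0⟩ := exists_nonsing_ker Q hQ (k := 0) (fun i => i.elim0) (by omega)
  obtain ⟨μ, hμ⟩ : ∃ μ, μ = Q (T a0) / Q a0 := ⟨_, rfl⟩
  have h4 : ∀ a x, Q a ≠ 0 → P (T a) (T x) = μ * P a x := by
    intro a x ha
    rw [h1 a x ha, hμ, h3 a a0 ha ha0]
  have h5 : ∀ v x, P (T v) (T x) = μ * P v x := by
    intro v x
    by_cases hv : Q v = 0
    · obtain ⟨a1, ha1, hQa1⟩ := exists_nonsing_ker Q hQ ![fr Q v] (by omega)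
      have hva1 : P v a1 = 0 := ha1 0
      have hq : Q (v - a1) ≠ 0 := by
        rw [Q_sub', hv, hva1, zero_add, sub_zero]; exact hQa1
      have e1 := h4 a1 x hQa1
      have e2 := h4 (v - a1) x hq
      rw [map_sub, QuadraticMap.polar_sub_left, QuadraticMap.polar_sub_left] at e2
      linear_combination e1 + e2
    · exact h4 v x hv
  have hμ0 : μ ≠ 0 := by
    intro h0
    apply ha0
    have : T a0 = 0 := by
      apply hQ.1
      intro y
      obtain ⟨x, rfl⟩ := hsurj y
      show P (T a0) (T x) = 0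
      rw [h5, h0, zero_mul]
    rw [hinj a0 this, QuadraticMap.map_zero]
  refine ⟨μ, hμ0, fun v => ?_⟩
  have e1 := h5 v v
  rw [P_self, P_self] at e1
  have : 2 * Q (T v) = 2 * (μ * Q v) := by linear_combination e1
  exact mul_left_cancel₀ h2 this

theorem mulVecLin_inj (h : GL (Fin n) F) (x : Fin n → F)
    (hx : Matrix.mulVecLin (h : Matrix (Fin n) (Fin n) F) x = 0) : x = 0 := by
  rw [Matrix.mulVecLin_apply] at hx
  have := gl_inv_mulVec h x
  rw [hx, Matrix.mulVec_zero] at this
  exact this.symm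

/-- the witness of non-similarity -/
theorem exists_witness (hQ : (QuadraticMap.polarBilin Q).Nondegenerate) (h2 : (2 : F) ≠ 0)
    (hn : 5 ≤ n) (h : GL (Fin n) F) (hh : h ∉ Cfsg.Geo.quadSimilarityGroup (⇑Q)) :
    ∃ a c, Q a ≠ 0 ∧ Q c ≠ 0 ∧
      P a (((h⁻¹ : GL (Fin n) F) : Matrix (Fin n) (Fin n) F) *ᵥ c) = 0 ∧
      P ((h : Matrix (Fin n) (Fin n) F) *ᵥ a) c ≠ 0 := by
  by_contra hcon
  push Not at hcon
  apply hh
  obtain ⟨μ, hμ0, hμ⟩ := sim_of_orth Q hQ h2 hn (Matrix.mulVecLin (h : Matrix (Fin n) (Fin n) F))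
    (mulVecLin_inj h)
    (fun y => ⟨((h⁻¹ : GL (Fin n) F) : Matrix (Fin n) (Fin n) F) *ᵥ y, by
      rw [Matrix.mulVecLin_apply, gl_mulVec_inv]⟩)
    (by
      intro a x ha hax
      rw [Matrix.mulVecLin_apply, Matrix.mulVecLin_apply]
      by_contra hne
      -- find a non-singular `y` in the hyperplane `h (a^⊥)` not orthogonal to `h a`
      obtain ⟨fa, hfa⟩ : ∃ fa : Dual F (Fin n → F), fa = (fr Q a).comp
        (Matrix.mulVecLin ((h⁻¹ : GL (Fin n) F) : Matrix (Fin n) (Fin n) F)) := ⟨_, rfl⟩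
      have hfa_apply : ∀ y, fa y =
          P a (((h⁻¹ : GL (Fin n) F) : Matrix (Fin n) (Fin n) F) *ᵥ y) := by
        intro y
        rw [hfa, LinearMap.comp_apply, Matrix.mulVecLin_apply, fr_apply]
      obtain ⟨y, hyW, hy1, hy2⟩ := exists_nonsing_ne Q h2 (LinearMap.ker fa)
        (fr Q ((h : Matrix (Fin n) (Fin n) F) *ᵥ a))
        ⟨(h : Matrix (Fin n) (Fin n) F) *ᵥ x, by
          rw [LinearMap.mem_ker, hfa_apply, gl_inv_mulVec]; exact hax, hne⟩
        (by
          obtain ⟨w, hw, hQw⟩ := exists_nonsing_ker Q hQ ![fa] (by omega)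
          exact ⟨w, by rw [LinearMap.mem_ker]; exact hw 0, hQw⟩)
      rw [LinearMap.mem_ker, hfa_apply] at hyW
      exact hy1 (hcon a y ha hy2 hyW))
  refine ⟨Units.mk0 μ hμ0, fun v => ?_⟩
  rw [Units.val_mk0]
  have := hμ v
  rwa [Matrix.mulVecLin_apply] at this

end Cfsg.Agent.Lib.H11.OrMax
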