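import Cfsg.Agent.Lib.H11.OrMax4

set_option autoImplicit false
set_option linter.unusedSimpArgs false
set_option linter.unusedSectionVars false
set_option linter.unusedVariables false

namespace Cfsg.Agent.Lib.H11.OrMax

open Matrix Module
open Cfsg.Agent.Lib.H28 Cfsg.Agent.Lib.H11.SubspMax
open Cfsg.Agent.Lib.H11.CD Cfsg.Agent.Lib.H11.SiegelGen

variable {F : Type*} [Field F] {n : ℕ} (Q : QuadraticForm F (Fin n → F))

set_option quotPrecheck false in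
local notation "P" => QuadraticMap.polar (⇑Q)

theorem rr_mulVec (v w : Fin n → F) (hv : Q v ≠ 0) (hw : Q w ≠ 0) (hvw : P v w = 0)
    (x : Fin n → F) :
    (((rr Q v w hv hw : ↥(Cfsg.isometryGroup F ⇑Q)) : GL (Fin n) F) :
      Matrix (Fin n) (Fin n) F) *ᵥ x =
      x - ((Q v)⁻¹ * P v x) • v - ((Q w)⁻¹ * P w x) • w := by
  rw [act_def, rr_act Q v w hv hw hvw]

/-- Step A: an overgroup of `N` containing a non-similarity contains a transvection of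
orthogonal type -/
theorem exists_tv_in [Fintype F] (hQ : (QuadraticMap.polarBilin Q).Nondegenerate)
    (h2 : (2 : F) ≠ 0) (hn : 11 ≤ n) (M : Subgroup (GL (Fin n) F))
    (hNM : Cfsg.Geo.quadSimilarityGroup (⇑Q) ⊓ Cfsg.Geo.specialLinear (Fin n) F ≤ M)
    (h : GL (Fin n) F) (hhM : h ∈ M) (hh : h ∉ Cfsg.Geo.quadSimilarityGroup (⇑Q)) :
    ∃ (u a : Fin n → F) (hua : fr Q a u = 0), u ≠ 0 ∧ Q a ≠ 0 ∧ tvGL (fr Q a) u hua ∈ M := by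
  obtain ⟨a, c, hQa, hQc, hac, hne⟩ := exists_witness Q hQ h2 (by omega) h hh
  obtain ⟨hm, hhm⟩ : ∃ hm : Matrix (Fin n) (Fin n) F, hm = (h : Matrix (Fin n) (Fin n) F) :=
    ⟨_, rfl⟩
  obtain ⟨hi, hhi⟩ : ∃ hi : Matrix (Fin n) (Fin n) F,
    hi = ((h⁻¹ : GL (Fin n) F) : Matrix (Fin n) (Fin n) F) := ⟨_, rfl⟩
  rw [← hhm] at hne
  rw [← hhi] at hac
  have hihm : ∀ x, hi *ᵥ (hm *ᵥ x) = x := fun x => by rw [hhi, hhm, gl_inv_mulVec]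
  have hmhi : ∀ x, hm *ᵥ (hi *ᵥ x) = x := fun x => by rw [hhi, hhm, gl_mulVec_inv]
  -- the vector b
  obtain ⟨b, hb, hQb⟩ := exists_nonsing_ker Q hQ
    ![fr Q a, fr Q (hi *ᵥ c), (fr Q c).comp (Matrix.mulVecLin hm)] (by omega)
  have hab : P a b = 0 := hb 0
  have hxb : P (hi *ᵥ c) b = 0 := hb 1
  have hcb : P c (hm *ᵥ b) = 0 := hb 2
  -- the vector c'
  obtain ⟨c', hc', hQc'⟩ := exists_nonsing_ker Q hQ
    ![(fr Q a).comp (Matrix.mulVecLin hi), (fr Q b).comp (Matrix.mulVecLin hi), fr Q c,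
      fr Q (hm *ᵥ a), fr Q (hm *ᵥ b)] (by omega)
  have k1 : P a (hi *ᵥ c') = 0 := hc' 0
  have k2 : P b (hi *ᵥ c') = 0 := hc' 1
  have k3 : P c c' = 0 := hc' 2
  have k4 : P (hm *ᵥ a) c' = 0 := hc' 3
  have k5 : P (hm *ᵥ b) c' = 0 := hc' 4
  have k4' : P c' (hm *ᵥ a) = 0 := by rw [P_comm]; exact k4
  have k5' : P c' (hm *ᵥ b) = 0 := by rw [P_comm]; exact k5
  have hxb' : P b (hi *ᵥ c) = 0 := by rw [P_comm]; exact hxb
  have hba : P b a = 0 := by rw [P_comm]; exact hab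
  -- the elements
  obtain ⟨g, hg⟩ : ∃ g : GL (Fin n) F,
    g = ((rr Q c c' hQc hQc' : ↥(Cfsg.isometryGroup F ⇑Q)) : GL (Fin n) F) := ⟨_, rfl⟩
  obtain ⟨k0, hk0⟩ : ∃ k0 : GL (Fin n) F,
    k0 = ((rr Q a b hQa hQb : ↥(Cfsg.isometryGroup F ⇑Q)) : GL (Fin n) F) := ⟨_, rfl⟩
  have hgM : g ∈ M := by rw [hg]; exact hNM (rr_mem_N Q c c' hQc hQc')
  have hk0M : k0 ∈ M := by rw [hk0]; exact hNM (rr_mem_N Q a b hQa hQb)
  obtain ⟨K, hK⟩ : ∃ K : GL (Fin n) F, K = h * k0 * h⁻¹ := ⟨_, rfl⟩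
  have hkM : K ∈ M := by rw [hK]; exact M.mul_mem (M.mul_mem hhM hk0M) (M.inv_mem hhM)
  have g_act : ∀ v, (g : Matrix (Fin n) (Fin n) F) *ᵥ v =
      v - ((Q c)⁻¹ * P c v) • c - ((Q c')⁻¹ * P c' v) • c' := by
    intro v
    rw [hg, rr_mulVec Q c c' hQc hQc' k3]
  have k_act : ∀ v, (K : Matrix (Fin n) (Fin n) F) *ᵥ v =
      v - ((Q a)⁻¹ * P a (hi *ᵥ v)) • (hm *ᵥ a) - ((Q b)⁻¹ * P b (hi *ᵥ v)) • (hm *ᵥ b) := by
    intro v
    rw [hK, gl_mul_mulVec, gl_mul_mulVec, hk0, rr_mulVec Q a b hQa hQb hab, ← hhi, ← hhm,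
      Matrix.mulVec_sub, Matrix.mulVec_sub, Matrix.mulVec_smul, Matrix.mulVec_smul, hmhi]
  -- the transvection
  obtain ⟨μ, hμ⟩ : ∃ μ : F, μ = -((Q c)⁻¹ * (Q a)⁻¹ * P c (hm *ᵥ a)) := ⟨_, rfl⟩
  have hμ0 : μ ≠ 0 := by
    rw [hμ]
    apply neg_ne_zero.2
    apply mul_ne_zero (mul_ne_zero (inv_ne_zero hQc) (inv_ne_zero hQa))
    rw [P_comm]; exact hne
  obtain ⟨φ, hφ⟩ : ∃ φ : Dual F (Fin n → F), φ = (μ • fr Q a).comp (Matrix.mulVecLin hi) :=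
    ⟨_, rfl⟩
  have φ_apply : ∀ w, φ w = μ * P a (hi *ᵥ w) := by
    intro w
    rw [hφ, LinearMap.comp_apply, Matrix.mulVecLin_apply, LinearMap.smul_apply, fr_apply,
      smul_eq_mul]
  have hφc : φ c = 0 := by rw [φ_apply, hac, mul_zero]
  have key : g * K = tvGL φ c hφc * K * g := by
    apply gl_ext
    intro v
    rw [gl_mul_mulVec, gl_mul_mulVec, gl_mul_mulVec, tvGL_mulVec, φ_apply]
    obtain ⟨A, hA⟩ : ∃ A, A = P a (hi *ᵥ v) := ⟨_, rfl⟩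
    obtain ⟨B, hB⟩ : ∃ B, B = P b (hi *ᵥ v) := ⟨_, rfl⟩
    obtain ⟨C, hC⟩ : ∃ C, C = P c v := ⟨_, rfl⟩
    obtain ⟨C', hC'⟩ : ∃ C', C' = P c' v := ⟨_, rfl⟩
    obtain ⟨D, hD⟩ : ∃ D, D = P c (hm *ᵥ a) := ⟨_, rfl⟩
    have e1 : (K : Matrix (Fin n) (Fin n) F) *ᵥ v =
        v - ((Q a)⁻¹ * A) • (hm *ᵥ a) - ((Q b)⁻¹ * B) • (hm *ᵥ b) := by rw [k_act, hA, hB]
    have e2 : (g : Matrix (Fin n) (Fin n) F) *ᵥ v =
        v - ((Q c)⁻¹ * C) • c - ((Q c')⁻¹ * C') • c' := by rw [g_act, hC, hC']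
    have e3 : (g : Matrix (Fin n) (Fin n) F) *ᵥ
        (v - ((Q a)⁻¹ * A) • (hm *ᵥ a) - ((Q b)⁻¹ * B) • (hm *ᵥ b)) =
        (v - ((Q a)⁻¹ * A) • (hm *ᵥ a) - ((Q b)⁻¹ * B) • (hm *ᵥ b)) -
          ((Q c)⁻¹ * (C - (Q a)⁻¹ * A * D)) • c - ((Q c')⁻¹ * C') • c' := by
      rw [g_act]
      simp only [QuadraticMap.polar_sub_right, QuadraticMap.polar_smul_right, smul_eq_mul,
        ← hC, ← hC', ← hD, hcb, k4', k5', mul_zero, sub_zero]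
    have e4 : (K : Matrix (Fin n) (Fin n) F) *ᵥ
        (v - ((Q c)⁻¹ * C) • c - ((Q c')⁻¹ * C') • c') =
        (v - ((Q c)⁻¹ * C) • c - ((Q c')⁻¹ * C') • c') -
          ((Q a)⁻¹ * A) • (hm *ᵥ a) - ((Q b)⁻¹ * B) • (hm *ᵥ b) := by
      rw [k_act]
      simp only [Matrix.mulVec_sub, Matrix.mulVec_smul, QuadraticMap.polar_sub_right,
        QuadraticMap.polar_smul_right, smul_eq_mul, ← hA, ← hB, hac, k1, k2, hxb', mul_zero,
        sub_zero]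
    have e5 : P a (hi *ᵥ ((v - ((Q c)⁻¹ * C) • c - ((Q c')⁻¹ * C') • c') -
          ((Q a)⁻¹ * A) • (hm *ᵥ a) - ((Q b)⁻¹ * B) • (hm *ᵥ b))) = -A := by
      simp only [Matrix.mulVec_sub, Matrix.mulVec_smul, QuadraticMap.polar_sub_right,
        QuadraticMap.polar_smul_right, smul_eq_mul, ← hA, hac, k1, hihm, hab, P_self, mul_zero,
        sub_zero]
      field_simp
      ring
    rw [e1, e3, e2, e4, e5, hμ, ← hD]
    module
  have htM : tvGL φ c hφc ∈ M := by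
    have e : tvGL φ c hφc = g * K * g⁻¹ * K⁻¹ := by
      rw [key]; group
    rw [e]
    exact M.mul_mem (M.mul_mem (M.mul_mem hgM hkM) (M.inv_mem hgM)) (M.inv_mem hkM)
  -- conjugate back
  have hc0 : hi *ᵥ c ≠ 0 := by
    intro h0
    apply hQc
    have := hmhi c
    rw [h0, Matrix.mulVec_zero] at this
    rw [← this, QuadraticMap.map_zero]
  have hua : fr Q a (μ • hi *ᵥ c) = 0 := by
    rw [fr_apply, QuadraticMap.polar_smul_right, hac, smul_zero]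
  refine ⟨μ • hi *ᵥ c, a, hua, smul_ne_zero hμ0 hc0, hQa, ?_⟩
  have e : tvGL (fr Q a) (μ • hi *ᵥ c) hua = h⁻¹ * tvGL φ c hφc * h := by
    apply gl_ext
    intro v
    rw [gl_mul_mulVec, gl_mul_mulVec, tvGL_mulVec, tvGL_mulVec, φ_apply, ← hhi, ← hhm, hihm,
      Matrix.mulVec_add, Matrix.mulVec_smul, hihm, fr_apply, smul_smul, mul_comm]
  rw [e]
  exact M.mul_mem (M.mul_mem (M.inv_mem hhM) htM) hhM

end Cfsg.Agent.Lib.H11.OrMax
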