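import Cfsg.Agent.Lib.H11.OrMax5

set_option autoImplicit false
set_option linter.unusedSimpArgs false
set_option linter.unusedSectionVars false
set_option linter.unusedVariables false

namespace Cfsg.Agent.Lib.H11.OrMax

open Matrix Module
open Cfsg.Agent.Lib.H28 Cfsg.Agent.Lib.H11.SubspMax
open Cfsg.Agent.Lib.H11.CD Cfsg.Agent.Lib.H11.SiegelGen

variable {F : Type*} [Field F] {n : ℕ} (Q : QuadraticForm F (Fin n → F))

set_option quotPrecheck false in
local notation "P" => QuadraticMap.polar (⇑Q)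

/-- `M` contains the transvection `x ↦ x + P z x • u` -/
def TT (M : Subgroup (GL (Fin n) F)) (u z : Fin n → F) : Prop :=
  P z u = 0 ∧ ∃ g ∈ M, ∀ x, (g : Matrix (Fin n) (Fin n) F) *ᵥ x = x + P z x • u

variable (M : Subgroup (GL (Fin n) F))

theorem TT_zero_left (z : Fin n → F) : TT Q M 0 z := by
  refine ⟨by simp, 1, M.one_mem, fun x => ?_⟩
  simp

theorem TT_zero_right (u : Fin n → F) : TT Q M u 0 := by
  refine ⟨by simp, 1, M.one_mem, fun x => ?_⟩
  simp

theorem TT_add_left {u u' z : Fin n → F} (h : TT Q M u z) (h' : TT Q M u' z) :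
    TT Q M (u + u') z := by
  obtain ⟨h0, g, hg, hgx⟩ := h
  obtain ⟨h0', g', hg', hgx'⟩ := h'
  refine ⟨by rw [QuadraticMap.polar_add_right, h0, h0', add_zero], g * g', M.mul_mem hg hg',
    fun x => ?_⟩
  rw [gl_mul_mulVec, hgx', hgx, QuadraticMap.polar_add_right, QuadraticMap.polar_smul_right, h0',
    smul_zero, add_zero, smul_add]
  abel

theorem TT_add_right {u z z' : Fin n → F} (h : TT Q M u z) (h' : TT Q M u z') :
    TT Q M u (z + z') := by
  obtain ⟨h0, g, hg, hgx⟩ := h
  obtain ⟨h0', g', hg', hgx'⟩ := h'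
  refine ⟨by rw [QuadraticMap.polar_add_left, h0, h0', add_zero], g * g', M.mul_mem hg hg',
    fun x => ?_⟩
  rw [gl_mul_mulVec, hgx', hgx, QuadraticMap.polar_add_right, QuadraticMap.polar_smul_right, h0,
    smul_zero, add_zero, QuadraticMap.polar_add_left, add_smul]
  abel

theorem TT_neg_left {u z : Fin n → F} (h : TT Q M u z) : TT Q M (-u) z := by
  obtain ⟨h0, g, hg, hgx⟩ := h
  refine ⟨by rw [QuadraticMap.polar_neg_right, h0, neg_zero], g⁻¹, M.inv_mem hg, fun x => ?_⟩
  have e : (g : Matrix (Fin n) (Fin n) F) *ᵥ (x + P z x • (-u)) = x := by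
    rw [hgx, QuadraticMap.polar_add_right, QuadraticMap.polar_smul_right,
      QuadraticMap.polar_neg_right, h0, neg_zero, smul_zero, add_zero, smul_neg]
    abel
  have := gl_inv_mulVec g (x + P z x • (-u))
  rw [e] at this
  exact this

theorem TT_smul_swap {u z : Fin n → F} (c : F) : TT Q M (c • u) z ↔ TT Q M u (c • z) := by
  constructor
  · rintro ⟨h0, g, hg, hgx⟩
    refine ⟨?_, g, hg, fun x => ?_⟩
    · rw [QuadraticMap.polar_smul_left, ← QuadraticMap.polar_smul_right]; exact h0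
    · rw [hgx x, QuadraticMap.polar_smul_left, smul_eq_mul, smul_smul, mul_comm]
  · rintro ⟨h0, g, hg, hgx⟩
    refine ⟨?_, g, hg, fun x => ?_⟩
    · rw [QuadraticMap.polar_smul_right, ← QuadraticMap.polar_smul_left]; exact h0
    · rw [hgx x, QuadraticMap.polar_smul_left, smul_eq_mul, smul_smul, mul_comm]

/-- conjugation by an isometry lying in `M` -/
theorem TT_conj {u z : Fin n → F} (h : TT Q M u z) (g0 : ↥(Cfsg.isometryGroup F ⇑Q))
    (hg0 : (g0 : GL (Fin n) F) ∈ M) : TT Q M (act Q g0 u) (act Q g0 z) := by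
  obtain ⟨h0, g, hg, hgx⟩ := h
  refine ⟨by rw [polar_act, h0], (g0 : GL (Fin n) F) * g * (g0 : GL (Fin n) F)⁻¹,
    M.mul_mem (M.mul_mem hg0 hg) (M.inv_mem hg0), fun x => ?_⟩
  rw [gl_mul_mulVec, gl_mul_mulVec, hgx, Matrix.mulVec_add, Matrix.mulVec_smul, gl_mulVec_inv,
    act_def]
  congr 2
  have e : x = act Q g0 (((g0 : GL (Fin n) F)⁻¹ : GL (Fin n) F).1 *ᵥ x) := by
    rw [← act_def, gl_mulVec_inv]
  conv_rhs => rw [e, polar_act]

/-- the commutator rule -/
theorem TT_comm {u z u' z' : Fin n → F} (h : TT Q M u z) (h' : TT Q M u' z')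
    (hzu' : P z u' = 0) : TT Q M ((-(P z' u)) • u') z := by
  obtain ⟨h0, g, hg, hgx⟩ := h
  obtain ⟨h0', g', hg', hgx'⟩ := h'
  have hginv : ∀ x, ((g⁻¹ : GL (Fin n) F) : Matrix (Fin n) (Fin n) F) *ᵥ x = x - P z x • u := by
    intro x
    have e : (g : Matrix (Fin n) (Fin n) F) *ᵥ (x - P z x • u) = x := by
      rw [hgx, QuadraticMap.polar_sub_right, QuadraticMap.polar_smul_right, h0, smul_zero,
        sub_zero]
      abel
    have := gl_inv_mulVec g (x - P z x • u)
    rw [e] at this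
    exact this
  have hginv' : ∀ x, ((g'⁻¹ : GL (Fin n) F) : Matrix (Fin n) (Fin n) F) *ᵥ x =
      x - P z' x • u' := by
    intro x
    have e : (g' : Matrix (Fin n) (Fin n) F) *ᵥ (x - P z' x • u') = x := by
      rw [hgx', QuadraticMap.polar_sub_right, QuadraticMap.polar_smul_right, h0', smul_zero,
        sub_zero]
      abel
    have := gl_inv_mulVec g' (x - P z' x • u')
    rw [e] at this
    exact this
  refine ⟨by rw [QuadraticMap.polar_smul_right, hzu', smul_zero], g * g' * g⁻¹ * g'⁻¹,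
    M.mul_mem (M.mul_mem (M.mul_mem hg hg') (M.inv_mem hg)) (M.inv_mem hg'), fun x => ?_⟩
  rw [gl_mul_mulVec, gl_mul_mulVec, gl_mul_mulVec, hginv', hginv, hgx', hgx]
  simp only [QuadraticMap.polar_sub_right, QuadraticMap.polar_add_right,
    QuadraticMap.polar_smul_right, smul_eq_mul, h0, h0', hzu', mul_zero, sub_zero, add_zero]
  module

end Cfsg.Agent.Lib.H11.OrMax
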