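import Cfsg.Agent.Lib.H11.OrMax6

set_option autoImplicit false
set_option linter.unusedSimpArgs false
set_option linter.unusedSectionVars false
set_option linter.unusedVariables false

namespace Cfsg.Agent.Lib.H11.OrMax

open Matrix Module
open Cfsg.Agent.Lib.H28 Cfsg.Agent.Lib.H11.SubspMax
open Cfsg.Agent.Lib.H11.CD Cfsg.Agent.Lib.H11.SiegelGen

variable {F : Type*} [Field F] {n : ℕ} (Q : QuadraticForm F (Fin n → F))

set_option quotPrecheck false in
local notation "P" => QuadraticMap.polar (⇑Q)

theorem li_pair' (h2 : (2 : F) ≠ 0) (u a : Fin n → F) (hu : u ≠ 0) (ha : Q a ≠ 0)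
    (hau : P a u = 0) : LinearIndependent F ![u, a] := by
  rw [LinearIndependent.pair_iff]
  intro s t hst
  have e : P a (s • u + t • a) = 0 := by rw [hst]; simp
  rw [QuadraticMap.polar_add_right, QuadraticMap.polar_smul_right, QuadraticMap.polar_smul_right,
    hau, P_self, smul_zero, zero_add, smul_eq_mul] at e
  have ht : t = 0 := by
    rcases mul_eq_zero.1 e with h | h
    · exact h
    · exact absurd h (mul_ne_zero h2 ha)
  subst ht
  rw [zero_smul, add_zero] at hst
  exact ⟨(smul_eq_zero.1 hst).resolve_right hu, rfl⟩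

/-- a subspace containing a level set (inside `s^⊥`, avoiding a line) contains `s^⊥` -/
theorem span_level [Fintype F] (hQ : (QuadraticMap.polarBilin Q).Nondegenerate) (hn : 13 ≤ n)
    (Y : Submodule F (Fin n → F)) (s u₀ : Fin n → F) (α : F)
    (hY : ∀ v, Q v = α → P s v = 0 → (∀ t : F, v ≠ t • u₀) → v ∈ Y)
    (w : Fin n → F) (hw : P s w = 0) : w ∈ Y := by
  obtain ⟨e, f, e', f', hQe, hQf, hef, hQe', hQf', hef', hee', hef'', hfe', hff', hve, hvf,
    hve', hvf'⟩ := exists_two_hyp_perp Q hQ ![s, u₀, w] (by omega)
  have se : P s e = 0 := hve 0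
  have ue : P u₀ e = 0 := hve 1
  have we : P w e = 0 := hve 2
  have sf : P s f = 0 := hvf 0
  have uf : P u₀ f = 0 := hvf 1
  have wf : P w f = 0 := hvf 2
  have se' : P s e' = 0 := hve' 0
  have we' : P w e' = 0 := hve' 2
  have sf' : P s f' = 0 := hvf' 0
  have wf' : P w f' = 0 := hvf' 2
  have fe : P f e = 1 := by rw [P_comm]; exact hef
  have fu : P f u₀ = 0 := by rw [P_comm]; exact uf
  have L : ∀ y, P y e = 0 → P y f = 0 → P s y = 0 → y + e + (α - Q y) • f ∈ Y := by
    intro y hye hyf hsy
    apply hY
    · rw [add_assoc, Q_add, Q_add, QuadraticMap.map_smul, hQe, hQf, QuadraticMap.polar_smul_right,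
        hef, QuadraticMap.polar_add_right, QuadraticMap.polar_smul_right, hye, hyf]
      simp
    · rw [QuadraticMap.polar_add_right, QuadraticMap.polar_add_right,
        QuadraticMap.polar_smul_right, hsy, se, sf]
      simp
    · intro t ht
      have e1 : P f (y + e + (α - Q y) • f) = 1 := by
        rw [QuadraticMap.polar_add_right, QuadraticMap.polar_add_right,
          QuadraticMap.polar_smul_right, P_comm Q f y, hyf, fe, P_self, hQf]
        simp
      rw [ht, QuadraticMap.polar_smul_right, fu, smul_zero] at e1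
      exact zero_ne_one e1
  have hB : e + α • f ∈ Y := by
    have := L 0 (by simp) (by simp) (by simp)
    simpa using this
  have hC : e' + e + α • f ∈ Y := by
    have := L e' (by rw [P_comm]; exact hee') (by rw [P_comm]; exact hfe') se'
    rwa [hQe', sub_zero] at this
  have hD : f' + e + α • f ∈ Y := by
    have := L f' (by rw [P_comm]; exact hef'') (by rw [P_comm]; exact hff') sf'
    rwa [hQf', sub_zero] at this
  have hE : e' + f' + e + (α - 1) • f ∈ Y := by
    have := L (e' + f')
      (by rw [QuadraticMap.polar_add_left, P_comm Q e' e, P_comm Q f' e, hee', hef'', add_zero])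
      (by rw [QuadraticMap.polar_add_left, P_comm Q e' f, P_comm Q f' f, hfe', hff', add_zero])
      (by rw [QuadraticMap.polar_add_right, se', sf', add_zero])
    rwa [Q_add, hQe', hQf', hef', zero_add, zero_add] at this
  have hA := L w we wf hw
  have he' : e' ∈ Y := by
    have : e' = (e' + e + α • f) - (e + α • f) := by abel
    rw [this]; exact Y.sub_mem hC hB
  have hf' : f' ∈ Y := by
    have : f' = (f' + e + α • f) - (e + α • f) := by abel
    rw [this]; exact Y.sub_mem hD hB
  have hf : f ∈ Y := by
    have : f = (e + α • f) - (e' + f' + e + (α - 1) • f) + e' + f' := by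
      rw [sub_smul, one_smul]; abel
    rw [this]
    exact Y.add_mem (Y.add_mem (Y.sub_mem hB hE) he') hf'
  have he : e ∈ Y := by
    have : e = (e + α • f) - α • f := by abel
    rw [this]; exact Y.sub_mem hB (Y.smul_mem _ hf)
  have : w = (w + e + (α - Q w) • f) - e - (α - Q w) • f := by abel
  rw [this]
  exact Y.sub_mem (Y.sub_mem hA he) (Y.smul_mem _ hf)

end Cfsg.Agent.Lib.H11.OrMax
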