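import Cfsg.Agent.Lib.H11.OrMax7
import Cfsg.Agent.Lib.H11.OmegaTrans

set_option autoImplicit false
set_option linter.unusedSimpArgs false
set_option linter.unusedSectionVars false
set_option linter.unusedVariables false

namespace Cfsg.Agent.Lib.H11.OrMax

open Matrix Module
open Cfsg.Agent.Lib.H28 Cfsg.Agent.Lib.H11.SubspMax
open Cfsg.Agent.Lib.H11.CD Cfsg.Agent.Lib.H11.SiegelGen

variable {F : Type*} [Field F] {n : ℕ} (Q : QuadraticForm F (Fin n → F))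

set_option quotPrecheck false in
local notation "P" => QuadraticMap.polar (⇑Q)

section main
variable [Fintype F] (hQ : (QuadraticMap.polarBilin Q).Nondegenerate) (h2 : (2 : F) ≠ 0)
  (hn : 13 ≤ n) (M : Subgroup (GL (Fin n) F))
  (hNM : Cfsg.Geo.quadSimilarityGroup (⇑Q) ⊓ Cfsg.Geo.specialLinear (Fin n) F ≤ M)
include hQ h2 hn hNM

/-- Claim 1 -/
theorem TT_level (u₀ a₀ : Fin n → F) (hT : TT Q M u₀ a₀) (hu₀ : u₀ ≠ 0) (ha₀ : Q a₀ ≠ 0)
    (u₁ : Fin n → F) (hau₁ : P a₀ u₁ = 0) (hQu₁ : Q u₁ = Q u₀) (hne : ∀ t : F, u₁ ≠ t • u₀)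
    (lam : F) : TT Q M (lam • u₁) a₀ := by
  have hu₁0 : u₁ ≠ 0 := by
    intro h0
    exact hne 0 (by rw [h0, zero_smul])
  obtain ⟨e, f, hQe, hQf, hef, hve, hvf⟩ := exists_hyp_perp Q hQ ![u₀, u₁] (by omega)
  have u0e : P u₀ e = 0 := hve 0
  have u1e : P u₁ e = 0 := hve 1
  have u0f : P u₀ f = 0 := hvf 0
  have u1f : P u₁ f = 0 := hvf 1
  have hnm : u₀ ∉ Submodule.span F {u₁} := by
    intro hmem
    rw [Submodule.mem_span_singleton] at hmem
    obtain ⟨s, hs⟩ := hmem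
    have hs0 : s ≠ 0 := by
      rintro rfl
      rw [zero_smul] at hs
      exact hu₀ hs.symm
    exact hne s⁻¹ (by rw [← hs, smul_smul, inv_mul_cancel₀ hs0, one_smul])
  obtain ⟨φ, hφ0, hφ1⟩ := Submodule.exists_le_ker_of_notMem hnm
  obtain ⟨p, rfl⟩ := exists_fr Q hQ φ
  have hp0 : P p u₀ ≠ 0 := hφ0
  have hp1 : P p u₁ = 0 := by
    have := hφ1 (Submodule.mem_span_singleton_self u₁)
    exact this
  obtain ⟨p₁, hp₁⟩ : ∃ p₁, p₁ = (-lam / P p u₀) • p := ⟨_, rfl⟩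
  have hp₁0 : P p₁ u₀ = -lam := by
    rw [hp₁, QuadraticMap.polar_smul_left, smul_eq_mul, div_mul_cancel₀ _ hp0]
  have hp₁1 : P p₁ u₁ = 0 := by
    rw [hp₁, QuadraticMap.polar_smul_left, hp1, smul_zero]
  obtain ⟨p', hp'⟩ : ∃ p', p' = p₁ - (P p₁ f) • e - (P p₁ e) • f := ⟨_, rfl⟩
  have fe : P f e = 1 := by rw [P_comm]; exact hef
  have hp'e : P p' e = 0 := by
    rw [hp', QuadraticMap.polar_sub_left, QuadraticMap.polar_sub_left,
      QuadraticMap.polar_smul_left, QuadraticMap.polar_smul_left, P_self, hQe, fe]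
    simp
  have hp'f : P p' f = 0 := by
    rw [hp', QuadraticMap.polar_sub_left, QuadraticMap.polar_sub_left,
      QuadraticMap.polar_smul_left, QuadraticMap.polar_smul_left, P_self, hQf, hef]
    simp
  have hp'0 : P p' u₀ = -lam := by
    rw [hp', QuadraticMap.polar_sub_left, QuadraticMap.polar_sub_left,
      QuadraticMap.polar_smul_left, QuadraticMap.polar_smul_left, P_comm Q e u₀, P_comm Q f u₀,
      u0e, u0f, hp₁0]
    simp
  have hp'1 : P p' u₁ = 0 := by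
    rw [hp', QuadraticMap.polar_sub_left, QuadraticMap.polar_sub_left,
      QuadraticMap.polar_smul_left, QuadraticMap.polar_smul_left, P_comm Q e u₁, P_comm Q f u₁,
      u1e, u1f, hp₁1]
    simp
  obtain ⟨a₁, ha₁⟩ : ∃ a₁, a₁ = p' + e + (Q a₀ - Q p') • f := ⟨_, rfl⟩
  have hQa₁ : Q a₁ = Q a₀ := by
    rw [ha₁, add_assoc, Q_add, Q_add, QuadraticMap.map_smul, hQe, hQf,
      QuadraticMap.polar_smul_right, hef, QuadraticMap.polar_add_right,
      QuadraticMap.polar_smul_right, hp'e, hp'f]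
    simp
  have ha₁0 : P a₁ u₀ = -lam := by
    rw [ha₁, QuadraticMap.polar_add_left, QuadraticMap.polar_add_left,
      QuadraticMap.polar_smul_left, P_comm Q e u₀, P_comm Q f u₀, u0e, u0f, hp'0]
    simp
  have ha₁1 : P a₁ u₁ = 0 := by
    rw [ha₁, QuadraticMap.polar_add_left, QuadraticMap.polar_add_left,
      QuadraticMap.polar_smul_left, P_comm Q e u₁, P_comm Q f u₁, u1e, u1f, hp'1]
    simp
  have hQa₁0 : Q a₁ ≠ 0 := by rw [hQa₁]; exact ha₀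
  obtain ⟨g0, hdet, hg0⟩ := witt_det_one Q hQ 2 ![u₀, a₀] ![u₁, a₁]
    (li_pair' Q h2 u₀ a₀ hu₀ ha₀ hT.1) (li_pair' Q h2 u₁ a₁ hu₁0 hQa₁0 ha₁1)
    (Cfsg.Agent.Lib.H11.OmegaTrans.Q_pair Q u₀ a₀ u₁ a₁ hQu₁ hQa₁)
    (Cfsg.Agent.Lib.H11.OmegaTrans.gram_pair Q u₀ a₀ u₁ a₁ hQu₁ hQa₁
      (by rw [P_comm Q u₁ a₁, ha₁1, P_comm Q u₀ a₀, hT.1])) (by omega)
  have h0 : act Q g0 u₀ = u₁ := hg0 0
  have h1 : act Q g0 a₀ = a₁ := hg0 1
  have hg0M : (g0 : GL (Fin n) F) ∈ M := hNM (iso_mem_N Q g0 hdet)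
  have hT' := TT_conj Q M hT g0 hg0M
  rw [h0, h1] at hT'
  have := TT_comm Q M hT hT' hau₁
  rw [ha₁0, neg_neg] at this
  exact this

/-- Claim 2 -/
theorem TT_all_left (u₀ a₀ : Fin n → F) (hT : TT Q M u₀ a₀) (hu₀ : u₀ ≠ 0) (ha₀ : Q a₀ ≠ 0)
    (u : Fin n → F) (hau : P a₀ u = 0) : TT Q M u a₀ := by
  obtain ⟨Y, hY⟩ : ∃ Y : Submodule F (Fin n → F),
      ∀ v, v ∈ Y ↔ (P a₀ v = 0 ∧ ∀ lam : F, TT Q M (lam • v) a₀) := by
    refine ⟨{ carrier := {v | P a₀ v = 0 ∧ ∀ lam : F, TT Q M (lam • v) a₀}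
              add_mem' := ?_
              zero_mem' := ?_
              smul_mem' := ?_ }, fun v => Iff.rfl⟩
    · rintro v w ⟨hv1, hv2⟩ ⟨hw1, hw2⟩
      refine ⟨by rw [QuadraticMap.polar_add_right, hv1, hw1, add_zero], fun lam => ?_⟩
      rw [smul_add]
      exact TT_add_left Q M (hv2 lam) (hw2 lam)
    · refine ⟨by simp, fun lam => ?_⟩
      rw [smul_zero]
      exact TT_zero_left Q M a₀
    · rintro c v ⟨hv1, hv2⟩
      refine ⟨by rw [QuadraticMap.polar_smul_right, hv1, smul_zero], fun lam => ?_⟩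
      rw [smul_smul]
      exact hv2 _
  have h1 := span_level Q hQ hn Y a₀ u₀ (Q u₀) (fun v hv1 hv2 hv3 => (hY v).2
    ⟨hv2, fun lam => TT_level Q hQ h2 hn M hNM u₀ a₀ hT hu₀ ha₀ v hv2 hv1 hv3 lam⟩) u hau
  have h3 := ((hY u).1 h1).2 1
  rwa [one_smul] at h3

/-- Claim 3 -/
theorem TT_all_level (u₀ a₀ : Fin n → F) (hT : TT Q M u₀ a₀) (hu₀ : u₀ ≠ 0) (ha₀ : Q a₀ ≠ 0)
    (a : Fin n → F) (hQa : Q a = Q a₀) (u : Fin n → F) (hau : P a u = 0) : TT Q M u a := by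
  have ha0 : a₀ ≠ 0 := by
    rintro rfl
    exact ha₀ (QuadraticMap.map_zero _)
  have ha0' : a ≠ 0 := by
    rintro rfl
    rw [QuadraticMap.map_zero] at hQa
    exact ha₀ hQa.symm
  obtain ⟨g0, hdet, hg0⟩ := witt_det_one Q hQ 1 (fun _ => a₀) (fun _ => a)
    (linearIndependent_unique_iff.2 ha0) (linearIndependent_unique_iff.2 ha0')
    (fun _ => hQa) (fun _ _ => by rw [P_self, P_self, hQa]) (by omega)
  have h0 : act Q g0 a₀ = a := hg0 0
  have hg0M : (g0 : GL (Fin n) F) ∈ M := hNM (iso_mem_N Q g0 hdet)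
  have h1 : P a₀ (act Q g0⁻¹ u) = 0 := by
    rw [← polar_act Q g0, h0, Cfsg.Agent.Lib.H11.OmegaTrans.act_inv_act]
    exact hau
  have hT' := TT_all_left Q hQ h2 hn M hNM u₀ a₀ hT hu₀ ha₀ _ h1
  have := TT_conj Q M hT' g0 hg0M
  rwa [h0, Cfsg.Agent.Lib.H11.OmegaTrans.act_inv_act] at this

/-- Claim 4 -/
theorem TT_all (u₀ a₀ : Fin n → F) (hT : TT Q M u₀ a₀) (hu₀ : u₀ ≠ 0) (ha₀ : Q a₀ ≠ 0)
    (u z : Fin n → F) (hzu : P z u = 0) : TT Q M u z := by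
  obtain ⟨Z, hZ⟩ : ∃ Z : Submodule F (Fin n → F),
      ∀ v, v ∈ Z ↔ (P v u = 0 ∧ ∀ lam : F, TT Q M (lam • u) v) := by
    refine ⟨{ carrier := {v | P v u = 0 ∧ ∀ lam : F, TT Q M (lam • u) v}
              add_mem' := ?_
              zero_mem' := ?_
              smul_mem' := ?_ }, fun v => Iff.rfl⟩
    · rintro v w ⟨hv1, hv2⟩ ⟨hw1, hw2⟩
      refine ⟨by rw [QuadraticMap.polar_add_left, hv1, hw1, add_zero], fun lam => ?_⟩
      exact TT_add_right Q M (hv2 lam) (hw2 lam)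
    · refine ⟨by simp, fun lam => ?_⟩
      exact TT_zero_right Q M _
    · rintro c v ⟨hv1, hv2⟩
      refine ⟨by rw [QuadraticMap.polar_smul_left, hv1, smul_zero], fun lam => ?_⟩
      rw [← TT_smul_swap, smul_smul]
      exact hv2 _
  have h1 := span_level Q hQ hn Z u 0 (Q a₀) (fun v hv1 hv2 _ => (hZ v).2
    ⟨by rw [P_comm]; exact hv2, fun lam => TT_all_level Q hQ h2 hn M hNM u₀ a₀ hT hu₀ ha₀ v hv1
      (lam • u) (by rw [QuadraticMap.polar_smul_right, P_comm, hv2, smul_zero])⟩) z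
    (by rw [P_comm]; exact hzu)
  have h3 := ((hZ z).1 h1).2 1
  rwa [one_smul] at h3

/-- an overgroup of `N` containing a non-similarity contains `SL` -/
theorem sl_le (h : GL (Fin n) F) (hhM : h ∈ M)
    (hh : h ∉ Cfsg.Geo.quadSimilarityGroup (⇑Q)) : Cfsg.Geo.specialLinear (Fin n) F ≤ M := by
  obtain ⟨u₀, a₀, hua, hu₀, ha₀, hmem⟩ := exists_tv_in Q hQ h2 (by omega) M hNM h hhM hh
  have hT : TT Q M u₀ a₀ := ⟨hua, _, hmem, fun x => by rw [tvGL_mulVec, fr_apply]⟩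
  have : Nontrivial (Fin n) := by
    rw [← Fintype.one_lt_card_iff_nontrivial, Fintype.card_fin]; omega
  apply sl_le_of_tvGL
  intro φ u hφ
  obtain ⟨z, rfl⟩ := exists_fr Q hQ φ
  obtain ⟨-, g, hg, hgx⟩ := TT_all Q hQ h2 hn M hNM u₀ a₀ hT hu₀ ha₀ u z hφ
  have : tvGL (fr Q z) u hφ = g := gl_ext (fun x => by rw [tvGL_mulVec, hgx, fr_apply])
  rw [this]
  exact hg

end main

/-- the similarity group of a quadratic form meets `SL` in a proper subgroup -/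
theorem sim_lt [Fintype F] (hQ : (QuadraticMap.polarBilin Q).Nondegenerate) (hn : 13 ≤ n) :
    Cfsg.Geo.quadSimilarityGroup (⇑Q) ⊓ Cfsg.Geo.specialLinear (Fin n) F <
      Cfsg.Geo.specialLinear (Fin n) F := by
  refine lt_of_le_of_ne inf_le_right ?_
  intro heq
  obtain ⟨e, f, e', f', hQe, hQf, hef, hQe', hQf', hef', hee', hef'', hfe', hff', -, -, -, -⟩ :=
    exists_two_hyp_perp Q hQ (k := 0) (fun i => i.elim0) (by omega)
  have h0 : fr Q e' e = 0 := by rw [fr_apply, P_comm]; exact hee'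
  have hmem : tvGL (fr Q e') e h0 ∈
      Cfsg.Geo.quadSimilarityGroup (⇑Q) ⊓ Cfsg.Geo.specialLinear (Fin n) F := by
    rw [heq]; exact tvGL_mem_specialLinear _ _ _
  obtain ⟨c, hc⟩ := hmem.1
  have h1 := hc (f + f')
  rw [tvGL_mulVec, fr_apply, QuadraticMap.polar_add_right, P_comm Q e' f, hfe', hef', zero_add,
    one_smul, Q_add, Q_add, hQf, hQf', hQe, hff', QuadraticMap.polar_add_left, P_comm Q f e, hef,
    P_comm Q f' e, hef''] at h1
  simp at h1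

theorem quad_sim_maximal [Fintype F] (hQ : (QuadraticMap.polarBilin Q).Nondegenerate)
    (h2 : (2 : F) ≠ 0) (hn : 13 ≤ n) :
    Cfsg.Geo.IsMaximalIn (Cfsg.Geo.specialLinear (Fin n) F)
      (Cfsg.Geo.quadSimilarityGroup (⇑Q) ⊓ Cfsg.Geo.specialLinear (Fin n) F) := by
  refine ⟨sim_lt Q hQ hn, ?_⟩
  intro M hNM hMS
  by_cases hMN : M = Cfsg.Geo.quadSimilarityGroup (⇑Q) ⊓ Cfsg.Geo.specialLinear (Fin n) F
  · left; exact hMN
  right
  apply le_antisymm hMS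
  obtain ⟨h, hhM, hhN⟩ : ∃ h ∈ M, h ∉ Cfsg.Geo.quadSimilarityGroup (⇑Q) := by
    by_contra hcon
    push Not at hcon
    apply hMN
    apply le_antisymm _ hNM
    intro g hg
    exact ⟨hcon g hg, hMS hg⟩
  exact sl_le Q hQ h2 hn M hNM h hhM hhN

end Cfsg.Agent.Lib.H11.OrMax
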