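import Mathlib
import Cfsg.Agent.Lib.H10.OrtNdE
import Cfsg.Agent.Lib.H11.PSLGraph11

/-!
# Odd-dimensional nondegenerate subspaces of quadratic spaces (part 1, helper11)

On top of helper10's `OrtNd` library (discriminant class `DSq` of a subspace):
* `DSq_of_iso`: isometric subspaces have the same discriminant class;
* `exists_odd_coord`: a nondegenerate subspace of odd dimension carries a scalar multiple of the
  standard form `x₀² + Σ xᵢ yᵢ`;
* `isometric_of_DSq_odd`: nondegenerate subspaces of the same odd dimension and discriminant class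
  are isometric;
* bridges to the `Cfsg.Geo` predicates.
-/

set_option autoImplicit false
set_option linter.unusedSectionVars false
set_option linter.unusedVariables false

namespace Cfsg.Agent.Lib.H11.OrtOd

open Module Cfsg.Agent.Lib.H24.Elus Cfsg.Agent.Lib.H10.OrtNd

section iso

variable {F : Type*} [Field F] {V : Type*} [AddCommGroup V] [Module F V]
variable (Q : QuadraticForm F V)

theorem polar_of_iso {W W' : Submodule F V} (e : W ≃ₗ[F] W')
    (he : ∀ w : W, Q ((e w : W') : V) = Q (w : V)) (u w : W) :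
    PB Q ((e u : W') : V) ((e w : W') : V) = PB Q (u : V) (w : V) := by
  rw [PB_apply, PB_apply]
  unfold QuadraticMap.polar
  have h1 : ((e u : W') : V) + ((e w : W') : V) = ((e (u + w) : W') : V) := by
    rw [map_add, Submodule.coe_add]
  have h2 : (u : V) + (w : V) = ((u + w : W) : V) := by rw [Submodule.coe_add]
  rw [h1, h2, he, he, he]

/-- a linearly independent family of the right size inside a subspace spans it -/
theorem span_eq_of_card [FiniteDimensional F V] {κ : Type*} [Fintype κ] {v : κ → V}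
    (hli : LinearIndependent F v) {W : Submodule F V} (hmem : ∀ i, v i ∈ W)
    (hcard : Fintype.card κ = finrank F W) : Submodule.span F (Set.range v) = W := by
  apply Submodule.eq_of_le_of_finrank_eq
  · rw [Submodule.span_le]
    rintro _ ⟨i, rfl⟩
    exact hmem i
  · rw [finrank_span_eq_card hli, hcard]

theorem DSq_of_iso [FiniteDimensional F V] {W W' : Submodule F V} (e : W ≃ₗ[F] W')
    (he : ∀ w : W, Q ((e w : W') : V) = Q (w : V)) : DSq Q W ↔ DSq Q W' := by
  classical
  obtain ⟨v, hv, hvW⟩ := exists_fam W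
  have hmem : ∀ i, v i ∈ W := fun i => by
    rw [← hvW]
    exact Submodule.subset_span ⟨i, rfl⟩
  obtain ⟨v', hv'⟩ : ∃ v' : Fin (finrank F W) → V, v' = fun i => ((e ⟨v i, hmem i⟩ : W') : V) :=
    ⟨_, rfl⟩
  have hlift : LinearIndependent F (fun i => (⟨v i, hmem i⟩ : W)) := by
    apply LinearIndependent.of_comp W.subtype
    exact hv
  have hli' : LinearIndependent F v' := by
    rw [hv']
    exact (hlift.map' (e : W →ₗ[F] W') (LinearEquiv.ker e)).map' W'.subtype
      (Submodule.ker_subtype W')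
  have hspan' : Submodule.span F (Set.range v') = W' := by
    apply span_eq_of_card hli'
    · intro i
      rw [hv']
      exact (e ⟨v i, hmem i⟩).2
    · rw [Fintype.card_fin]
      exact e.finrank_eq
  have hgram : gram Q v' = gram Q v := by
    ext i j
    rw [gram_apply, gram_apply, hv']
    exact polar_of_iso Q e he ⟨v i, hmem i⟩ ⟨v j, hmem j⟩
  rw [DSq_iff Q hv hvW, DSq_iff Q hli' hspan', hgram]

end iso

section odd

variable {F : Type*} [Field F] [Fintype F] {V : Type*} [AddCommGroup V] [Module F V]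
  [FiniteDimensional F V]
variable (Q : QuadraticForm F V)

theorem quadFormOdd_smul (k : ℕ) (s : F) (v : Unit ⊕ (Fin k ⊕ Fin k) → F) :
    Cfsg.quadFormOdd k F (s • v) = s ^ 2 * Cfsg.quadFormOdd k F v := by
  unfold Cfsg.quadFormOdd
  simp only [Pi.smul_apply, smul_eq_mul]
  rw [mul_add, Finset.mul_sum]
  congr 1
  · ring
  · apply Finset.sum_congr rfl
    intro i _
    ring

/-- odd-dimensional nondegenerate subspaces carry a multiple of the standard form -/
theorem exists_odd_coord {W : Submodule F V} (hW : NDon (PB Q) W) (k : ℕ)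
    (hdim : finrank F W = 2 * k + 1) :
    ∃ (ψ : W ≃ₗ[F] (Unit ⊕ (Fin k ⊕ Fin k) → F)) (d : F), d ≠ 0 ∧
      ∀ w : W, Q (w : V) = d * Cfsg.quadFormOdd k F (ψ w) := by
  classical
  obtain ⟨φ⟩ : Nonempty (W ≃ₗ[F] (Fin (2 * k + 1) → F)) :=
    ⟨(Module.finBasisOfFinrankEq F W hdim).equivFun⟩
  obtain ⟨QW, hQW⟩ : ∃ QW : QuadraticForm F (Fin (2 * k + 1) → F),
      ∀ x, QW x = Q ((φ.symm x : W) : V) :=
    ⟨(Q.comp W.subtype).comp (φ.symm : (Fin (2 * k + 1) → F) →ₗ[F] W), fun x => rfl⟩
  have hpol : ∀ x y, QuadraticMap.polarBilin QW x y =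
      PB Q ((φ.symm x : W) : V) ((φ.symm y : W) : V) := by
    intro x y
    show QuadraticMap.polar (⇑QW) x y = QuadraticMap.polar (⇑Q) _ _
    unfold QuadraticMap.polar
    rw [hQW, hQW, hQW, map_add, Submodule.coe_add]
  have hnd : (QuadraticMap.polarBilin QW).Nondegenerate := by
    constructor
    · intro x hx
      have h0 : (φ.symm x : W) = 0 := by
        apply Subtype.ext
        apply hW _ (φ.symm x).2
        intro v hv
        have := hx (φ ⟨v, hv⟩)
        rw [hpol, LinearEquiv.symm_apply_apply] at this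
        exact this
      exact (LinearEquiv.map_eq_zero_iff φ.symm).mp h0
    · intro x hx
      have h0 : (φ.symm x : W) = 0 := by
        apply Subtype.ext
        apply hW _ (φ.symm x).2
        intro v hv
        have := hx (φ ⟨v, hv⟩)
        rw [hpol, LinearEquiv.symm_apply_apply] at this
        exact (PB_symm Q _ _).trans this
      exact (LinearEquiv.map_eq_zero_iff φ.symm).mp h0
  obtain ⟨e₁, d, hd, hform⟩ := Cfsg.Agent.Lib.H11.PSLGraph.exists_odd_form QW hnd k
    (Fintype.card_fin _)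
  refine ⟨φ.trans e₁, d, hd, fun w => ?_⟩
  have := hform (φ w)
  rw [hQW, LinearEquiv.symm_apply_apply] at this
  exact this

/-- the standard Gram matrix of the odd form -/
noncomputable def G0 (k : ℕ) (F : Type*) [Field F] :
    Matrix (Unit ⊕ (Fin k ⊕ Fin k)) (Unit ⊕ (Fin k ⊕ Fin k)) F :=
  Matrix.of fun i j => QuadraticMap.polar (Cfsg.quadFormOdd k F) (Pi.single i 1) (Pi.single j 1)

/-- the discriminant class in odd coordinates -/
theorem DSq_iff_of_coord (h2 : (2 : F) ≠ 0) {W : Submodule F V} (hW : NDon (PB Q) W) (k : ℕ)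
    (hdim : finrank F W = 2 * k + 1) (ψ : W ≃ₗ[F] (Unit ⊕ (Fin k ⊕ Fin k) → F)) (d : F)
    (hd : d ≠ 0) (hf : ∀ w : W, Q (w : V) = d * Cfsg.quadFormOdd k F (ψ w)) :
    (G0 k F).det ≠ 0 ∧ (DSq Q W ↔ IsSquare (d * (G0 k F).det)) := by
  classical
  obtain ⟨vv, hvv⟩ : ∃ vv : Unit ⊕ (Fin k ⊕ Fin k) → V,
      vv = fun i => ((ψ.symm (Pi.single i 1) : W) : V) := ⟨_, rfl⟩
  have hli : LinearIndependent F vv := by
    have h1 := (Pi.basisFun F (Unit ⊕ (Fin k ⊕ Fin k))).linearIndependent
    have h3 := (h1.map' (ψ.symm : _ →ₗ[F] W) (LinearEquiv.ker ψ.symm)).map' W.subtype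
      (Submodule.ker_subtype W)
    have h4 : vv = (⇑W.subtype ∘ ⇑(ψ.symm : _ →ₗ[F] W) ∘
        ⇑(Pi.basisFun F (Unit ⊕ (Fin k ⊕ Fin k)))) := by
      rw [hvv]
      funext i
      simp only [Function.comp_apply, Pi.basisFun_apply, Submodule.subtype_apply,
        LinearEquiv.coe_coe]
    rw [h4]
    exact h3
  have hspan : Submodule.span F (Set.range vv) = W := by
    apply span_eq_of_card hli
    · intro i
      rw [hvv]
      exact (ψ.symm (Pi.single i 1)).2
    · rw [hdim]
      simp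
      ring
  have hgram : gram Q vv = d • G0 k F := by
    ext i j
    rw [gram_apply, Matrix.smul_apply, smul_eq_mul, G0, Matrix.of_apply, PB_apply, hvv]
    unfold QuadraticMap.polar
    have h1 : ((ψ.symm (Pi.single i 1) : W) : V) + ((ψ.symm (Pi.single j 1) : W) : V) =
        ((ψ.symm (Pi.single i 1 + Pi.single j 1) : W) : V) := by
      rw [map_add, Submodule.coe_add]
    rw [h1, hf, hf, hf, LinearEquiv.apply_symm_apply, LinearEquiv.apply_symm_apply,
      LinearEquiv.apply_symm_apply]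
    ring
  have hdet : (gram Q vv).det = (d ^ k) ^ 2 * (d * (G0 k F).det) := by
    rw [hgram, Matrix.det_smul]
    have : Fintype.card (Unit ⊕ (Fin k ⊕ Fin k)) = 2 * k + 1 := by
      simp
      ring
    rw [this]
    ring
  have hne := gram_det_ne_zero Q hli hspan hW
  rw [hdet] at hne
  refine ⟨fun h0 => hne (by rw [h0]; ring), ?_⟩
  rw [DSq_iff Q hli hspan, hdet]
  exact isSquare_sq_mul (pow_ne_zero k hd)

/-- nondegenerate subspaces of the same odd dimension and discriminant class are isometric -/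
theorem isometric_of_DSq_odd (h2 : (2 : F) ≠ 0) {W W' : Submodule F V} (hW : NDon (PB Q) W)
    (hW' : NDon (PB Q) W') (k : ℕ) (hdim : finrank F W = 2 * k + 1)
    (hdim' : finrank F W' = 2 * k + 1) (h : DSq Q W ↔ DSq Q W') :
    ∃ e : W ≃ₗ[F] W', ∀ w : W, Q ((e w : W') : V) = Q (w : V) := by
  classical
  obtain ⟨ψ, d, hd, hf⟩ := exists_odd_coord Q hW k hdim
  obtain ⟨ψ', d', hd', hf'⟩ := exists_odd_coord Q hW' k hdim'
  obtain ⟨hg, h1⟩ := DSq_iff_of_coord Q h2 hW k hdim ψ d hd hf
  obtain ⟨-, h1'⟩ := DSq_iff_of_coord Q h2 hW' k hdim' ψ' d' hd' hf'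
  rw [h1, h1', isSquare_mul_iff h2 hd hg, isSquare_mul_iff h2 hd' hg] at h
  have hdd : IsSquare (d * d') := by
    rw [isSquare_mul_iff h2 hd hd']
    have key : ∀ a b c : Prop, ((a ↔ c) ↔ (b ↔ c)) → (a ↔ b) := by
      intro a b c h
      by_cases ha : a <;> by_cases hb : b <;> by_cases hc : c <;> simp_all
    exact key _ _ _ h
  obtain ⟨t, ht⟩ := hdd
  have ht0 : t ≠ 0 := by
    rintro rfl
    rw [mul_zero] at ht
    exact (mul_ne_zero hd hd') ht
  have hs : t / d' ≠ 0 := div_ne_zero ht0 hd'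
  obtain ⟨σ, hσ⟩ : ∃ σ : (Unit ⊕ (Fin k ⊕ Fin k) → F) ≃ₗ[F] (Unit ⊕ (Fin k ⊕ Fin k) → F),
      ∀ v, σ v = (t / d') • v :=
    ⟨LinearEquiv.smulOfNeZero F (Unit ⊕ (Fin k ⊕ Fin k) → F) (t / d') hs, fun v => rfl⟩
  refine ⟨ψ.trans (σ.trans ψ'.symm), fun w => ?_⟩
  rw [hf', hf]
  have h5 : ψ' ((ψ.trans (σ.trans ψ'.symm)) w) = (t / d') • ψ w := by
    rw [LinearEquiv.trans_apply, LinearEquiv.trans_apply, LinearEquiv.apply_symm_apply, hσ]
  rw [h5, quadFormOdd_smul, ← mul_assoc]
  congr 1
  have h6 : d' * (t / d') ^ 2 = t * t / d' := by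
    field_simp
  rw [h6, ← ht]
  field_simp

end odd

section bridge

variable {F : Type*} [Field F] {ι : Type} [Fintype ι] [DecidableEq ι]

theorem NDon_iff_geo (Q : QuadraticForm F (ι → F)) (W : Submodule F (ι → F)) :
    Cfsg.Geo.IsNondegenerateOn (QuadraticMap.polar ⇑Q) W ↔ NDon (PB Q) W := by
  constructor
  · intro h u hu h0
    by_contra hne
    obtain ⟨-, ⟨x, hx, hx0⟩⟩ := h u hu hne
    exact hx0 (h0 x hx)
  · intro h w hw hne
    have : ¬ ∀ v ∈ W, PB Q w v = 0 := fun hall => hne (h w hw hall)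
    push Not at this
    obtain ⟨v, hv, hv0⟩ := this
    refine ⟨⟨v, hv, ?_⟩, ⟨v, hv, hv0⟩⟩
    rw [← PB_apply, PB_symm]
    exact hv0

end bridge

end Cfsg.Agent.Lib.H11.OrtOd
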