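import Mathlib
import Cfsg.Agent.Lib.H11.OrtOd1
import Cfsg.Agent.Lib.H10.OrtNdH

/-!
# Gluing isometries; classification of nondegenerate subspaces by dimension and discriminant
(part 5, helper11)

* `glue`: isometries of orthogonal summands glue to an isometry of the sums;
* `isometric_of_DSq_even`, `isometric_of_DSq`: nondegenerate subspaces of the same positive
  dimension and the same discriminant class are isometric;
* `SetS Q m P`: the nondegenerate `m`-subspaces of discriminant class `P`, with the action of the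
  abstract isometry group `IsoG Q`; transitivity for odd `m` and `card_SetS_dvd`.
-/

set_option autoImplicit false
set_option linter.unusedSectionVars false
set_option linter.unusedVariables false

namespace Cfsg.Agent.Lib.H11.OrtOd

open Module Cfsg.Agent.Lib.H24.Elus Cfsg.Agent.Lib.H10.OrtNd

section glue

variable {F : Type*} [Field F] {V : Type*} [AddCommGroup V] [Module F V]
variable (Q : QuadraticForm F V)

theorem Q_add_of_orth {a b : V} (h : PB Q a b = 0) : Q (a + b) = Q a + Q b := by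
  rw [PB_apply] at h
  unfold QuadraticMap.polar at h
  linear_combination h

/-- the sum map `A × B → A ⊔ B` as an equivalence when `A ⊓ B = ⊥` -/
noncomputable def sumEquiv (A B : Submodule F V) (hdisj : A ⊓ B = ⊥) :
    (↥A × ↥B) ≃ₗ[F] ↥(A ⊔ B) :=
  (LinearEquiv.ofInjective (A.subtype.coprod B.subtype) (by
    rw [← LinearMap.ker_eq_bot, eq_bot_iff]
    rintro ⟨a, b⟩ hab
    rw [LinearMap.mem_ker, LinearMap.coprod_apply, Submodule.subtype_apply,
      Submodule.subtype_apply] at hab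
    have ha : (a : V) ∈ A ⊓ B := by
      refine Submodule.mem_inf.mpr ⟨a.2, ?_⟩
      have : (a : V) = -(b : V) := eq_neg_of_add_eq_zero_left hab
      rw [this]
      exact B.neg_mem b.2
    rw [hdisj, Submodule.mem_bot] at ha
    have hb : (b : V) = 0 := by rw [ha, zero_add] at hab; exact hab
    rw [Submodule.mem_bot, Prod.mk_eq_zero]
    exact ⟨Subtype.ext ha, Subtype.ext hb⟩)).trans
  (LinearEquiv.ofEq _ _ (by
    rw [LinearMap.range_coprod, Submodule.range_subtype, Submodule.range_subtype]))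

theorem sumEquiv_apply (A B : Submodule F V) (hdisj : A ⊓ B = ⊥) (a : ↥A) (b : ↥B) :
    ((sumEquiv A B hdisj (a, b) : ↥(A ⊔ B)) : V) = (a : V) + (b : V) := rfl

theorem glue {A B A' B' : Submodule F V}
    (hAB : ∀ a ∈ A, ∀ b ∈ B, PB Q a b = 0) (hdisj : A ⊓ B = ⊥)
    (hAB' : ∀ a ∈ A', ∀ b ∈ B', PB Q a b = 0) (hdisj' : A' ⊓ B' = ⊥)
    (eA : ↥A ≃ₗ[F] ↥A') (heA : ∀ a : ↥A, Q ((eA a : ↥A') : V) = Q (a : V))
    (eB : ↥B ≃ₗ[F] ↥B') (heB : ∀ b : ↥B, Q ((eB b : ↥B') : V) = Q (b : V)) :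
    ∃ e : ↥(A ⊔ B) ≃ₗ[F] ↥(A' ⊔ B'), (∀ w, Q ((e w : ↥(A' ⊔ B')) : V) = Q (w : V)) ∧
      (∀ a : ↥A, ∀ b : ↥B, ∀ w : ↥(A ⊔ B), (w : V) = (a : V) + (b : V) →
        ((e w : ↥(A' ⊔ B')) : V) = ((eA a : ↥A') : V) + ((eB b : ↥B') : V)) := by
  have key : ∀ w : ↥(A ⊔ B), ∀ a : ↥A, ∀ b : ↥B, (w : V) = (a : V) + (b : V) →
      (((sumEquiv A B hdisj).symm.trans ((eA.prodCongr eB).trans (sumEquiv A' B' hdisj'))) w : V) =
        ((eA a : ↥A') : V) + ((eB b : ↥B') : V) := by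
    intro w a b hw
    have h1 : (sumEquiv A B hdisj).symm w = (a, b) := by
      rw [LinearEquiv.symm_apply_eq]
      apply Subtype.ext
      rw [sumEquiv_apply, hw]
    rw [LinearEquiv.trans_apply, LinearEquiv.trans_apply, h1]
    rfl
  refine ⟨(sumEquiv A B hdisj).symm.trans ((eA.prodCongr eB).trans (sumEquiv A' B' hdisj')), ?_,
    fun a b w hw => key w a b hw⟩
  intro w
  obtain ⟨⟨a, b⟩, hab⟩ : ∃ ab : ↥A × ↥B, (sumEquiv A B hdisj).symm w = ab := ⟨_, rfl⟩
  have hw : (w : V) = (a : V) + (b : V) := by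
    rw [LinearEquiv.symm_apply_eq] at hab
    rw [hab, sumEquiv_apply]
  rw [key w a b hw, hw, Q_add_of_orth Q (hAB' _ (eA a).2 _ (eB b).2),
    Q_add_of_orth Q (hAB _ a.2 _ b.2), heA, heB]

end glue

section cls

variable {F : Type*} [Field F] [Fintype F] {V : Type*} [AddCommGroup V] [Module F V]
  [FiniteDimensional F V]
variable (Q : QuadraticForm F V)

/-- lines spanned by vectors of the same nonzero norm are isometric -/
theorem line_iso {w w' : V} (hw : Q w ≠ 0) (hww' : Q w' = Q w) :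
    ∃ e : ↥(Submodule.span F {w}) ≃ₗ[F] ↥(Submodule.span F {w'}),
      ∀ x, Q ((e x : ↥(Submodule.span F {w'})) : V) = Q (x : V) := by
  have hw0 : w ≠ 0 := by
    rintro rfl
    exact hw (map_zero Q)
  have hw0' : w' ≠ 0 := by
    rintro rfl
    rw [map_zero] at hww'
    exact hw hww'.symm
  refine ⟨(LinearEquiv.toSpanNonzeroSingleton F V w hw0).symm.trans
    (LinearEquiv.toSpanNonzeroSingleton F V w' hw0'), fun x => ?_⟩
  obtain ⟨t, rfl⟩ : ∃ t : F, LinearEquiv.toSpanNonzeroSingleton F V w hw0 t = x :=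
    ⟨_, LinearEquiv.apply_symm_apply _ x⟩
  rw [LinearEquiv.trans_apply, LinearEquiv.symm_apply_apply,
    LinearEquiv.toSpanNonzeroSingleton_apply, LinearEquiv.toSpanNonzeroSingleton_apply]
  show Q (t • w') = Q (t • w)
  rw [QuadraticMap.map_smul, QuadraticMap.map_smul, hww']

/-- nondegenerate subspaces of the same even positive dimension and discriminant class are
isometric -/
theorem isometric_of_DSq_even (h2 : (2 : F) ≠ 0) {W W' : Submodule F V} (hW : NDon (PB Q) W)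
    (hW' : NDon (PB Q) W') (k : ℕ) (hdim : finrank F W = 2 * k + 2)
    (hdim' : finrank F W' = 2 * k + 2) (h : DSq Q W ↔ DSq Q W') :
    ∃ e : W ≃ₗ[F] W', ∀ w : W, Q ((e w : W') : V) = Q (w : V) := by
  classical
  obtain ⟨w, hwW, hw1⟩ := universal Q h2 hW (by omega) 1 one_ne_zero
  obtain ⟨w', hwW', hw1'⟩ := universal Q h2 hW' (by omega) 1 one_ne_zero
  have hw0 : Q w ≠ 0 := by rw [hw1]; exact one_ne_zero
  have hw0' : Q w' ≠ 0 := by rw [hw1']; exact one_ne_zero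
  have hL : NDon (PB Q) (Submodule.span F {w}) := NDon_span_singleton Q h2 hw0
  have hL' : NDon (PB Q) (Submodule.span F {w'}) := NDon_span_singleton Q h2 hw0'
  have hLW : Submodule.span F {w} ≤ W := by
    rw [Submodule.span_singleton_le_iff_mem]; exact hwW
  have hLW' : Submodule.span F {w'} ≤ W' := by
    rw [Submodule.span_singleton_le_iff_mem]; exact hwW'
  obtain ⟨W₁, hW₁⟩ : ∃ W₁, W₁ = W ⊓ (PB Q).orthogonal (Submodule.span F {w}) := ⟨_, rfl⟩
  obtain ⟨W₁', hW₁'⟩ : ∃ W₁', W₁' = W' ⊓ (PB Q).orthogonal (Submodule.span F {w'}) := ⟨_, rfl⟩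
  have hnd₁ : NDon (PB Q) W₁ := by
    rw [hW₁]; exact NDon_perp_inS (PB Q) (PB_symm Q) W _ hW hL hLW
  have hnd₁' : NDon (PB Q) W₁' := by
    rw [hW₁']; exact NDon_perp_inS (PB Q) (PB_symm Q) W' _ hW' hL' hLW'
  have hd₁ : finrank F W₁ = 2 * k + 1 := by
    have := finrank_perp_inS (PB Q) (PB_symm Q) W _ hL hLW
    rw [finrank_span_singleton_of_nonsing Q hw0, hdim, ← hW₁] at this
    omega
  have hd₁' : finrank F W₁' = 2 * k + 1 := by
    have := finrank_perp_inS (PB Q) (PB_symm Q) W' _ hL' hLW'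
    rw [finrank_span_singleton_of_nonsing Q hw0', hdim', ← hW₁'] at this
    omega
  have hsup : Submodule.span F {w} ⊔ W₁ = W := by
    rw [hW₁]; exact sup_perp_inS (PB Q) (PB_symm Q) W _ hL hLW
  have hsup' : Submodule.span F {w'} ⊔ W₁' = W' := by
    rw [hW₁']; exact sup_perp_inS (PB Q) (PB_symm Q) W' _ hL' hLW'
  have horth : ∀ a ∈ Submodule.span F {w}, ∀ b ∈ W₁, PB Q a b = 0 := by
    intro a ha b hb
    rw [hW₁] at hb
    exact (Submodule.mem_inf.mp hb).2 a ha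
  have horth' : ∀ a ∈ Submodule.span F {w'}, ∀ b ∈ W₁', PB Q a b = 0 := by
    intro a ha b hb
    rw [hW₁'] at hb
    exact (Submodule.mem_inf.mp hb).2 a ha
  have hD : DSq Q W ↔ (DSq Q (Submodule.span F {w}) ↔ DSq Q W₁) := by
    rw [← DSq_sup Q h2 hL hnd₁ horth, hsup]
  have hD' : DSq Q W' ↔ (DSq Q (Submodule.span F {w'}) ↔ DSq Q W₁') := by
    rw [← DSq_sup Q h2 hL' hnd₁' horth', hsup']
  have hLL : DSq Q (Submodule.span F {w}) ↔ DSq Q (Submodule.span F {w'}) := by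
    rw [DSq_span_singleton Q hw0, DSq_span_singleton Q hw0', hw1, hw1']
  have h11 : DSq Q W₁ ↔ DSq Q W₁' := by
    rw [hD, hD', hLL] at h
    have key : ∀ b c d : Prop, ((b ↔ c) ↔ (b ↔ d)) → (c ↔ d) := by
      intro b c d h1
      by_cases hb : b <;> by_cases hc : c <;> by_cases hd : d <;> simp_all
    exact key _ _ _ h
  obtain ⟨e₁, he₁⟩ := isometric_of_DSq_odd Q h2 hnd₁ hnd₁' k hd₁ hd₁' h11
  obtain ⟨e₀, he₀⟩ := line_iso Q hw0 (hw1'.trans hw1.symm)
  obtain ⟨e, he, -⟩ := glue Q horth (inf_eq_bot_of_orthS (PB Q) (PB_symm Q) _ _ hL horth)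
    horth' (inf_eq_bot_of_orthS (PB Q) (PB_symm Q) _ _ hL' horth') e₀ he₀ e₁ he₁
  refine ⟨(LinearEquiv.ofEq _ _ hsup.symm).trans (e.trans (LinearEquiv.ofEq _ _ hsup')),
    fun x => ?_⟩
  exact he _

/-- nondegenerate subspaces of the same positive dimension and discriminant class are isometric -/
theorem isometric_of_DSq (h2 : (2 : F) ≠ 0) {W W' : Submodule F V} (hW : NDon (PB Q) W)
    (hW' : NDon (PB Q) W') (hpos : 0 < finrank F W)
    (hdim : finrank F W' = finrank F W) (h : DSq Q W ↔ DSq Q W') :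
    ∃ e : W ≃ₗ[F] W', ∀ w : W, Q ((e w : W') : V) = Q (w : V) := by
  rcases Nat.even_or_odd' (finrank F W) with ⟨k, hk | hk⟩
  · obtain ⟨k', rfl⟩ : ∃ k', k = k' + 1 := ⟨k - 1, by omega⟩
    exact isometric_of_DSq_even Q h2 hW hW' k' (by omega) (by omega) h
  · exact isometric_of_DSq_odd Q h2 hW hW' k hk (by omega) h

end cls

section sets

variable {F : Type*} [Field F] {V : Type*} [AddCommGroup V] [Module F V]
variable (Q : QuadraticForm F V)

/-- the nondegenerate `m`-subspaces of discriminant class `P` -/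
def SetS (m : ℕ) (P : Prop) : Set (Submodule F V) :=
  {W | finrank F W = m ∧ NDon (PB Q) W ∧ (DSq Q W ↔ P)}

theorem DSq_map [FiniteDimensional F V] {g : V ≃ₗ[F] V} (hg : g ∈ IsoG Q) (W : Submodule F V) :
    DSq Q (W.map (g : V →ₗ[F] V)) ↔ DSq Q W :=
  (DSq_of_iso Q (g.submoduleMap W) (fun w => hg w)).symm

instance setSAction [FiniteDimensional F V] (m : ℕ) (P : Prop) :
    MulAction ↥(IsoG Q) ↥(SetS Q m P) where
  smul g W := ⟨W.1.map ((g : V ≃ₗ[F] V) : V →ₗ[F] V),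
    by rw [finrank_map_equiv]; exact W.2.1, NDon_map g.2 W.2.2.1,
    (DSq_map Q g.2 W.1).trans W.2.2.2⟩
  one_smul W := by
    apply Subtype.ext
    show W.1.map (((1 : ↥(IsoG Q)) : V ≃ₗ[F] V) : V →ₗ[F] V) = W.1
    exact Submodule.map_id W.1
  mul_smul g h W := by
    apply Subtype.ext
    show W.1.map (((g * h : ↥(IsoG Q)) : V ≃ₗ[F] V) : V →ₗ[F] V) =
      (W.1.map ((h : V ≃ₗ[F] V) : V →ₗ[F] V)).map ((g : V ≃ₗ[F] V) : V →ₗ[F] V)
    rw [← Submodule.map_comp]
    rfl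

theorem setS_smul_coe [FiniteDimensional F V] (m : ℕ) (P : Prop) (g : ↥(IsoG Q))
    (W : ↥(SetS Q m P)) :
    ((g • W : ↥(SetS Q m P)) : Submodule F V) = W.1.map ((g : V ≃ₗ[F] V) : V →ₗ[F] V) := rfl

/-- an isometry between subspaces extends to an element of `IsoG Q` mapping one to the other -/
theorem exists_IsoG_of_iso [Finite F] [FiniteDimensional F V]
    (hQ : (QuadraticMap.polarBilin Q).Nondegenerate) {W₁ W₂ : Submodule F V}
    (e : ↥W₁ ≃ₗ[F] ↥W₂) (he : ∀ x : ↥W₁, Q ((e x : ↥W₂) : V) = Q (x : V)) :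
    ∃ g : V ≃ₗ[F] V, g ∈ IsoG Q ∧ W₁.map (g : V →ₗ[F] V) = W₂ ∧
      ∀ x : ↥W₁, g (x : V) = ((e x : ↥W₂) : V) := by
  obtain ⟨g, hg, hgx⟩ := Cfsg.Agent.S0750.result Q hQ W₁ W₂ e he
  refine ⟨g, hg, ?_, hgx⟩
  apply le_antisymm
  · rintro _ ⟨x, hx, rfl⟩
    have := hgx ⟨x, hx⟩
    rw [LinearEquiv.coe_coe]
    show g x ∈ W₂
    rw [this]
    exact (e ⟨x, hx⟩).2
  · intro w hw
    refine ⟨(e.symm ⟨w, hw⟩ : ↥W₁), (e.symm ⟨w, hw⟩).2, ?_⟩
    rw [LinearEquiv.coe_coe]
    have := hgx (e.symm ⟨w, hw⟩)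
    show g ((e.symm ⟨w, hw⟩ : ↥W₁) : V) = w
    rw [this, LinearEquiv.apply_symm_apply]

/-- the isometry group is transitive on nondegenerate subspaces of a given positive dimension and
discriminant class -/
theorem exists_IsoG_map_S [Fintype F] [FiniteDimensional F V] (h2 : (2 : F) ≠ 0)
    (hQ : (QuadraticMap.polarBilin Q).Nondegenerate) {m : ℕ} (hm : 0 < m) {P : Prop}
    (W₁ W₂ : ↥(SetS Q m P)) : ∃ g : ↥(IsoG Q), g • W₁ = W₂ := by
  obtain ⟨e, he⟩ := isometric_of_DSq Q h2 W₁.2.2.1 W₂.2.2.1 (by rw [W₁.2.1]; exact hm)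
    (by rw [W₁.2.1, W₂.2.1]) (W₁.2.2.2.trans W₂.2.2.2.symm)
  obtain ⟨g, hg, hmap, -⟩ := exists_IsoG_of_iso Q hQ e he
  refine ⟨⟨g, hg⟩, ?_⟩
  apply Subtype.ext
  rw [setS_smul_coe]
  exact hmap

theorem card_SetS_dvd [Fintype F] [FiniteDimensional F V] (h2 : (2 : F) ≠ 0)
    (hQ : (QuadraticMap.polarBilin Q).Nondegenerate) {m : ℕ} (hm : 0 < m) {P : Prop}
    (hne : (SetS Q m P).Nonempty) :
    Nat.card ↥(SetS Q m P) ∣ Nat.card ↥(IsoG Q) := by
  classical
  have : Finite V := Module.finite_of_finite F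
  have : Finite (V ≃ₗ[F] V) := Finite.of_injective (fun g => (g : V → V))
    (fun g h hgh => LinearEquiv.ext (congrFun hgh))
  obtain ⟨W₀, hW₀⟩ := hne
  let w₀ : ↥(SetS Q m P) := ⟨W₀, hW₀⟩
  have horb : MulAction.orbit ↥(IsoG Q) w₀ = Set.univ := by
    ext W
    simp only [Set.mem_univ, iff_true]
    obtain ⟨g, hg⟩ := exists_IsoG_map_S Q h2 hQ hm w₀ W
    exact ⟨g, hg⟩
  have : Finite (Submodule F V) := Finite.of_injective (fun W => (W : Set V))
    SetLike.coe_injective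
  haveI : Fintype ↥(IsoG Q) := Fintype.ofFinite _
  haveI : Fintype ↑(MulAction.orbit ↥(IsoG Q) w₀) := Fintype.ofFinite _
  haveI : Fintype ↥(MulAction.stabilizer ↥(IsoG Q) w₀) := Fintype.ofFinite _
  have h := MulAction.card_orbit_mul_card_stabilizer_eq_card_group ↥(IsoG Q) w₀
  have h1 : Fintype.card ↑(MulAction.orbit ↥(IsoG Q) w₀) = Nat.card ↥(SetS Q m P) := by
    rw [← Nat.card_eq_fintype_card]
    exact Nat.card_congr ((Equiv.setCongr horb).trans (Equiv.Set.univ _))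
  rw [h1, ← Nat.card_eq_fintype_card (α := ↥(IsoG Q))] at h
  exact ⟨_, h.symm⟩

end sets

end Cfsg.Agent.Lib.H11.OrtOd
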