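import Mathlib
import Cfsg.Agent.Lib.H11.OrtOd5
import Cfsg.Agent.Lib.H10.OrtNdK

/-!
# Isometries of prime order with prescribed fixed space (part 6, helper11)

`FPF Q r A`: there is an isometry `y` of `V` with `y ^ r = 1`, preserving `A`, whose fixed space
is exactly `A^⊥`.  Closure under the isometry group (`FPF_map`), orthogonal sums (`FPF_sup`),
construction from an invariant subspace without fixed vectors (`FPF_of_invariant`).
-/

set_option autoImplicit false
set_option linter.unusedSectionVars false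
set_option linter.unusedVariables false

namespace Cfsg.Agent.Lib.H11.OrtOd

open Module Cfsg.Agent.Lib.H24.Elus Cfsg.Agent.Lib.H10.OrtNd

section fpf

variable {F : Type*} [Field F] {V : Type*} [AddCommGroup V] [Module F V] [FiniteDimensional F V]
variable (Q : QuadraticForm F V)

/-- `A` carries an isometry of order dividing `r` without nonzero fixed vectors (extended by the
identity on `A^⊥`) -/
def FPF (r : ℕ) (A : Submodule F V) : Prop :=
  ∃ y : End F V, (∀ v, Q (y v) = Q v) ∧ y ^ r = 1 ∧ (∀ a ∈ A, y a ∈ A) ∧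
    (∀ v, y v = v ↔ v ∈ (PB Q).orthogonal A)

theorem FPF_bot (r : ℕ) : FPF Q r (⊥ : Submodule F V) := by
  refine ⟨1, fun v => rfl, one_pow r, fun a ha => ha, fun v => ?_⟩
  constructor
  · intro _ a ha
    rw [(Submodule.mem_bot F).mp ha, map_zero, LinearMap.zero_apply]
  · intro _
    rfl

theorem FPF_of_invariant {r : ℕ} {A : Submodule F V} (hA : NDon (PB Q) A) (y : End F V)
    (hiso : ∀ v, Q (y v) = Q v) (hy : y ^ r = 1) (hinv : ∀ a ∈ A, y a ∈ A)
    (hfix : ∀ a ∈ A, y a = a → a = 0) : FPF Q r A := by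
  refine ⟨extId Q hA (y.restrict hinv), ?_, ?_, ?_, ?_⟩
  · apply extId_iso
    intro c
    show Q (y (c : V)) = Q (c : V)
    exact hiso _
  · apply extId_pow_eq_one
    rw [Module.End.pow_restrict]
    apply LinearMap.ext
    intro c
    apply Subtype.ext
    show (y ^ r) (c : V) = (c : V)
    rw [hy]
    rfl
  · intro a ha
    have := extId_mem Q hA (y.restrict hinv) ⟨a, ha⟩
    rw [this]
    exact (y.restrict hinv ⟨a, ha⟩).2
  · intro v
    obtain ⟨c, d, hd, rfl⟩ := exists_decomp Q hA v
    rw [extId_add Q hA _ c d hd]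
    constructor
    · intro h
      have h1 : y (c : V) = (c : V) := add_right_cancel h
      have h2 : (c : V) = 0 := hfix _ c.2 h1
      rw [h2, zero_add]
      exact hd
    · intro h
      have hc : (c : V) ∈ (PB Q).orthogonal A := by
        have : (c : V) = ((c : V) + d) - d := by abel
        rw [this]
        exact Submodule.sub_mem _ h hd
      have h2 : (c : V) = 0 := by
        apply hA _ c.2
        intro w hw
        exact (PB_symm Q _ _).trans (hc w hw)
      have h3 : ((y.restrict hinv c : ↥A) : V) = 0 := by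
        show y (c : V) = 0
        rw [h2, map_zero]
      rw [h3, h2]

theorem FPF_map {r : ℕ} {A : Submodule F V} {g : V ≃ₗ[F] V} (hg : g ∈ IsoG Q)
    (h : FPF Q r A) : FPF Q r (A.map (g : V →ₗ[F] V)) := by
  obtain ⟨y, hiso, hy, hinv, hfix⟩ := h
  have hpow : ∀ k : ℕ, ((g : V →ₗ[F] V) ∘ₗ y ∘ₗ (g.symm : V →ₗ[F] V) : End F V) ^ k =
      (g : V →ₗ[F] V) ∘ₗ (y ^ k) ∘ₗ (g.symm : V →ₗ[F] V) := by
    intro k
    induction k with
    | zero =>
      apply LinearMap.ext
      intro v
      simp
    | succ k ih =>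
      rw [pow_succ, ih]
      apply LinearMap.ext
      intro v
      simp [pow_succ]
  refine ⟨(g : V →ₗ[F] V) ∘ₗ y ∘ₗ (g.symm : V →ₗ[F] V), ?_, ?_, ?_, ?_⟩
  · intro v
    show Q (g (y (g.symm v))) = Q v
    rw [hg, hiso]
    have := hg (g.symm v)
    rw [LinearEquiv.apply_symm_apply] at this
    exact this.symm
  · rw [hpow, hy]
    apply LinearMap.ext
    intro v
    simp
  · rintro _ ⟨a, ha, rfl⟩
    refine ⟨y a, hinv a ha, ?_⟩
    show g (y a) = g (y (g.symm (g a)))
    rw [LinearEquiv.symm_apply_apply]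
  · intro v
    show g (y (g.symm v)) = v ↔ _
    have h1 : g (y (g.symm v)) = v ↔ y (g.symm v) = g.symm v := by
      constructor
      · intro h
        have := congrArg g.symm h
        rwa [LinearEquiv.symm_apply_apply] at this
      · intro h
        rw [h, LinearEquiv.apply_symm_apply]
    rw [h1, hfix]
    constructor
    · rintro h _ ⟨a, ha, rfl⟩
      have := h a ha
      rw [← IsoG_polar hg, LinearEquiv.apply_symm_apply] at this
      exact this
    · intro h a ha
      have := h (g a) ⟨a, ha, rfl⟩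
      rw [← IsoG_polar hg, LinearEquiv.apply_symm_apply]
      exact this

theorem FPF_sup {r : ℕ} {A A' : Submodule F V} (hA : NDon (PB Q) A) (hA' : NDon (PB Q) A')
    (horth : ∀ a ∈ A, ∀ a' ∈ A', PB Q a a' = 0) (h : FPF Q r A) (h' : FPF Q r A') :
    FPF Q r (A ⊔ A') := by
  obtain ⟨y, hiso, hy, hinv, hfix⟩ := h
  obtain ⟨y', hiso', hy', hinv', hfix'⟩ := h'
  have hnd : NDon (PB Q) (A ⊔ A') := NDon_supS (PB Q) (PB_symm Q) A A' hA hA' horth
  have hAA' : ∀ a' ∈ A', y a' = a' := by
    intro a' ha'
    rw [hfix]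
    intro a ha
    exact horth a ha a' ha'
  have hA'A : ∀ a ∈ A, y' a = a := by
    intro a ha
    rw [hfix']
    intro a' ha'
    exact (PB_symm Q _ _).trans (horth a ha a' ha')
  have hdec : ∀ v : V, ∃ a ∈ A, ∃ a' ∈ A', ∃ d ∈ (PB Q).orthogonal (A ⊔ A'), v = a + a' + d := by
    intro v
    obtain ⟨c, d, hd, rfl⟩ := exists_decomp Q hnd v
    obtain ⟨a, ha, a', ha', hc⟩ := Submodule.mem_sup.mp c.2
    exact ⟨a, ha, a', ha', d, hd, by rw [hc]⟩
  have hd1 : ∀ d ∈ (PB Q).orthogonal (A ⊔ A'), y d = d := by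
    intro d hd
    rw [hfix]
    intro a ha
    exact hd a (Submodule.mem_sup_left ha)
  have hd2 : ∀ d ∈ (PB Q).orthogonal (A ⊔ A'), y' d = d := by
    intro d hd
    rw [hfix']
    intro a ha
    exact hd a (Submodule.mem_sup_right ha)
  have hyv : ∀ a ∈ A, ∀ a' ∈ A', ∀ d ∈ (PB Q).orthogonal (A ⊔ A'),
      y (a + a' + d) = y a + a' + d := by
    intro a ha a' ha' d hd
    rw [map_add, map_add, hAA' a' ha', hd1 d hd]
  have hyv' : ∀ a ∈ A, ∀ a' ∈ A', ∀ d ∈ (PB Q).orthogonal (A ⊔ A'),
      y' (a + a' + d) = a + y' a' + d := by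
    intro a ha a' ha' d hd
    rw [map_add, map_add, hA'A a ha, hd2 d hd]
  have hcomm : Commute y y' := by
    apply LinearMap.ext
    intro v
    obtain ⟨a, ha, a', ha', d, hd, rfl⟩ := hdec v
    show y (y' (a + a' + d)) = y' (y (a + a' + d))
    rw [hyv' a ha a' ha' d hd, hyv a ha a' ha' d hd, hyv a ha _ (hinv' a' ha') d hd,
      hyv' _ (hinv a ha) a' ha' d hd]
  refine ⟨y * y', ?_, ?_, ?_, ?_⟩
  · intro v
    show Q (y (y' v)) = Q v
    rw [hiso, hiso']
  · rw [hcomm.mul_pow, hy, hy', one_mul]
  · intro c hc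
    obtain ⟨a, ha, a', ha', rfl⟩ := Submodule.mem_sup.mp hc
    show y (y' (a + a')) ∈ A ⊔ A'
    have e1 : y' (a + a') = a + y' a' := by rw [map_add, hA'A a ha]
    have e2 : y (a + y' a') = y a + y' a' := by rw [map_add, hAA' _ (hinv' a' ha')]
    rw [e1, e2]
    exact Submodule.add_mem_sup (hinv a ha) (hinv' a' ha')
  · intro v
    obtain ⟨a, ha, a', ha', d, hd, rfl⟩ := hdec v
    show y (y' (a + a' + d)) = a + a' + d ↔ _
    rw [hyv' a ha a' ha' d hd, hyv a ha _ (hinv' a' ha') d hd]
    constructor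
    · intro h
      have h1 : y a - a = -(y' a' - a') := by
        have h2 : y a + y' a' = a + a' := add_right_cancel h
        have h3 : y a - a + (y' a' - a') = 0 := by
          have h4 := sub_eq_zero.mpr h2
          rw [← h4]
          abel
        exact eq_neg_of_add_eq_zero_left h3
      have h3 : y a - a ∈ A ⊓ A' := by
        refine Submodule.mem_inf.mpr ⟨A.sub_mem (hinv a ha) ha, ?_⟩
        rw [h1]
        exact A'.neg_mem (A'.sub_mem (hinv' a' ha') ha')
      rw [inf_eq_bot_of_orthS (PB Q) (PB_symm Q) A A' hA horth, Submodule.mem_bot] at h3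
      have h4 : y' a' - a' = 0 := by
        rw [h3] at h1
        exact neg_eq_zero.mp h1.symm
      have ha0 : a = 0 := by
        have h5 : y a = a := sub_eq_zero.mp h3
        rw [hfix] at h5
        apply hA a ha
        intro w hw
        exact (PB_symm Q _ _).trans (h5 w hw)
      have ha0' : a' = 0 := by
        have h5 : y' a' = a' := sub_eq_zero.mp h4
        rw [hfix'] at h5
        apply hA' a' ha'
        intro w hw
        exact (PB_symm Q _ _).trans (h5 w hw)
      rw [ha0, ha0', zero_add, zero_add]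
      exact hd
    · intro h
      have hc : a + a' ∈ (PB Q).orthogonal (A ⊔ A') := by
        have : a + a' = (a + a' + d) - d := by abel
        rw [this]
        exact Submodule.sub_mem _ h hd
      have hc0 : a + a' = 0 := by
        apply hnd _ (Submodule.add_mem_sup ha ha')
        intro w hw
        exact (PB_symm Q _ _).trans (hc w hw)
      have h3 : a ∈ A ⊓ A' := by
        refine Submodule.mem_inf.mpr ⟨ha, ?_⟩
        have : a = -a' := eq_neg_of_add_eq_zero_left hc0
        rw [this]
        exact A'.neg_mem ha'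
      rw [inf_eq_bot_of_orthS (PB Q) (PB_symm Q) A A' hA horth, Submodule.mem_bot] at h3
      have h4 : a' = 0 := by rw [h3, zero_add] at hc0; exact hc0
      rw [h3, h4, map_zero, map_zero]

end fpf

end Cfsg.Agent.Lib.H11.OrtOd
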