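import Mathlib
import Cfsg.Agent.Lib.H11.OrtOd6

/-!
# Test elements of odd prime order in orthogonal groups (part 7, helper11)

From one isometry of order `r` (odd prime, `r ≠ p`) we extract an atom (`exists_atom_FPF`), transport
it to every nondegenerate subspace of the same type (`FPF_transport`), and build isometries of
order `r` whose fixed space is the orthogonal complement of any nondegenerate subspace of dimension
`j c` and type `Odd i ∨ Even j` (`FPF_of_type`).
-/

set_option autoImplicit false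
set_option linter.unusedSectionVars false
set_option linter.unusedVariables false

namespace Cfsg.Agent.Lib.H11.OrtOd

open Module Polynomial Cfsg.Agent.Lib.H24.Elus Cfsg.Agent.Lib.H10.OrtNd
open Cfsg.Agent.Lib.H13

section fin

variable {F : Type*} [Field F] [Fintype F] {p q : ℕ} [Fact p.Prime] [CharP F p]
  {V : Type*} [AddCommGroup V] [Module F V] [Module.Finite F V]
  (Q : QuadraticForm F V)

theorem NDon_top' (hQ : (QuadraticMap.polarBilin Q).Nondegenerate) :
    NDon (PB Q) (⊤ : Submodule F V) := by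
  intro u _ h
  exact hQ.1 u (fun v => h v Submodule.mem_top)

theorem cOf_even (i : ℕ) (hi : 0 < i) : ∃ N, 0 < N ∧ cOf i = 2 * N := by
  unfold cOf
  split_ifs with h
  · obtain ⟨N, hN⟩ := h
    exact ⟨N, by omega, by omega⟩
  · exact ⟨i, hi, rfl⟩

/-- a nontrivial isometry of order `r` yields an atom -/
theorem exists_atom_FPF (hF : Fintype.card F = q) {r : ℕ} [Fact r.Prime] (hrp : r ≠ p)
    (hr2 : r ≠ 2) (h2 : (2 : F) ≠ 0) (hQ : (QuadraticMap.polarBilin Q).Nondegenerate)
    (y : End F V) (hiso : ∀ v, Q (y v) = Q v) (hy : y ^ r = 1) (hne : y ≠ 1) :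
    ∃ A₀ : Submodule F V, NDon (PB Q) A₀ ∧ finrank F A₀ = cOf (orderOf (q : ZMod r)) ∧
      FPF Q r A₀ ∧ (PlusOn Q A₀ ↔ ¬ Even (orderOf (q : ZMod r))) := by
  classical
  have hr : r.Prime := Fact.out
  have hr0 : (r : F) ≠ 0 := CycFactor.natCast_ne_zero hr hrp
  have hi0 : 0 < orderOf (q : ZMod r) := CycFactor.orderOf_pos hF hr hrp
  have hisoB := polar_iso_of_iso Q hiso
  have htop := NDon_top' Q hQ
  have hinvT : ∀ v ∈ (⊤ : Submodule F V), y v ∈ (⊤ : Submodule F V) := fun _ _ => trivial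
  obtain ⟨D, hD⟩ : ∃ D, D = (⊤ : Submodule F V) ⊓ LinearMap.ker (aeval y (cyclotomic r F)) :=
    ⟨_, rfl⟩
  have hDnd : NDon (PB Q) D := by
    rw [hD]; exact NDon_cyc_partS (PB_symm Q) hisoB hr0 hy ⊤ hinvT htop
  have hDinv : ∀ v ∈ D, y v ∈ D := by
    rw [hD]; exact inf_ker_invariant ⊤ hinvT _
  have hDc : D ≤ LinearMap.ker (aeval y (cyclotomic r F)) := by
    rw [hD]; exact inf_le_right
  have hcd : cOf (orderOf (q : ZMod r)) ∣ finrank F D := by
    rw [hD]; exact cdvd_cycS hF hrp hr2 (PB_symm Q) hisoB hy ⊤ hinvT htop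
  have hDne : D ≠ ⊥ := by
    intro hbot
    apply hne
    apply LinearMap.ext
    intro v
    have h1 := split_fix hr0 hy (⊤ : Submodule F V) hinvT
    rw [← hD, hbot, sup_bot_eq] at h1
    have hv : v ∈ (⊤ : Submodule F V) ⊓ LinearMap.ker (aeval y (X - 1 : F[X])) :=
      h1 Submodule.mem_top
    exact (mem_fix_iff v).mp (Submodule.mem_inf.mp hv).2
  have hDpos : 0 < finrank F D := by
    rw [Nat.pos_iff_ne_zero]
    intro h
    exact hDne (Submodule.finrank_eq_zero.mp h)
  have hle : 1 * cOf (orderOf (q : ZMod r)) ≤ finrank F D := by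
    rw [one_mul]
    exact Nat.le_of_dvd hDpos hcd
  obtain ⟨A, hAD, hAinv, hAnd, hAdim⟩ := exists_sub_cycS hF hrp hr2 (PB_symm Q) hisoB hy D hDinv
    hDnd hDc 1 hle
  rw [one_mul] at hAdim
  refine ⟨A, hAnd, hAdim, ?_, ?_⟩
  · apply FPF_of_invariant Q hAnd y hiso hy hAinv
    intro a ha hfix
    have h7 : a ∈ LinearMap.ker (aeval y (X - 1 : F[X])) ⊓
        LinearMap.ker (aeval y (cyclotomic r F)) :=
      Submodule.mem_inf.mpr ⟨(mem_fix_iff a).mpr hfix, hDc (hAD ha)⟩
    rw [fix_inf_cyc hr0] at h7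
    exact h7
  · by_cases hev : Even (orderOf (q : ZMod r))
    · have hc : cOf (orderOf (q : ZMod r)) = orderOf (q : ZMod r) := by
        unfold cOf; rw [if_pos hev]
      rw [hc] at hAdim
      have := atom_not_plus_of_even Q hF hrp hr2 hiso hy hev A hAinv hAnd (hAD.trans hDc) hAdim
      exact ⟨fun h => absurd h this, fun h => absurd hev h⟩
    · have hc : cOf (orderOf (q : ZMod r)) = 2 * orderOf (q : ZMod r) := by
        unfold cOf; rw [if_neg hev]
      rw [hc] at hAdim
      have := atom_plus_of_odd Q hF hrp hr2 h2 hiso hy hev A hAinv (hAD.trans hDc) hAdim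
      exact ⟨fun _ => hev, fun _ => this⟩

/-- transport of `FPF` between nondegenerate subspaces of the same even dimension and type -/
theorem FPF_transport (h2 : (2 : F) ≠ 0) (hQ : (QuadraticMap.polarBilin Q).Nondegenerate)
    {r : ℕ} {A₀ A : Submodule F V} (hA₀ : NDon (PB Q) A₀) (hA : NDon (PB Q) A) {N : ℕ}
    (hN : 0 < N) (hd₀ : finrank F A₀ = 2 * N) (hd : finrank F A = 2 * N)
    (htype : PlusOn Q A₀ ↔ PlusOn Q A) (h : FPF Q r A₀) : FPF Q r A := by
  have hD : DSq Q A₀ ↔ DSq Q A := by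
    rw [plus_iff_DSq Q h2 hA₀ hd₀, plus_iff_DSq Q h2 hA hd] at htype
    have key : ∀ b c d : Prop, ((b ↔ c) ↔ (b ↔ d)) → (c ↔ d) := by
      intro b c d h1
      by_cases hb : b <;> by_cases hc : c <;> by_cases hd : d <;> simp_all
    exact key _ _ _ htype
  obtain ⟨e, he⟩ := isometric_of_DSq Q h2 hA₀ hA (by omega) (by omega) hD
  obtain ⟨g, hg, hmap, -⟩ := exists_IsoG_of_iso Q hQ e he
  rw [← hmap]
  exact FPF_map Q hg h

/-- every nondegenerate subspace of dimension `j c` and the type of an orthogonal sum of `j` atoms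
carries an isometry of order `r` without fixed vectors -/
theorem FPF_of_type (h2 : (2 : F) ≠ 0) (hQ : (QuadraticMap.polarBilin Q).Nondegenerate)
    {r : ℕ} {N : ℕ} (hN : 0 < N) (I : Prop)
    (hatom : ∃ A₀ : Submodule F V, NDon (PB Q) A₀ ∧ finrank F A₀ = 2 * N ∧ FPF Q r A₀ ∧
      (PlusOn Q A₀ ↔ I)) :
    ∀ (j : ℕ) (D : Submodule F V), NDon (PB Q) D → finrank F D = j * (2 * N) →
      (PlusOn Q D ↔ (I ∨ Even j)) → FPF Q r D := by
  obtain ⟨A₀, hA₀, hd₀, hF₀, ht₀⟩ := hatom
  intro j
  induction j with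
  | zero =>
    intro D hD hdim _
    rw [zero_mul] at hdim
    rw [Submodule.finrank_eq_zero.mp hdim]
    exact FPF_bot Q r
  | succ j ih =>
    intro D hD hdim htype
    rcases Nat.eq_zero_or_pos j with rfl | hj
    · rw [zero_add, one_mul] at hdim
      apply FPF_transport Q h2 hQ hA₀ hD hN hd₀ hdim _ hF₀
      rw [ht₀, htype]
      have : ¬ Even (0 + 1) := by decide
      tauto
    · obtain ⟨A, hAD, hA, hAdim, hAtype⟩ := exists_nd_sub_type Q h2 hD N hN
        (by rw [hdim]; nlinarith) I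
      obtain ⟨A', hA'def⟩ : ∃ A', A' = D ⊓ (PB Q).orthogonal A := ⟨_, rfl⟩
      have hA' : NDon (PB Q) A' := by
        rw [hA'def]; exact NDon_perp_inS (PB Q) (PB_symm Q) D A hD hA hAD
      have hA'dim : finrank F A' = j * (2 * N) := by
        have := finrank_perp_inS (PB Q) (PB_symm Q) D A hA hAD
        rw [← hA'def, hAdim, hdim] at this
        have h3 : (j + 1) * (2 * N) = j * (2 * N) + 2 * N := by ring
        omega
      have hsup : A ⊔ A' = D := by
        rw [hA'def]; exact sup_perp_inS (PB Q) (PB_symm Q) D A hA hAD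
      have horth : ∀ a ∈ A, ∀ a' ∈ A', PB Q a a' = 0 := by
        intro a ha a' ha'
        rw [hA'def] at ha'
        exact (Submodule.mem_inf.mp ha').2 a ha
      have hps := plus_sup_iff Q h2 hA hA' horth hAdim
        (show finrank F A' = 2 * (j * N) by rw [hA'dim]; ring)
      rw [hsup] at hps
      have hA'type : PlusOn Q A' ↔ (I ∨ Even j) := by
        have hpar : Even (j + 1) ↔ ¬ Even j := by
          rw [Nat.even_add_one]
        rw [hpar] at htype
        by_cases h1 : I <;> by_cases h3 : Even j <;> by_cases h4 : PlusOn Q A <;>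
          by_cases h5 : PlusOn Q A' <;> by_cases h6 : PlusOn Q D <;> simp_all
      rw [← hsup]
      apply FPF_sup Q hA hA' horth
      · exact FPF_transport Q h2 hQ hA₀ hA hN hd₀ hAdim (ht₀.trans hAtype.symm) hF₀
      · exact ih A' hA' hA'dim hA'type

end fin

end Cfsg.Agent.Lib.H11.OrtOd
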