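import Mathlib
import Cfsg.Agent.Lib.H11.OrtOd7

/-!
# Test elements and types of cyclotomic parts (part 8, helper11)

* `cyc_ne_bot`, `c_le_finrank_of_ne_one`: a nontrivial isometry of order `r` moves a subspace of
  dimension at least `c`;
* `exists_test`: isometries of order `r` with fixed space of dimension `n - j c`;
* `type_cyc`: the type of a nondegenerate invariant subspace without fixed vectors.
-/

set_option autoImplicit false
set_option linter.unusedSectionVars false
set_option linter.unusedVariables false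

namespace Cfsg.Agent.Lib.H11.OrtOd

open Module Polynomial Cfsg.Agent.Lib.H24.Elus Cfsg.Agent.Lib.H10.OrtNd
open Cfsg.Agent.Lib.H13

section fin

variable {F : Type*} [Field F] [Fintype F] {p q : ℕ} [Fact p.Prime] [CharP F p]
  {V : Type*} [AddCommGroup V] [Module F V] [Module.Finite F V]
  (Q : QuadraticForm F V)

/-- the fixed space as a kernel -/
theorem fix_eq_top_inf (y : End F V) :
    (⊤ : Submodule F V) ⊓ LinearMap.ker (aeval y (X - 1 : F[X])) =
      LinearMap.ker (aeval y (X - 1 : F[X])) := top_inf_eq _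

theorem eq_one_of_cyc_bot {r : ℕ} [Fact r.Prime] (hr0 : (r : F) ≠ 0) (y : End F V)
    (hy : y ^ r = 1) (hbot : LinearMap.ker (aeval y (cyclotomic r F)) = ⊥) : y = 1 := by
  have hinvT : ∀ v ∈ (⊤ : Submodule F V), y v ∈ (⊤ : Submodule F V) := fun _ _ => trivial
  apply LinearMap.ext
  intro v
  have h1 := split_fix hr0 hy (⊤ : Submodule F V) hinvT
  rw [hbot, inf_bot_eq, sup_bot_eq] at h1
  have hv : v ∈ (⊤ : Submodule F V) ⊓ LinearMap.ker (aeval y (X - 1 : F[X])) :=
    h1 Submodule.mem_top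
  exact (mem_fix_iff v).mp (Submodule.mem_inf.mp hv).2

/-- a nontrivial isometry of order `r` moves a subspace of dimension at least `c` -/
theorem c_le_finrank_of_ne_one (hF : Fintype.card F = q) {r : ℕ} [Fact r.Prime] (hrp : r ≠ p)
    (hr2 : r ≠ 2) (hQ : (QuadraticMap.polarBilin Q).Nondegenerate)
    (y : End F V) (hiso : ∀ v, Q (y v) = Q v) (hy : y ^ r = 1) (hne : y ≠ 1) :
    cOf (orderOf (q : ZMod r)) ≤ finrank F ↥(LinearMap.ker (aeval y (cyclotomic r F))) := by
  classical
  have hr : r.Prime := Fact.out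
  have hr0 : (r : F) ≠ 0 := CycFactor.natCast_ne_zero hr hrp
  have hisoB := polar_iso_of_iso Q hiso
  have htop := NDon_top' Q hQ
  have hinvT : ∀ v ∈ (⊤ : Submodule F V), y v ∈ (⊤ : Submodule F V) := fun _ _ => trivial
  have hcd := cdvd_cycS hF hrp hr2 (PB_symm Q) hisoB hy ⊤ hinvT htop
  rw [top_inf_eq] at hcd
  apply Nat.le_of_dvd _ hcd
  rw [Nat.pos_iff_ne_zero]
  intro h
  exact hne (eq_one_of_cyc_bot hr0 y hy (Submodule.finrank_eq_zero.mp h))

/-- an isometry of order `r` on a space of dimension less than `c` is trivial -/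
theorem eq_one_of_finrank_lt (hF : Fintype.card F = q) {r : ℕ} [Fact r.Prime] (hrp : r ≠ p)
    (hr2 : r ≠ 2) (hQ : (QuadraticMap.polarBilin Q).Nondegenerate)
    (y : End F V) (hiso : ∀ v, Q (y v) = Q v) (hy : y ^ r = 1)
    (hlt : finrank F V < cOf (orderOf (q : ZMod r))) : y = 1 := by
  by_contra hne
  have h1 := c_le_finrank_of_ne_one Q hF hrp hr2 hQ y hiso hy hne
  have h2 := Submodule.finrank_le (LinearMap.ker (aeval y (cyclotomic r F)))
  omega

theorem fix_eq_orth_of_FPF {y : End F V} {D : Submodule F V}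
    (hfix : ∀ v, y v = v ↔ v ∈ (PB Q).orthogonal D) :
    LinearMap.ker (aeval y (X - 1 : F[X])) = (PB Q).orthogonal D := by
  ext v
  rw [mem_fix_iff, hfix]

theorem finrank_orth (hQ : (QuadraticMap.polarBilin Q).Nondegenerate) {D : Submodule F V}
    (hD : NDon (PB Q) D) : finrank F D + finrank F ↥((PB Q).orthogonal D) = finrank F V := by
  have := finrank_perp_inS (PB Q) (PB_symm Q) ⊤ D hD le_top
  rw [top_inf_eq, finrank_top] at this
  exact this

/-- isometries of order `r` with fixed space of dimension `n - j c` -/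
theorem exists_test (hF : Fintype.card F = q) {r : ℕ} [Fact r.Prime] (hrp : r ≠ p)
    (hr2 : r ≠ 2) (h2 : (2 : F) ≠ 0) (hQ : (QuadraticMap.polarBilin Q).Nondegenerate)
    (hex : ∃ y : End F V, (∀ v, Q (y v) = Q v) ∧ y ^ r = 1 ∧ y ≠ 1)
    (j : ℕ) (hj : 0 < j) (hjn : j * cOf (orderOf (q : ZMod r)) ≤ finrank F V)
    (hzero : j * cOf (orderOf (q : ZMod r)) = finrank F V →
      (PlusOn Q (⊤ : Submodule F V) ↔ (¬ Even (orderOf (q : ZMod r)) ∨ Even j))) :
    ∃ x : End F V, (∀ v, Q (x v) = Q v) ∧ x ^ r = 1 ∧ x ≠ 1 ∧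
      finrank F ↥(LinearMap.ker (aeval x (X - 1 : F[X]))) + j * cOf (orderOf (q : ZMod r)) =
        finrank F V := by
  classical
  have hr : r.Prime := Fact.out
  have hi0 : 0 < orderOf (q : ZMod r) := CycFactor.orderOf_pos hF hr hrp
  obtain ⟨y, hiso, hy, hne⟩ := hex
  obtain ⟨A₀, hA₀, hd₀, hF₀, ht₀⟩ := exists_atom_FPF Q hF hrp hr2 h2 hQ y hiso hy hne
  obtain ⟨N, hN, hcN⟩ := cOf_even (orderOf (q : ZMod r)) hi0
  rw [hcN] at hd₀ hjn hzero ⊢
  have htop := NDon_top' Q hQ
  obtain ⟨D, hD, hDdim, hDtype⟩ : ∃ D : Submodule F V, NDon (PB Q) D ∧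
      finrank F D = j * (2 * N) ∧ (PlusOn Q D ↔ (¬ Even (orderOf (q : ZMod r)) ∨ Even j)) := by
    rcases Nat.lt_or_ge (j * (2 * N)) (finrank F V) with hlt | hge
    · obtain ⟨D, -, hD, hDdim, hDt⟩ := exists_nd_sub_type Q h2 htop (j * N)
        (Nat.mul_pos hj hN) (by rw [finrank_top]; nlinarith)
        (¬ Even (orderOf (q : ZMod r)) ∨ Even j)
      exact ⟨D, hD, by rw [hDdim]; ring, hDt⟩
    · have heq : j * (2 * N) = finrank F V := le_antisymm hjn hge
      exact ⟨⊤, htop, by rw [finrank_top]; exact heq.symm, hzero heq⟩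
  obtain ⟨x, hxiso, hx, hxinv, hxfix⟩ := FPF_of_type Q h2 hQ hN (¬ Even (orderOf (q : ZMod r)))
    ⟨A₀, hA₀, hd₀, hF₀, ht₀⟩ j D hD hDdim hDtype
  refine ⟨x, hxiso, hx, ?_, ?_⟩
  · rintro rfl
    have hDpos : 0 < finrank F D := by rw [hDdim]; exact Nat.mul_pos hj (by omega)
    have hbot : D = ⊥ := by
      rw [eq_bot_iff]
      intro u hu
      rw [Submodule.mem_bot]
      apply hD u hu
      intro v hv
      have h1 : u ∈ (PB Q).orthogonal D := (hxfix u).mp rfl
      exact (PB_symm Q _ _).trans (h1 v hv)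
    rw [hbot, finrank_bot] at hDpos
    exact lt_irrefl 0 hDpos
  · rw [fix_eq_orth_of_FPF Q hxfix, ← hDdim, add_comm]
    exact finrank_orth Q hQ hD

theorem type_step (E J a a' u : Prop) (h1 : a ↔ ¬ E) (h2 : a' ↔ (¬ E ∨ J))
    (h3 : u ↔ (a ↔ a')) : u ↔ (¬ E ∨ ¬ J) := by
  by_cases hE : E <;> by_cases hJ : J <;> simp_all

/-- the type of a nondegenerate invariant subspace without fixed vectors -/
theorem type_cyc (hF : Fintype.card F = q) {r : ℕ} [Fact r.Prime] (hrp : r ≠ p)
    (hr2 : r ≠ 2) (h2 : (2 : F) ≠ 0) (y : End F V) (hiso : ∀ v, Q (y v) = Q v) (hy : y ^ r = 1) :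
    ∀ (j : ℕ) (U : Submodule F V), (∀ v ∈ U, y v ∈ U) → NDon (PB Q) U →
      U ≤ LinearMap.ker (aeval y (cyclotomic r F)) →
      finrank F U = j * cOf (orderOf (q : ZMod r)) →
      (PlusOn Q U ↔ (¬ Even (orderOf (q : ZMod r)) ∨ Even j)) := by
  classical
  have hr : r.Prime := Fact.out
  have hr0 : (r : F) ≠ 0 := CycFactor.natCast_ne_zero hr hrp
  have hi0 : 0 < orderOf (q : ZMod r) := CycFactor.orderOf_pos hF hr hrp
  have hisoB := polar_iso_of_iso Q hiso
  obtain ⟨N, hN, hcN⟩ := cOf_even (orderOf (q : ZMod r)) hi0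
  intro j
  induction j with
  | zero =>
    intro U hUinv hU hUc hdim
    rw [zero_mul] at hdim
    have : PlusOn Q U := ⟨⊥, bot_le, fun w hw => by
      rw [(Submodule.mem_bot F).mp hw]; exact map_zero Q, by rw [finrank_bot, hdim, mul_zero]⟩
    exact ⟨fun _ => Or.inr (by decide), fun _ => this⟩
  | succ j ih =>
    intro U hUinv hU hUc hdim
    obtain ⟨A, hAU, hAinv, hA, hAdim⟩ := exists_sub_cycS hF hrp hr2 (PB_symm Q) hisoB hy U hUinv
      hU hUc 1 (by rw [hdim]; nlinarith)
    rw [one_mul] at hAdim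
    have hAtype : PlusOn Q A ↔ ¬ Even (orderOf (q : ZMod r)) := by
      by_cases hev : Even (orderOf (q : ZMod r))
      · have hc : cOf (orderOf (q : ZMod r)) = orderOf (q : ZMod r) := by
          unfold cOf; rw [if_pos hev]
        rw [hc] at hAdim
        have := atom_not_plus_of_even Q hF hrp hr2 hiso hy hev A hAinv hA (hAU.trans hUc) hAdim
        exact ⟨fun h => absurd h this, fun h => absurd hev h⟩
      · have hc : cOf (orderOf (q : ZMod r)) = 2 * orderOf (q : ZMod r) := by
          unfold cOf; rw [if_neg hev]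
        rw [hc] at hAdim
        have := atom_plus_of_odd Q hF hrp hr2 h2 hiso hy hev A hAinv (hAU.trans hUc) hAdim
        exact ⟨fun _ => hev, fun _ => this⟩
    obtain ⟨A', hA'def⟩ : ∃ A', A' = U ⊓ (PB Q).orthogonal A := ⟨_, rfl⟩
    have hA' : NDon (PB Q) A' := by
      rw [hA'def]; exact NDon_perp_inS (PB Q) (PB_symm Q) U A hU hA hAU
    have hA'dim : finrank F A' = j * cOf (orderOf (q : ZMod r)) := by
      have := finrank_perp_inS (PB Q) (PB_symm Q) U A hA hAU
      rw [← hA'def, hAdim, hdim] at this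
      have h3 : (j + 1) * cOf (orderOf (q : ZMod r)) =
        j * cOf (orderOf (q : ZMod r)) + cOf (orderOf (q : ZMod r)) := by ring
      omega
    have hsup : A ⊔ A' = U := by
      rw [hA'def]; exact sup_perp_inS (PB Q) (PB_symm Q) U A hA hAU
    have horth : ∀ a ∈ A, ∀ a' ∈ A', PB Q a a' = 0 := by
      intro a ha a' ha'
      rw [hA'def] at ha'
      exact (Submodule.mem_inf.mp ha').2 a ha
    have hA'inv : ∀ v ∈ A', y v ∈ A' := by
      intro v hv
      rw [hA'def] at hv ⊢
      refine Submodule.mem_inf.mpr ⟨hUinv v (Submodule.mem_inf.mp hv).1, ?_⟩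
      intro a ha
      -- a = y a₁ with a₁ ∈ A
      have ha1 : (y ^ (r - 1)) a ∈ A := by
        have : ∀ k : ℕ, (y ^ k) a ∈ A := by
          intro k
          induction k with
          | zero => exact ha
          | succ k ih => rw [pow_succ', Module.End.mul_apply]; exact hAinv _ ih
        exact this _
      have h5 : y ((y ^ (r - 1)) a) = a := pow_pred_mul hr.pos hy a
      rw [← h5, hisoB]
      exact (Submodule.mem_inf.mp hv).2 _ ha1
    have hps := plus_sup_iff Q h2 hA hA' horth (show finrank F A = 2 * N by rw [hAdim, hcN])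
      (show finrank F A' = 2 * (j * N) by rw [hA'dim, hcN]; ring)
    rw [hsup] at hps
    have ihA' := ih A' hA'inv hA' (by rw [hA'def]; exact inf_le_left.trans hUc) hA'dim
    have hpar : Even (j + 1) ↔ ¬ Even j := by
      rw [Nat.even_add_one]
    rw [hpar]
    exact type_step _ _ _ _ _ hAtype ihA' hps

end fin

end Cfsg.Agent.Lib.H11.OrtOd
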