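import Mathlib
import Cfsg.Agent.Lib.H11.OrtOd8

/-!
# The fixed point congruence for nondegenerate subspaces (part 9, helper11)

* transfer of `finrank`, `NDon`, `DSq` between a subspace `C` (with the restricted form) and `V`;
* `no_fixed_of_small`: if `r` divides the number of nondegenerate `m`-subspaces of class `P`,
  `m < c` and an isometry `x` of order `r` has `dim Fix x < c`, then `x` fixes no such subspace.
-/

set_option autoImplicit false
set_option linter.unusedSectionVars false
set_option linter.unusedVariables false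

namespace Cfsg.Agent.Lib.H11.OrtOd

open Module Polynomial Cfsg.Agent.Lib.H24.Elus Cfsg.Agent.Lib.H10.OrtNd
open Cfsg.Agent.Lib.H13

section sub

variable {F : Type*} [Field F] {V : Type*} [AddCommGroup V] [Module F V] [FiniteDimensional F V]
variable (Q : QuadraticForm F V) (C : Submodule F V)

theorem PB_comp_subtype (x y : ↥C) :
    PB (Q.comp C.subtype) x y = PB Q (x : V) (y : V) := rfl

theorem NDon_map_subtype (W' : Submodule F ↥C) :
    NDon (PB Q) (W'.map C.subtype) ↔ NDon (PB (Q.comp C.subtype)) W' := by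
  constructor
  · intro h u hu h0
    apply Subtype.ext
    apply h (u : V) ⟨u, hu, rfl⟩
    rintro _ ⟨v, hv, rfl⟩
    exact h0 v hv
  · rintro h _ ⟨u, hu, rfl⟩ h0
    have : u = 0 := by
      apply h u hu
      intro v hv
      exact h0 (v : V) ⟨v, hv, rfl⟩
    rw [this]
    rfl

theorem DSq_map_subtype (W' : Submodule F ↥C) :
    DSq Q (W'.map C.subtype) ↔ DSq (Q.comp C.subtype) W' := by
  classical
  obtain ⟨v', hv', hspan'⟩ := exists_fam W'
  have hli : LinearIndependent F (fun i => ((v' i : ↥C) : V)) :=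
    hv'.map' C.subtype (Submodule.ker_subtype C)
  have hspan : Submodule.span F (Set.range (fun i => ((v' i : ↥C) : V))) =
      W'.map C.subtype := by
    have h1 : Set.range (fun i => ((v' i : ↥C) : V)) = C.subtype '' Set.range v' := by
      rw [← Set.range_comp]; rfl
    rw [h1, Submodule.span_image, hspan']
  have hgram : gram Q (fun i => ((v' i : ↥C) : V)) = gram (Q.comp C.subtype) v' := rfl
  rw [DSq_iff Q hli hspan, DSq_iff (Q.comp C.subtype) hv' hspan', hgram]

theorem map_comap_of_le {W : Submodule F V} (h : W ≤ C) :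
    (W.comap C.subtype).map C.subtype = W := by
  rw [Submodule.map_comap_subtype]
  exact inf_eq_right.mpr h

theorem comap_map_subtype (W' : Submodule F ↥C) :
    (W'.map C.subtype).comap C.subtype = W' :=
  Submodule.comap_map_eq_of_injective C.injective_subtype W'

/-- the members of `SetS Q m P` inside `C` correspond to `SetS` of the restricted form -/
noncomputable def subEquiv (m : ℕ) (P : Prop) :
    {W : Submodule F V // W ∈ SetS Q m P ∧ W ≤ C} ≃ ↥(SetS (Q.comp C.subtype) m P) where
  toFun W := ⟨W.1.comap C.subtype, by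
    obtain ⟨h1, h2, h3⟩ := W.2.1
    refine ⟨?_, ?_, ?_⟩
    · rw [← Submodule.finrank_map_subtype_eq, map_comap_of_le C W.2.2]; exact h1
    · rw [← NDon_map_subtype, map_comap_of_le C W.2.2]; exact h2
    · rw [← DSq_map_subtype, map_comap_of_le C W.2.2]; exact h3⟩
  invFun W' := ⟨W'.1.map C.subtype, ⟨by
    obtain ⟨h1, h2, h3⟩ := W'.2
    refine ⟨?_, ?_, ?_⟩
    · rw [Submodule.finrank_map_subtype_eq]; exact h1
    · rw [NDon_map_subtype]; exact h2
    · rw [DSq_map_subtype]; exact h3, Submodule.map_subtype_le C W'.1⟩⟩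
  left_inv W := by
    apply Subtype.ext
    exact map_comap_of_le C W.2.2
  right_inv W' := by
    apply Subtype.ext
    exact comap_map_subtype C W'.1

end sub

section fin

variable {F : Type*} [Field F] [Fintype F] {p q : ℕ} [Fact p.Prime] [CharP F p]
  {V : Type*} [AddCommGroup V] [Module F V] [Module.Finite F V]
  (Q : QuadraticForm F V)

/-- an endomorphism of finite order as a linear equivalence -/
noncomputable def equivOfPow (x : End F V) {r : ℕ} (hr : 0 < r) (hx : x ^ r = 1) : V ≃ₗ[F] V :=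
  LinearEquiv.ofLinear x (x ^ (r - 1))
    (by
      show x * x ^ (r - 1) = 1
      rw [← pow_succ', Nat.sub_add_cancel hr, hx])
    (by
      show x ^ (r - 1) * x = 1
      rw [← pow_succ, Nat.sub_add_cancel hr, hx])

theorem equivOfPow_apply (x : End F V) {r : ℕ} (hr : 0 < r) (hx : x ^ r = 1) (v : V) :
    equivOfPow x hr hx v = x v := rfl

theorem equivOfPow_pow (x : End F V) {r : ℕ} (hr : 0 < r) (hx : x ^ r = 1) (k : ℕ) (v : V) :
    ((equivOfPow x hr hx) ^ k) v = (x ^ k) v := by
  induction k generalizing v with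
  | zero => rfl
  | succ k ih =>
    rw [pow_succ, LinearEquiv.mul_apply, ih, equivOfPow_apply, pow_succ, Module.End.mul_apply]

/-- no element of order `r` in the isometry group of a space of dimension less than `c` -/
theorem not_dvd_card_IsoG (hF : Fintype.card F = q) {r : ℕ} [Fact r.Prime] (hrp : r ≠ p)
    (hr2 : r ≠ 2) (hQ : (QuadraticMap.polarBilin Q).Nondegenerate)
    (hlt : finrank F V < cOf (orderOf (q : ZMod r))) : ¬ r ∣ Nat.card ↥(IsoG Q) := by
  intro hdvd
  have hr : r.Prime := Fact.out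
  have : Finite V := Module.finite_of_finite F
  have : Finite (V ≃ₗ[F] V) := Finite.of_injective (fun g => (g : V → V))
    (fun g h hgh => LinearEquiv.ext (congrFun hgh))
  obtain ⟨g, hg⟩ := exists_prime_orderOf_dvd_card' r hdvd
  have hgr : g ^ r = 1 := by rw [← hg]; exact pow_orderOf_eq_one g
  have h1 : ((g : V ≃ₗ[F] V) : End F V) ^ r = 1 := by
    apply LinearMap.ext
    intro v
    have h2 : ∀ k : ℕ, (((g : V ≃ₗ[F] V) : End F V) ^ k) v = ((g ^ k : ↥(IsoG Q)) : V ≃ₗ[F] V) v := by
      intro k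
      induction k generalizing v with
      | zero => rfl
      | succ k ih =>
        rw [pow_succ, Module.End.mul_apply, ih, pow_succ]
        rfl
    rw [h2, hgr]
    rfl
  have h3 := eq_one_of_finrank_lt Q hF hrp hr2 hQ ((g : V ≃ₗ[F] V) : End F V) (fun v => g.2 v) h1
    hlt
  have h4 : g = 1 := by
    apply Subtype.ext
    apply LinearEquiv.ext
    intro v
    have := LinearMap.congr_fun h3 v
    exact this
  rw [h4, orderOf_one] at hg
  exact hr.one_lt.ne hg

theorem no_fixed_of_small (hF : Fintype.card F = q) {r : ℕ} [Fact r.Prime] (hrp : r ≠ p)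
    (hr2 : r ≠ 2) (h2 : (2 : F) ≠ 0) (hQ : (QuadraticMap.polarBilin Q).Nondegenerate)
    (x : End F V) (hiso : ∀ v, Q (x v) = Q v) (hx : x ^ r = 1) (m : ℕ) (hm0 : 0 < m)
    (hmc : m < cOf (orderOf (q : ZMod r)))
    (hCc : finrank F ↥(LinearMap.ker (aeval x (X - 1 : F[X]))) < cOf (orderOf (q : ZMod r)))
    (P : Prop) (hdvd : r ∣ Nat.card ↥(SetS Q m P)) :
    ¬ ∃ W ∈ SetS Q m P, ∀ v ∈ W, x v ∈ W := by
  classical
  rintro ⟨W₁, hW₁, hW₁inv⟩
  have hr : r.Prime := Fact.out
  have hr0 : (r : F) ≠ 0 := CycFactor.natCast_ne_zero hr hrp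
  have hisoB := polar_iso_of_iso Q hiso
  have htop := NDon_top' Q hQ
  obtain ⟨C, hCdef⟩ : ∃ C, C = LinearMap.ker (aeval x (X - 1 : F[X])) := ⟨_, rfl⟩
  rw [← hCdef] at hCc
  have hCnd : NDon (PB Q) C := by
    have := NDon_fix_partS hisoB hr0 hx ⊤ (fun _ _ => trivial) htop
    rw [top_inf_eq, ← hCdef] at this
    exact this
  -- invariant members of `SetS` lie in `C`
  have hinC : ∀ W ∈ SetS Q m P, (∀ v ∈ W, x v ∈ W) → W ≤ C := by
    intro W hW hinv
    have hmod := finrank_fix_modS hF hrp hr2 (PB_symm Q) hisoB hx W hinv hW.2.1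
    rw [hW.1, Nat.mod_eq_of_lt hmc, ← hCdef] at hmod
    have hle : finrank F ↥(W ⊓ C) ≤ m := by
      rw [← hW.1]; exact Submodule.finrank_mono inf_le_left
    rw [Nat.mod_eq_of_lt (by omega)] at hmod
    have : W ⊓ C = W := by
      apply Submodule.eq_of_le_of_finrank_eq inf_le_left
      rw [← hmod, hW.1]
    rw [← this]
    exact inf_le_right
  -- the permutation induced by `x`
  have : Finite V := Module.finite_of_finite F
  have : Finite (V ≃ₗ[F] V) := Finite.of_injective (fun g => (g : V → V))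
    (fun g h hgh => LinearEquiv.ext (congrFun hgh))
  have : Finite (Submodule F V) := Finite.of_injective (fun W => (W : Set V))
    SetLike.coe_injective
  haveI : Fintype ↥(SetS Q m P) := Fintype.ofFinite _
  obtain ⟨g, hgdef⟩ : ∃ g : ↥(IsoG Q), g = ⟨equivOfPow x hr.pos hx, fun v => hiso v⟩ := ⟨_, rfl⟩
  have hgr : g ^ r = 1 := by
    apply Subtype.ext
    apply LinearEquiv.ext
    intro v
    rw [hgdef]
    show ((equivOfPow x hr.pos hx) ^ r) v = v
    rw [equivOfPow_pow, hx]
    rfl
  obtain ⟨f, hf⟩ : ∃ f : Function.End ↥(SetS Q m P),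
      f = MulAction.toEndHom (M := ↥(IsoG Q)) g := ⟨_, rfl⟩
  have hfr : f ^ r ^ 1 = 1 := by
    rw [pow_one, hf, ← map_pow, hgr, map_one]
  have hmodeq := Equiv.Perm.card_fixedPoints_modEq hfr
  rw [Fintype.card_eq_nat_card, Fintype.card_eq_nat_card] at hmodeq
  have hdvd' : r ∣ Nat.card ↥(Function.fixedPoints f) :=
    (Nat.modEq_zero_iff_dvd.mp (hmodeq.symm.trans (Nat.modEq_zero_iff_dvd.mpr hdvd)))
  have hfapp : ∀ W' : ↥(SetS Q m P), (f W').1 = W'.1.map (x : V →ₗ[F] V) := by
    intro W'
    rw [hf, hgdef]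
    rfl
  have hcard : Nat.card ↥(Function.fixedPoints f) =
      Nat.card {W : Submodule F V // W ∈ SetS Q m P ∧ W ≤ C} := by
    apply Nat.card_congr
    refine
      { toFun := fun W' => ⟨W'.1.1, W'.1.2, ?_⟩
        invFun := fun W' => ⟨⟨W'.1, W'.2.1⟩, ?_⟩
        left_inv := fun W' => rfl
        right_inv := fun W' => rfl }
    · have hfixed : (f W'.1).1 = W'.1.1 := congrArg Subtype.val W'.2
      rw [hfapp] at hfixed
      apply hinC _ W'.1.2
      intro v hv
      rw [← hfixed]
      exact Submodule.mem_map_of_mem hv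
    · show f ⟨W'.1, W'.2.1⟩ = ⟨W'.1, W'.2.1⟩
      apply Subtype.ext
      rw [hfapp]
      apply le_antisymm
      · rintro _ ⟨v, hv, rfl⟩
        have : x v = v := by
          have := W'.2.2 hv
          rw [hCdef] at this
          exact (mem_fix_iff v).mp this
        rw [this]
        exact hv
      · intro v hv
        refine ⟨v, hv, ?_⟩
        have := W'.2.2 hv
        rw [hCdef] at this
        exact (mem_fix_iff v).mp this
  rw [hcard, Nat.card_congr (subEquiv Q C m P)] at hdvd'
  have hQC : (QuadraticMap.polarBilin (Q.comp C.subtype)).Nondegenerate :=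
    nondeg_comp_subtype Q hCnd
  have hne : (SetS (Q.comp C.subtype) m P).Nonempty :=
    ⟨_, (subEquiv Q C m P ⟨W₁, hW₁, hinC W₁ hW₁ hW₁inv⟩).2⟩
  have h5 := card_SetS_dvd (Q.comp C.subtype) h2 hQC hm0 hne
  exact not_dvd_card_IsoG (Q.comp C.subtype) hF hrp hr2 hQC hCc (hdvd'.trans h5)

end fin

end Cfsg.Agent.Lib.H11.OrtOd
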