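import Mathlib
import Cfsg.Agent.Lib.H11.OrtOd9

/-!
# Odd prime order elements and nondegenerate odd-dimensional subspaces (part 10, helper11)

* `exists_invariant`: an isometry `y` of order `r` with `dim Fix y > m mod c` fixes a nondegenerate
  `m`-subspace of each discriminant class;
* `odd_main_abs`: the abstract criterion for `r` odd, `r ≠ p`.
-/

set_option autoImplicit false
set_option linter.unusedSectionVars false
set_option linter.unusedVariables false

namespace Cfsg.Agent.Lib.H11.OrtOd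

open Module Polynomial Cfsg.Agent.Lib.H24.Elus Cfsg.Agent.Lib.H10.OrtNd
open Cfsg.Agent.Lib.H13

section fin

variable {F : Type*} [Field F] [Fintype F] {p q : ℕ} [Fact p.Prime] [CharP F p]
  {V : Type*} [AddCommGroup V] [Module F V] [Module.Finite F V]
  (Q : QuadraticForm F V)

theorem iff_iff_cancel (P D : Prop) : ((P ↔ D) ↔ D) ↔ P := by
  by_cases hP : P <;> by_cases hD : D <;> simp_all

theorem exists_invariant (hF : Fintype.card F = q) {r : ℕ} [Fact r.Prime] (hrp : r ≠ p)
    (hr2 : r ≠ 2) (h2 : (2 : F) ≠ 0) (hQ : (QuadraticMap.polarBilin Q).Nondegenerate)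
    (y : End F V) (hiso : ∀ v, Q (y v) = Q v) (hy : y ^ r = 1) (m : ℕ) (hm : Odd m)
    (h2m : 2 * m < finrank F V)
    (hC : m % cOf (orderOf (q : ZMod r)) <
      finrank F ↥(LinearMap.ker (aeval y (X - 1 : F[X])))) (P : Prop) :
    ∃ W ∈ SetS Q m P, ∀ v ∈ W, y v ∈ W := by
  classical
  have hr : r.Prime := Fact.out
  have hr0 : (r : F) ≠ 0 := CycFactor.natCast_ne_zero hr hrp
  have hi0 : 0 < orderOf (q : ZMod r) := CycFactor.orderOf_pos hF hr hrp
  have hisoB := polar_iso_of_iso Q hiso
  have htop := NDon_top' Q hQ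
  have hinvT : ∀ v ∈ (⊤ : Submodule F V), y v ∈ (⊤ : Submodule F V) := fun _ _ => trivial
  obtain ⟨N, hN, hcN⟩ := cOf_even (orderOf (q : ZMod r)) hi0
  obtain ⟨c, hc⟩ : ∃ c, c = cOf (orderOf (q : ZMod r)) := ⟨_, rfl⟩
  rw [← hc] at hC hcN
  obtain ⟨C, hCdef⟩ : ∃ C, C = LinearMap.ker (aeval y (X - 1 : F[X])) := ⟨_, rfl⟩
  obtain ⟨D, hDdef⟩ : ∃ D, D = LinearMap.ker (aeval y (cyclotomic r F)) := ⟨_, rfl⟩
  rw [← hCdef] at hC
  have hCnd : NDon (PB Q) C := by
    have := NDon_fix_partS hisoB hr0 hy ⊤ hinvT htop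
    rw [top_inf_eq, ← hCdef] at this
    exact this
  have hDnd : NDon (PB Q) D := by
    have := NDon_cyc_partS (PB_symm Q) hisoB hr0 hy ⊤ hinvT htop
    rw [top_inf_eq, ← hDdef] at this
    exact this
  have hDinv : ∀ v ∈ D, y v ∈ D := by
    have := inf_ker_invariant (y := y) ⊤ hinvT (cyclotomic r F)
    rw [top_inf_eq, ← hDdef] at this
    exact this
  have hsum : finrank F C + finrank F D = finrank F V := by
    have := finrank_split_fix hr0 hy (⊤ : Submodule F V) hinvT
    rw [top_inf_eq, top_inf_eq, finrank_top, ← hCdef, ← hDdef] at this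
    exact this
  have hCfix : ∀ v ∈ C, y v = v := by
    intro v hv
    rw [hCdef] at hv
    exact (mem_fix_iff v).mp hv
  have horthCD : ∀ u ∈ C, ∀ w ∈ D, PB Q u w = 0 := by
    intro u hu w hw
    rw [hCdef] at hu
    rw [hDdef] at hw
    exact fix_orth_cycS hisoB hr0 u w hu hw
  have hc0 : 0 < c := by omega
  have hlodd : m % c % 2 = 1 := by
    obtain ⟨k, hk⟩ := hm
    have h1 := Nat.div_add_mod m c
    have h3 : c * (m / c) = 2 * (N * (m / c)) := by rw [hcN]; ring
    omega
  rcases Nat.lt_or_ge m (finrank F C) with hlt | hge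
  · -- `W` inside the fixed space
    obtain ⟨W, hWC, hW, hWdim, hWD⟩ := exists_nd_sub_DSq Q h2 hCnd m hm.pos hlt P
    exact ⟨W, ⟨hWdim, hW, hWD⟩, fun v hv => by rw [hCfix v (hWC hv)]; exact hv⟩
  · obtain ⟨t, ht⟩ : ∃ t, t = (finrank F C - m % c - 1) / c := ⟨_, rfl⟩
    have ht1 : t * c ≤ finrank F C - m % c - 1 := by rw [ht]; exact Nat.div_mul_le_self _ _
    have ht2 : finrank F C - m % c - 1 < c * (t + 1) := by
      rw [ht]; exact Nat.lt_mul_div_succ _ hc0
    obtain ⟨e, he⟩ : ∃ e, e = m % c + t * c := ⟨_, rfl⟩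
    have hmdiv := Nat.div_add_mod m c
    have heC : e < finrank F C := by omega
    have hem : e ≤ m := by omega
    -- m - e is a multiple of c
    have hta : t ≤ m / c := by
      by_contra hcon
      push Not at hcon
      have : c * (m / c + 1) ≤ c * t := Nat.mul_le_mul_left c hcon
      have h5 : c * (m / c + 1) = c * (m / c) + c := by ring
      have h6 : c * t = t * c := by ring
      omega
    have hme : m - e = (m / c - t) * c := by
      have h5 : (m / c - t) * c = c * (m / c) - t * c := by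
        rw [Nat.sub_mul, mul_comm]
      have h6 : t * c ≤ c * (m / c) := by
        calc t * c ≤ (m / c) * c := Nat.mul_le_mul_right c hta
          _ = c * (m / c) := by ring
      omega
    have hcm : c ≤ m := by
      by_contra hcon
      push Not at hcon
      rw [Nat.mod_eq_of_lt hcon] at hC
      omega
    have hDle : (m / c - t) * c ≤ finrank F D := by
      rw [← hme]
      have h7 : c * (t + 1) = t * c + c := by ring
      omega
    have hDle' : (m / c - t) * cOf (orderOf (q : ZMod r)) ≤ finrank F D := by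
      rw [← hc]; exact hDle
    obtain ⟨WD, hWDD, hWDinv, hWDnd, hWDdim⟩ := exists_sub_cycS hF hrp hr2 (PB_symm Q) hisoB hy D
      hDinv hDnd (by rw [hDdef]) (m / c - t) hDle'
    rw [← hc] at hWDdim
    obtain ⟨WC, hWCC, hWCnd, hWCdim, hWCD⟩ := exists_nd_sub_DSq Q h2 hCnd e (by omega) heC
      (P ↔ DSq Q WD)
    have horth : ∀ u ∈ WC, ∀ w ∈ WD, PB Q u w = 0 := fun u hu w hw =>
      horthCD u (hWCC hu) w (hWDD hw)
    refine ⟨WC ⊔ WD, ⟨?_, NDon_supS (PB Q) (PB_symm Q) WC WD hWCnd hWDnd horth, ?_⟩, ?_⟩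
    · have h8 := Submodule.finrank_sup_add_finrank_inf_eq WC WD
      rw [inf_eq_bot_of_orthS (PB Q) (PB_symm Q) WC WD hWCnd horth, finrank_bot, add_zero,
        hWCdim, hWDdim, ← hme] at h8
      omega
    · rw [DSq_sup Q h2 hWCnd hWDnd horth, hWCD]
      exact iff_iff_cancel P _
    · intro v hv
      obtain ⟨u, hu, w, hw, rfl⟩ := Submodule.mem_sup.mp hv
      rw [map_add, hCfix u (hWCC hu)]
      exact Submodule.add_mem_sup hu (hWDinv w hw)

/-- the abstract criterion for odd `r ≠ p` -/
theorem odd_main_abs (hF : Fintype.card F = q) {r : ℕ} [Fact r.Prime] (hrp : r ≠ p)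
    (hr2 : r ≠ 2) (h2 : (2 : F) ≠ 0) (hQ : (QuadraticMap.polarBilin Q).Nondegenerate)
    (n : ℕ) (hn : finrank F V = n) (hne : Even n) (m : ℕ) (hm : Odd m) (h2m : 2 * m < n)
    (P : Prop) (hS : (SetS Q m P).Nonempty) (hdvd : r ∣ Nat.card ↥(SetS Q m P)) :
    (∀ x : End F V, (∀ v, Q (x v) = Q v) → x ^ r = 1 → x ≠ 1 →
        ∃ W ∈ SetS Q m P, ∀ v ∈ W, x v ∈ W) ↔
    ((n % cOf (orderOf (q : ZMod r)) = 0 ∧
        ¬ (PlusOn Q (⊤ : Submodule F V) ↔
          (¬ Even (orderOf (q : ZMod r)) ∨ Even (n / cOf (orderOf (q : ZMod r)))))) ∨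
      (cOf (orderOf (q : ZMod r)) ≤ m ∧
        m % cOf (orderOf (q : ZMod r)) < n % cOf (orderOf (q : ZMod r)))) := by
  classical
  have hr : r.Prime := Fact.out
  have hr0 : (r : F) ≠ 0 := CycFactor.natCast_ne_zero hr hrp
  have hi0 : 0 < orderOf (q : ZMod r) := CycFactor.orderOf_pos hF hr hrp
  have htop := NDon_top' Q hQ
  obtain ⟨N, hN, hcN⟩ := cOf_even (orderOf (q : ZMod r)) hi0
  obtain ⟨c, hc⟩ : ∃ c, c = cOf (orderOf (q : ZMod r)) := ⟨_, rfl⟩
  rw [← hc] at hcN ⊢
  have hc0 : 0 < c := by omega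
  have hlodd : m % c % 2 = 1 := by
    obtain ⟨k, hk⟩ := hm
    have h1 := Nat.div_add_mod m c
    have h3 : c * (m / c) = 2 * (N * (m / c)) := by rw [hcN]; ring
    omega
  have hkeven : n % c % 2 = 0 := by
    obtain ⟨k, hk⟩ := hne
    have h1 := Nat.div_add_mod n c
    have h3 : c * (n / c) = 2 * (N * (n / c)) := by rw [hcN]; ring
    omega
  have hfixmod : ∀ x : End F V, (∀ v, Q (x v) = Q v) → x ^ r = 1 →
      n % c = finrank F ↥(LinearMap.ker (aeval x (X - 1 : F[X]))) % c := by
    intro x hiso hx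
    have := finrank_fix_modS hF hrp hr2 (PB_symm Q) (polar_iso_of_iso Q hiso) hx ⊤
      (fun _ _ => trivial) htop
    rw [top_inf_eq, finrank_top, hn, ← hc] at this
    exact this
  constructor
  · intro H
    by_contra hR
    push Not at hR
    obtain ⟨hR1, hR2⟩ := hR
    -- an element of order `r`
    have : Finite V := Module.finite_of_finite F
    have : Finite (V ≃ₗ[F] V) := Finite.of_injective (fun g => (g : V → V))
      (fun g h hgh => LinearEquiv.ext (congrFun hgh))
    have hdvdG : r ∣ Nat.card ↥(IsoG Q) := hdvd.trans (card_SetS_dvd Q h2 hQ hm.pos hS)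
    obtain ⟨g, hg⟩ := exists_prime_orderOf_dvd_card' r hdvdG
    have hgr : g ^ r = 1 := by rw [← hg]; exact pow_orderOf_eq_one g
    have hyr : ((g : V ≃ₗ[F] V) : End F V) ^ r = 1 := by
      apply LinearMap.ext
      intro v
      have h2' : ∀ k : ℕ, (((g : V ≃ₗ[F] V) : End F V) ^ k) v =
          ((g ^ k : ↥(IsoG Q)) : V ≃ₗ[F] V) v := by
        intro k
        induction k generalizing v with
        | zero => rfl
        | succ k ih =>
          rw [pow_succ, Module.End.mul_apply, ih, pow_succ]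
          rfl
      rw [h2', hgr]
      rfl
    have hyne : ((g : V ≃ₗ[F] V) : End F V) ≠ 1 := by
      intro h3
      have h4 : g = 1 := by
        apply Subtype.ext
        apply LinearEquiv.ext
        intro v
        exact LinearMap.congr_fun h3 v
      rw [h4, orderOf_one] at hg
      exact hr.one_lt.ne hg
    have hyiso : ∀ v, Q (((g : V ≃ₗ[F] V) : End F V) v) = Q v := fun v => g.2 v
    have hcn : c ≤ n := by
      have h1 := c_le_finrank_of_ne_one Q hF hrp hr2 hQ _ hyiso hyr hyne
      have h3 := Submodule.finrank_le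
        (LinearMap.ker (aeval ((g : V ≃ₗ[F] V) : End F V) (cyclotomic r F)))
      rw [hn, ← hc] at *
      omega
    have hj : 0 < n / c := Nat.div_pos hcn hc0
    have hdm := Nat.div_add_mod n c
    have hjn : n / c * c ≤ n := Nat.div_mul_le_self n c
    obtain ⟨x, hxiso, hx, hxne, hxfix⟩ := exists_test Q hF hrp hr2 h2 hQ
      ⟨_, hyiso, hyr, hyne⟩ (n / c) hj (by rw [← hc, hn]; exact hjn)
      (by
        rw [← hc, hn]
        intro heq
        apply hR1
        have h5 : n / c * c = c * (n / c) := by ring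
        omega)
    rw [← hc, hn] at hxfix
    have hfix : finrank F ↥(LinearMap.ker (aeval x (X - 1 : F[X]))) = n % c := by
      have h5 : n / c * c = c * (n / c) := by ring
      omega
    obtain ⟨W, hW, hWinv⟩ := H x hxiso hx hxne
    have hmod := finrank_fix_modS hF hrp hr2 (PB_symm Q) (polar_iso_of_iso Q hxiso) hx W hWinv
      hW.2.1
    rw [hW.1, ← hc] at hmod
    have hle1 : finrank F ↥(W ⊓ LinearMap.ker (aeval x (X - 1 : F[X]))) ≤ n % c := by
      rw [← hfix]; exact Submodule.finrank_mono inf_le_right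
    have hle2 := Nat.mod_le (finrank F ↥(W ⊓ LinearMap.ker (aeval x (X - 1 : F[X])))) c
    have hlt : m % c < n % c := by omega
    have hmc : m < c := by
      by_contra hcon
      push Not at hcon
      exact absurd hlt (not_lt.mpr (hR2 hcon))
    apply no_fixed_of_small Q hF hrp hr2 h2 hQ x hxiso hx m hm.pos (by rw [← hc]; exact hmc)
      (by rw [← hc, hfix]; exact Nat.mod_lt _ hc0) P hdvd
    exact ⟨W, hW, hWinv⟩
  · intro hR x hxiso hx hxne
    apply exists_invariant Q hF hrp hr2 h2 hQ x hxiso hx m hm (by rw [hn]; exact h2m)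
    rw [← hc]
    have hmodC := hfixmod x hxiso hx
    have hle2 := Nat.mod_le (finrank F ↥(LinearMap.ker (aeval x (X - 1 : F[X])))) c
    rcases hR with ⟨hk0, hZ⟩ | ⟨hcm, hlt⟩
    · have hCpos : finrank F ↥(LinearMap.ker (aeval x (X - 1 : F[X]))) ≠ 0 := by
        intro h0
        apply hZ
        have hinvT : ∀ v ∈ (⊤ : Submodule F V), x v ∈ (⊤ : Submodule F V) := fun _ _ => trivial
        have hsum := finrank_split_fix hr0 hx (⊤ : Submodule F V) hinvT
        rw [top_inf_eq, top_inf_eq, finrank_top, h0, zero_add, hn] at hsum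
        have hDtop : LinearMap.ker (aeval x (cyclotomic r F)) = ⊤ := by
          apply Submodule.eq_top_of_finrank_eq
          rw [hsum, hn]
        have := type_cyc Q hF hrp hr2 h2 x hxiso hx (n / c) ⊤ hinvT htop (by rw [hDtop])
          (by
            rw [finrank_top, hn, ← hc]
            exact (Nat.div_mul_cancel (Nat.dvd_of_mod_eq_zero hk0)).symm)
        exact this
      have hdvdC : c ∣ finrank F ↥(LinearMap.ker (aeval x (X - 1 : F[X]))) := by
        apply Nat.dvd_of_mod_eq_zero
        rw [← hmodC]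
        exact hk0
      have := Nat.le_of_dvd (Nat.pos_of_ne_zero hCpos) hdvdC
      have := Nat.mod_lt m hc0
      omega
    · omega

end fin

end Cfsg.Agent.Lib.H11.OrtOd
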