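import Mathlib
import Cfsg.Agent.Lib.H11.OrtOd1
import Cfsg.Agent.Lib.H4.Orth
import Cfsg.Agent.Lib.H13.OmegaCrit

/-!
# Isometries with square `-1` (part 2, helper11)

For an isometry `X` of a quadratic space in odd characteristic and an `X`-invariant nondegenerate
subspace `U` on which `X ^ 2 = -1`: `U` has even dimension `2 k`, square discriminant, and `X`
acts on `U` as a product of `2 k` reflections whose `Q`-values multiply to `2 ^ k` times a square
(`exists_J_list`).
-/

set_option autoImplicit false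
set_option linter.unusedSectionVars false
set_option linter.unusedVariables false

namespace Cfsg.Agent.Lib.H11.OrtOd

open Module Matrix Cfsg.Agent.Lib.H24.Elus Cfsg.Agent.Lib.H10.OrtNd

section J

variable {F : Type*} [Field F] {ι : Type} [Fintype ι] [DecidableEq ι]
variable (Q : QuadraticForm F (ι → F))

/-- the product of the reflections in a list of vectors -/
noncomputable def reflProd (L : List (ι → F)) : Matrix ι ι F :=
  (L.map (fun v => Cfsg.reflectionMatrix (⇑Q) v)).prod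

theorem reflProd_nil : reflProd Q [] = 1 := rfl

theorem reflProd_cons (v : ι → F) (L : List (ι → F)) :
    reflProd Q (v :: L) = Cfsg.reflectionMatrix (⇑Q) v * reflProd Q L := by
  unfold reflProd
  rw [List.map_cons, List.prod_cons]

theorem refl_apply (v x : ι → F) :
    Cfsg.reflectionMatrix (⇑Q) v *ᵥ x = x - ((Q v)⁻¹ * PB Q v x) • v :=
  Cfsg.Agent.Lib.H4.reflectionMatrix_mulVec Q v x

theorem refl_fix (v x : ι → F) (h : PB Q v x = 0) : Cfsg.reflectionMatrix (⇑Q) v *ᵥ x = x := by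
  rw [refl_apply, h, mul_zero, zero_smul, sub_zero]

theorem DSq_bot [FiniteDimensional F (ι → F)] : DSq Q (⊥ : Submodule F (ι → F)) := by
  refine ⟨Fin 0, inferInstance, inferInstance, fun i => i.elim0, linearIndependent_empty_type, ?_,
    ?_⟩
  · rw [Set.range_eq_empty, Submodule.span_empty]
  · rw [Matrix.det_isEmpty]
    exact ⟨1, by ring⟩

theorem polar_mulVec (X : Matrix ι ι F) (hiso : ∀ v, Q (X *ᵥ v) = Q v) (a b : ι → F) :
    PB Q (X *ᵥ a) (X *ᵥ b) = PB Q a b := by
  rw [PB_apply, PB_apply]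
  unfold QuadraticMap.polar
  rw [← Matrix.mulVec_add, hiso, hiso, hiso]

variable [Fintype F]

theorem exists_J_list (h2 : (2 : F) ≠ 0) (X : Matrix ι ι F) (hiso : ∀ v, Q (X *ᵥ v) = Q v) :
    ∀ (n : ℕ) (U : Submodule F (ι → F)), finrank F U = n → NDon (PB Q) U →
      (∀ u ∈ U, X *ᵥ u ∈ U) → (∀ u ∈ U, X *ᵥ (X *ᵥ u) = -u) →
      ∃ (k : ℕ) (L : List (ι → F)), n = 2 * k ∧ L.length = 2 * k ∧ (∀ v ∈ L, Q v ≠ 0) ∧
        (∃ s : F, s ≠ 0 ∧ (L.map (fun v => Q v)).prod = 2 ^ k * s ^ 2) ∧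
        (∀ u ∈ U, reflProd Q L *ᵥ u = X *ᵥ u) ∧
        (∀ w, (∀ u ∈ U, PB Q u w = 0) → reflProd Q L *ᵥ w = w) ∧ DSq Q U := by
  intro n
  induction n using Nat.strong_induction_on with
  | _ n ih =>
  intro U hn hU hinv hsq
  by_cases hne : U = ⊥
  · subst hne
    rw [finrank_bot] at hn
    refine ⟨0, [], by omega, rfl, by simp, ⟨1, one_ne_zero, by simp⟩, ?_, ?_, DSq_bot Q⟩
    · intro u hu
      rw [Submodule.mem_bot] at hu
      subst hu
      rw [Matrix.mulVec_zero, Matrix.mulVec_zero]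
    · intro w _
      rw [reflProd_nil, Matrix.one_mulVec]
  · obtain ⟨u, hu, hQu⟩ := exists_nonsing Q hU hne
    obtain ⟨u', hu'⟩ : ∃ u', u' = X *ᵥ u := ⟨_, rfl⟩
    have hu'U : u' ∈ U := by rw [hu']; exact hinv u hu
    have hQu' : Q u' = Q u := by rw [hu']; exact hiso u
    have hXu' : X *ᵥ u' = -u := by rw [hu']; exact hsq u hu
    have hpolX := polar_mulVec Q X hiso
    have horth : PB Q u u' = 0 := by
      have h1 := hpolX u u'
      rw [hXu', ← hu', map_neg, PB_symm Q u' u] at h1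
      have h3 : 2 * PB Q u u' = 0 := by linear_combination -h1
      exact (mul_eq_zero.mp h3).resolve_left h2
    have horth' : PB Q u' u = 0 := (PB_symm Q u' u).trans horth
    have hQu'0 : Q u' ≠ 0 := by rw [hQu']; exact hQu
    obtain ⟨w, hw⟩ : ∃ w, w = u + u' := ⟨_, rfl⟩
    have hQw : Q w = 2 * Q u := by
      rw [hw, QuadraticMap.map_add (⇑Q) u u', hQu', ← PB_apply, horth]
      ring
    have hQw0 : Q w ≠ 0 := by rw [hQw]; exact mul_ne_zero h2 hQu
    -- the plane
    have horthP : ∀ a ∈ Submodule.span F {u}, PB Q a u' = 0 := by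
      intro a ha
      obtain ⟨c, rfl⟩ := Submodule.mem_span_singleton.mp ha
      rw [map_smul, LinearMap.smul_apply, horth, smul_zero]
    obtain ⟨P, hP⟩ : ∃ P, P = Submodule.span F {u} ⊔ Submodule.span F {u'} := ⟨_, rfl⟩
    have hPnd : NDon (PB Q) P := by
      rw [hP]
      exact NDon_sup_span Q h2 (NDon_span_singleton Q h2 hQu) hQu'0 horthP
    have hPdim : finrank F P = 2 := by
      rw [hP, finrank_sup_span Q (NDon_span_singleton Q h2 hQu) hQu'0 horthP,
        finrank_span_singleton_of_nonsing Q hQu]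
    have hPU : P ≤ U := by
      rw [hP]
      apply sup_le
      · rw [Submodule.span_singleton_le_iff_mem]; exact hu
      · rw [Submodule.span_singleton_le_iff_mem]; exact hu'U
    have hPmem : ∀ p ∈ P, ∃ α β : F, p = α • u + β • u' := by
      intro p hp
      rw [hP] at hp
      obtain ⟨a, ha, b, hb, rfl⟩ := Submodule.mem_sup.mp hp
      obtain ⟨α, rfl⟩ := Submodule.mem_span_singleton.mp ha
      obtain ⟨β, rfl⟩ := Submodule.mem_span_singleton.mp hb
      exact ⟨α, β, rfl⟩
    have huP : u ∈ P := by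
      rw [hP]
      exact Submodule.mem_sup_left (Submodule.mem_span_singleton_self u)
    have hu'P : u' ∈ P := by
      rw [hP]
      exact Submodule.mem_sup_right (Submodule.mem_span_singleton_self u')
    -- the complement
    obtain ⟨U₁, hU₁⟩ : ∃ U₁, U₁ = U ⊓ (PB Q).orthogonal P := ⟨_, rfl⟩
    have hU₁nd : NDon (PB Q) U₁ := by
      rw [hU₁]
      exact NDon_perp_inS (PB Q) (PB_symm Q) U P hU hPnd hPU
    have hU₁dim : finrank F U₁ = n - 2 := by
      have := finrank_perp_inS (PB Q) (PB_symm Q) U P hPnd hPU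
      rw [hU₁]
      omega
    have hn2 : 2 ≤ n := by
      have := finrank_perp_inS (PB Q) (PB_symm Q) U P hPnd hPU
      omega
    have hU₁U : U₁ ≤ U := by rw [hU₁]; exact inf_le_left
    have hU₁orth : ∀ a ∈ U₁, ∀ p ∈ P, PB Q p a = 0 := by
      intro a ha p hp
      rw [hU₁] at ha
      exact (Submodule.mem_inf.mp ha).2 p hp
    have hU₁inv : ∀ a ∈ U₁, X *ᵥ a ∈ U₁ := by
      intro a ha
      rw [hU₁]
      refine Submodule.mem_inf.mpr ⟨hinv a (hU₁U ha), ?_⟩
      intro p hp
      obtain ⟨α, β, rfl⟩ := hPmem p hp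
      have e1 : PB Q u (X *ᵥ a) = 0 := by
        have h1 := hpolX (-u') a
        rw [Matrix.mulVec_neg, hXu', neg_neg] at h1
        rw [h1, map_neg, LinearMap.neg_apply, hU₁orth a ha u' hu'P, neg_zero]
      have e2 : PB Q u' (X *ᵥ a) = 0 := by
        rw [hu', hpolX]
        exact hU₁orth a ha u huP
      rw [map_add, LinearMap.add_apply, map_smul, map_smul, LinearMap.smul_apply,
        LinearMap.smul_apply, e1, e2, smul_zero, smul_zero, add_zero]
    have hU₁sq : ∀ a ∈ U₁, X *ᵥ (X *ᵥ a) = -a := fun a ha => hsq a (hU₁U ha)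
    obtain ⟨k₁, L₁, hnk, hlen, hLQ, ⟨s₁, hs₁, hprod⟩, hact, hfix, hD₁⟩ :=
      ih (n - 2) (by omega) U₁ hU₁dim hU₁nd hU₁inv hU₁sq
    -- the two reflections
    have hF1 : ∀ b, PB Q u b = 0 → PB Q u' b = 0 →
        Cfsg.reflectionMatrix (⇑Q) w *ᵥ (Cfsg.reflectionMatrix (⇑Q) u *ᵥ b) = b := by
      intro b hb hb'
      rw [refl_fix Q u b hb, refl_fix Q w b]
      rw [hw, map_add, LinearMap.add_apply, hb, hb', add_zero]
    have hwu : PB Q w u = 2 * Q u := by
      rw [hw, map_add, LinearMap.add_apply, PB_self, horth', add_zero]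
    have hwu' : PB Q w u' = 2 * Q u := by
      rw [hw, map_add, LinearMap.add_apply, PB_self, horth, zero_add, hQu']
    have hRu : Cfsg.reflectionMatrix (⇑Q) w *ᵥ (Cfsg.reflectionMatrix (⇑Q) u *ᵥ u) = u' := by
      rw [refl_apply Q u u, PB_self]
      have e1 : (Q u)⁻¹ * (2 * Q u) = 2 := by field_simp
      rw [e1]
      have e2 : u - (2 : F) • u = -u := by
        rw [two_smul]
        abel
      rw [e2, Matrix.mulVec_neg, refl_apply Q w u, hwu, hQw]
      have e3 : (2 * Q u)⁻¹ * (2 * Q u) = 1 := inv_mul_cancel₀ (mul_ne_zero h2 hQu)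
      rw [e3, one_smul, hw]
      abel
    have hRu' : Cfsg.reflectionMatrix (⇑Q) w *ᵥ (Cfsg.reflectionMatrix (⇑Q) u *ᵥ u') = -u := by
      rw [refl_fix Q u u' horth, refl_apply Q w u', hwu', hQw]
      have e3 : (2 * Q u)⁻¹ * (2 * Q u) = 1 := inv_mul_cancel₀ (mul_ne_zero h2 hQu)
      rw [e3, one_smul, hw]
      abel
    have hprodL : reflProd Q (w :: u :: L₁) = Cfsg.reflectionMatrix (⇑Q) w *
        (Cfsg.reflectionMatrix (⇑Q) u * reflProd Q L₁) := by
      rw [reflProd_cons, reflProd_cons]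
    have happly : ∀ b, reflProd Q (w :: u :: L₁) *ᵥ b = Cfsg.reflectionMatrix (⇑Q) w *ᵥ
        (Cfsg.reflectionMatrix (⇑Q) u *ᵥ (reflProd Q L₁ *ᵥ b)) := by
      intro b
      rw [hprodL, ← Matrix.mulVec_mulVec, ← Matrix.mulVec_mulVec]
    refine ⟨k₁ + 1, w :: u :: L₁, by omega, by simp [hlen]; omega, ?_, ?_, ?_, ?_, ?_⟩
    · intro v hv
      rcases List.mem_cons.mp hv with rfl | hv
      · exact hQw0
      · rcases List.mem_cons.mp hv with rfl | hv
        · exact hQu
        · exact hLQ v hv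
    · refine ⟨Q u * s₁, mul_ne_zero hQu hs₁, ?_⟩
      rw [List.map_cons, List.map_cons, List.prod_cons, List.prod_cons, hprod, hQw]
      ring
    · intro a ha
      have hsup := sup_perp_inS (PB Q) (PB_symm Q) U P hPnd hPU
      rw [← hU₁] at hsup
      rw [← hsup] at ha
      obtain ⟨p, hp, a₁, ha₁, rfl⟩ := Submodule.mem_sup.mp ha
      obtain ⟨α, β, rfl⟩ := hPmem p hp
      rw [happly, Matrix.mulVec_add (reflProd Q L₁), hact a₁ ha₁,
        hfix (α • u + β • u') (fun b hb => (PB_symm Q _ _).trans (hU₁orth b hb _ hp)),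
        Matrix.mulVec_add (Cfsg.reflectionMatrix (⇑Q) u), Matrix.mulVec_add,
        hF1 (X *ᵥ a₁) (hU₁orth _ (hU₁inv a₁ ha₁) u huP) (hU₁orth _ (hU₁inv a₁ ha₁) u' hu'P),
        Matrix.mulVec_add (Cfsg.reflectionMatrix (⇑Q) u), Matrix.mulVec_add,
        Matrix.mulVec_smul, Matrix.mulVec_smul, Matrix.mulVec_smul, Matrix.mulVec_smul, hRu, hRu',
        Matrix.mulVec_add X, Matrix.mulVec_add X, Matrix.mulVec_smul, Matrix.mulVec_smul, ← hu',
        hXu']
    · intro b hb
      rw [happly, hfix b (fun a ha => hb a (hU₁U ha)), hF1 b (hb u hu) (hb u' hu'U)]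
    · have hsup := sup_perp_inS (PB Q) (PB_symm Q) U P hPnd hPU
      rw [← hU₁] at hsup
      rw [← hsup, DSq_sup Q h2 hPnd hU₁nd (fun p hp a ha => hU₁orth a ha p hp)]
      refine ⟨fun _ => hD₁, fun _ => ?_⟩
      rw [hP, DSq_sup Q h2 (NDon_span_singleton Q h2 hQu) (NDon_span_singleton Q h2 hQu'0)
        (fun a ha b hb => by
          obtain ⟨c, rfl⟩ := Submodule.mem_span_singleton.mp hb
          rw [map_smul, smul_eq_mul, horthP a ha, mul_zero]),
        DSq_span_singleton Q hQu, DSq_span_singleton Q hQu'0, hQu']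

end J

end Cfsg.Agent.Lib.H11.OrtOd
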