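import Mathlib
import Cfsg.Agent.Lib.H11.OrtOd2
import Cfsg.Agent.Lib.H11.OrthReal2
import Cfsg.Agent.Lib.H13.AutPO1

/-!
# Isometries with square `-1` (part 3, helper11)

* `omega_iff_of_sq_neg_one`: an isometry `g` with `g ^ 2 = -1` of a nondegenerate quadratic space
  of dimension `2 d` (odd characteristic) lies in `Ω` iff `2 ^ d` is a square; the discriminant of
  the space is then a square.
* `exists_sq_neg_one`: conversely, if the discriminant is a square there is such an isometry.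
-/

set_option autoImplicit false
set_option linter.unusedSectionVars false
set_option linter.unusedVariables false

namespace Cfsg.Agent.Lib.H11.OrtOd

open Module Matrix Cfsg.Agent.Lib.H24.Elus Cfsg.Agent.Lib.H10.OrtNd

section crit

variable {F : Type*} [Field F] [Fintype F] {ι : Type} [Fintype ι] [DecidableEq ι]
variable (Q : QuadraticForm F (ι → F))

theorem NDon_top (hQ : (QuadraticMap.polarBilin Q).Nondegenerate) :
    NDon (PB Q) (⊤ : Submodule F (ι → F)) := by
  intro u _ h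
  exact hQ.1 u (fun v => h v Submodule.mem_top)

theorem mem_omegaGL_iff (g : GL ι F) (hg : g ∈ Cfsg.isometryGroup F ⇑Q) :
    g ∈ Cfsg.Geo.omegaGL ⇑Q ↔ (⟨g, hg⟩ : ↥(Cfsg.isometryGroup F ⇑Q)) ∈ Cfsg.Omega F ⇑Q := by
  unfold Cfsg.Geo.omegaGL
  rw [Subgroup.mem_map]
  constructor
  · rintro ⟨y, hy, hyg⟩
    have : y = ⟨g, hg⟩ := Subtype.ext hyg
    rw [← this]
    exact hy
  · intro h
    exact ⟨⟨g, hg⟩, h, rfl⟩

theorem omegaGL_le (g : GL ι F) (hg : g ∈ Cfsg.Geo.omegaGL ⇑Q) :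
    g ∈ Cfsg.isometryGroup F ⇑Q := by
  unfold Cfsg.Geo.omegaGL at hg
  rw [Subgroup.mem_map] at hg
  obtain ⟨y, -, rfl⟩ := hg
  exact y.2

theorem omega_iff_of_sq_neg_one [DecidableEq F] (hQ : (QuadraticMap.polarBilin Q).Nondegenerate)
    (h2 : (2 : F) ≠ 0) (d : ℕ) (hd : 1 ≤ d) (hcard : Fintype.card ι = 2 * d) (g : GL ι F)
    (hg : g ∈ Cfsg.isometryGroup F ⇑Q)
    (hsq : (g : Matrix ι ι F) * (g : Matrix ι ι F) = -1) :
    (g ∈ Cfsg.Geo.omegaGL ⇑Q ↔ IsSquare ((2 : F) ^ d)) ∧ DSq Q ⊤ := by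
  have hiso := (Cfsg.Agent.Lib.H13.AutPO.mem_iso_iff (Q := Q) g).mp hg
  have hfr : finrank F (⊤ : Submodule F (ι → F)) = 2 * d := by
    rw [finrank_top, Module.finrank_fintype_fun_eq_card, hcard]
  obtain ⟨k, L, hnk, hlen, hLQ, ⟨s, hs, hprod⟩, hact, -, hD⟩ :=
    exists_J_list Q h2 (g : Matrix ι ι F) hiso (2 * d) ⊤ hfr (NDon_top Q hQ)
      (fun _ _ => Submodule.mem_top) (fun u _ => by
        rw [Matrix.mulVec_mulVec, hsq, Matrix.neg_mulVec, Matrix.one_mulVec])
  have hkd : k = d := by omega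
  subst hkd
  refine ⟨?_, hD⟩
  have hmat : (g : Matrix ι ι F) = (L.map (fun v => Cfsg.reflectionMatrix (⇑Q) v)).prod := by
    rw [Matrix.ext_iff_mulVec]
    intro v
    exact (hact v Submodule.mem_top).symm
  rw [mem_omegaGL_iff Q g hg,
    Cfsg.Agent.Lib.H13.OmegaCrit.mem_Omega_iff_list Q h2 (by omega) hQ ⟨g, hg⟩ L hLQ hmat, hlen,
    hprod]
  constructor
  · rintro ⟨-, h⟩
    rw [mul_comm] at h
    exact (isSquare_sq_mul hs).mp h
  · intro h
    refine ⟨⟨k, by ring⟩, ?_⟩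
    rw [mul_comm]
    exact (isSquare_sq_mul hs).mpr h

end crit

section exist

variable {F : Type*} [Field F] [Fintype F] {ι : Type} [Fintype ι] [DecidableEq ι]
variable (Q : QuadraticForm F (ι → F))

/-- the Gram matrix of the polar form in the standard basis -/
noncomputable def stdGram : Matrix ι ι F := LinearMap.BilinForm.toMatrix' (PB Q)

theorem stdGram_apply (i j : ι) : stdGram Q i j = PB Q (Pi.single i 1) (Pi.single j 1) := by
  unfold stdGram
  rw [LinearMap.BilinForm.toMatrix'_apply]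

theorem stdGram_transpose : (stdGram Q)ᵀ = stdGram Q := by
  ext i j
  rw [Matrix.transpose_apply, stdGram_apply, stdGram_apply, PB_symm]

theorem PB_eq_dot (u v : ι → F) : PB Q u v = u ⬝ᵥ stdGram Q *ᵥ v := by
  unfold stdGram
  rw [← Matrix.toBilin'_apply', Matrix.toBilin'_toMatrix']

theorem two_mul_Q (v : ι → F) : 2 * Q v = v ⬝ᵥ stdGram Q *ᵥ v := by
  rw [← PB_eq_dot, PB_self]

theorem stdGram_eq_gram : stdGram Q = gram Q (fun i : ι => (Pi.single i 1 : ι → F)) := by
  ext i j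
  rw [stdGram_apply, Cfsg.Agent.Lib.H10.OrtNd.gram_apply]

theorem DSq_top_iff : DSq Q ⊤ ↔ IsSquare (stdGram Q).det := by
  have hli : LinearIndependent F (fun i : ι => (Pi.single i 1 : ι → F)) := by
    have := (Pi.basisFun F ι).linearIndependent
    convert this using 1
    funext i
    rw [Pi.basisFun_apply]
  have hspan : Submodule.span F (Set.range (fun i : ι => (Pi.single i 1 : ι → F))) = ⊤ := by
    have := (Pi.basisFun F ι).span_eq
    convert this using 3
    funext i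
    rw [Pi.basisFun_apply]
  rw [DSq_iff Q hli hspan, stdGram_eq_gram]

theorem stdGram_det_ne_zero (hQ : (QuadraticMap.polarBilin Q).Nondegenerate) :
    (stdGram Q).det ≠ 0 := by
  have hli : LinearIndependent F (fun i : ι => (Pi.single i 1 : ι → F)) := by
    have := (Pi.basisFun F ι).linearIndependent
    convert this using 1
    funext i
    rw [Pi.basisFun_apply]
  have hspan : Submodule.span F (Set.range (fun i : ι => (Pi.single i 1 : ι → F))) = ⊤ := by
    have := (Pi.basisFun F ι).span_eq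
    convert this using 3
    funext i
    rw [Pi.basisFun_apply]
  rw [stdGram_eq_gram]
  exact gram_det_ne_zero Q hli hspan (NDon_top Q hQ)

/-- a matrix preserving the Gram matrix preserves the form -/
theorem iso_of_gram (h2 : (2 : F) ≠ 0) (X : Matrix ι ι F) (hX : Xᵀ * stdGram Q * X = stdGram Q)
    (v : ι → F) : Q (X *ᵥ v) = Q v := by
  have h1 : 2 * Q (X *ᵥ v) = 2 * Q v := by
    rw [two_mul_Q, two_mul_Q, Matrix.mulVec_mulVec, Matrix.dotProduct_mulVec,
      ← Matrix.vecMul_transpose X, Matrix.vecMul_vecMul, ← Matrix.dotProduct_mulVec]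
    conv_rhs => rw [← hX]
    rw [Matrix.mul_assoc]
  exact mul_left_cancel₀ h2 h1

/-- the quarter turn -/
def quarter (d : ℕ) (F : Type*) [Field F] : Matrix (Fin d ⊕ Fin d) (Fin d ⊕ Fin d) F :=
  Matrix.fromBlocks 0 (-1) 1 0

theorem quarter_sq (d : ℕ) : quarter d F * quarter d F = -1 := by
  unfold quarter
  rw [Matrix.fromBlocks_multiply]
  simp only [Matrix.zero_mul, Matrix.mul_zero, Matrix.mul_one, Matrix.one_mul, zero_add, add_zero,
    Matrix.neg_mul, Matrix.mul_neg]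
  rw [neg_zero, ← Matrix.fromBlocks_one, Matrix.fromBlocks_neg, neg_zero]

theorem quarter_tr (d : ℕ) : (quarter d F)ᵀ * quarter d F = 1 := by
  unfold quarter
  rw [Matrix.fromBlocks_transpose, Matrix.fromBlocks_multiply]
  simp only [Matrix.transpose_zero, Matrix.transpose_one, Matrix.transpose_neg, Matrix.zero_mul,
    Matrix.mul_zero, Matrix.mul_one, Matrix.one_mul, zero_add, add_zero, Matrix.neg_mul,
    Matrix.mul_neg, neg_neg, neg_zero]
  exact Matrix.fromBlocks_one

theorem exists_sq_neg_one (hQ : (QuadraticMap.polarBilin Q).Nondegenerate) (h2 : (2 : F) ≠ 0)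
    (d : ℕ) (hcard : Fintype.card ι = 2 * d) (hD : DSq Q ⊤) :
    ∃ g : GL ι F, g ∈ Cfsg.isometryGroup F ⇑Q ∧
      (g : Matrix ι ι F) * (g : Matrix ι ι F) = -1 := by
  classical
  rw [DSq_top_iff] at hD
  have hdet := stdGram_det_ne_zero Q hQ
  obtain ⟨G', hG'⟩ : ∃ G' : Matrix (Fin d ⊕ Fin d) (Fin d ⊕ Fin d) F, G' = (2 : F) • 1 :=
    ⟨_, rfl⟩
  have hG't : G'ᵀ = G' := by
    rw [hG', Matrix.transpose_smul, Matrix.transpose_one]
  have hG'det : G'.det = ((2 : F) ^ d) ^ 2 := by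
    rw [hG', Matrix.det_smul, Matrix.det_one, mul_one, Fintype.card_sum, Fintype.card_fin]
    ring
  have hG'0 : G'.det ≠ 0 := by
    rw [hG'det]
    exact pow_ne_zero _ (pow_ne_zero _ h2)
  have hne : ((-1 : F)) ^ d ≠ 0 := pow_ne_zero _ (neg_ne_zero.mpr one_ne_zero)
  have hd : IsSquare ((-1 : F) ^ d * (stdGram Q).det) ↔ IsSquare ((-1 : F) ^ d * G'.det) := by
    rw [isSquare_mul_iff h2 hne hdet, isSquare_mul_iff h2 hne hG'0]
    have h1 : IsSquare G'.det := by
      rw [hG'det]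
      exact ⟨2 ^ d, by ring⟩
    tauto
  obtain ⟨P, Pi, hP1, hP2, hGP⟩ := Cfsg.Agent.Lib.H11.OrthReal.congr_even h2 d hcard
    (by rw [Fintype.card_sum, Fintype.card_fin]; ring) (stdGram Q) G' (stdGram_transpose Q) hG't
    hdet hG'0 hd
  obtain ⟨X, hX⟩ : ∃ X : Matrix ι ι F, X = Pi * quarter d F * P := ⟨_, rfl⟩
  have hXX : X * X = -1 := by
    rw [hX]
    calc Pi * quarter d F * P * (Pi * quarter d F * P)
        = Pi * (quarter d F * (P * Pi) * quarter d F) * P := by
          simp only [Matrix.mul_assoc]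
      _ = -1 := by
          rw [hP1, Matrix.mul_one, quarter_sq, Matrix.mul_neg, Matrix.mul_one, Matrix.neg_mul, hP2]
  have hXG : Xᵀ * stdGram Q * X = stdGram Q := by
    have hPit : Piᵀ * Pᵀ = 1 := by
      rw [← Matrix.transpose_mul, hP1, Matrix.transpose_one]
    rw [hX, Matrix.transpose_mul, Matrix.transpose_mul]
    conv_lhs => rw [hGP]
    calc Pᵀ * ((quarter d F)ᵀ * Piᵀ) * (Pᵀ * G' * P) * (Pi * quarter d F * P)
        = Pᵀ * ((quarter d F)ᵀ * ((Piᵀ * Pᵀ) * G' * (P * Pi)) * quarter d F) * P := by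
          simp only [Matrix.mul_assoc]
      _ = Pᵀ * G' * P := by
          rw [hPit, hP1, Matrix.one_mul, Matrix.mul_one, hG', Matrix.mul_smul, Matrix.mul_one,
            Matrix.smul_mul, quarter_tr]
      _ = stdGram Q := hGP.symm
  have hinv1 : X * (-X) = 1 := by rw [Matrix.mul_neg, hXX, neg_neg]
  have hinv2 : (-X) * X = 1 := by rw [Matrix.neg_mul, hXX, neg_neg]
  refine ⟨⟨X, -X, hinv1, hinv2⟩, ?_, hXX⟩
  rw [Cfsg.Agent.Lib.H13.AutPO.mem_iso_iff]
  intro v
  exact iso_of_gram Q h2 X hXG v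

end exist

end Cfsg.Agent.Lib.H11.OrtOd
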