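import Mathlib
import Cfsg.Agent.Lib.H11.OrtOd3

/-!
# Elements of order two and odd-dimensional nondegenerate subspaces (part 4, helper11)

`two_main`: in a nondegenerate quadratic space of dimension `2 d` over a finite field of odd
characteristic, every element `x` of `Ω` with `x ^ 2` scalar fixes a nondegenerate subspace of odd
dimension `m < d` and prescribed discriminant class iff no element of `Ω` has square `-1`, iff not
(the discriminant is a square and `2 ^ d` is a square).
-/

set_option autoImplicit false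
set_option linter.unusedSectionVars false
set_option linter.unusedVariables false

namespace Cfsg.Agent.Lib.H11.OrtOd

open Module Matrix Cfsg.Agent.Lib.H24.Elus Cfsg.Agent.Lib.H10.OrtNd

section two

variable {F : Type*} [Field F] [Fintype F] {ι : Type} [Fintype ι] [DecidableEq ι]
variable (Q : QuadraticForm F (ι → F))

theorem invariant_of_map_le (X : Matrix ι ι F) (W : Submodule F (ι → F))
    (h : W.map (Matrix.toLin' X) ≤ W) : ∀ u ∈ W, X *ᵥ u ∈ W := by
  intro u hu
  have := h (Submodule.mem_map_of_mem hu)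
  rwa [Matrix.toLin'_apply] at this

theorem map_le_of_invariant (X : Matrix ι ι F) (W : Submodule F (ι → F))
    (h : ∀ u ∈ W, X *ᵥ u ∈ W) : W.map (Matrix.toLin' X) ≤ W := by
  rintro _ ⟨u, hu, rfl⟩
  rw [Matrix.toLin'_apply]
  exact h u hu

theorem exists_nonsing_top (hQ : (QuadraticMap.polarBilin Q).Nondegenerate)
    (hcard : 0 < Fintype.card ι) : ∃ v : ι → F, Q v ≠ 0 := by
  have hne : (⊤ : Submodule F (ι → F)) ≠ ⊥ := by
    intro h
    have h1 := congrArg (fun W : Submodule F (ι → F) => finrank F W) h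
    simp only [finrank_top, Module.finrank_fintype_fun_eq_card, finrank_bot] at h1
    omega
  obtain ⟨v, -, hv⟩ := exists_nonsing Q (NDon_top Q hQ) hne
  exact ⟨v, hv⟩

/-- a scalar isometry has square one -/
theorem scalar_sq (hQ : (QuadraticMap.polarBilin Q).Nondegenerate) (hcard : 0 < Fintype.card ι)
    (X : Matrix ι ι F) (hiso : ∀ v, Q (X *ᵥ v) = Q v) (z : F) (hz : X = z • 1) : z * z = 1 := by
  obtain ⟨v, hv⟩ := exists_nonsing_top Q hQ hcard
  have h1 := hiso v
  rw [hz, Matrix.smul_mulVec, Matrix.one_mulVec, QuadraticMap.map_smul, smul_eq_mul] at h1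
  have h3 : (z * z - 1) * Q v = 0 := by linear_combination h1
  rcases mul_eq_zero.mp h3 with h4 | h4
  · exact sub_eq_zero.mp h4
  · exact absurd h4 hv

theorem two_main [DecidableEq F] (hQ : (QuadraticMap.polarBilin Q).Nondegenerate)
    (h2 : (2 : F) ≠ 0) (d : ℕ) (hcard : Fintype.card ι = 2 * d) (m : ℕ) (hm : Odd m)
    (hmd : m < d) (P : Prop) :
    (∀ x : GL ι F, x ∈ Cfsg.Geo.omegaGL ⇑Q →
      (∃ z : F, ((x ^ 2 : GL ι F) : Matrix ι ι F) = z • (1 : Matrix ι ι F)) →
      (∀ z : F, (x : Matrix ι ι F) ≠ z • (1 : Matrix ι ι F)) →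
      ∃ W : Submodule F (ι → F), (finrank F W = m ∧ NDon (PB Q) W ∧ (DSq Q W ↔ P)) ∧
        W.map (Matrix.toLin' (x : Matrix ι ι F)) ≤ W) ↔
    ¬ (DSq Q ⊤ ∧ IsSquare ((2 : F) ^ d)) := by
  have hm1 : 1 ≤ m := by
    rcases hm with ⟨k, hk⟩
    omega
  have hd1 : 1 ≤ d := by omega
  have hcpos : 0 < Fintype.card ι := by omega
  constructor
  · rintro H ⟨hD, h2d⟩
    obtain ⟨g, hg, hsq⟩ := exists_sq_neg_one Q hQ h2 d hcard hD
    have hgΩ : g ∈ Cfsg.Geo.omegaGL ⇑Q :=
      (omega_iff_of_sq_neg_one Q hQ h2 d hd1 hcard g hg hsq).1.mpr h2d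
    have hiso := (Cfsg.Agent.Lib.H13.AutPO.mem_iso_iff (Q := Q) g).mp hg
    have hns : ∀ z : F, (g : Matrix ι ι F) ≠ z • (1 : Matrix ι ι F) := by
      intro z hz
      have h1 := scalar_sq Q hQ hcpos _ hiso z hz
      rw [hz, Matrix.smul_mul, Matrix.mul_smul, Matrix.one_mul, smul_smul, h1, one_smul] at hsq
      obtain ⟨i⟩ : Nonempty ι := Fintype.card_pos_iff.mp hcpos
      have h3 := congrFun (congrFun hsq i) i
      rw [Matrix.one_apply_eq, Matrix.neg_apply, Matrix.one_apply_eq] at h3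
      apply h2
      linear_combination h3
    obtain ⟨W, ⟨hWm, hWnd, -⟩, hWinv⟩ := H g hgΩ
      ⟨-1, by rw [Units.val_pow_eq_pow_val, pow_two, hsq, neg_one_smul]⟩ hns
    obtain ⟨k, L, hmk, -⟩ := exists_J_list Q h2 (g : Matrix ι ι F) hiso m W hWm hWnd
      (invariant_of_map_le _ W hWinv) (fun u _ => by
        rw [Matrix.mulVec_mulVec, hsq, Matrix.neg_mulVec, Matrix.one_mulVec])
    rcases hm with ⟨j, hj⟩
    omega
  · intro hno x hxΩ ⟨z, hz⟩ _
    have hx := omegaGL_le Q x hxΩ
    have hiso := (Cfsg.Agent.Lib.H13.AutPO.mem_iso_iff (Q := Q) x).mp hx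
    have hxx : (x : Matrix ι ι F) * (x : Matrix ι ι F) = z • 1 := by
      rw [← hz, Units.val_pow_eq_pow_val, pow_two]
    have hzz : z * z = 1 := by
      apply scalar_sq Q hQ hcpos ((x : Matrix ι ι F) * (x : Matrix ι ι F)) _ z hxx
      intro v
      rw [← Matrix.mulVec_mulVec, hiso, hiso]
    have hz1 : z = 1 ∨ z = -1 := by
      have h3 : (z - 1) * (z + 1) = 0 := by linear_combination hzz
      rcases mul_eq_zero.mp h3 with h4 | h4
      · exact Or.inl (sub_eq_zero.mp h4)
      · exact Or.inr (eq_neg_of_add_eq_zero_left h4)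
    rcases hz1 with rfl | rfl
    · -- involutions
      rw [one_smul] at hxx
      obtain ⟨Vp, hVp⟩ : ∃ Vp : Submodule F (ι → F),
          Vp = LinearMap.ker (Matrix.toLin' ((x : Matrix ι ι F) - 1)) := ⟨_, rfl⟩
      obtain ⟨Vm, hVm⟩ : ∃ Vm : Submodule F (ι → F),
          Vm = LinearMap.ker (Matrix.toLin' ((x : Matrix ι ι F) + 1)) := ⟨_, rfl⟩
      have hmemp : ∀ v, v ∈ Vp ↔ (x : Matrix ι ι F) *ᵥ v = v := by
        intro v
        rw [hVp, LinearMap.mem_ker, Matrix.toLin'_apply, Matrix.sub_mulVec, Matrix.one_mulVec,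
          sub_eq_zero]
      have hmemm : ∀ v, v ∈ Vm ↔ (x : Matrix ι ι F) *ᵥ v = -v := by
        intro v
        rw [hVm, LinearMap.mem_ker, Matrix.toLin'_apply, Matrix.add_mulVec, Matrix.one_mulVec,
          add_eq_zero_iff_eq_neg]
      have hxxv : ∀ v, (x : Matrix ι ι F) *ᵥ ((x : Matrix ι ι F) *ᵥ v) = v := by
        intro v
        rw [Matrix.mulVec_mulVec, hxx, Matrix.one_mulVec]
      have hsup : (⊤ : Submodule F (ι → F)) ≤ Vp ⊔ Vm := by
        intro v _
        have hv : v = (2 : F)⁻¹ • (v + (x : Matrix ι ι F) *ᵥ v) +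
            (2 : F)⁻¹ • (v - (x : Matrix ι ι F) *ᵥ v) := by
          rw [← smul_add]
          have : v + (x : Matrix ι ι F) *ᵥ v + (v - (x : Matrix ι ι F) *ᵥ v) = (2 : F) • v := by
            rw [two_smul]
            abel
          rw [this, smul_smul, inv_mul_cancel₀ h2, one_smul]
        rw [hv]
        apply Submodule.add_mem
        · apply Submodule.mem_sup_left
          apply Submodule.smul_mem
          rw [hmemp, Matrix.mulVec_add, hxxv, add_comm]
        · apply Submodule.mem_sup_right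
          apply Submodule.smul_mem
          rw [hmemm, Matrix.mulVec_sub, hxxv]
          abel
      have horth : ∀ a ∈ Vp, ∀ b ∈ Vm, PB Q a b = 0 := by
        intro a ha b hb
        have h1 := polar_mulVec Q (x : Matrix ι ι F) hiso a b
        rw [(hmemp a).mp ha, (hmemm b).mp hb, map_neg] at h1
        have h3 : 2 * PB Q a b = 0 := by linear_combination -h1
        exact (mul_eq_zero.mp h3).resolve_left h2
      have horth' : ∀ a ∈ Vm, ∀ b ∈ Vp, PB Q a b = 0 := fun a ha b hb =>
        (PB_symm Q a b).trans (horth b hb a ha)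
      have hVpnd : NDon (PB Q) Vp :=
        NDon_of_sup_orthS (PB Q) ⊤ Vp Vm (NDon_top Q hQ) le_top hsup horth
      have hVmnd : NDon (PB Q) Vm :=
        NDon_of_sup_orthS (PB Q) ⊤ Vm Vp (NDon_top Q hQ) le_top (by rwa [sup_comm]) horth'
      have hdims : finrank F Vp + finrank F Vm = 2 * d := by
        have h1 := Submodule.finrank_sup_add_finrank_inf_eq Vp Vm
        rw [inf_eq_bot_of_orthS (PB Q) (PB_symm Q) Vp Vm hVpnd horth, finrank_bot, add_zero,
          top_le_iff.mp hsup, finrank_top, Module.finrank_fintype_fun_eq_card, hcard] at h1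
        exact h1.symm
      by_cases hbig : d ≤ finrank F Vp
      · obtain ⟨W, hWY, hW, hWe, hWd⟩ := exists_nd_sub_DSq Q h2 hVpnd m (by omega) (by omega) P
        refine ⟨W, ⟨hWe, hW, hWd⟩, map_le_of_invariant _ W (fun u hu => ?_)⟩
        rw [(hmemp u).mp (hWY hu)]
        exact hu
      · obtain ⟨W, hWY, hW, hWe, hWd⟩ := exists_nd_sub_DSq Q h2 hVmnd m (by omega) (by omega) P
        refine ⟨W, ⟨hWe, hW, hWd⟩, map_le_of_invariant _ W (fun u hu => ?_)⟩
        rw [(hmemm u).mp (hWY hu)]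
        exact W.neg_mem hu
    · -- square `-1`: excluded
      exfalso
      rw [neg_one_smul] at hxx
      obtain ⟨h1, hD⟩ := omega_iff_of_sq_neg_one Q hQ h2 d hd1 hcard x hx hxx
      exact hno ⟨hD, h1.mp hxΩ⟩

end two

end Cfsg.Agent.Lib.H11.OrtOd
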