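import Mathlib
import Cfsg.Agent.Lib.H11.OrtOd10
import Cfsg.Agent.Lib.H11.OrtOd4
import Cfsg.Agent.Lib.H11.OrthReal2

/-!
# Odd prime order elements of `Ω(Q)` and nondegenerate odd-dimensional subspaces, matrix version
(part 11, helper11)
-/

set_option autoImplicit false
set_option linter.unusedSectionVars false
set_option linter.unusedVariables false

namespace Cfsg.Agent.Lib.H11.OrtOd

open Module Matrix Polynomial Cfsg.Agent.Lib.H24.Elus Cfsg.Agent.Lib.H10.OrtNd
open Cfsg.Agent.Lib.H13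

section mat

variable {F : Type*} [Field F] [Fintype F] {p q : ℕ} [Fact p.Prime] [CharP F p]
  {ι : Type} [Fintype ι] [DecidableEq ι]
variable (Q : QuadraticForm F (ι → F))

theorem pow_odd_of_sq_one {z : F} (hz : z * z = 1) {r : ℕ} (hr : Odd r) : z ^ r = z := by
  obtain ⟨k, rfl⟩ := hr
  rw [pow_succ, pow_mul, pow_two, hz, one_pow, one_mul]

theorem odd_main (hF : Fintype.card F = q) {r : ℕ} [Fact r.Prime] (hrp : r ≠ p)
    (hr2 : r ≠ 2) (h2 : (2 : F) ≠ 0) (hQ : (QuadraticMap.polarBilin Q).Nondegenerate)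
    (d : ℕ) (hcard : Fintype.card ι = 2 * d) (m : ℕ) (hm : Odd m) (hmd : m < d)
    (P : Prop) (hS : (SetS Q m P).Nonempty) (hdvd : r ∣ Nat.card ↥(SetS Q m P)) :
    (∀ x : GL ι F, x ∈ Cfsg.Geo.omegaGL ⇑Q →
      (∃ z : F, ((x ^ r : GL ι F) : Matrix ι ι F) = z • (1 : Matrix ι ι F)) →
      (∀ z : F, (x : Matrix ι ι F) ≠ z • (1 : Matrix ι ι F)) →
      ∃ W : Submodule F (ι → F), (finrank F W = m ∧ NDon (PB Q) W ∧ (DSq Q W ↔ P)) ∧
        W.map (Matrix.toLin' (x : Matrix ι ι F)) ≤ W) ↔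
    (((2 * d) % cOf (orderOf (q : ZMod r)) = 0 ∧
        ¬ (PlusOn Q (⊤ : Submodule F (ι → F)) ↔
          (¬ Even (orderOf (q : ZMod r)) ∨ Even ((2 * d) / cOf (orderOf (q : ZMod r)))))) ∨
      (cOf (orderOf (q : ZMod r)) ≤ m ∧
        m % cOf (orderOf (q : ZMod r)) < (2 * d) % cOf (orderOf (q : ZMod r)))) := by
  have hr : r.Prime := Fact.out
  have hrodd : Odd r := hr.odd_of_ne_two hr2
  have hcpos : 0 < Fintype.card ι := by omega
  have hfr : finrank F (ι → F) = 2 * d := by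
    rw [Module.finrank_fintype_fun_eq_card, hcard]
  rw [← odd_main_abs Q hF hrp hr2 h2 hQ (2 * d) hfr ⟨d, by ring⟩ m hm (by omega) P hS hdvd]
  constructor
  · intro H x hxiso hx hxne
    obtain ⟨X, hX⟩ : ∃ X : Matrix ι ι F, X = LinearMap.toMatrix' x := ⟨_, rfl⟩
    have hXx : Matrix.toLin' X = x := by rw [hX, Matrix.toLin'_toMatrix']
    have hXr : X ^ r = 1 := by
      apply Matrix.toLin'.injective
      rw [Matrix.toLin'_pow, hXx, hx, Matrix.toLin'_one]
      rfl
    have hXv : ∀ v, X *ᵥ v = x v := by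
      intro v
      rw [← hXx, Matrix.toLin'_apply]
    obtain ⟨g, hg⟩ : ∃ g : GL ι F, (g : Matrix ι ι F) = X :=
      ⟨⟨X, X ^ (r - 1), by rw [← pow_succ', Nat.sub_add_cancel hr.pos, hXr],
        by rw [← pow_succ, Nat.sub_add_cancel hr.pos, hXr]⟩, rfl⟩
    have hgiso : g ∈ Cfsg.isometryGroup F ⇑Q := by
      rw [Cfsg.Agent.Lib.H13.AutPO.mem_iso_iff (Q := Q) g, hg]
      intro v
      rw [hXv, hxiso]
    have hgr : g ^ r = 1 := by
      apply Units.ext
      rw [Units.val_pow_eq_pow_val, hg, hXr]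
      rfl
    have hgΩ := Cfsg.Agent.Lib.H11.OrthReal.mem_omegaGL_of_odd_order Q hQ h2 (by omega) g hgiso r
      hrodd hgr
    have hns : ∀ z : F, (g : Matrix ι ι F) ≠ z • (1 : Matrix ι ι F) := by
      intro z hz
      rw [hg] at hz
      have h1 := scalar_sq Q hQ hcpos X (fun v => by rw [hXv, hxiso]) z hz
      have h3 : z ^ r = 1 := by
        have h4 := hXr
        rw [hz, _root_.smul_pow, one_pow] at h4
        obtain ⟨i⟩ : Nonempty ι := Fintype.card_pos_iff.mp hcpos
        have h5 := congrFun (congrFun h4 i) i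
        rw [Matrix.smul_apply, Matrix.one_apply_eq, smul_eq_mul, mul_one] at h5
        exact h5
      rw [pow_odd_of_sq_one h1 hrodd] at h3
      apply hxne
      rw [← hXx, hz, h3, one_smul, Matrix.toLin'_one]
      rfl
    obtain ⟨W, hW, hWinv⟩ := H g hgΩ ⟨1, by rw [hgr, one_smul]; rfl⟩ hns
    refine ⟨W, hW, ?_⟩
    intro v hv
    rw [hg] at hWinv
    have := invariant_of_map_le X W hWinv v hv
    rwa [hXv] at this
  · intro H x hxΩ ⟨z, hz⟩ hns
    have hx := omegaGL_le Q x hxΩ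
    have hiso := (Cfsg.Agent.Lib.H13.AutPO.mem_iso_iff (Q := Q) x).mp hx
    rw [Units.val_pow_eq_pow_val] at hz
    have hpowiso : ∀ k : ℕ, ∀ v, Q (((x : Matrix ι ι F) ^ k) *ᵥ v) = Q v := by
      intro k
      induction k with
      | zero => intro v; rw [pow_zero, Matrix.one_mulVec]
      | succ k ih =>
        intro v
        rw [pow_succ, ← Matrix.mulVec_mulVec, ih, hiso]
    have hzz : z * z = 1 := scalar_sq Q hQ hcpos _ (hpowiso r) z hz
    obtain ⟨y, hy⟩ : ∃ y : End F (ι → F), y = Matrix.toLin' (z • (x : Matrix ι ι F)) := ⟨_, rfl⟩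
    have hyv : ∀ v, y v = z • ((x : Matrix ι ι F) *ᵥ v) := by
      intro v
      rw [hy, Matrix.toLin'_apply, Matrix.smul_mulVec]
    have hyiso : ∀ v, Q (y v) = Q v := by
      intro v
      rw [hyv, QuadraticMap.map_smul, hiso, hzz, one_smul]
    have hyr : y ^ r = 1 := by
      rw [hy, ← Matrix.toLin'_pow, _root_.smul_pow, hz, smul_smul, pow_odd_of_sq_one hzz hrodd, hzz,
        one_smul, Matrix.toLin'_one]
      rfl
    have hyne : y ≠ 1 := by
      intro h1
      apply hns z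
      have h3 : z • (x : Matrix ι ι F) = 1 := by
        apply Matrix.toLin'.injective
        rw [← hy, h1, Matrix.toLin'_one]
        rfl
      have h4 : (x : Matrix ι ι F) = z • (z • (x : Matrix ι ι F)) := by
        rw [smul_smul, hzz, one_smul]
      rw [h4, h3]
    obtain ⟨W, hW, hWinv⟩ := H y hyiso hyr hyne
    refine ⟨W, hW, ?_⟩
    apply map_le_of_invariant
    intro u hu
    have h5 := W.smul_mem z (hWinv u hu)
    rw [hyv, smul_smul, hzz, one_smul] at h5
    exact h5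

end mat

end Cfsg.Agent.Lib.H11.OrtOd
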