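import Mathlib
import Cfsg.Agent.Lib.H11.Jordan9
import Cfsg.Agent.Lib.H11.OType1
import Cfsg.Prelude.Def_GeometricClasses

set_option autoImplicit false
set_option linter.unusedSectionVars false

/-!
# Unipotent isometries fixing a non-degenerate subspace

If a unipotent isometry `x` of a quadratic form (odd characteristic) of Jordan type `μ` fixes a
non-degenerate subspace `W`, then the Jordan type `ν` of `x` on `W` is a sub-multiset of `μ` in
which the even parts have even multiplicity; if all parts of `ν` equal `2`, `W` is of plus type.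
-/

namespace Cfsg.Agent.Lib.H11.OrthReal

open Module Matrix Cfsg.Agent.Lib.H11.Jordan

section restrict

variable {K : Type*} [Field K]

/-- a unipotent matrix leaving two complementary subspaces invariant: the rank type of the
restriction to the first subspace is a part of the rank type -/
theorem RankType.exists_restrict {ι : Type*} [Fintype ι] [DecidableEq ι] {u : Matrix ι ι K}
    {μ : Multiset ℕ} (h : RankType u μ) (hpos : ∀ a ∈ μ, 0 < a) (W W' : Submodule K (ι → K))
    (hc : IsCompl W W') (hW : ∀ v ∈ W, Matrix.toLin' u v ∈ W)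
    (hW' : ∀ v ∈ W', Matrix.toLin' u v ∈ W') :
    ∃ ν : Multiset ℕ, ν ≤ μ ∧ (∀ a ∈ ν, 0 < a) ∧
      RankType (LinearMap.toMatrix (Module.finBasis K W) (Module.finBasis K W)
        ((Matrix.toLin' u).restrict hW)) ν := by
  classical
  obtain ⟨f, hf⟩ : ∃ f, f = Matrix.toLin' u := ⟨_, rfl⟩
  have hWf : ∀ v ∈ W, f v ∈ W := by rw [hf]; exact hW
  have hW'f : ∀ v ∈ W', f v ∈ W' := by rw [hf]; exact hW'
  have hrestr : (Matrix.toLin' u).restrict hW = f.restrict hWf := by
    subst hf
    rfl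
  rw [hrestr]
  let f₁ : W →ₗ[K] W := f.restrict hWf
  let f₂ : W' →ₗ[K] W' := f.restrict hW'f
  let b₁ := Module.finBasis K W
  let b₂ := Module.finBasis K W'
  let e := Submodule.prodEquivOfIsCompl W W' hc
  let bV := (b₁.prod b₂).map e
  have hconj : (e.symm : (ι → K) →ₗ[K] (W × W')) ∘ₗ f ∘ₗ (e : (W × W') →ₗ[K] (ι → K)) =
      f₁.prodMap f₂ := by
    apply LinearMap.ext
    rintro ⟨x, y⟩
    rw [LinearMap.comp_apply, LinearMap.comp_apply, LinearEquiv.coe_coe, LinearEquiv.coe_coe,
      LinearEquiv.symm_apply_eq, Submodule.coe_prodEquivOfIsCompl',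
      Submodule.coe_prodEquivOfIsCompl', map_add]
    rfl
  obtain ⟨A, hA⟩ : ∃ A, A = LinearMap.toMatrix b₁ b₁ f₁ := ⟨_, rfl⟩
  obtain ⟨B, hB⟩ : ∃ B, B = LinearMap.toMatrix b₂ b₂ f₂ := ⟨_, rfl⟩
  have hM : LinearMap.toMatrix bV bV f = Matrix.fromBlocks A 0 0 B := by
    rw [toMatrix_map_basis, hconj, LinearMap.toMatrix_prodMap, hA, hB]
  have hRT : RankType (Matrix.fromBlocks A 0 0 B) μ := by
    intro i
    rw [← hM, toMatrix_sub_one_pow, rank_toMatrix_eq, hf, toLin'_sub_one_pow, ← h i]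
    rfl
  have hnil := hRT.pow_eq_zero
  rw [fromBlocks_diag_sub_one_pow] at hnil
  have hA0 : (A - 1) ^ μ.sum = 0 := by
    ext i j
    have := congrFun (congrFun hnil (Sum.inl i)) (Sum.inl j)
    simpa using this
  have hB0 : (B - 1) ^ μ.sum = 0 := by
    ext i j
    have := congrFun (congrFun hnil (Sum.inr i)) (Sum.inr j)
    simpa using this
  obtain ⟨ν, hν⟩ := exists_hasType A ⟨_, hA0⟩
  obtain ⟨ν', hν'⟩ := exists_hasType B ⟨_, hB0⟩
  have hRT' : RankType (Matrix.fromBlocks A 0 0 B) (ν + ν') := hν.rankType.fromBlocks hν'.rankType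
  have hpos' : ∀ a ∈ ν + ν', 0 < a := by
    intro a ha
    rcases Multiset.mem_add.mp ha with ha | ha
    · exact hν.pos a ha
    · exact hν'.pos a ha
  let ε := Fintype.equivFin (Fin (finrank K W) ⊕ Fin (finrank K W'))
  have h1 := (hRT.reindex ε).hasType hpos
  have h2 := (hRT'.reindex ε).hasType hpos'
  have h3 := h1.unique h2
  refine ⟨ν, ?_, hν.pos, ?_⟩
  · rw [h3]
    exact Multiset.le_add_right _ _
  · rw [← hA]
    exact hν.rankType

end restrict

section isometry

variable {F : Type*} [Field F] {ι : Type} [Fintype ι] [DecidableEq ι]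

theorem polar_isometry' (Q : QuadraticForm F (ι → F)) (x : GL ι F)
    (hx : x ∈ Cfsg.isometryGroup F ⇑Q) (u v : ι → F) :
    QuadraticMap.polar (⇑Q) (Matrix.toLin' (x : Matrix ι ι F) u)
      (Matrix.toLin' (x : Matrix ι ι F) v) = QuadraticMap.polar (⇑Q) u v := by
  have h : ∀ w : ι → F, Q (Matrix.toLin' (x : Matrix ι ι F) w) = Q w := by
    intro w
    rw [Matrix.toLin'_apply]
    exact hx w w
  unfold QuadraticMap.polar
  rw [← map_add, h, h, h]

/-- the main restriction theorem -/
theorem exists_sub_type (h2 : (2 : F) ≠ 0) (Q : QuadraticForm F (ι → F)) (x : GL ι F)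
    (hx : x ∈ Cfsg.isometryGroup F ⇑Q) {μ : Multiset ℕ}
    (hT : RankType (x : Matrix ι ι F) μ) (hpos : ∀ a ∈ μ, 0 < a) (W : Submodule F (ι → F))
    (hW : W.map (Matrix.toLin' (x : Matrix ι ι F)) ≤ W)
    (hnd : Cfsg.Geo.IsNondegenerateOn (QuadraticMap.polar (⇑Q)) W) :
    ∃ ν : Multiset ℕ, ν ≤ μ ∧ ν.sum = finrank F W ∧ (∀ a ∈ ν, 0 < a) ∧
      (∀ e, Even e → Even (ν.count e)) ∧
      ((∀ a ∈ ν, a = 2) → Cfsg.Geo.IsPlusTypeOn (⇑Q) W) := by
  classical
  obtain ⟨f, hf⟩ : ∃ f, f = Matrix.toLin' (x : Matrix ι ι F) := ⟨_, rfl⟩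
  rw [← hf] at hW
  have hpolf : ∀ u v, QuadraticMap.polar (⇑Q) (f u) (f v) = QuadraticMap.polar (⇑Q) u v := by
    intro u v
    rw [hf]
    exact polar_isometry' Q x hx u v
  -- `f` is injective
  have hfinj : Function.Injective f := by
    rw [hf]
    have hdet : IsUnit (x : Matrix ι ι F).det := (Matrix.isUnit_iff_isUnit_det _).mp x.isUnit
    exact Matrix.mulVec_injective_of_isUnit ((Matrix.isUnit_iff_isUnit_det _).mpr hdet)
  have hWeq : W.map f = W := by
    apply Submodule.eq_of_le_of_finrank_eq hW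
    exact (LinearEquiv.finrank_map_eq (LinearEquiv.ofInjectiveEndo f hfinj) W)
  have hWf : ∀ v ∈ W, f v ∈ W := fun v hv => hW (Submodule.mem_map_of_mem hv)
  -- the bilinear form
  obtain ⟨B, hB⟩ : ∃ B : LinearMap.BilinForm F (ι → F), B = QuadraticMap.polarBilin Q := ⟨_, rfl⟩
  have hBapp : ∀ u v, B u v = QuadraticMap.polar (⇑Q) u v := by
    intro u v
    rw [hB, QuadraticMap.polarBilin_apply_apply]
  have hBsymm : B.IsSymm := ⟨fun u v => by rw [hBapp, hBapp, QuadraticMap.polar_comm]⟩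
  have hBf : ∀ u v, B (f u) (f v) = B u v := by
    intro u v
    rw [hBapp, hBapp, hpolf]
  have hres : (B.restrict W).Nondegenerate := by
    constructor
    · intro w hw
      by_contra hne
      have hne' : (w : ι → F) ≠ 0 := fun h0 => hne (Subtype.ext h0)
      obtain ⟨y, hyW, hy⟩ := (hnd w w.2 hne').2
      apply hy
      have := hw ⟨y, hyW⟩
      rw [LinearMap.BilinForm.restrict_apply, LinearMap.domRestrict_apply, hBapp] at this
      exact this
    · intro w hw
      by_contra hne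
      have hne' : (w : ι → F) ≠ 0 := fun h0 => hne (Subtype.ext h0)
      obtain ⟨y, hyW, hy⟩ := (hnd w w.2 hne').1
      apply hy
      have := hw ⟨y, hyW⟩
      rw [LinearMap.BilinForm.restrict_apply, LinearMap.domRestrict_apply, hBapp] at this
      exact this
  have hcompl : IsCompl W (B.orthogonal W) :=
    LinearMap.BilinForm.isCompl_orthogonal_of_restrict_nondegenerate hBsymm.isRefl hres
  have hW'f : ∀ v ∈ B.orthogonal W, f v ∈ B.orthogonal W := by
    intro v hv
    rw [LinearMap.BilinForm.mem_orthogonal_iff] at hv ⊢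
    intro n hn
    rw [← hWeq] at hn
    obtain ⟨n', hn', rfl⟩ := hn
    rw [hBf]
    exact hv n' hn'
  have hWf' : ∀ v ∈ W, Matrix.toLin' (x : Matrix ι ι F) v ∈ W := by rw [← hf]; exact hWf
  have hW'f' : ∀ v ∈ B.orthogonal W, Matrix.toLin' (x : Matrix ι ι F) v ∈ B.orthogonal W := by
    rw [← hf]; exact hW'f
  obtain ⟨ν, hνμ, hνpos, hνT⟩ := RankType.exists_restrict hT hpos W (B.orthogonal W) hcompl
    hWf' hW'f'
  obtain ⟨f₁, hf₁⟩ : ∃ f₁ : W →ₗ[F] W, f₁ = (Matrix.toLin' (x : Matrix ι ι F)).restrict hWf' :=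
    ⟨_, rfl⟩
  rw [← hf₁] at hνT
  have hf₁app : ∀ w : W, ((f₁ w : W) : ι → F) = f w := by
    intro w
    rw [hf₁, hf]
    rfl
  obtain ⟨b₁, hb₁⟩ : ∃ b₁ : Basis (Fin (finrank F W)) F W, b₁ = Module.finBasis F W := ⟨_, rfl⟩
  rw [← hb₁] at hνT
  obtain ⟨A₁, hA₁⟩ : ∃ A₁, A₁ = LinearMap.toMatrix b₁ b₁ f₁ := ⟨_, rfl⟩
  rw [← hA₁] at hνT
  -- sum
  have hsum : ν.sum = finrank F W := by
    have := hνT 0
    rw [pow_zero, Matrix.rank_one, Fintype.card_fin] at this
    rw [this]
    simp
  -- the Gram matrix on `W`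
  obtain ⟨X, hX⟩ : ∃ X, X = LinearMap.BilinForm.toMatrix b₁ (B.restrict W) := ⟨_, rfl⟩
  have hXsymm : Xᵀ = X := by
    ext i j
    rw [Matrix.transpose_apply, hX, LinearMap.BilinForm.toMatrix_apply,
      LinearMap.BilinForm.toMatrix_apply, LinearMap.BilinForm.restrict_apply,
      LinearMap.BilinForm.restrict_apply, LinearMap.domRestrict_apply,
      LinearMap.domRestrict_apply]
    exact hBsymm.eq _ _
  have hXdet : IsUnit X.det := by
    rw [isUnit_iff_ne_zero, hX]
    exact (LinearMap.BilinForm.nondegenerate_iff_det_ne_zero b₁).mp hres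
  have hcomp : (B.restrict W).comp f₁ f₁ = B.restrict W := by
    apply LinearMap.ext₂
    intro u v
    rw [LinearMap.BilinForm.comp_apply, LinearMap.BilinForm.restrict_apply,
      LinearMap.BilinForm.restrict_apply, LinearMap.domRestrict_apply,
      LinearMap.domRestrict_apply, hf₁app, hf₁app, hBf]
  have hiso : A₁ᵀ * X * A₁ = X := by
    have := LinearMap.BilinForm.toMatrix_comp b₁ b₁ (B.restrict W) f₁ f₁
    rw [hcomp] at this
    rw [hA₁, hX]
    exact this.symm
  have hnil : IsNilpotent (A₁ - 1) := ⟨_, hνT.pow_eq_zero⟩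
  obtain ⟨U, hU⟩ : IsUnit A₁ := by
    have := hnil.isUnit_one_add
    rwa [add_sub_cancel] at this
  have hA1 : A₁ * ((U⁻¹ : (Matrix (Fin (finrank F W)) (Fin (finrank F W)) F)ˣ) :
      Matrix (Fin (finrank F W)) (Fin (finrank F W)) F) = 1 := by
    rw [← hU]
    exact U.mul_inv
  have hev : ∀ i, Even (((A₁ - 1) ^ (2 * i + 1)).rank) :=
    fun i => even_rank_of_isometry_sym X A₁ _ h2 hXsymm hXdet hA1 hiso hnil i
  refine ⟨ν, hνμ, hsum, hνpos, ?_, ?_⟩
  · intro e he
    by_cases he0 : e = 0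
    · subst he0
      have : Multiset.count 0 ν = 0 := by
        rw [Multiset.count_eq_zero]
        intro h0
        exact absurd (hνpos 0 h0) (lt_irrefl 0)
      rw [this]
      exact ⟨0, rfl⟩
    · exact count_even_of_even_ranks_odd hνT hev e he (Nat.pos_of_ne_zero he0)
  · intro hall
    -- `(f₁ - 1)^2 = 0` and `rank (f₁ - 1) = card ν`
    have hsq : (A₁ - 1) ^ 2 = 0 := by
      apply eq_zero_of_rank_eq_zero
      rw [hνT 2]
      apply Multiset.sum_eq_zero
      intro y hy
      rw [Multiset.mem_map] at hy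
      obtain ⟨a, ha, rfl⟩ := hy
      simp [hall a ha]
    have hrk : (A₁ - 1).rank = Multiset.card ν := by
      have := hνT 1
      rw [pow_one] at this
      rw [this]
      have : Multiset.map (fun a => a - 1) ν = Multiset.map (fun _ => 1) ν := by
        apply Multiset.map_congr rfl
        intro a ha
        rw [hall a ha]
      rw [this, Multiset.map_const', Multiset.sum_replicate, smul_eq_mul, mul_one]
    have hsum2 : ν.sum = 2 * Multiset.card ν := by
      have : ν = Multiset.replicate (Multiset.card ν) 2 :=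
        Multiset.eq_replicate.mpr ⟨rfl, hall⟩
      conv_lhs => rw [this]
      rw [Multiset.sum_replicate, smul_eq_mul, mul_comm]
    have hfsq : (f₁ - 1) ^ 2 = 0 := by
      have h1 := toMatrix_sub_one_pow b₁ f₁ 2
      rw [← hA₁, hsq] at h1
      have h2' : LinearMap.toMatrix b₁ b₁ ((f₁ - 1) ^ 2) = LinearMap.toMatrix b₁ b₁ 0 := by
        rw [← h1, map_zero]
      exact (LinearMap.toMatrix b₁ b₁).injective h2'
    have hfrk : finrank F (LinearMap.range (f₁ - 1)) = Multiset.card ν := by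
      rw [← hrk]
      have h1 := toMatrix_sub_one_pow b₁ f₁ 1
      rw [pow_one, pow_one, ← hA₁] at h1
      rw [h1, rank_toMatrix_eq]
    refine ⟨(LinearMap.range (f₁ - 1)).map W.subtype, ?_, ?_, ?_⟩
    · intro v hv
      obtain ⟨w, _, rfl⟩ := hv
      exact w.2
    · intro v hv
      obtain ⟨w, hw, rfl⟩ := hv
      obtain ⟨w₀, rfl⟩ := hw
      -- `u = f w₀ - w₀` is fixed by `f`
      obtain ⟨u, hu⟩ : ∃ u : W, u = (f₁ - 1) w₀ := ⟨_, rfl⟩
      rw [← hu]
      have hfu : f₁ u = u := by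
        have h1 : ((f₁ - 1) ^ 2 : W →ₗ[F] W) w₀ = 0 := by rw [hfsq]; rfl
        rw [pow_two, Module.End.mul_apply, ← hu, LinearMap.sub_apply, Module.End.one_apply,
          sub_eq_zero] at h1
        exact h1
      have hfw : f₁ w₀ = w₀ + u := by
        rw [hu, LinearMap.sub_apply, Module.End.one_apply]
        abel
      have h3 : QuadraticMap.polar (⇑Q) (u : ι → F) (w₀ : ι → F) =
          QuadraticMap.polar (⇑Q) (u : ι → F) (w₀ : ι → F) +
            QuadraticMap.polar (⇑Q) (u : ι → F) (u : ι → F) := by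
        have h4 := hpolf (u : ι → F) (w₀ : ι → F)
        rw [← hf₁app, ← hf₁app, hfu, hfw, Submodule.coe_add, QuadraticMap.polar_add_right] at h4
        exact h4.symm
      have h5 : QuadraticMap.polar (⇑Q) (u : ι → F) (u : ι → F) = 0 := by
        have := h3
        linear_combination -this
      rw [QuadraticMap.polar_self, two_smul, ← two_mul] at h5
      change Q ((W.subtype u : ι → F)) = 0
      rcases mul_eq_zero.mp h5 with h6 | h6
      · exact absurd h6 h2
      · exact h6
    · rw [Submodule.finrank_map_subtype_eq, hfrk, ← hsum, hsum2]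

end isometry

end Cfsg.Agent.Lib.H11.OrthReal
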