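import Mathlib
import Cfsg.Agent.Lib.H11.OrthReal2
import Cfsg.Agent.Lib.H11.OrthReal3

set_option autoImplicit false
set_option linter.unusedSectionVars false

/-!
# Unipotent elements of `Ω` fixing non-degenerate subspaces of a given kind: the common argument

`sub_type_of_fixed`: if every element of order `p` of `Ω(Q)` fixes a non-degenerate `m`-space of
some kind `P`, then for every unipotent isometry `x` of type `μ` (parts at most `p`, one part at
least two) there are such a space and a sub-multiset `ν ≤ μ` of sum `m` whose even parts have even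
multiplicity.  Also some multiset combinatorics used for the three orthogonal cases.
-/

namespace Cfsg.Agent.Lib.H11.OrthReal

open Module Matrix Cfsg.Agent.Lib.H11.Jordan

section fixed

variable {F : Type*} [Field F] [Fintype F] {ι : Type} [Fintype ι] [DecidableEq ι]

theorem sub_type_of_fixed (Q : QuadraticForm F (ι → F))
    (hQ : (QuadraticMap.polarBilin Q).Nondegenerate) (h2 : (2 : F) ≠ 0)
    (hcard : 2 ≤ Fintype.card ι) {p : ℕ} [Fact p.Prime] [CharP F p] (m : ℕ)
    (P : Submodule F (ι → F) → Prop)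
    (H : ∀ x : GL ι F, x ∈ Cfsg.Geo.omegaGL ⇑Q → x ^ p = 1 →
      (∀ z : F, (x : Matrix ι ι F) ≠ z • (1 : Matrix ι ι F)) →
      ∃ W : Submodule F (ι → F), (finrank F W = m ∧
        Cfsg.Geo.IsNondegenerateOn (QuadraticMap.polar ⇑Q) W ∧ P W) ∧
        W.map (Matrix.toLin' (x : Matrix ι ι F)) ≤ W)
    (x : GL ι F) (hx : x ∈ Cfsg.isometryGroup F ⇑Q) (μ : Multiset ℕ)
    (hT : RankType (x : Matrix ι ι F) μ) (hpos : ∀ a ∈ μ, 0 < a) (hle : ∀ a ∈ μ, a ≤ p)
    (hbig : ∃ a ∈ μ, 2 ≤ a) :
    ∃ (W : Submodule F (ι → F)) (ν : Multiset ℕ), P W ∧ ν ≤ μ ∧ ν.sum = m ∧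
      (∀ e, Even e → Even (ν.count e)) ∧ ((∀ a ∈ ν, a = 2) → Cfsg.Geo.IsPlusTypeOn (⇑Q) W) := by
  have hp := (Fact.out : p.Prime)
  have hp2 : p ≠ 2 := by
    rintro rfl
    apply h2
    have := CharP.cast_eq_zero F 2
    exact_mod_cast this
  have hpodd : Odd p := hp.odd_of_ne_two hp2
  have hxp : x ^ p = 1 := pow_eq_one_of_rankType x hT hle
  have hxΩ := mem_omegaGL_of_odd_order Q hQ h2 hcard x hx p hpodd hxp
  obtain ⟨W, ⟨hWm, hWnd, hWP⟩, hWx⟩ := H x hxΩ hxp (not_scalar_of_rankType _ hT hbig)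
  obtain ⟨ν, hνμ, hνsum, _, hνpar, hνplus⟩ := exists_sub_type h2 Q x hx hT hpos W hWx hWnd
  exact ⟨W, ν, hWP, hνμ, by rw [hνsum, hWm], hνpar, hνplus⟩

end fixed

section comb

/-- the case of the trivial partition -/
theorem exists_sub_of_all_ones (μ : Multiset ℕ) (hpos : ∀ a ∈ μ, 0 < a)
    (hsmall : ¬ ∃ a ∈ μ, 2 ≤ a) (m : ℕ) (hm : m ≤ μ.sum) :
    ∃ ν : Multiset ℕ, ν ≤ μ ∧ ν.sum = m ∧ ∀ e : ℕ, Even e → Even (ν.count e) := by
  push Not at hsmall
  have hall : ∀ a ∈ μ, a = 1 := by
    intro a ha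
    have h1 := hpos a ha
    have h2 := hsmall a ha
    omega
  have hμ : μ = Multiset.replicate (Multiset.card μ) 1 := Multiset.eq_replicate.mpr ⟨rfl, hall⟩
  have hsum : μ.sum = Multiset.card μ := by
    conv_lhs => rw [hμ]
    rw [Multiset.sum_replicate, smul_eq_mul, mul_one]
  refine ⟨Multiset.replicate m 1, ?_, ?_, ?_⟩
  · rw [hμ]
    apply Multiset.replicate_le_replicate 1 |>.mpr
    omega
  · rw [Multiset.sum_replicate, smul_eq_mul, mul_one]
  · intro e he
    rw [Multiset.count_replicate]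
    have : ¬ (1 = e) := by
      rintro rfl
      exact absurd he (by decide)
    rw [if_neg this]
    exact ⟨0, rfl⟩

/-- the sum of a multiset with parts in `{1, 2, 3}` -/
theorem sum_eq_counts (ν : Multiset ℕ) (h : ∀ e ∈ ν, e = 1 ∨ e = 2 ∨ e = 3) :
    ν.sum = ν.count 1 + 2 * ν.count 2 + 3 * ν.count 3 := by
  induction ν using Multiset.induction_on with
  | empty => simp
  | cons a s ih =>
    have ih' := ih (fun e he => h e (Multiset.mem_cons_of_mem he))
    rw [Multiset.sum_cons, ih', Multiset.count_cons, Multiset.count_cons, Multiset.count_cons]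
    rcases h a (Multiset.mem_cons_self a s) with rfl | rfl | rfl <;> simp <;> ring

/-- exchanging a pair of equal even parts `a, a` for `a + 1, a - 1` and back -/
theorem exchange_pair (μ₀ : Multiset ℕ) (hev : ∀ e ∈ μ₀, Even e) (a : ℕ) (ha : Even a)
    (ha2 : 2 ≤ a) (m : ℕ) (hm : Even m) (ν' : Multiset ℕ)
    (hν' : ν' ≤ (a + 1) ::ₘ (a - 1) ::ₘ μ₀) (hsum : ν'.sum = m)
    (hpar : ∀ e : ℕ, Even e → Even (ν'.count e)) :
    ∃ ν : Multiset ℕ, ν ≤ a ::ₘ a ::ₘ μ₀ ∧ ν.sum = m ∧ ∀ e : ℕ, Even e → Even (ν.count e) := by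
  have hodd1 : ¬ Even (a + 1) := by
    rw [Nat.even_add_one]
    exact not_not.mpr ha
  have hodd2 : ¬ Even (a - 1) := by
    obtain ⟨k, hk⟩ := ha
    rw [Nat.not_even_iff_odd]
    exact ⟨k - 1, by omega⟩
  have hne : a + 1 ≠ a - 1 := by omega
  have hsub_even : ∀ s : Multiset ℕ, s ≤ μ₀ → Even s.sum := by
    intro s hs
    exact even_sum_of_even (fun e he => hev e (Multiset.mem_of_le hs he))
  by_cases h1 : a + 1 ∈ ν'
  · by_cases h2 : a - 1 ∈ ν'
    · -- both: exchange
      have h2' : a - 1 ∈ ν'.erase (a + 1) := (Multiset.mem_erase_of_ne hne.symm).mpr h2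
      obtain ⟨ν'', hν''⟩ : ∃ ν'', ν'' = (ν'.erase (a + 1)).erase (a - 1) := ⟨_, rfl⟩
      have hle : ν'' ≤ μ₀ := by
        rw [hν'']
        have e1 := Multiset.erase_le_erase (a + 1) hν'
        rw [Multiset.erase_cons_head] at e1
        have e2 := Multiset.erase_le_erase (a - 1) e1
        rwa [Multiset.erase_cons_head] at e2
      have hs : ν'.sum = (a + 1) + ((a - 1) + ν''.sum) := by
        rw [hν'', Multiset.sum_erase h2', Multiset.sum_erase h1]
      refine ⟨a ::ₘ a ::ₘ ν'', ?_, ?_, ?_⟩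
      · exact Multiset.cons_le_cons a (Multiset.cons_le_cons a hle)
      · rw [Multiset.sum_cons, Multiset.sum_cons, ← hsum, hs]
        omega
      · intro e he
        have hc : Multiset.count e ν'' = Multiset.count e ν' := by
          rw [hν'', Multiset.count_erase_of_ne, Multiset.count_erase_of_ne]
          · rintro rfl
            exact hodd1 he
          · rintro rfl
            exact hodd2 he
        rw [Multiset.count_cons, Multiset.count_cons, hc]
        obtain ⟨k, hk⟩ := hpar e he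
        by_cases hea : e = a
        · rw [if_pos hea]
          exact ⟨k + 1, by omega⟩
        · rw [if_neg hea]
          exact ⟨k, by omega⟩
    · -- only `a + 1`: parity contradiction
      exfalso
      have e1 := Multiset.erase_le_erase (a + 1) hν'
      rw [Multiset.erase_cons_head] at e1
      have h2' : a - 1 ∉ ν'.erase (a + 1) := fun h => h2 (Multiset.mem_of_mem_erase h)
      have e2 := (Multiset.le_cons_of_notMem h2').mp e1
      have h3 := hsub_even _ e2
      have h4 := Multiset.sum_erase h1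
      rw [hsum] at h4
      obtain ⟨k, hk⟩ := h3
      obtain ⟨j, hj⟩ := hm
      obtain ⟨i, hi⟩ := ha
      omega
  · by_cases h2 : a - 1 ∈ ν'
    · exfalso
      have hν'2 : ν' ≤ (a - 1) ::ₘ μ₀ := (Multiset.le_cons_of_notMem h1).mp hν'
      have e1 := Multiset.erase_le_erase (a - 1) hν'2
      rw [Multiset.erase_cons_head] at e1
      have h3 := hsub_even _ e1
      have h4 := Multiset.sum_erase h2
      rw [hsum] at h4
      obtain ⟨k, hk⟩ := h3
      obtain ⟨j, hj⟩ := hm
      obtain ⟨i, hi⟩ := ha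
      omega
    · -- neither
      have hν'2 : ν' ≤ (a - 1) ::ₘ μ₀ := (Multiset.le_cons_of_notMem h1).mp hν'
      have hν'3 : ν' ≤ μ₀ := (Multiset.le_cons_of_notMem h2).mp hν'2
      refine ⟨ν', ?_, hsum, hpar⟩
      exact hν'3.trans ((Multiset.le_cons_self _ _).trans (Multiset.le_cons_self _ _))

end comb

end Cfsg.Agent.Lib.H11.OrthReal
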