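import Mathlib
import Cfsg.Agent.Lib.H11.OrthReal4
import Cfsg.Agent.S0287

/-!
# Elements of order `p` of `Ω⁺_{2d}(q)` fixing no nondegenerate subspace of odd dimension
(part 12, helper11)
-/

set_option autoImplicit false
set_option linter.unusedSectionVars false
set_option linter.unusedVariables false

namespace Cfsg.Agent.Lib.H11.OrtOd

open Module Matrix

section pcase

variable {F : Type*} [Field F] [Fintype F] {p : ℕ} [Fact p.Prime] [CharP F p]

/-- sub-multisets of `2^a 1^2` with odd sum and even multiplicity of `2` have sum `≡ 1 mod 4` -/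
theorem sub_211 (a m : ℕ) (hm : Odd m) (ν : Multiset ℕ)
    (hν : ν ≤ Multiset.replicate a 2 + {1} + {1}) (hsum : ν.sum = m)
    (hpar : ∀ e : ℕ, Even e → Even (ν.count e)) : m % 4 = 1 := by
  have hmem : ∀ e ∈ ν, e = 1 ∨ e = 2 ∨ e = 3 := by
    intro e he
    have he' := Multiset.mem_of_le hν he
    rw [Multiset.mem_add, Multiset.mem_add, Multiset.mem_singleton] at he'
    rcases he' with (he' | he') | he'
    · exact Or.inr (Or.inl (Multiset.eq_of_mem_replicate he'))
    · exact Or.inl he'
    · exact Or.inl he'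
  have hs := Cfsg.Agent.Lib.H11.OrthReal.sum_eq_counts ν hmem
  have h1 : Multiset.count 1 ν ≤ 2 := by
    have h1 := Multiset.count_le_of_le 1 hν
    rw [Multiset.count_add, Multiset.count_add, Multiset.count_replicate,
      Multiset.count_singleton] at h1
    split_ifs at h1 <;> omega
  have h3 : Multiset.count 3 ν = 0 := by
    have h3 := Multiset.count_le_of_le 3 hν
    rw [Multiset.count_add, Multiset.count_add, Multiset.count_replicate,
      Multiset.count_singleton] at h3
    split_ifs at h3 <;> omega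
  obtain ⟨j, hj⟩ := hpar 2 (by decide)
  obtain ⟨i, hi⟩ := hm
  omega

/-- sub-multisets of `2^a 3^2` with odd sum and even multiplicity of `2` have sum `≡ 3 mod 4` -/
theorem sub_233 (a m : ℕ) (hm : Odd m) (ν : Multiset ℕ)
    (hν : ν ≤ Multiset.replicate a 2 + {3} + {3}) (hsum : ν.sum = m)
    (hpar : ∀ e : ℕ, Even e → Even (ν.count e)) : m % 4 = 3 := by
  have hmem : ∀ e ∈ ν, e = 1 ∨ e = 2 ∨ e = 3 := by
    intro e he
    have he' := Multiset.mem_of_le hν he
    rw [Multiset.mem_add, Multiset.mem_add, Multiset.mem_singleton] at he'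
    rcases he' with (he' | he') | he'
    · exact Or.inr (Or.inl (Multiset.eq_of_mem_replicate he'))
    · exact Or.inr (Or.inr he')
    · exact Or.inr (Or.inr he')
  have hs := Cfsg.Agent.Lib.H11.OrthReal.sum_eq_counts ν hmem
  have h3 : Multiset.count 3 ν ≤ 2 := by
    have h3 := Multiset.count_le_of_le 3 hν
    rw [Multiset.count_add, Multiset.count_add, Multiset.count_replicate,
      Multiset.count_singleton] at h3
    split_ifs at h3 <;> omega
  have h1 : Multiset.count 1 ν = 0 := by
    have h1 := Multiset.count_le_of_le 1 hν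
    rw [Multiset.count_add, Multiset.count_add, Multiset.count_replicate,
      Multiset.count_singleton] at h1
    split_ifs at h1 <;> omega
  obtain ⟨j, hj⟩ := hpar 2 (by decide)
  obtain ⟨i, hi⟩ := hm
  omega

/-- sub-multisets of `2^a` have even sum -/
theorem sub_2 (a m : ℕ) (hm : Odd m) (ν : Multiset ℕ)
    (hν : ν ≤ Multiset.replicate a 2) (hsum : ν.sum = m) : False := by
  have hmem : ∀ e ∈ ν, e = 1 ∨ e = 2 ∨ e = 3 := by
    intro e he
    exact Or.inr (Or.inl (Multiset.eq_of_mem_replicate (Multiset.mem_of_le hν he)))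
  have hs := Cfsg.Agent.Lib.H11.OrthReal.sum_eq_counts ν hmem
  have h1 : Multiset.count 1 ν = 0 := by
    have h1 := Multiset.count_le_of_le 1 hν
    rw [Multiset.count_replicate] at h1
    split_ifs at h1 <;> omega
  have h3 : Multiset.count 3 ν = 0 := by
    have h3 := Multiset.count_le_of_le 3 hν
    rw [Multiset.count_replicate] at h3
    split_ifs at h3 <;> omega
  obtain ⟨i, hi⟩ := hm
  omega

theorem count_211 (a : ℕ) (ha : Even a) (e : ℕ) (he : Even e) :
    Even ((Multiset.replicate a 2 + {1} + {1}).count e) := by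
  rw [Multiset.count_add, Multiset.count_add, Multiset.count_replicate,
    Multiset.count_singleton]
  have h1 : ¬ (e = 1) := by
    rintro rfl
    exact absurd he (by decide)
  rw [if_neg h1, add_zero, add_zero]
  split_ifs
  · exact ha
  · exact ⟨0, rfl⟩

theorem count_233 (a : ℕ) (ha : Even a) (e : ℕ) (he : Even e) :
    Even ((Multiset.replicate a 2 + {3} + {3}).count e) := by
  rw [Multiset.count_add, Multiset.count_add, Multiset.count_replicate,
    Multiset.count_singleton]
  have h1 : ¬ (e = 3) := by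
    rintro rfl
    exact absurd he (by decide)
  rw [if_neg h1, add_zero, add_zero]
  split_ifs
  · exact ha
  · exact ⟨0, rfl⟩

/-- for `r = p` some element of order `p` of `Ω⁺_{2d}(q)` fixes no nondegenerate `m`-space, `m`
odd -/
theorem p_case_plus (h2 : (2 : F) ≠ 0) (d m : ℕ) (hd : 4 ≤ d) (hm : Odd m)
    (P : Submodule F (Fin d ⊕ Fin d → F) → Prop)
    (H : ∀ x : GL (Fin d ⊕ Fin d) F,
      x ∈ Cfsg.Geo.omegaGL ⇑(Cfsg.Agent.Lib.H13.plusQF F d) → x ^ p = 1 →
      (∀ z : F, (x : Matrix (Fin d ⊕ Fin d) (Fin d ⊕ Fin d) F) ≠ z • 1) →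
      ∃ W : Submodule F (Fin d ⊕ Fin d → F), (finrank F W = m ∧
        Cfsg.Geo.IsNondegenerateOn (QuadraticMap.polar ⇑(Cfsg.Agent.Lib.H13.plusQF F d)) W ∧
          P W) ∧
        W.map (Matrix.toLin' (x : Matrix (Fin d ⊕ Fin d) (Fin d ⊕ Fin d) F)) ≤ W) : False := by
  classical
  have hp := (Fact.out : p.Prime)
  have hp2 : p ≠ 2 := by
    rintro rfl
    apply h2
    have := CharP.cast_eq_zero F 2
    exact_mod_cast this
  have hp3 : 3 ≤ p := by
    have := hp.two_le
    omega
  have hcard : 2 ≤ Fintype.card (Fin d ⊕ Fin d) := by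
    rw [Fintype.card_sum, Fintype.card_fin]
    omega
  have key : ∀ μ : Multiset ℕ, (∀ e ∈ μ, 0 < e ∧ e ≤ p) →
      (∀ e : ℕ, Even e → Even (μ.count e)) → μ.sum = 2 * d → (∃ e ∈ μ, 2 ≤ e) →
      ∃ ν : Multiset ℕ, ν ≤ μ ∧ ν.sum = m ∧ (∀ e : ℕ, Even e → Even (ν.count e)) := by
    intro μ hμ hpar hsum hbig
    have hpos : ∀ a ∈ μ, 0 < a := fun a ha => (hμ a ha).1
    have hle : ∀ a ∈ μ, a ≤ p := fun a ha => (hμ a ha).2
    obtain ⟨x, hx, hT⟩ := Cfsg.Agent.Lib.H11.OrthReal.exists_plus (F := F) h2 d μ hpos hpar hsum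
    rw [← Cfsg.Agent.S0287.coe_plusQF] at hx
    obtain ⟨W, ν, hWP, hνμ, hνsum, hνpar, hνplus⟩ :=
      Cfsg.Agent.Lib.H11.OrthReal.sub_type_of_fixed (Cfsg.Agent.Lib.H13.plusQF F d)
        (Cfsg.Agent.S0287.nondeg d) h2 hcard m P H x hx μ hT hpos hle hbig
    exact ⟨ν, hνμ, hνsum, hνpar⟩
  rcases Nat.even_or_odd d with hd2 | hd2
  · -- `d` even: type `2^d`
    obtain ⟨ν, hνμ, hνsum, -⟩ := key (Multiset.replicate d 2)
      (by
        intro e he
        rw [Multiset.eq_of_mem_replicate he]
        omega)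
      (by
        intro e he
        rw [Multiset.count_replicate]
        split_ifs
        · exact hd2
        · exact ⟨0, rfl⟩)
      (by rw [Multiset.sum_replicate, smul_eq_mul]; ring)
      ⟨2, by rw [Multiset.mem_replicate]; exact ⟨by omega, rfl⟩, le_refl 2⟩
    exact sub_2 d m hm ν hνμ hνsum
  · -- `d` odd
    have hd1 : Even (d - 1) := by
      obtain ⟨l, hl⟩ := hd2
      exact ⟨l, by omega⟩
    have hd3 : Even (d - 3) := by
      obtain ⟨l, hl⟩ := hd2
      exact ⟨l - 1, by omega⟩
    obtain ⟨ν, hνμ, hνsum, hνpar⟩ := key (Multiset.replicate (d - 1) 2 + {1} + {1})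
      (by
        intro e he
        rw [Multiset.mem_add, Multiset.mem_add, Multiset.mem_singleton] at he
        rcases he with (he | he) | he
        · rw [Multiset.eq_of_mem_replicate he]; omega
        · rw [he]; omega
        · rw [he]; omega)
      (count_211 (d - 1) hd1)
      (by
        rw [Multiset.sum_add, Multiset.sum_add, Multiset.sum_replicate, Multiset.sum_singleton,
          smul_eq_mul]
        omega)
      ⟨2, by simp [Multiset.mem_replicate]; omega, le_refl 2⟩
    have h1 := sub_211 (d - 1) m hm ν hνμ hνsum hνpar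
    obtain ⟨ν', hνμ', hνsum', hνpar'⟩ := key (Multiset.replicate (d - 3) 2 + {3} + {3})
      (by
        intro e he
        rw [Multiset.mem_add, Multiset.mem_add, Multiset.mem_singleton] at he
        rcases he with (he | he) | he
        · rw [Multiset.eq_of_mem_replicate he]; omega
        · rw [he]; omega
        · rw [he]; omega)
      (count_233 (d - 3) hd3)
      (by
        rw [Multiset.sum_add, Multiset.sum_add, Multiset.sum_replicate, Multiset.sum_singleton,
          smul_eq_mul]
        omega)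
      ⟨3, by simp, by omega⟩
    have h3 := sub_233 (d - 3) m hm ν' hνμ' hνsum' hνpar'
    omega

end pcase

end Cfsg.Agent.Lib.H11.OrtOd
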