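import Mathlib
import Cfsg.Agent.Lib.H11.OrtOd11
import Cfsg.Agent.S0286

/-!
# Assembly of the prime-order criterion for nondegenerate odd-dimensional subspaces
(part 13, helper11)
-/

set_option autoImplicit false
set_option linter.unusedSectionVars false
set_option linter.unusedVariables false

namespace Cfsg.Agent.Lib.H11.OrtOd

open Module Matrix Polynomial Cfsg.Agent.Lib.H24.Elus Cfsg.Agent.Lib.H10.OrtNd
open Cfsg.Agent.Lib.H13

section asm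

variable {F : Type*} [Field F] [Fintype F] {p q : ℕ} [Fact p.Prime] [CharP F p]
  {ι : Type} [Fintype ι] [DecidableEq ι]
variable (Q : QuadraticForm F (ι → F))

theorem mem_SetS_iff (h2 : (2 : F) ≠ 0) (m : ℕ) (hm : Odd m) (W₀ : Submodule F (ι → F))
    (hW₀ : finrank F W₀ = m ∧ Cfsg.Geo.IsNondegenerateOn (QuadraticMap.polar ⇑Q) W₀)
    (W : Submodule F (ι → F)) :
    (finrank F W = m ∧ Cfsg.Geo.IsNondegenerateOn (QuadraticMap.polar ⇑Q) W ∧
      Cfsg.Geo.AreIsometricFor ⇑Q W W₀) ↔ W ∈ SetS Q m (DSq Q W₀) := by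
  constructor
  · rintro ⟨h1, h3, e, he⟩
    exact ⟨h1, (NDon_iff_geo Q W).mp h3, DSq_of_iso Q e he⟩
  · rintro ⟨h1, h3, h4⟩
    obtain ⟨k, hk⟩ := hm
    refine ⟨h1, (NDon_iff_geo Q W).mpr h3, ?_⟩
    exact isometric_of_DSq_odd Q h2 h3 ((NDon_iff_geo Q W₀).mp hW₀.2) k (by rw [h1, hk])
      (by rw [hW₀.1, hk]) h4

theorem main_assembly (hF : Fintype.card F = q) (hqodd : Odd q)
    (hQ : (QuadraticMap.polarBilin Q).Nondegenerate)
    (d : ℕ) (hcard : Fintype.card ι = 2 * d) (m : ℕ) (hm : Odd m) (hmd : m < d)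
    (W₀ : Submodule F (ι → F))
    (hW₀ : finrank F W₀ = m ∧ Cfsg.Geo.IsNondegenerateOn (QuadraticMap.polar ⇑Q) W₀)
    (r : ℕ) [Fact r.Prime]
    (hrΩ : r ∣ Nat.card {W : Submodule F (ι → F) // finrank F W = m ∧
      Cfsg.Geo.IsNondegenerateOn (QuadraticMap.polar ⇑Q) W ∧ Cfsg.Geo.AreIsometricFor ⇑Q W W₀})
    (hpcase : r = p → ¬ (∀ x : GL ι F, x ∈ Cfsg.Geo.omegaGL ⇑Q →
      (∃ z : F, ((x ^ r : GL ι F) : Matrix ι ι F) = z • (1 : Matrix ι ι F)) →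
      (∀ z : F, (x : Matrix ι ι F) ≠ z • (1 : Matrix ι ι F)) →
      ∃ W : Submodule F (ι → F), (finrank F W = m ∧
        Cfsg.Geo.IsNondegenerateOn (QuadraticMap.polar ⇑Q) W ∧
        Cfsg.Geo.AreIsometricFor ⇑Q W W₀) ∧ W.map (Matrix.toLin' (x : Matrix ι ι F)) ≤ W)) :
    (∀ x : GL ι F, x ∈ Cfsg.Geo.omegaGL ⇑Q →
      (∃ z : F, ((x ^ r : GL ι F) : Matrix ι ι F) = z • (1 : Matrix ι ι F)) →
      (∀ z : F, (x : Matrix ι ι F) ≠ z • (1 : Matrix ι ι F)) →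
      ∃ W : Submodule F (ι → F), (finrank F W = m ∧
        Cfsg.Geo.IsNondegenerateOn (QuadraticMap.polar ⇑Q) W ∧
        Cfsg.Geo.AreIsometricFor ⇑Q W W₀) ∧ W.map (Matrix.toLin' (x : Matrix ι ι F)) ≤ W) ↔
    ((r = 2 ∧ ¬ (DSq Q ⊤ ∧ IsSquare ((2 : F) ^ d))) ∨
      (r ≠ p ∧ 2 < r ∧
        (((2 * d) % cOf (orderOf (q : ZMod r)) = 0 ∧
          ¬ (PlusOn Q (⊤ : Submodule F (ι → F)) ↔
            (¬ Even (orderOf (q : ZMod r)) ∨ Even ((2 * d) / cOf (orderOf (q : ZMod r)))))) ∨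
        (cOf (orderOf (q : ZMod r)) ≤ m ∧
          m % cOf (orderOf (q : ZMod r)) < (2 * d) % cOf (orderOf (q : ZMod r)))))) := by
  classical
  have h2 : (2 : F) ≠ 0 := Cfsg.Agent.S0286.two_ne_zero_of_odd (by rw [hF]; exact hqodd)
  have hr : r.Prime := Fact.out
  have hp : p.Prime := Fact.out
  have hp2 : p ≠ 2 := by
    rintro rfl
    apply h2
    have := CharP.cast_eq_zero F 2
    exact_mod_cast this
  have hiff := mem_SetS_iff Q h2 m hm W₀ hW₀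
  have hS : (SetS Q m (DSq Q W₀)).Nonempty :=
    ⟨W₀, (hiff W₀).mp ⟨hW₀.1, hW₀.2, LinearEquiv.refl F _, fun _ => rfl⟩⟩
  have hdvd : r ∣ Nat.card ↥(SetS Q m (DSq Q W₀)) := by
    have : Nat.card {W : Submodule F (ι → F) // finrank F W = m ∧
        Cfsg.Geo.IsNondegenerateOn (QuadraticMap.polar ⇑Q) W ∧
        Cfsg.Geo.AreIsometricFor ⇑Q W W₀} = Nat.card ↥(SetS Q m (DSq Q W₀)) :=
      Nat.card_congr (Equiv.subtypeEquivRight hiff)
    rw [← this]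
    exact hrΩ
  have hconv : (∀ x : GL ι F, x ∈ Cfsg.Geo.omegaGL ⇑Q →
      (∃ z : F, ((x ^ r : GL ι F) : Matrix ι ι F) = z • (1 : Matrix ι ι F)) →
      (∀ z : F, (x : Matrix ι ι F) ≠ z • (1 : Matrix ι ι F)) →
      ∃ W : Submodule F (ι → F), (finrank F W = m ∧
        Cfsg.Geo.IsNondegenerateOn (QuadraticMap.polar ⇑Q) W ∧
        Cfsg.Geo.AreIsometricFor ⇑Q W W₀) ∧ W.map (Matrix.toLin' (x : Matrix ι ι F)) ≤ W) ↔
      (∀ x : GL ι F, x ∈ Cfsg.Geo.omegaGL ⇑Q →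
      (∃ z : F, ((x ^ r : GL ι F) : Matrix ι ι F) = z • (1 : Matrix ι ι F)) →
      (∀ z : F, (x : Matrix ι ι F) ≠ z • (1 : Matrix ι ι F)) →
      ∃ W : Submodule F (ι → F), (finrank F W = m ∧ NDon (PB Q) W ∧ (DSq Q W ↔ DSq Q W₀)) ∧
        W.map (Matrix.toLin' (x : Matrix ι ι F)) ≤ W) := by
    constructor
    · intro H x h1 h3 h4
      obtain ⟨W, hW, hWinv⟩ := H x h1 h3 h4
      exact ⟨W, (hiff W).mp hW, hWinv⟩
    · intro H x h1 h3 h4
      obtain ⟨W, hW, hWinv⟩ := H x h1 h3 h4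
      exact ⟨W, (hiff W).mpr hW, hWinv⟩
  by_cases hr2 : r = 2
  · subst hr2
    rw [hconv, two_main Q hQ h2 d hcard m hm hmd (DSq Q W₀)]
    constructor
    · intro h
      exact Or.inl ⟨rfl, h⟩
    · rintro (⟨-, h⟩ | ⟨-, h, -⟩)
      · exact h
      · exact absurd h (lt_irrefl 2)
  · by_cases hrp : r = p
    · constructor
      · intro H
        exact absurd H (hpcase hrp)
      · rintro (⟨h, -⟩ | ⟨h, -⟩)
        · exact absurd h hr2
        · exact absurd hrp h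
    · have hr3 : 2 < r := by
        have := hr.two_le
        omega
      rw [hconv, odd_main Q hF hrp hr2 h2 hQ d hcard m hm hmd (DSq Q W₀) hS hdvd]
      constructor
      · intro h
        exact Or.inr ⟨hrp, hr3, h⟩
      · rintro (⟨h, -⟩ | ⟨-, -, h⟩)
        · exact absurd h hr2
        · exact h

end asm

end Cfsg.Agent.Lib.H11.OrtOd
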