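import Mathlib
import Cfsg.Agent.Lib.H11.OrtOd9

/-!
# Unipotent isometries with one Jordan block of size three and one of size one: discriminants of
invariant nondegenerate odd-dimensional subspaces (part 14, helper11)
-/

set_option autoImplicit false
set_option linter.unusedSectionVars false
set_option linter.unusedVariables false

namespace Cfsg.Agent.Lib.H11.OrtOd

open Module Cfsg.Agent.Lib.H24.Elus Cfsg.Agent.Lib.H10.OrtNd

section basic

variable {F : Type*} [Field F] {V : Type*} [AddCommGroup V] [Module F V]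
variable (Q : QuadraticForm F V)

/-- a family with invertible Gram matrix is linearly independent -/
theorem li_of_gram_det {ι : Type*} [Fintype ι] [DecidableEq ι] (v : ι → V)
    (h : (gram Q v).det ≠ 0) : LinearIndependent F v := by
  rw [Fintype.linearIndependent_iff]
  intro c hc
  have h1 : (gram Q v).mulVec c = 0 := by
    ext i
    rw [Matrix.mulVec, dotProduct]
    simp only [Cfsg.Agent.Lib.H10.OrtNd.gram_apply, Pi.zero_apply]
    have h3 : ∑ j, PB Q (v i) (v j) * c j = PB Q (v i) (∑ j, c j • v j) := by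
      rw [map_sum]
      apply Finset.sum_congr rfl
      intro j _
      rw [map_smul, smul_eq_mul, mul_comm]
    rw [h3, hc, map_zero]
  have h3 := Matrix.eq_zero_of_mulVec_eq_zero h h1
  intro i
  exact congrFun h3 i

theorem NDon_of_restrict_nondegenerate {W : Submodule F V}
    (h : ((PB Q).restrict W).Nondegenerate) : NDon (PB Q) W := by
  intro u hu h0
  have := h.1 ⟨u, hu⟩ (fun w => h0 w w.2)
  exact congrArg Subtype.val this

/-- a family with invertible Gram matrix spans a nondegenerate subspace -/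
theorem NDon_span_of_gram_det [FiniteDimensional F V] {ι : Type*} [Fintype ι] [DecidableEq ι]
    (v : ι → V) (h : (gram Q v).det ≠ 0) : NDon (PB Q) (Submodule.span F (Set.range v)) := by
  have hli := li_of_gram_det Q v h
  apply NDon_of_restrict_nondegenerate
  rw [LinearMap.BilinForm.nondegenerate_iff_det_ne_zero (famBasis hli rfl), toMatrix_famBasis]
  exact h

end basic

section uni

variable {F : Type*} [Field F] [Fintype F] {V : Type*} [AddCommGroup V] [Module F V]
  [Module.Finite F V]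
variable (Q : QuadraticForm F V)

/-- the data of a unipotent isometry `x = 1 + N` with `N³ = 0`, `N² = κ B(·, e) e` and
`dim ker N ≤ dim (ker N ∩ im N) + 1` -/
structure UniData (x : End F V) (e : V) (κ : F) : Prop where
  iso : ∀ v, Q (x v) = Q v
  N3 : ∀ v, (x - 1) ((x - 1) ((x - 1) v)) = 0
  N2 : ∀ v, (x - 1) ((x - 1) v) = (κ * PB Q v e) • e
  κ0 : κ ≠ 0
  e0 : e ≠ 0
  kr : finrank F ↥(LinearMap.ker (x - 1)) ≤
    finrank F ↥(LinearMap.ker (x - 1) ⊓ LinearMap.range (x - 1)) + 1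

variable {Q}

theorem uni_star {x : End F V} (hiso : ∀ v, Q (x v) = Q v) (u v : V) :
    PB Q ((x - 1) u) v = -PB Q u ((x - 1) v) - PB Q ((x - 1) u) ((x - 1) v) := by
  have h1 := polar_iso_of_iso Q hiso u v
  have hxu : x u = u + (x - 1) u := by
    rw [LinearMap.sub_apply, Module.End.one_apply]; abel
  have hxv : x v = v + (x - 1) v := by
    rw [LinearMap.sub_apply, Module.End.one_apply]; abel
  rw [hxu, hxv, map_add, map_add, LinearMap.add_apply, LinearMap.add_apply] at h1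
  linear_combination h1

theorem uni_NN {x : End F V} (hiso : ∀ v, Q (x v) = Q v)
    (hN3 : ∀ v, (x - 1) ((x - 1) ((x - 1) v)) = 0) (u v : V) :
    PB Q ((x - 1) u) ((x - 1) v) = -PB Q u ((x - 1) ((x - 1) v)) := by
  have h1 := uni_star hiso u ((x - 1) v)
  have h3 := uni_star hiso u ((x - 1) ((x - 1) v))
  rw [hN3, map_zero, map_zero] at h3
  rw [h3] at h1
  linear_combination h1

theorem uni_adj {x : End F V} (hiso : ∀ v, Q (x v) = Q v)
    (hN3 : ∀ v, (x - 1) ((x - 1) ((x - 1) v)) = 0) (u v : V) :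
    PB Q ((x - 1) u) v = -PB Q u ((x - 1) v) + PB Q u ((x - 1) ((x - 1) v)) := by
  rw [uni_star hiso, uni_NN hiso hN3]
  ring

/-- `B(N² u, v) = B(u, N² v)` -/
theorem uni_sq_symm {x : End F V} (hiso : ∀ v, Q (x v) = Q v)
    (hN3 : ∀ v, (x - 1) ((x - 1) ((x - 1) v)) = 0) (u v : V) :
    PB Q ((x - 1) ((x - 1) u)) v = PB Q u ((x - 1) ((x - 1) v)) := by
  rw [uni_adj hiso hN3 ((x - 1) u) v, uni_NN hiso hN3 u v,
    uni_NN hiso hN3 u ((x - 1) v), hN3, map_zero]
  ring

theorem UniData.star {x : End F V} {e : V} {κ : F} (h : UniData Q x e κ) (u v : V) :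
    PB Q ((x - 1) u) v = -PB Q u ((x - 1) v) - PB Q ((x - 1) u) ((x - 1) v) :=
  uni_star h.iso u v

theorem UniData.NN {x : End F V} {e : V} {κ : F} (h : UniData Q x e κ) (u v : V) :
    PB Q ((x - 1) u) ((x - 1) v) = -PB Q u ((x - 1) ((x - 1) v)) :=
  uni_NN h.iso h.N3 u v

theorem UniData.adj {x : End F V} {e : V} {κ : F} (h : UniData Q x e κ) (u v : V) :
    PB Q ((x - 1) u) v = -PB Q u ((x - 1) v) + PB Q u ((x - 1) ((x - 1) v)) :=
  uni_adj h.iso h.N3 u v

/-- invariance of the orthogonal complement of an invariant subspace -/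
theorem orth_invariant {x : End F V} (hiso : ∀ v, Q (x v) = Q v) {p : ℕ} (hp : 0 < p)
    (hxp : x ^ p = 1) (U : Submodule F V) (hU : ∀ v ∈ U, x v ∈ U) :
    ∀ v ∈ (PB Q).orthogonal U, x v ∈ (PB Q).orthogonal U := by
  intro v hv a ha
  have ha1 : (x ^ (p - 1)) a ∈ U := by
    have : ∀ k : ℕ, (x ^ k) a ∈ U := by
      intro k
      induction k with
      | zero => exact ha
      | succ k ih => rw [pow_succ', Module.End.mul_apply]; exact hU _ ih
    exact this _
  have h5 : x ((x ^ (p - 1)) a) = a := pow_pred_mul hp hxp a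
  rw [← h5, polar_iso_of_iso Q hiso]
  exact hv _ ha1

theorem UniData.gram3 {x : End F V} {e : V} {κ : F} (h : UniData Q x e κ) (u : V) :
    gram Q ![u, (x - 1) u, (x - 1) ((x - 1) u)] =
      !![PB Q u u, PB Q u ((x - 1) u), κ * PB Q u e ^ 2;
        PB Q u ((x - 1) u), -(κ * PB Q u e ^ 2), 0;
        κ * PB Q u e ^ 2, 0, 0] := by
  have h13 : PB Q u ((x - 1) ((x - 1) u)) = κ * PB Q u e ^ 2 := by
    rw [h.N2, map_smul, smul_eq_mul]; ring
  have h22 : PB Q ((x - 1) u) ((x - 1) u) = -(κ * PB Q u e ^ 2) := by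
    rw [h.NN, h13]
  have h23 : PB Q ((x - 1) u) ((x - 1) ((x - 1) u)) = 0 := by
    rw [h.NN, h.N3, map_zero, neg_zero]
  have h33 : PB Q ((x - 1) ((x - 1) u)) ((x - 1) ((x - 1) u)) = 0 := by
    rw [h.NN, h.N3, map_zero, neg_zero]
  ext i j
  fin_cases i <;> fin_cases j
  · rfl
  · rfl
  · exact h13
  · exact PB_symm Q _ _
  · exact h22
  · exact h23
  · exact (PB_symm Q _ _).trans h13
  · exact (PB_symm Q _ _).trans h23
  · exact h33

theorem det3x (a b c d : F) :
    (!![a, b, c; b, d, 0; c, 0, 0] : Matrix (Fin 3) (Fin 3) F).det = -(c * d * c) := by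
  rw [Matrix.det_fin_three]
  simp

theorem UniData.det3 {x : End F V} {e : V} {κ : F} (h : UniData Q x e κ) (u : V) :
    (gram Q ![u, (x - 1) u, (x - 1) ((x - 1) u)]).det = (κ * PB Q u e ^ 2) ^ 3 := by
  rw [h.gram3, det3x]
  ring

/-- a subspace on which `N` acts with square zero, `ker = im`-defect at most one and even
dimension: it is of plus type, with `dim = 2 t`, `t` even -/
theorem UniData.plus_part {x : End F V} {e : V} {κ : F} (h : UniData Q x e κ) (h2 : (2 : F) ≠ 0)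
    {p : ℕ} (hp : 0 < p) (hxp : x ^ p = 1) (U : Submodule F V) (hUinv : ∀ v ∈ U, x v ∈ U)
    (hU : NDon (PB Q) U) (hUe : ∀ v ∈ U, PB Q v e = 0) (hev : Even (finrank F U)) :
    ∃ t, finrank F U = 2 * t ∧ Even t ∧ PlusOn Q U := by
  classical
  obtain ⟨N, hN⟩ : ∃ N : End F V, N = x - 1 := ⟨_, rfl⟩
  have hNU : ∀ v ∈ U, N v ∈ U := by
    intro v hv
    rw [hN, LinearMap.sub_apply, Module.End.one_apply]
    exact U.sub_mem (hUinv v hv) hv
  have hNN0 : ∀ v ∈ U, N (N v) = 0 := by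
    intro v hv
    rw [hN, h.N2, hUe v hv, mul_zero, zero_smul]
  obtain ⟨T, hT⟩ : ∃ T, T = U.map N := ⟨_, rfl⟩
  have hTU : T ≤ U := by
    rw [hT]
    rintro _ ⟨v, hv, rfl⟩
    exact hNU v hv
  have hTS : TS Q T := by
    rw [hT]
    rintro _ ⟨v, hv, rfl⟩
    have h1 : PB Q (N v) (N v) = 0 := by
      rw [hN, h.NN, ← hN, hNN0 v hv, map_zero, neg_zero]
    rw [PB_self] at h1
    exact (mul_eq_zero.mp h1).resolve_left h2
  obtain ⟨A, hA⟩ : ∃ A, A = U ⊓ LinearMap.ker N := ⟨_, rfl⟩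
  have hTA : T ≤ A := by
    rw [hA, hT]
    rintro _ ⟨v, hv, rfl⟩
    exact Submodule.mem_inf.mpr ⟨hNU v hv, LinearMap.mem_ker.mpr (hNN0 v hv)⟩
  -- rank-nullity on `U`
  have hrn : finrank F T + finrank F A = finrank F U := by
    have h1 := LinearMap.finrank_range_add_finrank_ker (N ∘ₗ U.subtype)
    have h3 : LinearMap.range (N ∘ₗ U.subtype) = T := by
      rw [LinearMap.range_comp, Submodule.range_subtype, hT]
    have h4 : finrank F ↥(LinearMap.ker (N ∘ₗ U.subtype)) = finrank F A := by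
      rw [LinearMap.ker_comp, ← Submodule.finrank_map_subtype_eq U,
        Submodule.map_comap_subtype, hA]
    rw [h3, h4] at h1
    exact h1
  -- `A ⊓ Z ≤ T`
  obtain ⟨Z, hZ⟩ : ∃ Z, Z = LinearMap.ker N ⊓ LinearMap.range N := ⟨_, rfl⟩
  have hUperp := orth_invariant (Q := Q) h.iso hp hxp U hUinv
  have hAZ : A ⊓ Z ≤ T := by
    intro k hk
    rw [hA, hZ] at hk
    obtain ⟨⟨hkU, -⟩, -, v, rfl⟩ := hk
    obtain ⟨c, d', hd', rfl⟩ := exists_decomp Q hU v
    have hNd : N d' ∈ (PB Q).orthogonal U := by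
      rw [hN, LinearMap.sub_apply, Module.End.one_apply]
      exact Submodule.sub_mem _ (hUperp d' hd') hd'
    have hNdU : N d' ∈ U := by
      have : N d' = N ((c : V) + d') - N (c : V) := by rw [map_add]; abel
      rw [this]
      exact U.sub_mem hkU (hNU _ c.2)
    have hNd0 : N d' = 0 := by
      apply hU _ hNdU
      intro w hw
      exact (PB_symm Q _ _).trans (hNd w hw)
    rw [map_add, hNd0, add_zero, hT]
    exact ⟨c, c.2, rfl⟩
  have hAle : finrank F A ≤ finrank F ↥(A ⊓ Z) + 1 := by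
    have h1 := Submodule.finrank_sup_add_finrank_inf_eq A Z
    have h3 : finrank F ↥(A ⊔ Z) ≤ finrank F ↥(LinearMap.ker N) := by
      apply Submodule.finrank_mono
      rw [hA, hZ]
      exact sup_le inf_le_right inf_le_left
    have h4 := h.kr
    rw [← hN, ← hZ] at h4
    omega
  have h5 : finrank F ↥(A ⊓ Z) ≤ finrank F T := Submodule.finrank_mono hAZ
  have h6 : finrank F T ≤ finrank F A := Submodule.finrank_mono hTA
  have hdim : finrank F U = 2 * finrank F T := by
    obtain ⟨k, hk⟩ := hev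
    omega
  refine ⟨finrank F T, hdim, ?_, ⟨T, hTU, hTS, hdim.symm⟩⟩
  -- parity: the alternating form `B(N a, b)` on `U`
  have hAT : A = T := by
    apply (Submodule.eq_of_le_of_finrank_eq hTA _).symm
    omega
  obtain ⟨ω, hω⟩ : ∃ ω : LinearMap.BilinForm F ↥U,
      ∀ a b : ↥U, ω a b = PB Q (N (a : V)) (b : V) :=
    ⟨(PB Q).compl₁₂ (N ∘ₗ U.subtype) U.subtype, fun a b => rfl⟩
  have halt : ∀ a : ↥U, ω a a = 0 := by
    intro a
    rw [hω]
    have h1 := h.star (a : V) (a : V)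
    rw [← hN] at h1
    have h3 : PB Q (N (a : V)) (N (a : V)) = 0 := by
      rw [hN, h.NN, ← hN, hNN0 _ a.2, map_zero, neg_zero]
    rw [h3, PB_symm Q (a : V) (N (a : V))] at h1
    have h4 : (2 : F) * PB Q (N (a : V)) (a : V) = 0 := by linear_combination h1
    exact (mul_eq_zero.mp h4).resolve_left h2
  obtain ⟨C, hC⟩ := Submodule.exists_isCompl (T.comap U.subtype)
  have hCnd : NDon ω C := by
    intro c hc h0
    -- `ω c b = 0` for all `b ∈ U`
    have hall : ∀ b : ↥U, ω c b = 0 := by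
      intro b
      have hb : b ∈ T.comap U.subtype ⊔ C := by rw [hC.sup_eq_top]; trivial
      obtain ⟨t, ht, c', hc', rfl⟩ := Submodule.mem_sup.mp hb
      rw [map_add, h0 c' hc', add_zero, hω]
      -- `t ∈ T`, so `t = N v`
      have ht' : (t : V) ∈ T := ht
      rw [hT] at ht'
      obtain ⟨v, hv, hvt⟩ := ht'
      rw [← hvt, hN, h.NN, ← hN, hNN0 v hv, map_zero, neg_zero]
    have hNc : N (c : V) = 0 := by
      apply hU _ (hNU _ c.2)
      intro w hw
      have := hall ⟨w, hw⟩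
      rw [hω] at this
      exact this
    have hcT : c ∈ T.comap U.subtype := by
      show (c : V) ∈ T
      rw [← hAT, hA]
      exact Submodule.mem_inf.mpr ⟨c.2, LinearMap.mem_ker.mpr hNc⟩
    have : c ∈ T.comap U.subtype ⊓ C := Submodule.mem_inf.mpr ⟨hcT, hc⟩
    rw [hC.inf_eq_bot, Submodule.mem_bot] at this
    exact this
  have hCeven := even_finrank_of_NDon halt C hCnd
  have hCdim : finrank F C = finrank F T := by
    have h1 := Submodule.finrank_sup_add_finrank_inf_eq (T.comap U.subtype) C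
    rw [hC.sup_eq_top, hC.inf_eq_bot, finrank_top, finrank_bot, add_zero] at h1
    have h3 : finrank F ↥(T.comap U.subtype) = finrank F T := by
      rw [← Submodule.finrank_map_subtype_eq U, Submodule.map_comap_subtype,
        inf_eq_right.mpr hTU]
    omega
  rw [← hCdim]
  exact hCeven

/-- invariant nondegenerate odd-dimensional subspaces not orthogonal to `e` -/
theorem UniData.caseA {x : End F V} {e : V} {κ : F} (h : UniData Q x e κ) (h2 : (2 : F) ≠ 0)
    {p : ℕ} (hp : 0 < p) (hxp : x ^ p = 1) (W : Submodule F V) (hWinv : ∀ v ∈ W, x v ∈ W)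
    (hW : NDon (PB Q) W) (hodd : Odd (finrank F W)) (u : V) (huW : u ∈ W)
    (hue : PB Q u e ≠ 0) :
    finrank F W % 4 = 3 ∧ (DSq Q W ↔ IsSquare κ) := by
  classical
  obtain ⟨N, hN⟩ : ∃ N : End F V, N = x - 1 := ⟨_, rfl⟩
  have hNW : ∀ v ∈ W, N v ∈ W := by
    intro v hv
    rw [hN, LinearMap.sub_apply, Module.End.one_apply]
    exact W.sub_mem (hWinv v hv) hv
  have hxN : ∀ v, x v = v + N v := by
    intro v
    rw [hN, LinearMap.sub_apply, Module.End.one_apply]; abel
  obtain ⟨v, hv⟩ : ∃ v : Fin 3 → V, v = ![u, N u, N (N u)] := ⟨_, rfl⟩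
  have hv0 : v 0 = u := by rw [hv]; rfl
  have hv1 : v 1 = N u := by rw [hv]; rfl
  have hv2 : v 2 = N (N u) := by rw [hv]; rfl
  have hdet : (gram Q v).det = (κ * PB Q u e ^ 2) ^ 3 := by
    rw [hv, hN]; exact h.det3 u
  have hδ : κ * PB Q u e ^ 2 ≠ 0 := mul_ne_zero h.κ0 (pow_ne_zero 2 hue)
  have hdet0 : (gram Q v).det ≠ 0 := by rw [hdet]; exact pow_ne_zero 3 hδ
  have hli := li_of_gram_det Q v hdet0
  obtain ⟨W₃, hW₃⟩ : ∃ W₃, W₃ = Submodule.span F (Set.range v) := ⟨_, rfl⟩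
  have hW₃nd : NDon (PB Q) W₃ := by rw [hW₃]; exact NDon_span_of_gram_det Q v hdet0
  have hW₃dim : finrank F W₃ = 3 := by
    rw [hW₃, finrank_span_eq_card hli, Fintype.card_fin]
  have hvW : ∀ i, v i ∈ W := by
    intro i
    fin_cases i
    · show v 0 ∈ W
      rw [hv0]; exact huW
    · show v 1 ∈ W
      rw [hv1]; exact hNW u huW
    · show v 2 ∈ W
      rw [hv2]; exact hNW _ (hNW u huW)
  have hW₃W : W₃ ≤ W := by
    rw [hW₃, Submodule.span_le]
    rintro _ ⟨i, rfl⟩
    exact hvW i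
  have hmem : ∀ i, v i ∈ W₃ := fun i => by rw [hW₃]; exact Submodule.subset_span ⟨i, rfl⟩
  have hW₃inv : ∀ w ∈ W₃, x w ∈ W₃ := by
    have h1 : W₃.map x ≤ W₃ := by
      rw [hW₃, Submodule.map_span_le]
      rintro _ ⟨i, rfl⟩
      rw [← hW₃]
      fin_cases i
      · show x (v 0) ∈ W₃
        rw [hxN, hv0, ← hv1]
        nth_rewrite 1 [← hv0]
        exact W₃.add_mem (hmem 0) (hmem 1)
      · show x (v 1) ∈ W₃
        rw [hxN, hv1, ← hv2, ← hv1]
        exact W₃.add_mem (hmem 1) (hmem 2)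
      · show x (v 2) ∈ W₃
        rw [hxN, hv2]
        have : N (N (N u)) = 0 := by rw [hN]; exact h.N3 u
        rw [this, add_zero, ← hv2]
        exact hmem 2
    intro w hw
    exact h1 (Submodule.mem_map_of_mem hw)
  have heW₃ : e ∈ W₃ := by
    have h1 : v 2 = (κ * PB Q u e) • e := by rw [hv2, hN]; exact h.N2 u
    have h3 : e = (κ * PB Q u e)⁻¹ • v 2 := by
      rw [h1, smul_smul, inv_mul_cancel₀ (mul_ne_zero h.κ0 hue), one_smul]
    rw [h3]
    exact W₃.smul_mem _ (hmem 2)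
  obtain ⟨W₂, hW₂⟩ : ∃ W₂, W₂ = W ⊓ (PB Q).orthogonal W₃ := ⟨_, rfl⟩
  have hW₂nd : NDon (PB Q) W₂ := by
    rw [hW₂]; exact NDon_perp_inS (PB Q) (PB_symm Q) W W₃ hW hW₃nd hW₃W
  have hW₂dim : 3 + finrank F W₂ = finrank F W := by
    have := finrank_perp_inS (PB Q) (PB_symm Q) W W₃ hW₃nd hW₃W
    rw [← hW₂, hW₃dim] at this
    exact this
  have hsup : W₃ ⊔ W₂ = W := by
    rw [hW₂]; exact sup_perp_inS (PB Q) (PB_symm Q) W W₃ hW₃nd hW₃W
  have horth : ∀ a ∈ W₃, ∀ b ∈ W₂, PB Q a b = 0 := by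
    intro a ha b hb
    rw [hW₂] at hb
    exact (Submodule.mem_inf.mp hb).2 a ha
  have hW₂inv : ∀ w ∈ W₂, x w ∈ W₂ := by
    intro w hw
    rw [hW₂] at hw ⊢
    exact Submodule.mem_inf.mpr ⟨hWinv w (Submodule.mem_inf.mp hw).1,
      orth_invariant (Q := Q) h.iso hp hxp W₃ hW₃inv w (Submodule.mem_inf.mp hw).2⟩
  have hW₂e : ∀ w ∈ W₂, PB Q w e = 0 := by
    intro w hw
    exact (PB_symm Q _ _).trans (horth e heW₃ w hw)
  have hW₂ev : Even (finrank F W₂) := by
    obtain ⟨k, hk⟩ := hodd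
    exact ⟨k - 1, by omega⟩
  obtain ⟨t, ht, hteven, hplus⟩ := h.plus_part h2 hp hxp W₂ hW₂inv hW₂nd hW₂e hW₂ev
  refine ⟨?_, ?_⟩
  · obtain ⟨k, hk⟩ := hteven
    omega
  · have hD2 : DSq Q W₂ := by
      have := (plus_iff_DSq Q h2 hW₂nd ht).mp hplus
      rw [Even.neg_one_pow hteven] at this
      exact this.mp ⟨1, by ring⟩
    have hD3 : DSq Q W₃ ↔ IsSquare κ := by
      rw [DSq_iff Q hli hW₃.symm, hdet]
      have e1 : (κ * PB Q u e ^ 2) ^ 3 = (κ * PB Q u e ^ 2) ^ 2 * (κ * PB Q u e ^ 2) := by ring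
      rw [e1, isSquare_sq_mul hδ, mul_comm, isSquare_sq_mul hue]
    rw [← hsup, DSq_sup Q h2 hW₃nd hW₂nd horth, hD3]
    exact ⟨fun h => h.mpr hD2, fun h => ⟨fun _ => hD2, fun _ => h⟩⟩

theorem iff_swap (T A B : Prop) (h : T ↔ (A ↔ B)) : A ↔ (T ↔ B) := by
  by_cases hT : T <;> by_cases hA : A <;> by_cases hB : B <;> simp_all

/-- the discriminant class of an invariant nondegenerate subspace of odd dimension `m` is
determined by `x` and `m` -/
theorem UniData.determined {x : End F V} {e : V} {κ : F} (h : UniData Q x e κ)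
    (h2 : (2 : F) ≠ 0) (hQ : (QuadraticMap.polarBilin Q).Nondegenerate)
    {p : ℕ} (hp : 0 < p) (hxp : x ^ p = 1) (hn4 : finrank F V % 4 = 0) (m : ℕ) (hm : Odd m) :
    ∃ P₀ : Prop, ∀ W : Submodule F V, (∀ v ∈ W, x v ∈ W) → NDon (PB Q) W → finrank F W = m →
      (DSq Q W ↔ P₀) := by
  classical
  refine ⟨if m % 4 = 3 then IsSquare κ else (DSq Q ⊤ ↔ IsSquare κ), ?_⟩
  intro W hWinv hW hWm
  have htop := NDon_top' Q hQ
  by_cases hA : ∃ u ∈ W, PB Q u e ≠ 0
  · obtain ⟨u, huW, hue⟩ := hA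
    obtain ⟨h4, hD⟩ := h.caseA h2 hp hxp W hWinv hW (by rw [hWm]; exact hm) u huW hue
    rw [hWm] at h4
    rw [if_pos h4]
    exact hD
  · push Not at hA
    obtain ⟨W', hW'⟩ : ∃ W', W' = (PB Q).orthogonal W := ⟨_, rfl⟩
    have hW'nd : NDon (PB Q) W' := by
      have := NDon_perp_inS (PB Q) (PB_symm Q) ⊤ W htop hW le_top
      rw [top_inf_eq, ← hW'] at this
      exact this
    have hdim := finrank_orth Q hQ hW
    rw [← hW', hWm] at hdim
    have hW'inv : ∀ v ∈ W', x v ∈ W' := by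
      rw [hW']; exact orth_invariant (Q := Q) h.iso hp hxp W hWinv
    have heW' : e ∈ W' := by
      rw [hW']
      intro w hw
      exact hA w hw
    obtain ⟨u', hu'W', hu'e⟩ : ∃ u' ∈ W', PB Q u' e ≠ 0 := by
      by_contra hcon
      push Not at hcon
      apply h.e0
      apply hW'nd e heW'
      intro w hw
      exact (PB_symm Q _ _).trans (hcon w hw)
    have hodd' : Odd (finrank F W') := by
      obtain ⟨k, hk⟩ := hm
      have h5 : finrank F V % 2 = 0 := by omega
      exact Nat.odd_iff.mpr (by omega)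
    obtain ⟨h4, hD⟩ := h.caseA h2 hp hxp W' hW'inv hW'nd hodd' u' hu'W' hu'e
    have hm4 : ¬ (m % 4 = 3) := by omega
    rw [if_neg hm4]
    have hsup : W ⊔ W' = ⊤ := by
      have := sup_perp_inS (PB Q) (PB_symm Q) ⊤ W hW le_top
      rw [top_inf_eq, ← hW'] at this
      exact this
    have horth : ∀ a ∈ W, ∀ b ∈ W', PB Q a b = 0 := by
      intro a ha b hb
      rw [hW'] at hb
      exact hb a ha
    have hDS := DSq_sup Q h2 hW hW'nd horth
    rw [hsup, hD] at hDS
    exact iff_swap _ _ _ hDS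

end uni

end Cfsg.Agent.Lib.H11.OrtOd
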