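import Mathlib
import Cfsg.Agent.Lib.H11.OrtOd14
import Cfsg.Agent.Lib.H11.OrtOd13
import Cfsg.Agent.Lib.H11.OrthReal4

/-!
# Elements of order `p` with Jordan type `(3, 2^(d-2), 1)`: no fixed nondegenerate odd-dimensional
subspace of a given class (part 15, helper11)
-/

set_option autoImplicit false
set_option linter.unusedSectionVars false
set_option linter.unusedVariables false

namespace Cfsg.Agent.Lib.H11.OrtOd

open Module Matrix Cfsg.Agent.Lib.H24.Elus Cfsg.Agent.Lib.H10.OrtNd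

section ranks

variable {F : Type*} [Field F] [Fintype F] {ι : Type} [Fintype ι] [DecidableEq ι]
variable (Q : QuadraticForm F (ι → F))

theorem toLin'_sub_one_apply (A : Matrix ι ι F) (v : ι → F) :
    (Matrix.toLin' A - 1) v = (A - 1) *ᵥ v := by
  rw [LinearMap.sub_apply, Matrix.toLin'_apply, Module.End.one_apply, Matrix.sub_mulVec,
    Matrix.one_mulVec]

theorem toLin'_sub_one (A : Matrix ι ι F) :
    (Matrix.toLin' A - 1 : End F (ι → F)) = Matrix.toLin' (A - 1) := by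
  apply LinearMap.ext
  intro v
  rw [toLin'_sub_one_apply, Matrix.toLin'_apply]

/-- the data `UniData` from the ranks of the powers of `A - 1` -/
theorem uniData_of_ranks (hQ : (QuadraticMap.polarBilin Q).Nondegenerate)
    (A : Matrix ι ι F) (hiso : ∀ v, Q (A *ᵥ v) = Q v) (d : ℕ)
    (hcard : Fintype.card ι = 2 * d) (hr1 : (A - 1).rank = d) (hr2 : ((A - 1) ^ 2).rank = 1)
    (hr3 : (A - 1) ^ 3 = 0) :
    ∃ (e : ι → F) (κ : F), UniData Q (Matrix.toLin' A) e κ := by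
  classical
  have hiso' : ∀ v, Q (Matrix.toLin' A v) = Q v := by
    intro v
    rw [Matrix.toLin'_apply]
    exact hiso v
  have hN1 : ∀ v, (Matrix.toLin' A - 1) v = (A - 1) *ᵥ v := toLin'_sub_one_apply A
  have hN3 : ∀ v, (Matrix.toLin' A - 1) ((Matrix.toLin' A - 1) ((Matrix.toLin' A - 1) v)) = 0 := by
    intro v
    rw [hN1, hN1, hN1, Matrix.mulVec_mulVec, Matrix.mulVec_mulVec, ← pow_two, ← pow_succ, hr3,
      Matrix.zero_mulVec]
  have hN2 : ∀ v, (Matrix.toLin' A - 1) ((Matrix.toLin' A - 1) v) = ((A - 1) ^ 2) *ᵥ v := by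
    intro v
    rw [hN1, hN1, Matrix.mulVec_mulVec, ← pow_two]
  -- the range of `N²` is a line
  have hrk : finrank F ↥(LinearMap.range (Matrix.toLin' ((A - 1) ^ 2))) = 1 := by
    rw [Matrix.toLin'_apply']
    exact hr2
  obtain ⟨e₀, he₀, hspan⟩ := finrank_eq_one_iff'.mp hrk
  obtain ⟨e, he⟩ : ∃ e : ι → F, e = (e₀ : ι → F) := ⟨_, rfl⟩
  have he0 : e ≠ 0 := by
    rw [he]
    intro h
    exact he₀ (Subtype.ext h)
  have hc : ∀ v, ∃ c : F, ((A - 1) ^ 2) *ᵥ v = c • e := by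
    intro v
    obtain ⟨c, hc⟩ := hspan ⟨Matrix.toLin' ((A - 1) ^ 2) v, LinearMap.mem_range_self _ v⟩
    refine ⟨c, ?_⟩
    have := congrArg Subtype.val hc
    rw [he, ← Matrix.toLin'_apply]
    exact this.symm
  have htop := NDon_top Q hQ
  obtain ⟨v₀, hv₀⟩ : ∃ v₀, PB Q v₀ e ≠ 0 := by
    by_contra hcon
    push Not at hcon
    apply he0
    apply htop e trivial
    intro v _
    exact (PB_symm Q _ _).trans (hcon v)
  obtain ⟨c₀, hc₀⟩ := hc v₀
  have hsymm := fun u v => uni_sq_symm (Q := Q) hiso' hN3 u v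
  have hformula : ∀ v, ((A - 1) ^ 2) *ᵥ v = ((c₀ / PB Q v₀ e) * PB Q v e) • e := by
    intro v
    obtain ⟨c, hcv⟩ := hc v
    have h1 := hsymm v v₀
    rw [hN2, hN2, hcv, hc₀, map_smul, map_smul, LinearMap.smul_apply, smul_eq_mul, smul_eq_mul,
      PB_symm Q e v₀] at h1
    have h3 : c = (c₀ / PB Q v₀ e) * PB Q v e := by
      field_simp
      linear_combination h1
    rw [hcv, h3]
  have hc₀0 : c₀ ≠ 0 := by
    intro h0
    -- then `N² = 0`, so `e₀ = 0`
    obtain ⟨w, hw⟩ := e₀.2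
    have h1 := hformula w
    rw [h0, zero_div, zero_mul, zero_smul, ← Matrix.toLin'_apply, hw] at h1
    exact he₀ (Subtype.ext h1)
  refine ⟨e, c₀ / PB Q v₀ e, hiso', hN3, ?_, div_ne_zero hc₀0 hv₀, he0, ?_⟩
  · intro v
    rw [hN2, hformula]
  · -- dimension count
    rw [toLin'_sub_one]
    obtain ⟨N, hN⟩ : ∃ N : End F (ι → F), N = Matrix.toLin' (A - 1) := ⟨_, rfl⟩
    rw [← hN]
    have hrN : finrank F ↥(LinearMap.range N) = d := by
      rw [hN, Matrix.toLin'_apply']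
      exact hr1
    have hkN : finrank F ↥(LinearMap.ker N) = d := by
      have := LinearMap.finrank_range_add_finrank_ker N
      rw [hrN, Module.finrank_fintype_fun_eq_card, hcard] at this
      omega
    have h1 := LinearMap.finrank_range_add_finrank_ker (N ∘ₗ (LinearMap.range N).subtype)
    have h3 : LinearMap.range (N ∘ₗ (LinearMap.range N).subtype) =
        LinearMap.range (Matrix.toLin' ((A - 1) ^ 2)) := by
      rw [LinearMap.range_comp, Submodule.range_subtype, ← LinearMap.range_comp, hN,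
        ← Matrix.toLin'_mul, ← pow_two]
    have h4 : finrank F ↥(LinearMap.ker (N ∘ₗ (LinearMap.range N).subtype)) =
        finrank F ↥(LinearMap.ker N ⊓ LinearMap.range N) := by
      rw [LinearMap.ker_comp, ← Submodule.finrank_map_subtype_eq (LinearMap.range N),
        Submodule.map_comap_subtype, inf_comm]
    rw [h3, hrk, h4, hrN] at h1
    omega

/-- similitudes with arbitrary multiplier in even dimension -/
theorem exists_similitude (hQ : (QuadraticMap.polarBilin Q).Nondegenerate) (h2 : (2 : F) ≠ 0)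
    (d : ℕ) (hcard : Fintype.card ι = 2 * d) (lam : F) (hlam : lam ≠ 0) :
    ∃ (P Pi : Matrix ι ι F), P * Pi = 1 ∧ Pi * P = 1 ∧ ∀ v, Q (P *ᵥ v) = lam * Q v := by
  have hdet' := stdGram_det_ne_zero Q hQ
  have hdetG : (lam • stdGram Q).det = (lam ^ d) ^ 2 * (stdGram Q).det := by
    rw [Matrix.det_smul, hcard, ← pow_mul, mul_comm d 2]
  obtain ⟨P, Pi, hP1, hP2, hG⟩ := Cfsg.Agent.Lib.H11.OrthReal.congr_even h2 d hcard hcard
    (lam • stdGram Q) (stdGram Q)
    (by rw [Matrix.transpose_smul, stdGram_transpose])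
    (stdGram_transpose Q)
    (by rw [hdetG]; exact mul_ne_zero (pow_ne_zero 2 (pow_ne_zero d hlam)) hdet')
    hdet'
    (by
      rw [hdetG]
      have e1 : (-1 : F) ^ d * ((lam ^ d) ^ 2 * (stdGram Q).det) =
          (lam ^ d) ^ 2 * ((-1 : F) ^ d * (stdGram Q).det) := by ring
      rw [e1]
      exact isSquare_sq_mul (pow_ne_zero d hlam))
  refine ⟨P, Pi, hP1, hP2, fun v => ?_⟩
  have h := two_mul_Q Q (P *ᵥ v)
  have e : (P *ᵥ v) ⬝ᵥ stdGram Q *ᵥ (P *ᵥ v) = v ⬝ᵥ (lam • stdGram Q) *ᵥ v := by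
    rw [hG, Matrix.mulVec_mulVec, Matrix.dotProduct_mulVec, ← Matrix.vecMul_transpose P,
      Matrix.vecMul_vecMul, ← Matrix.dotProduct_mulVec, Matrix.mul_assoc]
  rw [e, Matrix.smul_mulVec, dotProduct_smul, smul_eq_mul, ← two_mul_Q] at h
  have h3 : (2 : F) * (Q (P *ᵥ v) - lam * Q v) = 0 := by linear_combination h
  exact sub_eq_zero.mp ((mul_eq_zero.mp h3).resolve_left h2)

end ranks

section pcase

variable {F : Type*} [Field F] [Fintype F] {p : ℕ} [Fact p.Prime] [CharP F p]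
  {ι : Type} [Fintype ι] [DecidableEq ι]
variable (Q : QuadraticForm F (ι → F))

/-- given one unipotent isometry with `UniData`, the elements of order `p` of `Ω(Q)` do not all
fix a nondegenerate `m`-space isometric to `W₀` (dimension `≡ 0 mod 4`, `m` odd) -/
theorem p_case_of_uni (hQ : (QuadraticMap.polarBilin Q).Nondegenerate) (h2 : (2 : F) ≠ 0)
    (d : ℕ) (hcard : Fintype.card ι = 2 * d) (hd1 : 1 ≤ d) (hd4 : (2 * d) % 4 = 0) (m : ℕ)
    (hm : Odd m)
    (x : GL ι F) (hx : x ∈ Cfsg.isometryGroup F ⇑Q) (hxp : x ^ p = 1)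
    (hns : ∀ z : F, (x : Matrix ι ι F) ≠ z • (1 : Matrix ι ι F)) (e : ι → F) (κ : F)
    (hU : UniData Q (Matrix.toLin' (x : Matrix ι ι F)) e κ)
    (W₀ : Submodule F (ι → F))
    (H : ∀ x : GL ι F, x ∈ Cfsg.Geo.omegaGL ⇑Q → x ^ p = 1 →
      (∀ z : F, (x : Matrix ι ι F) ≠ z • (1 : Matrix ι ι F)) →
      ∃ W : Submodule F (ι → F), (finrank F W = m ∧
        Cfsg.Geo.IsNondegenerateOn (QuadraticMap.polar ⇑Q) W ∧
        Cfsg.Geo.AreIsometricFor ⇑Q W W₀) ∧
        W.map (Matrix.toLin' (x : Matrix ι ι F)) ≤ W) : False := by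
  classical
  have hp := (Fact.out : p.Prime)
  have hp2 : p ≠ 2 := by
    rintro rfl
    apply h2
    have := CharP.cast_eq_zero F 2
    exact_mod_cast this
  have hpodd : Odd p := hp.odd_of_ne_two hp2
  have hcard2 : 2 ≤ Fintype.card ι := by omega
  have hfr : finrank F (ι → F) = 2 * d := by
    rw [Module.finrank_fintype_fun_eq_card, hcard]
  have hyp : (Matrix.toLin' (x : Matrix ι ι F)) ^ p = 1 := by
    rw [← Matrix.toLin'_pow, ← Units.val_pow_eq_pow_val, hxp, Units.val_one, Matrix.toLin'_one]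
    rfl
  obtain ⟨P₀, hP₀⟩ := hU.determined h2 hQ hp.pos hyp (by rw [hfr]; exact hd4) m hm
  -- the first fixed space
  have hxΩ := Cfsg.Agent.Lib.H11.OrthReal.mem_omegaGL_of_odd_order Q hQ h2 hcard2 x hx p hpodd hxp
  obtain ⟨W₁, ⟨hW₁m, hW₁nd, e₁, he₁⟩, hW₁inv⟩ := H x hxΩ hxp hns
  have h1 : DSq Q W₁ ↔ P₀ := hP₀ W₁
    (fun v hv => by
      have := invariant_of_map_le _ W₁ hW₁inv v hv
      rwa [← Matrix.toLin'_apply] at this)
    ((NDon_iff_geo Q W₁).mp hW₁nd) hW₁m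
  have h1' : DSq Q W₁ ↔ DSq Q W₀ := DSq_of_iso Q e₁ he₁
  -- a similitude with nonsquare multiplier
  have hch : ringChar F ≠ 2 := by
    rw [ringChar.eq F p]
    exact hp2
  obtain ⟨lam, hlam⟩ := FiniteField.exists_nonsquare hch
  have hlam0 : lam ≠ 0 := by
    rintro rfl
    exact hlam ⟨0, by ring⟩
  obtain ⟨P, Pi, hP1, hP2, hPQ⟩ := exists_similitude Q hQ h2 d hcard lam hlam0
  have hPiQ : ∀ v, Q (Pi *ᵥ v) = lam⁻¹ * Q v := by
    intro v
    have := hPQ (Pi *ᵥ v)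
    rw [Matrix.mulVec_mulVec, hP1, Matrix.one_mulVec] at this
    rw [this, ← mul_assoc, inv_mul_cancel₀ hlam0, one_mul]
  have hiso := (Cfsg.Agent.Lib.H13.AutPO.mem_iso_iff (Q := Q) x).mp hx
  -- the conjugate element
  obtain ⟨X, hX⟩ : ∃ X : Matrix ι ι F, X = P * (x : Matrix ι ι F) * Pi := ⟨_, rfl⟩
  have hXpow : ∀ k : ℕ, X ^ k = P * (x : Matrix ι ι F) ^ k * Pi := by
    intro k
    induction k with
    | zero => rw [pow_zero, pow_zero, Matrix.mul_one, hP1]
    | succ k ih =>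
      rw [pow_succ, ih, hX, pow_succ]
      calc P * (x : Matrix ι ι F) ^ k * Pi * (P * (x : Matrix ι ι F) * Pi)
          = P * (x : Matrix ι ι F) ^ k * (Pi * P) * (x : Matrix ι ι F) * Pi := by
            simp only [Matrix.mul_assoc]
        _ = P * ((x : Matrix ι ι F) ^ k * (x : Matrix ι ι F)) * Pi := by
            rw [hP2, Matrix.mul_one]; simp only [Matrix.mul_assoc]
  have hXp : X ^ p = 1 := by
    rw [hXpow, ← Units.val_pow_eq_pow_val, hxp, Units.val_one, Matrix.mul_one, hP1]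
  obtain ⟨x', hx'⟩ : ∃ x' : GL ι F, (x' : Matrix ι ι F) = X :=
    ⟨⟨X, X ^ (p - 1), by rw [← pow_succ', Nat.sub_add_cancel hp.pos, hXp],
      by rw [← pow_succ, Nat.sub_add_cancel hp.pos, hXp]⟩, rfl⟩
  have hx'iso : x' ∈ Cfsg.isometryGroup F ⇑Q := by
    rw [Cfsg.Agent.Lib.H13.AutPO.mem_iso_iff (Q := Q) x', hx', hX]
    intro v
    rw [← Matrix.mulVec_mulVec, ← Matrix.mulVec_mulVec, hPQ, hiso, hPiQ, ← mul_assoc,
      mul_inv_cancel₀ hlam0, one_mul]
  have hx'p : x' ^ p = 1 := by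
    apply Units.ext
    rw [Units.val_pow_eq_pow_val, hx', hXp]
    rfl
  have hx'ns : ∀ z : F, (x' : Matrix ι ι F) ≠ z • (1 : Matrix ι ι F) := by
    intro z hz
    apply hns z
    rw [hx', hX] at hz
    have h5 : (x : Matrix ι ι F) = Pi * (P * (x : Matrix ι ι F) * Pi) * P := by
      calc (x : Matrix ι ι F) = (Pi * P) * (x : Matrix ι ι F) * (Pi * P) := by
            rw [hP2, Matrix.one_mul, Matrix.mul_one]
        _ = Pi * (P * (x : Matrix ι ι F) * Pi) * P := by simp only [Matrix.mul_assoc]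
    rw [h5, hz, Matrix.mul_smul, Matrix.smul_mul, Matrix.mul_one, hP2]
  have hx'Ω := Cfsg.Agent.Lib.H11.OrthReal.mem_omegaGL_of_odd_order Q hQ h2 hcard2 x' hx'iso p
    hpodd hx'p
  obtain ⟨W₂, ⟨hW₂m, hW₂nd, e₂, he₂⟩, hW₂inv⟩ := H x' hx'Ω hx'p hx'ns
  have h2' : DSq Q W₂ ↔ DSq Q W₀ := DSq_of_iso Q e₂ he₂
  have hW₂nd' := (NDon_iff_geo Q W₂).mp hW₂nd
  -- pull back along the similitude
  obtain ⟨g, hg⟩ : ∃ g : (ι → F) ≃ₗ[F] (ι → F), ∀ v, g v = Pi *ᵥ v :=
    ⟨Matrix.toLin'OfInv hP1 hP2, fun v => by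
      show Matrix.toLin' Pi v = _
      rw [Matrix.toLin'_apply]⟩
  obtain ⟨W₃, hW₃⟩ : ∃ W₃, W₃ = W₂.map (g : (ι → F) →ₗ[F] (ι → F)) := ⟨_, rfl⟩
  have hW₃m : finrank F W₃ = m := by
    rw [hW₃, LinearEquiv.finrank_map_eq, hW₂m]
  have hPBg : ∀ a b, PB Q (g a) (g b) = lam⁻¹ * PB Q a b := by
    intro a b
    rw [PB_apply, PB_apply]
    unfold QuadraticMap.polar
    rw [← map_add, hg, hg, hg, hPiQ, hPiQ, hPiQ]
    ring
  have hW₃nd : NDon (PB Q) W₃ := by
    rw [hW₃]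
    rintro _ ⟨a, ha, rfl⟩ h0
    have : a = 0 := by
      apply hW₂nd' a ha
      intro b hb
      have := h0 (g b) ⟨b, hb, rfl⟩
      rw [LinearEquiv.coe_coe, hPBg] at this
      exact (mul_eq_zero.mp this).resolve_left (inv_ne_zero hlam0)
    rw [this, map_zero]
  have hW₃inv : ∀ v ∈ W₃, Matrix.toLin' (x : Matrix ι ι F) v ∈ W₃ := by
    rw [hW₃]
    rintro _ ⟨a, ha, rfl⟩
    have ha' := invariant_of_map_le _ W₂ hW₂inv a ha
    rw [hx', hX] at ha'
    refine ⟨(P * (x : Matrix ι ι F) * Pi) *ᵥ a, ha', ?_⟩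
    rw [LinearEquiv.coe_coe, hg, hg, Matrix.toLin'_apply, Matrix.mulVec_mulVec,
      Matrix.mulVec_mulVec]
    congr 1
    calc Pi * (P * (x : Matrix ι ι F) * Pi) = (Pi * P) * (x : Matrix ι ι F) * Pi := by
          simp only [Matrix.mul_assoc]
      _ = (x : Matrix ι ι F) * Pi := by rw [hP2, Matrix.one_mul]
  have h3 : DSq Q W₃ ↔ P₀ := hP₀ W₃ hW₃inv hW₃nd hW₃m
  -- the discriminant flips
  have hflip : DSq Q W₃ ↔ ¬ DSq Q W₂ := by
    obtain ⟨v, hv, hvW⟩ := exists_fam W₂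
    have hli' : LinearIndependent F (fun i => g (v i)) :=
      hv.map' (g : (ι → F) →ₗ[F] (ι → F)) (LinearEquiv.ker g)
    have hspan' : Submodule.span F (Set.range (fun i => g (v i))) = W₃ := by
      have h5 : Set.range (fun i => g (v i)) = (g : (ι → F) →ₗ[F] (ι → F)) '' Set.range v := by
        rw [← Set.range_comp]; rfl
      rw [h5, Submodule.span_image, hvW, hW₃]
    have hgram : gram Q (fun i => g (v i)) = lam⁻¹ • gram Q v := by
      ext i j
      rw [Cfsg.Agent.Lib.H10.OrtNd.gram_apply, Matrix.smul_apply,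
        Cfsg.Agent.Lib.H10.OrtNd.gram_apply, hPBg, smul_eq_mul]
    rw [DSq_iff Q hli' hspan', DSq_iff Q hv hvW, hgram, Matrix.det_smul, Fintype.card_fin]
    have hdet0 := gram_det_ne_zero Q hv hvW hW₂nd'
    obtain ⟨k, hk⟩ := hm
    have e5 : ∀ (n : ℕ) (D : F), n = 2 * k + 1 →
        lam⁻¹ ^ n * D = (lam⁻¹ ^ (k + 1)) ^ 2 * (lam * D) := by
      intro n D hn
      subst hn
      have e6 : (lam⁻¹ ^ (k + 1)) ^ 2 * (lam * D) = lam⁻¹ ^ (2 * k + 1) * (lam⁻¹ * lam) * D := by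
        ring
      rw [e6, inv_mul_cancel₀ hlam0, mul_one]
    rw [e5 _ _ (hW₂m.trans hk), isSquare_sq_mul (pow_ne_zero _ (inv_ne_zero hlam0)),
      isSquare_mul_iff h2 hlam0 hdet0]
    constructor
    · intro h5 h6
      exact hlam (h5.mpr h6)
    · intro h5
      exact ⟨fun h6 => absurd h6 hlam, fun h6 => absurd h6 h5⟩
  -- contradiction
  have hfinal : DSq Q W₀ ↔ ¬ DSq Q W₀ :=
    h1'.symm.trans (h1.trans (h3.symm.trans (hflip.trans (not_congr h2'))))
  by_cases h5 : DSq Q W₀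
  · exact (hfinal.mp h5) h5
  · exact h5 (hfinal.mpr h5)

end pcase

end Cfsg.Agent.Lib.H11.OrtOd
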