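import Mathlib
import Cfsg.Agent.Lib.H11.OrtOd15
import Cfsg.Agent.Lib.H11.OrtOd12
import Cfsg.Agent.S0288

/-!
# Elements of order `p` of `Ω⁻_{2d}(q)` fixing no nondegenerate subspace of odd dimension of a
given isometry class (part 16, helper11)
-/

set_option autoImplicit false
set_option linter.unusedSectionVars false
set_option linter.unusedVariables false

namespace Cfsg.Agent.Lib.H11.OrtOd

open Module Matrix Cfsg.Agent.Lib.H11.Jordan

section pminus

variable {F : Type*} [Field F] [Fintype F] {p : ℕ} [Fact p.Prime] [CharP F p]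

/-- for `r = p` some element of order `p` of `Ω⁻_{2d}(q)` fixes no nondegenerate `m`-space
isometric to `W₀`, `m` odd -/
theorem p_case_minus (h2 : (2 : F) ≠ 0) (k m : ℕ) (hk : 3 ≤ k) (hm : Odd m) (a b : F)
    (hab : ∀ x y : F, x ^ 2 + a * x * y + b * y ^ 2 = 0 → x = 0 ∧ y = 0)
    (W₀ : Submodule F ((Fin k ⊕ Fin k) ⊕ Fin 2 → F))
    (H : ∀ x : GL ((Fin k ⊕ Fin k) ⊕ Fin 2) F,
      x ∈ Cfsg.Geo.omegaGL ⇑(Cfsg.Agent.Lib.H13.minusQF F k a b) → x ^ p = 1 →
      (∀ z : F, (x : Matrix ((Fin k ⊕ Fin k) ⊕ Fin 2) ((Fin k ⊕ Fin k) ⊕ Fin 2) F) ≠ z • 1) →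
      ∃ W : Submodule F ((Fin k ⊕ Fin k) ⊕ Fin 2 → F), (finrank F W = m ∧
        Cfsg.Geo.IsNondegenerateOn
          (QuadraticMap.polar ⇑(Cfsg.Agent.Lib.H13.minusQF F k a b)) W ∧
        Cfsg.Geo.AreIsometricFor ⇑(Cfsg.Agent.Lib.H13.minusQF F k a b) W W₀) ∧
        W.map (Matrix.toLin'
          (x : Matrix ((Fin k ⊕ Fin k) ⊕ Fin 2) ((Fin k ⊕ Fin k) ⊕ Fin 2) F)) ≤ W) :
    False := by
  classical
  have hp := (Fact.out : p.Prime)
  have hp2 : p ≠ 2 := by
    rintro rfl
    apply h2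
    have := CharP.cast_eq_zero F 2
    exact_mod_cast this
  have hp3 : 3 ≤ p := by
    have := hp.two_le
    omega
  have hQ := Cfsg.Agent.S0288.nondeg (F := F) a b hab k
  have hcard : Fintype.card ((Fin k ⊕ Fin k) ⊕ Fin 2) = 2 * (k + 1) := by
    rw [Fintype.card_sum, Fintype.card_sum, Fintype.card_fin, Fintype.card_fin]
    ring
  have hcard2 : 2 ≤ Fintype.card ((Fin k ⊕ Fin k) ⊕ Fin 2) := by omega
  -- realisation of Jordan types
  have real : ∀ μ : Multiset ℕ, (∀ e ∈ μ, 0 < e ∧ e ≤ p) →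
      (∀ e : ℕ, Even e → Even (μ.count e)) → μ.sum = 2 * (k + 1) → (∃ e ∈ μ, Odd e) →
      ∃ x : GL ((Fin k ⊕ Fin k) ⊕ Fin 2) F,
        x ∈ Cfsg.isometryGroup F ⇑(Cfsg.Agent.Lib.H13.minusQF F k a b) ∧
        RankType (x : Matrix ((Fin k ⊕ Fin k) ⊕ Fin 2) ((Fin k ⊕ Fin k) ⊕ Fin 2) F) μ := by
    intro μ hμ hpar hsum hodd
    obtain ⟨x, hx, hT⟩ := Cfsg.Agent.Lib.H11.OrthReal.exists_minus (F := F) h2 k a b hab μ
      (fun e he => (hμ e he).1) hpar hodd hsum
    rw [← Cfsg.Agent.S0288.coe_minusQF] at hx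
    exact ⟨x, hx, hT⟩
  rcases Nat.even_or_odd (k + 1) with hd2 | hd2
  · -- `d` even: type `(2^(d-2), 3, 1)` and the discriminant argument
    have hk1 : Even (k - 1) := by
      obtain ⟨l, hl⟩ := hd2
      exact ⟨l - 1, by omega⟩
    obtain ⟨μ, hμdef⟩ : ∃ μ : Multiset ℕ, μ = Multiset.replicate (k - 1) 2 + {3} + {1} :=
      ⟨_, rfl⟩
    have hμmem : ∀ e ∈ μ, e = 2 ∨ e = 3 ∨ e = 1 := by
      intro e he
      rw [hμdef, Multiset.mem_add, Multiset.mem_add, Multiset.mem_singleton,
        Multiset.mem_singleton] at he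
      rcases he with (he | he) | he
      · exact Or.inl (Multiset.eq_of_mem_replicate he)
      · exact Or.inr (Or.inl he)
      · exact Or.inr (Or.inr he)
    have hμle : ∀ e ∈ μ, 0 < e ∧ e ≤ p := by
      intro e he
      rcases hμmem e he with rfl | rfl | rfl <;> omega
    obtain ⟨x, hx, hT⟩ := real μ hμle
      (by
        intro e he
        rw [hμdef, Multiset.count_add, Multiset.count_add, Multiset.count_replicate,
          Multiset.count_singleton, Multiset.count_singleton]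
        have h3 : ¬ (e = 3) := by
          rintro rfl
          exact absurd he (by decide)
        have h1 : ¬ (e = 1) := by
          rintro rfl
          exact absurd he (by decide)
        rw [if_neg h3, if_neg h1, add_zero, add_zero]
        split_ifs
        · exact hk1
        · exact ⟨0, rfl⟩)
      (by
        rw [hμdef, Multiset.sum_add, Multiset.sum_add, Multiset.sum_replicate,
          Multiset.sum_singleton, Multiset.sum_singleton, smul_eq_mul]
        omega)
      ⟨3, by rw [hμdef]; simp, by decide⟩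
    have hxp : x ^ p = 1 := Cfsg.Agent.Lib.H11.OrthReal.pow_eq_one_of_rankType x hT
      (fun e he => (hμle e he).2)
    have hns := Cfsg.Agent.Lib.H11.OrthReal.not_scalar_of_rankType _ hT
      ⟨3, by rw [hμdef]; simp, by omega⟩
    have hr1 : ((x : Matrix ((Fin k ⊕ Fin k) ⊕ Fin 2) ((Fin k ⊕ Fin k) ⊕ Fin 2) F) - 1).rank =
        k + 1 := by
      have := hT 1
      rw [pow_one] at this
      rw [this, hμdef, Multiset.map_add, Multiset.map_add, Multiset.map_replicate,
        Multiset.map_singleton, Multiset.map_singleton, Multiset.sum_add, Multiset.sum_add,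
        Multiset.sum_replicate, Multiset.sum_singleton, Multiset.sum_singleton, smul_eq_mul]
      omega
    have hr2 : (((x : Matrix ((Fin k ⊕ Fin k) ⊕ Fin 2) ((Fin k ⊕ Fin k) ⊕ Fin 2) F) - 1) ^
        2).rank = 1 := by
      rw [hT 2, hμdef]
      simp
    have hr3 : ((x : Matrix ((Fin k ⊕ Fin k) ⊕ Fin 2) ((Fin k ⊕ Fin k) ⊕ Fin 2) F) - 1) ^ 3 =
        0 := by
      apply eq_zero_of_rank_eq_zero
      rw [hT 3, hμdef]
      simp
    have hiso := (Cfsg.Agent.Lib.H13.AutPO.mem_iso_iff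
      (Q := Cfsg.Agent.Lib.H13.minusQF F k a b) x).mp hx
    obtain ⟨e, κ, hU⟩ := uniData_of_ranks (Cfsg.Agent.Lib.H13.minusQF F k a b) hQ _ hiso (k + 1)
      hcard hr1 hr2 hr3
    exact p_case_of_uni (Cfsg.Agent.Lib.H13.minusQF F k a b) hQ h2 (k + 1) hcard (by omega)
      (by
        obtain ⟨l, hl⟩ := hd2
        omega) m hm x hx hxp hns e κ hU W₀ H
  · -- `d` odd: types `(2^(d-1), 1, 1)` and `(2^(d-3), 3, 3)`
    have key : ∀ μ : Multiset ℕ, (∀ e ∈ μ, 0 < e ∧ e ≤ p) →
        (∀ e : ℕ, Even e → Even (μ.count e)) → μ.sum = 2 * (k + 1) → (∃ e ∈ μ, Odd e) →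
        (∃ e ∈ μ, 2 ≤ e) →
        ∃ ν : Multiset ℕ, ν ≤ μ ∧ ν.sum = m ∧ (∀ e : ℕ, Even e → Even (ν.count e)) := by
      intro μ hμ hpar hsum hodd hbig
      obtain ⟨x, hx, hT⟩ := real μ hμ hpar hsum hodd
      obtain ⟨W, ν, hWP, hνμ, hνsum, hνpar, hνplus⟩ :=
        Cfsg.Agent.Lib.H11.OrthReal.sub_type_of_fixed (Cfsg.Agent.Lib.H13.minusQF F k a b)
          hQ h2 hcard2 m
          (fun W => Cfsg.Geo.AreIsometricFor ⇑(Cfsg.Agent.Lib.H13.minusQF F k a b) W W₀)
          H x hx μ hT (fun e he => (hμ e he).1) (fun e he => (hμ e he).2) hbig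
      exact ⟨ν, hνμ, hνsum, hνpar⟩
    have hd1 : Even k := by
      obtain ⟨l, hl⟩ := hd2
      exact ⟨l, by omega⟩
    have hd3 : Even (k - 2) := by
      obtain ⟨l, hl⟩ := hd2
      exact ⟨l - 1, by omega⟩
    obtain ⟨ν, hνμ, hνsum, hνpar⟩ := key (Multiset.replicate k 2 + {1} + {1})
      (by
        intro e he
        rw [Multiset.mem_add, Multiset.mem_add, Multiset.mem_singleton] at he
        rcases he with (he | he) | he
        · rw [Multiset.eq_of_mem_replicate he]; omega
        · rw [he]; omega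
        · rw [he]; omega)
      (count_211 k hd1)
      (by
        rw [Multiset.sum_add, Multiset.sum_add, Multiset.sum_replicate, Multiset.sum_singleton,
          smul_eq_mul]
        omega)
      ⟨1, by simp, by decide⟩
      ⟨2, by simp [Multiset.mem_replicate]; omega, le_refl 2⟩
    have h1 := sub_211 k m hm ν hνμ hνsum hνpar
    obtain ⟨ν', hνμ', hνsum', hνpar'⟩ := key (Multiset.replicate (k - 2) 2 + {3} + {3})
      (by
        intro e he
        rw [Multiset.mem_add, Multiset.mem_add, Multiset.mem_singleton] at he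
        rcases he with (he | he) | he
        · rw [Multiset.eq_of_mem_replicate he]; omega
        · rw [he]; omega
        · rw [he]; omega)
      (count_233 (k - 2) hd3)
      (by
        rw [Multiset.sum_add, Multiset.sum_add, Multiset.sum_replicate, Multiset.sum_singleton,
          smul_eq_mul]
        omega)
      ⟨3, by simp, by decide⟩
      ⟨3, by simp, by omega⟩
    have h3 := sub_233 (k - 2) m hm ν' hνμ' hνsum' hνpar'
    omega

end pminus

end Cfsg.Agent.Lib.H11.OrtOd
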