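import Cfsg.Agent.Lib.H11.UniR10
import Cfsg.Agent.Lib.H29.Orth
import Cfsg.Agent.Lib.H11.OmPar2

/-!
# Orthogonal-type subgroups of `SL_n(q)`, `q` odd (part 1): the Gram matrix of a quadratic form
given as a function, membership in the similarity group, transport along linear equivalences
-/

set_option autoImplicit false
set_option linter.unusedSectionVars false
set_option linter.unusedVariables false

namespace Cfsg.Agent.Lib.H11.OrtR

open Matrix Cfsg.Agent.Lib.H11.PSLGraph Cfsg.Agent.Lib.H11.InvCls Cfsg.Agent.Lib.H11.OmPar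

variable {F : Type*} [Field F] {n : ℕ} {Q : (Fin n → F) → F}

theorem polar_self_eq (hQ : Cfsg.Geo.IsNondegenerateQuadraticForm Q) (v : Fin n → F) :
    QuadraticMap.polar Q v v = 2 * Q v := by
  unfold QuadraticMap.polar
  have h : v + v = (2 : F) • v := (two_smul F v).symm
  rw [h, hQ.smul]
  ring

/-- the Gram matrix of the polar form -/
theorem exists_gram_q (hQ : Cfsg.Geo.IsNondegenerateQuadraticForm Q) (h2 : (2 : F) ≠ 0) :
    ∃ G : Matrix (Fin n) (Fin n) F, Gᵀ = G ∧ G.det ≠ 0 ∧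
      (∀ u v, QuadraticMap.polar Q u v = bf G u v) ∧ ∀ v, Q v = 2⁻¹ * bf G v v := by
  obtain ⟨G, hG⟩ := exists_gram hQ.polar_bilinear
  have hG' : ∀ u v, QuadraticMap.polar Q u v = bf G u v := fun u v => by rw [hG]
  refine ⟨G, ?_, ?_, hG', ?_⟩
  · apply bf_ext
    intro u v
    unfold bf
    rw [Matrix.dotProduct_mulVec, Matrix.vecMul_transpose, dotProduct_comm]
    have h1 := hG' v u
    have h3 := hG' u v
    unfold bf at h1 h3
    rw [← h1, ← h3, QuadraticMap.polar_comm]
  · intro h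
    obtain ⟨w, hw0, hw⟩ := Matrix.exists_mulVec_eq_zero_iff.mpr h
    obtain ⟨x, hx⟩ := (hQ.nondegenerate w hw0).1
    apply hx
    rw [hG']
    unfold bf
    rw [hw, dotProduct_zero]
  · intro v
    rw [← hG', polar_self_eq hQ, ← mul_assoc, inv_mul_cancel₀ h2, one_mul]

/-- membership in the similarity group of a quadratic form in terms of the Gram matrix -/
theorem mem_qsim_iff (hQ : Cfsg.Geo.IsNondegenerateQuadraticForm Q) (h2 : (2 : F) ≠ 0)
    (G : Matrix (Fin n) (Fin n) F) (hG : ∀ u v, QuadraticMap.polar Q u v = bf G u v)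
    (g : GL (Fin n) F) :
    g ∈ Cfsg.Geo.quadSimilarityGroup Q ↔ ∃ c : F, c ≠ 0 ∧
      (g : Matrix (Fin n) (Fin n) F)ᵀ * G * (g : Matrix (Fin n) (Fin n) F) = c • G := by
  have hQG : ∀ v, Q v = 2⁻¹ * bf G v v := by
    intro v
    rw [← hG, polar_self_eq hQ, ← mul_assoc, inv_mul_cancel₀ h2, one_mul]
  constructor
  · rintro ⟨c, hc⟩
    refine ⟨c, c.ne_zero, ?_⟩
    apply bf_ext
    intro u v
    rw [← bf_mulVec, bf_smul, ← hG, ← hG]
    unfold QuadraticMap.polar
    rw [← Matrix.mulVec_add, hc, hc, hc]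
    ring
  · rintro ⟨c, hc0, hc⟩
    refine ⟨Units.mk0 c hc0, fun v => ?_⟩
    rw [hQG, bf_mulVec, hc, bf_smul, hQG, Units.val_mk0]
    ring

section transport

variable {κ : Type} [Fintype κ] [DecidableEq κ]

/-- a matrix which is a similitude in coordinates gives an element of the similarity group -/
theorem mem_qsim_of_coord (φ : (κ → F) ≃ₗ[F] (Fin n → F)) (Y : Matrix κ κ F) (c : F) (hc : c ≠ 0)
    (hY : ∀ u, Q (φ (Y *ᵥ u)) = c * Q (φ u)) (g : GL (Fin n) F)
    (hg : (g : Matrix (Fin n) (Fin n) F) = cmat φ * Y * cmat φ.symm) :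
    g ∈ Cfsg.Geo.quadSimilarityGroup Q := by
  refine ⟨Units.mk0 c hc, fun v => ?_⟩
  rw [hg, ← Matrix.mulVec_mulVec, ← Matrix.mulVec_mulVec, cmat_mulVec, cmat_mulVec, hY,
    LinearEquiv.apply_symm_apply, Units.val_mk0]

theorem conj_pow (φ : (κ → F) ≃ₗ[F] (Fin n → F)) (Y : Matrix κ κ F) (k : ℕ) :
    (cmat φ * Y * cmat φ.symm) ^ k = cmat φ * Y ^ k * cmat φ.symm := by
  induction k with
  | zero => rw [pow_zero, pow_zero, Matrix.mul_one, cmat_mul_symm]
  | succ k ih =>
    rw [pow_succ, ih, pow_succ]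
    calc cmat φ * Y ^ k * cmat φ.symm * (cmat φ * Y * cmat φ.symm)
        = cmat φ * Y ^ k * (cmat φ.symm * cmat φ) * Y * cmat φ.symm := by
          simp only [Matrix.mul_assoc]
      _ = cmat φ * (Y ^ k * Y) * cmat φ.symm := by
          rw [cmat_symm_mul, Matrix.mul_one]
          simp only [Matrix.mul_assoc]

end transport

end Cfsg.Agent.Lib.H11.OrtR
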