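import Cfsg.Agent.Lib.H11.OrtR9

/-!
# Orthogonal-type subgroups of `SL_n(q)`, `q` odd (part 10): degree `r ∈ {3, 5}` with
`(q - 1)_r = r`
-/

set_option autoImplicit false
set_option linter.unusedSectionVars false
set_option linter.unusedVariables false

namespace Cfsg.Agent.Lib.H11.OrtR

open Matrix Polynomial Module Cfsg.Agent.Lib.H13
  Cfsg.Agent.Lib.H11.InvCls Cfsg.Agent.Lib.H11.SubfR Cfsg.Agent.Lib.H11.UniR
  Cfsg.Agent.Lib.H11.PSLGraph Cfsg.Agent.Lib.H24.Elus Cfsg.Agent.Lib.H11.OmPar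

variable {F : Type*} [Field F] [Fintype F] {n : ℕ} {Q : (Fin n → F) → F}

/-- a scalar multiple of a semisimple matrix with symmetric eigenvalue multiplicities is conjugate
into the orthogonal-type subgroup (odd degree, `r ∣ q - 1`) -/
theorem conj_qsim_of_symm (hQ : Cfsg.Geo.IsNondegenerateQuadraticForm Q) (h2 : (2 : F) ≠ 0)
    (r : ℕ) [Fact r.Prime] (hr2 : r ≠ 2) (k : ℕ) (hn : n = 2 * k + 1)
    (e : Unit ⊕ (Fin k ⊕ Fin k) ≃ ZMod r) (he0 : e (Sum.inl ()) = 0)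
    (heneg : ∀ i, e (Sum.inr (Sum.inr i)) = - e (Sum.inr (Sum.inl i)))
    (hfib : ∀ m : ZMod r → ℕ, ∑ t, m t = n → (∀ t, m (-t) = m t) →
      ∃ b : ZMod r → ZMod r, (∀ t, b (-t) = - b t) ∧
        ∀ t, (Finset.univ.filter (fun j => b j = t)).card = m t)
    (ζ : F) (hζ : IsPrimitiveRoot ζ r) (x : GL (Fin n) F)
    (hx : x ∈ Cfsg.Geo.specialLinear (Fin n) F) (b : F) (hb : b ≠ 0)
    (x' : Matrix (Fin n) (Fin n) F) (hxx' : (x : Matrix (Fin n) (Fin n) F) = b • x')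
    (hx' : x' ^ r = 1) (hsym : ∀ t : ZMod r, PGLPrime.mult ζ x' (-t) = PGLPrime.mult ζ x' t) :
    ∃ g ∈ Cfsg.Geo.specialLinear (Fin n) F, g⁻¹ * x * g ∈ Cfsg.Geo.quadSimilarityGroup Q := by
  classical
  have hr : r.Prime := Fact.out
  have hr0 : 0 < r := hr.pos
  have hn0 : 0 < n := by omega
  have hζ1 : ζ ^ r = 1 := hζ.pow_eq_one
  have h2' := zmod_two_ne_zero (r := r) hr2
  have hx'1 : x' ^ r = (1 : F) • 1 := by rw [hx', one_smul]
  obtain ⟨bb, hbodd, hbfib⟩ := hfib (PGLPrime.mult ζ x') (PGLPrime.sum_mult ζ hζ x' hx'1) hsym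
  have hbb0 : bb 0 = 0 := by
    have h1 := hbodd 0
    rw [neg_zero] at h1
    have h3 : (2 : ZMod r) * bb 0 = 0 := by linear_combination h1
    rcases mul_eq_zero.mp h3 with h | h
    · exact absurd h h2'
    · exact h
  -- coordinates
  obtain ⟨φ₀, d, hd, hφ₀⟩ := exists_odd_form (Cfsg.Agent.Lib.H29.Orth.toQF Q hQ)
    (Cfsg.Agent.Lib.H29.Orth.toQF_nondegenerate Q hQ) k (by rw [Fintype.card_fin, hn])
  have hcard : Fintype.card (Unit ⊕ (Fin k ⊕ Fin k)) = Fintype.card (Fin n) := by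
    rw [Fintype.card_sum, Fintype.card_sum, Fintype.card_fin, Fintype.card_fin, Fintype.card_unit,
      hn]
    ring
  set e₂ : Unit ⊕ (Fin k ⊕ Fin k) ≃ Fin n := Fintype.equivOfCardEq hcard with he₂
  set ψ : (Fin n → F) ≃ₗ[F] (Fin n → F) :=
    (LinearEquiv.funCongrLeft F F e₂).trans φ₀.symm with hψ
  have hQψ : ∀ u, Q (ψ u) = d * Cfsg.quadFormOdd k F (u ∘ e₂) := by
    intro u
    have := hφ₀ (ψ u)
    rw [Cfsg.Agent.Lib.H29.Orth.toQF_apply] at this
    rw [this, hψ, LinearEquiv.trans_apply, LinearEquiv.apply_symm_apply]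
    rfl
  -- the diagonal matrix
  set A : Unit ⊕ (Fin k ⊕ Fin k) → ZMod r := fun s => bb (e s) with hA
  set a' : Fin n → ZMod r := fun j => A (e₂.symm j) with ha'
  have hY₀r : dg ζ a' ^ r = (1 : F) • 1 := by rw [dg_pow ζ hζ1, one_smul]
  have hmult : ∀ t : ZMod r, PGLPrime.mult ζ x' t = PGLPrime.mult ζ (dg ζ a') t := by
    intro t
    rw [mult_dg ζ hζ, ← hbfib t, ← Fintype.card_subtype, ← Fintype.card_subtype]
    apply Fintype.card_congr
    refine (e.symm.trans e₂).subtypeEquiv ?_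
    intro s
    show bb s = t ↔ a' (e₂ (e.symm s)) = t
    rw [ha', hA]
    simp only [Equiv.symm_apply_apply, Equiv.apply_symm_apply]
  have hconj := PGLPrime.conj_of_mult_eq ζ hζ (PGLPrime.glOfPow x' 1 one_ne_zero hr0 hx'1)
    (PGLPrime.glOfPow (dg ζ a') 1 one_ne_zero hr0 hY₀r) hx'1 hY₀r hmult
  rw [isConj_iff] at hconj
  obtain ⟨c, hc⟩ := hconj
  have hc1 : (c : Matrix (Fin n) (Fin n) F) * x' = dg ζ a' * (c : Matrix (Fin n) (Fin n) F) := by
    have h1 : c * PGLPrime.glOfPow x' 1 one_ne_zero hr0 hx'1 =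
        PGLPrime.glOfPow (dg ζ a') 1 one_ne_zero hr0 hY₀r * c := by
      rw [← hc, inv_mul_cancel_right]
    have h3 := congrArg Units.val h1
    rwa [Units.val_mul, Units.val_mul, PGLPrime.glOfPow_val, PGLPrime.glOfPow_val] at h3
  set cm : Matrix (Fin n) (Fin n) F := (c : Matrix (Fin n) (Fin n) F) with hcm
  set ci : Matrix (Fin n) (Fin n) F := ((c⁻¹ : GL (Fin n) F) : Matrix (Fin n) (Fin n) F)
    with hci
  have hcc : cm * ci = 1 := by rw [hcm, hci, ← Units.val_mul, mul_inv_cancel, Units.val_one]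
  refine conj_of_coord ψ (b • dg ζ a') (b * b) (mul_ne_zero hb hb) ?_ x hx
    (cmat ψ * cm) (ci * cmat ψ.symm) ?_ ?_ ?_
  · -- isometry up to `b ^ 2`
    intro u
    rw [hQψ, hQψ]
    have hcoord : ∀ s, (((b • dg ζ a') *ᵥ u) ∘ e₂) s =
        b * (PGLPrime.zp ζ (A s) * (u ∘ e₂) s) := by
      intro s
      show ((b • dg ζ a') *ᵥ u) (e₂ s) = _
      rw [Matrix.smul_mulVec, Pi.smul_apply, dg, Matrix.mulVec_diagonal, smul_eq_mul, ha']
      simp only [Equiv.symm_apply_apply, Function.comp_apply]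
    unfold Cfsg.quadFormOdd
    rw [hcoord]
    have hA0 : A (Sum.inl ()) = 0 := by rw [hA]; show bb (e (Sum.inl ())) = 0; rw [he0, hbb0]
    have hAneg : ∀ i, A (Sum.inr (Sum.inr i)) = - A (Sum.inr (Sum.inl i)) := by
      intro i
      rw [hA]
      show bb (e (Sum.inr (Sum.inr i))) = - bb (e (Sum.inr (Sum.inl i)))
      rw [heneg, hbodd]
    rw [hA0, PGLPrime.zp_zero, one_mul]
    have hsum : ∑ i : Fin k, (((b • dg ζ a') *ᵥ u) ∘ e₂) (Sum.inr (Sum.inl i)) *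
        (((b • dg ζ a') *ᵥ u) ∘ e₂) (Sum.inr (Sum.inr i)) =
        b * b * ∑ i : Fin k, (u ∘ e₂) (Sum.inr (Sum.inl i)) * (u ∘ e₂) (Sum.inr (Sum.inr i)) := by
      rw [Finset.mul_sum]
      apply Finset.sum_congr rfl
      intro i _
      rw [hcoord, hcoord, hAneg]
      have hz : PGLPrime.zp ζ (A (Sum.inr (Sum.inl i))) *
          PGLPrime.zp ζ (-A (Sum.inr (Sum.inl i))) = 1 := by
        rw [← PGLPrime.zp_add ζ hζ1, add_neg_cancel, PGLPrime.zp_zero]
      linear_combination (b * b * (u ∘ e₂) (Sum.inr (Sum.inl i)) *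
        (u ∘ e₂) (Sum.inr (Sum.inr i))) * hz
    rw [hsum]
    ring
  · calc cmat ψ * cm * (ci * cmat ψ.symm) = cmat ψ * (cm * ci) * cmat ψ.symm := by
          simp only [Matrix.mul_assoc]
      _ = 1 := by rw [hcc, Matrix.mul_one, cmat_mul_symm]
  · rw [hxx']
    calc cmat ψ * cm * (b • x') = b • (cmat ψ * (cm * x')) := by
          rw [Matrix.mul_smul, Matrix.mul_assoc]
      _ = b • (cmat ψ * (dg ζ a' * cm)) := by rw [hc1]
      _ = cmat ψ * (b • dg ζ a') * (cmat ψ.symm * cmat ψ) * cm := by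
          rw [cmat_symm_mul, Matrix.mul_one, Matrix.mul_smul, Matrix.smul_mul, Matrix.mul_assoc]
      _ = cmat ψ * (b • dg ζ a') * cmat ψ.symm * (cmat ψ * cm) := by
          simp only [Matrix.mul_assoc]
  · intro dd
    obtain ⟨C, hC, hCd⟩ := exists_commute_det (PGLPrime.fA (r := r) ζ) (PGLPrime.fA_irreducible ζ)
      (PGLPrime.fA_coprime ζ hζ) hn0 x' (by
        rw [PGLPrime.prod_fA ζ hζ, ← C_1]
        exact PGLPrime.aeval_pow_sub x' 1 hx'1) dd
    refine ⟨C, ?_, hCd⟩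
    rw [hxx', Matrix.mul_smul, Matrix.smul_mul, hC]

/-- in degree `r` with `r ∣ q - 1`, if every multiplicity function of weight zero has a
centre of symmetry, every element of order `r` is conjugate into the orthogonal-type subgroup -/
theorem conj_qsim_special_aux (hQ : Cfsg.Geo.IsNondegenerateQuadraticForm Q) (h2 : (2 : F) ≠ 0)
    (r : ℕ) [Fact r.Prime] (hr2 : r ≠ 2) (k : ℕ) (hrk : r = 2 * k + 1)
    (e : Unit ⊕ (Fin k ⊕ Fin k) ≃ ZMod r) (he0 : e (Sum.inl ()) = 0)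
    (heneg : ∀ i, e (Sum.inr (Sum.inr i)) = - e (Sum.inr (Sum.inl i)))
    (hfib : ∀ m : ZMod r → ℕ, ∑ t, m t = r → (∀ t, m (-t) = m t) →
      ∃ b : ZMod r → ZMod r, (∀ t, b (-t) = - b t) ∧
        ∀ t, (Finset.univ.filter (fun j => b j = t)).card = m t)
    (hcenter : ∀ m : ZMod r → ℕ, ∑ t, m t = r → ∑ t : ZMod r, m t • t = 0 →
      ∃ c : ZMod r, ∀ t, m (c + t) = m (c - t))
    (ζ : F) (hζ : IsPrimitiveRoot ζ r)
    (hn : n = r) (x : GL (Fin n) F) (hx : x ∈ Cfsg.Geo.specialLinear (Fin n) F)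
    (hxr : (x : Matrix (Fin n) (Fin n) F) ^ r = 1) :
    ∃ g ∈ Cfsg.Geo.specialLinear (Fin n) F, g⁻¹ * x * g ∈ Cfsg.Geo.quadSimilarityGroup Q := by
  classical
  subst hn
  have hr : n.Prime := Fact.out
  have hζ1 : ζ ^ n = 1 := hζ.pow_eq_one
  set xm : Matrix (Fin n) (Fin n) F := (x : Matrix (Fin n) (Fin n) F) with hxm
  have hx1 : xm ^ n = (1 : F) • 1 := by rw [hxr, one_smul]
  have hdet : xm.det = 1 := (Cfsg.Agent.Lib.H28.mem_specialLinear_iff x).mp hx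
  have hw : ∑ t : ZMod n, PGLPrime.mult ζ xm t • t = 0 := by
    have h1 := det_eq_zp ζ hζ x hxr
    rw [← hxm, hdet] at h1
    have h3 : PGLPrime.zp ζ (0 : ZMod n) =
        PGLPrime.zp ζ (∑ t : ZMod n, PGLPrime.mult ζ xm t • t) := by
      rw [PGLPrime.zp_zero]; exact h1
    exact (PGLPrime.zp_injective ζ hζ h3).symm
  obtain ⟨c₀, hc₀⟩ := hcenter (PGLPrime.mult ζ xm) (PGLPrime.sum_mult ζ hζ xm hx1) hw
  set x' : Matrix (Fin n) (Fin n) F := PGLPrime.zp ζ (-c₀) • xm with hx'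
  have hx'r : x' ^ n = 1 := by
    rw [hx', _root_.smul_pow, PGLPrime.zp_pow ζ hζ1, hxr, one_smul]
  have hxx' : xm = PGLPrime.zp ζ c₀ • x' := by
    rw [hx', smul_smul, ← PGLPrime.zp_add ζ hζ1, add_neg_cancel, PGLPrime.zp_zero, one_smul]
  have hm' : ∀ t : ZMod n, PGLPrime.mult ζ x' t = PGLPrime.mult ζ xm (t + c₀) := by
    intro t
    rw [hx', PGLPrime.mult_smul ζ hζ1, sub_neg_eq_add]
  have hsym' : ∀ t : ZMod n, PGLPrime.mult ζ x' (-t) = PGLPrime.mult ζ x' t := by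
    intro t
    rw [hm', hm', add_comm t c₀, hc₀ t]
    congr 1
    ring
  exact conj_qsim_of_symm hQ h2 n hr2 k hrk e he0 heneg hfib ζ hζ x hx (PGLPrime.zp ζ c₀)
    (PGLPrime.zp_ne_zero ζ hζ1 c₀) x' hxx' hx'r hsym'

/-- the index equivalence for `r = 3` -/
def idx3 : Unit ⊕ (Fin 1 ⊕ Fin 1) ≃ ZMod 3 where
  toFun := Sum.elim (fun _ => 0) (Sum.elim (fun _ => 1) (fun _ => 2))
  invFun := ![Sum.inl (), Sum.inr (Sum.inl 0), Sum.inr (Sum.inr 0)]
  left_inv := by intro s; revert s; decide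
  right_inv := by intro s; revert s; decide

theorem idx3_zero : idx3 (Sum.inl ()) = 0 := rfl

theorem idx3_neg : ∀ i, idx3 (Sum.inr (Sum.inr i)) = - idx3 (Sum.inr (Sum.inl i)) := by decide

/-- the index equivalence for `r = 5` -/
def idx5 : Unit ⊕ (Fin 2 ⊕ Fin 2) ≃ ZMod 5 where
  toFun := Sum.elim (fun _ => 0) (Sum.elim ![1, 2] ![4, 3])
  invFun := ![Sum.inl (), Sum.inr (Sum.inl 0), Sum.inr (Sum.inl 1), Sum.inr (Sum.inr 1),
    Sum.inr (Sum.inr 0)]
  left_inv := by intro s; revert s; decide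
  right_inv := by intro s; revert s; decide

theorem idx5_zero : idx5 (Sum.inl ()) = 0 := rfl

theorem idx5_neg : ∀ i, idx5 (Sum.inr (Sum.inr i)) = - idx5 (Sum.inr (Sum.inl i)) := by decide

/-- in degree `r ∈ {3, 5}` with `r ∣ q - 1`, every element of order `r` of `SL_r(q)`
is conjugate into the orthogonal-type subgroup -/
theorem conj_qsim_special (hQ : Cfsg.Geo.IsNondegenerateQuadraticForm Q) (h2 : (2 : F) ≠ 0)
    (r : ℕ) [Fact r.Prime]
    (hr35 : r = 3 ∨ r = 5) (hrq : r ∣ Fintype.card F - 1)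
    (hn : n = r) (x : GL (Fin n) F) (hx : x ∈ Cfsg.Geo.specialLinear (Fin n) F)
    (hxr : (x : Matrix (Fin n) (Fin n) F) ^ r = 1) :
    ∃ g ∈ Cfsg.Geo.specialLinear (Fin n) F, g⁻¹ * x * g ∈ Cfsg.Geo.quadSimilarityGroup Q := by
  have hr : r.Prime := Fact.out
  obtain ⟨ζ, hζ⟩ := exists_primitiveRoot (F := F) r hr.pos hrq
  rcases hr35 with rfl | rfl
  · exact conj_qsim_special_aux hQ h2 3 (by norm_num) 1 rfl idx3 idx3_zero idx3_neg
      exists_odd_fibers_three exists_center_three ζ hζ hn x hx hxr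
  · exact conj_qsim_special_aux hQ h2 5 (by norm_num) 2 rfl idx5 idx5_zero idx5_neg
      exists_odd_fibers_five exists_center_five ζ hζ hn x hx hxr

end Cfsg.Agent.Lib.H11.OrtR
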