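import Cfsg.Agent.Lib.H11.OrtR1

/-!
# Orthogonal-type subgroups of `SL_n(q)`, `q` odd (part 2): the necessary condition for membership
in the similarity group in terms of eigenvalue multiplicities over an extension field
-/

set_option autoImplicit false
set_option linter.unusedSectionVars false
set_option linter.unusedVariables false

namespace Cfsg.Agent.Lib.H11.OrtR

open Matrix Polynomial Module Cfsg.Agent.Lib.H13
  Cfsg.Agent.Lib.H11.InvCls Cfsg.Agent.Lib.H11.SubfR Cfsg.Agent.Lib.H11.UniR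
  Cfsg.Agent.Lib.H11.PSLGraph

variable {F : Type*} [Field F] {n : ℕ}

/-- the multiplier of a similarity of order `r` is an `r`-th root of unity -/
theorem mult_pow_eq_one (hn : 0 < n) (x X Xi : Matrix (Fin n) (Fin n) F) (hX : X * Xi = 1)
    (c : F) (h : xᵀ * X * x = c • X) (r : ℕ) (hx : x ^ r = 1) : c ^ r = 1 := by
  have h1 : ∀ k : ℕ, xᵀ ^ k * X * x ^ k = c ^ k • X := by
    intro k
    induction k with
    | zero => simp
    | succ k ih =>
      calc xᵀ ^ (k + 1) * X * x ^ (k + 1)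
          = xᵀ * (xᵀ ^ k * X * x ^ k) * x := by
            rw [pow_succ', pow_succ]; simp only [Matrix.mul_assoc]
        _ = c ^ k • (xᵀ * X * x) := by
            rw [ih, Matrix.mul_smul, Matrix.smul_mul]
        _ = c ^ (k + 1) • X := by rw [h, smul_smul, pow_succ]
  have h2 := h1 r
  rw [← Matrix.transpose_pow, hx, Matrix.transpose_one, Matrix.one_mul, Matrix.mul_one] at h2
  have h3 : X * Xi = (c ^ r • X) * Xi := by rw [← h2]
  rw [hX, Matrix.smul_mul, hX] at h3
  have h4 := congrFun (congrFun h3 ⟨0, hn⟩) ⟨0, hn⟩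
  rw [Matrix.smul_apply, Matrix.one_apply_eq, smul_eq_mul, mul_one] at h4
  exact h4.symm

variable {E : Type*} [Field E] {r : ℕ} [NeZero r]

/-- the necessary condition: the eigenvalue multiplicities (over an extension field) of a
similarity of order `r` of a symmetric form are invariant under `t ↦ e - q' t`, where `q'` is the
exponent of an endomorphism of the extension fixing the base field -/
theorem mult_of_qsim (ι : F →+* E) (φ : E →+* E) (hφ : ∀ a, φ (ι a) = ι a) (θ : E)
    (hθ : IsPrimitiveRoot θ r) (q' : ℕ) (hφθ : φ θ = θ ^ q') (hn : 0 < n)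
    (x xi X Xi : Matrix (Fin n) (Fin n) F) (hxi : x * xi = 1) (hX : X * Xi = 1) (c : F)
    (h : xᵀ * X * x = c • X) (hx : x ^ r = 1) :
    ∃ e : ZMod r, ι c = PGLPrime.zp θ e ∧
      ∀ t, PGLPrime.mult θ (x.map ι) t = PGLPrime.mult θ (x.map ι) (e - (q' : ZMod r) * t) := by
  have hθ1 : θ ^ r = 1 := hθ.pow_eq_one
  have hc := mult_pow_eq_one hn x X Xi hX c h r hx
  have hc' : (ι c) ^ r = 1 := by rw [← map_pow, hc, map_one]
  obtain ⟨e, he⟩ := PGLPrime.exists_zp θ hθ (ι c) hc'
  refine ⟨e, he.symm, fun t => ?_⟩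
  have hmapmul : ∀ A B : Matrix (Fin n) (Fin n) F, (A * B).map ι = A.map ι * B.map ι :=
    fun A B => Matrix.map_mul
  have hone : (1 : Matrix (Fin n) (Fin n) F).map ι = 1 := by
    rw [Matrix.map_one ι (map_zero ι) (map_one ι)]
  set y := x.map ι with hy
  set yi := xi.map ι with hyi
  have hyyi : y * yi = 1 := by rw [hy, hyi, ← hmapmul, hxi, hone]
  have hX' : X.map ι * Xi.map ι = 1 := by rw [← hmapmul, hX, hone]
  have hrel : yᵀ * X.map ι * y = ι c • X.map ι := by
    have h1 : (xᵀ * X * x).map ι = (c • X).map ι := by rw [h]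
    rw [hmapmul, hmapmul] at h1
    have h2 : (xᵀ).map ι = yᵀ := by
      ext i j
      rfl
    have h3 : (c • X).map ι = ι c • X.map ι := by
      ext i j
      simp [Matrix.map_apply]
    rw [h2, h3] at h1
    exact h1
  have hrel' : yᵀ * X.map ι = X.map ι * (ι c • yi) := by
    have h1 : yᵀ * X.map ι = yᵀ * X.map ι * y * yi := by
      rw [Matrix.mul_assoc _ y yi, hyyi, Matrix.mul_one]
    rw [h1, hrel, Matrix.smul_mul, Matrix.mul_smul]
  -- the kernel dimensions
  have e1 := finrank_ker_eq_of_mul (X.map ι) (Xi.map ι) (ι c • yi) yᵀ hX' hrel'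
    (PGLPrime.fA θ ((q' : ZMod r) * t))
  have e2 := finrank_ker_transpose y (PGLPrime.fA θ ((q' : ZMod r) * t))
  have e3 : finrank E (LinearMap.ker (aeval (Matrix.toLin' y)
      (PGLPrime.fA θ ((q' : ZMod r) * t)))) = PGLPrime.mult θ y t := by
    have hzy : y = y.map φ := by
      ext i j
      show ι (x i j) = φ (ι (x i j))
      rw [hφ]
    have hfA : (PGLPrime.fA θ t).map φ = PGLPrime.fA θ ((q' : ZMod r) * t) := by
      rw [PGLPrime.fA, PGLPrime.fA, Polynomial.map_sub, Polynomial.map_X, Polynomial.map_C,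
        zp_natCast_mul θ hθ1]
      unfold PGLPrime.zp
      rw [map_pow, hφθ, ← pow_mul, ← pow_mul, mul_comm]
    conv_lhs => rw [hzy]
    rw [← hfA, finrank_ker_map φ y (PGLPrime.fA θ t)]
    rfl
  have e4 : PGLPrime.mult θ (ι c • yi) ((q' : ZMod r) * t) =
      PGLPrime.mult θ y (e - (q' : ZMod r) * t) := by
    rw [← he, PGLPrime.mult_smul θ hθ1, mult_inv θ hθ1 y yi hyyi, neg_sub]
  unfold PGLPrime.mult at e4 e3 ⊢
  rw [← e3, ← e2, e1, e4]

/-- the twisting condition for a scalar multiple of an element of order `r` conjugate to a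
similitude of the symmetric form with matrix `G` -/
theorem twist_of_conj (G Gi : Matrix (Fin n) (Fin n) F) (hG : G * Gi = 1) (ι : F →+* E)
    (φ : E →+* E) (hφ : ∀ a, φ (ι a) = ι a) (θ : E) (hθ : IsPrimitiveRoot θ r) (q' : ℕ)
    (hφθ : φ θ = θ ^ q') (hn : 0 < n) (x gm gi : Matrix (Fin n) (Fin n) F)
    (h1 : gm * gi = 1) (b : F) (hb : b ≠ 0) (x' : Matrix (Fin n) (Fin n) F)
    (hxx' : x = b • x') (hx' : x' ^ r = 1) (c₀ : F)
    (hc : (gi * x * gm)ᵀ * G * (gi * x * gm) = c₀ • G) :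
    ∃ c : F, c ^ r = 1 ∧ ∃ e : ZMod r, ι c = PGLPrime.zp θ e ∧
      ∀ t, PGLPrime.mult θ (x'.map ι) t =
        PGLPrime.mult θ (x'.map ι) (e - (q' : ZMod r) * t) := by
  have h2 : gi * gm = 1 := mul_eq_one_comm.mp h1
  have hc1 : giᵀ * gmᵀ = 1 := by rw [← Matrix.transpose_mul, h1, Matrix.transpose_one]
  have hc2 : gmᵀ * giᵀ = 1 := by rw [← Matrix.transpose_mul, h2, Matrix.transpose_one]
  have hval : gi * x * gm = b • (gi * x' * gm) := by
    rw [hxx', Matrix.mul_smul, Matrix.smul_mul]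
  rw [hval, Matrix.transpose_smul, Matrix.smul_mul, Matrix.smul_mul, Matrix.mul_smul, smul_smul]
    at hc
  have hbb : b * b ≠ 0 := mul_ne_zero hb hb
  set c' : F := (b * b)⁻¹ * c₀ with hc'
  have hy : (gi * x' * gm)ᵀ * G * (gi * x' * gm) = c' • G := by
    have := congrArg (fun M => (b * b)⁻¹ • M) hc
    simp only [smul_smul] at this
    rw [inv_mul_cancel₀ hbb, one_smul] at this
    exact this
  set X' : Matrix (Fin n) (Fin n) F := giᵀ * G * gi with hX'
  have hX'1 : X' * (gm * Gi * gmᵀ) = 1 := by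
    calc X' * (gm * Gi * gmᵀ)
        = giᵀ * (G * ((gi * gm) * Gi)) * gmᵀ := by
          rw [hX']; simp only [Matrix.mul_assoc]
      _ = 1 := by
          rw [h2, Matrix.one_mul, hG, Matrix.mul_one, hc1]
  have hrel : x'ᵀ * X' * x' = c' • X' := by
    have hct : (gi * x' * gm)ᵀ = gmᵀ * (x'ᵀ * giᵀ) := by
      rw [Matrix.transpose_mul, Matrix.transpose_mul]
    rw [hct] at hy
    have := congrArg (fun M => giᵀ * M * gi) hy
    beta_reduce at this
    calc x'ᵀ * X' * x'
        = (giᵀ * gmᵀ) * (x'ᵀ * giᵀ * G * gi * x') * (gm * gi) := by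
          rw [hc1, h1, Matrix.one_mul, Matrix.mul_one, hX']
          simp only [Matrix.mul_assoc]
      _ = giᵀ * (gmᵀ * (x'ᵀ * giᵀ) * G * (gi * x' * gm)) * gi := by
          simp only [Matrix.mul_assoc]
      _ = c' • X' := by
          rw [this, hX', Matrix.mul_smul, Matrix.smul_mul]
  have hr0 : 0 < r := Nat.pos_of_ne_zero (NeZero.ne r)
  have hxi : x' * x' ^ (r - 1) = 1 := by
    rw [← pow_succ', Nat.sub_add_cancel hr0, hx']
  have hcr := mult_pow_eq_one hn x' X' _ hX'1 c' hrel r hx'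
  obtain ⟨e, he1, he2⟩ := mult_of_qsim ι φ hφ θ hθ q' hφθ hn x' (x' ^ (r - 1)) X' _ hxi hX'1 c'
    hrel hx'
  exact ⟨c', hcr, e, he1, he2⟩

end Cfsg.Agent.Lib.H11.OrtR
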