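import Cfsg.Agent.Lib.H11.OrtR2

/-!
# Orthogonal-type subgroups of `SL_n(q)`, `q` odd (part 3): derangements from multiplicity
functions, the case `r ∣ q - 1`
-/

set_option autoImplicit false
set_option linter.unusedSectionVars false
set_option linter.unusedVariables false

namespace Cfsg.Agent.Lib.H11.OrtR

open Matrix Polynomial Module Cfsg.Agent.Lib.H13
  Cfsg.Agent.Lib.H11.InvCls Cfsg.Agent.Lib.H11.SubfR Cfsg.Agent.Lib.H11.UniR
  Cfsg.Agent.Lib.H11.PSLGraph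

variable {F : Type*} [Field F] {n : ℕ} {Q : (Fin n → F) → F}

/-- the matrix form of membership of a conjugate in the similarity group -/
theorem conj_rel (hQ : Cfsg.Geo.IsNondegenerateQuadraticForm Q) (h2 : (2 : F) ≠ 0)
    (G : Matrix (Fin n) (Fin n) F) (hG : ∀ u v, QuadraticMap.polar Q u v = bf G u v)
    (x g : GL (Fin n) F) (hg : g⁻¹ * x * g ∈ Cfsg.Geo.quadSimilarityGroup Q) :
    ∃ c₀ : F, c₀ ≠ 0 ∧
      (((g⁻¹ : GL (Fin n) F) : Matrix (Fin n) (Fin n) F) * (x : Matrix (Fin n) (Fin n) F) *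
        (g : Matrix (Fin n) (Fin n) F))ᵀ * G *
      (((g⁻¹ : GL (Fin n) F) : Matrix (Fin n) (Fin n) F) * (x : Matrix (Fin n) (Fin n) F) *
        (g : Matrix (Fin n) (Fin n) F)) = c₀ • G := by
  obtain ⟨c₀, hc₀, hc⟩ := (mem_qsim_iff hQ h2 G hG _).mp hg
  refine ⟨c₀, hc₀, ?_⟩
  rw [Units.val_mul, Units.val_mul] at hc
  exact hc

variable {r : ℕ} [NeZero r]

/-- a derangement from a multiplicity function violating the twisting condition (`r ∣ q - 1`) -/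
theorem exists_derangement_of_mult (hQ : Cfsg.Geo.IsNondegenerateQuadraticForm Q)
    (h2 : (2 : F) ≠ 0) (ζ : F)
    (hζ : IsPrimitiveRoot ζ r) (hn : 0 < n)
    (m : ZMod r → ℕ) (hm : ∑ t, m t = n) (b : F) (hb : b ≠ 0)
    (hdet : b ^ n * PGLPrime.zp ζ (∑ t : ZMod r, m t • t) = 1)
    (k₁ k₂ : ZMod r) (hne : k₁ ≠ k₂) (h1 : m k₁ ≠ 0) (h2' : m k₂ ≠ 0)
    (hno : ¬ ∃ e : ZMod r, ∀ t, m t = m (e - t)) :
    ∃ x ∈ Cfsg.Geo.specialLinear (Fin n) F,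
      (∃ z : F, ((x ^ r : GL (Fin n) F) : Matrix (Fin n) (Fin n) F) =
        z • (1 : Matrix (Fin n) (Fin n) F)) ∧
      (∀ z : F, (x : Matrix (Fin n) (Fin n) F) ≠ z • (1 : Matrix (Fin n) (Fin n) F)) ∧
      ∀ g ∈ Cfsg.Geo.specialLinear (Fin n) F,
        g⁻¹ * x * g ∉ Cfsg.Geo.quadSimilarityGroup Q := by
  obtain ⟨G, hGs, hGd, hG, -⟩ := exists_gram_q hQ h2
  have hGu : IsUnit G.det := isUnit_iff_ne_zero.mpr hGd
  obtain ⟨x', hx', hmult⟩ := PGLPrime.exists_of_mult (n := n) ζ hζ m hm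
  rw [one_smul] at hx'
  have hdetx : (b • (x' : Matrix (Fin n) (Fin n) F)).det = 1 := by
    rw [Matrix.det_smul, Fintype.card_fin, det_eq_zp ζ hζ x' hx']
    have : (∑ t : ZMod r, PGLPrime.mult ζ (x' : Matrix (Fin n) (Fin n) F) t • t) =
        ∑ t : ZMod r, m t • t := Finset.sum_congr rfl (fun t _ => by rw [hmult])
    rw [this, hdet]
  set xs : GL (Fin n) F := Matrix.GeneralLinearGroup.mkOfDetNeZero
    (b • (x' : Matrix (Fin n) (Fin n) F)) (by rw [hdetx]; exact one_ne_zero) with hxs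
  have hxsv : (xs : Matrix (Fin n) (Fin n) F) = b • (x' : Matrix (Fin n) (Fin n) F) := rfl
  refine ⟨xs, ?_, ⟨b ^ r, ?_⟩, ?_, ?_⟩
  · rw [Cfsg.Agent.Lib.H28.mem_specialLinear_iff, hxsv, hdetx]
  · rw [Units.val_pow_eq_pow_val, hxsv, _root_.smul_pow, hx']
  · intro z hz
    rw [hxsv] at hz
    have h3 : (x' : Matrix (Fin n) (Fin n) F) = (b⁻¹ * z) • 1 := by
      rw [← smul_smul, ← hz, smul_smul, inv_mul_cancel₀ hb, one_smul]
    exact not_scalar_of_mult ζ hζ _ k₁ k₂ hne (by rw [hmult]; exact h1) (by rw [hmult]; exact h2')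
      _ h3
  · intro g _ hg
    obtain ⟨c₀, -, hc⟩ := conj_rel hQ h2 G hG xs g hg
    have hgg : (g : Matrix (Fin n) (Fin n) F) * ((g⁻¹ : GL (Fin n) F) :
        Matrix (Fin n) (Fin n) F) = 1 := by
      rw [← Units.val_mul, mul_inv_cancel, Units.val_one]
    obtain ⟨c, -, e, -, he⟩ := twist_of_conj G G⁻¹ (Matrix.mul_nonsing_inv _ hGu)
      (RingHom.id F) (RingHom.id F) (fun a => rfl) ζ hζ 1 (by rw [pow_one]; rfl) hn
      (xs : Matrix (Fin n) (Fin n) F) (g : Matrix (Fin n) (Fin n) F)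
      ((g⁻¹ : GL (Fin n) F) : Matrix (Fin n) (Fin n) F) hgg b hb
      (x' : Matrix (Fin n) (Fin n) F) hxsv hx' c₀ hc
    apply hno
    refine ⟨e, fun t => ?_⟩
    have hid : (x' : Matrix (Fin n) (Fin n) F).map (RingHom.id F) =
        (x' : Matrix (Fin n) (Fin n) F) := by
      ext i j
      rfl
    rw [hid] at he
    rw [← hmult, ← hmult]
    have := he t
    rwa [Nat.cast_one, one_mul] at this

theorem no_twist_of_neg {r : ℕ} (m : ZMod r → ℕ)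
    (h : ¬ ∃ e : ZMod r, ∀ t, m t = m ((-1) * t - e)) :
    ¬ ∃ e : ZMod r, ∀ t, m t = m (e - t) := by
  rintro ⟨e, he⟩
  apply h
  refine ⟨-e, fun t => ?_⟩
  rw [he t]
  congr 1
  ring

variable [Fintype F]

/-- the derangement `diag(ζ, ζ, ζ⁻², 1, …, 1)` when `q ≡ 1` modulo `r ≥ 5` -/
theorem der_D2 (hQ : Cfsg.Geo.IsNondegenerateQuadraticForm Q) (h2 : (2 : F) ≠ 0)
    (r : ℕ) [Fact r.Prime] (hr2 : r ≠ 2)
    (hr3 : r ≠ 3) (hrq : r ∣ Fintype.card F - 1) (hn : 3 ≤ n)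
    (h55 : ¬ (n = 5 ∧ r = 5)) :
    ∃ x ∈ Cfsg.Geo.specialLinear (Fin n) F,
      (∃ z : F, ((x ^ r : GL (Fin n) F) : Matrix (Fin n) (Fin n) F) =
        z • (1 : Matrix (Fin n) (Fin n) F)) ∧
      (∀ z : F, (x : Matrix (Fin n) (Fin n) F) ≠ z • (1 : Matrix (Fin n) (Fin n) F)) ∧
      ∀ g ∈ Cfsg.Geo.specialLinear (Fin n) F,
        g⁻¹ * x * g ∉ Cfsg.Geo.quadSimilarityGroup Q := by
  have hr : r.Prime := Fact.out
  obtain ⟨ζ, hζ⟩ := exists_primitiveRoot (F := F) r hr.pos hrq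
  have h3 := zmod_three_ne_zero (r := r) hr3
  have h12 : (1 : ZMod r) ≠ -2 := by
    intro h; apply h3; linear_combination h
  refine exists_derangement_of_mult hQ h2 ζ hζ (by omega) (mD2 r n) (card_mD2 n hn) 1 one_ne_zero
    (by rw [one_pow, one_mul, wsum_mD2, PGLPrime.zp_zero]) 1 (-2) h12 ?_ ?_
    (no_twist_of_neg _ (no_twist_mD2 hr2 hr3 n h55))
  · unfold mD2; rw [if_pos rfl]; omega
  · unfold mD2; rw [if_pos rfl]; omega

/-- the derangement `diag(ζ, ζ, ζ, 1, …, 1)` when `q ≡ 1` modulo `3` -/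
theorem der_D2' (hQ : Cfsg.Geo.IsNondegenerateQuadraticForm Q) (h2 : (2 : F) ≠ 0)
    (r : ℕ) [Fact r.Prime] (hr3 : r = 3)
    (hrq : r ∣ Fintype.card F - 1) (hn : 4 ≤ n) (hn6 : n ≠ 6) :
    ∃ x ∈ Cfsg.Geo.specialLinear (Fin n) F,
      (∃ z : F, ((x ^ r : GL (Fin n) F) : Matrix (Fin n) (Fin n) F) =
        z • (1 : Matrix (Fin n) (Fin n) F)) ∧
      (∀ z : F, (x : Matrix (Fin n) (Fin n) F) ≠ z • (1 : Matrix (Fin n) (Fin n) F)) ∧
      ∀ g ∈ Cfsg.Geo.specialLinear (Fin n) F,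
        g⁻¹ * x * g ∉ Cfsg.Geo.quadSimilarityGroup Q := by
  subst hr3
  obtain ⟨ζ, hζ⟩ := exists_primitiveRoot (F := F) 3 (by norm_num) hrq
  refine exists_derangement_of_mult hQ h2 ζ hζ (by omega) (mD2' n) (card_mD2' n (by omega)) 1
    one_ne_zero (by rw [one_pow, one_mul, wsum_mD2', PGLPrime.zp_zero]) 1 0 one_ne_zero ?_ ?_
    (no_twist_of_neg _ (no_twist_mD2' n hn hn6))
  · unfold mD2'; rw [if_pos rfl]; omega
  · unfold mD2'; rw [if_pos rfl, if_neg zero_ne_one]; omega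

/-- the derangement `b · diag(1, …, 1, b ^ (-r))`, `b` of order `r ^ 2`, in degree `r` when
`q ≡ 1` modulo `r ^ 2` -/
theorem der_D3 (hQ : Cfsg.Geo.IsNondegenerateQuadraticForm Q) (h2 : (2 : F) ≠ 0)
    (r : ℕ) [Fact r.Prime] (hr2 : r ≠ 2)
    (hrq : r ^ 2 ∣ Fintype.card F - 1) (hn : n = r) :
    ∃ x ∈ Cfsg.Geo.specialLinear (Fin n) F,
      (∃ z : F, ((x ^ r : GL (Fin n) F) : Matrix (Fin n) (Fin n) F) =
        z • (1 : Matrix (Fin n) (Fin n) F)) ∧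
      (∀ z : F, (x : Matrix (Fin n) (Fin n) F) ≠ z • (1 : Matrix (Fin n) (Fin n) F)) ∧
      ∀ g ∈ Cfsg.Geo.specialLinear (Fin n) F,
        g⁻¹ * x * g ∉ Cfsg.Geo.quadSimilarityGroup Q := by
  have hr : r.Prime := Fact.out
  have hr3 : 3 ≤ r := by
    have := hr.two_le
    omega
  obtain ⟨ζ, hζ⟩ := exists_primitiveRoot (F := F) r hr.pos
    ((dvd_pow_self r two_ne_zero).trans hrq)
  obtain ⟨b, hb⟩ := exists_primitiveRoot (F := F) (r ^ 2) (by positivity) hrq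
  have hb0 : b ≠ 0 := hb.ne_zero (by positivity)
  have hbr : b ^ r ≠ 1 := by
    apply hb.pow_ne_one_of_pos_of_lt hr.ne_zero
    calc r = r ^ 1 := (pow_one r).symm
      _ < r ^ 2 := Nat.pow_lt_pow_right hr.one_lt (by norm_num)
  have hbrr : ((b ^ r)⁻¹) ^ r = 1 := by
    rw [inv_pow, ← pow_mul, ← pow_two, hb.pow_eq_one, inv_one]
  obtain ⟨τ, hτ⟩ := PGLPrime.exists_zp ζ hζ _ hbrr
  have hτ0 : τ ≠ 0 := by
    rintro rfl
    rw [PGLPrime.zp_zero] at hτ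
    apply hbr
    rw [← inv_inv (b ^ r), ← hτ, inv_one]
  refine exists_derangement_of_mult hQ h2 ζ hζ (by omega) (mD3 r n τ) (card_mD3 n (by omega) τ) b
    hb0 (by rw [wsum_mD3, hτ, hn, mul_inv_cancel₀ (pow_ne_zero _ hb0)]) 0 τ (Ne.symm hτ0) ?_ ?_
    (no_twist_of_neg _ (no_twist_mD3 hr2 n (by omega) τ hτ0))
  · unfold mD3; rw [if_pos rfl, if_neg (Ne.symm hτ0)]; omega
  · unfold mD3; rw [if_neg hτ0, if_pos rfl]; omega

end Cfsg.Agent.Lib.H11.OrtR
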