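import Cfsg.Agent.Lib.H11.OrtR4

/-!
# Orthogonal-type subgroups of `SL_n(q)`, `q` odd (part 5): transvections are derangements
-/

set_option autoImplicit false
set_option linter.unusedSectionVars false
set_option linter.unusedVariables false

namespace Cfsg.Agent.Lib.H11.OrtR

open Matrix Polynomial Module Cfsg.Agent.Lib.H13
  Cfsg.Agent.Lib.H11.InvCls Cfsg.Agent.Lib.H11.SubfR Cfsg.Agent.Lib.H11.UniR
  Cfsg.Agent.Lib.H11.PSLGraph Cfsg.Agent.Lib.H24.Elus

variable {F : Type*} [Field F] {n : ℕ} {Q : (Fin n → F) → F}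

/-- a matrix `1 + (column) (row)` with `row · column = 0` is not an isometry of a nondegenerate
symmetric form in odd characteristic -/
theorem not_isometry_rank_one (h2 : (2 : F) ≠ 0) (G : Matrix (Fin n) (Fin n) F) (hGs : Gᵀ = G)
    (hGd : G.det ≠ 0) (a w₁ : Fin n → F) (β : (Fin n → F) → F)
    (hβadd : ∀ v w, β (v + w) = β v + β w) (ha0 : a ≠ 0) (hβa : β a = 0) (hβw : β w₁ = 1)
    (Y : Matrix (Fin n) (Fin n) F) (hY : ∀ v, Y *ᵥ v = v + β v • a)
    (hiso : Yᵀ * G * Y = G) : False := by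
  have key : ∀ v w, β w * bf G v a + β v * bf G a w + β v * β w * bf G a a = 0 := by
    intro v w
    have h1 : bf G (Y *ᵥ v) (Y *ᵥ w) = bf G v w := by rw [bf_mulVec, hiso]
    rw [hY, hY, bf_add_left, bf_add_right, bf_add_right, bf_smul_left, bf_smul_left,
      bf_smul_right, bf_smul_right] at h1
    linear_combination h1
  have hsym : ∀ v w, bf G v w = bf G w v := fun v w => bf_symm G hGs v w
  have haa : bf G a a = 0 := by
    have := key a w₁
    rw [hβa, hβw] at this
    linear_combination this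
  have hwa : bf G w₁ a = 0 := by
    have := key w₁ w₁
    rw [hβw, haa, hsym a w₁] at this
    have h3 : 2 * bf G w₁ a = 0 := by linear_combination this
    rcases mul_eq_zero.mp h3 with h | h
    · exact absurd h h2
    · exact h
  apply ha0
  apply nondeg_of_det G hGd a
  intro v
  have := key v w₁
  rw [hβw, haa, hsym a w₁, hwa] at this
  rw [hsym a v]
  linear_combination this

variable [Fintype F]

/-- transvections are derangements -/
theorem der_transvection (p : ℕ) [Fact p.Prime] [CharP F p]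
    (hQ : Cfsg.Geo.IsNondegenerateQuadraticForm Q) (h2 : (2 : F) ≠ 0) (hn : 2 ≤ n) :
    ∃ x ∈ Cfsg.Geo.specialLinear (Fin n) F,
      (∃ z : F, ((x ^ p : GL (Fin n) F) : Matrix (Fin n) (Fin n) F) =
        z • (1 : Matrix (Fin n) (Fin n) F)) ∧
      (∀ z : F, (x : Matrix (Fin n) (Fin n) F) ≠ z • (1 : Matrix (Fin n) (Fin n) F)) ∧
      ∀ g ∈ Cfsg.Geo.specialLinear (Fin n) F,
        g⁻¹ * x * g ∉ Cfsg.Geo.quadSimilarityGroup Q := by
  classical
  obtain ⟨G, hGs, hGd, hG, -⟩ := exists_gram_q hQ h2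
  have hGu : IsUnit G.det := isUnit_iff_ne_zero.mpr hGd
  obtain ⟨m, rfl⟩ : ∃ m, n = m + 2 := ⟨n - 2, by omega⟩
  have h01 : (0 : Fin (m + 2)) ≠ 1 := by
    intro h
    have := congrArg Fin.val h
    simp at this
  set T : F → Matrix (Fin (m + 2)) (Fin (m + 2)) F := fun c => Matrix.transvection 0 1 c with hT
  have hTT : ∀ c d, T c * T d = T (c + d) := fun c d =>
    Matrix.transvection_mul_transvection_same 0 1 h01 c d
  have hT0 : T 0 = 1 := Matrix.transvection_zero 0 1
  have hTpow : ∀ k : ℕ, T 1 ^ k = T (k : F) := by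
    intro k
    induction k with
    | zero => rw [pow_zero, Nat.cast_zero, hT0]
    | succ k ih => rw [pow_succ, ih, hTT, Nat.cast_succ]
  set x : GL (Fin (m + 2)) F := ⟨T 1, T (-1), by rw [hTT, add_neg_cancel, hT0],
    by rw [hTT, neg_add_cancel, hT0]⟩ with hx
  have hxv : (x : Matrix (Fin (m + 2)) (Fin (m + 2)) F) = T 1 := rfl
  have hns : ∀ z : F, (x : Matrix (Fin (m + 2)) (Fin (m + 2)) F) ≠ z • 1 := by
    intro z hz
    have := congrFun (congrFun hz 0) 1
    rw [hxv, hT] at this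
    simp [Matrix.transvection, Matrix.one_apply_ne h01] at this
  have hxp : (x : Matrix (Fin (m + 2)) (Fin (m + 2)) F) ^ p = 1 := by
    rw [hxv, hTpow, CharP.cast_eq_zero, hT0]
  have hxp' : x ^ p = 1 := by
    apply Units.ext
    rw [Units.val_pow_eq_pow_val, hxp, Units.val_one]
  refine ⟨x, ?_, ⟨1, ?_⟩, hns, ?_⟩
  · rw [Cfsg.Agent.Lib.H28.mem_specialLinear_iff, hxv]
    exact Matrix.det_transvection_of_ne 0 1 h01 1
  · rw [Units.val_pow_eq_pow_val, hxp, one_smul]
  · intro g _ hg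
    obtain ⟨c₀, hc₀, hc⟩ := conj_rel hQ h2 G hG x g hg
    set gm : Matrix (Fin (m + 2)) (Fin (m + 2)) F := (g : Matrix (Fin (m + 2)) (Fin (m + 2)) F)
      with hgm
    set gi : Matrix (Fin (m + 2)) (Fin (m + 2)) F :=
      ((g⁻¹ : GL (Fin (m + 2)) F) : Matrix (Fin (m + 2)) (Fin (m + 2)) F) with hgi
    have hgg : gm * gi = 1 := by
      rw [hgm, hgi, ← Units.val_mul, mul_inv_cancel, Units.val_one]
    have hgg' : gi * gm = 1 := mul_eq_one_comm.mp hgg
    set Y : Matrix (Fin (m + 2)) (Fin (m + 2)) F := gi * (x : Matrix (Fin (m + 2)) (Fin (m + 2)) F)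
      * gm with hYdef
    have hYp : Y ^ p = 1 := by
      have h1 : (g⁻¹ * x * g) ^ p = 1 := by
        have : g⁻¹ * x * g = g⁻¹ * x * (g⁻¹)⁻¹ := by rw [inv_inv]
        rw [this, _root_.conj_pow, hxp', mul_one, mul_inv_cancel]
      have h3 := congrArg Units.val h1
      rw [Units.val_pow_eq_pow_val, Units.val_mul, Units.val_mul, Units.val_one] at h3
      exact h3
    have hc1 : c₀ = 1 := by
      have h1 := mult_pow_eq_one (by omega) Y G G⁻¹ (Matrix.mul_nonsing_inv _ hGu) c₀ hc p hYp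
      have h3 : c₀ ^ p = 1 ^ p := by rw [h1, one_pow]
      exact frobenius_inj F p h3
    rw [hc1, one_smul] at hc
    -- the shape of `Y`
    set a : Fin (m + 2) → F := gi *ᵥ (Pi.single 0 1) with ha
    set w₁ : Fin (m + 2) → F := gi *ᵥ (Pi.single 1 1) with hw₁
    have hgia : gm *ᵥ a = Pi.single 0 1 := by
      rw [ha, Matrix.mulVec_mulVec, hgg, Matrix.one_mulVec]
    have hgiw : gm *ᵥ w₁ = Pi.single 1 1 := by
      rw [hw₁, Matrix.mulVec_mulVec, hgg, Matrix.one_mulVec]
    refine not_isometry_rank_one h2 G hGs hGd a w₁ (fun v => (gm *ᵥ v) 1) ?_ ?_ ?_ ?_ Y ?_ hc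
    · intro v w
      show (gm *ᵥ (v + w)) 1 = _
      rw [Matrix.mulVec_add, Pi.add_apply]
    · intro h0
      rw [h0, Matrix.mulVec_zero] at hgia
      have := congrFun hgia 0
      simp at this
    · show (gm *ᵥ a) 1 = 0
      rw [hgia, Pi.single_apply, if_neg (Ne.symm h01)]
    · show (gm *ᵥ w₁) 1 = 1
      rw [hgiw, Pi.single_apply, if_pos rfl]
    · intro v
      show Y *ᵥ v = v + (gm *ᵥ v) 1 • a
      rw [hYdef, hxv, hT]
      show (gi * Matrix.transvection (0 : Fin (m + 2)) 1 (1 : F) * gm) *ᵥ v = _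
      rw [← Matrix.mulVec_mulVec, ← Matrix.mulVec_mulVec, Matrix.transvection, Matrix.add_mulVec,
        Matrix.one_mulVec, Matrix.single_mulVec_eq, Matrix.mulVec_add, Matrix.mulVec_mulVec, hgg',
        Matrix.one_mulVec, Matrix.mulVec_smul, one_mul]

end Cfsg.Agent.Lib.H11.OrtR
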