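import Cfsg.Agent.Lib.H11.OrtR5
import Cfsg.Agent.S0286
import Cfsg.Agent.S0287
import Cfsg.Agent.S0288

/-!
# Orthogonal-type subgroups of `SL_n(q)`, `q` odd (part 6): the order of the isometry group and the
number of singular vectors of an arbitrary nondegenerate quadratic form
-/

set_option autoImplicit false
set_option linter.unusedSectionVars false
set_option linter.unusedVariables false

namespace Cfsg.Agent.Lib.H11.OrtR

open Matrix Cfsg.Agent.Lib.H11.PSLGraph Cfsg.Agent.Lib.H11.OmPar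

section transport

variable {F : Type*} [Field F] {ι κ : Type} [Fintype ι] [DecidableEq ι] [Fintype κ]
  [DecidableEq κ]

theorem card_iso_congr (φ : (ι → F) ≃ₗ[F] (κ → F)) (Q : (ι → F) → F) (Q' : (κ → F) → F)
    (hφ : ∀ x, Q' (φ x) = Q x) :
    Nat.card ↥(Cfsg.isometryGroup F Q) = Nat.card ↥(Cfsg.isometryGroup F Q') := by
  have hφ' : ∀ y, Q (φ.symm y) = Q' y := fun y => by
    rw [← hφ (φ.symm y), φ.apply_symm_apply]
  refine Nat.card_congr ⟨isoHom φ Q Q' hφ, isoHom φ.symm Q' Q hφ', ?_, ?_⟩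
  · intro g
    apply Subtype.ext
    apply Units.ext
    show cmat φ.symm * (cmat φ * ((g : GL ι F) : Matrix ι ι F) * cmat φ.symm) *
      cmat φ.symm.symm = _
    rw [LinearEquiv.symm_symm]
    simp only [Matrix.mul_assoc]
    rw [cmat_symm_mul, Matrix.mul_one, ← Matrix.mul_assoc, cmat_symm_mul, Matrix.one_mul]
  · intro g
    apply Subtype.ext
    apply Units.ext
    show cmat φ * (cmat φ.symm * ((g : GL κ F) : Matrix κ κ F) * cmat φ.symm.symm) *
      cmat φ.symm = _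
    rw [LinearEquiv.symm_symm]
    simp only [Matrix.mul_assoc]
    rw [cmat_mul_symm, Matrix.mul_one, ← Matrix.mul_assoc, cmat_mul_symm, Matrix.one_mul]

theorem card_zero_congr (φ : (ι → F) ≃ₗ[F] (κ → F)) (Q : (ι → F) → F) (Q' : (κ → F) → F)
    (hφ : ∀ x, Q' (φ x) = Q x) :
    Nat.card {v : ι → F // Q v = 0} = Nat.card {w : κ → F // Q' w = 0} :=
  Nat.card_congr (φ.toEquiv.subtypeEquiv (fun v => by
    show Q v = 0 ↔ Q' (φ v) = 0
    rw [hφ]))

theorem isometryGroup_smul (a : F) (ha : a ≠ 0) (Q' : (κ → F) → F) :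
    Cfsg.isometryGroup F (fun v => a * Q' v) = Cfsg.isometryGroup F Q' := by
  ext g
  rw [Cfsg.Agent.Lib.H11.IsoReindex.mem_iso_iff', Cfsg.Agent.Lib.H11.IsoReindex.mem_iso_iff']
  constructor
  · intro h x
    exact mul_left_cancel₀ ha (h x)
  · intro h x
    show a * Q' _ = a * Q' x
    rw [h x]

end transport

section orders

variable {F : Type*} [Field F] [Fintype F] {q n : ℕ} {Q : (Fin n → F) → F}

/-- the order of the isometry group in odd dimension -/
theorem card_iso_odd (hq : Fintype.card F = q) (hodd : Odd q)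
    (hQ : Cfsg.Geo.IsNondegenerateQuadraticForm Q) (m : ℕ) (hn : n = 2 * m + 1) :
    Nat.card ↥(Cfsg.isometryGroup F Q) =
      2 * q ^ (m ^ 2) * ∏ i ∈ Finset.range m, (q ^ (2 * (i + 1)) - 1) := by
  obtain ⟨e, d, hd, he⟩ := exists_odd_form (Cfsg.Agent.Lib.H29.Orth.toQF Q hQ)
    (Cfsg.Agent.Lib.H29.Orth.toQF_nondegenerate Q hQ) m (by rw [Fintype.card_fin, hn])
  have h1 := card_iso_congr e Q (fun w => d * Cfsg.quadFormOdd m F w) (fun x => (he x).symm)
  rw [h1, isometryGroup_smul d hd, Cfsg.Agent.S0286.result hq hodd m]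

/-- the order of the isometry group and the number of singular vectors in even dimension -/
theorem card_iso_even (hq : Fintype.card F = q)
    (hQ : Cfsg.Geo.IsNondegenerateQuadraticForm Q) (m : ℕ) (hm : 1 ≤ m) (hn : n = 2 * m) :
    (Nat.card ↥(Cfsg.isometryGroup F Q) = 2 * q ^ (m * (m - 1)) * (q ^ m - 1) *
        ∏ i ∈ Finset.range (m - 1), (q ^ (2 * (i + 1)) - 1) ∧
      Nat.card {v : Fin n → F // Q v = 0} = q ^ (2 * m - 1) + q ^ m - q ^ (m - 1)) ∨
    (Nat.card ↥(Cfsg.isometryGroup F Q) = 2 * q ^ (m * (m - 1)) * (q ^ m + 1) *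
        ∏ i ∈ Finset.range (m - 1), (q ^ (2 * (i + 1)) - 1) ∧
      Nat.card {v : Fin n → F // Q v = 0} = q ^ (2 * m - 1) + q ^ (m - 1) - q ^ m) := by
  rcases exists_plus_or_minus (Cfsg.Agent.Lib.H29.Orth.toQF Q hQ)
    (Cfsg.Agent.Lib.H29.Orth.toQF_nondegenerate Q hQ) m (by rw [Fintype.card_fin, hn]) with
    ⟨e, he, -⟩ | ⟨-, ζ, hζ, e, he, -⟩
  · left
    refine ⟨?_, ?_⟩
    · rw [card_iso_congr e Q _ he, Cfsg.Agent.S0287.result hq m hm]
    · rw [card_zero_congr e Q _ he, Cfsg.Agent.S0289.result hq m hm]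
  · right
    refine ⟨?_, ?_⟩
    · rw [card_iso_congr e Q _ he, Cfsg.Agent.S0288.result hq m hm 1 ζ (aniso_of_irred ζ hζ)]
    · rw [card_zero_congr e Q _ he, Cfsg.Agent.S0290.result hq m hm 1 ζ (aniso_of_irred ζ hζ)]

end orders

end Cfsg.Agent.Lib.H11.OrtR
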