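import Cfsg.Agent.Lib.H11.OrtR6

/-!
# Orthogonal-type subgroups of `SL_n(q)`, `q` odd (part 7): the index of the orthogonal-type
subgroup and the type of the form when `ord_r q` is even
-/

set_option autoImplicit false
set_option linter.unusedSectionVars false
set_option linter.unusedVariables false

namespace Cfsg.Agent.Lib.H11.OrtR

open Matrix Cfsg.Agent.Lib.H11.PSLGraph Cfsg.Agent.Lib.H11.OmPar Cfsg.Agent.Lib.H11.SubfR
  Cfsg.Agent.Lib.H11.UniR Cfsg.Agent.Lib.H24.Elus

section index

variable {F : Type*} [Field F] [Fintype F] {n : ℕ} {Q : (Fin n → F) → F}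

/-- if `r ∤ q - 1` divides the index of the orthogonal-type subgroup then the `r`-part of the
order of the isometry group is smaller than that of `SL_n(q)` -/
theorem vr_iso_lt (r : ℕ) [Fact r.Prime] (hr1 : ¬ r ∣ Fintype.card F - 1)
    (hΩ : r ∣ (Cfsg.Geo.quadSimilarityGroup Q).relIndex (Cfsg.Geo.specialLinear (Fin n) F)) :
    padicValNat r (Nat.card ↥(Cfsg.isometryGroup F Q)) <
      padicValNat r (Nat.card (Matrix.SpecialLinearGroup (Fin n) F)) := by
  classical
  set O := Cfsg.isometryGroup F Q with hO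
  set K := Cfsg.Geo.specialLinear (Fin n) F with hK
  set H := Cfsg.Geo.quadSimilarityGroup Q with hH
  have hOH : O ≤ H := by
    intro g hg
    rw [hO, Cfsg.Agent.Lib.H11.IsoReindex.mem_iso_iff'] at hg
    exact ⟨1, fun v => by rw [hg v, Units.val_one, one_mul]⟩
  set S := O ⊓ K with hS
  have hSK : S ≤ K := inf_le_right
  have hSO : S ≤ O := inf_le_left
  have hSH : S ≤ H := hSO.trans hOH
  have h1 : H.relIndex K ∣ S.relIndex K := Subgroup.relIndex_dvd_of_le_left K hSH
  have h2 : Nat.card ↥S * S.relIndex K = Nat.card ↥K := by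
    have e1 := Subgroup.card_mul_index (S.subgroupOf K)
    have e2 : Nat.card ↥(S.subgroupOf K) = Nat.card ↥S :=
      Nat.card_congr (Subgroup.subgroupOfEquivOfLe hSK).toEquiv
    rw [e2] at e1
    exact e1
  have hidx0 : S.relIndex K ≠ 0 := by
    intro h0
    rw [h0, mul_zero] at h2
    exact Nat.card_pos.ne' h2.symm
  have h3 : padicValNat r (Nat.card ↥K) =
      padicValNat r (Nat.card ↥S) + padicValNat r (S.relIndex K) := by
    rw [← h2, padicValNat.mul Nat.card_pos.ne' hidx0]
  have h4 : 1 ≤ padicValNat r (S.relIndex K) :=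
    one_le_padicValNat_of_dvd hidx0 (hΩ.trans h1)
  -- the determinant on the isometry group
  set f : ↥O →* Fˣ := (Matrix.GeneralLinearGroup.det : GL (Fin n) F →* Fˣ).comp O.subtype
    with hf
  have hker : f.ker = K.subgroupOf O := by
    ext g
    rw [MonoidHom.mem_ker, Subgroup.mem_subgroupOf]
    exact Iff.rfl
  have h5 : Nat.card ↥O = Nat.card ↥(f.ker) * Nat.card ↥(f.range) := by
    rw [← Subgroup.index_ker, Subgroup.card_mul_index]
  have h6 : Nat.card ↥f.ker = Nat.card ↥S := by
    rw [hker, ← Subgroup.inf_subgroupOf_right, inf_comm]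
    exact Nat.card_congr (Subgroup.subgroupOfEquivOfLe hSO).toEquiv
  have h7 : ¬ r ∣ Nat.card ↥f.range := by
    intro hd
    apply hr1
    have := Subgroup.card_subgroup_dvd_card f.range
    rw [Nat.card_eq_fintype_card (α := Fˣ), Fintype.card_units] at this
    exact hd.trans this
  have h8 : padicValNat r (Nat.card ↥O) = padicValNat r (Nat.card ↥S) := by
    rw [h5, padicValNat.mul Nat.card_pos.ne' Nat.card_pos.ne', h6,
      padicValNat.eq_zero_of_not_dvd h7, add_zero]
  rw [h8, ← card_specialLinear, h3]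
  omega

end index

section arith

/-- the sum of the terms of even index -/
theorem sum_even_terms (e : ℕ → ℕ) (he : ∀ j, Odd j → e j = 0) (m : ℕ) :
    ∑ k ∈ Finset.range (2 * m), e (k + 2) = ∑ j ∈ Finset.range m, e (2 * (j + 1)) := by
  induction m with
  | zero => simp
  | succ m ih =>
    have h1 : 2 * (m + 1) = 2 * m + 1 + 1 := by ring
    rw [h1, Finset.sum_range_succ, Finset.sum_range_succ, ih, Finset.sum_range_succ]
    have h3 : e (2 * m + 1 + 2) = 0 := he _ ⟨m + 1, by ring⟩
    rw [h3, add_zero]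
    congr 2

theorem vr_prod (r : ℕ) [Fact r.Prime] (f : ℕ → ℕ) (hf : ∀ i, f i ≠ 0) (m : ℕ) :
    (∏ i ∈ Finset.range m, f i) ≠ 0 ∧
      padicValNat r (∏ i ∈ Finset.range m, f i) = ∑ i ∈ Finset.range m, padicValNat r (f i) := by
  induction m with
  | zero => simp
  | succ m ih =>
    rw [Finset.prod_range_succ, Finset.sum_range_succ]
    refine ⟨mul_ne_zero ih.1 (hf m), ?_⟩
    rw [padicValNat.mul ih.1 (hf m), ih.2]

theorem pow_sub_one_ne_zero (q : ℕ) (hq : 2 ≤ q) (j : ℕ) (hj : 1 ≤ j) : q ^ j - 1 ≠ 0 := by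
  have : 2 ≤ q ^ j := by
    calc 2 ≤ q := hq
      _ = q ^ 1 := (pow_one _).symm
      _ ≤ q ^ j := Nat.pow_le_pow_right (by omega) hj
  omega

theorem sq_sub_one' (a : ℕ) (ha : 1 ≤ a) : a ^ 2 - 1 = (a - 1) * (a + 1) := by
  obtain ⟨t, rfl⟩ : ∃ t, a = t + 1 := ⟨a - 1, by omega⟩
  simp only [Nat.add_sub_cancel]
  have : (t + 1) ^ 2 = t * (t + 1 + 1) + 1 := by ring
  omega

theorem dvd_pow_sub_one_iff'' (r : ℕ) (a j : ℕ) (ha : 1 ≤ a) :
    r ∣ a ^ j - 1 ↔ (a : ZMod r) ^ j = 1 := by
  have h1 : 1 ≤ a ^ j := Nat.one_le_pow _ _ ha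
  rw [← ZMod.natCast_eq_zero_iff, Nat.cast_sub h1, Nat.cast_pow, Nat.cast_one, sub_eq_zero]

theorem dvd_pow_add_one_iff' (r : ℕ) (a j : ℕ) :
    r ∣ a ^ j + 1 ↔ (a : ZMod r) ^ j = -1 := by
  rw [← ZMod.natCast_eq_zero_iff, Nat.cast_add, Nat.cast_pow, Nat.cast_one,
    eq_neg_iff_add_eq_zero]

end arith

section type

variable {F : Type*} [Field F] [Fintype F] {p q : ℕ} [Fact p.Prime] [CharP F p]
  {n : ℕ} {Q : (Fin n → F) → F}

/-- when `ord_r q` is even and `r` divides the index, the dimension is even and the type of the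
form is determined -/
theorem type_of_index (hq : Fintype.card F = q) (hodd : Odd q) (hn : 3 ≤ n)
    (hQ : Cfsg.Geo.IsNondegenerateQuadraticForm Q) (r : ℕ) [Fact r.Prime] (hr2 : r ≠ 2)
    (hrq : ¬ r ∣ q) (hi : Even (orderOf (q : ZMod r))) (hi0 : 0 < orderOf (q : ZMod r))
    (hΩ : r ∣ (Cfsg.Geo.quadSimilarityGroup Q).relIndex (Cfsg.Geo.specialLinear (Fin n) F)) :
    ∃ m, 1 ≤ m ∧ n = 2 * m ∧
      (((q : ZMod r) ^ m = -1 ∧
        Nat.card {v : Fin n → F // Q v = 0} = q ^ (2 * m - 1) + q ^ m - q ^ (m - 1)) ∨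
       ((q : ZMod r) ^ m = 1 ∧
        Nat.card {v : Fin n → F // Q v = 0} = q ^ (2 * m - 1) + q ^ (m - 1) - q ^ m)) := by
  classical
  have hr : r.Prime := Fact.out
  have hq2 := two_le_card (F := F) hq
  have hi1 : orderOf (q : ZMod r) ≠ 1 := by
    intro h
    rw [h] at hi
    exact absurd hi (by decide)
  have hr1 : ¬ r ∣ Fintype.card F - 1 := by
    rw [hq]
    intro h
    exact hi1 ((order_eq_one_iff q r (by omega)).mpr h)
  have hrqF : ¬ r ∣ Fintype.card F := by rw [hq]; exact hrq
  have hlt := vr_iso_lt (Q := Q) r hr1 hΩ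
  rw [vr_card_SL r hrqF n (by omega), hq] at hlt
  set e : ℕ → ℕ := fun j => padicValNat r (q ^ j - 1) with he_def
  have he : ∀ j, Odd j → e j = 0 := by
    intro j hj
    apply padicValNat.eq_zero_of_not_dvd
    intro hd
    have hj1 : 1 ≤ j := by
      obtain ⟨k, hk⟩ := hj
      omega
    have h1 : orderOf (q : ZMod r) ∣ j :=
      orderOf_dvd_of_pow_eq_one ((dvd_pow_sub_one_iff'' r q j (by omega)).mp hd)
    have h2 : Even j := hi.trans_dvd h1
    exact (Nat.not_even_iff_odd.mpr hj) h2
  have hv2 : padicValNat r 2 = 0 := by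
    apply padicValNat.eq_zero_of_not_dvd
    intro h
    exact hr2 ((Nat.prime_dvd_prime_iff_eq hr Nat.prime_two).mp h)
  have hvq : padicValNat r q = 0 := padicValNat.eq_zero_of_not_dvd hrq
  have hfac : ∀ i, q ^ (2 * (i + 1)) - 1 ≠ 0 := fun i =>
    pow_sub_one_ne_zero q hq2 _ (by omega)
  have hprod := vr_prod r (fun i => q ^ (2 * (i + 1)) - 1) hfac
  rcases Nat.even_or_odd' n with ⟨m, hm | hm⟩
  · -- even dimension
    have hm1 : 1 ≤ m := by omega
    refine ⟨m, hm1, hm, ?_⟩
    have hsl : ∑ k ∈ Finset.range (n - 1), padicValNat r (q ^ (k + 2) - 1) =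
        (∑ j ∈ Finset.range (m - 1), e (2 * (j + 1))) + e (2 * m) := by
      have h1 : n - 1 = 2 * (m - 1) + 1 := by omega
      rw [h1, Finset.sum_range_succ]
      have := sum_even_terms e he (m - 1)
      rw [he_def] at this
      rw [this]
      have h3 : 2 * (m - 1) + 2 = 2 * m := by omega
      rw [h3]
    have h2m : e (2 * m) = e m + padicValNat r (q ^ m + 1) := by
      show padicValNat r (q ^ (2 * m) - 1) = _
      have h1 : q ^ (2 * m) - 1 = (q ^ m - 1) * (q ^ m + 1) := by
        rw [mul_comm 2 m, pow_mul]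
        exact sq_sub_one' _ (Nat.one_le_pow _ _ (by omega))
      rw [h1, padicValNat.mul (pow_sub_one_ne_zero q hq2 m hm1) (by omega)]
    rcases card_iso_even hq hQ m hm1 hm with ⟨hcard, hzero⟩ | ⟨hcard, hzero⟩
    · left
      refine ⟨?_, hzero⟩
      rw [hcard, padicValNat.mul (by
          apply mul_ne_zero
          · apply mul_ne_zero (by norm_num)
            exact pow_ne_zero _ (by omega)
          · exact pow_sub_one_ne_zero q hq2 m hm1) (hprod (m - 1)).1,
        padicValNat.mul (by
          apply mul_ne_zero (by norm_num)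
          exact pow_ne_zero _ (by omega)) (pow_sub_one_ne_zero q hq2 m hm1),
        padicValNat.mul (by norm_num) (pow_ne_zero _ (by omega)), padicValNat.pow, hv2, hvq,
        (hprod (m - 1)).2, hsl, h2m] at hlt
      have h3 : 1 ≤ padicValNat r (q ^ m + 1) := by
        simp only [mul_zero, zero_add] at hlt
        have : padicValNat r (q ^ m - 1) = e m := rfl
        have hsum : ∑ j ∈ Finset.range (m - 1), e (2 * (j + 1)) =
            ∑ i ∈ Finset.range (m - 1), padicValNat r (q ^ (2 * (i + 1)) - 1) := rfl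
        omega
      exact (dvd_pow_add_one_iff' r q m).mp (dvd_of_one_le_padicValNat h3)
    · right
      refine ⟨?_, hzero⟩
      rw [hcard, padicValNat.mul (by
          apply mul_ne_zero
          · apply mul_ne_zero (by norm_num)
            exact pow_ne_zero _ (by omega)
          · omega) (hprod (m - 1)).1,
        padicValNat.mul (by
          apply mul_ne_zero (by norm_num)
          exact pow_ne_zero _ (by omega)) (by omega),
        padicValNat.mul (by norm_num) (pow_ne_zero _ (by omega)), padicValNat.pow, hv2, hvq,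
        (hprod (m - 1)).2, hsl, h2m] at hlt
      have h3 : 1 ≤ padicValNat r (q ^ m - 1) := by
        simp only [mul_zero, zero_add] at hlt
        have : padicValNat r (q ^ m - 1) = e m := rfl
        have hsum : ∑ j ∈ Finset.range (m - 1), e (2 * (j + 1)) =
            ∑ i ∈ Finset.range (m - 1), padicValNat r (q ^ (2 * (i + 1)) - 1) := rfl
        omega
      exact (dvd_pow_sub_one_iff'' r q m (by omega)).mp (dvd_of_one_le_padicValNat h3)
  · -- odd dimension: impossible
    exfalso
    have hcard := card_iso_odd hq hodd hQ m hm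
    rw [hcard, padicValNat.mul (by
        apply mul_ne_zero (by norm_num)
        exact pow_ne_zero _ (by omega)) (hprod m).1,
      padicValNat.mul (by norm_num) (pow_ne_zero _ (by omega)), padicValNat.pow, hv2, hvq,
      (hprod m).2] at hlt
    have h1 : n - 1 = 2 * m := by omega
    rw [h1] at hlt
    have := sum_even_terms e he m
    rw [he_def] at this
    rw [this] at hlt
    simp only [mul_zero, zero_add] at hlt
    exact lt_irrefl _ hlt

end type

end Cfsg.Agent.Lib.H11.OrtR
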