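import Cfsg.Agent.Lib.H11.OrtR7

/-!
# Orthogonal-type subgroups of `SL_n(q)`, `q` odd (part 8): the fixed-point-free derangement when
`ord_r q` is even
-/

set_option autoImplicit false
set_option linter.unusedSectionVars false
set_option linter.unusedVariables false

namespace Cfsg.Agent.Lib.H11.OrtR

open Matrix Polynomial Module Cfsg.Agent.Lib.H13
  Cfsg.Agent.Lib.H11.InvCls Cfsg.Agent.Lib.H11.SubfR Cfsg.Agent.Lib.H11.UniR
  Cfsg.Agent.Lib.H11.PSLGraph Cfsg.Agent.Lib.H24.Elus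

section fpf

variable {F : Type*} [Field F] [Fintype F] {n : ℕ} {Q : (Fin n → F) → F}

/-- the action of an isometry on the set of singular vectors -/
def zeroEnd (Y : Matrix (Fin n) (Fin n) F) (hY : ∀ v, Q (Y *ᵥ v) = Q v) :
    Function.End {v : Fin n → F // Q v = 0} :=
  fun v => ⟨Y *ᵥ v.1, by rw [hY, v.2]⟩

theorem zeroEnd_pow (Y : Matrix (Fin n) (Fin n) F) (hY : ∀ v, Q (Y *ᵥ v) = Q v) (k : ℕ)
    (v : {v : Fin n → F // Q v = 0}) : ((zeroEnd Y hY ^ k) v).1 = (Y ^ k) *ᵥ v.1 := by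
  induction k generalizing v with
  | zero =>
    rw [pow_zero, pow_zero, Matrix.one_mulVec]
    rfl
  | succ k ih =>
    rw [pow_succ, pow_succ]
    show ((zeroEnd Y hY ^ k) (zeroEnd Y hY v)).1 = _
    rw [ih, ← Matrix.mulVec_mulVec]
    rfl

/-- a fixed-point-free isometry of order `r` forces the number of singular vectors to be `1`
modulo `r` -/
theorem card_zero_of_fpf (r : ℕ) [Fact r.Prime] (Y : Matrix (Fin n) (Fin n) F)
    (hY : ∀ v, Q (Y *ᵥ v) = Q v) (hQ0 : Q 0 = 0) (hYr : Y ^ r = 1)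
    (hfpf : ∀ v, Y *ᵥ v = v → v = 0) :
    ((Nat.card {v : Fin n → F // Q v = 0} : ℕ) : ZMod r) = 1 := by
  classical
  set f := zeroEnd Y hY with hf
  have hfr : f ^ r ^ 1 = 1 := by
    rw [pow_one]
    funext v
    apply Subtype.ext
    rw [hf, zeroEnd_pow, hYr, Matrix.one_mulVec]
    rfl
  have hmod := Equiv.Perm.card_fixedPoints_modEq (p := r) (n := 1) hfr
  have hfix : ∀ (inst : Fintype (Function.fixedPoints f)), @Fintype.card _ inst = 1 := by
    intro inst
    rw [Fintype.card_eq_one_iff]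
    refine ⟨⟨⟨0, hQ0⟩, ?_⟩, ?_⟩
    · show f ⟨0, hQ0⟩ = ⟨0, hQ0⟩
      apply Subtype.ext
      show Y *ᵥ (0 : Fin n → F) = 0
      rw [Matrix.mulVec_zero]
    · rintro ⟨v, hv⟩
      apply Subtype.ext
      apply Subtype.ext
      show v.1 = 0
      apply hfpf
      have := congrArg Subtype.val hv
      exact this
  rw [hfix] at hmod
  rw [Nat.card_eq_fintype_card]
  have := (ZMod.natCast_eq_natCast_iff _ _ _).mpr hmod
  rw [this, Nat.cast_one]

end fpf

section main

variable {F : Type*} [Field F] [Fintype F] {p q : ℕ} [Fact p.Prime] [CharP F p]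
  {n : ℕ} {Q : (Fin n → F) → F}

theorem not_dvd_card'' (hq : Fintype.card F = q) (r : ℕ) [Fact r.Prime] (hrp : r ≠ p) :
    ¬ r ∣ q := by
  obtain ⟨f, -, hf⟩ := FiniteField.card F p
  rw [← hq, hf]
  intro h
  have h1 := (Fact.out : r.Prime).dvd_of_dvd_pow h
  exact hrp ((Nat.prime_dvd_prime_iff_eq Fact.out Fact.out).mp h1)

/-- the arithmetic behind the count of singular vectors -/
theorem zero_count_arith (r : ℕ) [Fact r.Prime] (q m N : ℕ) (hq : 1 ≤ q) (hm : 1 ≤ m)
    (h : ((q : ZMod r) ^ m = -1 ∧ N = q ^ (2 * m - 1) + q ^ m - q ^ (m - 1)) ∨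
      ((q : ZMod r) ^ m = 1 ∧ N = q ^ (2 * m - 1) + q ^ (m - 1) - q ^ m)) :
    (N : ZMod r) * (q : ZMod r) = 2 - (q : ZMod r) := by
  set s : ZMod r := (q : ZMod r) with hs
  have e1 : s ^ (2 * m - 1) * s = (s ^ m) ^ 2 := by
    rw [← pow_succ, ← pow_mul]
    congr 1
    omega
  have e2 : s ^ (m - 1) * s = s ^ m := by
    rw [← pow_succ]
    congr 1
    omega
  rcases h with ⟨hsm, hN⟩ | ⟨hsm, hN⟩
  · have hle : q ^ (m - 1) ≤ q ^ (2 * m - 1) + q ^ m := by
      have : q ^ (m - 1) ≤ q ^ m := Nat.pow_le_pow_right hq (by omega)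
      omega
    rw [hN, Nat.cast_sub hle, Nat.cast_add, Nat.cast_pow, Nat.cast_pow, Nat.cast_pow, ← hs,
      sub_mul, add_mul, e1, e2, hsm]
    ring
  · have hle : q ^ m ≤ q ^ (2 * m - 1) + q ^ (m - 1) := by
      have : q ^ m ≤ q ^ (2 * m - 1) := Nat.pow_le_pow_right hq (by omega)
      omega
    rw [hN, Nat.cast_sub hle, Nat.cast_add, Nat.cast_pow, Nat.cast_pow, Nat.cast_pow, ← hs,
      sub_mul, add_mul, e1, e2, hsm]
    ring

/-- the fixed-point-free element of order `r` is a derangement when `ord_r q` is even and `r`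
divides the index -/
theorem der_even (hq : Fintype.card F = q) (hodd : Odd q) (hn : 3 ≤ n)
    (hQ : Cfsg.Geo.IsNondegenerateQuadraticForm Q) (h2 : (2 : F) ≠ 0)
    (r : ℕ) [Fact r.Prime] (hr2 : r ≠ 2) (hrp : r ≠ p)
    (hi : Even (orderOf (q : ZMod r)))
    (hΩ : r ∣ (Cfsg.Geo.quadSimilarityGroup Q).relIndex (Cfsg.Geo.specialLinear (Fin n) F)) :
    ∃ x ∈ Cfsg.Geo.specialLinear (Fin n) F,
      (∃ z : F, ((x ^ r : GL (Fin n) F) : Matrix (Fin n) (Fin n) F) =
        z • (1 : Matrix (Fin n) (Fin n) F)) ∧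
      (∀ z : F, (x : Matrix (Fin n) (Fin n) F) ≠ z • (1 : Matrix (Fin n) (Fin n) F)) ∧
      ∀ g ∈ Cfsg.Geo.specialLinear (Fin n) F,
        g⁻¹ * x * g ∉ Cfsg.Geo.quadSimilarityGroup Q := by
  classical
  have hr : r.Prime := Fact.out
  have hq2 := two_le_card (F := F) hq
  have hrq : ¬ r ∣ q := not_dvd_card'' hq r hrp
  set s : ZMod r := (q : ZMod r) with hs
  have hs0 : s ≠ 0 := by
    rw [hs, Ne, ZMod.natCast_eq_zero_iff]
    exact hrq
  have hsfin : IsOfFinOrder s := by
    rw [isOfFinOrder_iff_pow_eq_one]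
    exact ⟨r - 1, by have := hr.two_le; omega, ZMod.pow_card_sub_one_eq_one hs0⟩
  have hi0 : 0 < orderOf s := orderOf_pos_iff.mpr hsfin
  set i := orderOf s with hi_def
  have hi1 : i ≠ 1 := by
    intro h
    rw [h] at hi
    exact absurd hi (by decide)
  have hi2 : 2 ≤ i := by omega
  obtain ⟨m, hm1, hnm, htype⟩ := type_of_index hq hodd hn hQ r hr2 hrq hi hi0 hΩ
  have hkey := zero_count_arith r q m _ (by omega) hm1 htype
  -- `i ∣ n`
  have hin : i ∣ n := by
    apply orderOf_dvd_of_pow_eq_one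
    rw [hnm, mul_comm, pow_mul]
    rcases htype with ⟨h, -⟩ | ⟨h, -⟩
    · rw [hs, h]; ring
    · rw [hs, h]; ring
  obtain ⟨k, hk⟩ := hin
  have hcop : Nat.Coprime (Fintype.card F - 1) r := by
    rw [hq]
    exact coprime_of_order_ne_one q r (by omega) hi1
  -- the element
  have hcard := CycFactor.card_S (F := F) hq hr hrp
  have hne : Nonempty (CycFactor.S r F) := by
    rw [← Fintype.card_pos_iff]
    rcases Nat.eq_zero_or_pos (Fintype.card (CycFactor.S r F)) with h0 | h0
    · rw [h0, zero_mul] at hcard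
      have := hr.two_le
      omega
    · exact h0
  obtain ⟨s₀⟩ := hne
  have hirr := CycFactor.irreducible_fJ (F := F) (r := r)
  have hcopf := CycFactor.coprime_fJ (F := F) hr hrp
  have hprod := CycFactor.prod_fJ (F := F) hr hrp
  obtain ⟨x, hx, hmu⟩ := GLPrime.exists_of_mu (n := n) (CycFactor.fJ (F := F) r) hirr hcopf hprod
    hr.pos (fun j => j.elim 0 (fun t => if t = s₀ then k else 0)) (by
      rw [Fintype.sum_option]
      simp only [Option.elim_none, Option.elim_some]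
      rw [zero_mul, zero_add, Finset.sum_eq_single s₀]
      · rw [if_pos rfl, CycFactor.natDegree_fJ_some hq hr hrp, hk, mul_comm]
      · intro t _ ht
        rw [if_neg ht, zero_mul]
      · intro h
        exact absurd (Finset.mem_univ _) h)
  have hdet : (x : Matrix (Fin n) (Fin n) F).det = 1 := by
    apply eq_one_of_pow_coprime r hr.pos hcop
    rw [← Matrix.det_pow, hx, Matrix.det_one]
  have hfix : finrank F (LinearMap.ker (aeval (Matrix.toLin' (x : Matrix (Fin n) (Fin n) F))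
      (X - 1 : F[X]))) = 0 := by
    have := hmu none
    simp only [Option.elim_none, zero_mul] at this
    exact this
  have hfpf : ∀ v, (x : Matrix (Fin n) (Fin n) F) *ᵥ v = v → v = 0 := by
    intro v hv
    have hbot := Submodule.finrank_eq_zero.mp hfix
    have hmem : v ∈ LinearMap.ker (aeval (Matrix.toLin' (x : Matrix (Fin n) (Fin n) F))
        (X - 1 : F[X])) := by
      rw [LinearMap.mem_ker, map_sub, aeval_X, map_one, LinearMap.sub_apply, Matrix.toLin'_apply,
        hv]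
      exact sub_self v
    rw [hbot] at hmem
    exact (Submodule.mem_bot F).mp hmem
  have hns : ∀ z : F, (x : Matrix (Fin n) (Fin n) F) ≠ z • 1 := by
    intro z hz
    have hv := hfpf (Pi.single ⟨0, by omega⟩ 1)
    have hz1 : z = 1 := by
      apply eq_one_of_pow_coprime r hr.pos hcop
      apply PGLPrime.pow_eq_of_smul_one (by omega : 1 ≤ n) hr.pos z 1
      rw [← hz, hx, one_smul]
    rw [hz, hz1, one_smul, Matrix.one_mulVec] at hv
    have := congrFun (hv rfl) ⟨0, by omega⟩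
    simp at this
  refine ⟨x, ?_, ⟨1, ?_⟩, hns, ?_⟩
  · rw [Cfsg.Agent.Lib.H28.mem_specialLinear_iff, hdet]
  · rw [Units.val_pow_eq_pow_val, hx, one_smul]
  · intro g _ hg
    obtain ⟨G, hGs, hGd, hG, hQG⟩ := exists_gram_q hQ h2
    have hGu : IsUnit G.det := isUnit_iff_ne_zero.mpr hGd
    obtain ⟨c₀, hc₀, hc⟩ := conj_rel hQ h2 G hG x g hg
    set gm : Matrix (Fin n) (Fin n) F := (g : Matrix (Fin n) (Fin n) F) with hgm
    set gi : Matrix (Fin n) (Fin n) F := ((g⁻¹ : GL (Fin n) F) : Matrix (Fin n) (Fin n) F)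
      with hgi
    have hgg : gm * gi = 1 := by
      rw [hgm, hgi, ← Units.val_mul, mul_inv_cancel, Units.val_one]
    have hgg' : gi * gm = 1 := mul_eq_one_comm.mp hgg
    set Y : Matrix (Fin n) (Fin n) F := gi * (x : Matrix (Fin n) (Fin n) F) * gm with hYdef
    have hxr' : x ^ r = 1 := by
      apply Units.ext
      rw [Units.val_pow_eq_pow_val, hx, Units.val_one]
    have hYr : Y ^ r = 1 := by
      have h1 : (g⁻¹ * x * g) ^ r = 1 := by
        have : g⁻¹ * x * g = g⁻¹ * x * (g⁻¹)⁻¹ := by rw [inv_inv]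
        rw [this, _root_.conj_pow, hxr', mul_one, mul_inv_cancel]
      have h3 := congrArg Units.val h1
      rw [Units.val_pow_eq_pow_val, Units.val_mul, Units.val_mul, Units.val_one] at h3
      exact h3
    have hc1 : c₀ = 1 := by
      apply eq_one_of_pow_coprime r hr.pos hcop
      exact mult_pow_eq_one (by omega) Y G G⁻¹ (Matrix.mul_nonsing_inv _ hGu) c₀ hc r hYr
    rw [hc1, one_smul] at hc
    have hYQ : ∀ v, Q (Y *ᵥ v) = Q v := by
      intro v
      rw [hQG, hQG, bf_mulVec, hc]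
    have hQ0 : Q 0 = 0 := by
      have := hQ.smul 0 0
      rw [zero_smul] at this
      rw [this]
      ring
    have hYfpf : ∀ v, Y *ᵥ v = v → v = 0 := by
      intro v hv
      have h1 : (x : Matrix (Fin n) (Fin n) F) *ᵥ (gm *ᵥ v) = gm *ᵥ v := by
        have h3 : gm *ᵥ (Y *ᵥ v) = gm *ᵥ v := by rw [hv]
        rw [hYdef, Matrix.mulVec_mulVec, ← Matrix.mul_assoc, ← Matrix.mul_assoc, hgg,
          Matrix.one_mul, ← Matrix.mulVec_mulVec] at h3
        exact h3
      have h3 := hfpf _ h1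
      have h4 : gi *ᵥ (gm *ᵥ v) = gi *ᵥ 0 := by rw [h3]
      rwa [Matrix.mulVec_mulVec, hgg', Matrix.one_mulVec, Matrix.mulVec_zero] at h4
    have hN := card_zero_of_fpf r Y hYQ hQ0 hYr hYfpf
    rw [hN, one_mul] at hkey
    -- `s = 1`
    have h2' := zmod_two_ne_zero (r := r) hr2
    have hs1 : s = 1 := by
      have h3 : (2 : ZMod r) * (s - 1) = 0 := by linear_combination hkey
      rcases mul_eq_zero.mp h3 with h | h
      · exact absurd h h2'
      · exact sub_eq_zero.mp h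
    apply hi1
    rw [hi_def, hs1, orderOf_one]

end main

end Cfsg.Agent.Lib.H11.OrtR
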