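import Cfsg.Agent.Lib.H11.SuDec9
import Cfsg.Agent.Lib.H11.HermNorm4
import Cfsg.Agent.Lib.H11.InvCls5

/-!
# Pairs of complementary totally isotropic subspaces (part 10): involutions
-/

set_option autoImplicit false
set_option linter.unusedSectionVars false
set_option linter.unusedVariables false

namespace Cfsg.Agent.Lib.H11.SuDec

open Matrix Module
open Cfsg.Agent.Lib.H13.AutPSU
open Cfsg.Agent.Lib.H11.SuPair (HPair)
open Cfsg.Agent.Lib.H11.InvCls (finrank_ker_toLin' submatrix_add' mat_of_conj)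

variable {F : Type*} [Field F] {n q k : ℕ}

/-- the standard signed diagonal matrix -/
def Sg (F : Type*) [Field F] (b a : ℕ) : Matrix (Fin b ⊕ Fin a) (Fin b ⊕ Fin a) F :=
  Matrix.fromBlocks (-1) 0 0 1

theorem Sg_mul_Sg (b a : ℕ) : Sg F b a * Sg F b a = 1 := by
  unfold Sg
  rw [Matrix.fromBlocks_multiply, ← Matrix.fromBlocks_one]
  simp

theorem det_Sg (b a : ℕ) : (Sg F b a).det = (-1) ^ b := by
  unfold Sg
  rw [Matrix.det_fromBlocks_zero₂₁, Matrix.det_one, mul_one, Matrix.det_neg, Matrix.det_one,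
    mul_one, Fintype.card_fin]

theorem ct_Sg (D : UF F q) (b a : ℕ) : ct D (Sg F b a) = Sg F b a := by
  ext (i | i) (j | j)
  · simp only [ct_apply, Sg, Matrix.fromBlocks_apply₁₁, Matrix.neg_apply, Matrix.one_apply]
    by_cases h : i = j
    · subst h; simp
    · rw [if_neg h, if_neg (Ne.symm h)]; simp
  · simp [ct_apply, Sg]
  · simp [ct_apply, Sg]
  · simp only [ct_apply, Sg, Matrix.fromBlocks_apply₂₂, Matrix.one_apply]
    by_cases h : i = j
    · subst h; simp
    · rw [if_neg h, if_neg (Ne.symm h)]; simp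

theorem rank_Sg_add_one (h2 : (2 : F) ≠ 0) {ι : Type*} [Fintype ι] [DecidableEq ι] (b a : ℕ)
    (e : ι ≃ Fin b ⊕ Fin a) : ((Sg F b a).submatrix e e + 1).rank = a := by
  have h1 : (Sg F b a).submatrix e e + 1 = (Sg F b a + 1).submatrix e e := by
    rw [submatrix_add', Matrix.submatrix_one_equiv]
  have h3 : Sg F b a + 1 =
      Matrix.fromBlocks 0 0 0 ((2 : F) • (1 : Matrix (Fin a) (Fin a) F)) := by
    unfold Sg
    rw [← Matrix.fromBlocks_one, Matrix.fromBlocks_add, two_smul]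
    simp
  have h4 : ((2 : F) • (1 : Matrix (Fin a) (Fin a) F)).rank = a := by
    have : IsUnit ((2 : F) • (1 : Matrix (Fin a) (Fin a) F)) := by
      rw [Matrix.isUnit_iff_isUnit_det, Matrix.det_smul, Matrix.det_one, mul_one]
      exact (isUnit_iff_ne_zero.2 h2).pow _
    rw [Matrix.rank_of_isUnit _ this, Fintype.card_fin]
  rw [h1, h3, Matrix.rank_submatrix, Cfsg.Agent.Lib.H11.Jordan.rank_fromBlocks_diag,
    Matrix.rank_zero, h4, zero_add]

theorem toLin'_add_id (M : Matrix (Fin n) (Fin n) F) :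
    Matrix.toLin' M + LinearMap.id = Matrix.toLin' (M + 1) := by
  rw [map_add, Matrix.toLin'_one]

theorem finrank_ker_Sg (h2 : (2 : F) ≠ 0) (b a : ℕ) (e : Fin n ≃ Fin b ⊕ Fin a) :
    finrank F (LinearMap.ker (Matrix.toLin' ((Sg F b a).submatrix e e) + LinearMap.id)) = b := by
  have h5 := finrank_ker_toLin' ((Sg F b a).submatrix e e + 1)
  rw [rank_Sg_add_one h2] at h5
  rw [toLin'_add_id]
  have hc := Fintype.card_congr e
  rw [Fintype.card_fin, Fintype.card_sum, Fintype.card_fin, Fintype.card_fin] at hc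
  omega

theorem invol_of_sq (u : Matrix (Fin n) (Fin n) F) (huu : u * u = 1) :
    ∀ v, Matrix.toLin' u (Matrix.toLin' u v) = v := by
  intro v
  rw [← LinearMap.comp_apply, ← Matrix.toLin'_mul, huu, Matrix.toLin'_one, LinearMap.id_apply]

/-- the determinant of an involution -/
theorem det_of_invol (h2 : (2 : F) ≠ 0) (u : Matrix (Fin n) (Fin n) F) (huu : u * u = 1) :
    u.det = (-1) ^ finrank F (LinearMap.ker (Matrix.toLin' u + LinearMap.id)) := by
  set b' := finrank F (LinearMap.ker (Matrix.toLin' u + LinearMap.id)) with hb'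
  have hb'n : b' ≤ n := by
    have := Submodule.finrank_le (LinearMap.ker (Matrix.toLin' u + LinearMap.id))
    rwa [Module.finrank_fintype_fun_eq_card, Fintype.card_fin] at this
  set a' := n - b' with ha'
  let e : Fin n ≃ Fin b' ⊕ Fin a' :=
    (finCongr (by omega)).trans (finSumFinEquiv (m := b') (n := a')).symm
  have hDD : (Sg F b' a').submatrix e e * (Sg F b' a').submatrix e e = 1 := by
    rw [Matrix.submatrix_mul_equiv, Sg_mul_Sg, Matrix.submatrix_one_equiv]
  obtain ⟨g, hg⟩ := Cfsg.Agent.Lib.H13.InvolConjLin.conj_of_finrank h2 _ _ (invol_of_sq u huu)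
    (invol_of_sq _ hDD) (hb'.symm.trans (finrank_ker_Sg h2 b' a' e).symm)
  obtain ⟨P, Pi, hP, hconj⟩ := mat_of_conj u ((Sg F b' a').submatrix e e) g hg
  have hPdet : P.det ≠ 0 := by
    intro h
    have := congrArg Matrix.det hP
    rw [Matrix.det_mul, h, zero_mul, Matrix.det_one] at this
    exact zero_ne_one this
  have h1 := congrArg Matrix.det hconj
  rw [Matrix.det_mul, Matrix.det_mul, Matrix.det_submatrix_equiv_self, mul_comm] at h1
  have h3 := mul_right_cancel₀ hPdet h1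
  rw [h3, det_Sg]

variable {D : UF F q}

theorem Frame.rank_conj (b : Frame D n k) (hn : n = k + k)
    (M : Matrix (Fin k ⊕ Fin k) (Fin k ⊕ Fin k) F) : (b.P * M * b.Q).rank = M.rank := by
  let σ : Fin n ≃ Fin k ⊕ Fin k := (finCongr hn).trans finSumFinEquiv.symm
  have h1 : b.P * M * b.Q = b.P.submatrix id σ * M.submatrix σ σ * b.Q.submatrix σ id := by
    rw [Matrix.submatrix_mul_equiv, Matrix.submatrix_mul_equiv, Matrix.submatrix_id_id]
  have h2 : b.P.submatrix id σ * b.Q.submatrix σ id = 1 := by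
    rw [Matrix.submatrix_mul_equiv, b.hPQ, Matrix.submatrix_id_id]
  have h3 : b.Q.submatrix σ id * b.P.submatrix id σ = 1 := mul_eq_one_comm.mp h2
  have hu1 : IsUnit (b.P.submatrix id σ).det := by
    have := congrArg Matrix.det h2
    rw [Matrix.det_mul, Matrix.det_one] at this
    exact IsUnit.of_mul_eq_one _ this
  have hu2 : IsUnit (b.Q.submatrix σ id).det := by
    have := congrArg Matrix.det h3
    rw [Matrix.det_mul, Matrix.det_one] at this
    exact IsUnit.of_mul_eq_one _ this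
  rw [h1, Matrix.rank_mul_eq_left_of_isUnit_det _ _ hu2,
    Matrix.rank_mul_eq_right_of_isUnit_det _ _ hu1, Matrix.rank_submatrix]

variable [Fintype F]

/-- `-1` is not an `n`-th power of an element of norm one when `(q + 1)_2 ≤ (n)_2` -/
theorem pow_ne_neg_one_of_norm (h2 : (2 : F) ≠ 0) (hn : n ≠ 0)
    (hv : padicValNat 2 (q + 1) ≤ padicValNat 2 n) (lam : F) (hlam : lam ^ (q + 1) = 1) :
    lam ^ n ≠ -1 := by
  intro hcon
  set m' := ordCompl[2] (q + 1) with hm'
  have h1 : ordProj[2] (q + 1) * m' = q + 1 := Nat.ordProj_mul_ordCompl_eq_self (q + 1) 2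
  have h3 : ordProj[2] (q + 1) ∣ n := by
    show 2 ^ (q + 1).factorization 2 ∣ n
    rw [Nat.factorization_def _ Nat.prime_two]
    exact (pow_dvd_pow 2 hv).trans pow_padicValNat_dvd
  have h4 : (q + 1) ∣ n * m' := by
    rw [← h1]
    exact Nat.mul_dvd_mul h3 (dvd_refl _)
  have hodd : Odd m' := by
    rw [← Nat.not_even_iff_odd, even_iff_two_dvd]
    exact Nat.not_dvd_ordCompl Nat.prime_two (by omega)
  have h5 : lam ^ (n * m') = 1 := by
    obtain ⟨c, hc⟩ := h4
    rw [hc, pow_mul, hlam, one_pow]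
  rw [pow_mul, hcon, hodd.neg_one_pow] at h5
  have : (2 : F) = 0 := by linear_combination -h5
  exact h2 this

variable {Dd : Fin 2 → Submodule F (Fin n → F)}

/-- fusion of the elements `x = λ y` with `y` an involution, `λ λ^q = 1` -/
theorem fuse_split (hF : Fintype.card F = q ^ 2) (hP : HPair (phi D) (Dd 0) (Dd 1) k)
    (hk : 1 ≤ k) (h2 : (2 : F) ≠ 0)
    (hv : padicValNat 2 (q + 1) ≤ padicValNat 2 n)
    (x : GL (Fin n) F) (hx : x ∈ Cfsg.GU n F q ⊓ Cfsg.Geo.specialLinear (Fin n) F) (lam : F)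
    (hlam : lam * D.τ lam = 1)
    (hx2 : (x : Matrix (Fin n) (Fin n) F) * (x : Matrix (Fin n) (Fin n) F) = (lam * lam) • 1) :
    ∃ g ∈ Cfsg.GU n F q ⊓ Cfsg.Geo.specialLinear (Fin n) F,
      g⁻¹ * x * g ∈ Cfsg.Geo.decompositionStabilizer Dd := by
  classical
  have hn := HPair.two_mul hP
  have hlam0 : lam ≠ 0 := left_ne_zero_of_mul_eq_one hlam
  have hlamq : lam ^ (q + 1) = 1 := by
    rw [pow_succ', ← D.hτ]
    exact hlam
  obtain ⟨b, hb1, hb2⟩ := exists_frame hP
  set xm : Matrix (Fin n) (Fin n) F := (x : Matrix (Fin n) (Fin n) F) with hxm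
  have hxu : ct D xm * xm = 1 := (mem_GU_iff_ct (D := D) x).1 hx.1
  have hxdet : xm.det = 1 := (Cfsg.Agent.Lib.H28.mem_specialLinear_iff x).1 hx.2
  -- the involution
  set y : Matrix (Fin n) (Fin n) F := lam⁻¹ • xm with hy
  have hxy : xm = lam • y := by
    rw [hy, smul_smul, mul_inv_cancel₀ hlam0, one_smul]
  have hyy : y * y = 1 := by
    rw [hy, Matrix.smul_mul, Matrix.mul_smul, hx2, smul_smul, smul_smul]
    have : lam⁻¹ * lam⁻¹ * (lam * lam) = 1 := by field_simp
    rw [this, one_smul]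
  set b₀ := finrank F (LinearMap.ker (Matrix.toLin' y + LinearMap.id)) with hb₀
  have hb₀n : b₀ ≤ n := by
    have := Submodule.finrank_le (LinearMap.ker (Matrix.toLin' y + LinearMap.id))
    rwa [Module.finrank_fintype_fun_eq_card, Fintype.card_fin] at this
  have hdety := det_of_invol h2 y hyy
  have hdet2 : lam ^ n * (-1) ^ b₀ = 1 := by
    have h1 : xm.det = lam ^ n * y.det := by
      rw [hxy, Matrix.det_smul, Fintype.card_fin]
    rw [← hdety, ← h1, hxdet]
  have heven : Even b₀ := by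
    by_contra hodd
    rw [Nat.not_even_iff_odd] at hodd
    rw [hodd.neg_one_pow] at hdet2
    apply pow_ne_neg_one_of_norm h2 (by omega) hv lam hlamq
    linear_combination -hdet2
  obtain ⟨b', hb'⟩ := heven
  have hb'k : b' ≤ k := by omega
  set a' := k - b' with ha'
  let ek : Fin k ≃ Fin b' ⊕ Fin a' :=
    (finCongr (by omega)).trans (finSumFinEquiv (m := b') (n := a')).symm
  set A : Matrix (Fin k) (Fin k) F := (Sg F b' a').submatrix ek ek with hA
  have hAA : A * A = 1 := by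
    rw [hA, Matrix.submatrix_mul_equiv, Sg_mul_Sg, Matrix.submatrix_one_equiv]
  have hctA : ct D A = A := by
    rw [hA]
    have : ct D ((Sg F b' a').submatrix ek ek) = (ct D (Sg F b' a')).submatrix ek ek := rfl
    rw [this, ct_Sg]
  set y' : Matrix (Fin n) (Fin n) F := b.psiM A A with hy'
  have hy'y' : y' * y' = 1 := b.psiM_inv A A hAA
  have hy'u : ct D y' * y' = 1 := b.psiM_unitary A A hAA
  -- the dimension of the `-1`-eigenspace of `y'`
  have hrank : (y' + 1).rank = 2 * a' := by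
    have h1 : y' + 1 = b.P * (Matrix.fromBlocks (A + 1) 0 0 (A + 1)) * b.Q := by
      rw [hy']
      unfold Frame.psiM
      rw [hctA]
      have : (Matrix.fromBlocks (A + 1) 0 0 (A + 1) : Matrix (Fin k ⊕ Fin k) (Fin k ⊕ Fin k) F) =
          Matrix.fromBlocks A 0 0 A + 1 := by
        rw [← Matrix.fromBlocks_one, Matrix.fromBlocks_add]
        simp
      rw [this, Matrix.mul_add, Matrix.add_mul, Matrix.mul_one, b.hPQ]
    rw [h1, b.rank_conj hn, Cfsg.Agent.Lib.H11.Jordan.rank_fromBlocks_diag, hA,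
      rank_Sg_add_one h2]
    ring
  have hker' : finrank F (LinearMap.ker (Matrix.toLin' y' + LinearMap.id)) = b₀ := by
    have h5 := finrank_ker_toLin' (y' + 1)
    rw [hrank] at h5
    rw [toLin'_add_id]
    omega
  obtain ⟨g, hg⟩ := Cfsg.Agent.Lib.H13.InvolConjLin.conj_of_finrank h2 _ _ (invol_of_sq y hyy)
    (invol_of_sq y' hy'y') (hb₀.symm.trans hker'.symm)
  obtain ⟨P, Pi, hP1, hconj⟩ := mat_of_conj y y' g hg
  have hP2 : Pi * P = 1 := mul_eq_one_comm.mp hP1
  -- the unitary conjugating element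
  have hBu : ct D (lam • y') * (lam • y') = 1 := by
    rw [ct_smul, Matrix.smul_mul, Matrix.mul_smul, smul_smul, hy'u, mul_comm, hlam, one_smul]
  have hconj' : P * xm = (lam • y') * P := by
    rw [hxy, Matrix.mul_smul, hconj, Matrix.smul_mul]
  obtain ⟨u, hu, hux⟩ := Cfsg.Agent.Lib.H11.HermNorm.exists_unitary_conj D xm (lam • y') P Pi
    hxu hBu hP1 hP2 hconj'
  have hu' : u * ct D u = 1 := mul_eq_one_comm.mp hu
  set U : GL (Fin n) F := ⟨u, ct D u, hu', hu⟩ with hU
  have hUGU : U ∈ Cfsg.GU n F q := by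
    rw [mem_GU_iff_ct (D := D)]
    exact hu
  apply adjust b hk hb1 hb2 x U⁻¹ ((Cfsg.GU n F q).inv_mem hUGU)
  have hval : ((U⁻¹⁻¹ * x * U⁻¹ : GL (Fin n) F) : Matrix (Fin n) (Fin n) F) = lam • y' := by
    rw [inv_inv, Units.val_mul, Units.val_mul]
    show u * xm * ct D u = lam • y'
    rw [hux, Matrix.mul_assoc, hu', Matrix.mul_one]
  apply Cfsg.Agent.Lib.H11.PairStab.mem_stab_of_stab2
  · intro v hv'
    rw [hval, Matrix.smul_mulVec]
    apply (Dd 0).smul_mem
    rw [← hb1] at hv' ⊢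
    exact b.psiM_mem_U₁ A A v hv'
  · intro v hv'
    rw [hval, Matrix.smul_mulVec]
    apply (Dd 1).smul_mem
    rw [← hb2] at hv' ⊢
    exact b.psiM_mem_U₂ A A v hv'

/-- all elements of order two (modulo scalars) fuse when `q` is odd and `(q + 1)_2 ≤ (n)_2` -/
theorem fuse_two (hF : Fintype.card F = q ^ 2) (hP : HPair (phi D) (Dd 0) (Dd 1) k)
    (hk : 1 ≤ k) (h2 : (2 : F) ≠ 0) (hq : Odd q)
    (hv : padicValNat 2 (q + 1) ≤ padicValNat 2 n)
    (x : GL (Fin n) F) (hx : x ∈ Cfsg.GU n F q ⊓ Cfsg.Geo.specialLinear (Fin n) F) (z : F)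
    (hz : ((x ^ 2 : GL (Fin n) F) : Matrix (Fin n) (Fin n) F) = z • 1) :
    ∃ g ∈ Cfsg.GU n F q ⊓ Cfsg.Geo.specialLinear (Fin n) F,
      g⁻¹ * x * g ∈ Cfsg.Geo.decompositionStabilizer Dd := by
  classical
  have hn := HPair.two_mul hP
  have hx2 : (x : Matrix (Fin n) (Fin n) F) * (x : Matrix (Fin n) (Fin n) F) = z • 1 := by
    rw [← hz, sq, Units.val_mul]
  have hxu : ct D (x : Matrix (Fin n) (Fin n) F) * (x : Matrix (Fin n) (Fin n) F) = 1 :=
    (mem_GU_iff_ct (D := D) x).1 hx.1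
  -- the norm of `z`
  have hznorm : z * D.τ z = 1 := by
    have h1 : ct D ((x : Matrix (Fin n) (Fin n) F) * (x : Matrix (Fin n) (Fin n) F)) *
        ((x : Matrix (Fin n) (Fin n) F) * (x : Matrix (Fin n) (Fin n) F)) = 1 := by
      rw [ct_mul]
      calc ct D (x : Matrix (Fin n) (Fin n) F) * ct D (x : Matrix (Fin n) (Fin n) F) *
            ((x : Matrix (Fin n) (Fin n) F) * (x : Matrix (Fin n) (Fin n) F))
          = ct D (x : Matrix (Fin n) (Fin n) F) * (ct D (x : Matrix (Fin n) (Fin n) F) *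
            (x : Matrix (Fin n) (Fin n) F)) * (x : Matrix (Fin n) (Fin n) F) := by
            simp only [Matrix.mul_assoc]
        _ = 1 := by rw [hxu, Matrix.mul_one, hxu]
    rw [hx2, ct_smul, ct_one, Matrix.smul_mul, Matrix.mul_smul, Matrix.one_mul, smul_smul] at h1
    have h3 := congrFun (congrFun h1 (⟨0, by omega⟩ : Fin n)) (⟨0, by omega⟩ : Fin n)
    rw [Matrix.smul_apply, Matrix.one_apply_eq, smul_eq_mul, mul_one] at h3
    rw [mul_comm]
    exact h3
  have hz0 : z ≠ 0 := left_ne_zero_of_mul_eq_one hznorm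
  have hzq : z ^ (q + 1) = 1 := by
    rw [pow_succ', ← D.hτ]
    exact hznorm
  -- `z` is a square
  have hchar : ringChar F ≠ 2 := by
    intro h
    apply h2
    have := (ringChar.spec F 2).2 (by rw [h])
    exact_mod_cast this
  have hsq : IsSquare z := by
    rw [FiniteField.isSquare_iff hchar hz0, hF]
    obtain ⟨t, ht⟩ := hq
    have : q ^ 2 / 2 = (q + 1) * t := by
      rw [ht]
      have : (2 * t + 1) ^ 2 = 2 * ((2 * t + 1 + 1) * t) + 1 := by ring
      rw [this]
      omega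
    rw [this, pow_mul, hzq, one_pow]
  obtain ⟨lam, hlam⟩ := hsq
  have hnorm2 : (lam * D.τ lam) * (lam * D.τ lam) = 1 := by
    have : (lam * D.τ lam) * (lam * D.τ lam) = (lam * lam) * D.τ (lam * lam) := by
      rw [map_mul]; ring
    rw [this, ← hlam, hznorm]
  rw [hlam] at hx2
  rcases mul_self_eq_one_iff.1 hnorm2 with h | h
  · exact fuse_split hF hP hk h2 hv x hx lam h hx2
  · exact fuse_nonsplit hP hk h2 x hx.1 lam h hx2

end Cfsg.Agent.Lib.H11.SuDec
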