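import Cfsg.Agent.Lib.H11.SuDec6
import Cfsg.Agent.Lib.H11.InvCls1

/-!
# Pairs of complementary totally isotropic subspaces (part 7): diagonal derangements
-/

set_option autoImplicit false
set_option linter.unusedSectionVars false
set_option linter.unusedVariables false

namespace Cfsg.Agent.Lib.H11.SuDec

open Matrix Module
open Cfsg.Agent.Lib.H13.AutPSU
open Cfsg.Agent.Lib.H11.SuPair (HPair)

variable {F : Type*} [Field F] [Fintype F] {n q k : ℕ}

theorem ct_diagonal (D : UF F q) (dv : Fin n → F) :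
    ct D (Matrix.diagonal dv) = Matrix.diagonal (fun i => D.τ (dv i)) := by
  ext i j
  rw [ct_apply]
  by_cases h : i = j
  · subst h
    rw [Matrix.diagonal_apply_eq, Matrix.diagonal_apply_eq]
  · rw [Matrix.diagonal_apply_ne _ h, Matrix.diagonal_apply_ne _ (Ne.symm h), map_zero]

/-- a diagonal unitary matrix of determinant one -/
theorem exists_diag (D : UF F q) (dv : Fin n → F) (h1 : ∀ i, dv i * D.τ (dv i) = 1)
    (hdet : ∏ i, dv i = 1) :
    ∃ x : GL (Fin n) F, (x : Matrix (Fin n) (Fin n) F) = Matrix.diagonal dv ∧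
      x ∈ Cfsg.GU n F q ∧ x ∈ Cfsg.Geo.specialLinear (Fin n) F := by
  have e1 : Matrix.diagonal dv * Matrix.diagonal (fun i => D.τ (dv i)) = 1 := by
    rw [Matrix.diagonal_mul_diagonal, ← Matrix.diagonal_one]
    congr 1
    funext i
    exact h1 i
  have e2 : Matrix.diagonal (fun i => D.τ (dv i)) * Matrix.diagonal dv = 1 :=
    mul_eq_one_comm.mp e1
  refine ⟨⟨Matrix.diagonal dv, Matrix.diagonal (fun i => D.τ (dv i)), e1, e2⟩, rfl, ?_, ?_⟩
  · rw [mem_GU_iff_ct (D := D)]
    show ct D (Matrix.diagonal dv) * Matrix.diagonal dv = 1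
    rw [ct_diagonal, e2]
  · rw [Cfsg.Agent.Lib.H28.mem_specialLinear_iff]
    show (Matrix.diagonal dv).det = 1
    rw [Matrix.det_diagonal, hdet]

theorem diagonal_sub_smul (dv : Fin n → F) (μ : F) :
    Matrix.diagonal dv - μ • (1 : Matrix (Fin n) (Fin n) F) =
      Matrix.diagonal (fun i => dv i - μ) := by
  ext i j
  by_cases h : i = j
  · subst h
    simp
  · simp [Matrix.diagonal_apply_ne _ h, Matrix.one_apply_ne h]

/-- rank one: only the first diagonal entry differs from `μ` -/
theorem rank_diag_one {m : ℕ} (dv : Fin (m + 1) → F) (μ : F) (h0 : dv 0 ≠ μ)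
    (hs : ∀ i : Fin m, dv i.succ = μ) :
    (Matrix.diagonal dv - μ • (1 : Matrix (Fin (m + 1)) (Fin (m + 1)) F)).rank = 1 := by
  classical
  rw [diagonal_sub_smul, Matrix.rank_diagonal, Fintype.card_eq_one_iff]
  refine ⟨⟨0, sub_ne_zero.mpr h0⟩, ?_⟩
  rintro ⟨i, hi⟩
  apply Subtype.ext
  show i = 0
  induction i using Fin.cases with
  | zero => rfl
  | succ j => exact absurd (sub_eq_zero.mpr (hs j)) hi

/-- corank one: only the first diagonal entry equals `μ` -/
theorem rank_diag_corank_one {m : ℕ} (dv : Fin (m + 1) → F) (μ : F) (h0 : dv 0 = μ)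
    (hs : ∀ i : Fin m, dv i.succ ≠ μ) :
    (Matrix.diagonal dv - μ • (1 : Matrix (Fin (m + 1)) (Fin (m + 1)) F)).rank = m := by
  classical
  rw [diagonal_sub_smul, Matrix.rank_diagonal]
  have e : Fintype.card {i : Fin (m + 1) // dv i - μ ≠ 0} = Fintype.card (Fin m) := by
    apply Fintype.card_congr
    refine Equiv.symm (Equiv.ofBijective
      (fun j : Fin m => (⟨j.succ, sub_ne_zero.mpr (hs j)⟩ : {i : Fin (m + 1) // dv i - μ ≠ 0}))
      ⟨?_, ?_⟩)
    · intro a b hab
      have := congrArg Subtype.val hab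
      exact Fin.succ_injective _ this
    · rintro ⟨i, hi⟩
      induction i using Fin.cases with
      | zero => exact absurd (sub_eq_zero.mpr h0) hi
      | succ j => exact ⟨j, rfl⟩
  rw [e, Fintype.card_fin]

variable {Dd : Fin 2 → Submodule F (Fin n → F)}

/-- the derangement of odd prime order `r ∣ q + 1` -/
theorem der_odd_one (hF : Fintype.card F = q ^ 2) (D : UF F q)
    (hP : HPair (phi D) (Dd 0) (Dd 1) k) (hk : 1 ≤ k) (r : ℕ) [Fact r.Prime] (hr2 : r ≠ 2)
    (hrq : r ∣ q + 1) : IsDer Dd q r := by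
  classical
  have hr : r.Prime := Fact.out
  have hodd : Odd r := hr.odd_of_ne_two hr2
  have hn := HPair.two_mul hP
  have hq2 : 2 ≤ q := Cfsg.Agent.Lib.H2.Herm.two_le_q hF
  -- an element of order `r`
  have hcard : r ∣ Fintype.card Fˣ := by
    rw [Fintype.card_units, hF]
    have : q ^ 2 - 1 = (q + 1) * (q - 1) := by
      obtain ⟨m, rfl⟩ : ∃ m, q = m + 1 := ⟨q - 1, by omega⟩
      simp only [Nat.add_sub_cancel]
      have : (m + 1) ^ 2 = (m + 1 + 1) * m + 1 := by ring
      rw [this, Nat.add_sub_cancel]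
    rw [this]
    exact Dvd.dvd.mul_right hrq _
  obtain ⟨u, hu⟩ := exists_prime_orderOf_dvd_card r hcard
  set lam : F := (u : F) with hlam
  have hlam0 : lam ≠ 0 := u.ne_zero
  have hlamr : lam ^ r = 1 := by
    rw [hlam, ← Units.val_pow_eq_pow_val, ← hu, pow_orderOf_eq_one, Units.val_one]
  have hlamq : lam ^ (q + 1) = 1 := by
    obtain ⟨c, hc⟩ := hrq
    rw [hc, pow_mul, hlamr, one_pow]
  have hlam1 : lam ≠ 1 := by
    intro h1
    have : u = 1 := Units.ext h1
    rw [this, orderOf_one] at hu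
    exact hr.one_lt.ne hu
  have hlaminv : lam⁻¹ ≠ lam := by
    intro h
    have h2 : lam ^ 2 = 1 := by
      rw [sq]
      nth_rewrite 1 [← h]
      exact inv_mul_cancel₀ hlam0
    have hu2 : u ^ 2 = 1 := by
      apply Units.ext
      rw [Units.val_pow_eq_pow_val, Units.val_one]
      exact h2
    have h3 := orderOf_dvd_of_pow_eq_one hu2
    rw [hu] at h3
    have h4 := Nat.le_of_dvd (by norm_num) h3
    have := hr.two_le
    omega
  have hnorm : ∀ a : F, a ^ (q + 1) = 1 → a * D.τ a = 1 := by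
    intro a ha
    rw [D.hτ, ← pow_succ', ha]
  obtain ⟨m, rfl⟩ : ∃ m, n = m + 2 := ⟨n - 2, by omega⟩
  set dv : Fin (m + 2) → F := Fin.cons lam (Fin.cons lam⁻¹ (fun _ => 1)) with hdv
  have hdv0 : dv 0 = lam := rfl
  have hdv1 : dv (Fin.succ 0) = lam⁻¹ := rfl
  have hdvs : ∀ j : Fin m, dv (Fin.succ (Fin.succ j)) = 1 := fun j => rfl
  have h1 : ∀ i, dv i * D.τ (dv i) = 1 := by
    intro i
    apply hnorm
    induction i using Fin.cases with
    | zero => rw [hdv0, hlamq]
    | succ i =>
      induction i using Fin.cases with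
      | zero => rw [hdv1, inv_pow, hlamq, inv_one]
      | succ j => rw [hdvs, one_pow]
  have hdet : ∏ i, dv i = 1 := by
    rw [Fin.prod_univ_succ, Fin.prod_univ_succ, hdv0, hdv1]
    simp only [hdvs, Finset.prod_const_one, mul_one]
    exact mul_inv_cancel₀ hlam0
  obtain ⟨x, hxv, hxGU, hxSL⟩ := exists_diag D dv h1 hdet
  have hrank : ((x : Matrix (Fin (m + 2)) (Fin (m + 2)) F) - lam • 1).rank = m + 1 := by
    rw [hxv]
    apply rank_diag_corank_one dv lam hdv0
    intro i
    induction i using Fin.cases with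
    | zero => rw [hdv1]; exact hlaminv
    | succ j => rw [hdvs]; exact fun h => hlam1 h.symm
  refine ⟨x, ⟨hxGU, hxSL⟩, ⟨1, ?_⟩, ?_, ?_⟩
  · rw [Units.val_pow_eq_pow_val, hxv, Matrix.diagonal_pow, one_smul, ← Matrix.diagonal_one]
    congr 1
    funext i
    show dv i ^ r = 1
    induction i using Fin.cases with
    | zero => rw [hdv0, hlamr]
    | succ i =>
      induction i using Fin.cases with
      | zero => rw [hdv1, inv_pow, hlamr, inv_one]
      | succ j => rw [hdvs, one_pow]
  · apply not_scalar_of_rank _ lam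
    · rw [hrank]; omega
    · rw [hrank]; omega
  · intro g hg
    refine no_conj_of_odd (phi_pow D) (phi_phi D) hP hk x hxGU r hodd 1 ?_ lam
      (hnorm lam hlamq) ?_ g hg.1
    · rw [Units.val_pow_eq_pow_val, hxv, Matrix.diagonal_pow, one_smul, ← Matrix.diagonal_one]
      congr 1
      funext i
      show dv i ^ r = 1
      induction i using Fin.cases with
      | zero => rw [hdv0, hlamr]
      | succ i =>
        induction i using Fin.cases with
        | zero => rw [hdv1, inv_pow, hlamr, inv_one]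
        | succ j => rw [hdvs, one_pow]
    · rw [hrank]
      exact ⟨k - 1, by omega⟩

/-- the derangement of order two when `(q + 1)_2 > (n)_2` -/
theorem der_two (hF : Fintype.card F = q ^ 2) (D : UF F q)
    (hP : HPair (phi D) (Dd 0) (Dd 1) k) (hk : 2 ≤ k) (hq : Odd q) (h2 : (2 : F) ≠ 0)
    (hv : padicValNat 2 n < padicValNat 2 (q + 1)) : IsDer Dd q 2 := by
  classical
  have hn := HPair.two_mul hP
  have hq2 : 2 ≤ q := Cfsg.Agent.Lib.H2.Herm.two_le_q hF
  have hq3 : 3 ≤ q := by
    obtain ⟨c, hc⟩ := hq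
    omega
  have hfac : q ^ 2 - 1 = (q + 1) * (q - 1) := by
    obtain ⟨m, rfl⟩ : ∃ m, q = m + 1 := ⟨q - 1, by omega⟩
    simp only [Nat.add_sub_cancel]
    have : (m + 1) ^ 2 = (m + 1 + 1) * m + 1 := by ring
    rw [this, Nat.add_sub_cancel]
  -- the scalar
  have hN : padicValNat 2 (n * (q - 1)) < padicValNat 2 (Fintype.card F - 1) := by
    rw [hF, hfac, padicValNat.mul (by omega) (by omega), padicValNat.mul (by omega) (by omega)]
    omega
  obtain ⟨l, hl⟩ := Cfsg.Agent.Lib.H11.InvCls.exists_pow_eq_neg_one (F := F) (n * (q - 1))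
    (by
      have : 0 < n * (q - 1) := Nat.mul_pos (by omega) (by omega)
      omega) hN
  have hl0 : l ≠ 0 := by
    rintro rfl
    rw [zero_pow (by
      have : 0 < n * (q - 1) := Nat.mul_pos (by omega) (by omega)
      omega)] at hl
    have : (1 : F) = 0 := by linear_combination hl
    exact one_ne_zero this
  set μ : F := l ^ (q - 1) with hμ
  have hμn : μ ^ n = -1 := by
    rw [hμ, ← pow_mul, mul_comm, hl]
  have hμq : μ ^ (q + 1) = 1 := by
    rw [hμ, ← pow_mul, mul_comm, ← hfac, ← hF]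
    exact FiniteField.pow_card_sub_one_eq_one l hl0
  have hμ0 : μ ≠ 0 := pow_ne_zero _ hl0
  have hnorm : ∀ a : F, a ^ (q + 1) = 1 → a * D.τ a = 1 := by
    intro a ha
    rw [D.hτ, ← pow_succ', ha]
  have hqe : Even (q + 1) := by
    obtain ⟨c, hc⟩ := hq
    exact ⟨c + 1, by omega⟩
  obtain ⟨m, rfl⟩ : ∃ m, n = m + 1 := ⟨n - 1, by omega⟩
  set dv : Fin (m + 1) → F := Fin.cons (-μ) (fun _ => μ) with hdv
  have hdv0 : dv 0 = -μ := rfl
  have hdvs : ∀ j : Fin m, dv (Fin.succ j) = μ := fun j => rfl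
  have h1 : ∀ i, dv i * D.τ (dv i) = 1 := by
    intro i
    apply hnorm
    induction i using Fin.cases with
    | zero => rw [hdv0, hqe.neg_pow, hμq]
    | succ j => rw [hdvs, hμq]
  have hdet : ∏ i, dv i = 1 := by
    rw [Fin.prod_univ_succ, hdv0]
    simp only [hdvs, Finset.prod_const, Finset.card_univ, Fintype.card_fin]
    have : -μ * μ ^ m = -(μ ^ (m + 1)) := by ring
    rw [this, hμn, neg_neg]
  obtain ⟨x, hxv, hxGU, hxSL⟩ := exists_diag D dv h1 hdet
  have hrank : ((x : Matrix (Fin (m + 1)) (Fin (m + 1)) F) - μ • 1).rank = 1 := by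
    rw [hxv]
    apply rank_diag_one dv μ _ hdvs
    rw [hdv0]
    intro h
    have : (2 : F) * μ = 0 := by linear_combination -h
    rcases mul_eq_zero.1 this with h' | h'
    · exact h2 h'
    · exact hμ0 h'
  refine ⟨x, ⟨hxGU, hxSL⟩, ⟨μ ^ 2, ?_⟩, ?_, ?_⟩
  · rw [Units.val_pow_eq_pow_val, hxv, Matrix.diagonal_pow]
    ext i j
    by_cases hij : i = j
    · subst hij
      rw [Matrix.diagonal_apply_eq, Matrix.smul_apply, Matrix.one_apply_eq, smul_eq_mul, mul_one]
      show dv i ^ 2 = μ ^ 2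
      induction i using Fin.cases with
      | zero => rw [hdv0, neg_sq]
      | succ j => rw [hdvs]
    · rw [Matrix.diagonal_apply_ne _ hij, Matrix.smul_apply, Matrix.one_apply_ne hij, smul_zero]
  · apply not_scalar_of_rank _ μ
    · rw [hrank]; omega
    · rw [hrank]; omega
  · intro g hg
    exact no_conj_of_rank_one (phi_pow D) (phi_phi D) hP hk x hxGU μ (hnorm μ hμq) hrank g hg.1

end Cfsg.Agent.Lib.H11.SuDec
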