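import Cfsg.Agent.Lib.H11.SubfR5

/-!
# Subfield subgroups, odd `r ≠ p` (part 6): the derangement when `ord_r q ≥ 2` differs from
`ord_r q₀`
-/

set_option autoImplicit false
set_option linter.unusedSectionVars false

namespace Cfsg.Agent.Lib.H11.SubfR

open Matrix Polynomial Module Cfsg.Agent.Lib.H11.InvCls Cfsg.Agent.Lib.H13
  Cfsg.Agent.Lib.H24.Elus

section cyc

variable {K : Type*} [Field K] [Fintype K] {p q : ℕ} [Fact p.Prime] [CharP K p] {r : ℕ}

theorem natDegree_of_irreducible_dvd_cyclotomic (hK : Fintype.card K = q) (hr : r.Prime)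
    (hrp : r ≠ p) (P : K[X]) (hP : P ∣ cyclotomic r K) (hirr : Irreducible P) :
    P.natDegree = orderOf (q : ZMod r) := by
  obtain ⟨f, -, hf⟩ := FiniteField.card K p
  have hcop : p.Coprime r := (Nat.coprime_primes Fact.out hr).mpr hrp.symm
  rw [natDegree_of_dvd_cyclotomic_of_irreducible hf hcop hP hirr, ← orderOf_units,
    ZMod.coe_unitOfCoprime, ← hf, hK]

theorem irreducible_of_dvd_cyclotomic_of_deg (hK : Fintype.card K = q) (hr : r.Prime)
    (hrp : r ≠ p) (P : K[X]) (hP : P ∣ cyclotomic r K)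
    (hdeg : P.natDegree = orderOf (q : ZMod r)) : Irreducible P := by
  obtain ⟨f, -, hf⟩ := FiniteField.card K p
  have hcop : p.Coprime r := (Nat.coprime_primes Fact.out hr).mpr hrp.symm
  apply irreducible_of_dvd_cyclotomic_of_natDegree hf hcop hP
  rw [hdeg, ← orderOf_units, ZMod.coe_unitOfCoprime, ← hf, hK]

end cyc

variable {F : Type*} [Field F] [Fintype F] [DecidableEq F] {p q : ℕ} [Fact p.Prime] [CharP F p]

/-- an element of `SL_n(q)` of order `r` whose nontrivial part is a single irreducible block -/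
theorem exists_sl_single (hq : Fintype.card F = q) (r : ℕ) [Fact r.Prime] (hrp : r ≠ p)
    (hi2 : 2 ≤ orderOf (q : ZMod r)) (n : ℕ) (hin : orderOf (q : ZMod r) ≤ n)
    (s₀ : CycFactor.S r F) :
    ∃ x : Matrix.SpecialLinearGroup (Fin n) F,
      (x : Matrix (Fin n) (Fin n) F) ^ r = 1 ∧
      (∀ c : F, (x : Matrix (Fin n) (Fin n) F) ≠ c • 1) ∧
      GLPrime.mu (CycFactor.fJ (F := F) r) (x : Matrix (Fin n) (Fin n) F) (some s₀) =
        orderOf (q : ZMod r) ∧
      ∀ s, s ≠ s₀ →
        GLPrime.mu (CycFactor.fJ (F := F) r) (x : Matrix (Fin n) (Fin n) F) (some s) = 0 := by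
  have hr : r.Prime := Fact.out
  have hq2 := two_le_card (F := F) hq
  set i := orderOf (q : ZMod r) with hi_def
  have hcop : Nat.Coprime (Fintype.card F - 1) r := by
    rw [hq]
    exact coprime_of_order_ne_one q r (by omega) (by omega)
  have hirr := CycFactor.irreducible_fJ (F := F) (r := r)
  have hcopf := CycFactor.coprime_fJ (F := F) hr hrp
  have hprod := CycFactor.prod_fJ (F := F) hr hrp
  obtain ⟨x, hx, hmu⟩ := GLPrime.exists_of_mu (n := n) (CycFactor.fJ (F := F) r) hirr hcopf hprod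
    hr.pos (fun j => j.elim (n - i) (fun s => if s = s₀ then 1 else 0)) (by
      rw [Fintype.sum_option]
      simp only [Option.elim_none, Option.elim_some]
      rw [CycFactor.natDegree_fJ_none, mul_one]
      have : ∑ s : CycFactor.S r F, (if s = s₀ then 1 else 0) *
          (CycFactor.fJ (F := F) r (some s)).natDegree = i := by
        rw [Finset.sum_eq_single s₀]
        · rw [if_pos rfl, CycFactor.natDegree_fJ_some hq hr hrp, one_mul]
        · intro s _ hs
          rw [if_neg hs, zero_mul]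
        · intro h
          exact absurd (Finset.mem_univ _) h
      rw [this]
      omega)
  have hdet : (x : Matrix (Fin n) (Fin n) F).det = 1 := by
    apply eq_one_of_pow_coprime r hr.pos hcop
    rw [← Matrix.det_pow, hx, Matrix.det_one]
  have hfix : finrank F (LinearMap.ker (aeval (Matrix.toLin' (x : Matrix (Fin n) (Fin n) F))
      (X - 1 : F[X]))) = n - i := by
    have := hmu none
    rw [CycFactor.natDegree_fJ_none, mul_one] at this
    exact this
  refine ⟨⟨x, hdet⟩, hx, ?_, ?_, ?_⟩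
  · intro c hc
    change (x : Matrix (Fin n) (Fin n) F) = c • 1 at hc
    have hn1 : 1 ≤ n := by omega
    have hc1 : c = 1 := by
      apply eq_one_of_pow_coprime r hr.pos hcop
      apply PGLPrime.pow_eq_of_smul_one hn1 hr.pos c 1
      rw [← hc, hx, one_smul]
    rw [hc1, one_smul] at hc
    rw [hc, Matrix.toLin'_one] at hfix
    have h0 : aeval (LinearMap.id : (Fin n → F) →ₗ[F] (Fin n → F)) (X - 1 : F[X]) = 0 := by
      rw [map_sub, aeval_X, map_one]
      exact sub_self _
    rw [h0, LinearMap.ker_zero, finrank_top, Module.finrank_fintype_fun_eq_card,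
      Fintype.card_fin] at hfix
    omega
  · have := hmu (some s₀)
    simp only [Option.elim_some, if_pos] at this
    rw [this, one_mul, CycFactor.natDegree_fJ_some hq hr hrp]
  · intro s hs
    have := hmu (some s)
    simp only [Option.elim_some, if_neg hs, zero_mul] at this
    exact this

variable {F₀ : Subfield F} {q₀ : ℕ}

/-- the element of `exists_sl_single` is a derangement when `ord_r q < ord_r q₀` -/
theorem not_conj_single (hq : Fintype.card F = q) (hF₀ : Nat.card ↥F₀ = q₀) (r : ℕ)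
    [Fact r.Prime] (hrp : r ≠ p) (hi2 : 2 ≤ orderOf (q : ZMod r))
    (hlt : orderOf (q : ZMod r) < orderOf (q₀ : ZMod r)) (n : ℕ) (hn : 0 < n)
    (s₀ : CycFactor.S r F) (x : Matrix.SpecialLinearGroup (Fin n) F)
    (hx : (x : Matrix (Fin n) (Fin n) F) ^ r = 1)
    (hmu0 : GLPrime.mu (CycFactor.fJ (F := F) r) (x : Matrix (Fin n) (Fin n) F) (some s₀) =
        orderOf (q : ZMod r))
    (hmu : ∀ s, s ≠ s₀ →
        GLPrime.mu (CycFactor.fJ (F := F) r) (x : Matrix (Fin n) (Fin n) F) (some s) = 0)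
    (P : Matrix.SpecialLinearGroup (Fin n) F)
    (hP : P⁻¹ * x * P ∈ (Cfsg.Geo.subfieldSubgroup F₀ (1 : GL (Fin n) F)).comap
      (Matrix.SpecialLinearGroup.toGL : Matrix.SpecialLinearGroup (Fin n) F →* GL (Fin n) F)) :
    False := by
  have hr : r.Prime := Fact.out
  have hq2 := two_le_card (F := F) hq
  set i := orderOf (q : ZMod r) with hi_def
  have hcop : Nat.Coprime (Fintype.card F - 1) r := by
    rw [hq]
    exact coprime_of_order_ne_one q r (by omega) (by omega)
  obtain ⟨σ, hσ⟩ := exists_frob (F := F) (F₀ := F₀) p hF₀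
  obtain ⟨η, -, B, Bi, hB, htw⟩ := exists_twist hF₀ σ hσ x P hP
  have hη : η = 1 := eq_one_of_pow_coprime r hr.pos hcop η
    (pow_eq_one_of_twist hn σ _ B Bi hB η htw r hx)
  rw [hη] at htw
  set p₀ : F[X] := s₀.1 with hp₀
  have h1 := finrank_ker_of_twist σ _ B Bi hB 1 htw p₀
  rw [one_smul] at h1
  have h2 : finrank F (LinearMap.ker (aeval (Matrix.toLin' (x : Matrix (Fin n) (Fin n) F)) p₀)) =
      i := hmu0
  rw [h2] at h1
  -- the twisted factor is again a factor
  have hσbij : Function.Bijective σ :=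
    ⟨σ.injective, Finite.injective_iff_surjective.mp σ.injective⟩
  set σe : F ≃+* F := RingEquiv.ofBijective σ hσbij with hσe
  have hirr1 : Irreducible (p₀.map σ) := by
    have h3 : p₀.map σ = Polynomial.mapEquiv σe p₀ := rfl
    rw [h3, MulEquiv.irreducible_iff]
    exact CycFactor.irreducible_S s₀
  have hmonic1 : (p₀.map σ).Monic := (CycFactor.monic_S s₀).map σ
  have hdvd1 : p₀.map σ ∣ cyclotomic r F := by
    have := Polynomial.map_dvd σ (CycFactor.dvd_S s₀)
    rwa [map_cyclotomic] at this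
  have hmem : p₀.map σ ∈ (UniqueFactorizationMonoid.normalizedFactors
      (cyclotomic r F)).toFinset := by
    rw [Multiset.mem_toFinset, Polynomial.mem_normalizedFactors_iff (cyclotomic_ne_zero r F)]
    exact ⟨hirr1, hmonic1, hdvd1⟩
  have hs1 : (⟨p₀.map σ, hmem⟩ : CycFactor.S r F) = s₀ := by
    by_contra hne
    have := hmu _ hne
    have h4 : finrank F (LinearMap.ker (aeval (Matrix.toLin' (x : Matrix (Fin n) (Fin n) F))
        (p₀.map σ))) = 0 := this
    omega
  have hfix : p₀.map σ = p₀ := congrArg Subtype.val hs1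
  -- the factor is defined over the subfield
  have hcoef : ∀ m, p₀.coeff m ∈ F₀ := by
    intro m
    apply mem_of_pow_card hF₀
    rw [← hσ, ← Polynomial.coeff_map, hfix]
  have hlift : p₀ ∈ Polynomial.lifts (F₀.subtype : ↥F₀ →+* F) := by
    rw [Polynomial.lifts_iff_coeff_lifts]
    intro m
    exact ⟨⟨p₀.coeff m, hcoef m⟩, rfl⟩
  obtain ⟨P₀, hP₀⟩ := (Polynomial.mem_lifts p₀).1 hlift
  have : Fintype ↥F₀ := Fintype.ofFinite _
  have : CharP ↥F₀ p := RingHom.charP F₀.subtype F₀.subtype.injective p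
  have hq₀c : Fintype.card ↥F₀ = q₀ := by rw [← Nat.card_eq_fintype_card, hF₀]
  have hdegP₀ : P₀.natDegree = i := by
    rw [← Polynomial.natDegree_map_eq_of_injective F₀.subtype.injective P₀, hP₀, hp₀,
      CycFactor.natDegree_S hq hr hrp]
  have hP₀dvd : P₀ ∣ cyclotomic r ↥F₀ := by
    rw [← Polynomial.map_dvd_map' (F₀.subtype : ↥F₀ →+* F), hP₀, map_cyclotomic]
    exact CycFactor.dvd_S s₀
  have hP₀0 : P₀ ≠ 0 := by
    intro h0
    rw [h0, natDegree_zero] at hdegP₀
    omega
  have hP₀u : ¬ IsUnit P₀ := by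
    intro hu
    have := Polynomial.natDegree_eq_zero_of_isUnit hu
    omega
  obtain ⟨h₀, hh₀irr, hh₀dvd⟩ := WfDvdMonoid.exists_irreducible_factor hP₀u hP₀0
  have hdeg := natDegree_of_irreducible_dvd_cyclotomic hq₀c hr hrp h₀ (hh₀dvd.trans hP₀dvd) hh₀irr
  have hle := Polynomial.natDegree_le_of_dvd hh₀dvd hP₀0
  omega

end Cfsg.Agent.Lib.H11.SubfR
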