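import Mathlib
import Cfsg.Agent.Lib.H11.InvCls5

/-!
# Tensor product subgroups `GL_a ⊗ GL_b` (part 2): the fixed space of an element of prime order
-/

set_option autoImplicit false
set_option linter.unusedSectionVars false
set_option linter.unusedVariables false

namespace Cfsg.Agent.Lib.H11.TensR

open Matrix Module

variable {F : Type*} [Field F] [Fintype F] {q m : ℕ}

/-- the action of a matrix on vectors, as an endomorphism of the underlying set -/
def vecEnd (B : Matrix (Fin m) (Fin m) F) : Function.End (Fin m → F) := fun v => B *ᵥ v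

theorem vecEnd_apply (B : Matrix (Fin m) (Fin m) F) (v : Fin m → F) : vecEnd B v = B *ᵥ v := rfl

theorem vecEnd_pow (B : Matrix (Fin m) (Fin m) F) (k : ℕ) : vecEnd B ^ k = vecEnd (B ^ k) := by
  induction k with
  | zero =>
    funext v
    show v = (B ^ 0) *ᵥ v
    rw [pow_zero, Matrix.one_mulVec]
  | succ k ih =>
    rw [pow_succ, ih]
    funext v
    show (B ^ k) *ᵥ (B *ᵥ v) = (B ^ (k + 1)) *ᵥ v
    rw [Matrix.mulVec_mulVec, ← pow_succ]

/-- an element of prime order `r` of `GL_m(q)` moves a space of dimension at least the order of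
`q` modulo `r` -/
theorem finrank_fix_add_order_le (hq : Fintype.card F = q) (r : ℕ) [Fact r.Prime] (hrq : ¬ r ∣ q)
    (B : Matrix (Fin m) (Fin m) F) (hB : B ^ r = 1) (hB1 : B ≠ 1) :
    finrank F (LinearMap.ker (Matrix.toLin' (B - 1))) + orderOf (q : ZMod r) ≤ m := by
  classical
  set f : Function.End (Fin m → F) := vecEnd B with hf
  have hfr : f ^ r ^ 1 = 1 := by
    rw [pow_one, hf, vecEnd_pow, hB]
    funext v
    show (1 : Matrix (Fin m) (Fin m) F) *ᵥ v = v
    rw [Matrix.one_mulVec]
  have hmod := Equiv.Perm.card_fixedPoints_modEq (p := r) (n := 1) hfr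
  set W := LinearMap.ker (Matrix.toLin' (B - 1)) with hW
  set d := finrank F W with hd
  have hfix : ∀ (inst : Fintype (Function.fixedPoints f)), @Fintype.card _ inst = q ^ d := by
    intro inst
    have h1 : Fintype.card W = q ^ d := by
      rw [← hq, hd]
      exact Module.card_eq_pow_finrank
    rw [← h1]
    apply Fintype.card_congr
    refine Equiv.subtypeEquivRight ?_
    intro v
    show f v = v ↔ v ∈ W
    rw [hf, vecEnd_apply, hW, LinearMap.mem_ker,
      Matrix.toLin'_apply, Matrix.sub_mulVec, Matrix.one_mulVec, sub_eq_zero]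
  have hcard : Fintype.card (Fin m → F) = q ^ m := by
    rw [Fintype.card_fun, Fintype.card_fin, hq]
  rw [hfix, hcard] at hmod
  have hdm : d ≤ m := by
    have := Submodule.finrank_le W
    rwa [Module.finrank_fintype_fun_eq_card, Fintype.card_fin] at this
  have hdm' : d < m := by
    rcases Nat.lt_or_ge d m with h | h
    · exact h
    exfalso
    have hdeq : d = m := le_antisymm hdm h
    have htop : W = ⊤ := by
      apply Submodule.eq_top_of_finrank_eq
      rw [Module.finrank_fintype_fun_eq_card, Fintype.card_fin]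
      exact hdeq
    apply hB1
    have : B - 1 = 0 := by
      have h0 : Matrix.toLin' (B - 1) = 0 := LinearMap.ker_eq_top.mp htop
      have := congrArg (LinearMap.toMatrix' (R := F)) h0
      rwa [LinearMap.toMatrix'_toLin', map_zero] at this
    exact sub_eq_zero.mp this
  have hq0 : (q : ZMod r) ≠ 0 := by
    rw [Ne, ZMod.natCast_eq_zero_iff]
    exact hrq
  have hz : (q : ZMod r) ^ m = (q : ZMod r) ^ d := by
    have := (ZMod.natCast_eq_natCast_iff _ _ _).mpr hmod
    rwa [Nat.cast_pow, Nat.cast_pow] at this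
  have hz2 : (q : ZMod r) ^ (m - d) = 1 := by
    have h1 : (q : ZMod r) ^ m = (q : ZMod r) ^ (m - d) * (q : ZMod r) ^ d := by
      rw [← pow_add, Nat.sub_add_cancel hdm]
    rw [h1] at hz
    have h2 : (q : ZMod r) ^ d ≠ 0 := pow_ne_zero _ hq0
    exact mul_right_cancel₀ h2 (by rw [hz, one_mul])
  have h3 := orderOf_dvd_of_pow_eq_one hz2
  have h4 := Nat.le_of_dvd (by omega) h3
  omega

end Cfsg.Agent.Lib.H11.TensR
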