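import Mathlib
import Cfsg.Agent.Lib.H29.Tensor
import Cfsg.Agent.Lib.H11.InvCls5

/-!
# Tensor product subgroups `GL_a ⊗ GL_b` (part 1): Kronecker products and ranks
-/

set_option autoImplicit false
set_option linter.unusedSectionVars false
set_option linter.unusedVariables false

namespace Cfsg.Agent.Lib.H11.TensR

open Matrix Module Kronecker
open Cfsg.Agent.Lib.H29.Tensor (pt kron_pt pt_add_right pt_smul_right)

variable {F : Type*} [Field F] {a b : ℕ}

/-- a matrix all of whose non-zero vectors are eigenvectors is scalar -/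
theorem scalar_of_forall_eigen (A : Matrix (Fin a) (Fin a) F)
    (h : ∀ u : Fin a → F, u ≠ 0 → ∃ c : F, A *ᵥ u = c • u) : ∃ α : F, A = α • 1 := by
  have hs : ∀ k : Fin a, (Pi.single k (1 : F) : Fin a → F) ≠ 0 := by
    intro k hk
    have := congrFun hk k
    simp at this
  have h1 : ∀ k : Fin a, ∃ c : F, A *ᵥ Pi.single k 1 = c • Pi.single k 1 := fun k => h _ (hs k)
  choose ca hca using h1
  have heq : ∀ k l, ca k = ca l := by
    intro k l
    by_cases hkl : k = l
    · rw [hkl]
    have hne : (Pi.single k (1 : F) + Pi.single l 1 : Fin a → F) ≠ 0 := by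
      intro h0
      have := congrFun h0 k
      simp [Pi.single_apply, hkl] at this
    obtain ⟨c, hc⟩ := h _ hne
    rw [Matrix.mulVec_add, hca, hca] at hc
    have ha := congrFun hc k
    have hb := congrFun hc l
    have hlk : l ≠ k := fun h => hkl h.symm
    simp [Pi.single_apply, hkl, hlk] at ha hb
    rw [ha, hb]
  rcases a with _ | a
  · exact ⟨0, Subsingleton.elim _ _⟩
  · refine ⟨ca 0, ?_⟩
    ext i j
    have := congrFun (hca j) i
    rw [Matrix.mulVec_single_one] at this
    rw [show A i j = A.col j i from rfl, this, heq j 0]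
    simp [Matrix.one_apply, Pi.single_apply]

/-- if `A ⊗ B - μ` has rank less than the size of `B` then `A` is scalar -/
theorem left_scalar_of_rank (A : Matrix (Fin a) (Fin a) F) (B : Matrix (Fin b) (Fin b) F) (μ : F)
    (hμ : μ ≠ 0)
    (h : (A ⊗ₖ B - μ • (1 : Matrix (Fin a × Fin b) (Fin a × Fin b) F)).rank < b) :
    ∃ α : F, A = α • 1 := by
  classical
  apply scalar_of_forall_eigen
  intro u hu
  set K : Matrix (Fin a × Fin b) (Fin a × Fin b) F := A ⊗ₖ B - μ • 1 with hK
  let ptL : (Fin b → F) →ₗ[F] (Fin a × Fin b → F) :=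
    { toFun := pt u
      map_add' := pt_add_right u
      map_smul' := fun c z => pt_smul_right c u z }
  set L : (Fin b → F) →ₗ[F] (Fin a × Fin b → F) := K.mulVecLin ∘ₗ ptL with hL
  have h1 : finrank F (LinearMap.range L) ≤ K.rank := by
    rw [Matrix.rank]
    exact Submodule.finrank_mono (LinearMap.range_comp_le_range _ _)
  have h2 := LinearMap.finrank_range_add_finrank_ker L
  rw [Module.finrank_fintype_fun_eq_card, Fintype.card_fin] at h2
  have h3 : 0 < finrank F (LinearMap.ker L) := by omega
  obtain ⟨⟨w, hwL⟩, hw0⟩ := Module.finrank_pos_iff_exists_ne_zero.mp h3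
  have hw : w ≠ 0 := fun h0 => hw0 (Subtype.ext h0)
  have hLw : (A ⊗ₖ B) *ᵥ pt u w = μ • pt u w := by
    have h4 : L w = 0 := LinearMap.mem_ker.mp hwL
    have h5 : K *ᵥ pt u w = 0 := h4
    rw [hK, Matrix.sub_mulVec, Matrix.smul_mulVec, Matrix.one_mulVec, sub_eq_zero] at h5
    exact h5
  rw [kron_pt] at hLw
  obtain ⟨k₀, hk₀⟩ : ∃ k, u k ≠ 0 := by
    by_contra hcon
    push Not at hcon
    exact hu (funext hcon)
  obtain ⟨l₀, hl₀⟩ : ∃ l, w l ≠ 0 := by
    by_contra hcon
    push Not at hcon
    exact hw (funext hcon)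
  have hpt : ∀ k, (A *ᵥ u) k * (B *ᵥ w) l₀ = μ * (u k * w l₀) := by
    intro k
    have := congrFun hLw (k, l₀)
    simpa [pt] using this
  have hB0 : (B *ᵥ w) l₀ ≠ 0 := by
    intro h0
    have := hpt k₀
    rw [h0, mul_zero] at this
    exact mul_ne_zero hμ (mul_ne_zero hk₀ hl₀) this.symm
  refine ⟨μ * w l₀ / (B *ᵥ w) l₀, ?_⟩
  funext k
  rw [Pi.smul_apply, smul_eq_mul]
  have := hpt k
  field_simp
  linear_combination this

/-- a Kronecker product which is a non-zero scalar has scalar factors -/
theorem kron_scalar_left (A : Matrix (Fin a) (Fin a) F) (B : Matrix (Fin b) (Fin b) F) (c : F)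
    (hc : c ≠ 0) (hb : 0 < b)
    (h : A ⊗ₖ B = c • (1 : Matrix (Fin a × Fin b) (Fin a × Fin b) F)) :
    ∃ α : F, A = α • 1 := by
  rcases a with _ | a
  · exact ⟨0, Subsingleton.elim _ _⟩
  have hent : ∀ i j k l, A i j * B k l = c * ((1 : Matrix (Fin (a+1) × Fin b) (Fin (a+1) × Fin b) F) (i, k) (j, l)) := by
    intro i j k l
    have := congrFun (congrFun h (i, k)) (j, l)
    simpa [Matrix.kroneckerMap_apply] using this
  obtain ⟨k, hk⟩ : ∃ k, B k k ≠ 0 := by
    by_contra hcon
    push Not at hcon
    have := hent 0 0 ⟨0, hb⟩ ⟨0, hb⟩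
    rw [hcon, mul_zero, Matrix.one_apply_eq] at this
    exact hc (by simpa using this.symm)
  refine ⟨c / B k k, ?_⟩
  ext i j
  have := hent i j k k
  by_cases hij : i = j
  · subst hij
    rw [Matrix.one_apply_eq] at this
    rw [Matrix.smul_apply, Matrix.one_apply_eq, smul_eq_mul]
    field_simp
    linear_combination this
  · have hne : ((i, k) : Fin (a+1) × Fin b) ≠ (j, k) := fun h => hij (congrArg Prod.fst h)
    rw [Matrix.one_apply_ne hne, mul_zero] at this
    rw [Matrix.smul_apply, Matrix.one_apply_ne hij, smul_zero]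
    rcases mul_eq_zero.mp this with h0 | h0
    · exact h0
    · exact absurd h0 hk

/-- the kernel of `1 ⊗ N` consists of `a` copies of the kernel of `N` -/
theorem finrank_ker_one_kron (N : Matrix (Fin b) (Fin b) F) :
    finrank F (LinearMap.ker (Matrix.toLin' ((1 : Matrix (Fin a) (Fin a) F) ⊗ₖ N))) =
      a * finrank F (LinearMap.ker (Matrix.toLin' N)) := by
  classical
  have key : ∀ (v : Fin a × Fin b → F) (p : Fin a × Fin b),
      (((1 : Matrix (Fin a) (Fin a) F) ⊗ₖ N) *ᵥ v) p = (N *ᵥ fun j => v (p.1, j)) p.2 := by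
    intro v p
    simp only [Matrix.mulVec, dotProduct, Matrix.kroneckerMap_apply, Fintype.sum_prod_type]
    rw [Finset.sum_eq_single p.1]
    · simp
    · intro k _ hk
      simp [Matrix.one_apply_ne' hk]
    · intro h
      exact absurd (Finset.mem_univ _) h
  let Ψ : (Fin a → LinearMap.ker (Matrix.toLin' N)) ≃ₗ[F]
      LinearMap.ker (Matrix.toLin' ((1 : Matrix (Fin a) (Fin a) F) ⊗ₖ N)) :=
    { toFun := fun f => ⟨fun p => (f p.1).1 p.2, by
        rw [LinearMap.mem_ker, Matrix.toLin'_apply]
        funext p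
        rw [key]
        have := (f p.1).2
        rw [LinearMap.mem_ker, Matrix.toLin'_apply] at this
        exact congrFun this p.2⟩
      map_add' := fun f g => by
        apply Subtype.ext
        funext p
        rfl
      map_smul' := fun c f => by
        apply Subtype.ext
        funext p
        rfl
      invFun := fun g k => ⟨fun j => g.1 (k, j), by
        rw [LinearMap.mem_ker, Matrix.toLin'_apply]
        funext j
        have := g.2
        rw [LinearMap.mem_ker, Matrix.toLin'_apply] at this
        have h2 := congrFun this (k, j)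
        rw [key] at h2
        exact h2⟩
      left_inv := fun f => by
        funext k
        apply Subtype.ext
        rfl
      right_inv := fun g => by
        apply Subtype.ext
        funext p
        rfl }
  rw [← LinearEquiv.finrank_eq Ψ, Module.finrank_pi_fintype]
  simp

end Cfsg.Agent.Lib.H11.TensR
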