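import Mathlib
import Cfsg.Prelude.Def_GeometricClasses
import Cfsg.Agent.Lib.H11.TensR1

/-!
# Tensor product subgroups `GL_a ⊗ GL_b` (part 3): similarity with a Kronecker product
-/

set_option autoImplicit false
set_option linter.unusedSectionVars false
set_option linter.unusedVariables false

namespace Cfsg.Agent.Lib.H11.TensR

open Matrix Module Kronecker

variable {F : Type*} [Field F] {n a b : ℕ}

section sim

variable {ι : Type*} [Fintype ι] [DecidableEq ι]

/-- `x` is similar to the reindexed matrix `K` -/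
def Sim (e : Fin n ≃ ι) (x : Matrix (Fin n) (Fin n) F) (K : Matrix ι ι F) : Prop :=
  ∃ Q Qi : Matrix (Fin n) (Fin n) F, Q * Qi = 1 ∧ Qi * Q = 1 ∧ x = Q * K.submatrix e e * Qi

theorem Sim.sub_smul {e : Fin n ≃ ι} {x : Matrix (Fin n) (Fin n) F} {K : Matrix ι ι F}
    (h : Sim e x K) (ν : F) : Sim e (x - ν • 1) (K - ν • 1) := by
  obtain ⟨Q, Qi, h1, h2, h3⟩ := h
  refine ⟨Q, Qi, h1, h2, ?_⟩
  have : (K - ν • (1 : Matrix ι ι F)).submatrix e e = K.submatrix e e - ν • 1 := by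
    ext i j
    simp [Matrix.one_apply]
  rw [this, Matrix.mul_sub, Matrix.sub_mul, ← h3, Matrix.mul_smul, Matrix.smul_mul, Matrix.mul_one,
    h1]

theorem Sim.rank_eq {e : Fin n ≃ ι} {x : Matrix (Fin n) (Fin n) F} {K : Matrix ι ι F}
    (h : Sim e x K) : x.rank = K.rank := by
  obtain ⟨Q, Qi, h1, h2, h3⟩ := h
  have hQ : IsUnit Q.det := by
    have := congrArg Matrix.det h1
    rw [Matrix.det_mul, Matrix.det_one] at this
    exact IsUnit.of_mul_eq_one _ this
  have hQi : IsUnit Qi.det := by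
    have := congrArg Matrix.det h2
    rw [Matrix.det_mul, Matrix.det_one] at this
    exact IsUnit.of_mul_eq_one _ this
  rw [h3, Matrix.rank_mul_eq_left_of_isUnit_det _ _ hQi, Matrix.rank_mul_eq_right_of_isUnit_det _ _ hQ,
    Matrix.rank_submatrix]

theorem Sim.rank_sub {e : Fin n ≃ ι} {x : Matrix (Fin n) (Fin n) F} {K : Matrix ι ι F}
    (h : Sim e x K) (ν : F) : (x - ν • 1).rank = (K - ν • 1).rank :=
  (h.sub_smul ν).rank_eq

theorem Sim.pow {e : Fin n ≃ ι} {x : Matrix (Fin n) (Fin n) F} {K : Matrix ι ι F}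
    (h : Sim e x K) (k : ℕ) : Sim e (x ^ k) (K ^ k) := by
  obtain ⟨Q, Qi, h1, h2, h3⟩ := h
  refine ⟨Q, Qi, h1, h2, ?_⟩
  induction k with
  | zero =>
    rw [pow_zero, pow_zero, Matrix.submatrix_one_equiv, Matrix.mul_one, h1]
  | succ k ih =>
    rw [pow_succ, pow_succ, ih]
    conv_lhs => rw [h3]
    rw [← Matrix.submatrix_mul_equiv (K ^ k) K e e e]
    calc Q * (K ^ k).submatrix e e * Qi * (Q * K.submatrix e e * Qi)
        = Q * (K ^ k).submatrix e e * (Qi * Q) * K.submatrix e e * Qi := by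
          simp only [Matrix.mul_assoc]
      _ = Q * ((K ^ k).submatrix e e * K.submatrix e e) * Qi := by
          rw [h2, Matrix.mul_one, Matrix.mul_assoc Q]

theorem Sim.of_scalar {e : Fin n ≃ ι} {x : Matrix (Fin n) (Fin n) F} {c : F}
    (h : Sim e x (c • (1 : Matrix ι ι F))) : x = c • 1 := by
  obtain ⟨Q, Qi, h1, h2, h3⟩ := h
  have : (c • (1 : Matrix ι ι F)).submatrix e e = c • 1 := by
    ext i j
    simp [Matrix.one_apply]
  rw [h3, this, Matrix.mul_smul, Matrix.smul_mul, Matrix.mul_one, h1]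

theorem Sim.scalar {e : Fin n ≃ ι} {K : Matrix ι ι F} {c : F}
    (h : Sim e (c • (1 : Matrix (Fin n) (Fin n) F)) K) : K = c • 1 := by
  obtain ⟨Q, Qi, h1, h2, h3⟩ := h
  have h4 : K.submatrix e e = c • 1 := by
    calc K.submatrix e e = (Qi * Q) * K.submatrix e e * (Qi * Q) := by
          rw [h2, Matrix.one_mul, Matrix.mul_one]
      _ = Qi * (Q * K.submatrix e e * Qi) * Q := by simp only [Matrix.mul_assoc]
      _ = c • 1 := by
          rw [← h3, Matrix.mul_smul, Matrix.smul_mul, Matrix.mul_one, h2]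
  ext i j
  have := congrFun (congrFun h4 (e.symm i)) (e.symm j)
  simpa [Matrix.one_apply] using this

end sim

/-- general rank-nullity for square matrices -/
theorem finrank_ker_add_rank {ι : Type*} [Fintype ι] [DecidableEq ι] (M : Matrix ι ι F) :
    finrank F (LinearMap.ker (Matrix.toLin' M)) + M.rank = Fintype.card ι := by
  have := LinearMap.finrank_range_add_finrank_ker (Matrix.toLin' M)
  rw [Module.finrank_fintype_fun_eq_card, Matrix.toLin'_apply'] at this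
  rw [Matrix.toLin'_apply', Matrix.rank]
  omega

theorem kron_pow (A : Matrix (Fin a) (Fin a) F) (B : Matrix (Fin b) (Fin b) F) (k : ℕ) :
    (A ⊗ₖ B) ^ k = (A ^ k) ⊗ₖ (B ^ k) := by
  induction k with
  | zero => rw [pow_zero, pow_zero, pow_zero, Matrix.one_kronecker_one]
  | succ k ih => rw [pow_succ, pow_succ, pow_succ, ih, Matrix.mul_kronecker_mul]

theorem one_kron_eq_one (ha : 0 < a) (M : Matrix (Fin b) (Fin b) F)
    (h : (1 : Matrix (Fin a) (Fin a) F) ⊗ₖ M = 1) : M = 1 := by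
  ext k l
  have := congrFun (congrFun h (⟨0, ha⟩, k)) (⟨0, ha⟩, l)
  rw [Matrix.kroneckerMap_apply, Matrix.one_apply_eq, one_mul] at this
  rw [this, Matrix.one_apply, Matrix.one_apply]
  simp

theorem one_kron_sub (M : Matrix (Fin b) (Fin b) F) (ν : F) :
    (1 : Matrix (Fin a) (Fin a) F) ⊗ₖ M - ν • (1 : Matrix (Fin a × Fin b) (Fin a × Fin b) F) =
      (1 : Matrix (Fin a) (Fin a) F) ⊗ₖ (M - ν • 1) := by
  ext ⟨i, k⟩ ⟨j, l⟩
  simp only [Matrix.sub_apply, Matrix.kroneckerMap_apply, Matrix.smul_apply, Matrix.one_apply,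
    Prod.mk.injEq, smul_eq_mul]
  by_cases hij : i = j <;> by_cases hkl : k = l <;> simp [hij, hkl]

/-- the multiplicities of `1 ⊗ M` are multiples of `a` -/
theorem Sim.finrank_ker_of_one_kron {e : Fin n ≃ Fin a × Fin b} {x : Matrix (Fin n) (Fin n) F}
    {M : Matrix (Fin b) (Fin b) F} (hn : n = a * b)
    (h : Sim e x ((1 : Matrix (Fin a) (Fin a) F) ⊗ₖ M)) (ν : F) :
    finrank F (LinearMap.ker (Matrix.toLin' (x - ν • 1))) =
      a * finrank F (LinearMap.ker (Matrix.toLin' (M - ν • 1))) := by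
  have h1 := h.rank_sub ν
  have h2 := finrank_ker_add_rank (x - ν • 1)
  have h3 := finrank_ker_add_rank
    ((1 : Matrix (Fin a) (Fin a) F) ⊗ₖ M - ν • (1 : Matrix (Fin a × Fin b) (Fin a × Fin b) F))
  rw [Fintype.card_fin] at h2
  rw [Fintype.card_prod, Fintype.card_fin, Fintype.card_fin, ← hn] at h3
  rw [← finrank_ker_one_kron (a := a), ← one_kron_sub]
  omega

section mem

variable (e : Fin n ≃ Fin a × Fin b) (P : GL (Fin n) F)

theorem exists_kron_of_mem (h : GL (Fin n) F)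
    (hh : h ∈ Cfsg.Geo.tensorProductSubgroup a b e P) :
    ∃ (A : GL (Fin a) F) (B : GL (Fin b) F),
      (h : Matrix (Fin n) (Fin n) F) = (P : Matrix (Fin n) (Fin n) F) *
        ((A : Matrix (Fin a) (Fin a) F) ⊗ₖ (B : Matrix (Fin b) (Fin b) F)).submatrix e e *
        ((P⁻¹ : GL (Fin n) F) : Matrix (Fin n) (Fin n) F) := by
  unfold Cfsg.Geo.tensorProductSubgroup at hh
  obtain ⟨g₁, hg₁, rfl⟩ := Subgroup.mem_map.mp hh
  obtain ⟨g₀, ⟨A, B, hAB⟩, rfl⟩ := Subgroup.mem_map.mp hg₁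
  refine ⟨A, B, ?_⟩
  have hval : ((Cfsg.Geo.glReindex (F := F) e.symm g₀ : GL (Fin n) F) : Matrix (Fin n) (Fin n) F)
      = ((A : Matrix (Fin a) (Fin a) F) ⊗ₖ (B : Matrix (Fin b) (Fin b) F)).submatrix e e := by
    show Matrix.reindexAlgEquiv F F e.symm (g₀ : Matrix _ _ F) = _
    rw [Matrix.coe_reindexAlgEquiv, hAB]
    rfl
  show ((MulAut.conj P (Cfsg.Geo.glReindex (F := F) e.symm g₀) : GL (Fin n) F) :
    Matrix (Fin n) (Fin n) F) = _
  rw [MulAut.conj_apply, Units.val_mul, Units.val_mul, hval]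

theorem mem_of_kron (A : GL (Fin a) F) (B : GL (Fin b) F) (h : GL (Fin n) F)
    (hh : (h : Matrix (Fin n) (Fin n) F) = (P : Matrix (Fin n) (Fin n) F) *
        ((A : Matrix (Fin a) (Fin a) F) ⊗ₖ (B : Matrix (Fin b) (Fin b) F)).submatrix e e *
        ((P⁻¹ : GL (Fin n) F) : Matrix (Fin n) (Fin n) F)) :
    h ∈ Cfsg.Geo.tensorProductSubgroup a b e P := by
  unfold Cfsg.Geo.tensorProductSubgroup
  have e1 : ((A : Matrix (Fin a) (Fin a) F) ⊗ₖ (B : Matrix (Fin b) (Fin b) F)) *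
      (((A⁻¹ : GL (Fin a) F) : Matrix (Fin a) (Fin a) F) ⊗ₖ
        ((B⁻¹ : GL (Fin b) F) : Matrix (Fin b) (Fin b) F)) = 1 := by
    rw [← Matrix.mul_kronecker_mul, ← Units.val_mul, ← Units.val_mul, mul_inv_cancel,
      mul_inv_cancel, Units.val_one, Units.val_one, Matrix.one_kronecker_one]
  have e2 : (((A⁻¹ : GL (Fin a) F) : Matrix (Fin a) (Fin a) F) ⊗ₖ
        ((B⁻¹ : GL (Fin b) F) : Matrix (Fin b) (Fin b) F)) *
      ((A : Matrix (Fin a) (Fin a) F) ⊗ₖ (B : Matrix (Fin b) (Fin b) F)) = 1 := by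
    rw [← Matrix.mul_kronecker_mul, ← Units.val_mul, ← Units.val_mul, inv_mul_cancel,
      inv_mul_cancel, Units.val_one, Units.val_one, Matrix.one_kronecker_one]
  set g₀ : GL (Fin a × Fin b) F := ⟨_, _, e1, e2⟩ with hg₀
  have hg₀mem : g₀ ∈ Cfsg.Geo.kroneckerSubgroup a b F := ⟨A, B, rfl⟩
  refine Subgroup.mem_map.mpr ⟨Cfsg.Geo.glReindex (F := F) e.symm g₀,
    Subgroup.mem_map.mpr ⟨g₀, hg₀mem, rfl⟩, ?_⟩
  apply Units.ext
  have hval : ((Cfsg.Geo.glReindex (F := F) e.symm g₀ : GL (Fin n) F) : Matrix (Fin n) (Fin n) F)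
      = ((A : Matrix (Fin a) (Fin a) F) ⊗ₖ (B : Matrix (Fin b) (Fin b) F)).submatrix e e := by
    show Matrix.reindexAlgEquiv F F e.symm (g₀ : Matrix _ _ F) = _
    rw [Matrix.coe_reindexAlgEquiv]
    rfl
  show ((MulAut.conj P (Cfsg.Geo.glReindex (F := F) e.symm g₀) : GL (Fin n) F) :
    Matrix (Fin n) (Fin n) F) = _
  rw [MulAut.conj_apply, Units.val_mul, Units.val_mul, hval, hh]

/-- a conjugate lying in the tensor product subgroup gives a similarity with a Kronecker product -/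
theorem sim_of_conj_mem (x g : GL (Fin n) F)
    (hg : g⁻¹ * x * g ∈ Cfsg.Geo.tensorProductSubgroup a b e P) :
    ∃ (A : GL (Fin a) F) (B : GL (Fin b) F),
      Sim e (x : Matrix (Fin n) (Fin n) F)
        ((A : Matrix (Fin a) (Fin a) F) ⊗ₖ (B : Matrix (Fin b) (Fin b) F)) := by
  obtain ⟨A, B, hAB⟩ := exists_kron_of_mem e P _ hg
  refine ⟨A, B, ((g * P : GL (Fin n) F) : Matrix (Fin n) (Fin n) F),
    (((g * P)⁻¹ : GL (Fin n) F) : Matrix (Fin n) (Fin n) F), ?_, ?_, ?_⟩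
  · rw [← Units.val_mul, mul_inv_cancel, Units.val_one]
  · rw [← Units.val_mul, inv_mul_cancel, Units.val_one]
  · have h1 : g * (g⁻¹ * x * g) * g⁻¹ = x := by group
    calc (x : Matrix (Fin n) (Fin n) F)
        = ((g * (g⁻¹ * x * g) * g⁻¹ : GL (Fin n) F) : Matrix (Fin n) (Fin n) F) := by rw [h1]
      _ = (g : Matrix (Fin n) (Fin n) F) * ((g⁻¹ * x * g : GL (Fin n) F) : Matrix (Fin n) (Fin n) F) *
            ((g⁻¹ : GL (Fin n) F) : Matrix (Fin n) (Fin n) F) := by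
          rw [Units.val_mul, Units.val_mul]
      _ = _ := by
          rw [hAB, _root_.mul_inv_rev, Units.val_mul, Units.val_mul]
          simp only [Matrix.mul_assoc]

end mem

end Cfsg.Agent.Lib.H11.TensR
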