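import Mathlib
import Cfsg.Agent.Lib.H11.TensR2
import Cfsg.Agent.Lib.H11.TensR3
import Cfsg.Agent.Lib.H24.ElusLn

/-!
# Tensor product subgroups `GL_a ⊗ GL_b` (part 4): criteria for derangements
-/

set_option autoImplicit false
set_option linter.unusedSectionVars false
set_option linter.unusedVariables false

namespace Cfsg.Agent.Lib.H11.TensR

open Matrix Module Kronecker
open Cfsg.Agent.Lib.H24.Elus

variable {F : Type*} [Field F] {n a b q : ℕ}

theorem eq_zero_of_finrank_ker {ι : Type*} [Fintype ι] [DecidableEq ι] (M : Matrix ι ι F)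
    (h : finrank F (LinearMap.ker (Matrix.toLin' M)) = Fintype.card ι) : M = 0 := by
  have h2 : LinearMap.ker (Matrix.toLin' M) = ⊤ := by
    apply Submodule.eq_top_of_finrank_eq
    rw [h, Module.finrank_fintype_fun_eq_card]
  have h3 : Matrix.toLin' M = 0 := LinearMap.ker_eq_top.mp h2
  have := congrArg (LinearMap.toMatrix' (R := F)) h3
  rwa [LinearMap.toMatrix'_toLin', map_zero] at this

/-- if `x - μ` has rank less than `b` then the first Kronecker factor may be taken trivial -/
theorem Sim.one_kron_of_rank_lt {e : Fin n ≃ Fin a × Fin b} {x : Matrix (Fin n) (Fin n) F}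
    (A : Matrix (Fin a) (Fin a) F) (B : Matrix (Fin b) (Fin b) F) (h : Sim e x (A ⊗ₖ B)) (μ : F)
    (hμ : μ ≠ 0) (hr : (x - μ • 1).rank < b) :
    ∃ M : Matrix (Fin b) (Fin b) F, Sim e x ((1 : Matrix (Fin a) (Fin a) F) ⊗ₖ M) := by
  rw [h.rank_sub μ] at hr
  obtain ⟨α, hα⟩ := left_scalar_of_rank A B μ hμ hr
  refine ⟨α • B, ?_⟩
  have : A ⊗ₖ B = (1 : Matrix (Fin a) (Fin a) F) ⊗ₖ (α • B) := by
    rw [hα, Matrix.smul_kronecker, Matrix.kronecker_smul]
  rwa [this] at h

/-- if `x - μ` has rank less than `a ≤ b` then `x` is scalar -/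
theorem Sim.scalar_of_rank_lt {e : Fin n ≃ Fin a × Fin b} {x : Matrix (Fin n) (Fin n) F}
    (hn : n = a * b) (hab : a ≤ b)
    (A : Matrix (Fin a) (Fin a) F) (B : Matrix (Fin b) (Fin b) F) (h : Sim e x (A ⊗ₖ B)) (μ : F)
    (hμ : μ ≠ 0) (hr : (x - μ • 1).rank < a) : x = μ • 1 := by
  obtain ⟨M, hM⟩ := h.one_kron_of_rank_lt A B μ hμ (by omega)
  have h1 := hM.finrank_ker_of_one_kron hn μ
  have h2 := finrank_ker_add_rank (x - μ • 1)
  rw [Fintype.card_fin] at h2
  set k := finrank F (LinearMap.ker (Matrix.toLin' (M - μ • 1))) with hk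
  have hkb : k ≤ b := by
    have := Submodule.finrank_le (LinearMap.ker (Matrix.toLin' (M - μ • 1)))
    rwa [Module.finrank_fintype_fun_eq_card, Fintype.card_fin] at this
  have hkb' : k = b := by
    rcases Nat.lt_or_ge k b with hlt | hge
    · exfalso
      have h3 : a * (k + 1) ≤ a * b := Nat.mul_le_mul_left a hlt
      rw [Nat.mul_add, Nat.mul_one] at h3
      omega
    · omega
  have hM0 : M - μ • 1 = 0 := by
    apply eq_zero_of_finrank_ker
    rw [Fintype.card_fin]
    exact hkb'
  have hM1 : M = μ • 1 := sub_eq_zero.mp hM0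
  rw [hM1, Matrix.kronecker_smul, Matrix.one_kronecker_one] at hM
  exact hM.of_scalar

section fin

variable [Fintype F]

/-- `A ^ (q - 1) = 1` and `A ^ r` scalar with `gcd(r, q - 1) = 1` force `A` scalar -/
theorem scalar_of_pow_coprime (A : Matrix (Fin a) (Fin a) F) (r : ℕ) (α : F)
    (hcop : Nat.Coprime r (Fintype.card F - 1)) (h1 : A ^ (Fintype.card F - 1) = 1)
    (h2 : A ^ r = α • 1) : ∃ c : F, A = c • 1 := by
  have hcard : 1 < Fintype.card F := Fintype.one_lt_card
  rcases Nat.lt_or_ge 1 (Fintype.card F - 1) with hlt | hge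
  · obtain ⟨m, -, hm⟩ := Nat.exists_mul_mod_eq_one_of_coprime hcop hlt
    have h3 := Nat.div_add_mod (r * m) (Fintype.card F - 1)
    rw [hm] at h3
    refine ⟨α ^ m, ?_⟩
    have h4 : A ^ (r * m) = A := by
      rw [← h3, pow_add, pow_mul, h1, one_pow, one_mul, pow_one]
    rw [← h4, pow_mul, h2, _root_.smul_pow, one_pow]
  · have : Fintype.card F - 1 = 1 := by omega
    rw [this, pow_one] at h1
    exact ⟨1, by rw [h1, one_smul]⟩

/-- the single block elements are not similar to Kronecker products -/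
theorem not_sim_single (hq : Fintype.card F = q) (hn : n = a * b) (ha : 2 ≤ a) (hlt : a < b)
    (r : ℕ) [Fact r.Prime] (hrq : ¬ r ∣ q) (hi2 : 2 ≤ orderOf (q : ZMod r))
    (e : Fin n ≃ Fin a × Fin b) (x : Matrix (Fin n) (Fin n) F) (hx : x ^ r = 1) (hx1 : x ≠ 1)
    (hfix : finrank F (LinearMap.ker (Matrix.toLin' (x - 1))) + orderOf (q : ZMod r) = n)
    (A : GL (Fin a) F) (B : GL (Fin b) F)
    (h : Sim e x ((A : Matrix (Fin a) (Fin a) F) ⊗ₖ (B : Matrix (Fin b) (Fin b) F))) : False := by
  classical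
  have hr : r.Prime := Fact.out
  have hq2 := two_le_card (F := F) hq
  set i := orderOf (q : ZMod r) with hi
  have hrank := finrank_ker_add_rank (x - 1)
  rw [Fintype.card_fin] at hrank
  -- the first factor is scalar
  have hM : ∃ M : Matrix (Fin b) (Fin b) F, Sim e x ((1 : Matrix (Fin a) (Fin a) F) ⊗ₖ M) := by
    by_cases hib : i < b
    · apply h.one_kron_of_rank_lt _ _ 1 one_ne_zero
      rw [one_smul]
      omega
    · have hK : ((A : Matrix (Fin a) (Fin a) F) ⊗ₖ (B : Matrix (Fin b) (Fin b) F)) ^ r = 1 := by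
        have h1 := h.pow r
        rw [hx, ← one_smul F (1 : Matrix (Fin n) (Fin n) F)] at h1
        rw [h1.scalar, one_smul]
      rw [kron_pow] at hK
      obtain ⟨α, hα⟩ := kron_scalar_left ((A : Matrix (Fin a) (Fin a) F) ^ r)
        ((B : Matrix (Fin b) (Fin b) F) ^ r) 1 one_ne_zero (by omega) (by rw [hK, one_smul])
      have hα0 : α ≠ 0 := by
        rintro rfl
        rw [zero_smul] at hα
        have h1 : ((A ^ r : GL (Fin a) F) : Matrix (Fin a) (Fin a) F) = 0 := by
          rw [Units.val_pow_eq_pow_val, hα]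
        have h3 : IsUnit ((A ^ r : GL (Fin a) F) : Matrix (Fin a) (Fin a) F) := (A ^ r).isUnit
        rw [h1] at h3
        have : Nonempty (Fin a) := ⟨⟨0, by omega⟩⟩
        exact not_isUnit_zero h3
      set A' : Matrix (Fin a) (Fin a) F := (A : Matrix (Fin a) (Fin a) F) ^ (Fintype.card F - 1)
        with hA'
      have hA'r : A' ^ r = 1 := by
        rw [hA', ← pow_mul, mul_comm, pow_mul, hα, _root_.smul_pow, one_pow,
          FiniteField.pow_card_sub_one_eq_one α hα0, one_smul]
      have hA'1 : A' = 1 := by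
        by_contra hne
        have := finrank_fix_add_order_le hq r hrq A' hA'r hne
        omega
      have hcop : Nat.Coprime r (Fintype.card F - 1) := by
        rw [hq]
        exact (coprime_of_order_ne_one q r (by omega) (by omega)).symm
      obtain ⟨c, hc⟩ := scalar_of_pow_coprime (A : Matrix (Fin a) (Fin a) F) r α hcop hA'1 hα
      refine ⟨c • (B : Matrix (Fin b) (Fin b) F), ?_⟩
      have : (A : Matrix (Fin a) (Fin a) F) ⊗ₖ (B : Matrix (Fin b) (Fin b) F) =
          (1 : Matrix (Fin a) (Fin a) F) ⊗ₖ (c • (B : Matrix (Fin b) (Fin b) F)) := by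
        rw [hc, Matrix.smul_kronecker, Matrix.kronecker_smul]
      rwa [this] at h
  obtain ⟨M, hM⟩ := hM
  have hMr : M ^ r = 1 := by
    have h1 := hM.pow r
    rw [hx, ← one_smul F (1 : Matrix (Fin n) (Fin n) F)] at h1
    have h2 := h1.scalar
    rw [one_smul, kron_pow, one_pow] at h2
    exact one_kron_eq_one (by omega) _ h2
  have hM1 : M ≠ 1 := by
    intro h1
    rw [h1, Matrix.one_kronecker_one, ← one_smul F (1 : Matrix (Fin a × Fin b) (Fin a × Fin b) F)]
      at hM
    apply hx1
    rw [hM.of_scalar, one_smul]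
  have h1 := finrank_fix_add_order_le hq r hrq M hMr hM1
  have h2 := hM.finrank_ker_of_one_kron hn 1
  rw [one_smul, one_smul] at h2
  rw [← hi] at h1
  set k := finrank F (LinearMap.ker (Matrix.toLin' (M - 1))) with hk
  have h3 : a * (k + i) ≤ a * b := Nat.mul_le_mul_left a h1
  have h4 : 2 * i ≤ a * i := Nat.mul_le_mul_right i ha
  rw [Nat.mul_add] at h3
  omega

end fin

end Cfsg.Agent.Lib.H11.TensR
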