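import Mathlib
import Cfsg.Agent.Lib.H11.TensR4
import Cfsg.Agent.Lib.H11.SuDec7
import Cfsg.Agent.Lib.H11.SubfR6
import Cfsg.Agent.Lib.H28.GLBasic

/-!
# Tensor product subgroups `GL_a ⊗ GL_b` (part 5): the derangements
-/

set_option autoImplicit false
set_option linter.unusedSectionVars false
set_option linter.unusedVariables false

namespace Cfsg.Agent.Lib.H11.TensR

open Matrix Module Kronecker Polynomial
open Cfsg.Agent.Lib.H24.Elus Cfsg.Agent.Lib.H13 Cfsg.Agent.Lib.H11.SubfR

variable {F : Type*} [Field F] {n a b q : ℕ}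

/-- a derangement of order `r` modulo scalars for the action on the cosets of the tensor product
subgroup -/
def IsDer (e : Fin n ≃ Fin a × Fin b) (P : GL (Fin n) F) (r : ℕ) : Prop :=
  ∃ x ∈ Cfsg.Geo.specialLinear (Fin n) F,
    (∃ z : F, ((x ^ r : GL (Fin n) F) : Matrix (Fin n) (Fin n) F) =
      z • (1 : Matrix (Fin n) (Fin n) F)) ∧
    (∀ z : F, (x : Matrix (Fin n) (Fin n) F) ≠ z • (1 : Matrix (Fin n) (Fin n) F)) ∧
    ∀ g ∈ Cfsg.Geo.specialLinear (Fin n) F,
      g⁻¹ * x * g ∉ Cfsg.Geo.tensorProductSubgroup a b e P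

theorem isDer_of_not_sim (e : Fin n ≃ Fin a × Fin b) (P : GL (Fin n) F) (r : ℕ)
    (x : GL (Fin n) F) (hdet : (x : Matrix (Fin n) (Fin n) F).det = 1) (z : F)
    (hz : (x : Matrix (Fin n) (Fin n) F) ^ r = z • 1)
    (hns : ∀ z : F, (x : Matrix (Fin n) (Fin n) F) ≠ z • 1)
    (hsim : ∀ (A : GL (Fin a) F) (B : GL (Fin b) F), ¬ Sim e (x : Matrix (Fin n) (Fin n) F)
      ((A : Matrix (Fin a) (Fin a) F) ⊗ₖ (B : Matrix (Fin b) (Fin b) F))) : IsDer e P r := by
  refine ⟨x, (Cfsg.Agent.Lib.H28.mem_specialLinear_iff x).mpr hdet, ⟨z, ?_⟩, hns, ?_⟩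
  · rw [Units.val_pow_eq_pow_val, hz]
  · intro g _ hg
    obtain ⟨A, B, hAB⟩ := sim_of_conj_mem e P x g hg
    exact hsim A B hAB

/-- an invertible diagonal matrix -/
theorem exists_diag_gl (d : Fin n → F) (hd : ∀ k, d k ≠ 0) :
    ∃ x : GL (Fin n) F, (x : Matrix (Fin n) (Fin n) F) = Matrix.diagonal d := by
  have e1 : Matrix.diagonal d * Matrix.diagonal (fun k => (d k)⁻¹) = 1 := by
    rw [Matrix.diagonal_mul_diagonal, ← Matrix.diagonal_one]
    congr 1
    funext k
    exact mul_inv_cancel₀ (hd k)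
  have e2 : Matrix.diagonal (fun k => (d k)⁻¹) * Matrix.diagonal d = 1 :=
    mul_eq_one_comm.mp e1
  exact ⟨⟨Matrix.diagonal d, Matrix.diagonal (fun k => (d k)⁻¹), e1, e2⟩, rfl⟩

theorem diag_pow_scalar (d : Fin n → F) (r : ℕ) (z : F) (h : ∀ k, d k ^ r = z) :
    (Matrix.diagonal d) ^ r = z • (1 : Matrix (Fin n) (Fin n) F) := by
  rw [Matrix.diagonal_pow, ← Matrix.diagonal_one, ← Matrix.diagonal_smul]
  congr 1
  funext k
  simp [h k]

theorem diag_nonscalar (d : Fin n → F) (k l : Fin n) (hkl : d k ≠ d l) (z : F) :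
    Matrix.diagonal d ≠ z • (1 : Matrix (Fin n) (Fin n) F) := by
  intro h
  have h1 := congrFun (congrFun h k) k
  have h2 := congrFun (congrFun h l) l
  rw [Matrix.diagonal_apply_eq, Matrix.smul_apply, Matrix.one_apply_eq] at h1 h2
  exact hkl (h1.trans h2.symm)

theorem diag_sub_smul (dv : Fin n → F) (μ : F) :
    Matrix.diagonal dv - μ • (1 : Matrix (Fin n) (Fin n) F) =
      Matrix.diagonal (fun i => dv i - μ) := by
  ext i j
  by_cases h : i = j
  · subst h
    simp
  · simp [Matrix.diagonal_apply_ne _ h, Matrix.one_apply_ne h]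

/-- rank at most two: only the first two diagonal entries differ from `μ` -/
theorem rank_diag_le_two {m : ℕ} (dv : Fin (m + 2) → F) (μ : F)
    (hs : ∀ i : Fin m, dv i.succ.succ = μ) :
    (Matrix.diagonal dv - μ • (1 : Matrix (Fin (m + 2)) (Fin (m + 2)) F)).rank ≤ 2 := by
  classical
  rw [diag_sub_smul, Matrix.rank_diagonal, Fintype.card_subtype]
  refine le_trans (Finset.card_le_card (t := {0, 1}) ?_) Finset.card_le_two
  intro i hi
  rw [Finset.mem_filter] at hi
  rw [Finset.mem_insert, Finset.mem_singleton]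
  induction i using Fin.cases with
  | zero => exact Or.inl rfl
  | succ j =>
    induction j using Fin.cases with
    | zero => exact Or.inr rfl
    | succ k => exact absurd (sub_eq_zero.mpr (hs k)) hi.2

section fin

variable [Fintype F]

/-- transvections are derangements -/
theorem der_transvection (p : ℕ) [Fact p.Prime] [CharP F p] (hn : n = a * b) (ha : 2 ≤ a)
    (hab : a ≤ b) (e : Fin n ≃ Fin a × Fin b) (P : GL (Fin n) F) : IsDer e P p := by
  classical
  have hn4 : 2 * 2 ≤ a * b := Nat.mul_le_mul ha (by omega)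
  obtain ⟨m, rfl⟩ : ∃ m, n = m + 2 := ⟨n - 2, by omega⟩
  have h01 : (0 : Fin (m + 2)) ≠ 1 := by
    intro h
    have := congrArg Fin.val h
    simp at this
  set T : F → Matrix (Fin (m + 2)) (Fin (m + 2)) F := fun c => Matrix.transvection 0 1 c with hT
  have hTT : ∀ c d, T c * T d = T (c + d) := fun c d =>
    Matrix.transvection_mul_transvection_same 0 1 h01 c d
  have hT0 : T 0 = 1 := Matrix.transvection_zero 0 1
  have hTpow : ∀ k : ℕ, T 1 ^ k = T (k : F) := by
    intro k
    induction k with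
    | zero => rw [pow_zero, Nat.cast_zero, hT0]
    | succ k ih => rw [pow_succ, ih, hTT, Nat.cast_succ]
  set x : GL (Fin (m + 2)) F := ⟨T 1, T (-1), by rw [hTT, add_neg_cancel, hT0],
    by rw [hTT, neg_add_cancel, hT0]⟩ with hx
  have hxv : (x : Matrix (Fin (m + 2)) (Fin (m + 2)) F) = T 1 := rfl
  have hns : ∀ z : F, (x : Matrix (Fin (m + 2)) (Fin (m + 2)) F) ≠ z • 1 := by
    intro z hz
    have := congrFun (congrFun hz 0) 1
    rw [hxv, hT] at this
    simp [Matrix.transvection, Matrix.one_apply_ne h01] at this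
  have hrank : ((x : Matrix (Fin (m + 2)) (Fin (m + 2)) F) - (1 : F) • 1).rank ≤ 1 := by
    rw [hxv, hT, one_smul]
    show (Matrix.transvection (0 : Fin (m + 2)) 1 (1 : F) - 1).rank ≤ 1
    rw [Matrix.transvection, add_sub_cancel_left, Matrix.single_eq_single_vecMulVec_single]
    exact Matrix.rank_vecMulVec_le _ _
  refine isDer_of_not_sim e P p x ?_ 1 ?_ hns ?_
  · rw [hxv]
    exact Matrix.det_transvection_of_ne 0 1 h01 1
  · rw [hxv, hTpow, CharP.cast_eq_zero, hT0, one_smul]
  · intro A B hAB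
    exact hns 1 (hAB.scalar_of_rank_lt hn hab _ _ 1 one_ne_zero (by omega))

/-- the involution `diag(-1, -1, 1, …, 1)` is a derangement when `a ≥ 3` -/
theorem der_neg_two (h2 : (2 : F) ≠ 0) (hn : n = a * b) (ha : 3 ≤ a)
    (hab : a ≤ b) (e : Fin n ≃ Fin a × Fin b) (P : GL (Fin n) F) : IsDer e P 2 := by
  classical
  have hn4 : 3 * 3 ≤ a * b := Nat.mul_le_mul ha (by omega)
  obtain ⟨m, rfl⟩ : ∃ m, n = m + 2 := ⟨n - 2, by omega⟩
  have hm : 0 < m := by omega
  have hneg : (-1 : F) ≠ 1 := by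
    intro h
    apply h2
    linear_combination -h
  set d : Fin (m + 2) → F := fun k => if k.val < 2 then -1 else 1 with hd
  have hd0 : ∀ k, d k ≠ 0 := by
    intro k
    rw [hd]
    by_cases hk : k.val < 2
    · simp [hk]
    · simp [hk]
  obtain ⟨x, hxv⟩ := exists_diag_gl d hd0
  have hns : ∀ z : F, (x : Matrix (Fin (m + 2)) (Fin (m + 2)) F) ≠ z • 1 := by
    intro z
    rw [hxv]
    apply diag_nonscalar d 0 ⟨2, by omega⟩
    rw [hd]
    simp [hneg]
  have hrank : ((x : Matrix (Fin (m + 2)) (Fin (m + 2)) F) - (1 : F) • 1).rank ≤ 2 := by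
    rw [hxv]
    apply rank_diag_le_two
    intro i
    rw [hd]
    simp
  refine isDer_of_not_sim e P 2 x ?_ 1 ?_ hns ?_
  · rw [hxv, Matrix.det_diagonal, Fin.prod_univ_succ, Fin.prod_univ_succ]
    have h1 : d 0 = -1 := by rw [hd]; simp
    have h3 : d (Fin.succ 0) = -1 := by rw [hd]; simp
    have h4 : ∀ i : Fin m, d i.succ.succ = 1 := by
      intro i
      rw [hd]
      simp
    rw [h1, h3, Finset.prod_congr rfl (fun i _ => h4 i), Finset.prod_const_one]
    ring
  · rw [hxv]
    apply diag_pow_scalar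
    intro k
    rw [hd]
    by_cases hk : k.val < 2
    · simp [hk]
    · simp [hk]
  · intro A B hAB
    exact hns 1 (hAB.scalar_of_rank_lt hn hab _ _ 1 one_ne_zero (by omega))

/-- the element `μ diag(-1, 1, …, 1)` with `μ ^ n = -1` is a derangement -/
theorem der_mu (h2 : (2 : F) ≠ 0) (hn : n = a * b) (ha : 2 ≤ a)
    (hab : a ≤ b) (e : Fin n ≃ Fin a × Fin b) (P : GL (Fin n) F) (μ : F) (hμ : μ ^ n = -1) :
    IsDer e P 2 := by
  classical
  have hn4 : 2 * 2 ≤ a * b := Nat.mul_le_mul ha (by omega)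
  obtain ⟨m, rfl⟩ : ∃ m, n = m + 1 := ⟨n - 1, by omega⟩
  have hm : 0 < m := by omega
  have hμ0 : μ ≠ 0 := by
    rintro rfl
    rw [zero_pow (by omega)] at hμ
    have : (1 : F) = 0 := by linear_combination hμ
    exact one_ne_zero this
  have hneg : (-1 : F) ≠ 1 := by
    intro h
    apply h2
    linear_combination -h
  set d : Fin (m + 1) → F := fun k => if k = 0 then -μ else μ with hd
  have hd0 : ∀ k, d k ≠ 0 := by
    intro k
    rw [hd]
    by_cases hk : k = 0
    · simp [hk, hμ0]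
    · simp [hk, hμ0]
  obtain ⟨x, hxv⟩ := exists_diag_gl d hd0
  have hdd0 : d 0 = -μ := by rw [hd]; simp
  have hds : ∀ i : Fin m, d i.succ = μ := by
    intro i
    rw [hd]
    simp [Fin.succ_ne_zero]
  have hns : ∀ z : F, (x : Matrix (Fin (m + 1)) (Fin (m + 1)) F) ≠ z • 1 := by
    intro z
    rw [hxv]
    apply diag_nonscalar d 0 (Fin.succ ⟨0, hm⟩)
    rw [hdd0, hds]
    intro h
    apply hneg
    have : (-1 : F) * μ = 1 * μ := by linear_combination h
    exact mul_right_cancel₀ hμ0 this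
  have hrank : ((x : Matrix (Fin (m + 1)) (Fin (m + 1)) F) - μ • 1).rank = 1 := by
    rw [hxv]
    apply Cfsg.Agent.Lib.H11.SuDec.rank_diag_one d μ
    · rw [hdd0]
      intro h
      apply hneg
      have : (-1 : F) * μ = 1 * μ := by linear_combination h
      exact mul_right_cancel₀ hμ0 this
    · exact hds
  refine isDer_of_not_sim e P 2 x ?_ (μ ^ 2) ?_ hns ?_
  · rw [hxv, Matrix.det_diagonal, Fin.prod_univ_succ, hdd0,
      Finset.prod_congr rfl (fun i _ => hds i), Finset.prod_const, Finset.card_univ,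
      Fintype.card_fin]
    have : μ ^ (m + 1) = μ ^ m * μ := pow_succ _ _
    linear_combination -hμ
  · rw [hxv]
    apply diag_pow_scalar
    intro k
    rw [hd]
    by_cases hk : k = 0
    · simp [hk]
    · simp [hk]
  · intro A B hAB
    exact hns μ (hAB.scalar_of_rank_lt hn hab _ _ μ hμ0 (by omega))

/-- the element `diag(ζ, ζ⁻¹, 1, …, 1)` of odd prime order `r ∣ q - 1` is a derangement -/
theorem der_order_one (hn : n = a * b) (ha : 2 ≤ a) (hlt : a < b)
    (e : Fin n ≃ Fin a × Fin b) (P : GL (Fin n) F) (r : ℕ) [Fact r.Prime] (hr2 : r ≠ 2)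
    (hrq : r ∣ Fintype.card F - 1) : IsDer e P r := by
  classical
  have hr : r.Prime := Fact.out
  have hn4 : 2 * 3 ≤ a * b := Nat.mul_le_mul ha (by omega)
  obtain ⟨m, rfl⟩ : ∃ m, n = m + 2 := ⟨n - 2, by omega⟩
  have hm : 0 < m := by omega
  have hcard : r ∣ Fintype.card Fˣ := by
    rw [Fintype.card_units]
    exact hrq
  obtain ⟨u, hu⟩ := exists_prime_orderOf_dvd_card r hcard
  set lam : F := (u : F) with hlam
  have hlam0 : lam ≠ 0 := u.ne_zero
  have hlamr : lam ^ r = 1 := by
    rw [hlam, ← Units.val_pow_eq_pow_val, ← hu, pow_orderOf_eq_one, Units.val_one]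
  have hlam1 : lam ≠ 1 := by
    intro h1
    have : u = 1 := Units.ext h1
    rw [this, orderOf_one] at hu
    exact hr.one_lt.ne hu
  have hlaminv : lam⁻¹ ≠ lam := by
    intro h
    have h2 : lam ^ 2 = 1 := by
      rw [sq]
      nth_rewrite 1 [← h]
      exact inv_mul_cancel₀ hlam0
    have hu2 : u ^ 2 = 1 := by
      apply Units.ext
      rw [Units.val_pow_eq_pow_val, Units.val_one]
      exact h2
    have h3 := orderOf_dvd_of_pow_eq_one hu2
    rw [hu] at h3
    have h4 := Nat.le_of_dvd (by norm_num) h3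
    have := hr.two_le
    omega
  set d : Fin (m + 2) → F := fun k => if k.val = 0 then lam else if k.val = 1 then lam⁻¹ else 1
    with hd
  have hdd0 : d 0 = lam := by rw [hd]; simp
  have hdd1 : d (Fin.succ 0) = lam⁻¹ := by rw [hd]; simp
  have hdds : ∀ i : Fin m, d i.succ.succ = 1 := by
    intro i
    rw [hd]
    simp
  have hd0 : ∀ k, d k ≠ 0 := by
    intro k
    induction k using Fin.cases with
    | zero => rw [hdd0]; exact hlam0
    | succ j =>
      induction j using Fin.cases with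
      | zero => rw [hdd1]; exact inv_ne_zero hlam0
      | succ i => rw [hdds]; exact one_ne_zero
  obtain ⟨x, hxv⟩ := exists_diag_gl d hd0
  have hns : ∀ z : F, (x : Matrix (Fin (m + 2)) (Fin (m + 2)) F) ≠ z • 1 := by
    intro z
    rw [hxv]
    apply diag_nonscalar d 0 (Fin.succ 0)
    rw [hdd0, hdd1]
    exact fun h => hlaminv h.symm
  have hrank1 : ((x : Matrix (Fin (m + 2)) (Fin (m + 2)) F) - (1 : F) • 1).rank ≤ 2 := by
    rw [hxv]
    exact rank_diag_le_two d 1 hdds
  have hrank2 : ((x : Matrix (Fin (m + 2)) (Fin (m + 2)) F) - lam • 1).rank = m + 1 := by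
    rw [hxv]
    apply Cfsg.Agent.Lib.H11.SuDec.rank_diag_corank_one d lam hdd0
    intro i
    induction i using Fin.cases with
    | zero => exact hlaminv
    | succ j =>
      rw [hdds]
      exact fun h => hlam1 h.symm
  refine isDer_of_not_sim e P r x ?_ 1 ?_ hns ?_
  · rw [hxv, Matrix.det_diagonal, Fin.prod_univ_succ, Fin.prod_univ_succ, hdd0, hdd1,
      Finset.prod_congr rfl (fun i _ => hdds i), Finset.prod_const_one, mul_one,
      mul_inv_cancel₀ hlam0]
  · rw [hxv]
    apply diag_pow_scalar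
    intro k
    induction k using Fin.cases with
    | zero => rw [hdd0, hlamr]
    | succ j =>
      induction j using Fin.cases with
      | zero => rw [hdd1, inv_pow, hlamr, inv_one]
      | succ i => rw [hdds, one_pow]
  · intro A B hAB
    obtain ⟨M, hM⟩ := hAB.one_kron_of_rank_lt _ _ 1 one_ne_zero (by omega)
    have h1 := hM.finrank_ker_of_one_kron hn lam
    have h2 := finrank_ker_add_rank ((x : Matrix (Fin (m + 2)) (Fin (m + 2)) F) - lam • 1)
    rw [Fintype.card_fin, hrank2] at h2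
    have h3 : finrank F (LinearMap.ker (Matrix.toLin'
        ((x : Matrix (Fin (m + 2)) (Fin (m + 2)) F) - lam • 1))) = 1 := by omega
    rw [h3] at h1
    have h4 : a ∣ 1 := ⟨_, h1⟩
    have := Nat.le_of_dvd (by norm_num) h4
    omega

/-- an element with a single nontrivial irreducible block is a derangement -/
theorem der_single {p : ℕ} [Fact p.Prime] [CharP F p] (hq : Fintype.card F = q) (hn : n = a * b)
    (ha : 2 ≤ a) (hlt : a < b) (e : Fin n ≃ Fin a × Fin b) (P : GL (Fin n) F)
    (r : ℕ) [Fact r.Prime] (hrp : r ≠ p) (hi2 : 2 ≤ orderOf (q : ZMod r))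
    (hin : orderOf (q : ZMod r) ≤ n) : IsDer e P r := by
  classical
  have hr : r.Prime := Fact.out
  have hcard := CycFactor.card_S (F := F) hq hr hrp
  have hne : Nonempty (CycFactor.S r F) := by
    rw [← Fintype.card_pos_iff]
    rcases Nat.eq_zero_or_pos (Fintype.card (CycFactor.S r F)) with h0 | h0
    · rw [h0, zero_mul] at hcard
      have := hr.two_le
      omega
    · exact h0
  obtain ⟨s₀⟩ := hne
  obtain ⟨x, hx, hns, hmu0, hmu⟩ := exists_sl_single hq r hrp hi2 n hin s₀
  have hsum := GLPrime.sum_mu (CycFactor.fJ (F := F) r) (CycFactor.coprime_fJ (F := F) hr hrp)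
    (CycFactor.prod_fJ (F := F) hr hrp) (x : Matrix (Fin n) (Fin n) F) hx
  rw [Fintype.sum_option] at hsum
  have hsome : ∑ s : CycFactor.S r F, GLPrime.mu (CycFactor.fJ (F := F) r)
      (x : Matrix (Fin n) (Fin n) F) (some s) = orderOf (q : ZMod r) := by
    rw [Finset.sum_eq_single s₀]
    · exact hmu0
    · intro s _ hs
      exact hmu s hs
    · intro h
      exact absurd (Finset.mem_univ _) h
  rw [hsome] at hsum
  have hfix : finrank F (LinearMap.ker (aeval (Matrix.toLin' (x : Matrix (Fin n) (Fin n) F))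
      (X - 1 : F[X]))) + orderOf (q : ZMod r) = n := hsum
  have hfix' : finrank F (LinearMap.ker (Matrix.toLin' ((x : Matrix (Fin n) (Fin n) F) - 1))) +
      orderOf (q : ZMod r) = n := by
    have : aeval (Matrix.toLin' (x : Matrix (Fin n) (Fin n) F)) (X - 1 : F[X]) =
        Matrix.toLin' ((x : Matrix (Fin n) (Fin n) F) - 1) := by
      rw [map_sub, aeval_X, map_one, map_sub, Matrix.toLin'_one]
      rfl
    rw [← this]
    exact hfix
  have hrq : ¬ r ∣ q := by
    obtain ⟨f, -, hf⟩ := FiniteField.card F p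
    rw [← hq, hf]
    intro h
    have h1 := hr.dvd_of_dvd_pow h
    exact hrp ((Nat.prime_dvd_prime_iff_eq hr Fact.out).mp h1)
  set xg : GL (Fin n) F := Matrix.SpecialLinearGroup.toGL x with hxg
  have hxgv : (xg : Matrix (Fin n) (Fin n) F) = (x : Matrix (Fin n) (Fin n) F) := rfl
  refine isDer_of_not_sim e P r xg ?_ 1 ?_ ?_ ?_
  · rw [hxgv]
    exact x.2
  · rw [hxgv, hx, one_smul]
  · intro z hz
    exact hns z hz
  · intro A B hAB
    rw [hxgv] at hAB
    refine not_sim_single hq hn ha hlt r hrq hi2 e _ hx ?_ hfix' A B hAB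
    intro h1
    exact hns 1 (by rw [h1, one_smul])

end fin

end Cfsg.Agent.Lib.H11.TensR
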