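import Cfsg.Agent.Lib.H11.Subf2
import Cfsg.Agent.Lib.H11.InvK6

/-!
# Subfield subgroups (part 3): involutions are conjugate into the subfield subgroup
-/

set_option autoImplicit false
set_option linter.unusedSectionVars false

namespace Cfsg.Agent.Lib.H11.Subf

open Matrix Module Cfsg.Agent.Lib.H11.InvCls Cfsg.Agent.Lib.H11.Jordan

variable {F : Type*} [Field F] {n : ℕ} {F₀ : Subfield F}

/-- a scalar multiple of a matrix with entries in `F₀` lies in the subfield subgroup -/
theorem mem_subfield_of_smul (g : GL (Fin n) F) (l : F) (hl : l ≠ 0)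
    (M : Matrix (Fin n) (Fin n) F) (hM : ∀ i j, M i j ∈ F₀)
    (hg : (g : Matrix (Fin n) (Fin n) F) = l • M) :
    g ∈ Cfsg.Geo.subfieldSubgroup F₀ (1 : GL (Fin n) F) := by
  rw [mem_subfield_one_iff]
  refine ⟨l⁻¹, inv_ne_zero hl, fun i j => ?_⟩
  rw [hg, Matrix.smul_apply, smul_eq_mul, ← mul_assoc, inv_mul_cancel₀ hl, one_mul]
  exact hM i j

/-- the scalar square of an invertible matrix is non-zero -/
theorem scalar_sq_ne_zero (hn : 0 < n) (x : Matrix.SpecialLinearGroup (Fin n) F) (z : F)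
    (hx : (x : Matrix (Fin n) (Fin n) F) * (x : Matrix (Fin n) (Fin n) F) =
      z • (1 : Matrix (Fin n) (Fin n) F)) : z ≠ 0 := by
  rintro rfl
  have h1 := congrArg Matrix.det hx
  have : Nonempty (Fin n) := ⟨⟨0, hn⟩⟩
  rw [Matrix.det_mul, x.2, zero_smul, Matrix.det_zero] at h1
  simp at h1

/-- characteristic two -/
theorem conj_subfield_char_two [Fintype F] (hn : 0 < n) (h2 : (2 : F) = 0)
    (x : Matrix.SpecialLinearGroup (Fin n) F) (z : F)
    (hx : (x : Matrix (Fin n) (Fin n) F) * (x : Matrix (Fin n) (Fin n) F) =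
      z • (1 : Matrix (Fin n) (Fin n) F)) :
    ∃ P : Matrix.SpecialLinearGroup (Fin n) F, P⁻¹ * x * P ∈
      (Cfsg.Geo.subfieldSubgroup F₀ (1 : GL (Fin n) F)).comap
        (Matrix.SpecialLinearGroup.toGL : Matrix.SpecialLinearGroup (Fin n) F →* GL (Fin n) F) := by
  have hz0 := scalar_sq_ne_zero hn x z hx
  obtain ⟨l, hl⟩ := FiniteField.isSquare_of_char_two (two_eq_zero_iff_ringChar h2) z
  have hl0 : l ≠ 0 := by
    rintro rfl
    rw [mul_zero] at hl
    exact hz0 hl
  set u : Matrix (Fin n) (Fin n) F := l⁻¹ • (x : Matrix (Fin n) (Fin n) F) with hu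
  have huu : u * u = 1 := by
    rw [hu, Matrix.smul_mul, Matrix.mul_smul, hx, smul_smul, smul_smul, hl]
    have : l⁻¹ * l⁻¹ * (l * l) = 1 := by field_simp
    rw [this, one_smul]
  have hxu : (x : Matrix (Fin n) (Fin n) F) = l • u := by
    rw [hu, smul_smul, mul_inv_cancel₀ hl0, one_smul]
  have hNN : (u - 1) * (u - 1) = 0 := by
    have : (u - 1) * (u - 1) = u * u - (2 : F) • u + 1 := by
      rw [two_smul]
      noncomm_ring
    rw [this, huu, h2, zero_smul, sub_zero]
    have : (1 : Matrix (Fin n) (Fin n) F) + 1 = (2 : F) • 1 := by rw [two_smul]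
    rw [this, h2, zero_smul]
  have hN : IsNilpotent (u - 1) := ⟨2, by rw [pow_two, hNN]⟩
  obtain ⟨t, d, hd, e, P, Pi, hPPi, hPiP, hJ⟩ := exists_jordan_form (u - 1) hN
  rw [add_sub_cancel] at hJ
  set J : Matrix (Fin n) (Fin n) F := Matrix.reindex e e (Cfsg.jordanTypeMatrix d F) with hJdef
  have hJ' : Pi * u = J * Pi := by
    calc Pi * u = Pi * (u * P) * Pi := by
          rw [Matrix.mul_assoc, Matrix.mul_assoc, hPPi, Matrix.mul_one]
      _ = J * Pi := by rw [← hJ, ← Matrix.mul_assoc, hPiP, Matrix.one_mul]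
  apply exists_conj_mem_comap _ x (l • J) Pi P hPiP
  · rw [hxu, Matrix.mul_smul, hJ', Matrix.smul_mul]
  · intro g hg
    apply mem_subfield_of_smul g l hl0 J _ hg
    intro i j
    rw [hJdef, Matrix.reindex_apply, Matrix.submatrix_apply, jordanTypeMatrix_apply]
    split_ifs
    · exact F₀.one_mem
    · exact F₀.zero_mem
  · exact exists_centralizer_det hn _ z hz0 hx _

/-- odd characteristic, square scalar -/
theorem conj_subfield_square [Fintype F] (hn : 0 < n) (h2 : (2 : F) ≠ 0)
    (x : Matrix.SpecialLinearGroup (Fin n) F) (z : F) (hz : IsSquare z)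
    (hx : (x : Matrix (Fin n) (Fin n) F) * (x : Matrix (Fin n) (Fin n) F) =
      z • (1 : Matrix (Fin n) (Fin n) F)) :
    ∃ P : Matrix.SpecialLinearGroup (Fin n) F, P⁻¹ * x * P ∈
      (Cfsg.Geo.subfieldSubgroup F₀ (1 : GL (Fin n) F)).comap
        (Matrix.SpecialLinearGroup.toGL : Matrix.SpecialLinearGroup (Fin n) F →* GL (Fin n) F) := by
  have hz0 := scalar_sq_ne_zero hn x z hx
  obtain ⟨l, hl⟩ := hz
  have hl0 : l ≠ 0 := by
    rintro rfl
    rw [mul_zero] at hl
    exact hz0 hl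
  set u : Matrix (Fin n) (Fin n) F := l⁻¹ • (x : Matrix (Fin n) (Fin n) F) with hu
  have huu : u * u = 1 := by
    rw [hu, Matrix.smul_mul, Matrix.mul_smul, hx, smul_smul, smul_smul, hl]
    have : l⁻¹ * l⁻¹ * (l * l) = 1 := by field_simp
    rw [this, one_smul]
  have hxu : (x : Matrix (Fin n) (Fin n) F) = l • u := by
    rw [hu, smul_smul, mul_inv_cancel₀ hl0, one_smul]
  obtain ⟨b, a, e, P, Pi, hPPi, hD⟩ := exists_diag_of_invol h2 u huu
  apply exists_conj_mem_comap _ x
    (l • (Matrix.fromBlocks (-1) 0 0 1 : Matrix (Fin b ⊕ Fin a) (Fin b ⊕ Fin a) F).submatrix e e)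
    P Pi hPPi
  · rw [hxu, Matrix.mul_smul, hD, Matrix.smul_mul]
  · intro g hg
    apply mem_subfield_of_smul g l hl0 _ _ hg
    intro i j
    rw [Matrix.submatrix_apply]
    rcases e i with i' | i' <;> rcases e j with j' | j'
    · simp only [Matrix.fromBlocks_apply₁₁, Matrix.neg_apply, Matrix.one_apply]
      split_ifs
      · exact F₀.neg_mem F₀.one_mem
      · rw [neg_zero]; exact F₀.zero_mem
    · simp only [Matrix.fromBlocks_apply₁₂, Matrix.zero_apply]
      exact F₀.zero_mem
    · simp only [Matrix.fromBlocks_apply₂₁, Matrix.zero_apply]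
      exact F₀.zero_mem
    · simp only [Matrix.fromBlocks_apply₂₂, Matrix.one_apply]
      split_ifs
      · exact F₀.one_mem
      · exact F₀.zero_mem
  · exact exists_centralizer_det hn _ z hz0 hx _

/-- sufficiency in the involution criterion -/
theorem conj_subfield_of_invol [Fintype F] (hn : 0 < n) (q₀ : ℕ)
    (hF : Odd (Fintype.card F) → Fintype.card F = q₀ ^ 2 ∧
      padicValNat 2 n ≤ padicValNat 2 (Fintype.card F - 1))
    (x : Matrix.SpecialLinearGroup (Fin n) F) (z : F)
    (hx : (x : Matrix (Fin n) (Fin n) F) * (x : Matrix (Fin n) (Fin n) F) =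
      z • (1 : Matrix (Fin n) (Fin n) F)) :
    ∃ P : Matrix.SpecialLinearGroup (Fin n) F, P⁻¹ * x * P ∈
      (Cfsg.Geo.subfieldSubgroup F₀ (1 : GL (Fin n) F)).comap
        (Matrix.SpecialLinearGroup.toGL : Matrix.SpecialLinearGroup (Fin n) F →* GL (Fin n) F) := by
  by_cases h2 : (2 : F) = 0
  · exact conj_subfield_char_two hn h2 x z hx
  by_cases hz : IsSquare z
  · exact conj_subfield_square hn h2 x z hz hx
  exfalso
  have hodd : Odd (Fintype.card F) := by
    by_contra h
    exact h2 (two_eq_zero_of_not_odd_card h)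
  obtain ⟨hq, hv⟩ := hF hodd
  obtain ⟨m, hm, hdet⟩ := det_of_nonsquare _ z hz hx
  rw [x.2] at hdet
  have hm0 : m ≠ 0 := by omega
  have hv' : padicValNat 2 m < padicValNat 2 (Fintype.card F - 1) := by
    rw [hm, padicValNat.mul (by norm_num) hm0, padicValNat_self] at hv
    omega
  have h1 := isSquare_of_pow_eq_one h2 (-z) m hm0 hdet.symm hv'
  have h3 := isSquare_neg_one_of_card_sq q₀ hq
  apply hz
  have := h3.mul h1
  rwa [neg_one_mul, neg_neg] at this

end Cfsg.Agent.Lib.H11.Subf
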