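import Cfsg.Agent.Lib.H11.UniR2
import Cfsg.Agent.Lib.H11.Subf3
import Cfsg.Agent.Lib.H28.GLBasic

/-!
# Unitary-type subgroups of `SL_n(q₀²)` (part 3): sufficient conditions for conjugacy into the
similarity group
-/

set_option autoImplicit false
set_option linter.unusedSectionVars false

namespace Cfsg.Agent.Lib.H11.UniR

open Matrix Polynomial Module Cfsg.Agent.Lib.H13.AutPSU Cfsg.Agent.Lib.H13
  Cfsg.Agent.Lib.H11.InvCls Cfsg.Agent.Lib.H11.SubfR Cfsg.Agent.Lib.H11.HermNorm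

variable {F : Type*} [Field F] [Finite F] {n q₀ : ℕ} (D : UF F q₀)
  {f : (Fin n → F) → (Fin n → F) → F}

/-- a matrix preserving some nondegenerate sesquilinear form is conjugate to an isometry of the
unitary form `f` -/
theorem exists_conj_isometry (hf : Cfsg.Geo.IsUnitaryFormPow q₀ f)
    (g gi X Xi : Matrix (Fin n) (Fin n) F) (hg1 : g * gi = 1) (hg2 : gi * g = 1)
    (hX1 : X * Xi = 1) (hX2 : Xi * X = 1) (hinv : ct D g * X * g = X) :
    ∃ P Pi : Matrix (Fin n) (Fin n) F, P * Pi = 1 ∧ Pi * P = 1 ∧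
      ct D (Pi * g * P) * gramT f * (Pi * g * P) = gramT f := by
  obtain ⟨H, Hi, hH, hH1, hH2, hHg⟩ := exists_hermitian_invariant D g gi X Xi hg1 hg2 hX1 hX2 hinv
  obtain ⟨C₁, hC₁, hC₁u, -⟩ := exists_norm D H Hi hH hH1 hH2
  have hdet := det_gramT_ne_zero D hf
  have hdetu : IsUnit (gramT f).det := isUnit_iff_ne_zero.mpr hdet
  obtain ⟨C₂, hC₂, hC₂u, -⟩ := exists_norm D (gramT f) (gramT f)⁻¹ (ct_gramT D hf)
    (Matrix.mul_nonsing_inv _ hdetu) (Matrix.nonsing_inv_mul _ hdetu)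
  obtain ⟨U₁, rfl⟩ := hC₁u
  obtain ⟨U₂, rfl⟩ := hC₂u
  set A₁ : Matrix (Fin n) (Fin n) F := (U₁ : Matrix (Fin n) (Fin n) F) with hA₁
  set B₁ : Matrix (Fin n) (Fin n) F := ((U₁⁻¹ : (Matrix (Fin n) (Fin n) F)ˣ) :
    Matrix (Fin n) (Fin n) F) with hB₁
  set A₂ : Matrix (Fin n) (Fin n) F := (U₂ : Matrix (Fin n) (Fin n) F) with hA₂
  set B₂ : Matrix (Fin n) (Fin n) F := ((U₂⁻¹ : (Matrix (Fin n) (Fin n) F)ˣ) :
    Matrix (Fin n) (Fin n) F) with hB₂
  have h11 : A₁ * B₁ = 1 := U₁.mul_inv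
  have h12 : B₁ * A₁ = 1 := U₁.inv_mul
  have h21 : A₂ * B₂ = 1 := U₂.mul_inv
  have h22 : B₂ * A₂ = 1 := U₂.inv_mul
  have hc1 : ct D B₁ * ct D A₁ = 1 := by rw [← ct_mul, h11, ct_one]
  have hc2 : ct D B₂ * ct D A₂ = 1 := by rw [← ct_mul, h21, ct_one]
  refine ⟨B₁ * A₂, B₂ * A₁, ?_, ?_, ?_⟩
  · calc B₁ * A₂ * (B₂ * A₁) = B₁ * (A₂ * B₂) * A₁ := by simp only [Matrix.mul_assoc]
      _ = 1 := by rw [h21, Matrix.mul_one, h12]
  · calc B₂ * A₁ * (B₁ * A₂) = B₂ * (A₁ * B₁) * A₂ := by simp only [Matrix.mul_assoc]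
      _ = 1 := by rw [h11, Matrix.mul_one, h22]
  · have e1 : ct D (B₂ * A₁) * gramT f * (B₂ * A₁) = H := by
      rw [ct_mul, ← hC₂, ← hC₁]
      calc ct D A₁ * ct D B₂ * (ct D A₂ * A₂) * (B₂ * A₁)
          = ct D A₁ * (ct D B₂ * ct D A₂) * (A₂ * B₂) * A₁ := by simp only [Matrix.mul_assoc]
        _ = ct D A₁ * A₁ := by rw [hc2, h21, Matrix.mul_one, Matrix.mul_one]
    have e2 : ct D (B₁ * A₂) * H * (B₁ * A₂) = gramT f := by
      rw [ct_mul, ← hC₂, ← hC₁]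
      calc ct D A₂ * ct D B₁ * (ct D A₁ * A₁) * (B₁ * A₂)
          = ct D A₂ * (ct D B₁ * ct D A₁) * (A₁ * B₁) * A₂ := by simp only [Matrix.mul_assoc]
        _ = ct D A₂ * A₂ := by rw [hc1, h11, Matrix.mul_one, Matrix.mul_one]
    have hct : ct D (B₂ * A₁ * g * (B₁ * A₂)) = ct D (B₁ * A₂) * (ct D g * ct D (B₂ * A₁)) := by
      rw [ct_mul D (B₂ * A₁ * g) (B₁ * A₂), ct_mul D (B₂ * A₁) g]
    calc ct D (B₂ * A₁ * g * (B₁ * A₂)) * gramT f * (B₂ * A₁ * g * (B₁ * A₂))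
        = ct D (B₁ * A₂) * (ct D g * (ct D (B₂ * A₁) * gramT f * (B₂ * A₁)) * g) * (B₁ * A₂) := by
          rw [hct]
          simp only [Matrix.mul_assoc]
      _ = gramT f := by rw [e1, hHg, e2]

/-- a scalar multiple of an isometry is a similarity -/
theorem smul_mem_sim (hf : Cfsg.Geo.IsUnitaryFormPow q₀ f) (g : GL (Fin n) F) (b : F) (hb : b ≠ 0)
    (w : Matrix (Fin n) (Fin n) F) (hw : ct D w * gramT f * w = gramT f)
    (hg : (g : Matrix (Fin n) (Fin n) F) = b • w) : g ∈ Cfsg.Geo.similarityGroup f := by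
  rw [mem_sim_iff D hf]
  refine ⟨D.τ b * b, mul_ne_zero ((map_ne_zero D.τ).mpr hb) hb, ?_⟩
  rw [hg, ct_smul, Matrix.smul_mul, Matrix.smul_mul, Matrix.mul_smul, hw, smul_smul, mul_comm]

/-- the transfer from `GL`-conjugacy to `SL`-conjugacy, for elements of `GL` -/
theorem exists_conj_mem_of_gl (H : Subgroup (GL (Fin n) F)) (x : GL (Fin n) F)
    (hx : x ∈ Cfsg.Geo.specialLinear (Fin n) F)
    (x' A Ai : Matrix (Fin n) (Fin n) F) (hA : A * Ai = 1)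
    (hconj : A * (x : Matrix (Fin n) (Fin n) F) = x' * A)
    (hH : ∀ g : GL (Fin n) F, (g : Matrix (Fin n) (Fin n) F) = x' → g ∈ H)
    (hcent : ∃ C : Matrix (Fin n) (Fin n) F,
      C * (x : Matrix (Fin n) (Fin n) F) = (x : Matrix (Fin n) (Fin n) F) * C ∧ C.det = A.det) :
    ∃ g ∈ Cfsg.Geo.specialLinear (Fin n) F, g⁻¹ * x * g ∈ H := by
  have hdet : (x : Matrix (Fin n) (Fin n) F).det = 1 :=
    (Cfsg.Agent.Lib.H28.mem_specialLinear_iff x).mp hx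
  set xs : Matrix.SpecialLinearGroup (Fin n) F := ⟨(x : Matrix (Fin n) (Fin n) F), hdet⟩ with hxs
  obtain ⟨P, hP⟩ := Cfsg.Agent.Lib.H11.Subf.exists_conj_mem_comap H xs x' A Ai hA hconj hH hcent
  rw [Subgroup.mem_comap, map_mul, map_mul, map_inv] at hP
  have hxs' : Matrix.SpecialLinearGroup.toGL xs = x := Units.ext rfl
  rw [hxs'] at hP
  refine ⟨Matrix.SpecialLinearGroup.toGL P, ?_, hP⟩
  rw [Cfsg.Agent.Lib.H28.mem_specialLinear_iff]
  exact P.2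

/-- the main sufficiency criterion: a scalar multiple `x = b • x'` of determinant `1`, where `x'`
preserves some nondegenerate sesquilinear form, is `SL`-conjugate into the similarity group as
soon as its centralizer contains matrices of every determinant -/
theorem exists_sl_conj_sim (hf : Cfsg.Geo.IsUnitaryFormPow q₀ f) (x : GL (Fin n) F)
    (hx : x ∈ Cfsg.Geo.specialLinear (Fin n) F) (b : F) (hb : b ≠ 0)
    (x' xi' X Xi : Matrix (Fin n) (Fin n) F) (hxx' : (x : Matrix (Fin n) (Fin n) F) = b • x')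
    (hx'1 : x' * xi' = 1) (hX1 : X * Xi = 1) (hinv : ct D x' * X * x' = X)
    (hcent : ∀ d : F, ∃ C : Matrix (Fin n) (Fin n) F,
      C * (x : Matrix (Fin n) (Fin n) F) = (x : Matrix (Fin n) (Fin n) F) * C ∧ C.det = d) :
    ∃ g ∈ Cfsg.Geo.specialLinear (Fin n) F, g⁻¹ * x * g ∈ Cfsg.Geo.similarityGroup f := by
  obtain ⟨P, Pi, hP1, hP2, hw⟩ := exists_conj_isometry D hf x' xi' X Xi hx'1
    (mul_eq_one_comm.mp hx'1) hX1 (mul_eq_one_comm.mp hX1) hinv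
  refine exists_conj_mem_of_gl (Cfsg.Geo.similarityGroup f) x hx (b • (Pi * x' * P)) Pi P hP2 ?_
    (fun g hg => smul_mem_sim D hf g b hb _ hw hg) (hcent _)
  rw [hxx', Matrix.mul_smul, Matrix.smul_mul]
  congr 1
  rw [Matrix.mul_assoc, Matrix.mul_assoc, hP1, Matrix.mul_one]

end Cfsg.Agent.Lib.H11.UniR
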