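import Mathlib
import Cfsg.Agent.Lib.H11.TensR5
import Cfsg.Agent.Lib.H11.SuDec10
import Cfsg.Agent.Lib.H11.UniR3
import Cfsg.Agent.Lib.H11.InvCls4
import Cfsg.Agent.Lib.H11.InvCls3
import Cfsg.Agent.Lib.H13.InvolConjLin

/-!
# Tensor product subgroups `GL_a ⊗ GL_b` (part 6): involutions of `PSL_n` fixing a tensor
decomposition `2 ⊗ b`
-/

set_option autoImplicit false
set_option linter.unusedSectionVars false
set_option linter.unusedVariables false

namespace Cfsg.Agent.Lib.H11.TensR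

open Matrix Module Kronecker
open Cfsg.Agent.Lib.H11.InvCls (mat_of_conj no_eigen exists_centralizer_det)
open Cfsg.Agent.Lib.H11.SuDec (det_of_invol invol_of_sq toLin'_add_id)

variable {F : Type*} [Field F] {n a b : ℕ}

/-- `GL`-conjugacy to a Kronecker product gives `SL`-conjugacy into the tensor product subgroup for
elements with scalar square -/
theorem conj_mem_of_gl_conj [Fintype F] (hn : 0 < n) (e : Fin n ≃ Fin a × Fin b) (P : GL (Fin n) F)
    (x : GL (Fin n) F) (hx : x ∈ Cfsg.Geo.specialLinear (Fin n) F) (z : F) (hz0 : z ≠ 0)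
    (hz : (x : Matrix (Fin n) (Fin n) F) * (x : Matrix (Fin n) (Fin n) F) = z • 1)
    (A : GL (Fin a) F) (B : GL (Fin b) F) (P₁ Pi₁ : Matrix (Fin n) (Fin n) F) (hP : P₁ * Pi₁ = 1)
    (hconj : P₁ * (x : Matrix (Fin n) (Fin n) F) =
      ((A : Matrix (Fin a) (Fin a) F) ⊗ₖ (B : Matrix (Fin b) (Fin b) F)).submatrix e e * P₁) :
    ∃ g ∈ Cfsg.Geo.specialLinear (Fin n) F,
      g⁻¹ * x * g ∈ Cfsg.Geo.tensorProductSubgroup a b e P := by
  set K' : Matrix (Fin n) (Fin n) F :=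
    ((A : Matrix (Fin a) (Fin a) F) ⊗ₖ (B : Matrix (Fin b) (Fin b) F)).submatrix e e with hK'
  set x' : Matrix (Fin n) (Fin n) F := (P : Matrix (Fin n) (Fin n) F) * K' *
    ((P⁻¹ : GL (Fin n) F) : Matrix (Fin n) (Fin n) F) with hx'
  have hPP : ((P⁻¹ : GL (Fin n) F) : Matrix (Fin n) (Fin n) F) * (P : Matrix (Fin n) (Fin n) F) = 1 := by
    rw [← Units.val_mul, inv_mul_cancel, Units.val_one]
  have hPP' : (P : Matrix (Fin n) (Fin n) F) * ((P⁻¹ : GL (Fin n) F) : Matrix (Fin n) (Fin n) F) = 1 := by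
    rw [← Units.val_mul, mul_inv_cancel, Units.val_one]
  refine Cfsg.Agent.Lib.H11.UniR.exists_conj_mem_of_gl _ x hx x'
    ((P : Matrix (Fin n) (Fin n) F) * P₁)
    (Pi₁ * ((P⁻¹ : GL (Fin n) F) : Matrix (Fin n) (Fin n) F)) ?_ ?_ ?_ ?_
  · calc (P : Matrix (Fin n) (Fin n) F) * P₁ * (Pi₁ * ((P⁻¹ : GL (Fin n) F) : Matrix (Fin n) (Fin n) F))
        = (P : Matrix (Fin n) (Fin n) F) * (P₁ * Pi₁) * ((P⁻¹ : GL (Fin n) F) : Matrix (Fin n) (Fin n) F) := by
          simp only [Matrix.mul_assoc]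
      _ = 1 := by rw [hP, Matrix.mul_one, hPP']
  · calc (P : Matrix (Fin n) (Fin n) F) * P₁ * (x : Matrix (Fin n) (Fin n) F)
        = (P : Matrix (Fin n) (Fin n) F) * (P₁ * (x : Matrix (Fin n) (Fin n) F)) := by
          rw [Matrix.mul_assoc]
      _ = (P : Matrix (Fin n) (Fin n) F) * K' * (((P⁻¹ : GL (Fin n) F) : Matrix (Fin n) (Fin n) F) *
            (P : Matrix (Fin n) (Fin n) F)) * P₁ := by
          rw [hconj, hPP, Matrix.mul_one, Matrix.mul_assoc]
      _ = x' * ((P : Matrix (Fin n) (Fin n) F) * P₁) := by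
          rw [hx']
          simp only [Matrix.mul_assoc]
  · intro g hg
    exact mem_of_kron e P A B g (by rw [hg, hx', hK'])
  · obtain ⟨C, hC1, hC2⟩ := exists_centralizer_det hn (x : Matrix (Fin n) (Fin n) F) z hz0 hz
      ((P : Matrix (Fin n) (Fin n) F) * P₁).det
    exact ⟨C, hC1, hC2⟩

/-- the number of zero entries of a diagonal matrix -/
theorem finrank_ker_diagonal [DecidableEq F] (w : Fin b → F) :
    finrank F (LinearMap.ker (Matrix.toLin' (Matrix.diagonal w))) =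
      (Finset.univ.filter (fun k => w k = 0)).card := by
  have h1 := finrank_ker_add_rank (Matrix.diagonal w)
  rw [Matrix.rank_diagonal, Fintype.card_subtype, Fintype.card_fin] at h1
  simp only [ne_eq] at h1
  have h2 := Finset.card_filter_add_card_filter_not (s := (Finset.univ : Finset (Fin b)))
    (fun k => w k = 0)
  rw [Finset.card_univ, Fintype.card_fin] at h2
  omega

/-- case A: the square is a square -/
theorem conj_mem_of_square [Fintype F] (h2 : (2 : F) ≠ 0) (hn : n = 2 * b) (hb : 0 < b)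
    (hpow : ∀ μ : F, μ ^ n ≠ -1)
    (e : Fin n ≃ Fin 2 × Fin b) (P : GL (Fin n) F)
    (x : GL (Fin n) F) (hx : x ∈ Cfsg.Geo.specialLinear (Fin n) F) (l : F) (hl : l ≠ 0)
    (hz : (x : Matrix (Fin n) (Fin n) F) * (x : Matrix (Fin n) (Fin n) F) = (l * l) • 1) :
    ∃ g ∈ Cfsg.Geo.specialLinear (Fin n) F,
      g⁻¹ * x * g ∈ Cfsg.Geo.tensorProductSubgroup 2 b e P := by
  classical
  have hdet : (x : Matrix (Fin n) (Fin n) F).det = 1 :=
    (Cfsg.Agent.Lib.H28.mem_specialLinear_iff x).mp hx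
  set u : Matrix (Fin n) (Fin n) F := l⁻¹ • (x : Matrix (Fin n) (Fin n) F) with hu
  have huu : u * u = 1 := by
    rw [hu, Matrix.smul_mul, Matrix.mul_smul, hz, smul_smul, smul_smul]
    have : l⁻¹ * l⁻¹ * (l * l) = 1 := by field_simp
    rw [this, one_smul]
  set b' := finrank F (LinearMap.ker (Matrix.toLin' u + LinearMap.id)) with hb'
  have hb'n : b' ≤ n := by
    have := Submodule.finrank_le (LinearMap.ker (Matrix.toLin' u + LinearMap.id))
    rwa [Module.finrank_fintype_fun_eq_card, Fintype.card_fin] at this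
  have hdetu : u.det = (-1) ^ b' := det_of_invol h2 u huu
  have hdetu' : u.det = (l⁻¹) ^ n := by
    rw [hu, Matrix.det_smul, hdet, mul_one, Fintype.card_fin]
  have hbe : Even b' := by
    by_contra hodd
    rw [Nat.not_even_iff_odd] at hodd
    apply hpow l⁻¹
    rw [← hdetu', hdetu, hodd.neg_one_pow]
  obtain ⟨j, hj⟩ := hbe
  have hjb : j ≤ b := by omega
  set D₁ : Fin b → F := fun k => if k.val < j then -1 else 1 with hD₁
  have hD₁sq : ∀ k, D₁ k * D₁ k = 1 := by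
    intro k
    rw [hD₁]
    by_cases hk : k.val < j
    · simp [hk]
    · simp [hk]
  have hDD : Matrix.diagonal D₁ * Matrix.diagonal D₁ = 1 := by
    rw [Matrix.diagonal_mul_diagonal, ← Matrix.diagonal_one]
    congr 1
    funext k
    exact hD₁sq k
  set K₀ : Matrix (Fin 2 × Fin b) (Fin 2 × Fin b) F :=
    (1 : Matrix (Fin 2) (Fin 2) F) ⊗ₖ Matrix.diagonal D₁ with hK₀
  have hK₀2 : K₀ * K₀ = 1 := by
    rw [hK₀, ← Matrix.mul_kronecker_mul, hDD, Matrix.one_mul, Matrix.one_kronecker_one]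
  set u' : Matrix (Fin n) (Fin n) F := K₀.submatrix e e with hu'
  have hu'u' : u' * u' = 1 := by
    rw [hu', Matrix.submatrix_mul_equiv, hK₀2, Matrix.submatrix_one_equiv]
  have hsim : Sim e u' ((1 : Matrix (Fin 2) (Fin 2) F) ⊗ₖ Matrix.diagonal D₁) :=
    ⟨1, 1, Matrix.one_mul _, Matrix.one_mul _, by rw [Matrix.one_mul, Matrix.mul_one]⟩
  have hker : finrank F (LinearMap.ker (Matrix.toLin' u' + LinearMap.id)) = b' := by
    rw [toLin'_add_id]
    have h1 := hsim.finrank_ker_of_one_kron hn (-1)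
    have h3 : u' - (-1 : F) • (1 : Matrix (Fin n) (Fin n) F) = u' + 1 := by
      rw [neg_smul, one_smul, sub_neg_eq_add]
    rw [h3, diag_sub_smul, finrank_ker_diagonal] at h1
    rw [h1, hj]
    have h4 : (Finset.univ.filter (fun k : Fin b => D₁ k - -1 = 0)) =
        Finset.univ.filter (fun k : Fin b => k.val < j) := by
      apply Finset.filter_congr
      intro k _
      rw [hD₁]
      by_cases hk : k.val < j
      · simp [hk]
      · simp only [hk, if_false, iff_false, sub_neg_eq_add]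
        intro h0
        apply h2
        linear_combination h0
    rw [h4, Fin.card_filter_val_lt, min_eq_right hjb]
    ring
  obtain ⟨g, hg⟩ := Cfsg.Agent.Lib.H13.InvolConjLin.conj_of_finrank h2 _ _ (invol_of_sq u huu)
    (invol_of_sq u' hu'u') (hb'.symm.trans hker.symm)
  obtain ⟨P₁, Pi₁, hP, hconj⟩ := mat_of_conj u u' g hg
  -- the invertible factor
  have e1 : (l • Matrix.diagonal D₁) * (l⁻¹ • Matrix.diagonal D₁) = 1 := by
    rw [Matrix.smul_mul, Matrix.mul_smul, smul_smul, hDD, mul_inv_cancel₀ hl, one_smul]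
  have e2 : (l⁻¹ • Matrix.diagonal D₁) * (l • Matrix.diagonal D₁) = 1 := by
    rw [Matrix.smul_mul, Matrix.mul_smul, smul_smul, hDD, inv_mul_cancel₀ hl, one_smul]
  set Bg : GL (Fin b) F := ⟨l • Matrix.diagonal D₁, l⁻¹ • Matrix.diagonal D₁, e1, e2⟩ with hBg
  have hn0 : 0 < n := by omega
  refine conj_mem_of_gl_conj hn0 e P x hx (l * l) (mul_ne_zero hl hl) hz 1 Bg P₁ Pi₁ hP ?_
  have hxu : (x : Matrix (Fin n) (Fin n) F) = l • u := by
    rw [hu, smul_smul, mul_inv_cancel₀ hl, one_smul]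
  have hK : ((1 : GL (Fin 2) F) : Matrix (Fin 2) (Fin 2) F) ⊗ₖ (Bg : Matrix (Fin b) (Fin b) F) =
      l • K₀ := by
    rw [hK₀, hBg, Units.val_one]
    show (1 : Matrix (Fin 2) (Fin 2) F) ⊗ₖ (l • Matrix.diagonal D₁) = _
    rw [Matrix.kronecker_smul]
  rw [hK, hxu, Matrix.mul_smul, hconj, hu']
  show l • (K₀.submatrix e e * P₁) = (l • K₀.submatrix e e) * P₁
  rw [Matrix.smul_mul]

/-- case B: the square is a non-square scalar -/
theorem conj_mem_of_nonsquare [Fintype F] (hn : n = 2 * b) (hb : 0 < b)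
    (e : Fin n ≃ Fin 2 × Fin b) (P : GL (Fin n) F)
    (x : GL (Fin n) F) (hx : x ∈ Cfsg.Geo.specialLinear (Fin n) F) (z : F) (hsq : ¬ IsSquare z)
    (hz : (x : Matrix (Fin n) (Fin n) F) * (x : Matrix (Fin n) (Fin n) F) = z • 1) :
    ∃ g ∈ Cfsg.Geo.specialLinear (Fin n) F,
      g⁻¹ * x * g ∈ Cfsg.Geo.tensorProductSubgroup 2 b e P := by
  classical
  have hz0 : z ≠ 0 := by
    rintro rfl
    exact hsq ⟨0, by simp⟩
  set A₀ : Matrix (Fin 2) (Fin 2) F := !![0, z; 1, 0] with hA₀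
  have hAA : A₀ * A₀ = z • 1 := by
    rw [hA₀]
    ext i j
    fin_cases i <;> fin_cases j <;> simp [Matrix.mul_apply, Fin.sum_univ_two]
  have e1 : A₀ * (z⁻¹ • A₀) = 1 := by
    rw [Matrix.mul_smul, hAA, smul_smul, inv_mul_cancel₀ hz0, one_smul]
  have e2 : (z⁻¹ • A₀) * A₀ = 1 := by
    rw [Matrix.smul_mul, hAA, smul_smul, inv_mul_cancel₀ hz0, one_smul]
  set Ag : GL (Fin 2) F := ⟨A₀, z⁻¹ • A₀, e1, e2⟩ with hAg
  set K₀ : Matrix (Fin 2 × Fin b) (Fin 2 × Fin b) F :=
    A₀ ⊗ₖ (1 : Matrix (Fin b) (Fin b) F) with hK₀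
  have hK₀2 : K₀ * K₀ = z • 1 := by
    rw [hK₀, ← Matrix.mul_kronecker_mul, hAA, Matrix.one_mul, Matrix.smul_kronecker,
      Matrix.one_kronecker_one]
  set x' : Matrix (Fin n) (Fin n) F := K₀.submatrix e e with hx'
  have hx'x' : x' * x' = z • 1 := by
    rw [hx', Matrix.submatrix_mul_equiv, hK₀2]
    ext i j
    simp [Matrix.one_apply]
  have ht : ∀ v, Matrix.toLin' (x : Matrix (Fin n) (Fin n) F)
      (Matrix.toLin' (x : Matrix (Fin n) (Fin n) F) v) = z • v := by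
    intro v
    rw [← LinearMap.comp_apply, ← Matrix.toLin'_mul, hz, Matrix.toLin'_apply, Matrix.smul_mulVec,
      Matrix.one_mulVec]
  have ht' : ∀ v, Matrix.toLin' x' (Matrix.toLin' x' v) = z • v := by
    intro v
    rw [← LinearMap.comp_apply, ← Matrix.toLin'_mul, hx'x', Matrix.toLin'_apply, Matrix.smul_mulVec,
      Matrix.one_mulVec]
  obtain ⟨g, hg⟩ := Cfsg.Agent.Lib.H13.InvolConjLin.conj_of_no_eigen z _ _ ht ht'
    (no_eigen z hsq _ ht) (no_eigen z hsq _ ht')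
  obtain ⟨P₁, Pi₁, hP, hconj⟩ := mat_of_conj _ x' g hg
  have hn0 : 0 < n := by omega
  refine conj_mem_of_gl_conj hn0 e P x hx z hz0 hz Ag 1 P₁ Pi₁ hP ?_
  rw [hconj, hx', hK₀, hAg, Units.val_one]

/-- every element of `SL_n` with scalar square is conjugate into the stabilizer of a tensor
decomposition `2 ⊗ b`, provided `-1` is not an `n`-th power -/
theorem conj_mem_of_sq [Fintype F] (h2 : (2 : F) ≠ 0) (hn : n = 2 * b) (hb : 0 < b)
    (hpow : ∀ μ : F, μ ^ n ≠ -1)
    (e : Fin n ≃ Fin 2 × Fin b) (P : GL (Fin n) F)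
    (x : GL (Fin n) F) (hx : x ∈ Cfsg.Geo.specialLinear (Fin n) F) (z : F)
    (hz : (x : Matrix (Fin n) (Fin n) F) * (x : Matrix (Fin n) (Fin n) F) = z • 1) :
    ∃ g ∈ Cfsg.Geo.specialLinear (Fin n) F,
      g⁻¹ * x * g ∈ Cfsg.Geo.tensorProductSubgroup 2 b e P := by
  by_cases hsq : IsSquare z
  · obtain ⟨l, rfl⟩ := hsq
    have hl : l ≠ 0 := by
      rintro rfl
      rw [mul_zero, zero_smul] at hz
      have hdet : (x : Matrix (Fin n) (Fin n) F).det = 1 :=
        (Cfsg.Agent.Lib.H28.mem_specialLinear_iff x).mp hx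
      have h1 := congrArg Matrix.det hz
      rw [Matrix.det_mul, hdet, mul_one] at h1
      have : Nonempty (Fin n) := ⟨⟨0, by omega⟩⟩
      rw [Matrix.det_zero] at h1
      exact one_ne_zero h1
    exact conj_mem_of_square h2 hn hb hpow e P x hx l hl hz
  · exact conj_mem_of_nonsquare hn hb e P x hx z hsq hz

end Cfsg.Agent.Lib.H11.TensR
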