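import Cfsg.Agent.Lib.H11.OrtR8
import Cfsg.Agent.Lib.H11.SuDec10
import Cfsg.Agent.Lib.H11.TensR6

/-!
# Orthogonal-type subgroups of `SL_n(q)`, `q` odd (part 9): every element with scalar square is
conjugate into the orthogonal-type subgroup
-/

set_option autoImplicit false
set_option linter.unusedSectionVars false
set_option linter.unusedVariables false

namespace Cfsg.Agent.Lib.H11.OrtR

open Matrix Polynomial Module Cfsg.Agent.Lib.H13
  Cfsg.Agent.Lib.H11.InvCls Cfsg.Agent.Lib.H11.SubfR Cfsg.Agent.Lib.H11.UniR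
  Cfsg.Agent.Lib.H11.PSLGraph Cfsg.Agent.Lib.H24.Elus Cfsg.Agent.Lib.H11.OmPar
  Cfsg.Agent.Lib.H11.SuDec

section diag

variable {F : Type*} [Field F] {n : ℕ} {Q : (Fin n → F) → F}

theorem Q_sum_orth' {V : Type*} [AddCommGroup V] [Module F V] (Qf : QuadraticForm F V)
    {κ : Type*} [Fintype κ] (b : κ → V)
    (hb : ∀ j j', j ≠ j' → QuadraticMap.polar (⇑Qf) (b j) (b j') = 0) (c : κ → F) :
    Qf (∑ j, c j • b j) = ∑ j, c j * c j * Qf (b j) := by
  classical
  suffices h : ∀ s : Finset κ, Qf (∑ j ∈ s, c j • b j) = ∑ j ∈ s, c j * c j * Qf (b j) from h _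
  intro s
  induction s using Finset.induction_on with
  | empty => simp
  | insert a s ha ih =>
    rw [Finset.sum_insert ha, Finset.sum_insert ha, QuadraticMap.map_add (⇑Qf), ih,
      QuadraticMap.map_smul, smul_eq_mul]
    have h0 : QuadraticMap.polar (⇑Qf) (c a • b a) (∑ j ∈ s, c j • b j) = 0 := by
      have h1 : QuadraticMap.polar (⇑Qf) (c a • b a) (∑ j ∈ s, c j • b j) =
          QuadraticMap.polarBilin Qf (c a • b a) (∑ j ∈ s, c j • b j) := rfl
      rw [h1, map_sum]
      apply Finset.sum_eq_zero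
      intro j hj
      have hne : a ≠ j := by
        rintro rfl
        exact ha hj
      rw [QuadraticMap.polarBilin_apply_apply, QuadraticMap.polar_smul_left,
        QuadraticMap.polar_smul_right, hb a j hne, smul_zero, smul_zero]
    rw [h0, add_zero]

/-- orthogonal coordinates for a nondegenerate quadratic form in odd characteristic, indexed by
any type of the right cardinality -/
theorem exists_diag_coord (hQ : Cfsg.Geo.IsNondegenerateQuadraticForm Q) (h2 : (2 : F) ≠ 0)
    (κ : Type) [Fintype κ] [DecidableEq κ] (hκ : Fintype.card κ = n) :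
    ∃ φ : (κ → F) ≃ₗ[F] (Fin n → F), ∃ w : κ → F, (∀ s, w s ≠ 0) ∧
      ∀ u, Q (φ u) = ∑ s, w s * (u s * u s) := by
  classical
  have : Invertible (2 : F) := invertibleOfNonzero h2
  set Qf := Cfsg.Agent.Lib.H29.Orth.toQF Q hQ with hQf
  have hnd := Cfsg.Agent.Lib.H29.Orth.toQF_nondegenerate Q hQ
  have hsymm : (QuadraticMap.polarBilin Qf).IsSymm := by
    refine ⟨fun x y => ?_⟩
    exact QuadraticMap.polar_comm _ _ _
  obtain ⟨v, hv⟩ := LinearMap.BilinForm.exists_orthogonal_basis hsymm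
  have hcard : Fintype.card κ = Fintype.card (Fin (finrank F (Fin n → F))) := by
    rw [hκ, Fintype.card_fin, Module.finrank_fin_fun]
  set e : κ ≃ Fin (finrank F (Fin n → F)) := Fintype.equivOfCardEq hcard with he
  set v' : Basis κ F (Fin n → F) := v.reindex e.symm with hv'
  have hv'a : ∀ s, v' s = v (e s) := by
    intro s
    rw [hv', Basis.reindex_apply, Equiv.symm_symm]
  have horth : ∀ j j', j ≠ j' → QuadraticMap.polar (⇑Qf) (v' j) (v' j') = 0 := by
    intro j j' hne
    rw [hv'a, hv'a]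
    exact (LinearMap.isOrthoᵢ_def.mp hv) (e j) (e j') (fun h => hne (e.injective h))
  refine ⟨v'.equivFun.symm, fun s => Q (v' s), ?_, ?_⟩
  · intro s hs0
    change Q (v' s) = 0 at hs0
    rw [hv'a] at hs0
    apply hv.not_isOrtho_basis_self_of_separatingLeft hnd.1 (e s)
    show QuadraticMap.polar (⇑Qf) (v (e s)) (v (e s)) = 0
    rw [QuadraticMap.polar_self, hQf]
    show 2 • Q (v (e s)) = 0
    rw [hs0, smul_zero]
  · intro u
    rw [Basis.equivFun_symm_apply]
    have := Q_sum_orth' Qf v' horth u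
    rw [hQf] at this
    rw [Cfsg.Agent.Lib.H29.Orth.toQF_apply] at this
    rw [this]
    apply Finset.sum_congr rfl
    intro s _
    rw [Cfsg.Agent.Lib.H29.Orth.toQF_apply]
    ring

end diag

section conj

variable {F : Type*} [Field F] [Fintype F] {n : ℕ} {Q : (Fin n → F) → F}

/-- the transfer lemma in coordinates -/
theorem conj_of_coord {κ : Type} [Fintype κ] [DecidableEq κ]
    (φ : (κ → F) ≃ₗ[F] (Fin n → F)) (Y : Matrix κ κ F) (c : F) (hc : c ≠ 0)
    (hY : ∀ u, Q (φ (Y *ᵥ u)) = c * Q (φ u)) (x : GL (Fin n) F)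
    (hx : x ∈ Cfsg.Geo.specialLinear (Fin n) F)
    (A Ai : Matrix (Fin n) (Fin n) F) (hA : A * Ai = 1)
    (hconj : A * (x : Matrix (Fin n) (Fin n) F) = (cmat φ * Y * cmat φ.symm) * A)
    (hcent : ∀ d : F, ∃ C : Matrix (Fin n) (Fin n) F,
      C * (x : Matrix (Fin n) (Fin n) F) = (x : Matrix (Fin n) (Fin n) F) * C ∧ C.det = d) :
    ∃ g ∈ Cfsg.Geo.specialLinear (Fin n) F, g⁻¹ * x * g ∈ Cfsg.Geo.quadSimilarityGroup Q :=
  exists_conj_mem_of_gl (Cfsg.Geo.quadSimilarityGroup Q) x hx _ A Ai hA hconj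
    (fun g hg => mem_qsim_of_coord φ Y c hc hY g hg) (hcent _)

/-- a diagonal binary form over a finite field of odd characteristic is universal -/
theorem exists_diag_eq' (h2 : (2 : F) ≠ 0) (a c : F) (ha : a ≠ 0) (hc : c ≠ 0) (t : F) :
    ∃ x y : F, a * x ^ 2 + c * y ^ 2 = t := by
  classical
  have hchar : ringChar F ≠ 2 := by
    intro h
    apply h2
    have := CharP.cast_eq_zero F (ringChar F)
    rw [h] at this
    exact_mod_cast this
  have hodd : Fintype.card F % 2 = 1 := FiniteField.odd_card_of_char_ne_two hchar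
  obtain ⟨u, w, huw⟩ := FiniteField.exists_root_sum_quadratic (R := F)
    (f := Polynomial.C a * Polynomial.X ^ 2) (g := Polynomial.C c * Polynomial.X ^ 2 - Polynomial.C t)
    (Polynomial.degree_C_mul_X_pow 2 ha)
    (by
      rw [Polynomial.degree_sub_C, Polynomial.degree_C_mul_X_pow 2 hc]
      · rfl
      · rw [Polynomial.degree_C_mul_X_pow 2 hc]; norm_num)
    hodd
  refine ⟨u, w, ?_⟩
  simp only [Polynomial.eval_mul, Polynomial.eval_C, Polynomial.eval_pow, Polynomial.eval_X,
    Polynomial.eval_sub] at huw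
  linear_combination huw

/-- the square is a square -/
theorem conj_qsim_square (hQ : Cfsg.Geo.IsNondegenerateQuadraticForm Q) (h2 : (2 : F) ≠ 0)
    (hn : 0 < n) (x : GL (Fin n) F) (hx : x ∈ Cfsg.Geo.specialLinear (Fin n) F) (l : F)
    (hl : l ≠ 0)
    (hz : (x : Matrix (Fin n) (Fin n) F) * (x : Matrix (Fin n) (Fin n) F) = (l * l) • 1) :
    ∃ g ∈ Cfsg.Geo.specialLinear (Fin n) F, g⁻¹ * x * g ∈ Cfsg.Geo.quadSimilarityGroup Q := by
  classical
  obtain ⟨φ, w, hw, hφ⟩ := exists_diag_coord hQ h2 (Fin n) (Fintype.card_fin n)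
  set u : Matrix (Fin n) (Fin n) F := l⁻¹ • (x : Matrix (Fin n) (Fin n) F) with hu
  have huu : u * u = 1 := by
    rw [hu, Matrix.smul_mul, Matrix.mul_smul, hz, smul_smul, smul_smul]
    have : l⁻¹ * l⁻¹ * (l * l) = 1 := by field_simp
    rw [this, one_smul]
  set j := finrank F (LinearMap.ker (Matrix.toLin' u + LinearMap.id)) with hj
  have hjn : j ≤ n := by
    have := Submodule.finrank_le (LinearMap.ker (Matrix.toLin' u + LinearMap.id))
    rwa [Module.finrank_fintype_fun_eq_card, Fintype.card_fin] at this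
  set d : Fin n → F := fun k => if k.val < j then -1 else 1 with hd
  have hdsq : ∀ k, d k * d k = 1 := by
    intro k
    rw [hd]
    by_cases hk : k.val < j
    · simp [hk]
    · simp [hk]
  have hDD : Matrix.diagonal d * Matrix.diagonal d = 1 := by
    rw [Matrix.diagonal_mul_diagonal, ← Matrix.diagonal_one]
    congr 1
    funext k
    exact hdsq k
  have hker : finrank F (LinearMap.ker (Matrix.toLin' (Matrix.diagonal d) + LinearMap.id)) = j := by
    rw [toLin'_add_id]
    have h3 : Matrix.diagonal d + 1 = Matrix.diagonal (fun k => d k + 1) := by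
      rw [← Matrix.diagonal_one, Matrix.diagonal_add]
    rw [h3, Cfsg.Agent.Lib.H11.TensR.finrank_ker_diagonal]
    have h4 : (Finset.univ.filter (fun k : Fin n => d k + 1 = 0)) =
        Finset.univ.filter (fun k : Fin n => k.val < j) := by
      apply Finset.filter_congr
      intro k _
      rw [hd]
      by_cases hk : k.val < j
      · simp [hk]
      · simp only [hk, if_false, iff_false]
        intro h0
        apply h2
        linear_combination h0
    rw [h4, Fin.card_filter_val_lt, min_eq_right hjn]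
  obtain ⟨g, hg⟩ := Cfsg.Agent.Lib.H13.InvolConjLin.conj_of_finrank h2 _ _ (invol_of_sq u huu)
    (invol_of_sq _ hDD) (hj.symm.trans hker.symm)
  obtain ⟨P₁, Pi₁, hP, hconj⟩ := mat_of_conj u (Matrix.diagonal d) g hg
  have hxu : (x : Matrix (Fin n) (Fin n) F) = l • u := by
    rw [hu, smul_smul, mul_inv_cancel₀ hl, one_smul]
  refine conj_of_coord φ (l • Matrix.diagonal d) (l * l) (mul_ne_zero hl hl) ?_ x hx
    (cmat φ * P₁) (Pi₁ * cmat φ.symm) ?_ ?_
    (fun dd => exists_centralizer_det hn _ (l * l) (mul_ne_zero hl hl) hz dd)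
  · intro v
    rw [hφ, hφ, Finset.mul_sum]
    apply Finset.sum_congr rfl
    intro s _
    rw [Matrix.smul_mulVec, Pi.smul_apply, Matrix.mulVec_diagonal, smul_eq_mul]
    have := hdsq s
    linear_combination (l * l * w s * (v s * v s)) * this
  · calc cmat φ * P₁ * (Pi₁ * cmat φ.symm) = cmat φ * (P₁ * Pi₁) * cmat φ.symm := by
          simp only [Matrix.mul_assoc]
      _ = 1 := by rw [hP, Matrix.mul_one, cmat_mul_symm]
  · rw [hxu]
    calc cmat φ * P₁ * (l • u) = l • (cmat φ * (P₁ * u)) := by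
          rw [Matrix.mul_smul, Matrix.mul_assoc]
      _ = l • (cmat φ * (Matrix.diagonal d * P₁)) := by rw [hconj]
      _ = cmat φ * (l • Matrix.diagonal d) * (cmat φ.symm * cmat φ) * P₁ := by
          rw [cmat_symm_mul, Matrix.mul_one, Matrix.mul_smul, Matrix.smul_mul, Matrix.mul_assoc]
      _ = cmat φ * (l • Matrix.diagonal d) * cmat φ.symm * (cmat φ * P₁) := by
          simp only [Matrix.mul_assoc]

/-- the square is a non-square scalar -/
theorem conj_qsim_nonsquare (hQ : Cfsg.Geo.IsNondegenerateQuadraticForm Q) (h2 : (2 : F) ≠ 0)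
    (hn : 0 < n) (x : GL (Fin n) F) (hx : x ∈ Cfsg.Geo.specialLinear (Fin n) F) (z : F)
    (hsq : ¬ IsSquare z)
    (hz : (x : Matrix (Fin n) (Fin n) F) * (x : Matrix (Fin n) (Fin n) F) = z • 1) :
    ∃ g ∈ Cfsg.Geo.specialLinear (Fin n) F, g⁻¹ * x * g ∈ Cfsg.Geo.quadSimilarityGroup Q := by
  classical
  have hz0 : z ≠ 0 := by
    rintro rfl
    exact hsq ⟨0, by simp⟩
  have ht : ∀ v, Matrix.toLin' (x : Matrix (Fin n) (Fin n) F)
      (Matrix.toLin' (x : Matrix (Fin n) (Fin n) F) v) = z • v := by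
    intro v
    rw [← LinearMap.comp_apply, ← Matrix.toLin'_mul, hz, Matrix.toLin'_apply, Matrix.smul_mulVec,
      Matrix.one_mulVec]
  have heven := Cfsg.Agent.Lib.H13.InvolConjLin.even_of_no_eigen z _ ht (no_eigen z hsq _ ht)
  rw [Module.finrank_fintype_fun_eq_card, Fintype.card_fin] at heven
  obtain ⟨m, hm⟩ := heven
  obtain ⟨φ, w, hw, hφ⟩ := exists_diag_coord hQ h2 (Fin m ⊕ Fin m) (by
    rw [Fintype.card_sum, Fintype.card_fin, hm])
  -- the blocks
  have hex : ∀ i : Fin m, ∃ α β : F,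
      α ^ 2 + (w (Sum.inl i) / w (Sum.inr i)) * β ^ 2 = z := by
    intro i
    obtain ⟨α, β, h⟩ := exists_diag_eq' h2 1 (w (Sum.inl i) / w (Sum.inr i)) one_ne_zero
      (div_ne_zero (hw _) (hw _)) z
    exact ⟨α, β, by rw [← h]; ring⟩
  choose α β hαβ using hex
  obtain ⟨γ, hγ⟩ : ∃ γ : Fin m → F, γ = fun i => w (Sum.inl i) * β i / w (Sum.inr i) :=
    ⟨_, rfl⟩
  have h1 : ∀ i, α i * α i + β i * γ i = z := by
    intro i
    rw [← hαβ i, hγ]
    have := hw (Sum.inr i)
    field_simp
  have h3 : ∀ i, w (Sum.inr i) * γ i = w (Sum.inl i) * β i := by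
    intro i
    rw [hγ]
    have := hw (Sum.inr i)
    field_simp
  set Y : Matrix (Fin m ⊕ Fin m) (Fin m ⊕ Fin m) F :=
    Matrix.fromBlocks (Matrix.diagonal α) (Matrix.diagonal β) (Matrix.diagonal γ)
      (Matrix.diagonal (fun i => -α i)) with hY
  have hYY : Y * Y = z • 1 := by
    rw [hY, Matrix.fromBlocks_multiply]
    simp only [Matrix.diagonal_mul_diagonal, Matrix.diagonal_add]
    rw [← Matrix.fromBlocks_one, Matrix.fromBlocks_smul]
    congr 1
    · rw [← Matrix.diagonal_one, ← Matrix.diagonal_smul]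
      congr 1
      funext i
      simp only [Pi.smul_apply, smul_eq_mul, mul_one]
      exact h1 i
    · rw [smul_zero, ← Matrix.diagonal_zero]
      congr 1
      funext i
      show α i * β i + β i * -α i = 0
      ring
    · rw [smul_zero, ← Matrix.diagonal_zero]
      congr 1
      funext i
      show γ i * α i + -α i * γ i = 0
      ring
    · rw [← Matrix.diagonal_one, ← Matrix.diagonal_smul]
      congr 1
      funext i
      simp only [Pi.smul_apply, smul_eq_mul, mul_one]
      rw [← h1 i]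
      ring
  set x' : Matrix (Fin n) (Fin n) F := cmat φ * Y * cmat φ.symm with hx'
  have hx'x' : x' * x' = z • 1 := by
    have := conj_pow φ Y 2
    rw [pow_two, pow_two, hYY, Matrix.mul_smul, Matrix.smul_mul, Matrix.mul_one,
      cmat_mul_symm] at this
    exact this
  have ht' : ∀ v, Matrix.toLin' x' (Matrix.toLin' x' v) = z • v := by
    intro v
    rw [← LinearMap.comp_apply, ← Matrix.toLin'_mul, hx'x', Matrix.toLin'_apply, Matrix.smul_mulVec,
      Matrix.one_mulVec]
  obtain ⟨g, hg⟩ := Cfsg.Agent.Lib.H13.InvolConjLin.conj_of_no_eigen z _ _ ht ht'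
    (no_eigen z hsq _ ht) (no_eigen z hsq _ ht')
  obtain ⟨P₁, Pi₁, hP, hconj⟩ := mat_of_conj _ x' g hg
  refine conj_of_coord φ Y z hz0 ?_ x hx P₁ Pi₁ hP hconj
    (fun dd => exists_centralizer_det hn _ z hz0 hz dd)
  intro v
  rw [hφ, hφ, Fintype.sum_sum_type, Fintype.sum_sum_type, mul_add, Finset.mul_sum, Finset.mul_sum,
    ← Finset.sum_add_distrib, ← Finset.sum_add_distrib]
  apply Finset.sum_congr rfl
  intro i _
  have e1 : (Y *ᵥ v) (Sum.inl i) = α i * v (Sum.inl i) + β i * v (Sum.inr i) := by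
    rw [hY, Matrix.fromBlocks_mulVec, Sum.elim_inl, Pi.add_apply, Matrix.mulVec_diagonal,
      Matrix.mulVec_diagonal]
    rfl
  have e2 : (Y *ᵥ v) (Sum.inr i) = γ i * v (Sum.inl i) + (-α i) * v (Sum.inr i) := by
    rw [hY, Matrix.fromBlocks_mulVec, Sum.elim_inr, Pi.add_apply, Matrix.mulVec_diagonal,
      Matrix.mulVec_diagonal]
    rfl
  rw [e1, e2]
  have ha := h1 i
  have hb := h3 i
  linear_combination (w (Sum.inl i) * (v (Sum.inl i) * v (Sum.inl i)) +
    w (Sum.inr i) * (v (Sum.inr i) * v (Sum.inr i))) * ha +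
    (γ i * (v (Sum.inl i) * v (Sum.inl i)) - 2 * α i * v (Sum.inl i) * v (Sum.inr i) -
      β i * (v (Sum.inr i) * v (Sum.inr i))) * hb

/-- every element of `SL_n` with scalar square is conjugate into the orthogonal-type subgroup -/
theorem conj_qsim_two (hQ : Cfsg.Geo.IsNondegenerateQuadraticForm Q) (h2 : (2 : F) ≠ 0)
    (hn : 0 < n) (x : GL (Fin n) F) (hx : x ∈ Cfsg.Geo.specialLinear (Fin n) F) (z : F)
    (hz : (x : Matrix (Fin n) (Fin n) F) * (x : Matrix (Fin n) (Fin n) F) = z • 1) :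
    ∃ g ∈ Cfsg.Geo.specialLinear (Fin n) F, g⁻¹ * x * g ∈ Cfsg.Geo.quadSimilarityGroup Q := by
  by_cases hsq : IsSquare z
  · obtain ⟨l, rfl⟩ := hsq
    have hl : l ≠ 0 := by
      rintro rfl
      rw [mul_zero, zero_smul] at hz
      have hdet : (x : Matrix (Fin n) (Fin n) F).det = 1 :=
        (Cfsg.Agent.Lib.H28.mem_specialLinear_iff x).mp hx
      have h1 := congrArg Matrix.det hz
      rw [Matrix.det_mul, hdet, mul_one] at h1
      have : Nonempty (Fin n) := ⟨⟨0, hn⟩⟩
      rw [Matrix.det_zero] at h1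
      exact one_ne_zero h1
    exact conj_qsim_square hQ h2 hn x hx l hl hz
  · exact conj_qsim_nonsquare hQ h2 hn x hx z hsq hz

end conj

end Cfsg.Agent.Lib.H11.OrtR
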