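import Mathlib
import Cfsg.Agent.Lib.H11.HermNorm5

set_option autoImplicit false

/-!
# Commutative algebra for conjugacy of odd-order semisimple orthogonal elements
-/

namespace Cfsg.Agent.Lib.H11.OrthConj

open Cfsg.Agent.Lib.H11.HermNorm

section comm

variable {R : Type*} [CommRing R]

/-- the geometric sum `1 + a + ... + a^(m-1)` -/
def gsum (m : ℕ) (a : R) : R := ∑ i ∈ Finset.range m, a ^ i

theorem gsum_mul_self (m : ℕ) (a : R) (ham : a ^ m = 1) : gsum m a * a = gsum m a := by
  have := geom_sum_mul a m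
  rw [ham, sub_self] at this
  unfold gsum
  linear_combination this

theorem gsum_mul_pow (m : ℕ) (a : R) (ham : a ^ m = 1) (i : ℕ) : gsum m a * a ^ i = gsum m a := by
  induction i with
  | zero => rw [pow_zero, mul_one]
  | succ i ih => rw [pow_succ, ← mul_assoc, ih, gsum_mul_self m a ham]

theorem gsum_sq (m : ℕ) (a : R) (ham : a ^ m = 1) : gsum m a * gsum m a = (m : R) * gsum m a := by
  have h1 : gsum m a * gsum m a = ∑ i ∈ Finset.range m, gsum m a * a ^ i := by
    conv_lhs => rw [show gsum m a * gsum m a = gsum m a * ∑ i ∈ Finset.range m, a ^ i from rfl]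
    rw [Finset.mul_sum]
  rw [h1, Finset.sum_congr rfl (fun i _ => gsum_mul_pow m a ham i), Finset.sum_const,
    Finset.card_range, nsmul_eq_mul]

/-- `P = m⁻¹ (1 + a + ... + a^(m-1))` is idempotent. -/
theorem avg_mul_avg (m : ℕ) (mi : R) (hmi : (m : R) * mi = 1) (a : R) (ham : a ^ m = 1) :
    (mi * gsum m a) * (mi * gsum m a) = mi * gsum m a := by
  have h := gsum_sq m a ham
  linear_combination (mi * mi) * h + (mi * gsum m a) * hmi

theorem mul_avg (m : ℕ) (mi : R) (a : R) (ham : a ^ m = 1) :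
    a * (mi * gsum m a) = mi * gsum m a := by
  have h := gsum_mul_self m a ham
  linear_combination mi * h

theorem gsum_mul_avg (m : ℕ) (mi : R) (hmi : (m : R) * mi = 1) (a : R) (ham : a ^ m = 1) :
    gsum m a * (mi * gsum m a) = gsum m a := by
  have h := gsum_sq m a ham
  linear_combination mi * h + (gsum m a) * hmi

theorem exists_inv_sub_one (m : ℕ) (mi : R) (hmi : (m : R) * mi = 1) (a : R) :
    ∃ y : R, (a - 1) * y = 1 - mi * gsum m a := by
  let Φ : Polynomial R := ∑ i ∈ Finset.range m, Polynomial.X ^ i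
  have hΦ1 : Φ.eval 1 = (m : R) := by simp [Φ, Polynomial.eval_finsetSum]
  obtain ⟨q, hq⟩ := Polynomial.X_sub_C_dvd_sub_C_eval (a := (1 : R)) (p := Φ)
  have h := congrArg (Polynomial.eval a) hq
  rw [hΦ1] at h
  simp only [Polynomial.eval_sub, Polynomial.eval_mul, Polynomial.eval_X, Polynomial.eval_C,
    Polynomial.eval_finsetSum, Polynomial.eval_pow, Φ, Polynomial.eval_natCast, map_natCast] at h
  have h' : gsum m a - (m : R) = (a - 1) * Polynomial.eval a q := h
  refine ⟨-(mi * Polynomial.eval a q), ?_⟩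
  linear_combination mi * h' + hmi

theorem exists_inv_add_one (m : ℕ) (hodd : Odd m) (mi : R) (hmi : (m : R) * mi = 1) (a : R)
    (ham : a ^ m = 1) :
    ∃ y : R, (a + 1) * y = 1 - mi * gsum m a := by
  let Φ : Polynomial R := ∑ i ∈ Finset.range m, Polynomial.X ^ i
  have hΦ1 : Φ.eval (-1) = (1 : R) := by
    simp only [Φ, Polynomial.eval_finsetSum, Polynomial.eval_pow, Polynomial.eval_X]
    rw [neg_one_geom_sum, if_neg (Nat.not_even_iff_odd.mpr hodd)]
  obtain ⟨q, hq⟩ := Polynomial.X_sub_C_dvd_sub_C_eval (a := (-1 : R)) (p := Φ)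
  have h := congrArg (Polynomial.eval a) hq
  rw [hΦ1] at h
  simp only [Polynomial.eval_sub, Polynomial.eval_mul, Polynomial.eval_X, Polynomial.eval_C,
    Polynomial.eval_finsetSum, Polynomial.eval_pow, Φ, map_neg, map_one, Polynomial.eval_neg,
    Polynomial.eval_one, sub_neg_eq_add, Polynomial.eval_add] at h
  have h' : gsum m a - 1 = (a + 1) * Polynomial.eval a q := h
  refine ⟨-(Polynomial.eval a q) * (1 - mi * gsum m a), ?_⟩
  have h2 := gsum_mul_avg m mi hmi a ham
  linear_combination (1 - mi * gsum m a) * h' + h2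

theorem exists_inv_sub_inv (m : ℕ) (hodd : Odd m) (mi : R) (hmi : (m : R) * mi = 1) (a ai : R)
    (hai : a * ai = 1) (ham : a ^ m = 1) :
    ∃ d : R, (a - ai) * d = 1 - mi * gsum m a := by
  obtain ⟨y₁, hy₁⟩ := exists_inv_sub_one m mi hmi a
  obtain ⟨y₂, hy₂⟩ := exists_inv_add_one m hodd mi hmi a ham
  have hPP := avg_mul_avg m mi hmi a ham
  refine ⟨a * y₁ * y₂, ?_⟩
  have e : (a - ai) * (a * y₁ * y₂) = ((a - 1) * y₁) * ((a + 1) * y₂) + (1 - a * ai) * (y₁ * y₂) := by
    ring
  rw [e, hy₁, hy₂, hai]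
  linear_combination hPP

/-- The averaging idempotent is fixed by any involution inverting `a`. -/
theorem map_avg (σ : R →+* R) (m : ℕ) (mi : R) (hmi : (m : R) * mi = 1) (a ai : R)
    (hai : a * ai = 1) (ham : a ^ m = 1) (hσa : σ a = ai) :
    σ (mi * gsum m a) = mi * gsum m a := by
  obtain ⟨y, hy⟩ := exists_inv_sub_one m mi hmi a
  set P := mi * gsum m a with hP
  have h1 : a * P = P := mul_avg m mi a ham
  have h1' : ai * P = P := by
    calc ai * P = ai * (a * P) := by rw [h1]
      _ = (a * ai) * P := by ring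
      _ = P := by rw [hai, one_mul]
  have h2 : ai * σ P = σ P := by
    have := congrArg σ h1
    rw [map_mul, hσa] at this
    exact this
  have h2' : a * σ P = σ P := by
    calc a * σ P = a * (ai * σ P) := by rw [h2]
      _ = (a * ai) * σ P := by ring
      _ = σ P := by rw [hai, one_mul]
  have h3 : (ai - 1) * σ y = 1 - σ P := by
    have := congrArg σ hy
    rw [map_mul, map_sub, map_sub, hσa, map_one] at this
    exact this
  have e1 : P * (1 - σ P) = 0 := by
    rw [← h3]
    linear_combination (σ y) * h1'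
  have e2 : σ P * (1 - P) = 0 := by
    rw [← hy]
    linear_combination y * h2'
  linear_combination e2 - e1

end comm

section quot

variable {R : Type*} [CommRing R] [Finite R]

/-- Norm surjectivity modulo a fixed idempotent. -/
theorem exists_norm_mod_idem (σ : R →+* R) (hσ : ∀ x, σ (σ x) = x) (P : R) (hPP : P * P = P)
    (hσP : σ P = P) (lam d : R) (hlam : (lam - σ lam) * d = 1 - P) (h hi : R) (hfix : σ h = h)
    (hfixi : σ hi = hi) (h1 : h * hi = 1) :
    ∃ c ci : R, c * ci = 1 ∧ σ ci * h * ci * (1 - P) = 1 - P := by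
  let I : Ideal R := Ideal.span {P}
  have hI : I ≤ I.comap σ := by
    rw [Ideal.span_le, Set.singleton_subset_iff]
    change σ P ∈ I
    rw [hσP]
    exact Ideal.mem_span_singleton_self P
  let σq : R ⧸ I →+* R ⧸ I := Ideal.quotientMap I σ hI
  have hσq : ∀ x : R, σq (Ideal.Quotient.mk I x) = Ideal.Quotient.mk I (σ x) := fun x =>
    Ideal.quotientMap_mk
  have hσq2 : ∀ x, σq (σq x) = x := by
    intro x
    obtain ⟨x, rfl⟩ := Ideal.Quotient.mk_surjective x
    rw [hσq, hσq, hσ]
  have hP0 : Ideal.Quotient.mk I P = 0 :=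
    Ideal.Quotient.eq_zero_iff_mem.mpr (Ideal.mem_span_singleton_self P)
  have hlamq : IsUnit (Ideal.Quotient.mk I lam - σq (Ideal.Quotient.mk I lam)) := by
    refine IsUnit.of_mul_eq_one (Ideal.Quotient.mk I d) ?_
    rw [hσq, ← map_sub, ← map_mul, hlam, map_sub, hP0, sub_zero, map_one]
  have : Finite (R ⧸ I) := Finite.of_surjective _ Ideal.Quotient.mk_surjective
  obtain ⟨zq, hzq⟩ := exists_norm_eq σq hσq2 (Ideal.Quotient.mk I lam) hlamq
    (Ideal.Quotient.mk I h) (Ideal.Quotient.mk I hi) (by rw [hσq, hfix])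
    (by rw [← map_mul, h1, map_one])
  obtain ⟨z, rfl⟩ := Ideal.Quotient.mk_surjective zq
  rw [hσq, ← map_mul, Ideal.Quotient.eq, Ideal.mem_span_singleton'] at hzq
  obtain ⟨r, hr⟩ := hzq
  -- `hr : r * P = z * σ z - h`
  obtain ⟨e, he_def⟩ : ∃ e : R, e = 1 - P := ⟨_, rfl⟩
  rw [← he_def]
  have he : e * e = e := by rw [he_def]; linear_combination hPP
  have hPe : P * e = 0 := by rw [he_def]; linear_combination -hPP
  have heP : e + P = 1 := by rw [he_def]; ring
  have key : e * (z * σ z) = e * h := by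
    rw [he_def]
    linear_combination -(1 - P) * hr - r * hPP
  refine ⟨e * z + P, e * (σ z * hi) + P, ?_, ?_⟩
  · have e1 : (e * z + P) * (e * (σ z * hi) + P) = e + P := by
      linear_combination (z * σ z * hi) * he + (z + σ z * hi) * hPe + hi * key + e * h1 + hPP
    rw [e1, heP]
  · rw [map_add, map_mul, hσP, map_mul, hσ, hfixi]
    have hσe : σ e = e := by rw [he_def, map_sub, map_one, hσP]
    rw [hσe]
    have e1 : (e * (σ z * hi) + P) * e = e * (σ z * hi) := by
      linear_combination (σ z * hi) * he + hPe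
    rw [mul_assoc, e1]
    linear_combination (z * hi * h * σ z * hi) * he + (h * σ z * hi) * hPe +
      (hi * hi * h) * key + e * (h * hi + 1) * h1

end quot

end Cfsg.Agent.Lib.H11.OrthConj
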