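import Mathlib
import Cfsg.Agent.Lib.H11.OrthConj1

set_option autoImplicit false

/-!
# The adjoint involution on the double centralizer of a commuting pair of matrices
-/

namespace Cfsg.Agent.Lib.H11.OrthConj

open Matrix

variable {F : Type*} [Field F] {n : ℕ}

local notation "Mn" => Matrix (Fin n) (Fin n) F

/-- adjoint with respect to the Gram matrix `M` (with inverse `Mi`) -/
def adj (M Mi X : Mn) : Mn := Mi * Xᵀ * M

theorem adj_add (M Mi X Y : Mn) : adj M Mi (X + Y) = adj M Mi X + adj M Mi Y := by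
  unfold adj
  rw [Matrix.transpose_add, Matrix.mul_add, Matrix.add_mul]

theorem adj_zero (M Mi : Mn) : adj M Mi 0 = 0 := by
  unfold adj
  rw [Matrix.transpose_zero, Matrix.mul_zero, Matrix.zero_mul]

theorem adj_one (M Mi : Mn) (hM2 : Mi * M = 1) : adj M Mi 1 = 1 := by
  unfold adj
  rw [Matrix.transpose_one, Matrix.mul_one, hM2]

theorem adj_smul (M Mi : Mn) (c : F) (X : Mn) : adj M Mi (c • X) = c • adj M Mi X := by
  unfold adj
  rw [Matrix.transpose_smul, Matrix.mul_smul, Matrix.smul_mul]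

theorem adj_mul (M Mi : Mn) (hM1 : M * Mi = 1) (X Y : Mn) :
    adj M Mi (X * Y) = adj M Mi Y * adj M Mi X := by
  unfold adj
  rw [Matrix.transpose_mul]
  calc Mi * (Yᵀ * Xᵀ) * M = Mi * Yᵀ * (1 : Mn) * Xᵀ * M := by
        rw [Matrix.mul_one]; simp only [Matrix.mul_assoc]
    _ = Mi * Yᵀ * M * (Mi * Xᵀ * M) := by rw [← hM1]; simp only [Matrix.mul_assoc]

theorem adj_adj (M Mi : Mn) (hM1 : M * Mi = 1) (hM2 : Mi * M = 1) (hMs : Mᵀ = M) (X : Mn) :
    adj M Mi (adj M Mi X) = X := by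
  unfold adj
  have h3 : Miᵀ * M = 1 := by
    have := congrArg Matrix.transpose hM1
    rw [Matrix.transpose_mul, Matrix.transpose_one, hMs] at this
    exact this
  rw [Matrix.transpose_mul, Matrix.transpose_mul, Matrix.transpose_transpose, hMs]
  calc Mi * (M * (X * Miᵀ)) * M = (Mi * M) * X * (Miᵀ * M) := by simp only [Matrix.mul_assoc]
    _ = X := by rw [hM2, h3, Matrix.one_mul, Matrix.mul_one]

/-- commuting with `A` is the same as commuting with its inverse -/
theorem comm_inv_of_comm (A Ai w : Mn) (hA1 : A * Ai = 1) (hA2 : Ai * A = 1) (h : w * A = A * w) :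
    w * Ai = Ai * w := by
  calc w * Ai = (Ai * A) * w * Ai := by rw [hA2, Matrix.one_mul]
    _ = Ai * (A * w) * Ai := by simp only [Matrix.mul_assoc]
    _ = Ai * (w * A) * Ai := by rw [h]
    _ = Ai * w * (A * Ai) := by simp only [Matrix.mul_assoc]
    _ = Ai * w := by rw [hA1, Matrix.mul_one]

/-- The double centralizer of the pair `A`, `H` (inside their common centralizer). -/
def dcen2 (A H : Mn) : Subring Mn where
  carrier := {z | z * A = A * z ∧ z * H = H * z ∧
    ∀ w : Mn, w * A = A * w → w * H = H * w → z * w = w * z}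
  mul_mem' := by
    rintro a b ⟨ha1, ha2, ha3⟩ ⟨hb1, hb2, hb3⟩
    refine ⟨?_, ?_, ?_⟩
    · rw [Matrix.mul_assoc, hb1, ← Matrix.mul_assoc, ha1, Matrix.mul_assoc]
    · rw [Matrix.mul_assoc, hb2, ← Matrix.mul_assoc, ha2, Matrix.mul_assoc]
    · intro w hw1 hw2
      rw [Matrix.mul_assoc, hb3 w hw1 hw2, ← Matrix.mul_assoc, ha3 w hw1 hw2, Matrix.mul_assoc]
  one_mem' := by
    refine ⟨?_, ?_, fun w _ _ => ?_⟩ <;> rw [Matrix.one_mul, Matrix.mul_one]
  add_mem' := by
    rintro a b ⟨ha1, ha2, ha3⟩ ⟨hb1, hb2, hb3⟩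
    refine ⟨?_, ?_, ?_⟩
    · rw [Matrix.add_mul, Matrix.mul_add, ha1, hb1]
    · rw [Matrix.add_mul, Matrix.mul_add, ha2, hb2]
    · intro w hw1 hw2
      rw [Matrix.add_mul, Matrix.mul_add, ha3 w hw1 hw2, hb3 w hw1 hw2]
  zero_mem' := by
    refine ⟨?_, ?_, fun w _ _ => ?_⟩ <;> rw [Matrix.zero_mul, Matrix.mul_zero]
  neg_mem' := by
    rintro a ⟨ha1, ha2, ha3⟩
    refine ⟨?_, ?_, ?_⟩
    · rw [Matrix.neg_mul, Matrix.mul_neg, ha1]
    · rw [Matrix.neg_mul, Matrix.mul_neg, ha2]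
    · intro w hw1 hw2
      rw [Matrix.neg_mul, Matrix.mul_neg, ha3 w hw1 hw2]

theorem dcen2_comm (A H : Mn) (z₁ z₂ : dcen2 A H) : z₁ * z₂ = z₂ * z₁ := by
  apply Subtype.ext
  exact z₁.2.2.2 z₂.1 z₂.2.1 z₂.2.2.1

instance (A H : Mn) : CommRing (dcen2 A H) :=
  { (dcen2 A H).toRing with mul_comm := dcen2_comm A H }

instance (A H : Mn) [Finite F] : Finite (dcen2 A H) :=
  Finite.of_injective (fun X => (X : Mn)) Subtype.val_injective

/-- the inclusion as a ring homomorphism (for the `CommRing` structure above) -/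
def dval (A H : Mn) : dcen2 A H →+* Mn where
  toFun := fun z => z.1
  map_one' := rfl
  map_mul' := fun _ _ => rfl
  map_zero' := rfl
  map_add' := fun _ _ => rfl

theorem dval_apply (A H : Mn) (z : dcen2 A H) : dval A H z = z.1 := rfl

theorem dval_injective (A H : Mn) : Function.Injective (dval A H) := Subtype.val_injective

theorem smul_one_mem_dcen2 (A H : Mn) (c : F) : c • (1 : Mn) ∈ dcen2 A H := by
  refine ⟨?_, ?_, fun w _ _ => ?_⟩ <;>
    rw [Matrix.smul_mul, Matrix.one_mul, Matrix.mul_smul, Matrix.mul_one]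

theorem adj_mem_dcen2 (M Mi A Ai H : Mn) (hM1 : M * Mi = 1) (hM2 : Mi * M = 1) (hMs : Mᵀ = M)
    (hA1 : A * Ai = 1) (hA2 : Ai * A = 1) (hadjA : adj M Mi A = Ai) (hadjH : adj M Mi H = H)
    (z : Mn) (hz : z ∈ dcen2 A H) : adj M Mi z ∈ dcen2 A H := by
  obtain ⟨hz1, hz2, hz3⟩ := hz
  have hadjAi : adj M Mi Ai = A := by rw [← hadjA, adj_adj M Mi hM1 hM2 hMs]
  -- if `w` commutes with `A` and `H` then so does `adj w`
  have key : ∀ w : Mn, w * A = A * w → w * H = H * w →
      adj M Mi w * A = A * adj M Mi w ∧ adj M Mi w * H = H * adj M Mi w := by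
    intro w hw1 hw2
    have hw1' := comm_inv_of_comm A Ai w hA1 hA2 hw1
    constructor
    · have := congrArg (adj M Mi) hw1'
      rw [adj_mul M Mi hM1, adj_mul M Mi hM1, hadjAi] at this
      exact this.symm
    · have := congrArg (adj M Mi) hw2
      rw [adj_mul M Mi hM1, adj_mul M Mi hM1, hadjH] at this
      exact this.symm
  refine ⟨(key z hz1 hz2).1, (key z hz1 hz2).2, ?_⟩
  intro w hw1 hw2
  obtain ⟨k1, k2⟩ := key w hw1 hw2
  have h := hz3 (adj M Mi w) k1 k2
  have := congrArg (adj M Mi) h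
  rw [adj_mul M Mi hM1, adj_mul M Mi hM1, adj_adj M Mi hM1 hM2 hMs] at this
  exact this.symm

/-- **Partial norm lemma.**  For `A` of odd order `m` inverted by the adjoint involution and a
self-adjoint invertible `H` commuting with `A`, there is an invertible `C` commuting with `A` such
that `H` agrees with `C* C` on the image of `A - 1`. -/
theorem exists_partial_norm [Finite F] (M Mi A Ai H Hi : Mn) (hM1 : M * Mi = 1) (hM2 : Mi * M = 1)
    (hMs : Mᵀ = M) (hA1 : A * Ai = 1) (hA2 : Ai * A = 1) (hadjA : adj M Mi A = Ai)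
    (m : ℕ) (hodd : Odd m) (hmF : (m : F) ≠ 0) (hAm : A ^ m = 1)
    (hH1 : H * Hi = 1) (hH2 : Hi * H = 1) (hadjH : adj M Mi H = H) (hHA : H * A = A * H) :
    ∃ C Ci y : Mn, C * Ci = 1 ∧ Ci * C = 1 ∧ Ci * A = A * Ci ∧
      adj M Mi Ci * H * Ci * (1 - (m : F)⁻¹ • ∑ i ∈ Finset.range m, A ^ i) =
        1 - (m : F)⁻¹ • ∑ i ∈ Finset.range m, A ^ i ∧
      adj M Mi (1 - (m : F)⁻¹ • ∑ i ∈ Finset.range m, A ^ i) =
        1 - (m : F)⁻¹ • ∑ i ∈ Finset.range m, A ^ i ∧
      (A - 1) * y = 1 - (m : F)⁻¹ • ∑ i ∈ Finset.range m, A ^ i := by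
  have hadjAi : adj M Mi Ai = A := by rw [← hadjA, adj_adj M Mi hM1 hM2 hMs]
  have hHAi : H * Ai = Ai * H := comm_inv_of_comm A Ai H hA1 hA2 hHA
  have hAHi : A * Hi = Hi * A := comm_inv_of_comm H Hi A hH1 hH2 hHA.symm
  have hAiHi : Ai * Hi = Hi * Ai := comm_inv_of_comm H Hi Ai hH1 hH2 hHAi.symm
  have hadjHi : adj M Mi Hi = Hi := by
    have e : adj M Mi Hi * H = 1 := by
      have := congrArg (adj M Mi) hH1
      rw [adj_mul M Mi hM1, hadjH, adj_one M Mi hM2] at this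
      exact this
    calc adj M Mi Hi = adj M Mi Hi * (H * Hi) := by rw [hH1, Matrix.mul_one]
      _ = (adj M Mi Hi * H) * Hi := by rw [Matrix.mul_assoc]
      _ = Hi := by rw [e, Matrix.one_mul]
  let R := dcen2 A H
  let σR : R →+* R :=
    { toFun := fun z => ⟨adj M Mi z.1,
        adj_mem_dcen2 M Mi A Ai H hM1 hM2 hMs hA1 hA2 hadjA hadjH z.1 z.2⟩
      map_one' := Subtype.ext (adj_one M Mi hM2)
      map_mul' := fun a b => by
        apply Subtype.ext
        change adj M Mi (a.1 * b.1) = adj M Mi a.1 * adj M Mi b.1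
        rw [adj_mul M Mi hM1]
        have hb := adj_mem_dcen2 M Mi A Ai H hM1 hM2 hMs hA1 hA2 hadjA hadjH b.1 b.2
        have ha := adj_mem_dcen2 M Mi A Ai H hM1 hM2 hMs hA1 hA2 hadjA hadjH a.1 a.2
        exact hb.2.2 _ ha.1 ha.2.1
      map_zero' := Subtype.ext (adj_zero M Mi)
      map_add' := fun a b => Subtype.ext (adj_add M Mi a.1 b.1) }
  have hσR : ∀ z : R, σR (σR z) = z := fun z => Subtype.ext (adj_adj M Mi hM1 hM2 hMs z.1)
  have hσval : ∀ z : R, dval A H (σR z) = adj M Mi (dval A H z) := fun z => rfl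
  let aR : R := ⟨A, rfl, hHA.symm, fun w hw _ => hw.symm⟩
  let aiR : R := ⟨Ai, by rw [hA1, hA2], hHAi.symm, fun w hw _ =>
    (comm_inv_of_comm A Ai w hA1 hA2 hw).symm⟩
  let hR : R := ⟨H, hHA, rfl, fun w _ hw => hw.symm⟩
  let hiR : R := ⟨Hi, hAHi.symm, by rw [hH1, hH2], fun w _ hw =>
    (comm_inv_of_comm H Hi w hH1 hH2 hw).symm⟩
  let miR : R := ⟨(m : F)⁻¹ • 1, smul_one_mem_dcen2 A H _⟩
  have hmi : (m : R) * miR = 1 := by
    apply dval_injective
    rw [map_mul, map_natCast, map_one]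
    change (m : Mn) * ((m : F)⁻¹ • (1 : Mn)) = 1
    rw [Matrix.mul_smul, Matrix.mul_one, ← map_natCast (algebraMap F Mn),
      Algebra.algebraMap_eq_smul_one, smul_smul, inv_mul_cancel₀ hmF, one_smul]
  have hai : aR * aiR = 1 := Subtype.ext hA1
  have ham : aR ^ m = 1 := by
    apply dval_injective
    rw [map_pow, map_one]
    exact hAm
  have hσa : σR aR = aiR := Subtype.ext hadjA
  have hPP := avg_mul_avg m miR hmi aR ham
  have hσP := map_avg σR m miR hmi aR aiR hai ham hσa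
  obtain ⟨d, hd⟩ := exists_inv_sub_inv m hodd miR hmi aR aiR hai ham
  have hlam : (aR - σR aR) * d = 1 - miR * gsum m aR := by rw [hσa]; exact hd
  obtain ⟨c, ci, hc1, hc2⟩ := exists_norm_mod_idem σR hσR (miR * gsum m aR) hPP hσP aR d hlam
    hR hiR (Subtype.ext hadjH) (Subtype.ext hadjHi) (Subtype.ext hH1)
  have hPval : dval A H (miR * gsum m aR) = (m : F)⁻¹ • ∑ i ∈ Finset.range m, A ^ i := by
    rw [map_mul]
    unfold gsum
    rw [map_sum]
    simp only [map_pow]
    change ((m : F)⁻¹ • (1 : Mn)) * ∑ i ∈ Finset.range m, A ^ i = _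
    rw [Matrix.smul_mul, Matrix.one_mul]
  have h1 : c.1 * ci.1 = 1 := congrArg Subtype.val hc1
  obtain ⟨y, hy⟩ := exists_inv_sub_one m miR hmi aR
  refine ⟨c.1, ci.1, y.1, h1, mul_eq_one_comm.mp h1, ci.2.1, ?_, ?_, ?_⟩
  · have := congrArg (dval A H) hc2
    rw [map_mul, map_mul, map_mul, map_sub, map_one, hPval, hσval] at this
    exact this
  · have := congrArg (dval A H) hσP
    rw [hσval, hPval] at this
    rw [sub_eq_add_neg, adj_add, adj_one M Mi hM2, ← neg_one_smul F, adj_smul, this,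
      neg_one_smul, ← sub_eq_add_neg]
  · have := congrArg (dval A H) hy
    rw [map_mul, map_sub, map_sub, map_one, hPval] at this
    exact this

end Cfsg.Agent.Lib.H11.OrthConj
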