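import Cfsg.Agent.Lib.H11.ReflClass
import Cfsg.Agent.S0794
import Cfsg.Agent.Lib.H13.Witt

/-!
`Ω(Q)` is generated by Siegel transformations (`q` odd, `n ≥ 5`).
-/

set_option autoImplicit false
set_option linter.unusedSimpArgs false

namespace Cfsg.Agent.Lib.H11.SiegelGen

open Matrix
open scoped MatrixGroups commutatorElement
open Cfsg.Agent.Lib.H11.CD Cfsg.Agent.Lib.H11.SpinSign Cfsg.Agent.Lib.H11.ReflClass

variable {F : Type*} [Field F] {n : ℕ} (Q : QuadraticForm F (Fin n → F))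

/-- the Siegel transformation as an element of the isometry group -/
noncomputable def siegEl (u y : Fin n → F) (hu : Q u = 0) (hy : Q y = 0)
    (huy : QuadraticMap.polar (⇑Q) u y = 0) (t : F) : ↥(Cfsg.isometryGroup F ⇑Q) :=
  ⟨⟨Cfsg.siegelMatrix (⇑Q) u y t, Cfsg.siegelMatrix (⇑Q) u y (-t),
      by rw [Cfsg.Agent.S0794.siegel_mul Q u y hu hy huy, add_neg_cancel,
        Cfsg.Agent.S0794.siegel_zero],
      by rw [Cfsg.Agent.S0794.siegel_mul Q u y hu hy huy, neg_add_cancel,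
        Cfsg.Agent.S0794.siegel_zero]⟩,
    (Cfsg.Agent.S0785.mem_isometryGroup_iff (⇑Q) _).2
      (fun x => Cfsg.Agent.S0794.siegel_Q Q u y hu hy huy t x)⟩

theorem siegEl_val (u y : Fin n → F) (hu : Q u = 0) (hy : Q y = 0)
    (huy : QuadraticMap.polar (⇑Q) u y = 0) (t : F) :
    (((siegEl Q u y hu hy huy t : ↥(Cfsg.isometryGroup F ⇑Q)) : GL (Fin n) F) :
      Matrix (Fin n) (Fin n) F) = Cfsg.siegelMatrix (⇑Q) u y t := rfl

theorem siegEl_act (u y : Fin n → F) (hu : Q u = 0) (hy : Q y = 0)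
    (huy : QuadraticMap.polar (⇑Q) u y = 0) (t : F) (x : Fin n → F) :
    act Q (siegEl Q u y hu hy huy t) x =
      x + (t * QuadraticMap.polar (⇑Q) u x) • y - (t * QuadraticMap.polar (⇑Q) y x) • u := by
  rw [act, siegEl_val, Cfsg.Agent.Lib.H4.siegelMatrix_mulVec]

/-- the generating set -/
def gensS : Set ↥(Cfsg.isometryGroup F ⇑Q) :=
  {g | ∃ (u v : Fin n → F) (c : F), Q u = 0 ∧ Q v = 0 ∧ QuadraticMap.polar (⇑Q) u v = 0 ∧
    ((g : GL (Fin n) F) : Matrix (Fin n) (Fin n) F) = Cfsg.siegelMatrix (⇑Q) u v c}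

/-- the subgroup generated by the Siegel transformations -/
def S : Subgroup ↥(Cfsg.isometryGroup F ⇑Q) := Subgroup.closure (gensS Q)

theorem siegEl_mem (u y : Fin n → F) (hu : Q u = 0) (hy : Q y = 0)
    (huy : QuadraticMap.polar (⇑Q) u y = 0) (t : F) : siegEl Q u y hu hy huy t ∈ S Q :=
  Subgroup.subset_closure ⟨u, y, t, hu, hy, huy, rfl⟩

theorem conj_mem_gensS (g s : ↥(Cfsg.isometryGroup F ⇑Q)) (hs : s ∈ gensS Q) :
    g * s * g⁻¹ ∈ gensS Q := by
  obtain ⟨u, v, c, hu, hv, huv, hs⟩ := hs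
  refine ⟨act Q g u, act Q g v, c, by rw [Q_act, hu], by rw [Q_act, hv],
    by rw [polar_act, huv], ?_⟩
  have h1 := Cfsg.Agent.S0794.siegel_conj Q u v ((g : GL (Fin n) F) : Matrix (Fin n) (Fin n) F)
    (fun x => Q_act Q g x) c
  have h3 : (((g * s * g⁻¹ : ↥(Cfsg.isometryGroup F ⇑Q)) : GL (Fin n) F) :
      Matrix (Fin n) (Fin n) F) =
      ((g : GL (Fin n) F) : Matrix (Fin n) (Fin n) F) * Cfsg.siegelMatrix (⇑Q) u v c *
        (((g⁻¹ : ↥(Cfsg.isometryGroup F ⇑Q)) : GL (Fin n) F) : Matrix (Fin n) (Fin n) F) := by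
    rw [← hs]
    rfl
  rw [h3, h1, Matrix.mul_assoc]
  have h4 : ((g : GL (Fin n) F) : Matrix (Fin n) (Fin n) F) *
      (((g⁻¹ : ↥(Cfsg.isometryGroup F ⇑Q)) : GL (Fin n) F) : Matrix (Fin n) (Fin n) F) = 1 := by
    have : g * g⁻¹ = 1 := mul_inv_cancel g
    have := congrArg (fun x : ↥(Cfsg.isometryGroup F ⇑Q) =>
      ((x : GL (Fin n) F) : Matrix (Fin n) (Fin n) F)) this
    exact this
  rw [h4, Matrix.mul_one]
  rfl

theorem S_normal : (S Q).Normal := by
  constructor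
  intro h hh g
  unfold S at hh ⊢
  induction hh using Subgroup.closure_induction with
  | mem s hs => exact Subgroup.subset_closure (conj_mem_gensS Q g s hs)
  | one => simp
  | mul x y _ _ hx hy =>
    have : g * (x * y) * g⁻¹ = (g * x * g⁻¹) * (g * y * g⁻¹) := by group
    rw [this]
    exact mul_mem hx hy
  | inv x _ hx =>
    have : g * x⁻¹ * g⁻¹ = (g * x * g⁻¹)⁻¹ := by group
    rw [this]
    exact inv_mem hx

set_option quotPrecheck false in
local notation "P" => QuadraticMap.polar (⇑Q)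

/-- two orthogonal hyperbolic pairs -/
theorem exists_two_pairs [Finite F] (hQ : (QuadraticMap.polarBilin Q).Nondegenerate)
    (hn : 5 ≤ n) :
    ∃ e₁ f₁ e₂ f₂ : Fin n → F, Q e₁ = 0 ∧ Q f₁ = 0 ∧ Q e₂ = 0 ∧ Q f₂ = 0 ∧
      P e₁ f₁ = 1 ∧ P e₂ f₂ = 1 ∧ P e₁ e₂ = 0 ∧ P e₁ f₂ = 0 ∧ P f₁ e₂ = 0 ∧ P f₁ f₂ = 0 := by
  obtain ⟨k, r, b, hstd, htail, hfr⟩ := Cfsg.Agent.Lib.H13.witt Q hQ
  rw [Module.finrank_fin_fun] at hfr
  have hr : r ≤ 2 := by
    rcases r with _ | _ | _ | r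
    · omega
    · omega
    · omega
    · exact htail.elim
  obtain ⟨k', rfl⟩ : ∃ k', k = k' + 2 := ⟨k - 2, by omega⟩
  refine ⟨b (.inl (.inl 0)), b (.inl (.inr 0)), b (.inl (.inl 1)), b (.inl (.inr 1)),
    hstd.sing_l _, hstd.sing_r _, hstd.sing_l _, hstd.sing_r _, ?_, ?_, hstd.iso_l _ _, ?_, ?_,
    hstd.iso_r _ _⟩
  · rw [hstd.pair]; simp
  · rw [hstd.pair]; simp
  · rw [hstd.pair]; simp
  · rw [QuadraticMap.polar_comm, hstd.pair]; simp

/-- `r_v r_{v'} ∈ S` -/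
def Rel (v v' : Fin n → F) : Prop :=
  ∃ (hv : Q v ≠ 0) (hv' : Q v' ≠ 0), reflEl Q v hv * reflEl Q v' hv' ∈ S Q

theorem reflEl_inv (v : Fin n → F) (hv : Q v ≠ 0) : (reflEl Q v hv)⁻¹ = reflEl Q v hv :=
  inv_eq_of_mul_eq_one_right (reflEl_mul_self Q v hv)

theorem rel_refl (v : Fin n → F) (hv : Q v ≠ 0) : Rel Q v v :=
  ⟨hv, hv, by rw [reflEl_mul_self]; exact one_mem _⟩

theorem rel_symm {v v' : Fin n → F} (h : Rel Q v v') : Rel Q v' v := by
  obtain ⟨hv, hv', h⟩ := h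
  refine ⟨hv', hv, ?_⟩
  have := inv_mem h
  rwa [_root_.mul_inv_rev, reflEl_inv, reflEl_inv] at this

theorem rel_trans {v v' v'' : Fin n → F} (h : Rel Q v v') (h' : Rel Q v' v'') : Rel Q v v'' := by
  obtain ⟨hv, hv', h⟩ := h
  obtain ⟨_, hv'', h'⟩ := h'
  refine ⟨hv, hv'', ?_⟩
  have := mul_mem h h'
  rwa [mul_assoc, ← mul_assoc (reflEl Q v' hv'), reflEl_mul_self, one_mul] at this

theorem rel_neg [Fintype F] (v : Fin n → F) (hv : Q v ≠ 0) : Rel Q v (-v) := by
  have hnv : Q (-v) ≠ 0 := by rw [QuadraticMap.map_neg]; exact hv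
  refine ⟨hv, hnv, ?_⟩
  rw [reflEl_neg Q v hv hnv, reflEl_mul_self]
  exact one_mem _

theorem rel_move (s : ↥(Cfsg.isometryGroup F ⇑Q)) (hs : s ∈ S Q) (v : Fin n → F)
    (hv : Q v ≠ 0) : Rel Q v (act Q s v) := by
  have hsv : Q (act Q s v) ≠ 0 := by rw [Q_act]; exact hv
  refine ⟨hv, hsv, ?_⟩
  rw [← reflEl_conj Q s v hv hsv]
  have h1 : reflEl Q v hv * (s * reflEl Q v hv * s⁻¹) =
      (reflEl Q v hv * s * (reflEl Q v hv)⁻¹) * s⁻¹ := by
    rw [reflEl_inv]; group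
  rw [h1]
  exact mul_mem ((S_normal Q).conj_mem s hs _) (inv_mem hs)

theorem rel_conj (g : ↥(Cfsg.isometryGroup F ⇑Q)) {v v' : Fin n → F} (h : Rel Q v v') :
    Rel Q (act Q g v) (act Q g v') := by
  obtain ⟨hv, hv', h⟩ := h
  have hgv : Q (act Q g v) ≠ 0 := by rw [Q_act]; exact hv
  have hgv' : Q (act Q g v') ≠ 0 := by rw [Q_act]; exact hv'
  refine ⟨hgv, hgv', ?_⟩
  rw [← reflEl_conj Q g v hv hgv, ← reflEl_conj Q g v' hv' hgv']
  have h1 : g * reflEl Q v hv * g⁻¹ * (g * reflEl Q v' hv' * g⁻¹) =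
      g * (reflEl Q v hv * reflEl Q v' hv') * g⁻¹ := by group
  rw [h1]
  exact (S_normal Q).conj_mem _ h g

/-- the basic step: move `v` along a singular vector `u ⟂ v` -/
theorem rel_step (v u y : Fin n → F) (hv : Q v ≠ 0) (hu : Q u = 0) (hy : Q y = 0)
    (huy : P u y = 0) (huv : P u v = 0) (hyv : P y v ≠ 0) (l : F) :
    Rel Q v (v + l • u) := by
  have h := rel_move Q _ (siegEl_mem Q u y hu hy huy (-l / P y v)) v hv
  rw [siegEl_act, huv, mul_zero, zero_smul, add_zero, div_mul_cancel₀ _ hyv, neg_smul,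
    sub_neg_eq_add] at h
  exact h

/-- the model computation in two orthogonal hyperbolic planes -/
theorem model (e₁ f₁ e₂ f₂ : Fin n → F) (he₁ : Q e₁ = 0) (hf₁ : Q f₁ = 0) (he₂ : Q e₂ = 0)
    (hf₂ : Q f₂ = 0) (h11 : P e₁ f₁ = 1) (h22 : P e₂ f₂ = 1) (hee : P e₁ e₂ = 0)
    (hef : P e₁ f₂ = 0) (hfe : P f₁ e₂ = 0) (hff : P f₁ f₂ = 0) (c l : F) (hc : c ≠ 0) :
    Q (e₁ + c • f₁) = c ∧ Q (e₁ + c • f₁ + (1 : F) • e₂ + l • (f₂ - f₁)) = c ∧
    P (e₁ + c • f₁) (e₁ + c • f₁ + (1 : F) • e₂ + l • (f₂ - f₁)) = 2 * c - l ∧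
    P f₂ (e₁ + c • f₁) = 0 ∧ P f₂ (e₁ + c • f₁ + (1 : F) • e₂ + l • (f₂ - f₁)) = 1 ∧
    Rel Q (e₁ + c • f₁) (e₁ + c • f₁ + (1 : F) • e₂ + l • (f₂ - f₁)) := by
  have h11' : P f₁ e₁ = 1 := by rw [QuadraticMap.polar_comm, h11]
  have h22' : P f₂ e₂ = 1 := by rw [QuadraticMap.polar_comm, h22]
  have hee' : P e₂ e₁ = 0 := by rw [QuadraticMap.polar_comm, hee]
  have hef' : P f₂ e₁ = 0 := by rw [QuadraticMap.polar_comm, hef]
  have hfe' : P e₂ f₁ = 0 := by rw [QuadraticMap.polar_comm, hfe]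
  have hff' : P f₂ f₁ = 0 := by rw [QuadraticMap.polar_comm, hff]
  have s1 : P e₁ e₁ = 0 := by rw [Cfsg.Agent.Lib.H4.polar_self, he₁, mul_zero]
  have s2 : P f₁ f₁ = 0 := by rw [Cfsg.Agent.Lib.H4.polar_self, hf₁, mul_zero]
  have s3 : P e₂ e₂ = 0 := by rw [Cfsg.Agent.Lib.H4.polar_self, he₂, mul_zero]
  have s4 : P f₂ f₂ = 0 := by rw [Cfsg.Agent.Lib.H4.polar_self, hf₂, mul_zero]
  have Qs : ∀ (a : F) (x : Fin n → F), Q (a • x) = a * a * Q x := fun a x => by
    rw [QuadraticMap.map_smul, smul_eq_mul]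
  have hQ0 : Q (e₁ + c • f₁) = c := by
    rw [QuadraticMap.map_add (⇑Q), Qs, he₁, hf₁, QuadraticMap.polar_smul_right, h11, smul_eq_mul]
    ring
  have hQ1 : Q (e₁ + c • f₁ + (1 : F) • e₂) = c := by
    rw [QuadraticMap.map_add (⇑Q), Qs, hQ0, he₂]
    simp only [QuadraticMap.polar_add_left, QuadraticMap.polar_smul_left,
      QuadraticMap.polar_smul_right, smul_eq_mul, hee, hfe]
    ring
  have hQu : Q (f₂ - f₁) = 0 := by
    rw [Q_sub, hf₂, hf₁, hff']; ring
  have hQy : Q (e₁ + e₂) = 0 := by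
    rw [QuadraticMap.map_add (⇑Q), he₁, he₂, hee]; ring
  have hQ2 : Q (e₁ + c • f₁ + (1 : F) • e₂ + l • (f₂ - f₁)) = c := by
    rw [QuadraticMap.map_add (⇑Q), Qs, hQ1, hQu]
    simp only [QuadraticMap.polar_add_left, QuadraticMap.polar_add_right,
      QuadraticMap.polar_sub_left, QuadraticMap.polar_sub_right, QuadraticMap.polar_smul_left,
      QuadraticMap.polar_smul_right, smul_eq_mul, h11, h22, hee, hef, hfe, hff, h11', h22', hee',
      hef', hfe', hff', s1, s2, s3, s4]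
    ring
  refine ⟨hQ0, hQ2, ?_, ?_, ?_, ?_⟩
  · simp only [QuadraticMap.polar_add_left, QuadraticMap.polar_add_right,
      QuadraticMap.polar_sub_left, QuadraticMap.polar_sub_right, QuadraticMap.polar_smul_left,
      QuadraticMap.polar_smul_right, smul_eq_mul, h11, h22, hee, hef, hfe, hff, h11', h22', hee',
      hef', hfe', hff', s1, s2, s3, s4]
    ring
  · simp only [QuadraticMap.polar_add_left, QuadraticMap.polar_add_right,
      QuadraticMap.polar_sub_left, QuadraticMap.polar_sub_right, QuadraticMap.polar_smul_left,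
      QuadraticMap.polar_smul_right, smul_eq_mul, h11, h22, hee, hef, hfe, hff, h11', h22', hee',
      hef', hfe', hff', s1, s2, s3, s4]
    ring
  · simp only [QuadraticMap.polar_add_left, QuadraticMap.polar_add_right,
      QuadraticMap.polar_sub_left, QuadraticMap.polar_sub_right, QuadraticMap.polar_smul_left,
      QuadraticMap.polar_smul_right, smul_eq_mul, h11, h22, hee, hef, hfe, hff, h11', h22', hee',
      hef', hfe', hff', s1, s2, s3, s4]
    ring
  · refine rel_trans Q (rel_step Q _ e₂ f₁ (by rw [hQ0]; exact hc) he₂ hf₁ hfe' ?_ ?_ 1)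
      (rel_step Q _ (f₂ - f₁) (e₁ + e₂) (by rw [hQ1]; exact hc) hQu hQy ?_ ?_ ?_ l)
    · simp only [QuadraticMap.polar_add_left, QuadraticMap.polar_add_right,
        QuadraticMap.polar_sub_left, QuadraticMap.polar_sub_right, QuadraticMap.polar_smul_left,
        QuadraticMap.polar_smul_right, smul_eq_mul, h11, h22, hee, hef, hfe, hff, h11', h22', hee',
        hef', hfe', hff', s1, s2, s3, s4]
      ring
    · simp only [QuadraticMap.polar_add_left, QuadraticMap.polar_add_right,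
        QuadraticMap.polar_sub_left, QuadraticMap.polar_sub_right, QuadraticMap.polar_smul_left,
        QuadraticMap.polar_smul_right, smul_eq_mul, h11, h22, hee, hef, hfe, hff, h11', h22', hee',
        hef', hfe', hff', s1, s2, s3, s4]
      simp
    · simp only [QuadraticMap.polar_add_left, QuadraticMap.polar_add_right,
        QuadraticMap.polar_sub_left, QuadraticMap.polar_sub_right, QuadraticMap.polar_smul_left,
        QuadraticMap.polar_smul_right, smul_eq_mul, h11, h22, hee, hef, hfe, hff, h11', h22', hee',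
        hef', hfe', hff', s1, s2, s3, s4]
      ring
    · simp only [QuadraticMap.polar_add_left, QuadraticMap.polar_add_right,
        QuadraticMap.polar_sub_left, QuadraticMap.polar_sub_right, QuadraticMap.polar_smul_left,
        QuadraticMap.polar_smul_right, smul_eq_mul, h11, h22, hee, hef, hfe, hff, h11', h22', hee',
        hef', hfe', hff', s1, s2, s3, s4]
      ring
    · simp only [QuadraticMap.polar_add_left, QuadraticMap.polar_add_right,
        QuadraticMap.polar_sub_left, QuadraticMap.polar_sub_right, QuadraticMap.polar_smul_left,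
        QuadraticMap.polar_smul_right, smul_eq_mul, h11, h22, hee, hef, hfe, hff, h11', h22', hee',
        hef', hfe', hff', s1, s2, s3, s4]
      simpa using hc

/-- an isometry given as a linear equivalence, as an element of the isometry group -/
noncomputable def elOfEquiv (g : (Fin n → F) ≃ₗ[F] (Fin n → F)) (hg : ∀ v, Q (g v) = Q v) :
    ↥(Cfsg.isometryGroup F ⇑Q) :=
  ⟨Cfsg.Agent.S0794.glOfEquiv g, (Cfsg.Agent.S0794.mem_iso_iff Q _).2 (fun x => by
    rw [Cfsg.Agent.S0794.glOfEquiv_mulVec]; exact hg x)⟩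

theorem elOfEquiv_act (g : (Fin n → F) ≃ₗ[F] (Fin n → F)) (hg : ∀ v, Q (g v) = Q v)
    (x : Fin n → F) : act Q (elOfEquiv Q g hg) x = g x :=
  Cfsg.Agent.S0794.glOfEquiv_mulVec g x

/-- all reflections in vectors of the same norm are congruent modulo `S` -/
theorem rel_all' [Fintype F] (hQ : (QuadraticMap.polarBilin Q).Nondegenerate)
    (hn : 5 ≤ n) (v v' : Fin n → F) (hv : Q v ≠ 0) (hvv' : Q v' = Q v) : Rel Q v v' := by
  obtain ⟨e₁, f₁, e₂, f₂, he₁, hf₁, he₂, hf₂, h11, h22, hee, hef, hfe, hff⟩ :=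
    exists_two_pairs Q hQ hn
  set c := Q v with hc
  have key : ∀ w : Fin n → F, Q w = c → Rel Q (e₁ + c • f₁) w := by
    intro w hw
    obtain ⟨hQ0, -, -, hf0, -, -⟩ :=
      model Q e₁ f₁ e₂ f₂ he₁ hf₁ he₂ hf₂ h11 h22 hee hef hfe hff c 0 hv
    have hv0 : Q (e₁ + c • f₁) ≠ 0 := by rw [hQ0]; exact hv
    have hv0ne : e₁ + c • f₁ ≠ 0 := by
      intro h
      rw [h, map_zero] at hv0
      exact hv0 rfl
    by_cases hli : LinearIndependent F ![e₁ + c • f₁, w]
    · obtain ⟨-, hQ2, hP, -, hf2, hrel⟩ :=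
        model Q e₁ f₁ e₂ f₂ he₁ hf₁ he₂ hf₂ h11 h22 hee hef hfe hff c
          (2 * c - P (e₁ + c • f₁) w) hv
      set v₂ := e₁ + c • f₁ + (1 : F) • e₂ + (2 * c - P (e₁ + c • f₁) w) • (f₂ - f₁) with hv₂
      have hli2 : LinearIndependent F ![e₁ + c • f₁, v₂] := by
        rw [LinearIndependent.pair_iff]
        intro s t hst
        have h1 := congrArg (fun x => P f₂ x) hst
        simp only [QuadraticMap.polar_add_right, QuadraticMap.polar_smul_right, hf0, hf2,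
          smul_eq_mul, mul_zero, zero_add, mul_one, QuadraticMap.polar_zero_right] at h1
        rw [h1, zero_smul, add_zero] at hst
        exact ⟨(smul_eq_zero.1 hst).resolve_right hv0ne, h1⟩
      obtain ⟨g, hg, hgx⟩ := Cfsg.Agent.S0750.witt_family Q hQ 2 ![e₁ + c • f₁, v₂]
        ![e₁ + c • f₁, w] hli2 hli
        (by
          intro i
          fin_cases i
          · rfl
          · simp [hw, hQ2])
        (by
          intro i j
          fin_cases i <;> fin_cases j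
          · rfl
          · show P (e₁ + c • f₁) w = P (e₁ + c • f₁) v₂
            rw [hP]; ring
          · show P w (e₁ + c • f₁) = P v₂ (e₁ + c • f₁)
            rw [QuadraticMap.polar_comm (⇑Q) w, QuadraticMap.polar_comm (⇑Q) v₂, hP]; ring
          · show P w w = P v₂ v₂
            rw [Cfsg.Agent.Lib.H4.polar_self, Cfsg.Agent.Lib.H4.polar_self, hw, hQ2])
      have h0 : g (e₁ + c • f₁) = e₁ + c • f₁ := hgx 0
      have h1 : g v₂ = w := hgx 1
      have := rel_conj Q (elOfEquiv Q g hg) hrel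
      rwa [elOfEquiv_act, elOfEquiv_act, h0, h1] at this
    · rw [LinearIndependent.pair_iff] at hli
      push Not at hli
      obtain ⟨s, t, hst, hne⟩ := hli
      have ht : t ≠ 0 := by
        intro ht
        rw [ht, zero_smul, add_zero] at hst
        exact hne ((smul_eq_zero.1 hst).resolve_right hv0ne) ht
      have hw' : w = (-(s / t)) • (e₁ + c • f₁) := by
        have h1 : t • w = -(s • (e₁ + c • f₁)) := eq_neg_of_add_eq_zero_right hst
        have h2 : w = t⁻¹ • (t • w) := by rw [smul_smul, inv_mul_cancel₀ ht, one_smul]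
        rw [h2, h1, smul_neg, smul_smul, neg_smul]
        congr 2
        field_simp
      have ha : (-(s / t)) * (-(s / t)) = 1 := by
        have := hw
        rw [hw', QuadraticMap.map_smul, hQ0, smul_eq_mul] at this
        exact mul_right_cancel₀ hv (by rw [this, one_mul])
      rcases mul_self_eq_one_iff.1 ha with h | h
      · rw [hw', h, one_smul]
        exact rel_refl Q _ hv0
      · rw [hw', h, neg_one_smul]
        exact rel_neg Q _ hv0
  exact rel_trans Q (rel_symm Q (key v rfl)) (key v' hvv')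

theorem rel_all [Fintype F] (hQ : (QuadraticMap.polarBilin Q).Nondegenerate) (_h2 : (2 : F) ≠ 0)
    (hn : 5 ≤ n) (v v' : Fin n → F) (hv : Q v ≠ 0) (hvv' : Q v' = Q v) : Rel Q v v' :=
  rel_all' Q hQ hn v v' hv hvv'

/-- `O(Q)` is generated by reflections -/
def RGen : Prop := ∀ g : ↥(Cfsg.isometryGroup F ⇑Q),
  g ∈ Subgroup.closure {r : ↥(Cfsg.isometryGroup F ⇑Q) | ∃ v, Q v ≠ 0 ∧
    ((r : GL (Fin n) F) : Matrix (Fin n) (Fin n) F) = Cfsg.reflectionMatrix (⇑Q) v}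

theorem rGen_of_odd (hQ : (QuadraticMap.polarBilin Q).Nondegenerate) (h2 : (2 : F) ≠ 0) :
    RGen Q := fun g => cartan_dieudonne Q hQ h2 g

theorem S_le_commutator [Fintype F] (hQ : (QuadraticMap.polarBilin Q).Nondegenerate)
    (h2 : (2 : F) ≠ 0) (hn : 5 ≤ n) : S Q ≤ commutator ↥(Cfsg.isometryGroup F ⇑Q) := by
  unfold S
  rw [Subgroup.closure_le]
  rintro g ⟨u, v, c, hu, hv, huv, hg⟩
  exact (Cfsg.Agent.S0794.result h2 hn Q hQ u v hu hv huv c g hg).2

theorem commutator_le_S_of_rGen [Fintype F] (hQ : (QuadraticMap.polarBilin Q).Nondegenerate)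
    (hgen : RGen Q) (hn : 5 ≤ n) : commutator ↥(Cfsg.isometryGroup F ⇑Q) ≤ S Q := by
  have := S_normal Q
  have hR : ∀ r ∈ {r : ↥(Cfsg.isometryGroup F ⇑Q) | ∃ v, Q v ≠ 0 ∧
      ((r : GL (Fin n) F) : Matrix (Fin n) (Fin n) F) = Cfsg.reflectionMatrix (⇑Q) v},
      ∀ g : ↥(Cfsg.isometryGroup F ⇑Q),
        (r : ↥(Cfsg.isometryGroup F ⇑Q) ⧸ S Q) * (g : ↥(Cfsg.isometryGroup F ⇑Q) ⧸ S Q) =
          (g : ↥(Cfsg.isometryGroup F ⇑Q) ⧸ S Q) * (r : ↥(Cfsg.isometryGroup F ⇑Q) ⧸ S Q) := by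
    rintro r ⟨v, hv, hr⟩ g
    have hr' : r = reflEl Q v hv := by
      apply Subtype.ext; apply Units.ext; rw [hr]; rfl
    have hg := hgen g
    induction hg using Subgroup.closure_induction with
    | mem x hx =>
      obtain ⟨w, hw, hx⟩ := hx
      have hx' : x = reflEl Q w hw := by
        apply Subtype.ext; apply Units.ext; rw [hx]; rfl
      rw [← QuotientGroup.mk_mul, ← QuotientGroup.mk_mul, QuotientGroup.eq]
      have hxv : Q (act Q x v) ≠ 0 := by rw [Q_act]; exact hv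
      have h1 : (r * x)⁻¹ * (x * r) = reflEl Q (act Q x v) hxv * reflEl Q v hv := by
        rw [← reflEl_conj Q x v hv hxv, hr', _root_.mul_inv_rev, reflEl_inv, hx', reflEl_inv]
        group
      rw [h1]
      obtain ⟨_, _, h⟩ := rel_all' Q hQ hn (act Q x v) v hxv (by rw [Q_act])
      exact h
    | one => simp
    | mul x y _ _ hx hy =>
      rw [QuotientGroup.mk_mul, ← mul_assoc, hx, mul_assoc, hy, mul_assoc]
    | inv x _ hx =>
      rw [QuotientGroup.mk_inv]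
      calc (r : ↥(Cfsg.isometryGroup F ⇑Q) ⧸ S Q) * (x : ↥(Cfsg.isometryGroup F ⇑Q) ⧸ S Q)⁻¹
          = (x : ↥(Cfsg.isometryGroup F ⇑Q) ⧸ S Q)⁻¹ * ((x : ↥(Cfsg.isometryGroup F ⇑Q) ⧸ S Q) *
            (r : ↥(Cfsg.isometryGroup F ⇑Q) ⧸ S Q)) *
              (x : ↥(Cfsg.isometryGroup F ⇑Q) ⧸ S Q)⁻¹ := by group
        _ = _ := by rw [← hx]; group
  have hall : ∀ g h : ↥(Cfsg.isometryGroup F ⇑Q),
      (g : ↥(Cfsg.isometryGroup F ⇑Q) ⧸ S Q) * (h : ↥(Cfsg.isometryGroup F ⇑Q) ⧸ S Q) =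
        (h : ↥(Cfsg.isometryGroup F ⇑Q) ⧸ S Q) * (g : ↥(Cfsg.isometryGroup F ⇑Q) ⧸ S Q) := by
    intro g h
    have hg := hgen g
    induction hg using Subgroup.closure_induction with
    | mem x hx => exact hR x hx h
    | one => simp
    | mul x y _ _ hx hy =>
      rw [QuotientGroup.mk_mul, mul_assoc, hy, ← mul_assoc, hx, mul_assoc]
    | inv x _ hx =>
      rw [QuotientGroup.mk_inv]
      calc (x : ↥(Cfsg.isometryGroup F ⇑Q) ⧸ S Q)⁻¹ * (h : ↥(Cfsg.isometryGroup F ⇑Q) ⧸ S Q)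
          = (x : ↥(Cfsg.isometryGroup F ⇑Q) ⧸ S Q)⁻¹ * ((h : ↥(Cfsg.isometryGroup F ⇑Q) ⧸ S Q) *
            (x : ↥(Cfsg.isometryGroup F ⇑Q) ⧸ S Q)) *
              (x : ↥(Cfsg.isometryGroup F ⇑Q) ⧸ S Q)⁻¹ := by group
        _ = _ := by rw [← hx]; group
  rw [commutator_def, Subgroup.commutator_le]
  intro g _ h _
  rw [← QuotientGroup.eq_one_iff, commutatorElement_def, QuotientGroup.mk_mul, QuotientGroup.mk_mul,
    QuotientGroup.mk_mul, hall g h, QuotientGroup.mk_inv, QuotientGroup.mk_inv]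
  group

theorem commutator_le_S [Fintype F] (hQ : (QuadraticMap.polarBilin Q).Nondegenerate)
    (h2 : (2 : F) ≠ 0) (hn : 5 ≤ n) : commutator ↥(Cfsg.isometryGroup F ⇑Q) ≤ S Q :=
  commutator_le_S_of_rGen Q hQ (rGen_of_odd Q hQ h2) hn

theorem commutator_eq_S [Fintype F] (hQ : (QuadraticMap.polarBilin Q).Nondegenerate)
    (h2 : (2 : F) ≠ 0) (hn : 5 ≤ n) : commutator ↥(Cfsg.isometryGroup F ⇑Q) = S Q :=
  le_antisymm (commutator_le_S Q hQ h2 hn) (S_le_commutator Q hQ h2 hn)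

/-- three mutually orthogonal hyperbolic pairs -/
theorem exists_three_pairs [Finite F] (hQ : (QuadraticMap.polarBilin Q).Nondegenerate)
    (hn : 7 ≤ n) :
    ∃ e₁ f₁ e₂ f₂ e₃ f₃ : Fin n → F, Q e₁ = 0 ∧ Q f₁ = 0 ∧ Q e₂ = 0 ∧ Q f₂ = 0 ∧ Q e₃ = 0 ∧
      Q f₃ = 0 ∧ P e₁ f₁ = 1 ∧ P e₂ f₂ = 1 ∧ P e₃ f₃ = 1 ∧
      P e₁ e₂ = 0 ∧ P e₁ f₂ = 0 ∧ P f₁ e₂ = 0 ∧ P f₁ f₂ = 0 ∧
      P e₃ e₁ = 0 ∧ P e₃ f₁ = 0 ∧ P e₃ e₂ = 0 ∧ P e₃ f₂ = 0 ∧
      P f₃ e₁ = 0 ∧ P f₃ f₁ = 0 ∧ P f₃ e₂ = 0 ∧ P f₃ f₂ = 0 := by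
  obtain ⟨k, r, b, hstd, htail, hfr⟩ := Cfsg.Agent.Lib.H13.witt Q hQ
  rw [Module.finrank_fin_fun] at hfr
  have hr : r ≤ 2 := by
    rcases r with _ | _ | _ | r
    · omega
    · omega
    · omega
    · exact htail.elim
  obtain ⟨k', rfl⟩ : ∃ k', k = k' + 3 := ⟨k - 3, by omega⟩
  have h01 : (0 : Fin (k' + 3)) ≠ 1 := by rw [Ne, Fin.ext_iff]; simp
  have h2' : 2 % (k' + 3) = 2 := Nat.mod_eq_of_lt (by omega)
  have h02 : (0 : Fin (k' + 3)) ≠ 2 := by rw [Ne, Fin.ext_iff]; simp [h2']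
  have h12 : (1 : Fin (k' + 3)) ≠ 2 := by rw [Ne, Fin.ext_iff]; simp [h2']
  refine ⟨b (.inl (.inl 0)), b (.inl (.inr 0)), b (.inl (.inl 1)), b (.inl (.inr 1)),
    b (.inl (.inl 2)), b (.inl (.inr 2)),
    hstd.sing_l _, hstd.sing_r _, hstd.sing_l _, hstd.sing_r _, hstd.sing_l _, hstd.sing_r _,
    ?_, ?_, ?_, hstd.iso_l _ _, ?_, ?_, hstd.iso_r _ _, hstd.iso_l _ _, ?_, hstd.iso_l _ _, ?_,
    ?_, hstd.iso_r _ _, ?_, hstd.iso_r _ _⟩
  · rw [hstd.pair]; simp
  · rw [hstd.pair]; simp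
  · rw [hstd.pair]; simp
  · rw [hstd.pair, if_neg h01]
  · rw [QuadraticMap.polar_comm, hstd.pair, if_neg h01.symm]
  · rw [hstd.pair, if_neg h02.symm]
  · rw [hstd.pair, if_neg h12.symm]
  · rw [QuadraticMap.polar_comm, hstd.pair, if_neg h02]
  · rw [QuadraticMap.polar_comm, hstd.pair, if_neg h12]

theorem siegel_add_right (u v v' : Fin n → F) (hu : Q u = 0) (huv : P u v = 0)
    (huv' : P u v' = 0) (hvv' : P v' v = 0) (c : F) :
    Cfsg.siegelMatrix (⇑Q) u v' c * Cfsg.siegelMatrix (⇑Q) u v c =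
      Cfsg.siegelMatrix (⇑Q) u (v + v') c := by
  have huu : P u u = 0 := by rw [Cfsg.Agent.Lib.H4.polar_self, hu, mul_zero]
  have hv'u : P v' u = 0 := by rw [QuadraticMap.polar_comm, huv']
  rw [Matrix.ext_iff_mulVec]
  intro x
  rw [← Matrix.mulVec_mulVec, Cfsg.Agent.Lib.H4.siegelMatrix_mulVec Q u v c,
    Cfsg.Agent.Lib.H4.siegelMatrix_mulVec, Cfsg.Agent.Lib.H4.siegelMatrix_mulVec]
  simp only [QuadraticMap.polar_add_right, QuadraticMap.polar_sub_right,
    QuadraticMap.polar_smul_right, QuadraticMap.polar_add_left, huu, huv, hvv', hv'u, smul_eq_mul,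
    mul_zero, add_zero, sub_zero]
  module

/-- a third singular vector completing a totally singular pair to a totally singular triple -/
theorem exists_third [Fintype F] (hQ : (QuadraticMap.polarBilin Q).Nondegenerate)
    (hn : 7 ≤ n) (u v' : Fin n → F) (hu : Q u = 0) (hv' : Q v' = 0) (huv' : P u v' = 0)
    (hli : LinearIndependent F ![u, v']) :
    ∃ v, Q v = 0 ∧ P u v = 0 ∧ P v' v = 0 ∧ LinearIndependent F ![u, v] ∧
      LinearIndependent F ![u, v + v'] := by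
  obtain ⟨e₁, f₁, e₂, f₂, e₃, f₃, he₁, hf₁, he₂, hf₂, he₃, hf₃, h11, h22, h33, h12ee, h12ef,
    h12fe, h12ff, h3e1, h3f1, h3e2, h3f2, h3'e1, h3'f1, h3'e2, h3'f2⟩ :=
    exists_three_pairs Q hQ hn
  have hli₀ : LinearIndependent F ![e₁, e₂] := by
    rw [LinearIndependent.pair_iff]
    intro s t hst
    have h1 := congrArg (fun x => P f₁ x) hst
    have h2 := congrArg (fun x => P f₂ x) hst
    simp only [QuadraticMap.polar_add_right, QuadraticMap.polar_smul_right,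
      QuadraticMap.polar_comm (⇑Q) f₁ e₁, QuadraticMap.polar_comm (⇑Q) f₂ e₂,
      QuadraticMap.polar_comm (⇑Q) f₂ e₁, h11, h22, h12fe, h12ef, smul_eq_mul, mul_zero,
      zero_add, add_zero, mul_one, QuadraticMap.polar_zero_right] at h1 h2
    exact ⟨h1, h2⟩
  -- move `(u, v')` to `(e₁, e₂)`
  obtain ⟨g₀, hg₀, hg₀x⟩ := Cfsg.Agent.S0750.witt_family Q hQ 2 ![u, v'] ![e₁, e₂] hli hli₀
    (by
      intro i
      fin_cases i
      · show Q e₁ = Q u
        rw [he₁, hu]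
      · show Q e₂ = Q v'
        rw [he₂, hv'])
    (by
      intro i j
      fin_cases i <;> fin_cases j
      · show P e₁ e₁ = P u u
        rw [Cfsg.Agent.Lib.H4.polar_self, Cfsg.Agent.Lib.H4.polar_self, he₁, hu]
      · show P e₁ e₂ = P u v'
        rw [h12ee, huv']
      · show P e₂ e₁ = P v' u
        rw [QuadraticMap.polar_comm (⇑Q) e₂, QuadraticMap.polar_comm (⇑Q) v', h12ee, huv']
      · show P e₂ e₂ = P v' v'
        rw [Cfsg.Agent.Lib.H4.polar_self, Cfsg.Agent.Lib.H4.polar_self, he₂, hv'])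
  have hg₀u : g₀ u = e₁ := hg₀x 0
  have hg₀v' : g₀ v' = e₂ := hg₀x 1
  have hpol : ∀ a b, P (g₀ a) (g₀ b) = P a b :=
    Cfsg.Agent.S0750.polar_of_isometry Q (g₀ : (Fin n → F) →ₗ[F] (Fin n → F)) hg₀
  obtain ⟨v, hvdef⟩ : ∃ v, v = g₀.symm e₃ := ⟨_, rfl⟩
  have hg₀v : g₀ v = e₃ := by rw [hvdef, LinearEquiv.apply_symm_apply]
  have hv : Q v = 0 := by rw [← hg₀ v, hg₀v, he₃]
  have huv : P u v = 0 := by
    rw [← hpol, hg₀u, hg₀v, QuadraticMap.polar_comm, h3e1]
  have hv'v : P v' v = 0 := by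
    rw [← hpol, hg₀v', hg₀v, QuadraticMap.polar_comm, h3e2]
  have hvv'Q : Q (v + v') = 0 := by
    rw [QuadraticMap.map_add (⇑Q), hv, hv', QuadraticMap.polar_comm, hv'v]; ring
  have huvv' : P u (v + v') = 0 := by
    rw [QuadraticMap.polar_add_right, huv, huv', add_zero]
  have hli1 : LinearIndependent F ![u, v] := by
    rw [LinearIndependent.pair_iff]
    intro s t hst
    have h0 := congrArg g₀ hst
    rw [map_add, map_smul, map_smul, hg₀u, hg₀v, map_zero] at h0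
    have h1 := congrArg (fun x => P f₁ x) h0
    have h2 := congrArg (fun x => P f₃ x) h0
    simp only [QuadraticMap.polar_add_right, QuadraticMap.polar_smul_right,
      QuadraticMap.polar_comm (⇑Q) f₁ e₁, QuadraticMap.polar_comm (⇑Q) f₃ e₃,
      QuadraticMap.polar_comm (⇑Q) f₁ e₃, h11, h33, h3f1, h3'e1, smul_eq_mul, mul_zero,
      zero_add, add_zero, mul_one, QuadraticMap.polar_zero_right] at h1 h2
    exact ⟨h1, h2⟩
  have hli2 : LinearIndependent F ![u, v + v'] := by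
    rw [LinearIndependent.pair_iff]
    intro s t hst
    have h0 := congrArg g₀ hst
    rw [map_add, map_smul, map_smul, map_add, hg₀u, hg₀v, hg₀v', map_zero] at h0
    have h1 := congrArg (fun x => P f₁ x) h0
    have h2 := congrArg (fun x => P f₃ x) h0
    simp only [QuadraticMap.polar_add_right, QuadraticMap.polar_smul_right,
      QuadraticMap.polar_comm (⇑Q) f₁ e₁, QuadraticMap.polar_comm (⇑Q) f₃ e₃,
      QuadraticMap.polar_comm (⇑Q) f₁ e₃, h11, h33, h3f1, h3'e1, h3'e2, h12fe, smul_eq_mul,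
      mul_zero, zero_add, add_zero, mul_one, QuadraticMap.polar_zero_right] at h1 h2
    exact ⟨h1, h2⟩
  exact ⟨v, hv, huv, hv'v, hli1, hli2⟩

/-- every Siegel transformation is a commutator of isometries (Witt index at least 3) -/
theorem gensS_subset_commutator [Fintype F] (hQ : (QuadraticMap.polarBilin Q).Nondegenerate)
    (hn : 7 ≤ n) (s : ↥(Cfsg.isometryGroup F ⇑Q)) (hs : s ∈ gensS Q) :
    s ∈ commutator ↥(Cfsg.isometryGroup F ⇑Q) := by
  obtain ⟨u, v', c, hu, hv', huv', hs⟩ := hs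
  by_cases hli : LinearIndependent F ![u, v']
  · obtain ⟨v, hv, huv, hv'v, hli1, hli2⟩ := exists_third Q hQ hn u v' hu hv' huv' hli
    have hvv'Q : Q (v + v') = 0 := by
      rw [QuadraticMap.map_add (⇑Q), hv, hv', QuadraticMap.polar_comm, hv'v]; ring
    have huvv' : P u (v + v') = 0 := by
      rw [QuadraticMap.polar_add_right, huv, huv', add_zero]
    obtain ⟨g', hg', hg'x⟩ := Cfsg.Agent.S0750.witt_family Q hQ 2 ![u, v] ![u, v + v'] hli1 hli2
      (by
        intro i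
        fin_cases i
        · rfl
        · show Q (v + v') = Q v
          rw [hvv'Q, hv])
      (by
        intro i j
        fin_cases i <;> fin_cases j
        · rfl
        · show P u (v + v') = P u v
          rw [huvv', huv]
        · show P (v + v') u = P v u
          rw [QuadraticMap.polar_comm (⇑Q) (v + v'), QuadraticMap.polar_comm (⇑Q) v, huvv', huv]
        · show P (v + v') (v + v') = P v v
          rw [Cfsg.Agent.Lib.H4.polar_self, Cfsg.Agent.Lib.H4.polar_self, hvv'Q, hv])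
    set G := elOfEquiv Q g' hg' with hG
    have hGu : act Q G u = u := by rw [hG, elOfEquiv_act]; exact hg'x 0
    have hGv : act Q G v = v + v' := by rw [hG, elOfEquiv_act]; exact hg'x 1
    have hcomm : s = ⁅G, siegEl Q u v hu hv huv c⁆ := by
      rw [commutatorElement_def, eq_mul_inv_iff_mul_eq, eq_mul_inv_iff_mul_eq]
      apply Subtype.ext
      apply Units.ext
      show s.1.1 * Cfsg.siegelMatrix ⇑Q u v c * G.1.1 = G.1.1 * Cfsg.siegelMatrix ⇑Q u v c
      have e1 : G.1.1 *ᵥ u = u := hGu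
      have e2 : G.1.1 *ᵥ v = v + v' := hGv
      rw [Cfsg.Agent.S0794.siegel_conj Q u v G.1.1 (fun x => Q_act Q G x), e1, e2, hs,
        siegel_add_right Q u v v' hu huv huv' hv'v]
    rw [hcomm]
    exact Subgroup.commutator_mem_commutator (Subgroup.mem_top _) (Subgroup.mem_top _)
  · have : s = 1 := by
      apply Subtype.ext
      apply Units.ext
      rw [hs, Cfsg.Agent.S0794.siegel_dep Q u v' hli]
      rfl
    rw [this]
    exact one_mem _

/-- `Ω = S` when `O(Q)` is generated by reflections (any characteristic, `n ≥ 7`) -/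
theorem commutator_eq_S_of_rGen [Fintype F] (hQ : (QuadraticMap.polarBilin Q).Nondegenerate)
    (hgen : RGen Q) (hn : 7 ≤ n) : commutator ↥(Cfsg.isometryGroup F ⇑Q) = S Q := by
  apply le_antisymm (commutator_le_S_of_rGen Q hQ hgen (by omega))
  unfold S
  rw [Subgroup.closure_le]
  intro s hs
  exact gensS_subset_commutator Q hQ hn s hs

end Cfsg.Agent.Lib.H11.SiegelGen
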