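import Mathlib
import Cfsg.Agent.Lib.H11.OrthConj2
import Cfsg.Agent.Lib.H11.SiegelGen

set_option autoImplicit false

/-!
# Odd-order semisimple orthogonal elements: conjugacy in `O(Q)` is controlled by `GL`
-/

namespace Cfsg.Agent.Lib.H11.OrthConj

open Matrix
open Cfsg.Agent.Lib.H11.CD Cfsg.Agent.Lib.H11.SiegelGen

variable {F : Type*} [Field F] {n : ℕ} (Q : QuadraticForm F (Fin n → F))

local notation "Mn" => Matrix (Fin n) (Fin n) F

set_option quotPrecheck false in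
local notation "P" => QuadraticMap.polar (⇑Q)

/-- Gram matrix of the polar form -/
noncomputable def gram : Mn := LinearMap.BilinForm.toMatrix' (QuadraticMap.polarBilin Q)

theorem polar_eq (v w : Fin n → F) : P v w = v ⬝ᵥ (gram Q *ᵥ w) := by
  rw [← Matrix.toBilin'_apply', gram, Matrix.toBilin'_toMatrix',
    QuadraticMap.polarBilin_apply_apply]

theorem gram_transpose : (gram Q)ᵀ = gram Q := by
  ext i j
  rw [Matrix.transpose_apply, gram, LinearMap.BilinForm.toMatrix'_apply,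
    LinearMap.BilinForm.toMatrix'_apply, QuadraticMap.polarBilin_apply_apply,
    QuadraticMap.polarBilin_apply_apply, QuadraticMap.polar_comm]

theorem gram_det_ne_zero (hQ : (QuadraticMap.polarBilin Q).Nondegenerate) :
    (gram Q).det ≠ 0 := by
  rw [← Matrix.nondegenerate_iff_det_ne_zero, gram,
    LinearMap.BilinForm.nondegenerate_toMatrix'_iff]
  exact hQ

/-- the adjoint property of `adj` -/
theorem polar_mulVec_left (M Mi : Mn) (hM : M = gram Q) (hM1 : M * Mi = 1) (X : Mn)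
    (v w : Fin n → F) : P (X *ᵥ v) w = P v (adj M Mi X *ᵥ w) := by
  rw [polar_eq, polar_eq, ← hM]
  have h1 : M *ᵥ (adj M Mi X *ᵥ w) = Xᵀ *ᵥ (M *ᵥ w) := by
    unfold adj
    rw [Matrix.mulVec_mulVec, Matrix.mulVec_mulVec]
    congr 1
    calc M * (Mi * Xᵀ * M) = (M * Mi) * Xᵀ * M := by simp only [Matrix.mul_assoc]
      _ = Xᵀ * M := by rw [hM1, Matrix.one_mul]
  rw [h1, Matrix.dotProduct_mulVec v, Matrix.vecMul_transpose]

theorem polar_mulVec_right (M Mi : Mn) (hM : M = gram Q) (hM1 : M * Mi = 1) (X : Mn)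
    (v w : Fin n → F) : P v (X *ᵥ w) = P (adj M Mi X *ᵥ v) w := by
  rw [QuadraticMap.polar_comm, polar_mulVec_left Q M Mi hM hM1, QuadraticMap.polar_comm]

theorem transpose_gram_mul (g : ↥(Cfsg.isometryGroup F ⇑Q)) :
    ((g : GL (Fin n) F) : Mn)ᵀ * gram Q * ((g : GL (Fin n) F) : Mn) = gram Q := by
  have h1 : LinearMap.BilinForm.comp (QuadraticMap.polarBilin Q)
      (Matrix.toLin' ((g : GL (Fin n) F) : Mn))
      (Matrix.toLin' ((g : GL (Fin n) F) : Mn)) = QuadraticMap.polarBilin Q := by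
    apply LinearMap.BilinForm.ext
    intro v w
    rw [LinearMap.BilinForm.comp_apply, QuadraticMap.polarBilin_apply_apply,
      QuadraticMap.polarBilin_apply_apply, Matrix.toLin'_apply, Matrix.toLin'_apply]
    exact polar_act Q g _ _
  have h2 := LinearMap.BilinForm.toMatrix'_comp (QuadraticMap.polarBilin Q)
    (Matrix.toLin' ((g : GL (Fin n) F) : Mn)) (Matrix.toLin' ((g : GL (Fin n) F) : Mn))
  rw [h1, LinearMap.toMatrix'_toLin'] at h2
  exact h2.symm

theorem adj_isometry (M Mi : Mn) (hM : M = gram Q) (hM2 : Mi * M = 1)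
    (g : ↥(Cfsg.isometryGroup F ⇑Q)) :
    adj M Mi ((g : GL (Fin n) F) : Mn) = ((g⁻¹ : ↥(Cfsg.isometryGroup F ⇑Q)) : GL (Fin n) F) := by
  have h := transpose_gram_mul Q g
  rw [← hM] at h
  have hinv : ((g : GL (Fin n) F) : Mn) * ((g⁻¹ : ↥(Cfsg.isometryGroup F ⇑Q)) : GL (Fin n) F) = 1 := by
    rw [Subgroup.coe_inv, ← Units.val_mul, mul_inv_cancel, Units.val_one]
  unfold adj
  calc Mi * ((g : GL (Fin n) F) : Mn)ᵀ * M
      = Mi * ((g : GL (Fin n) F) : Mn)ᵀ * M * (((g : GL (Fin n) F) : Mn) *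
          ((g⁻¹ : ↥(Cfsg.isometryGroup F ⇑Q)) : GL (Fin n) F)) := by rw [hinv, Matrix.mul_one]
    _ = Mi * (((g : GL (Fin n) F) : Mn)ᵀ * M * ((g : GL (Fin n) F) : Mn)) *
          ((g⁻¹ : ↥(Cfsg.isometryGroup F ⇑Q)) : GL (Fin n) F) := by simp only [Matrix.mul_assoc]
    _ = ((g⁻¹ : ↥(Cfsg.isometryGroup F ⇑Q)) : GL (Fin n) F) := by
        rw [h, hM2, Matrix.one_mul]

/-- for an isometry `b`: `Q (b x - x) = - P (b x - x) x` -/
theorem Q_sub_self (b : ↥(Cfsg.isometryGroup F ⇑Q)) (x : Fin n → F) :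
    Q (act Q b x - x) = - P (act Q b x - x) x := by
  rw [Cfsg.Agent.S0750.Q_sub', Q_act, QuadraticMap.polar_sub_left, Cfsg.Agent.S0750.polar_self']
  ring

end Cfsg.Agent.Lib.H11.OrthConj
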