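import Mathlib
import Cfsg.Agent.Lib.H11.OrthConj3

set_option autoImplicit false
set_option maxHeartbeats 800000

/-!
# Odd-order semisimple orthogonal elements: conjugacy in `O(Q)` is controlled by `GL` (main step)
-/

namespace Cfsg.Agent.Lib.H11.OrthConj

open Matrix
open Cfsg.Agent.Lib.H11.CD Cfsg.Agent.Lib.H11.SiegelGen

variable {F : Type*} [Field F] {n : ℕ} (Q : QuadraticForm F (Fin n → F))

local notation "Mn" => Matrix (Fin n) (Fin n) F

set_option quotPrecheck false in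
local notation "P" => QuadraticMap.polar (⇑Q)

theorem conj_of_matrix_conj [Fintype F] (hQ : (QuadraticMap.polarBilin Q).Nondegenerate)
    (A B : ↥(Cfsg.isometryGroup F ⇑Q)) (m : ℕ) (hodd : Odd m) (hmF : (m : F) ≠ 0)
    (hAm : A ^ m = 1) (c ci : Mn) (hc1 : c * ci = 1) (hc2 : ci * c = 1)
    (hcA : c * ((A : GL (Fin n) F) : Mn) = ((B : GL (Fin n) F) : Mn) * c) :
    ∃ t : ↥(Cfsg.isometryGroup F ⇑Q), t * A = B * t := by
  classical
  -- Gram matrix
  obtain ⟨M, hM⟩ : ∃ M : Mn, M = gram Q := ⟨_, rfl⟩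
  have hdet : IsUnit M.det := by rw [hM]; exact (gram_det_ne_zero Q hQ).isUnit
  obtain ⟨Mi, hMi⟩ : ∃ Mi : Mn, Mi = M⁻¹ := ⟨_, rfl⟩
  have hM1 : M * Mi = 1 := by rw [hMi]; exact Matrix.mul_nonsing_inv M hdet
  have hM2 : Mi * M = 1 := by rw [hMi]; exact Matrix.nonsing_inv_mul M hdet
  have hMs : Mᵀ = M := by rw [hM]; exact gram_transpose Q
  -- the matrices
  obtain ⟨a, ha⟩ : ∃ a : Mn, a = ((A : GL (Fin n) F) : Mn) := ⟨_, rfl⟩
  obtain ⟨ai, hai⟩ : ∃ ai : Mn,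
      ai = ((A⁻¹ : ↥(Cfsg.isometryGroup F ⇑Q)) : GL (Fin n) F) := ⟨_, rfl⟩
  obtain ⟨b, hb⟩ : ∃ b : Mn, b = ((B : GL (Fin n) F) : Mn) := ⟨_, rfl⟩
  obtain ⟨bi, hbi⟩ : ∃ bi : Mn,
      bi = ((B⁻¹ : ↥(Cfsg.isometryGroup F ⇑Q)) : GL (Fin n) F) := ⟨_, rfl⟩
  have ha1 : a * ai = 1 := by
    rw [ha, hai, Subgroup.coe_inv, ← Units.val_mul, mul_inv_cancel, Units.val_one]
  have ha2 : ai * a = 1 := mul_eq_one_comm.mp ha1
  have hb1 : b * bi = 1 := by
    rw [hb, hbi, Subgroup.coe_inv, ← Units.val_mul, mul_inv_cancel, Units.val_one]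
  have hb2 : bi * b = 1 := mul_eq_one_comm.mp hb1
  have hadja : adj M Mi a = ai := by rw [ha, hai]; exact adj_isometry Q M Mi hM hM2 A
  have hadjb : adj M Mi b = bi := by rw [hb, hbi]; exact adj_isometry Q M Mi hM hM2 B
  have ham : a ^ m = 1 := by
    have := congrArg (fun g : ↥(Cfsg.isometryGroup F ⇑Q) => ((g : GL (Fin n) F) : Mn)) hAm
    simp only [Subgroup.coe_pow, Units.val_pow_eq_pow_val, Subgroup.coe_one, Units.val_one] at this
    rw [ha]; exact this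
  have hactA : ∀ v, act Q A v = a *ᵥ v := fun v => by rw [ha]; rfl
  have hactB : ∀ v, act Q B v = b *ᵥ v := fun v => by rw [hb]; rfl
  rw [← ha, ← hb] at hcA
  -- the Hermitian-type element `H`
  obtain ⟨H, hH⟩ : ∃ H : Mn, H = adj M Mi c * c := ⟨_, rfl⟩
  obtain ⟨Hi, hHi⟩ : ∃ Hi : Mn, Hi = ci * adj M Mi ci := ⟨_, rfl⟩
  have hH1 : H * Hi = 1 := by
    have e : adj M Mi c * adj M Mi ci = 1 := by
      rw [← adj_mul M Mi hM1, hc2, adj_one M Mi hM2]
    calc H * Hi = adj M Mi c * (c * ci) * adj M Mi ci := by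
          rw [hH, hHi]; simp only [Matrix.mul_assoc]
      _ = 1 := by rw [hc1, Matrix.mul_one, e]
  have hH2 : Hi * H = 1 := mul_eq_one_comm.mp hH1
  have hadjH : adj M Mi H = H := by
    rw [hH, adj_mul M Mi hM1, adj_adj M Mi hM1 hM2 hMs]
  have hcb : adj M Mi c * b = a * adj M Mi c := by
    have h1 := congrArg (adj M Mi) hcA
    rw [adj_mul M Mi hM1, adj_mul M Mi hM1, hadja, hadjb] at h1
    -- h1 : ai * adj c = adj c * bi
    calc adj M Mi c * b = (a * ai) * adj M Mi c * b := by rw [ha1, Matrix.one_mul]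
      _ = a * (ai * adj M Mi c) * b := by simp only [Matrix.mul_assoc]
      _ = a * (adj M Mi c * bi) * b := by rw [h1]
      _ = a * adj M Mi c * (bi * b) := by simp only [Matrix.mul_assoc]
      _ = a * adj M Mi c := by rw [hb2, Matrix.mul_one]
  have hHa : H * a = a * H := by
    calc H * a = adj M Mi c * (c * a) := by rw [hH, Matrix.mul_assoc]
      _ = (adj M Mi c * b) * c := by rw [hcA, Matrix.mul_assoc]
      _ = a * H := by rw [hcb, hH, Matrix.mul_assoc]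
  obtain ⟨C, Ci, y, hC1, hC2, hCia, hG, hadje, hy⟩ := exists_partial_norm M Mi a ai H Hi hM1 hM2
    hMs ha1 ha2 hadja m hodd hmF ham hH1 hH2 hadjH hHa
  obtain ⟨e, he⟩ : ∃ e : Mn, e = 1 - (m : F)⁻¹ • ∑ i ∈ Finset.range m, a ^ i := ⟨_, rfl⟩
  rw [← he] at hG hadje hy
  -- `e (a - 1) = a - 1`, `a (1 - e) = 1 - e`
  have hea : e * (a - 1) = a - 1 := by
    rw [he, Matrix.sub_mul, Matrix.one_mul, Matrix.smul_mul, geom_sum_mul, ham, sub_self,
      smul_zero, sub_zero]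
  have hae : a * (1 - e) = 1 - e := by
    have h1 : (a - 1) * ∑ i ∈ Finset.range m, a ^ i = 0 := by rw [mul_geom_sum, ham, sub_self]
    have h2 : a * ∑ i ∈ Finset.range m, a ^ i = ∑ i ∈ Finset.range m, a ^ i := by
      rw [Matrix.sub_mul, Matrix.one_mul, sub_eq_zero] at h1
      exact h1
    rw [he, sub_sub_cancel, Matrix.mul_smul, h2]
  -- the twisted conjugator
  obtain ⟨h₀, hh₀⟩ : ∃ h₀ : Mn, h₀ = c * Ci := ⟨_, rfl⟩
  obtain ⟨h₀i, hh₀i⟩ : ∃ h₀i : Mn, h₀i = C * ci := ⟨_, rfl⟩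
  have hh1 : h₀ * h₀i = 1 := by
    calc h₀ * h₀i = c * (Ci * C) * ci := by rw [hh₀, hh₀i]; simp only [Matrix.mul_assoc]
      _ = 1 := by rw [hC2, Matrix.mul_one, hc1]
  have hh2 : h₀i * h₀ = 1 := mul_eq_one_comm.mp hh1
  have hh₀a : h₀ * a = b * h₀ := by
    calc h₀ * a = c * (Ci * a) := by rw [hh₀, Matrix.mul_assoc]
      _ = (c * a) * Ci := by rw [hCia, Matrix.mul_assoc]
      _ = b * h₀ := by rw [hcA, hh₀, Matrix.mul_assoc]
  have hh₀a' : h₀ * (a - 1) = (b - 1) * h₀ := by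
    rw [Matrix.mul_sub, Matrix.sub_mul, hh₀a, Matrix.mul_one, Matrix.one_mul]
  have hGe : adj M Mi h₀ * h₀ * e = e := by
    rw [hh₀, adj_mul M Mi hM1]
    calc adj M Mi Ci * adj M Mi c * (c * Ci) * e = adj M Mi Ci * (adj M Mi c * c) * Ci * e := by
          simp only [Matrix.mul_assoc]
      _ = e := by rw [← hH, hG]
  have heG : e * (adj M Mi h₀ * h₀) = e := by
    have h1 := congrArg (adj M Mi) hGe
    rw [adj_mul M Mi hM1, adj_mul M Mi hM1, adj_adj M Mi hM1 hM2 hMs, hadje] at h1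
    exact h1
  -- `h₀` preserves the polar form against vectors in the range of `e`
  have step7 : ∀ v' w : Fin n → F, P (h₀ *ᵥ (e *ᵥ v')) (h₀ *ᵥ w) = P (e *ᵥ v') w := by
    intro v' w
    rw [polar_mulVec_left Q M Mi hM hM1 h₀, polar_mulVec_left Q M Mi hM hM1 e, hadje,
      Matrix.mulVec_mulVec, Matrix.mulVec_mulVec, Matrix.mul_assoc, heG,
      polar_mulVec_left Q M Mi hM hM1 e v' w, hadje]
  -- `h₀` preserves `Q` on the range of `e`
  have step8 : ∀ v' : Fin n → F, Q (h₀ *ᵥ (e *ᵥ v')) = Q (e *ᵥ v') := by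
    intro v'
    have e1 : e *ᵥ v' = act Q A (y *ᵥ v') - y *ᵥ v' := by
      rw [hactA, ← hy, ← Matrix.mulVec_mulVec, Matrix.sub_mulVec, Matrix.one_mulVec]
    have e2 : h₀ *ᵥ (e *ᵥ v') = act Q B (h₀ *ᵥ (y *ᵥ v')) - h₀ *ᵥ (y *ᵥ v') := by
      rw [hactB, ← hy, Matrix.mulVec_mulVec, ← Matrix.mul_assoc, hh₀a', ← Matrix.mulVec_mulVec,
        ← Matrix.mulVec_mulVec, Matrix.sub_mulVec, Matrix.one_mulVec]
    have e3 : Q (h₀ *ᵥ (e *ᵥ v')) = - P (h₀ *ᵥ (e *ᵥ v')) (h₀ *ᵥ (y *ᵥ v')) := by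
      conv_lhs => rw [e2]
      rw [Q_sub_self, ← e2]
    have e4 : Q (e *ᵥ v') = - P (e *ᵥ v') (y *ᵥ v') := by
      conv_lhs => rw [e1]
      rw [Q_sub_self, ← e1]
    rw [e3, e4, step7]
  -- a basis of the range of `e`
  let W : Submodule F (Fin n → F) := LinearMap.range (Matrix.toLin' e)
  let bW := Module.finBasis F W
  have hxW : ∀ i, ∃ v', ((bW i : W) : Fin n → F) = e *ᵥ v' := by
    intro i
    obtain ⟨v', hv'⟩ := (bW i).2
    exact ⟨v', by rw [← hv', Matrix.toLin'_apply]⟩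
  have hx : LinearIndependent F (fun i => ((bW i : W) : Fin n → F)) :=
    bW.linearIndependent.map' W.subtype (Submodule.ker_subtype W)
  have hker : LinearMap.ker (Matrix.toLin' h₀) = ⊥ := by
    rw [LinearMap.ker_eq_bot]
    apply Function.LeftInverse.injective (g := Matrix.toLin' h₀i)
    intro v
    rw [Matrix.toLin'_apply, Matrix.toLin'_apply, Matrix.mulVec_mulVec, hh2, Matrix.one_mulVec]
  have hy' : LinearIndependent F (fun i => h₀ *ᵥ ((bW i : W) : Fin n → F)) := by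
    have := hx.map' (Matrix.toLin' h₀) hker
    exact this
  obtain ⟨g, hgQ, hgx⟩ := Cfsg.Agent.S0750.witt_family Q hQ _
    (fun i => ((bW i : W) : Fin n → F)) (fun i => h₀ *ᵥ ((bW i : W) : Fin n → F)) hx hy'
    (fun i => by
      obtain ⟨v', hv'⟩ := hxW i
      rw [hv']; exact step8 v')
    (fun i j => by
      obtain ⟨v', hv'⟩ := hxW i
      rw [hv']; exact step7 v' _)
  have hgP : ∀ u v, P (g u) (g v) = P u v :=
    Cfsg.Agent.S0750.polar_of_isometry Q (g : (Fin n → F) →ₗ[F] (Fin n → F)) hgQ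
  have hgW : ∀ v' : Fin n → F, g (e *ᵥ v') = h₀ *ᵥ (e *ᵥ v') := by
    have h1 : (g : (Fin n → F) →ₗ[F] (Fin n → F)) ∘ₗ W.subtype =
        (Matrix.toLin' h₀) ∘ₗ W.subtype := by
      apply bW.ext
      intro i
      rw [LinearMap.comp_apply, LinearMap.comp_apply, Submodule.subtype_apply,
        Matrix.toLin'_apply]
      exact hgx i
    intro v'
    have hmem : e *ᵥ v' ∈ W := ⟨v', Matrix.toLin'_apply _ _⟩
    have := LinearMap.congr_fun h1 ⟨e *ᵥ v', hmem⟩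
    rw [LinearMap.comp_apply, LinearMap.comp_apply, Submodule.subtype_apply,
      Matrix.toLin'_apply] at this
    exact this
  -- `g` intertwines `a` and `b` on the range of `e`
  have hg_e : ∀ v : Fin n → F, g (a *ᵥ (e *ᵥ v)) = b *ᵥ (g (e *ᵥ v)) := by
    intro v
    have e0 : a * e = e * ((a - 1) * (a * y)) := by
      calc a * e = a * ((a - 1) * y) := by rw [hy]
        _ = (a - 1) * (a * y) := by noncomm_ring
        _ = (e * (a - 1)) * (a * y) := by rw [hea]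
        _ = e * ((a - 1) * (a * y)) := by rw [Matrix.mul_assoc]
    have e1 : a *ᵥ (e *ᵥ v) = e *ᵥ (((a - 1) * (a * y)) *ᵥ v) := by
      rw [Matrix.mulVec_mulVec, Matrix.mulVec_mulVec, e0]
    rw [e1, hgW, ← e1, hgW, Matrix.mulVec_mulVec, hh₀a, ← Matrix.mulVec_mulVec]
  -- `g` maps the fixed space of `a` to the fixed space of `b`
  have hg_f : ∀ v : Fin n → F, b *ᵥ (g ((1 - e) *ᵥ v)) = g ((1 - e) *ᵥ v) := by
    intro v
    set v₁ := (1 - e) *ᵥ v with hv₁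
    have hav₁ : a *ᵥ v₁ = v₁ := by rw [hv₁, Matrix.mulVec_mulVec, hae]
    rw [← sub_eq_zero]
    apply hQ.1
    intro w
    change P (b *ᵥ g v₁ - g v₁) w = 0
    -- `w = b (bi w)`
    have hw : w = act Q B (bi *ᵥ w) := by
      rw [hactB, Matrix.mulVec_mulVec, hb1, Matrix.one_mulVec]
    have e1 : P (b *ᵥ g v₁) w = P (g v₁) (bi *ᵥ w) := by
      conv_lhs => rw [hw, ← hactB]
      exact polar_act Q B _ _
    rw [QuadraticMap.polar_sub_left, e1, ← QuadraticMap.polar_sub_right]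
    -- `bi w - w = h₀ ((a - 1) z₃)` with `z₃ = - h₀i (bi w)`
    have e2 : bi *ᵥ w - w = g (e *ᵥ ((a - 1) *ᵥ (h₀i *ᵥ (-(bi *ᵥ w))))) := by
      rw [hgW, Matrix.mulVec_mulVec _ e, hea, Matrix.mulVec_mulVec _ h₀, hh₀a',
        ← Matrix.mulVec_mulVec, Matrix.mulVec_mulVec _ h₀, hh1, Matrix.one_mulVec,
        Matrix.sub_mulVec, Matrix.one_mulVec, Matrix.mulVec_neg, Matrix.mulVec_mulVec, hb1,
        Matrix.one_mulVec]
      abel
    rw [e2, hgP, Matrix.mulVec_mulVec _ e, hea, Matrix.sub_mulVec, Matrix.one_mulVec,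
      QuadraticMap.polar_sub_right]
    have e3 : P v₁ (a *ᵥ (h₀i *ᵥ (-(bi *ᵥ w)))) = P v₁ (h₀i *ᵥ (-(bi *ᵥ w))) := by
      conv_lhs => rw [← hav₁, ← hactA, ← hactA]
      exact polar_act Q A _ _
    rw [e3, sub_self]
  -- the isometry
  refine ⟨elOfEquiv Q g hgQ, ?_⟩
  have hact : ∀ x, ((elOfEquiv Q g hgQ : ↥(Cfsg.isometryGroup F ⇑Q)) : GL (Fin n) F).1 *ᵥ x
      = g x := fun x => elOfEquiv_act Q g hgQ x
  apply Subtype.ext
  apply Units.ext
  rw [Subgroup.coe_mul, Subgroup.coe_mul, Units.val_mul, Units.val_mul, ← ha, ← hb]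
  apply Matrix.mulVec_injective
  funext v
  rw [← Matrix.mulVec_mulVec, ← Matrix.mulVec_mulVec]
  change ((elOfEquiv Q g hgQ : ↥(Cfsg.isometryGroup F ⇑Q)) : GL (Fin n) F).1 *ᵥ (a *ᵥ v) =
    b *ᵥ (((elOfEquiv Q g hgQ : ↥(Cfsg.isometryGroup F ⇑Q)) : GL (Fin n) F).1 *ᵥ v)
  rw [hact, hact]
  have hv : v = (1 - e) *ᵥ v + e *ᵥ v := by
    rw [← Matrix.add_mulVec, sub_add_cancel, Matrix.one_mulVec]
  have hav : a *ᵥ v = (1 - e) *ᵥ v + a *ᵥ (e *ᵥ v) := by
    conv_lhs => rw [hv]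
    rw [Matrix.mulVec_add, Matrix.mulVec_mulVec _ a (1 - e), hae]
  rw [hav, map_add, hg_e]
  conv_rhs => rw [hv]
  rw [map_add, Matrix.mulVec_add, hg_f]

end Cfsg.Agent.Lib.H11.OrthConj
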