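import Mathlib
import Cfsg.Agent.Lib.H11.EOB3

/-!
# Maximal element order of `PGU_d(q)`, part 1: twisted self-reciprocal polynomials (helper11)

For a field automorphism `σ` of `F`, `star σ f = (f.map σ).reverse`. A polynomial `μ` with `μ(0) ≠ 0` is
twisted self-reciprocal (`TSR`) if `star σ μ = C c * μ`. Peeling lemmas parallel to `EOB3`.
-/

set_option autoImplicit false

namespace Cfsg.Agent.Lib.H11.PGU

open Polynomial Cfsg.Agent.Lib.H11.EOB

variable {F : Type*} [Field F] (σ : F ≃+* F)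

/-- twisted reciprocal polynomial -/
noncomputable def star (f : F[X]) : F[X] := (f.map (σ : F →+* F)).reverse

/-- twisted self-reciprocal with nonzero constant term -/
def TSR (μ : F[X]) : Prop := μ.coeff 0 ≠ 0 ∧ ∃ c : F, c ≠ 0 ∧ star σ μ = C c * μ

theorem sigma_inj : Function.Injective (σ : F →+* F) := σ.injective

theorem map_ne_zero' {f : F[X]} (h : f ≠ 0) : f.map (σ : F →+* F) ≠ 0 :=
  (Polynomial.map_ne_zero_iff (sigma_inj σ)).mpr h

theorem coeff_zero_map_ne {f : F[X]} (h : f.coeff 0 ≠ 0) : (f.map (σ : F →+* F)).coeff 0 ≠ 0 := by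
  rw [coeff_map]
  intro h'
  apply h
  have : (σ : F →+* F) (f.coeff 0) = (σ : F →+* F) 0 := by rw [h', map_zero]
  exact sigma_inj σ this

theorem star_mul (f g : F[X]) : star σ (f * g) = star σ f * star σ g := by
  unfold star
  rw [Polynomial.map_mul, reverse_mul_of_domain]

theorem star_pow (f : F[X]) (e : ℕ) : star σ (f ^ e) = star σ f ^ e := by
  unfold star
  rw [Polynomial.map_pow, reverse_pow']

theorem natDegree_star_of {f : F[X]} (h : f.coeff 0 ≠ 0) : (star σ f).natDegree = f.natDegree := by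
  unfold star
  rw [natDegree_reverse_of (coeff_zero_map_ne σ h), natDegree_map_eq_of_injective (sigma_inj σ)]

theorem reverse_map' (f : F[X]) :
    (f.map (σ : F →+* F)).reverse = (f.reverse).map (σ : F →+* F) := by
  ext k
  rw [coeff_reverse, coeff_map, coeff_map, coeff_reverse,
    natDegree_map_eq_of_injective (sigma_inj σ)]

theorem star_ne_zero {f : F[X]} (h : f ≠ 0) : star σ f ≠ 0 := by
  unfold star
  rw [Ne, reverse_eq_zero]
  exact map_ne_zero' σ h

theorem coeff_zero_star_ne {f : F[X]} (h : f ≠ 0) : (star σ f).coeff 0 ≠ 0 :=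
  coeff_zero_reverse_ne (map_ne_zero' σ h)

theorem star_dvd_star {f g : F[X]} (h : f ∣ g) : star σ f ∣ star σ g :=
  reverse_dvd_reverse (Polynomial.map_dvd _ h)

theorem star_star_of (hσ2 : ∀ a, σ (σ a) = a) {f : F[X]} (h : f.coeff 0 ≠ 0) :
    star σ (star σ f) = f := by
  unfold star
  rw [← reverse_map' σ (f.map (σ : F →+* F)), Polynomial.map_map]
  have : ((σ : F →+* F).comp (σ : F →+* F)) = RingHom.id F := by
    ext a
    simp [hσ2]
  rw [this, Polynomial.map_id, reverse_reverse_of h]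

theorem irreducible_map {f : F[X]} (hf : Irreducible f) : Irreducible (f.map (σ : F →+* F)) := by
  have h := (MulEquiv.irreducible_iff (Polynomial.mapEquiv σ) (x := f)).mpr hf
  simpa [Polynomial.mapEquiv_apply] using h

theorem irreducible_star {f : F[X]} (hf : Irreducible f) (h0 : f.coeff 0 ≠ 0) :
    Irreducible (star σ f) :=
  irreducible_reverse (irreducible_map σ hf) (coeff_zero_map_ne σ h0)

theorem TSR.ne_zero {μ : F[X]} (h : TSR σ μ) : μ ≠ 0 := by
  intro h0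
  exact h.1 (by rw [h0]; simp)

/-- cancelling a twisted self-reciprocal factor -/
theorem TSR_of_mul {μ h μ' : F[X]} (hμ : TSR σ μ) (e : μ = h * μ') (u : F) (hu : u ≠ 0)
    (hh : star σ h = C u * h) : TSR σ μ' := by
  obtain ⟨h0, c, hc, hrev⟩ := hμ
  have hh0 : h ≠ 0 := by
    rintro rfl
    rw [zero_mul] at e
    rw [e] at h0
    simp at h0
  refine ⟨coeff_zero_ne_of_dvd' h0 μ' e, c / u, div_ne_zero hc hu, ?_⟩
  rw [e, star_mul, hh] at hrev
  have : h * (C u * star σ μ') = h * (C c * μ') := by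
    linear_combination hrev
  have h2 := mul_left_cancel₀ hh0 this
  have h3 : C (u⁻¹) * (C u * star σ μ') = star σ μ' := by
    rw [← mul_assoc, ← C_mul, inv_mul_cancel₀ hu, C_1, one_mul]
  rw [← h3, h2, ← mul_assoc, ← C_mul, div_eq_inv_mul]

theorem TSR_of_pow_mul {μ h μ' : F[X]} (hμ : TSR σ μ) (k : ℕ) (e : μ = h ^ k * μ') (u : F)
    (hu : u ≠ 0) (hh : star σ h = C u * h) : TSR σ μ' := by
  refine TSR_of_mul σ hμ e (u ^ k) (pow_ne_zero _ hu) ?_
  rw [star_pow, hh, mul_pow, C_pow]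

theorem peel_tsr {μ f : F[X]} (hμ : TSR σ μ) (hf : Irreducible f) (hfμ : f ∣ μ)
    (hsr : f ∣ star σ f) :
    ∃ (e : ℕ) (μ' : F[X]), 1 ≤ e ∧ μ = f ^ e * μ' ∧ ¬ f ∣ μ' ∧ TSR σ μ' := by
  obtain ⟨e, μ', hnd, he⟩ := WfDvdMonoid.max_power_factor (TSR.ne_zero σ hμ) hf
  have hf0 : f.coeff 0 ≠ 0 := coeff_zero_ne_of_dvd hfμ hμ.1
  have he1 : 1 ≤ e := by
    rcases Nat.eq_zero_or_pos e with rfl | h
    · exfalso
      rw [pow_zero, one_mul] at he
      exact hnd (he ▸ hfμ)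
    · exact h
  obtain ⟨g, hg⟩ := hsr
  have hrne : star σ f ≠ 0 := star_ne_zero σ hf.ne_zero
  have hg0 : g ≠ 0 := by
    rintro rfl
    rw [mul_zero] at hg
    exact hrne hg
  have hdeg : g.natDegree = 0 := by
    have := natDegree_mul hf.ne_zero hg0
    rw [← hg, natDegree_star_of σ hf0] at this
    omega
  have hgC := eq_C_of_natDegree_eq_zero hdeg
  have hu : g.coeff 0 ≠ 0 := by
    intro h
    rw [h, C_0] at hgC
    exact hg0 hgC
  refine ⟨e, μ', he1, he, hnd, TSR_of_pow_mul σ hμ e he (g.coeff 0) hu ?_⟩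
  rw [hg, hgC, mul_comm]
  simp

theorem peel_ntsr (hσ2 : ∀ a, σ (σ a) = a) {μ f : F[X]} (hμ : TSR σ μ) (hf : Irreducible f)
    (hfμ : f ∣ μ) (hnsr : ¬ f ∣ star σ f) :
    ∃ (e : ℕ) (μ' : F[X]), 1 ≤ e ∧ μ = (f * star σ f) ^ e * μ' ∧ IsCoprime (f * star σ f) μ' ∧
      TSR σ μ' := by
  obtain ⟨e, μ₁, hnd, he⟩ := WfDvdMonoid.max_power_factor (TSR.ne_zero σ hμ) hf
  have hf0 : f.coeff 0 ≠ 0 := coeff_zero_ne_of_dvd hfμ hμ.1
  have he1 : 1 ≤ e := by
    rcases Nat.eq_zero_or_pos e with rfl | h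
    · exfalso
      rw [pow_zero, one_mul] at he
      exact hnd (he ▸ hfμ)
    · exact h
  obtain ⟨h0, c, hc, hrev⟩ := hμ
  have hcu : IsUnit (C c : F[X]) := isUnit_C.mpr (IsUnit.mk0 _ hc)
  obtain ⟨g, hgdef⟩ : ∃ g, g = star σ f := ⟨_, rfl⟩
  rw [← hgdef]
  rw [← hgdef] at hnsr
  have hgirr : Irreducible g := hgdef ▸ irreducible_star σ hf hf0
  have hgg : star σ g = f := hgdef ▸ star_star_of σ hσ2 hf0
  have hge : g ^ e ∣ μ := by
    have h1 : star σ (f ^ e) ∣ star σ μ := star_dvd_star σ (Dvd.intro _ he.symm)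
    rw [star_pow, hrev, ← hgdef] at h1
    exact (hcu.dvd_mul_left).mp h1
  have hcop : IsCoprime f g := hf.coprime_iff_not_dvd.mpr hnsr
  have hge1 : g ^ e ∣ μ₁ := by
    rw [he] at hge
    exact (hcop.symm.pow (m := e) (n := e)).dvd_of_dvd_mul_left hge
  obtain ⟨μ', hμ'⟩ := hge1
  have hmain : μ = (f * g) ^ e * μ' := by
    rw [he, hμ', mul_pow, mul_assoc]
  have hnf : ¬ f ∣ μ' := fun h => hnd (hμ' ▸ h.mul_left _)
  have hng : ¬ g ∣ μ' := by
    intro h
    obtain ⟨k, hk⟩ := h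
    have h1 : g ^ (e + 1) ∣ μ := by
      rw [hmain, hk, mul_pow]
      exact Dvd.intro (f ^ e * k) (by ring)
    have h2 := star_dvd_star σ h1
    rw [star_pow, hgg, hrev] at h2
    have h3 : f ^ (e + 1) ∣ μ := (hcu.dvd_mul_left).mp h2
    rw [he, pow_succ] at h3
    have h4 : f ∣ μ₁ := by
      have hfe : f ^ e ≠ 0 := pow_ne_zero _ hf.ne_zero
      exact (mul_dvd_mul_iff_left hfe).mp h3
    exact hnd h4
  refine ⟨e, μ', he1, hmain, ?_, ?_⟩
  · exact IsCoprime.mul_left (hf.coprime_iff_not_dvd.mpr hnf) (hgirr.coprime_iff_not_dvd.mpr hng)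
  · refine TSR_of_pow_mul σ ⟨h0, c, hc, hrev⟩ e hmain 1 one_ne_zero ?_
    rw [star_mul, hgg, ← hgdef, C_1, one_mul, mul_comm]

end Cfsg.Agent.Lib.H11.PGU
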