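import Mathlib
import Cfsg.Agent.Lib.H11.PGU1

/-!
# Maximal element order of `PGU_d(q)`, part 2: twisted self-reciprocal irreducible polynomials (helper11)

Over `F` with `|F| = q^2` and `σ a = a^q`: an irreducible `f` with `f ∣ star σ f` has odd degree `c` and
divides `X^(q^c+1) - 1`.
-/

set_option autoImplicit false

namespace Cfsg.Agent.Lib.H11.PGU

open Polynomial Cfsg.Agent.Lib.H11.EOB

variable {F : Type*} [Field F] [Fintype F]

theorem tsr_irr_dvd (q : ℕ) (hF : Fintype.card F = q ^ 2) (σ : F ≃+* F) (hσ : ∀ a, σ a = a ^ q)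
    {f : F[X]} (hf : Irreducible f) (h0 : f.coeff 0 ≠ 0) (hsr : f ∣ star σ f) :
    Odd f.natDegree ∧ f ∣ X ^ (q ^ f.natDegree + 1) - 1 := by
  classical
  obtain ⟨p, hp⟩ := CharP.exists F
  have hpp : Fact p.Prime := ⟨CharP.char_is_prime F p⟩
  obtain ⟨n, -, hn⟩ := FiniteField.card F p
  have hqdvd : q ∣ p ^ (n : ℕ) := by
    rw [← hn, hF]
    exact Dvd.intro_left q (by ring)
  obtain ⟨k, -, hk⟩ := (Nat.dvd_prime_pow hpp.out).mp hqdvd
  have hq0 : q ≠ 0 := by
    rintro rfl
    have := Fintype.card_pos (α := F)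
    rw [hF] at this
    simp at this
  have : Fact (Irreducible f) := ⟨hf⟩
  set K := AdjoinRoot f
  set α : K := AdjoinRoot.root f with hα
  have hfα : f.eval₂ (algebraMap F K) α = 0 := AdjoinRoot.eval₂_root f
  have hα0 : α ≠ 0 := by
    intro h
    rw [hα, ← AdjoinRoot.mk_X, AdjoinRoot.mk_eq_zero] at h
    have := hf.dvd_symm irreducible_X h
    exact h0 (X_dvd_iff.mp this)
  have : Module.Finite F K := (AdjoinRoot.powerBasis hf.ne_zero).finite
  have : Finite K := Module.finite_of_finite F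
  have : Fintype K := Fintype.ofFinite K
  obtain ⟨c, hc⟩ : ∃ c, c = f.natDegree := ⟨_, rfl⟩
  rw [← hc]
  have hd : Module.finrank F K = c := by
    rw [(AdjoinRoot.powerBasis hf.ne_zero).finrank, AdjoinRoot.powerBasis_dim, hc]
  have hcardK : Fintype.card K = q ^ (2 * c) := by
    rw [Module.card_eq_pow_finrank (K := F) (V := K), hd, hF, ← pow_mul]
  have hc1 : 1 ≤ c := hc ▸ hf.natDegree_pos
  have : CharP K p := charP_of_injective_algebraMap (algebraMap F K).injective p
  have : ExpChar K p := ExpChar.prime hpp.out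
  let φ : K →+* K := iterateFrobenius K p k
  have hφ : ∀ x, φ x = x ^ q := fun x => by rw [iterateFrobenius_def, ← hk]
  have hcomp : φ.comp (algebraMap F K) = (algebraMap F K).comp (σ : F →+* F) := by
    ext a
    simp [hφ, hσ]
  have hkey : ∀ x : K, (f.eval₂ (algebraMap F K) x) ^ q =
      (f.map (σ : F →+* F)).eval₂ (algebraMap F K) (x ^ q) := by
    intro x
    rw [← hφ, Polynomial.hom_eval₂, hcomp, hφ, eval₂_map]
  have hinv : (f.map (σ : F →+* F)).eval₂ (algebraMap F K) α⁻¹ = 0 := by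
    let _ : Invertible α⁻¹ := invertibleOfNonzero (inv_ne_zero hα0)
    have hrev : (star σ f).eval₂ (algebraMap F K) α = 0 := by
      obtain ⟨g, hg⟩ := hsr
      rw [hg, eval₂_mul, hfα, zero_mul]
    have := (eval₂_reverse_eq_zero_iff (algebraMap F K) (α⁻¹) (f.map (σ : F →+* F))).mp (by
      have e : ⅟ (α⁻¹) = α := by
        rw [invOf_eq_inv, inv_inv]
      rw [e]; exact hrev)
    exact this
  obtain ⟨β, hβ⟩ : ∃ β : K, β = (α⁻¹) ^ (q ^ (2 * c - 1)) := ⟨_, rfl⟩
  have hβq : β ^ q = α⁻¹ := by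
    rw [hβ, ← pow_mul, ← pow_succ, show 2 * c - 1 + 1 = 2 * c by omega, ← hcardK,
      FiniteField.pow_card]
  have hfβ : f.eval₂ (algebraMap F K) β = 0 := by
    have := hkey β
    rw [hβq, hinv] at this
    exact (pow_eq_zero_iff hq0).mp this
  let τ : K →ₐ[F] K := AdjoinRoot.liftAlgHom f (Algebra.ofId F K) β hfβ
  have hτα : τ α = β := AdjoinRoot.liftAlgHom_root f _ _ _
  obtain ⟨⟨jn, hjn⟩, hj⟩ := (FiniteField.bijective_frobeniusAlgHom_pow F K).2 τ
  simp only at hj
  have hjd : jn < c := by rw [← hd]; exact hjn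
  have hfrob : ∀ x : K, τ x = x ^ (Fintype.card F ^ jn) := by
    intro x
    rw [← hj, AlgHom.coe_pow, FiniteField.coe_frobeniusAlgHom, pow_iterate]
  have h1 : α ^ (q ^ (2 * jn + 1)) = α⁻¹ := by
    have h := hfrob α
    rw [hτα, hF] at h
    calc α ^ (q ^ (2 * jn + 1)) = (α ^ ((q ^ 2) ^ jn)) ^ q := by
          rw [← pow_mul]; congr 1; ring
      _ = β ^ q := by rw [← h]
      _ = α⁻¹ := hβq
  obtain ⟨i, hi⟩ : ∃ i, i = 2 * jn + 1 := ⟨_, rfl⟩
  rw [← hi] at h1
  have h2 : α ^ (q ^ (2 * i)) = α := by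
    have e : q ^ (2 * i) = q ^ i * q ^ i := by ring
    rw [e, pow_mul, h1, inv_pow, h1, inv_inv]
  have h3 : (FiniteField.frobeniusAlgHom F K) ^ i = 1 := by
    apply AdjoinRoot.algHom_ext
    show ((FiniteField.frobeniusAlgHom F K) ^ i) α = α
    rw [AlgHom.coe_pow, FiniteField.coe_frobeniusAlgHom, pow_iterate, hF, ← pow_mul]
    exact h2
  have h4 : c ∣ i := by
    rw [← hd, ← FiniteField.orderOf_frobeniusAlgHom F K]
    exact orderOf_dvd_of_pow_eq_one h3
  have h5 : i = c := by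
    obtain ⟨m, hm⟩ := h4
    have hm1 : m = 1 := by
      rcases Nat.lt_or_ge m 1 with h | h
      · interval_cases m; omega
      · rcases Nat.lt_or_ge 1 m with h' | h'
        · exfalso
          have : c * 2 ≤ c * m := Nat.mul_le_mul_left _ h'
          omega
        · omega
    rw [hm, hm1, mul_one]
  refine ⟨⟨jn, by omega⟩, ?_⟩
  rw [← AdjoinRoot.mk_eq_zero, map_sub, map_pow, map_one, AdjoinRoot.mk_X, ← hα, pow_succ,
    ← h5, h1, inv_mul_cancel₀ hα0, sub_self]

end Cfsg.Agent.Lib.H11.PGU
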