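import Mathlib
import Cfsg.Agent.Lib.H11.PGU2
import Cfsg.Agent.Lib.H11.EOB4

/-!
# Maximal element order of `PGU_d(q)`, part 3: structure of twisted self-reciprocal polynomials (helper11)

Blocks `(false, c)` (`c` odd, `bn = q^c+1`) and `(true, 2c)` (`bn = q^(2c)-1`); the degree of a block is
its second component. `structU`: a `TSR` polynomial `μ` divides `(X^(bL q l) - 1)^(p^T)`, and if there is
only one block `x`, it divides `(X^(bn q x / (q+1)) - C c)^(p^T)`.
-/

set_option autoImplicit false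

namespace Cfsg.Agent.Lib.H11.PGU

open Polynomial Cfsg.Agent.Lib.H11.EOB

variable {F : Type*} [Field F] [Fintype F]

theorem two_le_of_card (q : ℕ) (hF : Fintype.card F = q ^ 2) : 2 ≤ q := by
  by_contra h
  have h1 := Fintype.one_lt_card (α := F)
  rw [hF] at h1
  have : q ≤ 1 := by omega
  interval_cases q <;> simp at h1

theorem exists_primitive_root (q : ℕ) (hF : Fintype.card F = q ^ 2) :
    ∃ ζ : F, IsPrimitiveRoot ζ (q + 1) := by
  classical
  have hq2 : 2 ≤ q := two_le_of_card q hF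
  obtain ⟨g, hg⟩ := IsCyclic.exists_generator (α := Fˣ)
  have hord : orderOf g = q ^ 2 - 1 := by
    rw [orderOf_eq_card_of_forall_mem_zpowers hg, Nat.card_eq_fintype_card, Fintype.card_units, hF]
  have hfac : q ^ 2 - 1 = (q - 1) * (q + 1) := by
    obtain ⟨k, rfl⟩ : ∃ k, q = k + 1 := ⟨q - 1, by omega⟩
    simp only [Nat.add_sub_cancel]
    have : (k + 1) ^ 2 = k * (k + 1 + 1) + 1 := by ring
    rw [this, Nat.add_sub_cancel]
  have hz : orderOf (g ^ (q - 1)) = q + 1 := by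
    rw [orderOf_pow' g (by omega : q - 1 ≠ 0), hord, hfac,
      Nat.gcd_eq_right (Dvd.intro _ rfl), Nat.mul_div_cancel_left _ (by omega : 0 < q - 1)]
  refine ⟨((g ^ (q - 1) : Fˣ) : F), ?_⟩
  rw [IsPrimitiveRoot.coe_units_iff, ← hz]
  exact IsPrimitiveRoot.orderOf _

theorem exists_dvd_sub_C (q : ℕ) (hF : Fintype.card F = q ^ 2) {f : F[X]} (hf : Irreducible f)
    (K' : ℕ) (h : f ∣ X ^ (K' * (q + 1)) - 1) :
    ∃ c : F, c ^ (q + 1) = 1 ∧ f ∣ X ^ K' - C c := by
  classical
  obtain ⟨ζ, hζ⟩ := exists_primitive_root q hF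
  have hfac := X_pow_sub_one_eq_prod (Nat.succ_pos q) hζ
  have h2 : (X : F[X]) ^ (K' * (q + 1)) - 1 =
      ∏ c ∈ nthRootsFinset (q + 1) (1 : F), (X ^ K' - C c) := by
    have := congrArg (fun g : F[X] => g.comp (X ^ K')) hfac
    simp only [sub_comp, pow_comp, X_comp, one_comp, prod_comp, C_comp] at this
    rw [← this, ← pow_mul]
  rw [h2] at h
  obtain ⟨c, hc, hdvd⟩ := (hf.prime.dvd_finsetProd_iff _).mp h
  exact ⟨c, (mem_nthRootsFinset (Nat.succ_pos q) (1 : F)).mp hc, hdvd⟩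

omit [Fintype F] in
theorem star_X_pow_sub_C (σ : F ≃+* F) (K' : ℕ) (c : F) :
    star σ (X ^ K' - C c) = 1 - C (σ c) * X ^ K' := by
  unfold star
  rw [Polynomial.map_sub, Polynomial.map_pow, map_X, map_C, sub_eq_add_neg, ← C_neg, reverse_add_C,
    reverse_pow', reverse_X', one_pow, natDegree_X_pow, C_neg]
  simp only [RingHom.coe_coe]
  ring

theorem add_one_dvd_bn {q : ℕ} (hq : 1 ≤ q) {x : Bool × ℕ}
    (hx : (x.1 = true → Even x.2) ∧ (x.1 = false → Odd x.2)) : q + 1 ∣ bn q x := by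
  obtain ⟨b, c⟩ := x
  cases b
  · have hc : Odd c := hx.2 rfl
    have := Odd.nat_add_dvd_pow_add_pow q 1 hc
    simpa [bn] using this
  · obtain ⟨m, hm⟩ : Even c := hx.1 rfl
    have h1 : q ^ 2 - 1 ∣ (q ^ 2) ^ m - 1 := by
      simpa only [one_pow] using Nat.sub_dvd_pow_sub_pow (q ^ 2) 1 m
    have h2 : q + 1 ∣ q ^ 2 - 1 := by
      obtain ⟨k, rfl⟩ : ∃ k, q = k + 1 := ⟨q - 1, by omega⟩
      refine ⟨k, ?_⟩
      have : (k + 1) ^ 2 = (k + 1 + 1) * k + 1 := by ring
      rw [this, Nat.add_sub_cancel]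
    have h3 : (q ^ 2) ^ m = q ^ c := by rw [← pow_mul, hm]; congr 1; ring
    simp only [bn, if_true]
    rw [← h3]
    exact h2.trans h1

theorem peelU (q : ℕ) (hF : Fintype.card F = q ^ 2) (σ : F ≃+* F) (hσ : ∀ a, σ a = a ^ q)
    {μ : F[X]} (hμ : TSR σ μ) (hdeg : μ.natDegree ≠ 0) :
    ∃ (x : Bool × ℕ) (e : ℕ) (h μ' : F[X]), 1 ≤ x.2 ∧ (x.1 = true → Even x.2) ∧
      (x.1 = false → Odd x.2) ∧ 1 ≤ e ∧ μ = h ^ e * μ' ∧ IsCoprime h μ' ∧ TSR σ μ' ∧
      h.natDegree = x.2 ∧ h ∣ X ^ (bn q x) - 1 ∧ ∃ c : F, h ∣ X ^ (bn q x / (q + 1)) - C c := by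
  have hq2 : 2 ≤ q := two_le_of_card q hF
  have hσ2 : ∀ a, σ (σ a) = a := by
    intro a
    rw [hσ, hσ, ← pow_mul, ← sq, ← hF, FiniteField.pow_card]
  have hnu : ¬ IsUnit μ := fun h => hdeg (natDegree_eq_zero_of_isUnit h)
  obtain ⟨f, hf, hfμ⟩ := WfDvdMonoid.exists_irreducible_factor hnu (TSR.ne_zero σ hμ)
  have hf0 : f.coeff 0 ≠ 0 := coeff_zero_ne_of_dvd hfμ hμ.1
  by_cases hsr : f ∣ star σ f
  · obtain ⟨e, μ', he1, he, hnd, hSR⟩ := peel_tsr σ hμ hf hfμ hsr
    obtain ⟨hodd, hdvd⟩ := tsr_irr_dvd q hF σ hσ hf hf0 hsr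
    have hx : ((false, f.natDegree).1 = true → Even (false, f.natDegree).2) ∧
        ((false, f.natDegree).1 = false → Odd (false, f.natDegree).2) :=
      ⟨fun h => by simp at h, fun _ => hodd⟩
    have hdiv : q + 1 ∣ bn q (false, f.natDegree) := add_one_dvd_bn (by omega) hx
    have hbn : bn q (false, f.natDegree) = q ^ f.natDegree + 1 := by simp [bn]
    refine ⟨(false, f.natDegree), e, f, μ', hf.natDegree_pos, hx.1, hx.2, he1, he,
      hf.coprime_iff_not_dvd.mpr hnd, hSR, rfl, by rw [hbn]; exact hdvd, ?_⟩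
    have h1 : f ∣ X ^ (bn q (false, f.natDegree) / (q + 1) * (q + 1)) - 1 := by
      rw [Nat.div_mul_cancel hdiv, hbn]; exact hdvd
    obtain ⟨c, -, hc⟩ := exists_dvd_sub_C q hF hf _ h1
    exact ⟨c, hc⟩
  · obtain ⟨e, μ', he1, he, hcop, hSR⟩ := peel_ntsr σ hσ2 hμ hf hfμ hsr
    have hgirr : Irreducible (star σ f) := irreducible_star σ hf hf0
    have hgdeg : (star σ f).natDegree = f.natDegree := natDegree_star_of σ hf0
    have hg0 : (star σ f).coeff 0 ≠ 0 := coeff_zero_star_ne σ hf.ne_zero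
    have hx : ((true, 2 * f.natDegree).1 = true → Even (true, 2 * f.natDegree).2) ∧
        ((true, 2 * f.natDegree).1 = false → Odd (true, 2 * f.natDegree).2) :=
      ⟨fun _ => ⟨f.natDegree, by ring⟩, fun h => by simp at h⟩
    have hdiv : q + 1 ∣ bn q (true, 2 * f.natDegree) := add_one_dvd_bn (by omega) hx
    have hbn : bn q (true, 2 * f.natDegree) = Fintype.card F ^ f.natDegree - 1 := by
      simp [bn, hF, pow_mul]
    have hcop' : IsCoprime f (star σ f) := hf.coprime_iff_not_dvd.mpr hsr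
    have d1 := irr_dvd hf hf0
    have d2 := irr_dvd hgirr hg0
    rw [hgdeg] at d2
    refine ⟨(true, 2 * f.natDegree), e, f * star σ f, μ', ?_, hx.1, hx.2, he1, he, hcop, hSR, ?_, ?_,
      ?_⟩
    · have := hf.natDegree_pos
      show 1 ≤ 2 * f.natDegree
      omega
    · rw [natDegree_mul hf.ne_zero hgirr.ne_zero, hgdeg]; ring
    · rw [hbn]
      exact hcop'.mul_dvd d1 d2
    · have h1 : f ∣ X ^ (bn q (true, 2 * f.natDegree) / (q + 1) * (q + 1)) - 1 := by
        rw [Nat.div_mul_cancel hdiv, hbn]; exact d1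
      obtain ⟨c, hc1, hc⟩ := exists_dvd_sub_C q hF hf _ h1
      refine ⟨c, hcop'.mul_dvd hc ?_⟩
      have h2 := star_dvd_star σ hc
      rw [star_X_pow_sub_C] at h2
      have hc0 : c ≠ 0 := by
        rintro rfl
        rw [zero_pow (by omega)] at hc1
        exact zero_ne_one hc1
      have hsc : σ c * c = 1 := by
        rw [hσ, ← pow_succ]; exact hc1
      have hs0 : σ c ≠ 0 := left_ne_zero_of_mul_eq_one hsc
      have e1 : (1 : F[X]) - C (σ c) * X ^ (bn q (true, 2 * f.natDegree) / (q + 1)) =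
          C (-(σ c)) * (X ^ (bn q (true, 2 * f.natDegree) / (q + 1)) - C c) := by
        rw [mul_sub, ← C_mul, neg_mul, hsc, C_neg, C_neg, C_1]
        ring
      rw [e1] at h2
      have hu : IsUnit (C (-(σ c)) : F[X]) := isUnit_C.mpr (IsUnit.mk0 _ (neg_ne_zero.mpr hs0))
      exact (hu.dvd_mul_left).mp h2

/-- **Structure theorem** for twisted self-reciprocal polynomials. -/
theorem structU (p : ℕ) [Fact p.Prime] (q : ℕ) (hF : Fintype.card F = q ^ 2) (σ : F ≃+* F)
    (hσ : ∀ a, σ a = a ^ q) : ∀ (n : ℕ) (μ : F[X]), μ.natDegree = n → TSR σ μ →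
    ∃ (l : List (Bool × ℕ)) (E : ℕ),
      (∀ x ∈ l, 1 ≤ x.2 ∧ (x.1 = true → Even x.2) ∧ (x.1 = false → Odd x.2)) ∧
      bw l + E ≤ μ.natDegree ∧ (μ.natDegree ≠ 0 → l ≠ []) ∧
      (∀ T, E + 1 ≤ p ^ T → μ ∣ (X ^ (bL q l) - 1) ^ (p ^ T)) ∧
      (∀ x, l = [x] → ∃ c : F, ∀ T, E + 1 ≤ p ^ T → μ ∣ (X ^ (bn q x / (q + 1)) - C c) ^ (p ^ T)) := by
  intro n
  induction n using Nat.strong_induction_on with
  | _ n ih =>
    intro μ hn hμ
    by_cases hdeg : μ.natDegree = 0
    · have hμC := eq_C_of_natDegree_eq_zero hdeg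
      have hu : IsUnit μ := by
        rw [hμC]
        exact isUnit_C.mpr (IsUnit.mk0 _ hμ.1)
      refine ⟨[], 0, by simp, by simp, fun h => absurd hdeg h, fun T _ => hu.dvd, ?_⟩
      intro x hx
      simp at hx
    · obtain ⟨x, e, h, μ', hc, hxe, hxo, he, hmul, hcop, hSR', hhdeg, hhdvd, c, hhc⟩ :=
        peelU q hF σ hσ hμ hdeg
      have hh0 : h ≠ 0 := by
        rintro rfl
        rw [zero_pow (by omega), zero_mul] at hmul
        exact TSR.ne_zero σ hμ hmul
      have hμ'0 : μ' ≠ 0 := TSR.ne_zero σ hSR'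
      have hdegμ : μ.natDegree = e * x.2 + μ'.natDegree := by
        rw [hmul, natDegree_mul (pow_ne_zero _ hh0) hμ'0, natDegree_pow, hhdeg]
      have hlt : μ'.natDegree < n := by
        rw [← hn, hdegμ]
        have : 1 * 1 ≤ e * x.2 := Nat.mul_le_mul he hc
        omega
      obtain ⟨l', E', hl', hw', hne', hdiv', hsing'⟩ := ih μ'.natDegree hlt μ' rfl hSR'
      refine ⟨x :: l', max E' (e - 1), ?_, ?_, fun _ => List.cons_ne_nil _ _, ?_, ?_⟩
      · intro y hy
        rcases List.mem_cons.mp hy with rfl | hy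
        · exact ⟨hc, hxe, hxo⟩
        · exact hl' y hy
      · rw [bw_cons, hdegμ]
        have hce : x.2 + (e - 1) ≤ e * x.2 := by
          obtain ⟨e', rfl⟩ : ∃ e', e = e' + 1 := ⟨e - 1, by omega⟩
          obtain ⟨c', hc'⟩ : ∃ c', x.2 = c' + 1 := ⟨x.2 - 1, by omega⟩
          rw [hc']
          simp only [Nat.add_sub_cancel]
          nlinarith
        have hce2 : x.2 ≤ e * x.2 := Nat.le_mul_of_pos_left _ (by omega)
        rcases le_total E' (e - 1) with hm | hm
        · rw [max_eq_right hm]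
          omega
        · rw [max_eq_left hm]
          omega
      · intro T hT
        have hT1 : E' + 1 ≤ p ^ T := le_trans (by
          have := le_max_left E' (e - 1); omega) hT
        have hT2 : e ≤ p ^ T := le_trans (by
          have := le_max_right E' (e - 1); omega) hT
        rw [hmul]
        apply IsCoprime.mul_dvd (hcop.pow_left)
        · calc h ^ e ∣ h ^ (p ^ T) := pow_dvd_pow h hT2
            _ ∣ (X ^ bn q x - 1) ^ (p ^ T) := pow_dvd_pow_of_dvd hhdvd _
            _ ∣ _ := pow_dvd_pow_of_dvd (X_pow_sub_one_dvd_of_dvd (by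
                rw [bL_cons]; exact Nat.dvd_lcm_left _ _)) _
        · calc μ' ∣ _ := hdiv' T hT1
            _ ∣ _ := pow_dvd_pow_of_dvd (X_pow_sub_one_dvd_of_dvd (by
                rw [bL_cons]; exact Nat.dvd_lcm_right _ _)) _
      · intro y hy
        have hl'nil : l' = [] := by
          have := congrArg List.tail hy
          simpa using this
        have hyx : y = x := by
          have := congrArg List.head? hy
          simpa using this.symm
        have hμ'deg : μ'.natDegree = 0 := by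
          by_contra hne
          exact hne' hne hl'nil
        have hμ'u : IsUnit μ' := by
          rw [eq_C_of_natDegree_eq_zero hμ'deg]
          exact isUnit_C.mpr (IsUnit.mk0 _ hSR'.1)
        refine ⟨c, fun T hT => ?_⟩
        have hT2 : e ≤ p ^ T := le_trans (by
          have := le_max_right E' (e - 1); omega) hT
        rw [hmul, hyx, hμ'u.mul_right_dvd]
        calc h ^ e ∣ h ^ (p ^ T) := pow_dvd_pow h hT2
          _ ∣ _ := pow_dvd_pow_of_dvd hhc _

end Cfsg.Agent.Lib.H11.PGU
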