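import Mathlib
import Cfsg.Prelude.Def_LieClassical
import Cfsg.Agent.Lib.H11.PGU3
import Cfsg.Agent.Lib.H11.APM5
import Cfsg.Agent.Lib.H13.AutPSU1

/-!
# Maximal element order of `PGU_d(q)`, part 4: the upper bound in terms of block data (helper11)
-/

set_option autoImplicit false

namespace Cfsg.Agent.Lib.H11.PGU

open Polynomial Matrix Cfsg.Agent.Lib.H11.EOB
open scoped MatrixGroups

variable {F : Type*} [Field F] [Fintype F]

/-- explicit form of the structure theorem -/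
theorem polyU (p : ℕ) [hp : Fact p.Prime] [CharP F p] (q : ℕ) (hF : Fintype.card F = q ^ 2)
    (σ : F ≃+* F) (hσ : ∀ a, σ a = a ^ q) {χ : F[X]} (hχ : TSR σ χ) :
    ∃ (l : List (Bool × ℕ)) (E : ℕ),
      (∀ x ∈ l, 1 ≤ x.2 ∧ (x.1 = true → Even x.2) ∧ (x.1 = false → Odd x.2)) ∧
      bw l + E ≤ χ.natDegree ∧ (χ.natDegree ≠ 0 → l ≠ []) ∧
      (∀ T, E + 1 ≤ p ^ T → χ ∣ X ^ (bL q l * p ^ T) - 1) ∧
      (∀ x, l = [x] → ∀ T, E + 1 ≤ p ^ T → ∃ c : F, χ ∣ X ^ (bn q x / (q + 1) * p ^ T) - C c) := by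
  obtain ⟨l, E, hl, hw, hne, hdiv, hsing⟩ := structU p q hF σ hσ χ.natDegree χ rfl hχ
  refine ⟨l, E, hl, hw, hne, ?_, ?_⟩
  · intro T hT
    have := hdiv T hT
    rwa [sub_pow_char_pow, one_pow, ← pow_mul] at this
  · intro x hx T hT
    obtain ⟨c, hc⟩ := hsing x hx
    refine ⟨c ^ p ^ T, ?_⟩
    have := hc T hT
    rwa [sub_pow_char_pow, ← pow_mul, ← C_pow] at this

omit [Fintype F] in
/-- the characteristic polynomial of a unitary matrix is twisted self-reciprocal -/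
theorem charpoly_TSR {n : ℕ} (σ : F ≃+* F) (g : Matrix (Fin n) (Fin n) F)
    (hg : gᵀ * g.map σ = 1) : TSR σ g.charpoly := by
  have h := Cfsg.Agent.Lib.H11.APM.charpoly_twSR (g.map σ) g (1 : Matrix (Fin n) (Fin n) F)
    isUnit_one (by rw [Matrix.mul_one]; exact hg)
  obtain ⟨h0, u, hu, hrev⟩ := h
  have hmap : (g.map σ).charpoly = g.charpoly.map (σ : F →+* F) := by
    have := Matrix.charpoly_map g (σ : F →+* F)
    rw [← this]
    rfl
  rw [hmap] at h0 hrev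
  refine ⟨?_, u, hu, hrev⟩
  intro h
  apply h0
  rw [coeff_map, h, map_zero]

omit [Fintype F] in
theorem pow_eq_smul_of_dvd {n : ℕ} (A : Matrix (Fin n) (Fin n) F) (N : ℕ) (c : F)
    (hN : A.charpoly ∣ X ^ N - C c) : A ^ N = c • (1 : Matrix (Fin n) (Fin n) F) := by
  have h0 := Matrix.aeval_self_charpoly A
  obtain ⟨k, hk⟩ := hN
  have := congrArg (aeval A) hk
  rw [map_mul, h0, zero_mul, map_sub, map_pow, aeval_X, aeval_C, Algebra.algebraMap_eq_smul_one] at this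
  exact sub_eq_zero.mp this

omit [Fintype F] in
/-- passing to the central quotient, scalar version -/
theorem orderOf_mk_le_of_smul {H : Type*} [Group H] {ι : Type*} [Fintype ι] [DecidableEq ι]
    (φ : H →* Matrix ι ι F) (hφ : Function.Injective φ) (h : H) (N : ℕ) (hN : 1 ≤ N) (c : F)
    (hpow : φ h ^ N = c • (1 : Matrix ι ι F)) :
    orderOf (QuotientGroup.mk h : H ⧸ Subgroup.center H) ≤ N := by
  have hc : h ^ N ∈ Subgroup.center H := by
    rw [Subgroup.mem_center_iff]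
    intro b
    apply hφ
    rw [map_mul, map_mul, map_pow, hpow, Matrix.mul_smul, Matrix.smul_mul, Matrix.mul_one,
      Matrix.one_mul]
  have h1 : (QuotientGroup.mk h : H ⧸ Subgroup.center H) ^ N = 1 := by
    rw [← QuotientGroup.mk_pow, QuotientGroup.eq_one_iff]
    exact hc
  exact Nat.le_of_dvd (by omega) (orderOf_dvd_of_pow_eq_one h1)

/-- **Upper bound**: every element of `PGU_d(q)` has order at most `N`, where `N` comes from block data. -/
theorem pgu_upper (p f q d : ℕ) [hp : Fact p.Prime] (hq : q = p ^ f)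
    (hF : Fintype.card F = q ^ 2) (hd : 1 ≤ d)
    (g : ↥(Cfsg.GU d F q) ⧸ Subgroup.center ↥(Cfsg.GU d F q)) :
    ∃ (l : List (Bool × ℕ)) (E N : ℕ),
      (∀ x ∈ l, 1 ≤ x.2 ∧ (x.1 = true → Even x.2) ∧ (x.1 = false → Odd x.2)) ∧
      bw l + E ≤ d ∧
      ((∃ x, l = [x] ∧ N = bn q x / (q + 1) * p ^ Nat.clog p (E + 1)) ∨
        (2 ≤ l.length ∧ N = bL q l * p ^ Nat.clog p (E + 1))) ∧
      orderOf g ≤ N := by
  classical
  obtain ⟨g, rfl⟩ := QuotientGroup.mk_surjective g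
  obtain ⟨σ, hσ, hσ2⟩ := Cfsg.Agent.Lib.H13.AutPSU.exists_tau hq hF
  have hq2 : 2 ≤ q := two_le_of_card q hF
  haveI : CharP F p := by
    have : Fintype.card F = p ^ (2 * f) := by rw [hF, hq, ← pow_mul, mul_comm]
    exact charP_of_card_eq_prime_pow this
  obtain ⟨G, hG⟩ : ∃ G : Matrix (Fin d) (Fin d) F, G = ((g : GL (Fin d) F) : Matrix (Fin d) (Fin d) F) :=
    ⟨_, rfl⟩
  have hmem := (Cfsg.Agent.Lib.H13.AutPSL.mem_GU_iff_mat σ hσ (g : GL (Fin d) F)).mp g.2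
  rw [← hG] at hmem
  have hTSR := charpoly_TSR σ G hmem
  have hdeg : G.charpoly.natDegree = d := by
    rw [Matrix.charpoly_natDegree_eq_dim, Fintype.card_fin]
  obtain ⟨l, E, hl, hw, hne, hdiv, hsing⟩ := polyU p q hF σ hσ hTSR
  rw [hdeg] at hw hne
  have hlne : l ≠ [] := hne (by omega)
  have hT : E + 1 ≤ p ^ Nat.clog p (E + 1) := Nat.le_pow_clog hp.out.one_lt _
  have hPpos : 0 < p ^ Nat.clog p (E + 1) := Nat.pow_pos hp.out.pos
  let φ : ↥(Cfsg.GU d F q) →* Matrix (Fin d) (Fin d) F :=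
    (Units.coeHom (Matrix (Fin d) (Fin d) F)).comp (Subgroup.subtype _)
  have hφ : Function.Injective φ := by
    intro a b hab
    exact Subtype.ext (Units.ext hab)
  have hφg : φ g = G := by rw [hG]; rfl
  have hl1 : ∀ x ∈ l, 1 ≤ x.2 := fun x hx => (hl x hx).1
  by_cases hlen : 2 ≤ l.length
  · refine ⟨l, E, bL q l * p ^ Nat.clog p (E + 1), hl, hw, Or.inr ⟨hlen, rfl⟩, ?_⟩
    have h1 := hdiv _ hT
    have h2 := pow_eq_smul_of_dvd G _ 1 (by rw [C_1]; exact h1)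
    exact orderOf_mk_le_of_smul φ hφ g _ (Nat.mul_pos (bL_pos hq2 hl1) hPpos) 1 (by rw [hφg]; exact h2)
  · obtain ⟨x, hx⟩ : ∃ x, l = [x] := by
      match l, hlne, hlen with
      | [x], _, _ => exact ⟨x, rfl⟩
      | _ :: _ :: _, _, h => simp at h
    refine ⟨l, E, bn q x / (q + 1) * p ^ Nat.clog p (E + 1), hl, hw, Or.inl ⟨x, hx, rfl⟩, ?_⟩
    obtain ⟨c, hc⟩ := hsing x hx _ hT
    have h2 := pow_eq_smul_of_dvd G _ c hc
    have hxl : x ∈ l := by rw [hx]; simp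
    have hdvd : q + 1 ∣ bn q x := add_one_dvd_bn (by omega) (hl x hxl).2
    have hbpos : 0 < bn q x := bn_pos hq2 (hl x hxl).1
    have hK : 0 < bn q x / (q + 1) :=
      Nat.div_pos (Nat.le_of_dvd hbpos hdvd) (by omega)
    exact orderOf_mk_le_of_smul φ hφ g _ (Nat.mul_pos hK hPpos) c (by rw [hφg]; exact h2)

end Cfsg.Agent.Lib.H11.PGU
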