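import Mathlib
import Cfsg.Agent.Lib.H11.EOB1

set_option autoImplicit false

namespace Cfsg.Agent.Lib.H11.PGU

open Cfsg.Agent.Lib.H11.EOB

/-- `(q^a+1)(q^b+1) ≤ (q+1)(q^(a+b-1)+1)` -/
theorem ineqUU {q a b : ℕ} (hq : 2 ≤ q) (ha : 1 ≤ a) (hb : 1 ≤ b) :
    (q ^ a + 1) * (q ^ b + 1) ≤ (q + 1) * (q ^ (a + b - 1) + 1) := by
  obtain ⟨a', rfl⟩ : ∃ a', a = a' + 1 := ⟨a - 1, by omega⟩
  obtain ⟨b', rfl⟩ : ∃ b', b = b' + 1 := ⟨b - 1, by omega⟩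
  have e : a' + 1 + (b' + 1) - 1 = a' + b' + 1 := by omega
  rw [e]
  have hA : 1 ≤ q ^ a' := Nat.one_le_pow _ _ (by omega)
  have hB : 1 ≤ q ^ b' := Nat.one_le_pow _ _ (by omega)
  obtain ⟨A, hAd⟩ : ∃ A, A = q ^ a' := ⟨_, rfl⟩
  obtain ⟨B, hBd⟩ : ∃ B, B = q ^ b' := ⟨_, rfl⟩
  have e1 : q ^ (a' + 1) = q * A := by rw [hAd, pow_succ]; ring
  have e2 : q ^ (b' + 1) = q * B := by rw [hBd, pow_succ]; ring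
  have e3 : q ^ (a' + b' + 1) = q * (A * B) := by rw [hAd, hBd, pow_succ, pow_add]; ring
  rw [e1, e2, e3]
  rw [← hAd] at hA
  rw [← hBd] at hB
  obtain ⟨A', rfl⟩ : ∃ A', A = A' + 1 := ⟨A - 1, by omega⟩
  obtain ⟨B', rfl⟩ : ∃ B', B = B' + 1 := ⟨B - 1, by omega⟩
  nlinarith [Nat.zero_le (q * A' * B')]

end Cfsg.Agent.Lib.H11.PGU

namespace Cfsg.Agent.Lib.H11.PGU

/-- `(q^a+1)(q^b-1) ≤ (q+1)(q^(a+b-1)-1)` -/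
theorem ineqUL {q a b : ℕ} (hq : 2 ≤ q) (ha : 1 ≤ a) (hb : 2 ≤ b) :
    (q ^ a + 1) * (q ^ b - 1) ≤ (q + 1) * (q ^ (a + b - 1) - 1) := by
  obtain ⟨a', rfl⟩ : ∃ a', a = a' + 1 := ⟨a - 1, by omega⟩
  obtain ⟨b', rfl⟩ : ∃ b', b = b' + 2 := ⟨b - 2, by omega⟩
  have e : a' + 1 + (b' + 2) - 1 = a' + b' + 2 := by omega
  rw [e]
  have h1 : 1 ≤ q ^ (b' + 2) := Nat.one_le_pow _ _ (by omega)
  have h2 : 1 ≤ q ^ (a' + b' + 2) := Nat.one_le_pow _ _ (by omega)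
  have hA : 1 ≤ q ^ a' := Nat.one_le_pow _ _ (by omega)
  have hC : 1 ≤ q ^ b' := Nat.one_le_pow _ _ (by omega)
  zify [h1, h2]
  have hA' : (1 : ℤ) ≤ (q : ℤ) ^ a' := by exact_mod_cast hA
  have hC' : (1 : ℤ) ≤ (q : ℤ) ^ b' := by exact_mod_cast hC
  have hq' : (2 : ℤ) ≤ (q : ℤ) := by exact_mod_cast hq
  obtain ⟨A, hAd⟩ : ∃ A : ℤ, A = (q : ℤ) ^ a' := ⟨_, rfl⟩
  obtain ⟨C, hCd⟩ : ∃ C : ℤ, C = (q : ℤ) ^ b' := ⟨_, rfl⟩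
  obtain ⟨Q, hQd⟩ : ∃ Q : ℤ, Q = (q : ℤ) := ⟨_, rfl⟩
  have e1 : (q : ℤ) ^ (a' + 1) = Q * A := by rw [hAd, hQd, pow_succ]; ring
  have e2 : (q : ℤ) ^ (b' + 2) = Q * Q * C := by rw [hCd, hQd, pow_succ, pow_succ]; ring
  have e3 : (q : ℤ) ^ (a' + b' + 2) = A * (Q * Q * C) := by
    rw [hAd, hCd, hQd, pow_succ, pow_succ, pow_add]; ring
  rw [e1, e2, e3, ← hQd]
  rw [← hAd] at hA'
  rw [← hCd] at hC'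
  rw [← hQd] at hq'
  have hAC : 0 ≤ (A - 1) * (Q * C + 1) := mul_nonneg (by linarith) (by nlinarith)
  nlinarith [mul_nonneg (by linarith : (0:ℤ) ≤ Q) hAC]

/-- `(q^a-1)(q^b-1) ≤ (q+1)(q^(a+b-1)-1)` -/
theorem ineqLL {q a b : ℕ} (hq : 2 ≤ q) (ha : 1 ≤ a) (hb : 1 ≤ b) :
    (q ^ a - 1) * (q ^ b - 1) ≤ (q + 1) * (q ^ (a + b - 1) - 1) := by
  obtain ⟨a', rfl⟩ : ∃ a', a = a' + 1 := ⟨a - 1, by omega⟩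
  obtain ⟨b', rfl⟩ : ∃ b', b = b' + 1 := ⟨b - 1, by omega⟩
  have e : a' + 1 + (b' + 1) - 1 = a' + b' + 1 := by omega
  rw [e]
  have h0 : 1 ≤ q ^ (a' + 1) := Nat.one_le_pow _ _ (by omega)
  have h1 : 1 ≤ q ^ (b' + 1) := Nat.one_le_pow _ _ (by omega)
  have h2 : 1 ≤ q ^ (a' + b' + 1) := Nat.one_le_pow _ _ (by omega)
  have hA : 1 ≤ q ^ a' := Nat.one_le_pow _ _ (by omega)
  have hC : 1 ≤ q ^ b' := Nat.one_le_pow _ _ (by omega)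
  zify [h0, h1, h2]
  have hA' : (1 : ℤ) ≤ (q : ℤ) ^ a' := by exact_mod_cast hA
  have hC' : (1 : ℤ) ≤ (q : ℤ) ^ b' := by exact_mod_cast hC
  have hq' : (2 : ℤ) ≤ (q : ℤ) := by exact_mod_cast hq
  obtain ⟨A, hAd⟩ : ∃ A : ℤ, A = (q : ℤ) ^ a' := ⟨_, rfl⟩
  obtain ⟨C, hCd⟩ : ∃ C : ℤ, C = (q : ℤ) ^ b' := ⟨_, rfl⟩
  obtain ⟨Q, hQd⟩ : ∃ Q : ℤ, Q = (q : ℤ) := ⟨_, rfl⟩
  have e1 : (q : ℤ) ^ (a' + 1) = Q * A := by rw [hAd, hQd, pow_succ]; ring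
  have e2 : (q : ℤ) ^ (b' + 1) = Q * C := by rw [hCd, hQd, pow_succ]; ring
  have e3 : (q : ℤ) ^ (a' + b' + 1) = Q * (A * C) := by
    rw [hAd, hCd, hQd, pow_succ, pow_add]; ring
  rw [e1, e2, e3, ← hQd]
  rw [← hAd] at hA'
  rw [← hCd] at hC'
  rw [← hQd] at hq'
  nlinarith [mul_nonneg (by linarith : (0:ℤ) ≤ Q) (mul_nonneg (by linarith : (0:ℤ) ≤ A) (by linarith : (0:ℤ) ≤ C)),
    mul_nonneg (by linarith : (0:ℤ) ≤ Q) (by linarith : (0:ℤ) ≤ A),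
    mul_nonneg (by linarith : (0:ℤ) ≤ Q) (by linarith : (0:ℤ) ≤ C)]

end Cfsg.Agent.Lib.H11.PGU
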