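import Mathlib
import Cfsg.Agent.Lib.H11.PGU3

set_option autoImplicit false

namespace Cfsg.Agent.Lib.H11.PGU

open Cfsg.Agent.Lib.H11.EOB

theorem bn_false_le {q c : ℕ} (hq : 2 ≤ q) (hc : 1 ≤ c) : q ^ c + 1 ≤ (q + 1) * q ^ (c - 1) := by
  obtain ⟨c', rfl⟩ : ∃ c', c = c' + 1 := ⟨c - 1, by omega⟩
  simp only [Nat.add_sub_cancel]
  have hA : 1 ≤ q ^ c' := Nat.one_le_pow _ _ (by omega)
  rw [pow_succ]
  nlinarith

theorem bn_true_le {q c : ℕ} (hq : 2 ≤ q) (hc : 2 ≤ c) :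
    q ^ c - 1 + (q + 1) ≤ (q + 1) * q ^ (c - 1) := by
  obtain ⟨c', rfl⟩ : ∃ c', c = c' + 2 := ⟨c - 2, by omega⟩
  have e : c' + 2 - 1 = c' + 1 := by omega
  rw [e]
  have hA : 1 ≤ q ^ c' := Nat.one_le_pow _ _ (by omega)
  have h1 : 1 ≤ q ^ (c' + 2) := Nat.one_le_pow _ _ (by omega)
  have e2 : q ^ (c' + 2) = q * q * q ^ c' := by rw [pow_succ, pow_succ]; ring
  have e3 : q ^ (c' + 1) = q * q ^ c' := by rw [pow_succ]; ring
  rw [e3]
  have : q ^ (c' + 2) + q ≤ (q + 1) * (q * q ^ c') := by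
    rw [e2]
    nlinarith [Nat.mul_le_mul hq hA]
  omega

theorem bn_false_le3 {q c : ℕ} (hq : 2 ≤ q) (hc : 3 ≤ c) :
    q ^ c + 1 + (q + 1) ≤ (q + 1) * q ^ (c - 1) := by
  obtain ⟨c', rfl⟩ : ∃ c', c = c' + 3 := ⟨c - 3, by omega⟩
  have e : c' + 3 - 1 = c' + 2 := by omega
  rw [e]
  have hA : 1 ≤ q ^ c' := Nat.one_le_pow _ _ (by omega)
  have e2 : q ^ (c' + 3) = q * q * q * q ^ c' := by rw [pow_succ, pow_succ, pow_succ]; ring
  have e3 : q ^ (c' + 2) = q * q * q ^ c' := by rw [pow_succ, pow_succ]; ring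
  rw [e2, e3]
  have h4 : 4 ≤ q * q := Nat.mul_le_mul hq hq
  have h5 : q + 2 ≤ q * q := by nlinarith
  nlinarith [Nat.mul_le_mul h5 hA]

/-- the quotient `bn q x / (q+1)` -/
def mq (q : ℕ) (x : Bool × ℕ) : ℕ := bn q x / (q + 1)

def PB (x : Bool × ℕ) : Prop := 1 ≤ x.2 ∧ (x.1 = true → Even x.2) ∧ (x.1 = false → Odd x.2)

theorem mq_mul {q : ℕ} (hq : 2 ≤ q) {x : Bool × ℕ} (hx : PB x) : (q + 1) * mq q x = bn q x :=
  Nat.mul_div_cancel' (add_one_dvd_bn (by omega) hx.2)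

theorem mq_pos {q : ℕ} (hq : 2 ≤ q) {x : Bool × ℕ} (hx : PB x) : 0 < mq q x := by
  have h1 := mq_mul hq hx
  have h2 : 0 < bn q x := bn_pos hq hx.1
  rcases Nat.eq_zero_or_pos (mq q x) with h | h
  · rw [h, mul_zero] at h1; omega
  · exact h

theorem two_le_of_even {c : ℕ} (h1 : 1 ≤ c) (h : Even c) : 2 ≤ c := by
  obtain ⟨k, hk⟩ := h; omega

theorem three_le_of_odd {c : ℕ} (h1 : 2 ≤ c) (h : Odd c) : 3 ≤ c := by
  obtain ⟨k, hk⟩ := h; omega

theorem mq_le {q : ℕ} (hq : 2 ≤ q) {x : Bool × ℕ} (hx : PB x) : mq q x ≤ q ^ (x.2 - 1) := by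
  have h1 := mq_mul hq hx
  obtain ⟨b, c⟩ := x
  obtain ⟨hc, he, ho⟩ := hx
  simp only at hc he ho h1 ⊢
  cases b
  · have h2 := bn_false_le hq hc
    have h3 : bn q (false, c) = q ^ c + 1 := by simp [bn]
    rw [h3] at h1
    rw [← h1] at h2
    exact Nat.le_of_mul_le_mul_left h2 (by omega)
  · have h2 := bn_true_le hq (two_le_of_even hc (he rfl))
    have h3 : bn q (true, c) = q ^ c - 1 := by simp [bn]
    rw [h3] at h1
    rw [← h1] at h2
    have : (q + 1) * mq q (true, c) ≤ (q + 1) * q ^ (c - 1) := by omega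
    exact Nat.le_of_mul_le_mul_left this (by omega)

theorem mq_lt {q : ℕ} (hq : 2 ≤ q) {x : Bool × ℕ} (hx : PB x) (h2x : 2 ≤ x.2) :
    mq q x + 1 ≤ q ^ (x.2 - 1) := by
  have h1 := mq_mul hq hx
  obtain ⟨b, c⟩ := x
  obtain ⟨hc, he, ho⟩ := hx
  simp only at hc he ho h1 h2x ⊢
  cases b
  · have h2 := bn_false_le3 hq (three_le_of_odd h2x (ho rfl))
    have h3 : bn q (false, c) = q ^ c + 1 := by simp [bn]
    rw [h3] at h1
    rw [← h1] at h2
    have : (q + 1) * (mq q (false, c) + 1) ≤ (q + 1) * q ^ (c - 1) := by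
      rw [mul_add, mul_one]; exact h2
    exact Nat.le_of_mul_le_mul_left this (by omega)
  · have h2 := bn_true_le hq h2x
    have h3 : bn q (true, c) = q ^ c - 1 := by simp [bn]
    rw [h3] at h1
    rw [← h1] at h2
    have : (q + 1) * (mq q (true, c) + 1) ≤ (q + 1) * q ^ (c - 1) := by
      rw [mul_add, mul_one]; exact h2
    exact Nat.le_of_mul_le_mul_left this (by omega)

/-- product of the quotients -/
def mp (q : ℕ) (l : List (Bool × ℕ)) : ℕ := (l.map (mq q)).prod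

@[simp] theorem mp_nil (q : ℕ) : mp q [] = 1 := rfl

@[simp] theorem mp_cons (q : ℕ) (x : Bool × ℕ) (l : List (Bool × ℕ)) :
    mp q (x :: l) = mq q x * mp q l := by simp [mp]

theorem bL_dvd {q : ℕ} (hq : 2 ≤ q) (l : List (Bool × ℕ)) (hl : ∀ x ∈ l, PB x) :
    bL q l ∣ (q + 1) * mp q l := by
  induction l with
  | nil => simp
  | cons x l ih =>
    have hx : PB x := hl x (by simp)
    have ih' := ih (fun y hy => hl y (by simp [hy]))
    rw [bL_cons, mp_cons]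
    apply Nat.lcm_dvd
    · rw [← mq_mul hq hx]
      exact ⟨mp q l, by ring⟩
    · exact ih'.trans ⟨mq q x, by ring⟩

theorem mp_le {q : ℕ} (hq : 2 ≤ q) (l : List (Bool × ℕ)) (hl : ∀ x ∈ l, PB x) :
    mp q l * q ^ l.length ≤ q ^ bw l := by
  induction l with
  | nil => simp
  | cons x l ih =>
    have hx : PB x := hl x (by simp)
    have ih' := ih (fun y hy => hl y (by simp [hy]))
    rw [mp_cons, bw_cons, List.length_cons, pow_succ, pow_add]
    have h1 : mq q x * q ≤ q ^ x.2 := by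
      have := mq_le hq hx
      calc mq q x * q ≤ q ^ (x.2 - 1) * q := Nat.mul_le_mul_right _ this
        _ = q ^ x.2 := by rw [← pow_succ]; congr 1; have := hx.1; omega
    calc mq q x * mp q l * (q ^ l.length * q) = (mq q x * q) * (mp q l * q ^ l.length) := by ring
      _ ≤ q ^ x.2 * q ^ bw l := Nat.mul_le_mul h1 ih'

theorem length_le_bw (l : List (Bool × ℕ)) (hl : ∀ x ∈ l, PB x) : l.length ≤ bw l := by
  induction l with
  | nil => simp
  | cons x l ih =>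
    have hx : PB x := hl x (by simp)
    have ih' := ih (fun y hy => hl y (by simp [hy]))
    rw [bw_cons, List.length_cons]
    have := hx.1
    omega

theorem bL_le_three {q : ℕ} (hq : 2 ≤ q) (l : List (Bool × ℕ)) (hl : ∀ x ∈ l, PB x)
    (hlen : 3 ≤ l.length) : bL q l + 1 ≤ q ^ (bw l - 1) := by
  have hW := length_le_bw l hl
  have h1 := Nat.le_of_dvd (Nat.mul_pos (by omega) (by
    unfold mp
    apply List.prod_pos
    intro a ha
    obtain ⟨x, hx, rfl⟩ := List.mem_map.mp ha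
    exact mq_pos hq (hl x hx))) (bL_dvd hq l hl)
  have h2 := mp_le hq l hl
  obtain ⟨u, hu⟩ : ∃ u, u = q ^ (bw l - 3) := ⟨_, rfl⟩
  have hu1 : 1 ≤ u := hu ▸ Nat.one_le_pow _ _ (by omega)
  have e1 : q ^ bw l = q ^ 3 * u := by rw [hu, ← pow_add]; congr 1; omega
  have e2 : q ^ (bw l - 1) = q ^ 2 * u := by rw [hu, ← pow_add]; congr 1; omega
  have h3 : mp q l * q ^ 3 ≤ q ^ 3 * u := by
    calc mp q l * q ^ 3 ≤ mp q l * q ^ l.length :=
          Nat.mul_le_mul_left _ (Nat.pow_le_pow_right (by omega) hlen)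
      _ ≤ q ^ bw l := h2
      _ = q ^ 3 * u := e1
  have h4 : mp q l ≤ u := by
    have : q ^ 3 * mp q l ≤ q ^ 3 * u := by rw [mul_comm]; exact h3
    exact Nat.le_of_mul_le_mul_left this (Nat.pow_pos (by omega))
  rw [e2]
  have h5 : bL q l ≤ (q + 1) * u := h1.trans (Nat.mul_le_mul_left _ h4)
  have h6 : q + 2 ≤ q * q := by nlinarith
  nlinarith [Nat.mul_le_mul h6 hu1]

end Cfsg.Agent.Lib.H11.PGU
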