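import Mathlib
import Cfsg.Agent.Lib.H11.PGU5b
import Cfsg.Agent.Lib.H11.PGU5a

set_option autoImplicit false

namespace Cfsg.Agent.Lib.H11.PGU

open Cfsg.Agent.Lib.H11.EOB

theorem lcm_mul_le {k a b : ℕ} (ha : k ∣ a) (hb : k ∣ b) (ha0 : 0 < a) (hb0 : 0 < b) :
    Nat.lcm a b * k ≤ a * b := by
  have h1 : k ∣ Nat.gcd a b := Nat.dvd_gcd ha hb
  have h2 : k ≤ Nat.gcd a b := Nat.le_of_dvd (Nat.gcd_pos_of_pos_left _ ha0) h1
  calc Nat.lcm a b * k ≤ Nat.lcm a b * Nat.gcd a b := Nat.mul_le_mul_left _ h2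
    _ = a * b := by rw [mul_comm, Nat.gcd_mul_lcm]

theorem bL_le_two {q : ℕ} (hq : 2 ≤ q) (x y : Bool × ℕ) (hx : PB x) (hy : PB y) :
    bL q [x, y] ≤ q ^ (x.2 + y.2 - 1) + 1 ∧
      (Odd (x.2 + y.2) → bL q [x, y] + 1 ≤ q ^ (x.2 + y.2 - 1)) := by
  have hbx : 0 < bn q x := bn_pos hq hx.1
  have hby : 0 < bn q y := bn_pos hq hy.1
  have hdx : q + 1 ∣ bn q x := add_one_dvd_bn (by omega) hx.2
  have hdy : q + 1 ∣ bn q y := add_one_dvd_bn (by omega) hy.2
  have hL : bL q [x, y] = Nat.lcm (bn q x) (bn q y) := by simp [bL]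
  have h1 := lcm_mul_le hdx hdy hbx hby
  rw [← hL] at h1
  have hpow : 1 ≤ q ^ (x.2 + y.2 - 1) := Nat.one_le_pow _ _ (by omega)
  obtain ⟨bx, a⟩ := x
  obtain ⟨by', b⟩ := y
  obtain ⟨ha1, hae, hao⟩ := hx
  obtain ⟨hb1, hbe, hbo⟩ := hy
  simp only at ha1 hae hao hb1 hbe hbo hpow ⊢
  -- the key: `bL + 1 ≤ q^(W-1)` from `bn x * bn y ≤ (q+1) * (q^(W-1) - 1)`
  have key : bn q (bx, a) * bn q (by', b) ≤ (q + 1) * (q ^ (a + b - 1) - 1) →
      bL q [(bx, a), (by', b)] + 1 ≤ q ^ (a + b - 1) := by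
    intro h
    have h2 : bL q [(bx, a), (by', b)] * (q + 1) ≤ (q + 1) * (q ^ (a + b - 1) - 1) := h1.trans h
    rw [mul_comm] at h2
    have h3 := Nat.le_of_mul_le_mul_left h2 (by omega)
    omega
  cases bx <;> cases by'
  · -- U U
    have ha : Odd a := hao rfl
    have hb : Odd b := hbo rfl
    refine ⟨?_, fun h => ?_⟩
    · have h2 : bn q (false, a) * bn q (false, b) ≤ (q + 1) * (q ^ (a + b - 1) + 1) := by
        simpa [bn] using ineqUU hq ha1 hb1
      have h3 : bL q [(false, a), (false, b)] * (q + 1) ≤ (q + 1) * (q ^ (a + b - 1) + 1) :=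
        h1.trans h2
      rw [mul_comm] at h3
      exact Nat.le_of_mul_le_mul_left h3 (by omega)
    · exfalso
      have : Even (a + b) := ha.add_odd hb
      exact (Nat.not_even_iff_odd.mpr h) this
  · -- U L
    have hb2 : 2 ≤ b := two_le_of_even hb1 (hbe rfl)
    have h2 : bn q (false, a) * bn q (true, b) ≤ (q + 1) * (q ^ (a + b - 1) - 1) := by
      simpa [bn] using ineqUL hq ha1 hb2
    have h3 := key h2
    exact ⟨by omega, fun _ => h3⟩
  · -- L U
    have ha2 : 2 ≤ a := two_le_of_even ha1 (hae rfl)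
    have h2 : bn q (true, a) * bn q (false, b) ≤ (q + 1) * (q ^ (a + b - 1) - 1) := by
      have := ineqUL hq hb1 ha2
      rw [mul_comm, add_comm b a] at this
      simpa [bn] using this
    have h3 := key h2
    exact ⟨by omega, fun _ => h3⟩
  · -- L L
    have h2 : bn q (true, a) * bn q (true, b) ≤ (q + 1) * (q ^ (a + b - 1) - 1) := by
      simpa [bn] using ineqLL hq ha1 hb1
    have h3 := key h2
    exact ⟨by omega, fun _ => h3⟩

theorem bL_le {q : ℕ} (hq : 2 ≤ q) (l : List (Bool × ℕ)) (hl : ∀ x ∈ l, PB x)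
    (hlen : 2 ≤ l.length) :
    bL q l ≤ q ^ (bw l - 1) + 1 ∧ (Odd (bw l) → bL q l + 1 ≤ q ^ (bw l - 1)) := by
  by_cases h3 : 3 ≤ l.length
  · have := bL_le_three hq l hl h3
    exact ⟨by omega, fun _ => this⟩
  · match l, hl, hlen, h3 with
    | [x, y], hl, _, _ =>
      have := bL_le_two hq x y (hl x (by simp)) (hl y (by simp))
      simpa [bw_cons] using this
    | [], _, h, _ => simp at h
    | [_], _, h, _ => simp at h
    | _ :: _ :: _ :: _, _, _, h => simp at h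

end Cfsg.Agent.Lib.H11.PGU
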