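import Mathlib
import Cfsg.Agent.Lib.H11.PGU5c

set_option autoImplicit false

namespace Cfsg.Agent.Lib.H11.PGU

open Cfsg.Agent.Lib.H11.EOB

theorem add_four_le_two_pow (k : ℕ) : k + 4 ≤ 2 ^ (k + 2) := by
  induction k with
  | zero => norm_num
  | succ k ih => rw [pow_succ]; omega

/-- the generic case: `2 P ≤ q^E`. -/
theorem main2 {q w E D B P : ℕ} (hq : 2 ≤ q) (hE : 1 ≤ E) (hB : B ≤ q ^ (w + 1) + 1)
    (hP : 2 * P ≤ q ^ E) (hD : w + 1 + E ≤ D) : B * P + 1 ≤ q ^ D := by
  have h1 : q ^ (w + 1 + E) ≤ q ^ D := Nat.pow_le_pow_right (by omega) hD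
  have h2 : q ^ (w + 1 + E) = q ^ (w + 1) * q ^ E := pow_add _ _ _
  have h3 : q * q ^ E ≤ q ^ (w + 1) * q ^ E := by
    apply Nat.mul_le_mul_right
    calc q = q ^ 1 := (pow_one q).symm
      _ ≤ q ^ (w + 1) := Nat.pow_le_pow_right (by omega) (by omega)
  have h4 : 2 ≤ q ^ E := by
    calc 2 ≤ q := hq
      _ = q ^ 1 := (pow_one q).symm
      _ ≤ q ^ E := Nat.pow_le_pow_right (by omega) hE
  have h5 : 2 * (B * P) ≤ (q ^ (w + 1) + 1) * q ^ E := by
    calc 2 * (B * P) = B * (2 * P) := by ring
      _ ≤ (q ^ (w + 1) + 1) * q ^ E := Nat.mul_le_mul hB hP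
  have h6 : 2 * q ^ E ≤ q * q ^ E := Nat.mul_le_mul_right _ hq
  nlinarith

end Cfsg.Agent.Lib.H11.PGU

namespace Cfsg.Agent.Lib.H11.PGU

open Cfsg.Agent.Lib.H11.EOB

theorem arith_core (p f q d M : ℕ) (hp : p.Prime) (hf : 1 ≤ f) (hq : q = p ^ f) (hd : 3 ≤ d)
    (hM1 : q ^ (d - 1) - 1 ≤ M) (hM2 : p ^ (d - 1) ≤ M)
    (hM3 : f = 1 → Odd d → (p ^ (d - 2) + 1) * p ≤ M)
    (hM4 : q = 2 → Even d → 4 * (2 ^ (d - 3) + 1) ≤ M)
    (hM5 : Even d → q ^ (d - 1) + 1 ≤ M)
    (l : List (Bool × ℕ)) (E : ℕ) (hl : ∀ x ∈ l, PB x) (hw : bw l + E ≤ d) (N : ℕ)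
    (hN : (∃ x, l = [x] ∧ N = bn q x / (q + 1) * p ^ Nat.clog p (E + 1)) ∨
          (2 ≤ l.length ∧ N = bL q l * p ^ Nat.clog p (E + 1))) : N ≤ M := by
  have hp2 : 2 ≤ p := hp.two_le
  have hpq : p ≤ q := by
    rw [hq]
    calc p = p ^ 1 := (pow_one p).symm
      _ ≤ p ^ f := Nat.pow_le_pow_right (by omega) hf
  have hq2 : 2 ≤ q := hp2.trans hpq
  obtain ⟨P, hPd⟩ : ∃ P, P = p ^ Nat.clog p (E + 1) := ⟨_, rfl⟩
  rw [← hPd] at hN
  have hcl : Nat.clog p (E + 1) ≤ E := by
    have := clog_le_pred (p := p) (e := E + 1) hp2 (by omega)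
    simpa using this
  have hP1 : P ≤ p ^ E := hPd ▸ Nat.pow_le_pow_right (by omega) hcl
  have hPq : P ≤ q ^ E := hP1.trans (Nat.pow_le_pow_left hpq E)
  have hqE1 : 1 ≤ q ^ E := Nat.one_le_pow _ _ (by omega)
  have hMq : ∀ D, D ≤ d - 1 → ∀ n, n + 1 ≤ q ^ D → n ≤ M := by
    intro D hD n hn
    have : q ^ D ≤ q ^ (d - 1) := Nat.pow_le_pow_right (by omega) hD
    omega
  rcases hN with ⟨x, rfl, rfl⟩ | ⟨hlen, rfl⟩
  · -- one block
    have hx : PB x := hl x (by simp)
    have hw' : x.2 + E ≤ d := by simpa [bw_cons] using hw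
    show mq q x * P ≤ M
    by_cases h2x : 2 ≤ x.2
    · have h1 := mq_lt hq2 hx h2x
      apply hMq (x.2 - 1 + E) (by omega)
      calc mq q x * P + 1 ≤ mq q x * q ^ E + q ^ E := by
            have := Nat.mul_le_mul_left (mq q x) hPq
            omega
        _ = (mq q x + 1) * q ^ E := by ring
        _ ≤ q ^ (x.2 - 1) * q ^ E := Nat.mul_le_mul_right _ h1
        _ = q ^ (x.2 - 1 + E) := (pow_add _ _ _).symm
    · have hx1 : x.2 = 1 := by have := hx.1; omega
      have h1 := mq_le hq2 hx
      rw [hx1] at h1
      simp only [Nat.sub_self, pow_zero] at h1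
      calc mq q x * P ≤ 1 * P := Nat.mul_le_mul_right _ h1
        _ = P := one_mul P
        _ ≤ p ^ E := hP1
        _ ≤ p ^ (d - 1) := Nat.pow_le_pow_right (by omega) (by omega)
        _ ≤ M := hM2
  · -- at least two blocks
    obtain ⟨hb1, hb2⟩ := bL_le hq2 l hl hlen
    have hW2 : 2 ≤ bw l := hlen.trans (length_le_bw l hl)
    obtain ⟨w, hwd⟩ : ∃ w, bw l = w + 2 := ⟨bw l - 2, by omega⟩
    rw [hwd] at hb1 hb2 hw
    have e1 : w + 2 - 1 = w + 1 := by omega
    rw [e1] at hb1 hb2
    obtain ⟨B, hBd⟩ : ∃ B, B = bL q l := ⟨_, rfl⟩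
    rw [← hBd] at hb1 hb2 ⊢
    rcases Nat.eq_zero_or_pos E with hE0 | hE1
    · -- `E = 0`
      have hP : P = 1 := by rw [hPd, hE0]; simp
      rw [hP, mul_one]
      by_cases hWd : w + 2 = d
      · rcases Nat.even_or_odd d with hev | hodd
        · have := hM5 hev
          rw [← hWd, e1] at this
          omega
        · have h3 := hb2 (hWd ▸ hodd)
          rw [← hWd, e1] at hM1
          omega
      · apply hMq (w + 2) (by omega)
        have : q ^ (w + 2) = q * q ^ (w + 1) := by rw [pow_succ]; ring
        rw [this]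
        have h4 : 2 ≤ q ^ (w + 1) := by
          calc 2 ≤ q := hq2
            _ = q ^ 1 := (pow_one q).symm
            _ ≤ q ^ (w + 1) := Nat.pow_le_pow_right (by omega) (by omega)
        nlinarith
    · -- `E ≥ 1`
      have hgen : 2 * P ≤ q ^ E → B * P ≤ M := by
        intro h2P
        apply hMq (w + 1 + E) (by omega)
        exact main2 hq2 hE1 hb1 h2P le_rfl
      have hpE2 : 2 ≤ p ^ E := by
        calc 2 ≤ p := hp2
          _ = p ^ 1 := (pow_one p).symm
          _ ≤ p ^ E := Nat.pow_le_pow_right (by omega) hE1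
      rcases Nat.lt_or_ge f 2 with hf1 | hf2
      · -- `f = 1`
        have hf1' : f = 1 := by omega
        have hqp : q = p := by rw [hq, hf1', pow_one]
        rcases Nat.lt_or_ge E 3 with hE3 | hE3
        · rcases Nat.lt_or_ge E 2 with hE2 | hE2
          · -- `E = 1`
            have hE : E = 1 := by omega
            subst hE
            have hPp : P ≤ p := by simpa using hP1
            rcases Nat.even_or_odd w with hwev | hwodd
            · -- `W` even
              have hBP : B * P ≤ (p ^ (w + 1) + 1) * p := by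
                rw [hqp] at hb1
                exact Nat.mul_le_mul hb1 hPp
              by_cases hWd : w + 2 + 1 = d
              · have hodd : Odd d := by
                  rw [← hWd]
                  exact (hwev.add (by decide : Even 2)).add_one
                have := hM3 hf1' hodd
                have e2 : d - 2 = w + 1 := by omega
                rw [e2] at this
                exact hBP.trans this
              · apply hMq (w + 3) (by omega)
                rw [hqp]
                have e3 : p ^ (w + 3) = p * p * p ^ (w + 1) := by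
                  rw [pow_succ, pow_succ]; ring
                have h4 : 2 ≤ p ^ (w + 1) := by
                  calc 2 ≤ p := hp2
                    _ = p ^ 1 := (pow_one p).symm
                    _ ≤ p ^ (w + 1) := Nat.pow_le_pow_right (by omega) (by omega)
                rw [e3]
                refine (Nat.add_le_add_right hBP 1).trans ?_
                obtain ⟨u, hu⟩ : ∃ u, u = p ^ (w + 1) := ⟨_, rfl⟩
                rw [← hu] at h4 ⊢
                obtain ⟨a, rfl⟩ : ∃ a, p = a + 2 := ⟨p - 2, by omega⟩
                obtain ⟨b, rfl⟩ : ∃ b, u = b + 2 := ⟨u - 2, by omega⟩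
                nlinarith [Nat.zero_le (a * a * b), Nat.zero_le (a * b), Nat.zero_le (a * a)]
            · -- `W` odd
              have h3 := hb2 ((hwodd.add_even (by decide : Even 2)))
              apply hMq (w + 2) (by omega)
              rw [hqp] at h3 ⊢
              have e3 : p ^ (w + 2) = p * p ^ (w + 1) := by rw [pow_succ]; ring
              rw [e3]
              have : B * P ≤ B * p := Nat.mul_le_mul_left _ hPp
              nlinarith
          · -- `E = 2`
            have hE : E = 2 := by omega
            subst hE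
            rcases Nat.lt_or_ge p 3 with hp3 | hp3
            · -- `p = 2`
              have hp2' : p = 2 := by omega
              have hq2' : q = 2 := by rw [hqp, hp2']
              have hP4 : P ≤ 4 := by
                have := hP1
                rw [hp2'] at this
                simpa using this
              rw [hq2'] at hb1 hb2
              rcases Nat.even_or_odd w with hwev | hwodd
              · have hBP : B * P ≤ 4 * (2 ^ (w + 1) + 1) := by
                  rw [mul_comm 4]
                  exact Nat.mul_le_mul hb1 hP4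
                by_cases hWd : w + 2 + 2 = d
                · have hev : Even d := by
                    rw [← hWd]
                    exact (hwev.add (by decide : Even 2)).add (by decide : Even 2)
                  have := hM4 hq2' hev
                  have e2 : d - 3 = w + 1 := by omega
                  rw [e2] at this
                  exact hBP.trans this
                · apply hMq (w + 4) (by omega)
                  rw [hq2']
                  have e3 : 2 ^ (w + 4) = 8 * 2 ^ (w + 1) := by
                    rw [pow_succ, pow_succ, pow_succ]; ring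
                  have h4 : 1 ≤ 2 ^ (w + 1) := Nat.one_le_pow _ _ (by omega)
                  have h5 : 2 ≤ 2 ^ (w + 1) := by
                    calc 2 = 2 ^ 1 := rfl
                      _ ≤ 2 ^ (w + 1) := Nat.pow_le_pow_right (by omega) (by omega)
                  omega
              · have h3 := hb2 ((hwodd.add_even (by decide : Even 2)))
                apply hMq (w + 3) (by omega)
                rw [hq2']
                have e3 : 2 ^ (w + 3) = 4 * 2 ^ (w + 1) := by
                  rw [pow_succ, pow_succ]; ring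
                rw [e3]
                have : B * P ≤ B * 4 := Nat.mul_le_mul_left _ hP4
                omega
            · -- `p ≥ 3`
              apply hgen
              have hcl2 : Nat.clog p (2 + 1) ≤ 1 := Nat.clog_le_of_le_pow (by simpa using hp3)
              have hPp : P ≤ p := by
                rw [hPd]
                calc p ^ Nat.clog p (2 + 1) ≤ p ^ 1 := Nat.pow_le_pow_right (by omega) hcl2
                  _ = p := pow_one p
              rw [hqp, sq]
              calc 2 * P ≤ 2 * p := Nat.mul_le_mul_left _ hPp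
                _ ≤ p * p := Nat.mul_le_mul_right _ hp2
        · -- `E ≥ 3`
          apply hgen
          obtain ⟨k, rfl⟩ : ∃ k, E = k + 3 := ⟨E - 3, by omega⟩
          have hcl3 : Nat.clog p (k + 3 + 1) ≤ k + 2 := by
            apply Nat.clog_le_of_le_pow
            have h7 := add_four_le_two_pow k
            have h8 : 2 ^ (k + 2) ≤ p ^ (k + 2) := Nat.pow_le_pow_left hp2 _
            omega
          have hPp : P ≤ p ^ (k + 2) := hPd ▸ Nat.pow_le_pow_right (by omega) hcl3
          rw [hqp]
          have e3 : p ^ (k + 3) = p * p ^ (k + 2) := by rw [pow_succ]; ring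
          rw [e3]
          calc 2 * P ≤ 2 * p ^ (k + 2) := Nat.mul_le_mul_left _ hPp
            _ ≤ p * p ^ (k + 2) := Nat.mul_le_mul_right _ hp2
      · -- `f ≥ 2`
        apply hgen
        have h1 : p ^ 2 ≤ q := by
          rw [hq]
          exact Nat.pow_le_pow_right (by omega) hf2
        calc 2 * P ≤ 2 * p ^ E := Nat.mul_le_mul_left _ hP1
          _ ≤ p ^ E * p ^ E := Nat.mul_le_mul_right _ hpE2
          _ = (p ^ 2) ^ E := by rw [← pow_mul, ← pow_add]; congr 1; ring
          _ ≤ q ^ E := Nat.pow_le_pow_left h1 E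

end Cfsg.Agent.Lib.H11.PGU
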