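import Mathlib
import Cfsg.Agent.Lib.H11.PGU5d

/-!
# Maximal element order of `PGU_d(q)`, part 5: the arithmetic optimisation (helper11)
-/

set_option autoImplicit false

namespace Cfsg.Agent.Lib.H11.PGU

open Cfsg.Agent.Lib.H11.EOB

theorem arithPGU (p f q d : ℕ) (hp : p.Prime) (hf : 1 ≤ f) (hq : q = p ^ f) (hd : 3 ≤ d)
    (h32 : ¬ (d = 3 ∧ q = 2)) (l : List (Bool × ℕ)) (E : ℕ)
    (hl : ∀ x ∈ l, 1 ≤ x.2 ∧ (x.1 = true → Even x.2) ∧ (x.1 = false → Odd x.2))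
    (hw : bw l + E ≤ d) (N : ℕ)
    (hN : (∃ x, l = [x] ∧ N = bn q x / (q + 1) * p ^ Nat.clog p (E + 1)) ∨
          (2 ≤ l.length ∧ N = bL q l * p ^ Nat.clog p (E + 1))) :
    (Odd d → 2 ≤ f → N ≤ q ^ (d - 1) - 1) ∧
    (Odd d → f = 1 → N ≤ (p ^ (d - 2) + 1) * p) ∧
    (Even d → 2 < q → N ≤ q ^ (d - 1) + 1) ∧
    (Even d → q = 2 → N ≤ 4 * (2 ^ (d - 3) + 1)) := by
  have _ := h32
  have hp2 : 2 ≤ p := hp.two_le
  have hpq : p ≤ q := by
    rw [hq]
    calc p = p ^ 1 := (pow_one p).symm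
      _ ≤ p ^ f := Nat.pow_le_pow_right (by omega) hf
  have hq2 : 2 ≤ q := hp2.trans hpq
  have hpd : p ^ (d - 1) ≤ q ^ (d - 1) := Nat.pow_le_pow_left hpq _
  have hpd2 : 2 ≤ p ^ (d - 1) := by
    calc 2 ≤ p := hp2
      _ = p ^ 1 := (pow_one p).symm
      _ ≤ p ^ (d - 1) := Nat.pow_le_pow_right (by omega) (by omega)
  have hne : ∀ {a : ℕ}, Odd a → Even a → False := fun h1 h2 => (Nat.not_even_iff_odd.mpr h1) h2
  refine ⟨fun hodd hf2 => ?_, fun hodd hf1 => ?_, fun hev hq3 => ?_, fun hev hq2' => ?_⟩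
  · refine arith_core p f q d _ hp hf hq hd le_rfl ?_ (fun h => by omega) (fun _ h => (hne hodd h).elim)
      (fun h => (hne hodd h).elim) l E hl hw N hN
    have h1 : p ^ 2 ≤ q := by
      rw [hq]; exact Nat.pow_le_pow_right (by omega) hf2
    have h2 : (p ^ 2) ^ (d - 1) ≤ q ^ (d - 1) := Nat.pow_le_pow_left h1 _
    have h3 : (p ^ 2) ^ (d - 1) = p ^ (d - 1) * p ^ (d - 1) := by
      rw [← pow_mul, ← pow_add]; congr 1; ring
    have h4 : 2 * p ^ (d - 1) ≤ p ^ (d - 1) * p ^ (d - 1) := Nat.mul_le_mul_right _ hpd2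
    omega
  · have hqp : q = p := by rw [hq, hf1, pow_one]
    have e1 : (p ^ (d - 2) + 1) * p = p ^ (d - 1) + p := by
      have : p ^ (d - 1) = p ^ (d - 2) * p := by rw [← pow_succ]; congr 1; omega
      rw [this]; ring
    refine arith_core p f q d _ hp hf hq hd ?_ ?_ (fun _ _ => le_rfl) (fun _ h => (hne hodd h).elim)
      (fun h => (hne hodd h).elim) l E hl hw N hN
    · rw [e1, hqp]; omega
    · rw [e1]; omega
  · refine arith_core p f q d _ hp hf hq hd (by omega) (by omega) (fun _ h => (hne h hev).elim)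
      (fun h => by omega) (fun _ => le_rfl) l E hl hw N hN
  · have hp2' : p = 2 := by omega
    have e1 : 4 * (2 ^ (d - 3) + 1) = 2 ^ (d - 1) + 4 := by
      have : 2 ^ (d - 1) = 2 ^ (d - 3) * 4 := by
        rw [show (4 : ℕ) = 2 ^ 2 by norm_num, ← pow_add]; congr 1; omega
      rw [this]; ring
    refine arith_core p f q d _ hp hf hq hd ?_ ?_ (fun _ h => (hne h hev).elim)
      (fun _ _ => le_rfl) ?_ l E hl hw N hN
    · rw [e1, hq2']; omega
    · rw [e1, hp2']; omega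
    · intro _; rw [e1, hq2']; omega

end Cfsg.Agent.Lib.H11.PGU
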