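/-
S2937 (architect helper3), generic bridge (helper11): for `s, t ∈ N` of a (B,N)-pair,
`Eqv P (s * t) (t * s)` (the form used by `pminBad_of_leaf`) is equivalent to the commutator `s t s⁻¹ t⁻¹` lying in `B`
(the form of helper1's `Lib/H1/PMFLAG`, `Lib/H1/PMRES`).
-/
import Mathlib
import Cfsg.Agent.Lib.H2.BN1
import Cfsg.Agent.Lib.H8.BNRestrict

set_option autoImplicit false

namespace Cfsg.Agent.Lib.H11.PM

open Cfsg Cfsg.Agent.Lib.H2.BN Cfsg.Agent.Lib.H8.BNRes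

variable {H : Type*} [Group H] {P : Cfsg.BNPair H}

/-- `(s t)⁻¹ (t s) ∈ B ↔ s t s⁻¹ t⁻¹ ∈ B` for `s, t ∈ N` -/
theorem eqv_comm_iff_commutator_mem (s t : H) (hs : s ∈ P.N) (ht : t ∈ P.N) :
    Eqv P (s * t) (t * s) ↔ s * t * s⁻¹ * t⁻¹ ∈ P.B := by
  have hst : s * t ∈ P.N := P.N.mul_mem hs ht
  have hcN : s * t * s⁻¹ * t⁻¹ ∈ P.N :=
    P.N.mul_mem (P.N.mul_mem hst (P.N.inv_mem hs)) (P.N.inv_mem ht)
  have e : (s * t)⁻¹ * (t * s) = (s * t)⁻¹ * (s * t * s⁻¹ * t⁻¹)⁻¹ * (s * t) := by group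
  unfold Eqv
  rw [e]
  constructor
  · intro h
    have hN : (s * t)⁻¹ * (s * t * s⁻¹ * t⁻¹)⁻¹ * (s * t) ∈ P.N :=
      P.N.mul_mem (P.N.mul_mem (P.N.inv_mem hst) (P.N.inv_mem hcN)) hst
    have h1 := T_conj_mem' hst (⟨h, hN⟩ : _ ∈ P.B ⊓ P.N)
    have e2 : s * t * ((s * t)⁻¹ * (s * t * s⁻¹ * t⁻¹)⁻¹ * (s * t)) * (s * t)⁻¹ = (s * t * s⁻¹ * t⁻¹)⁻¹ := by
      group
    rw [e2] at h1
    exact (Subgroup.inv_mem_iff _).mp h1.1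
  · intro h
    have h1 := T_conj_mem hst (⟨P.B.inv_mem h, P.N.inv_mem hcN⟩ : _ ∈ P.B ⊓ P.N)
    exact h1.1

/-- the negated form -/
theorem not_eqv_comm_iff (s t : H) (hs : s ∈ P.N) (ht : t ∈ P.N) :
    ¬ Eqv P (s * t) (t * s) ↔ s * t * s⁻¹ * t⁻¹ ∉ P.B :=
  not_congr (eqv_comm_iff_commutator_mem s t hs ht)

end Cfsg.Agent.Lib.H11.PM
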