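/-
S2937 (architect helper3), piece OODD (helper11): `PMinBad p (PΩ_{2m+1}(F))`, `F` of odd characteristic `p`, `m ≥ 3`.
Same data as `Lib/H11/OGOODD` (helper8's flag (B,N)-pair in dimension `2m+1` restricted to `Ω = [GS, GS]`), the torus has
order prime to `p`, and the leaf criterion `pminBad_of_leaf` with the nodes `0 - 1 - 2` of the `B_m` diagram
(helper1's `Lib/H1/PMFLAG`, `Lib/H1/PMRES`).
-/
import Mathlib
import Cfsg.Prelude.Def_LieTypeChar
import Cfsg.Agent.Lib.H11.SRFLAG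
import Cfsg.Agent.Lib.H13.OddSt
import Cfsg.Agent.Lib.H24.FBNMONO
import Cfsg.Agent.Lib.H3.PMinBN
import Cfsg.Agent.Lib.H1.PMFLAG
import Cfsg.Agent.Lib.H1.PMRES
import Cfsg.Agent.Lib.H11.PMEQV

set_option autoImplicit false
set_option linter.unusedSectionVars false
set_option linter.unusedVariables false

namespace Cfsg.Agent.Lib.H11.PM

open Cfsg Cfsg.Agent.Lib.H3.PMin
open Matrix Cfsg.Agent.Lib.H12.DCos Cfsg.Agent.Lib.H8.FBN Cfsg.Agent.Lib.H8.BNRoot Cfsg.Agent.Lib.H8.BNRes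
  Cfsg.Agent.Lib.H8.BNSteinberg
open Cfsg.Agent.Lib.H28.FBN Cfsg.Agent.Lib.H29.OddSt Cfsg.Agent.Lib.H13.OddSt
open Cfsg.Agent.Lib.H1.PM Cfsg.Agent.Lib.H2.BN

/-- **OODD**: rank `m ≥ 3` -/
theorem pm_POmegaOdd (F : Type*) [Field F] [Fintype F] (p : ℕ) [Fact p.Prime] [CharP F p] (m : ℕ) (hm : 3 ≤ m)
    (hodd : Odd (Fintype.card F)) : PMinBad p (POmega F (quadFormOdd m F)) := by
  classical
  have hpp : p.Prime := Fact.out
  have hm1 : 1 ≤ m := by omega
  have h2 : (2 : F) ≠ 0 := two_ne_zero_of_odd hodd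
  have hφ2 : ∀ x : F, (RingHom.id F) ((RingHom.id F) x) = x := fun _ => rfl
  have hE : (2 * m + 1) % 2 = 0 → ∃ c : F, c ≠ 0 ∧ c + (RingHom.id F) c = 0 := fun h => absurd h (by omega)
  have hO : (2 * m + 1) % 2 = 1 → ∃ β : F, β + (RingHom.id F) β + 1 = 0 := fun _ =>
    ⟨-(1 / 2), by
      rw [RingHom.id_apply]
      field_simp
      ring⟩
  let P := flagBN (n := 2 * m + 1) (RingHom.id F) hφ2 hE hO
  let D := flagRootData (n := 2 * m + 1) (RingHom.id F) hφ2 hE hO
  let G' : Subgroup ↥(GS (n := 2 * m + 1) (RingHom.id F)) :=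
    commutator ↥(GS (n := 2 * m + 1) (RingHom.id F))
  have covers' : ∀ h : ↥(GS (n := 2 * m + 1) (RingHom.id F)),
      ∃ t ∈ Ts (n := 2 * m + 1) (RingHom.id F), h * t ∈ G' := covers_GS hodd m hm1 p
  have hcov : Covers P G' := by
    intro h
    obtain ⟨t, ht, h'⟩ := covers' h
    exact ⟨t, ⟨Ts_le_Bs ht, Ts_le_Ns ht⟩, h'⟩
  choose τ hτ1 hτ2 using covers'
  have hτ : ∀ s ∈ P.S, τ s ∈ P.B ⊓ P.N := fun s _ => ⟨Ts_le_Bs (hτ1 s), Ts_le_Ns (hτ1 s)⟩
  have hτG : ∀ s ∈ P.S, s * τ s ∈ G' := fun s _ => hτ2 s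
  have hτT : ∀ i, τ (D.e i) ∈ D.T := fun i => hτ1 _
  have hUG : D.U ≤ G' := Us_le_commutator hodd m hm1 p
  have hXG : ∀ i, D.X i ⊆ ((G' : Subgroup ↥(GS (n := 2 * m + 1) (RingHom.id F))) :
      Set ↥(GS (n := 2 * m + 1) (RingHom.id F))) :=
    fun i x hx => hUG (X_subset_Us i hx)
  have hYG : ∀ i, D.Y i ⊆ ((G' : Subgroup ↥(GS (n := 2 * m + 1) (RingHom.id F))) :
      Set ↥(GS (n := 2 * m + 1) (RingHom.id F))) := by
    intro i y hy
    have h1 : sRef (RingHom.id F) i * y * (sRef (RingHom.id F) i)⁻¹ ∈ G' :=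
      hUG (X_subset_Us i (sRef_conj_Y (RingHom.id F) i y hy))
    have e : y = (sRef (RingHom.id F) i)⁻¹ * (sRef (RingHom.id F) i * y * (sRef (RingHom.id F) i)⁻¹) *
        ((sRef (RingHom.id F) i)⁻¹)⁻¹ := by group
    rw [e]
    exact (inferInstance : G'.Normal).conj_mem _ h1 _
  let D' := D.restrict G' hcov τ hτ hτG hτT hXG hYG hUG
  let P' := Cfsg.Agent.Lib.H8.BNRes.restrict P G' hcov τ hτ hτG
  have hU' : IsPGroup p ↥D'.U := by
    have h1 : IsPGroup p ↥(Us (n := 2 * m + 1) (RingHom.id F)) := Us_isPGroup (RingHom.id F) p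
    exact h1.of_injective (Subgroup.subgroupOfEquivOfLe hUG).toMonoidHom
      (Subgroup.subgroupOfEquivOfLe hUG).injective
  have hT' : (Nat.card ↥D'.T).Coprime p := by
    have h1 : (Nat.card ↥(Ts (n := 2 * m + 1) (RingHom.id F))).Coprime p := card_Ts_coprime (RingHom.id F) p
    let f : ↥((Ts (n := 2 * m + 1) (RingHom.id F)).subgroupOf G') →* ↥(Ts (n := 2 * m + 1) (RingHom.id F)) :=
      { toFun := fun x => ⟨(x : ↥G'), Subgroup.mem_subgroupOf.mp x.2⟩
        map_one' := rfl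
        map_mul' := fun _ _ => rfl }
    have hf : Function.Injective f := by
      intro x y h
      apply Subtype.ext
      apply Subtype.ext
      exact congrArg (fun z : ↥(Ts (n := 2 * m + 1) (RingHom.id F)) =>
        (z : ↥(GS (n := 2 * m + 1) (RingHom.id F)))) h
    exact Nat.Coprime.coprime_dvd_left (Subgroup.card_dvd_of_injective f hf) h1
  -- the split data
  have hSpl : Spl p P' D'.T D'.U :=
    { hTB := D'.hTB
      hNT := D'.hNT
      hUB := D'.hUB
      hBTU := D'.hBTU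
      hUn := D'.hUn
      hU := hU'
      hTp := by
        intro t ht
        have h1 : orderOf (⟨t, ht⟩ : ↥D'.T) ∣ Nat.card ↥D'.T := orderOf_dvd_natCard _
        have h2 : orderOf (⟨t, ht⟩ : ↥D'.T) = orderOf t := Subgroup.orderOf_mk t ht
        rw [h2] at h1
        exact Nat.Coprime.coprime_dvd_left h1 hT' }
  -- the quotient map
  obtain ⟨ψ, -⟩ := Cfsg.Agent.Lib.H29.OddSt.nonempty_iso_odd h2 m
  let e := Cfsg.Agent.Lib.H8.BNSteinberg.centerQuotientCongr (Cfsg.Agent.Lib.H13.OddSt.commutatorCongr ψ)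
  let π : ↥G' →* POmega F (quadFormOdd m F) :=
    e.toMonoidHom.comp (QuotientGroup.mk' (Subgroup.center ↥G'))
  have hπ : Function.Surjective π := e.surjective.comp (QuotientGroup.mk'_surjective _)
  have hkerEq : π.ker = Subgroup.center ↥G' := by
    ext x
    rw [MonoidHom.mem_ker]
    constructor
    · intro h
      have h1 : e (QuotientGroup.mk' (Subgroup.center ↥G') x) = 1 := h
      have h2 : QuotientGroup.mk' (Subgroup.center ↥G') x = 1 := by
        rw [← map_one e] at h1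
        exact e.injective h1
      exact (QuotientGroup.eq_one_iff x).mp h2
    · intro h
      have h2 : QuotientGroup.mk' (Subgroup.center ↥G') x = 1 := (QuotientGroup.eq_one_iff x).mpr h
      show e (QuotientGroup.mk' (Subgroup.center ↥G') x) = 1
      rw [h2, map_one]
  have hker : π.ker ≤ P'.B := by
    rw [hkerEq]
    exact D'.center_le_B
  have : Finite (POmega F (quadFormOdd m F)) := Finite.of_surjective π hπ
  -- the three nodes
  have hlt : ∀ k : ℕ, k < 3 → k < (2 * m + 1) / 2 := fun k hk => by omega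
  let i0 : Fin ((2 * m + 1) / 2) := ⟨0, hlt 0 (by norm_num)⟩
  let i1 : Fin ((2 * m + 1) / 2) := ⟨1, hlt 1 (by norm_num)⟩
  let i2 : Fin ((2 * m + 1) / 2) := ⟨2, hlt 2 (by norm_num)⟩
  have hN' : ∀ i, D'.e i ∈ P'.N := fun i => P'.subset (D'.e_mem_S i)
  -- commutator criterion in the restricted pair
  have hcomm : ∀ i j : Fin ((2 * m + 1) / 2),
      Eqv P' (D'.e i * D'.e j) (D'.e j * D'.e i) ↔
        sRef (RingHom.id F) i * sRef (RingHom.id F) j * (sRef (RingHom.id F) i)⁻¹ * (sRef (RingHom.id F) j)⁻¹ ∈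
          Bs (n := 2 * m + 1) (RingHom.id F) := by
    intro i j
    rw [Cfsg.Agent.Lib.H11.PM.eqv_comm_iff_commutator_mem _ _ (hN' i) (hN' j)]
    exact rootData_restrict_commutator_mem_iff G' hcov τ hτ hτG D hτT hXG hYG hUG i j
  have hinj : ∀ i j : Fin ((2 * m + 1) / 2), D'.e i = D'.e j → i = j := by
    intro i j hij
    apply Cfsg.Agent.Lib.H24.FBN.sRef_inj (RingHom.id F) i j
    have h1 : sRef (RingHom.id F) i * τ (sRef (RingHom.id F) i) =
        sRef (RingHom.id F) j * τ (sRef (RingHom.id F) j) := congrArg Subtype.val hij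
    have hgen : ∀ a b c d : ↥(GS (n := 2 * m + 1) (RingHom.id F)), a * b = c * d → a⁻¹ * c = b * d⁻¹ := by
      intro a b c d h
      calc a⁻¹ * c = a⁻¹ * (c * d) * d⁻¹ := by group
        _ = a⁻¹ * (a * b) * d⁻¹ := by rw [h]
        _ = b * d⁻¹ := by group
    have e1 : (sRef (RingHom.id F) i)⁻¹ * sRef (RingHom.id F) j =
        τ (sRef (RingHom.id F) i) * (τ (sRef (RingHom.id F) j))⁻¹ := hgen _ _ _ _ h1
    rw [e1]
    exact Ts_le_Bs (Subgroup.mul_mem _ (hτ1 _) (Subgroup.inv_mem _ (hτ1 _)))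
  apply pminBad_of_leaf hSpl π hπ hker (D'.e i0) (D'.e i1) (D'.e i2) (D'.e_mem_S i0) (D'.e_mem_S i1) (D'.e_mem_S i2)
  · intro h
    have := congrArg Fin.val (hinj _ _ h)
    simp [i0, i1] at this
  · intro h
    have := congrArg Fin.val (hinj _ _ h)
    simp [i0, i2] at this
  · intro t ht ht0 ht1
    rw [← D'.hS] at ht
    obtain ⟨j, rfl⟩ := ht
    rw [hcomm]
    have hj0 : j ≠ i0 := fun h => ht0 (h ▸ rfl)
    have hj1 : j ≠ i1 := fun h => ht1 (h ▸ rfl)
    have hj : (i0 : ℕ) + 2 ≤ j := by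
      have a0 : (j : ℕ) ≠ 0 := fun h => hj0 (Fin.ext h)
      have a1 : (j : ℕ) ≠ 1 := fun h => hj1 (Fin.ext h)
      show 0 + 2 ≤ (j : ℕ)
      omega
    rw [sRef_commutator_eq_one (RingHom.id F) i0 j (Or.inl hj)]
    exact Subgroup.one_mem _
  · rw [hcomm, commutator_mem_symm]
    exact sRef_commutator_not_mem_Bs (RingHom.id F) i0 i1 rfl
  · rw [hcomm]
    exact sRef_commutator_not_mem_Bs (RingHom.id F) i1 i2 rfl

end Cfsg.Agent.Lib.H11.PM
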