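import Mathlib
import Cfsg.Agent.Lib.H22.PearlDefs

/-!
# S5239 piece FILA (architect helper22): a subgroup of a filtered group with "cube shifts the level by two"
is generated by two elements.
-/

set_option autoImplicit false

namespace Cfsg.Agent.Lib.H11.Pearl

open Cfsg.Agent.Lib.H22.Pearl

variable {G : Type*} [Group G] {M : ℕ → Subgroup G} {m : ℕ}

theorem fil_mono (hM : Fil M m) {i j : ℕ} (hij : i ≤ j) : M j ≤ M i := by
  induction hij with
  | refl => exact le_rfl
  | step _ ih => exact (hM.anti _).trans ih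

theorem fil_eq_bot (hM : Fil M m) {i : ℕ} (hi : m ≤ i) : M i = ⊥ := by
  have := fil_mono hM hi
  rw [hM.bot] at this
  exact le_bot_iff.1 this

/-- a level of an element is `< m` -/
theorem fil_lt (hM : Fil M m) {i : ℕ} {g : G} (h1 : g ∈ M i) (h2 : g ∉ M (i + 1)) : i < m := by
  by_contra hlt
  rw [not_lt] at hlt
  rw [fil_eq_bot hM hlt, Subgroup.mem_bot] at h1
  exact h2 (h1 ▸ (M (i + 1)).one_mem)

/-- generation lemma: if `K ≤ H` contains an element of every level of `H`, then `K = H` on `M 0`. -/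
theorem fil_cover (hM : Fil M m) (H K : Subgroup G) (hH : H ≤ M 0) (hKH : K ≤ H)
    (hcov : ∀ i, (∃ g ∈ H, g ∈ M i ∧ g ∉ M (i + 1)) → ∃ w ∈ K, w ∈ M i ∧ w ∉ M (i + 1)) :
    K = H := by
  apply le_antisymm hKH
  -- descending induction
  have key : ∀ k i, i + k = m → ∀ g ∈ H, g ∈ M i → g ∈ K := by
    intro k
    induction k with
    | zero =>
      intro i hi g _ hgi
      have : M i = ⊥ := fil_eq_bot hM (by omega)
      rw [this, Subgroup.mem_bot] at hgi
      rw [hgi]; exact K.one_mem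
    | succ k ih =>
      intro i hi g hgH hgi
      by_cases hg1 : g ∈ M (i + 1)
      · exact ih (i + 1) (by omega) g hgH hg1
      · obtain ⟨w, hwK, hwi, hw1⟩ := hcov i ⟨g, hgH, hgi, hg1⟩
        obtain ⟨j, hj⟩ := hM.idx i (by omega) g hgi w hwi hw1
        have h1 : g * w ^ j ∈ K :=
          ih (i + 1) (by omega) _ (H.mul_mem hgH (H.pow_mem (hKH hwK) j)) hj
        have h2 : g = g * w ^ j * (w ^ j)⁻¹ := by group
        rw [h2]
        exact K.mul_mem h1 (K.inv_mem (K.pow_mem hwK j))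
  intro g hg
  exact key m 0 (by omega) g hg (hH hg)

/-- iterated cubes shift the level by two each time -/
theorem fil_pow_level (_hM : Fil M m)
    (hpow : ∀ i, i + 2 < m → ∀ d ∈ M i, d ∉ M (i + 1) → d ^ 3 ∈ M (i + 2) ∧ d ^ 3 ∉ M (i + 3))
    {i : ℕ} {d : G} (hd : d ∈ M i) (hd1 : d ∉ M (i + 1)) :
    ∀ k, i + 2 * k < m → d ^ 3 ^ k ∈ M (i + 2 * k) ∧ d ^ 3 ^ k ∉ M (i + 2 * k + 1) := by
  intro k
  induction k with
  | zero =>
    intro _
    simpa using ⟨hd, hd1⟩
  | succ k ih =>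
    intro hk
    obtain ⟨h1, h2⟩ := ih (by omega)
    have := hpow (i + 2 * k) (by omega) _ h1 h2
    have e1 : d ^ 3 ^ (k + 1) = (d ^ 3 ^ k) ^ 3 := by rw [pow_succ, pow_mul]
    have e2 : i + 2 * (k + 1) = i + 2 * k + 2 := by ring
    rw [e1, e2]
    exact this

theorem fil_two_gen (hM : Fil M m)
    (hpow : ∀ i, i + 2 < m → ∀ d ∈ M i, d ∉ M (i + 1) → d ^ 3 ∈ M (i + 2) ∧ d ^ 3 ∉ M (i + 3))
    (H : Subgroup G) (hH : H ≤ M 0) : ∃ x y : G, Subgroup.closure ({x, y} : Set G) = H := by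
  classical
  by_cases hP : ∃ i, ∃ g ∈ H, g ∈ M i ∧ g ∉ M (i + 1)
  · -- least level `a`
    obtain ⟨x, hxH, hxa, hxa1⟩ := Nat.find_spec hP
    have hamin : ∀ i, (∃ g ∈ H, g ∈ M i ∧ g ∉ M (i + 1)) → Nat.find hP ≤ i :=
      fun i hi => Nat.find_min' hP hi
    set a := Nat.find hP with ha
    by_cases hQ : ∃ i, (∃ g ∈ H, g ∈ M i ∧ g ∉ M (i + 1)) ∧ i % 2 ≠ a % 2
    · obtain ⟨⟨y, hyH, hyb, hyb1⟩, hbpar⟩ := Nat.find_spec hQ
      have hbmin : ∀ i, ((∃ g ∈ H, g ∈ M i ∧ g ∉ M (i + 1)) ∧ i % 2 ≠ a % 2) → Nat.find hQ ≤ i :=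
        fun i hi => Nat.find_min' hQ hi
      set b := Nat.find hQ with hb
      refine ⟨x, y, fil_cover hM H _ hH ?_ ?_⟩
      · rw [Subgroup.closure_le]
        rintro z (rfl | rfl)
        · exact hxH
        · exact hyH
      · intro i hi
        have hxK : x ∈ Subgroup.closure ({x, y} : Set G) :=
          Subgroup.subset_closure (by simp)
        have hyK : y ∈ Subgroup.closure ({x, y} : Set G) :=
          Subgroup.subset_closure (by simp)
        obtain ⟨g, hgH, hgi, hgi1⟩ := hi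
        have hilt : i < m := fil_lt hM hgi hgi1
        by_cases hpar : i % 2 = a % 2
        · have hai := hamin i ⟨g, hgH, hgi, hgi1⟩
          obtain ⟨k, hk⟩ : ∃ k, i = a + 2 * k := ⟨(i - a) / 2, by omega⟩
          have := fil_pow_level hM hpow hxa hxa1 k (by omega)
          rw [← hk] at this
          exact ⟨_, Subgroup.pow_mem _ hxK _, this.1, this.2⟩
        · have hbi := hbmin i ⟨⟨g, hgH, hgi, hgi1⟩, hpar⟩
          obtain ⟨k, hk⟩ : ∃ k, i = b + 2 * k := ⟨(i - b) / 2, by omega⟩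
          have := fil_pow_level hM hpow hyb hyb1 k (by omega)
          rw [← hk] at this
          exact ⟨_, Subgroup.pow_mem _ hyK _, this.1, this.2⟩
    · simp only [not_exists, not_and, not_not] at hQ
      refine ⟨x, 1, fil_cover hM H _ hH ?_ ?_⟩
      · rw [Subgroup.closure_le]
        rintro z (rfl | rfl)
        · exact hxH
        · exact H.one_mem
      · intro i hi
        have hxK : x ∈ Subgroup.closure ({x, 1} : Set G) :=
          Subgroup.subset_closure (by simp)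
        have hpar := hQ i hi
        obtain ⟨g, hgH, hgi, hgi1⟩ := hi
        have hilt : i < m := fil_lt hM hgi hgi1
        have hai := hamin i ⟨g, hgH, hgi, hgi1⟩
        obtain ⟨k, hk⟩ : ∃ k, i = a + 2 * k := ⟨(i - a) / 2, by omega⟩
        have := fil_pow_level hM hpow hxa hxa1 k (by omega)
        rw [← hk] at this
        exact ⟨_, Subgroup.pow_mem _ hxK _, this.1, this.2⟩
  · simp only [not_exists, not_and, not_not] at hP
    refine ⟨1, 1, fil_cover hM H _ hH ?_ ?_⟩
    · rw [Subgroup.closure_le]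
      rintro z (rfl | rfl) <;> exact H.one_mem
    · rintro i ⟨g, hgH, hgi, hgi1⟩
      exact absurd (hP i g hgH hgi) hgi1

end Cfsg.Agent.Lib.H11.Pearl
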