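import Mathlib
import Cfsg.Agent.Lib.H22.PearlDefs
import Cfsg.Agent.Lib.H11.PearlFILA

/-!
# S5239 piece FILB (architect helper22): a subgroup containing an element `t` whose commutators shift
the level by exactly one is generated by `t` and one more element.
-/

set_option autoImplicit false

namespace Cfsg.Agent.Lib.H11.Pearl

open Cfsg.Agent.Lib.H22.Pearl

variable {G : Type*} [Group G] {M : ℕ → Subgroup G} {m : ℕ}

/-- the iterated commutators `x, [x,t], [[x,t],t], …` -/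
def itComm (t x : G) : ℕ → G
  | 0 => x
  | (k + 1) => itComm t x k * t * (itComm t x k)⁻¹ * t⁻¹

theorem itComm_mem (t x : G) (K : Subgroup G) (ht : t ∈ K) (hx : x ∈ K) : ∀ k, itComm t x k ∈ K := by
  intro k
  induction k with
  | zero => exact hx
  | succ k ih =>
    exact K.mul_mem (K.mul_mem (K.mul_mem ih ht) (K.inv_mem ih)) (K.inv_mem ht)

theorem itComm_level (t : G)
    (hcomm : ∀ i, i + 1 < m → ∀ d ∈ M i, d ∉ M (i + 1) →
      d * t * d⁻¹ * t⁻¹ ∈ M (i + 1) ∧ d * t * d⁻¹ * t⁻¹ ∉ M (i + 2))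
    {a : ℕ} {x : G} (hx : x ∈ M a) (hx1 : x ∉ M (a + 1)) :
    ∀ k, a + k < m → itComm t x k ∈ M (a + k) ∧ itComm t x k ∉ M (a + k + 1) := by
  intro k
  induction k with
  | zero =>
    intro _
    exact ⟨hx, hx1⟩
  | succ k ih =>
    intro hk
    obtain ⟨h1, h2⟩ := ih (by omega)
    have := hcomm (a + k) (by omega) _ h1 h2
    have e2 : a + (k + 1) = a + k + 1 := by ring
    rw [e2]
    exact this

theorem fil_two_gen_of_not_le (hM : Fil M m) (t : G)
    (hidxt : ∀ g : G, ∃ j : ℕ, g * t ^ j ∈ M 0)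
    (hcomm : ∀ i, i + 1 < m → ∀ d ∈ M i, d ∉ M (i + 1) →
      d * t * d⁻¹ * t⁻¹ ∈ M (i + 1) ∧ d * t * d⁻¹ * t⁻¹ ∉ M (i + 2))
    (H : Subgroup G) (ht : t ∈ H) : ∃ x : G, Subgroup.closure ({t, x} : Set G) = H := by
  classical
  -- reduction: it suffices to find `x ∈ H` such that `⟨t,x⟩ ⊓ M 0` covers the levels of `H ⊓ M 0`
  have red : ∀ x ∈ H, (∀ i, (∃ g ∈ H ⊓ M 0, g ∈ M i ∧ g ∉ M (i + 1)) →
      ∃ w ∈ Subgroup.closure ({t, x} : Set G) ⊓ M 0, w ∈ M i ∧ w ∉ M (i + 1)) →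
      Subgroup.closure ({t, x} : Set G) = H := by
    intro x hxH hcov
    have hKH : Subgroup.closure ({t, x} : Set G) ≤ H := by
      rw [Subgroup.closure_le]
      rintro z (rfl | rfl)
      · exact ht
      · exact hxH
    have h1 : Subgroup.closure ({t, x} : Set G) ⊓ M 0 = H ⊓ M 0 :=
      fil_cover hM (H ⊓ M 0) _ inf_le_right (inf_le_inf_right _ hKH) hcov
    apply le_antisymm hKH
    intro g hg
    obtain ⟨j, hj⟩ := hidxt g
    have htK : t ∈ Subgroup.closure ({t, x} : Set G) := Subgroup.subset_closure (by simp)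
    have h2 : g * t ^ j ∈ H ⊓ M 0 := ⟨H.mul_mem hg (H.pow_mem ht j), hj⟩
    rw [← h1] at h2
    have h3 : g = g * t ^ j * (t ^ j)⁻¹ := by group
    rw [h3]
    exact Subgroup.mul_mem _ h2.1 (Subgroup.inv_mem _ (Subgroup.pow_mem _ htK j))
  by_cases hP : ∃ i, ∃ g ∈ H ⊓ M 0, g ∈ M i ∧ g ∉ M (i + 1)
  · obtain ⟨x, hxH, hxa, hxa1⟩ := Nat.find_spec hP
    have hamin : ∀ i, (∃ g ∈ H ⊓ M 0, g ∈ M i ∧ g ∉ M (i + 1)) → Nat.find hP ≤ i :=
      fun i hi => Nat.find_min' hP hi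
    set a := Nat.find hP with ha
    refine ⟨x, red x hxH.1 ?_⟩
    rintro i ⟨g, hgH, hgi, hgi1⟩
    have hilt : i < m := fil_lt hM hgi hgi1
    have hai := hamin i ⟨g, hgH, hgi, hgi1⟩
    obtain ⟨k, hk⟩ : ∃ k, i = a + k := ⟨i - a, by omega⟩
    have := itComm_level t hcomm hxa hxa1 k (by omega)
    rw [← hk] at this
    have htK : t ∈ Subgroup.closure ({t, x} : Set G) := Subgroup.subset_closure (by simp)
    have hxK : x ∈ Subgroup.closure ({t, x} : Set G) := Subgroup.subset_closure (by simp)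
    exact ⟨_, ⟨itComm_mem t x _ htK hxK k, fil_mono hM (Nat.zero_le i) this.1⟩, this.1, this.2⟩
  · simp only [not_exists, not_and, not_not] at hP
    refine ⟨1, red 1 H.one_mem ?_⟩
    rintro i ⟨g, hgH, hgi, hgi1⟩
    exact absurd (hP i g hgH hgi) hgi1

end Cfsg.Agent.Lib.H11.Pearl
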