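import Mathlib
import Cfsg.Agent.Lib.H26.PPearlDefs
import Cfsg.Agent.Lib.H22.MCSCARD
import Cfsg.Agent.Lib.H12.PearlT
import Cfsg.Agent.Lib.H11.PearlFILB

/-!
# S5238 (pearls in `p`-groups) — piece **TWO** (helper11 for architect helper26)

Subgroups of a `p`-group of maximal class containing a uniform element are generated by two elements.
-/

set_option autoImplicit false
set_option linter.dupNamespace false

namespace Cfsg.Agent.Lib.H11.PPearl

open Cfsg.Agent.Lib.H22.Pearl Cfsg.Agent.Lib.H26.PPearl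

/-- a subgroup of index `p`: the quotient is generated by any element outside -/
theorem two_idx {p : ℕ} [Fact p.Prime] {G : Type*} [Group G] [Finite G] (H K : Subgroup G) (hKH : K ≤ H)
    (hN : ∀ h ∈ H, ∀ k ∈ K, h * k * h⁻¹ ∈ K) (hc : Nat.card ↥H = p * Nat.card ↥K) :
    ∀ g ∈ H, ∀ w ∈ H, w ∉ K → ∃ j : ℕ, g * w ^ j ∈ K := by
  intro g hg w hw hwK
  have hnorm : (K.subgroupOf H).Normal := by
    constructor
    intro k hk h
    rw [Subgroup.mem_subgroupOf] at hk ⊢
    exact hN h h.2 k hk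
  have hcK : Nat.card (K.subgroupOf H) = Nat.card K :=
    Nat.card_congr (Subgroup.subgroupOfEquivOfLe hKH).toEquiv
  have hq : Nat.card (↥H ⧸ K.subgroupOf H) = p := by
    have h1 := Subgroup.card_eq_card_quotient_mul_card_subgroup (K.subgroupOf H)
    rw [hc, hcK] at h1
    exact (Nat.eq_of_mul_eq_mul_right Nat.card_pos h1).symm
  have hw1 : (QuotientGroup.mk' (K.subgroupOf H) ⟨w, hw⟩) ≠ 1 := by
    intro h
    apply hwK
    rw [QuotientGroup.mk'_apply, QuotientGroup.eq_one_iff, Subgroup.mem_subgroupOf] at h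
    exact h
  have hmem : (QuotientGroup.mk' (K.subgroupOf H) ⟨g, hg⟩)⁻¹ ∈
      Subgroup.zpowers (QuotientGroup.mk' (K.subgroupOf H) ⟨w, hw⟩) :=
    mem_zpowers_of_prime_card hq hw1
  rw [← mem_powers_iff_mem_zpowers] at hmem
  obtain ⟨j, hj⟩ := hmem
  refine ⟨j, ?_⟩
  have h3 : QuotientGroup.mk' (K.subgroupOf H) (⟨g, hg⟩ * ⟨w, hw⟩ ^ j) = 1 := by
    rw [map_mul, map_pow]
    rw [show (QuotientGroup.mk' (K.subgroupOf H) ⟨w, hw⟩) ^ j = _ from hj]
    exact mul_inv_cancel _
  rw [QuotientGroup.mk'_apply, QuotientGroup.eq_one_iff, Subgroup.mem_subgroupOf] at h3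
  simpa using h3

section

variable {G : Type*} [Group G]

/-- level `0` of the filtration: helper12's `comm_shift_zero` with `S1 G` replaced by an arbitrary subgroup -/
theorem two_shift_zero (M0 : Subgroup G) (hne : ¬ L G 1 ≤ L G 2)
    (hidx0 : ∀ g ∈ M0, ∀ w ∈ M0, w ∉ L G 1 → ∃ j : ℕ, g * w ^ j ∈ L G 1)
    (t : G) (hidxt : ∀ g : G, ∃ j : ℕ, g * t ^ j ∈ M0) :
    ∀ d ∈ M0, d ∉ L G 1 → d * t * d⁻¹ * t⁻¹ ∉ L G 2 := by
  intro d hd hdn hc
  apply hne
  set π := QuotientGroup.mk' (L G 2) with hπ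
  have hcomm : Commute (π d) (π t) := (Cfsg.Agent.Lib.H12.Pearl.t_comm_mem_iff (L G 2) d t).mp hc
  have hL1 : ∀ x ∈ L G 1, ∀ g : G, Commute (π x) (π g) := fun x hx g =>
    (Cfsg.Agent.Lib.H12.Pearl.t_comm_mem_iff (L G 2) x g).mp
      (Cfsg.Agent.Lib.H12.Pearl.t_comm_mem_succ hx g)
  have hdec : ∀ g : G, ∃ (j j' : ℕ) (l : G), l ∈ L G 1 ∧ g * t ^ j * d ^ j' = l := by
    intro g
    obtain ⟨j, hj⟩ := hidxt g
    obtain ⟨j', hj'⟩ := hidx0 _ hj d hd hdn
    exact ⟨j, j', _, hj', rfl⟩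
  have hdZ : ∀ g : G, Commute (π d) (π g) := by
    intro g
    obtain ⟨j, j', l, hl, hg⟩ := hdec g
    have hg' : g = l * (d ^ j')⁻¹ * (t ^ j)⁻¹ := by rw [← hg]; group
    rw [hg', map_mul, map_mul, map_inv, map_inv, map_pow, map_pow]
    exact (((hL1 l hl d).symm).mul_right ((Commute.refl _).pow_right j').inv_right).mul_right
      (hcomm.pow_right j).inv_right
  have htS : ∀ s ∈ M0, Commute (π t) (π s) := by
    intro s hs
    obtain ⟨j', hj'⟩ := hidx0 s hs d hd hdn
    have hs' : s = (s * d ^ j') * (d ^ j')⁻¹ := by group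
    rw [hs', map_mul, map_inv, map_pow]
    exact ((hL1 _ hj' t).symm).mul_right ((hdZ t).symm.pow_right j').inv_right
  have htZ : ∀ g : G, Commute (π t) (π g) := by
    intro g
    obtain ⟨j, hj⟩ := hidxt g
    have hg' : g = (g * t ^ j) * (t ^ j)⁻¹ := by group
    rw [hg', map_mul, map_inv, map_pow]
    exact (htS _ hj).mul_right ((Commute.refl _).pow_right j).inv_right
  have hall : ∀ a b : G, Commute (π a) (π b) := by
    intro a b
    obtain ⟨j, j', l, hl, hg⟩ := hdec a
    have ha' : a = l * (d ^ j')⁻¹ * (t ^ j)⁻¹ := by rw [← hg]; group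
    rw [ha', map_mul, map_mul, map_inv, map_inv, map_pow, map_pow]
    exact ((hL1 l hl b).mul_left ((hdZ b).pow_left j').inv_left).mul_left ((htZ b).pow_left j).inv_left
  change ⁅(⊤ : Subgroup G).lowerCentralSeries 0, (⊤ : Subgroup G)⁆ ≤ L G 2
  rw [Subgroup.commutator_le]
  intro a _ b _
  exact (Cfsg.Agent.Lib.H12.Pearl.t_comm_mem_iff (L G 2) a b).mpr (hall a b)

/-- the filtration `M0 ≥ L 1 ≥ L 2 ≥ …` -/
def twoM (M0 : Subgroup G) : ℕ → Subgroup G
  | 0 => M0
  | (i + 1) => L G (i + 1)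

@[simp] theorem twoM_zero (M0 : Subgroup G) : twoM M0 0 = M0 := rfl
@[simp] theorem twoM_succ (M0 : Subgroup G) (i : ℕ) : twoM M0 (i + 1) = L G (i + 1) := rfl

end

section

variable {p : ℕ} [Fact p.Prime] {G : Type*} [Group G] [Finite G] {n : ℕ}

/-- a subgroup of index `p` containing `L 1` and missing `t` -/
theorem two_exists_M0 (hn : 3 ≤ n) (hG : Nat.card G = p ^ n)
    (hcard : ∀ i, 1 ≤ i → i ≤ n - 1 → Nat.card ↥(L G i) = p ^ (n - 1 - i))
    (t : G) (ht : t ∉ L G 1) :
    ∃ M0 : Subgroup G, L G 1 ≤ M0 ∧ t ∉ M0 ∧ Nat.card M0 = p ^ (n - 1) := by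
  have hpp : p.Prime := Fact.out
  have hc1 : Nat.card (L G 1) = p ^ (n - 2) := by
    have := hcard 1 le_rfl (by omega)
    rwa [show n - 1 - 1 = n - 2 by omega] at this
  have hmc : L G (n - 2) ≠ ⊥ := by
    intro h
    have h1 := hcard (n - 2) (by omega) (by omega)
    rw [h, Subgroup.card_bot, show n - 1 - (n - 2) = 1 by omega, pow_one] at h1
    exact hpp.one_lt.ne h1
  have hpow : ∀ x : G, x ^ p ∈ L G 1 :=
    Cfsg.Agent.Lib.H22.MCS.pow_mem_commutator_of_maxclass p hn hG hmc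
  set π := QuotientGroup.mk' (L G 1) with hπ
  have hπs : Function.Surjective π := QuotientGroup.mk'_surjective _
  have hQ : Nat.card (G ⧸ L G 1) = p ^ 2 := by
    have h2 := Subgroup.card_eq_card_quotient_mul_card_subgroup (L G 1)
    rw [hG, hc1] at h2
    have h3 : p ^ n = p ^ 2 * p ^ (n - 2) := by rw [← pow_add]; congr 1; omega
    rw [h3] at h2
    exact (Nat.eq_of_mul_eq_mul_right (pow_pos hpp.pos _) h2).symm
  have hord : ∀ x : G, x ∉ L G 1 → orderOf (π x) = p := by
    intro x hx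
    apply orderOf_eq_prime
    · rw [← map_pow, hπ, QuotientGroup.mk'_apply, QuotientGroup.eq_one_iff]
      exact hpow x
    · rw [hπ, QuotientGroup.mk'_apply, Ne, QuotientGroup.eq_one_iff]
      exact hx
  -- the subgroup `⟨t⟩ L 1`
  have hcardz : ∀ x : G, x ∉ L G 1 → Nat.card ((Subgroup.zpowers (π x)).comap π) = p ^ (n - 1) := by
    intro x hx
    have h1 : ((Subgroup.zpowers (π x)).comap π).index = (Subgroup.zpowers (π x)).index :=
      Subgroup.index_comap_of_surjective _ hπs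
    have h2 : (Subgroup.zpowers (π x)).index * p = p ^ 2 := by
      have := Subgroup.index_mul_card (Subgroup.zpowers (π x))
      rw [Nat.card_zpowers, hord x hx, hQ] at this
      exact this
    have h3 : (Subgroup.zpowers (π x)).index = p := by
      have : p ^ 2 = p * p := sq p
      rw [this] at h2
      exact Nat.eq_of_mul_eq_mul_right hpp.pos h2
    have h4 := Subgroup.index_mul_card ((Subgroup.zpowers (π x)).comap π)
    rw [h1, h3, hG] at h4
    have h5 : p ^ n = p * p ^ (n - 1) := by rw [← pow_succ']; congr 1; omega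
    rw [h5] at h4
    exact Nat.eq_of_mul_eq_mul_left hpp.pos h4
  -- choose `s` outside `⟨t⟩ L 1`
  have hex : ∃ s : G, s ∉ (Subgroup.zpowers (π t)).comap π := by
    by_contra hall
    simp only [not_exists, not_not] at hall
    have htop : (Subgroup.zpowers (π t)).comap π = ⊤ := by
      rw [eq_top_iff]
      intro x _
      exact hall x
    have h1 := hcardz t ht
    rw [htop, Subgroup.card_top, hG] at h1
    have := Nat.pow_right_injective hpp.two_le h1
    omega
  obtain ⟨s, hs⟩ := hex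
  have hsL : s ∉ L G 1 := by
    intro h
    apply hs
    rw [Subgroup.mem_comap]
    have : π s = 1 := by
      rw [hπ, QuotientGroup.mk'_apply, QuotientGroup.eq_one_iff]
      exact h
    rw [this]
    exact Subgroup.one_mem _
  refine ⟨(Subgroup.zpowers (π s)).comap π, ?_, ?_, hcardz s hsL⟩
  · intro x hx
    rw [Subgroup.mem_comap]
    have : π x = 1 := by
      rw [hπ, QuotientGroup.mk'_apply, QuotientGroup.eq_one_iff]
      exact hx
    rw [this]
    exact Subgroup.one_mem _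
  · intro htm
    rw [Subgroup.mem_comap] at htm
    apply hs
    rw [Subgroup.mem_comap]
    -- `⟨π s⟩` has prime order and `π t ≠ 1` lies in it, so `π t` generates it
    have hcs : Nat.card (Subgroup.zpowers (π s)) = p := by
      rw [Nat.card_zpowers, hord s hsL]
    have ht1 : (⟨π t, htm⟩ : Subgroup.zpowers (π s)) ≠ 1 := by
      intro h
      apply ht
      have h' := congrArg Subtype.val h
      simp only [Subgroup.coe_one] at h'
      rw [hπ, QuotientGroup.mk'_apply, QuotientGroup.eq_one_iff] at h'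
      exact h'
    have hmem : (⟨π s, Subgroup.mem_zpowers _⟩ : Subgroup.zpowers (π s)) ∈
        Subgroup.zpowers (⟨π t, htm⟩ : Subgroup.zpowers (π s)) :=
      mem_zpowers_of_prime_card hcs ht1
    obtain ⟨k, hk⟩ := Subgroup.mem_zpowers_iff.1 hmem
    have hk' := congrArg Subtype.val hk
    simp only [Subgroup.coe_zpow] at hk'
    rw [← hk']
    exact Subgroup.zpow_mem_zpowers _ _

/-- **TWO**. -/
theorem two_gen_of_uniform (hn : 3 ≤ n) (hG : Nat.card G = p ^ n)
    (hcard : ∀ i, 1 ≤ i → i ≤ n - 1 → Nat.card ↥(L G i) = p ^ (n - 1 - i))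
    (t : G) (ht : t ∉ L G 1)
    (hU2 : ∀ i, 1 ≤ i → i + 2 < n → ∀ d ∈ L G i, d ∉ L G (i + 1) → d * t * d⁻¹ * t⁻¹ ∉ L G (i + 2))
    (H : Subgroup G) (htH : t ∈ H) : ∃ x : G, Subgroup.closure ({t, x} : Set G) = H := by
  have hpp : p.Prime := Fact.out
  obtain ⟨M0, hLM, htM, hcM⟩ := two_exists_M0 hn hG hcard t ht
  have hc1 : Nat.card (L G 1) = p ^ (n - 2) := by
    have := hcard 1 le_rfl (by omega)
    rwa [show n - 1 - 1 = n - 2 by omega] at this
  have hc2 : Nat.card (L G 2) = p ^ (n - 3) := by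
    have := hcard 2 (by omega) (by omega)
    rwa [show n - 1 - 2 = n - 3 by omega] at this
  have hcommL1 : ∀ a b : G, a * b * a⁻¹ * b⁻¹ ∈ L G 1 := fun a b =>
    Cfsg.Agent.Lib.H12.Pearl.t_comm_mem_succ (i := 0) (Subgroup.mem_top a) b
  -- `M0` is normal
  have hM0n : ∀ h : G, ∀ k ∈ M0, h * k * h⁻¹ ∈ M0 := by
    intro h k hk
    have : h * k * h⁻¹ = (h * k * h⁻¹ * k⁻¹) * k := by group
    rw [this]
    exact M0.mul_mem (hLM (hcommL1 h k)) hk
  -- index computations
  have hidxt : ∀ g : G, ∃ j : ℕ, g * t ^ j ∈ M0 := by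
    intro g
    have hc : Nat.card (⊤ : Subgroup G) = p * Nat.card M0 := by
      rw [Subgroup.card_top, hG, hcM, ← pow_succ']
      congr 1
      omega
    exact two_idx (p := p) ⊤ M0 le_top (fun h _ k hk => hM0n h k hk) hc g (Subgroup.mem_top g) t
      (Subgroup.mem_top t) htM
  have hidx0 : ∀ g ∈ M0, ∀ w ∈ M0, w ∉ L G 1 → ∃ j : ℕ, g * w ^ j ∈ L G 1 := by
    have hc : Nat.card M0 = p * Nat.card (L G 1) := by
      rw [hcM, hc1, ← pow_succ']
      congr 1
      omega
    exact two_idx (p := p) M0 (L G 1) hLM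
      (fun h _ k hk => Cfsg.Agent.Lib.H12.Pearl.t_conj_mem hk h) hc
  have hne : ¬ L G 1 ≤ L G 2 := by
    intro hle
    have h1 := Subgroup.card_le_of_le hle
    rw [hc1, hc2] at h1
    have := (Nat.pow_le_pow_iff_right hpp.one_lt).1 h1
    omega
  -- the filtration
  have hFil : Fil (twoM M0) (n - 1) := by
    refine ⟨?_, ?_, ?_⟩
    · intro i
      cases i with
      | zero => exact hLM
      | succ i => exact Cfsg.Agent.Lib.H12.Pearl.t_L_succ_le (i + 1)
    · obtain ⟨k, hk⟩ : ∃ k, n - 1 = k + 1 := ⟨n - 2, by omega⟩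
      rw [hk, twoM_succ, ← hk]
      have h1 := hcard (n - 1) (by omega) le_rfl
      rw [Nat.sub_self, pow_zero] at h1
      exact Subgroup.card_eq_one.1 h1
    · intro i hi
      cases i with
      | zero => exact hidx0
      | succ i =>
        have hc : Nat.card (L G (i + 1)) = p * Nat.card (L G (i + 2)) := by
          rw [hcard (i + 1) (by omega) (by omega), hcard (i + 2) (by omega) (by omega), ← pow_succ']
          congr 1
          omega
        exact two_idx (p := p) (L G (i + 1)) (L G (i + 2))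
          (Cfsg.Agent.Lib.H12.Pearl.t_L_succ_le (i + 1))
          (fun h _ k hk => Cfsg.Agent.Lib.H12.Pearl.t_conj_mem hk h) hc
  apply Cfsg.Agent.Lib.H11.Pearl.fil_two_gen_of_not_le hFil t hidxt _ H htH
  intro i hi d hd hdn
  cases i with
  | zero =>
    refine ⟨hcommL1 d t, ?_⟩
    exact two_shift_zero M0 hne hidx0 t hidxt d hd hdn
  | succ i =>
    refine ⟨Cfsg.Agent.Lib.H12.Pearl.t_comm_mem_succ hd t, ?_⟩
    exact hU2 (i + 1) (by omega) (by omega) d hd hdn

end

end Cfsg.Agent.Lib.H11.PPearl
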