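import Mathlib
import Cfsg.Prelude.Def_Local
import Cfsg.Prelude.Def_Solvable
import Cfsg.Agent.Lib.H10.PSolvable2
import Cfsg.Agent.Lib.H19.PComplement
import Cfsg.Agent.Lib.H19.Cores
import Cfsg.Agent.Lib.H1.FrattiniArg

/-!
# S4885 piece FINAL (helper11)

A finite `p`-solvable group `H` with `O_p(H) ≤ Φ(H)` and `O_{p'}(H) ≤ Φ(H)` is trivial.
Blueprint: `tools/blueprints/S4885.md`, exact signature `tools/blueprints/S4885_sigs.lean`.
-/

set_option autoImplicit false

namespace Cfsg.Agent.Lib.H11.PQ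

open Cfsg

section

variable {H : Type*} [Group H] [Finite H]

/-- if `N(S) Φ(H) = H` then `S` is normal -/
theorem normal_of_normalizer_sup_frattini {S : Subgroup H}
    (h : Subgroup.normalizer (S : Set H) ⊔ frattini H = ⊤) : S.Normal :=
  Subgroup.normalizer_eq_top_iff.mp (frattini_nongenerating h)

/-- `T ⊴ H` over `Φ(H)` with `T / Φ(H)` a `p`-group lies in `Φ(H)` when `O_p(H) ≤ Φ(H)` -/
theorem le_frattini_of_pgroup_quot (p : ℕ) [Fact p.Prime] (h1 : pCore p H ≤ frattini H)
    {T : Subgroup H} [T.Normal] {m : ℕ} (hidx : (frattini H).relIndex T = p ^ m) :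
    T ≤ frattini H := by
  have hp : p.Prime := Fact.out
  obtain ⟨S, hS⟩ := Cfsg.Agent.Lib.H1.exists_isSylowOf p T
  have hd1 : (frattini H ⊔ S).relIndex T ∣ p ^ m := by
    rw [← hidx]
    exact Subgroup.relIndex_dvd_of_le_left T le_sup_left
  have hd2 : (frattini H ⊔ S).relIndex T ∣ S.relIndex T :=
    Subgroup.relIndex_dvd_of_le_left T le_sup_right
  have hone : (frattini H ⊔ S).relIndex T = 1 := by
    obtain ⟨j, -, hj⟩ := (Nat.dvd_prime_pow hp).mp hd1
    rcases Nat.eq_zero_or_pos j with hj0 | hjpos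
    · rw [hj, hj0, pow_zero]
    · exfalso
      apply hS.not_dvd_relIndex
      refine dvd_trans ?_ hd2
      rw [hj]
      exact dvd_pow_self p hjpos.ne'
  have hTle : T ≤ frattini H ⊔ S := Subgroup.relIndex_eq_one.mp hone
  have hfr : Subgroup.normalizer (S : Set H) ⊔ T = ⊤ := hS.normalizer_sup_eq_top
  have hSN : S ≤ Subgroup.normalizer (S : Set H) := Subgroup.le_normalizer
  have htop : Subgroup.normalizer (S : Set H) ⊔ frattini H = ⊤ := by
    apply top_unique
    rw [← hfr]
    apply sup_le le_sup_left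
    exact hTle.trans (sup_le le_sup_right (hSN.trans le_sup_left))
  have hSn : S.Normal := normal_of_normalizer_sup_frattini htop
  have hSΦ : S ≤ frattini H := (Cfsg.Agent.Lib.H19.le_pCore hSn hS.isPGroup).trans h1
  exact hTle.trans (sup_le le_rfl hSΦ)

/-- the Sylow `p`-subgroup of `Φ(H)` is normal in `H` -/
theorem exists_normal_sylow_frattini (p : ℕ) [Fact p.Prime] :
    ∃ D : Subgroup H, D.Normal ∧ IsPGroup p D ∧ D ≤ frattini H ∧ ¬ p ∣ D.relIndex (frattini H) := by
  obtain ⟨P⟩ : Nonempty (Sylow p (frattini H)) := inferInstance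
  have hnil : Group.IsNilpotent (frattini H) := frattini_nilpotent
  have h03 : Group.IsNilpotent (frattini H) → ∀ (q : ℕ) (_ : Fact q.Prime)
      (Q : Sylow q (frattini H)), (Q : Subgroup (frattini H)).Normal :=
    ((Group.isNilpotent_of_finite_tfae (G := ↥(frattini H))).out 0 3).mp
  have hPn : (P : Subgroup (frattini H)).Normal := h03 hnil p inferInstance P
  have hPc : (P : Subgroup (frattini H)).Characteristic := Sylow.characteristic_of_normal P hPn
  have hsyl := Cfsg.Agent.Lib.H1.isSylowOf_map_sylow P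
  exact ⟨(P : Subgroup (frattini H)).map (frattini H).subtype,
    ConjAct.normal_of_characteristic_of_normal, hsyl.isPGroup, hsyl.le, hsyl.not_dvd_relIndex⟩

/-- `T ⊴ H` over `Φ(H)` with `T / Φ(H)` a `p'`-group lies in `Φ(H)` when `O_{p'}(H) ≤ Φ(H)` -/
theorem le_frattini_of_pprime_quot (p : ℕ) [Fact p.Prime] (h2 : pPrimeCore p H ≤ frattini H)
    {T : Subgroup H} [T.Normal] (hΦT : frattini H ≤ T)
    (hidx : ((frattini H).relIndex T).Coprime p) : T ≤ frattini H := by
  have hp : p.Prime := Fact.out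
  obtain ⟨D, hDn, hDp, hDΦ, hDidx⟩ := exists_normal_sylow_frattini (H := H) p
  have hDT : D ≤ T := hDΦ.trans hΦT
  have hTN : T ≤ Subgroup.normalizer (D : Set H) := by
    rw [Subgroup.normalizer_eq_top_iff.mpr hDn]
    exact le_top
  have hrel : D.relIndex T = D.relIndex (frattini H) * (frattini H).relIndex T :=
    (Subgroup.relIndex_mul_relIndex D (frattini H) T hDΦ hΦT).symm
  have hcopT : (D.relIndex T).Coprime p := by
    rw [hrel]
    exact Nat.Coprime.mul_left ((Nat.Prime.coprime_iff_not_dvd hp).mpr hDidx).symm hidx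
  obtain ⟨a, ha⟩ := hDp.exists_card_eq
  have hcop : (Nat.card D).Coprime (D.relIndex T) := by
    rw [ha]
    exact Nat.Coprime.pow_left a hcopT.symm
  obtain ⟨L, -, hdisj, hsup, hLcard⟩ := Cfsg.Agent.Lib.H19.exists_complement_internal hDT hTN hcop
  have hLp : (Nat.card L).Coprime p := by
    rw [hLcard]
    exact hcopT
  have htop : Subgroup.normalizer (L : Set H) ⊔ frattini H = ⊤ := by
    apply top_unique
    intro x _
    obtain ⟨q, hq, hqx⟩ := Cfsg.Agent.Lib.H19.frattini_sz hDp hdisj hsup hLp x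
    have e : x = q * (q⁻¹ * x) := by group
    rw [e, sup_comm]
    exact Subgroup.mul_mem _ (Subgroup.mem_sup_left (hDΦ hq)) (Subgroup.mem_sup_right hqx)
  have hLn : L.Normal := normal_of_normalizer_sup_frattini htop
  have hLΦ : L ≤ frattini H := (Cfsg.Agent.Lib.H19.le_pPrimeCore hLn hLp).trans h2
  rw [← hsup]
  exact sup_le hDΦ hLΦ

end

/-- **FINAL**: a finite `p`-solvable group with `O_p(H) ≤ Φ(H)` and `O_{p'}(H) ≤ Φ(H)` is trivial. -/
theorem subsingleton_of_cores_le_frattini {H : Type*} [Group H] [Finite H] (p : ℕ) [Fact p.Prime]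
    (hps : IsPSolvable p H) (h1 : pCore p H ≤ frattini H) (h2 : pPrimeCore p H ≤ frattini H) :
    Subsingleton H := by
  have hΦtop : frattini H = ⊤ := by
    by_contra hΦ
    have hnt : Nontrivial (H ⧸ frattini H) := by
      rw [← not_subsingleton_iff_nontrivial]
      intro hs
      exact hΦ (QuotientGroup.subgroup_eq_top_of_subsingleton (frattini H) hs)
    have hpsL : IsPSolvable p (H ⧸ frattini H) :=
      Cfsg.Agent.Lib.H10.isPSolvable_quotient hps (frattini H)
    obtain ⟨M, hMn, hM1, hM⟩ := Cfsg.Agent.Lib.H10.exists_normal_of_isPSolvable hpsL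
    have hTn : (M.comap (QuotientGroup.mk' (frattini H))).Normal := hMn.comap _
    have hΦT : frattini H ≤ M.comap (QuotientGroup.mk' (frattini H)) := by
      have h := MonoidHom.ker_le_comap (QuotientGroup.mk' (frattini H)) M
      rwa [QuotientGroup.ker_mk'] at h
    have hTM : (M.comap (QuotientGroup.mk' (frattini H))).map (QuotientGroup.mk' (frattini H)) = M :=
      Subgroup.map_comap_eq_self_of_surjective (QuotientGroup.mk'_surjective _) M
    have hbot : (frattini H).map (QuotientGroup.mk' (frattini H)) = ⊥ := by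
      rw [eq_bot_iff]
      rintro _ ⟨x, hx, rfl⟩
      rw [Subgroup.mem_bot]
      exact (QuotientGroup.eq_one_iff x).mpr hx
    have hidx : (frattini H).relIndex (M.comap (QuotientGroup.mk' (frattini H))) = Nat.card M := by
      have h := Subgroup.relIndex_map_map (QuotientGroup.mk' (frattini H)) (frattini H)
        (M.comap (QuotientGroup.mk' (frattini H)))
      rw [QuotientGroup.ker_mk', sup_idem, sup_eq_left.mpr hΦT, hTM, hbot,
        Subgroup.relIndex_bot_left] at h
      exact h.symm
    have hTΦ : M.comap (QuotientGroup.mk' (frattini H)) ≤ frattini H := by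
      rcases hM with hMp | hMc
      · obtain ⟨m, hm⟩ := hMp.exists_card_eq
        exact le_frattini_of_pgroup_quot p h1 (hidx.trans hm)
      · exact le_frattini_of_pprime_quot p h2 hΦT (by rw [hidx]; exact hMc)
    apply hM1
    rw [← hTM, eq_bot_iff]
    rintro _ ⟨x, hx, rfl⟩
    rw [Subgroup.mem_bot]
    exact (QuotientGroup.eq_one_iff x).mpr (hTΦ hx)
  have hbt : (⊥ : Subgroup H) = ⊤ := frattini_nongenerating (by rw [hΦtop]; exact sup_top_eq _)
  refine ⟨fun a b => ?_⟩
  have ha : a ∈ (⊥ : Subgroup H) := by rw [hbt]; exact Subgroup.mem_top a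
  have hb : b ∈ (⊥ : Subgroup H) := by rw [hbt]; exact Subgroup.mem_top b
  rw [Subgroup.mem_bot.mp ha, Subgroup.mem_bot.mp hb]

end Cfsg.Agent.Lib.H11.PQ
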