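import Cfsg.Agent.Lib.H13.AutPSLField

/-!
# Involutory graph automorphisms of `PSL_n(F)` (part 1): the group-theoretic skeleton

`gam A = cGL A * tAut` is the graph automorphism `s ↦ A s⁻ᵀ A⁻¹`.  Conjugation by `cGL g` replaces
`A` by `g A gᵀ`; `gam A` is an involution iff `Aᵀ = ± A`; the centraliser of `gam A` in `Inndiag` is
the image of `{g | g A gᵀ = c A}`.
-/

set_option autoImplicit false
set_option linter.unusedSectionVars false

namespace Cfsg.Agent.Lib.H11.PSLGraph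

open Matrix Cfsg.Agent.Lib.H13.AutPSL

variable {n : ℕ} {F : Type*} [Field F]

/-- transpose, as an element of `GL` -/
def trGL (g : GL (Fin n) F) : GL (Fin n) F := tGL g⁻¹

theorem trGL_coe (g : GL (Fin n) F) :
    ((trGL g : GL (Fin n) F) : Matrix (Fin n) (Fin n) F) = (g : Matrix (Fin n) (Fin n) F)ᵀ :=
  tGL_inv_coe g

/-- the graph automorphism `s ↦ A s⁻ᵀ A⁻¹` -/
noncomputable def gam (A : GL (Fin n) F) : MulAut (ProjectiveSpecialLinearGroup (Fin n) F) :=
  cGL A * tAut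

theorem isGraph_iff (β : MulAut (ProjectiveSpecialLinearGroup (Fin n) F)) :
    Cfsg.IsGraphAutClassPSL β ↔ 3 ≤ n ∧ ∃ A : GL (Fin n) F, β = gam A := by
  constructor
  · rintro ⟨hn, δ, γ, ⟨g, hg⟩, hγ, rfl⟩
    refine ⟨hn, g, ?_⟩
    have h1 : δ = cGL g := eq_of_isInnerDiagonal g hg
    have h2 : γ = tAut := eq_of_isInverseTranspose hγ
    rw [h1, h2]; rfl
  · rintro ⟨hn, A, rfl⟩
    exact ⟨hn, cGL A, tAut, isInnerDiagonal_desc_conjGL A, isInverseTranspose_desc_invT, rfl⟩

theorem conj_gam (g A : GL (Fin n) F) :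
    cGL g * gam A * (cGL g)⁻¹ = gam (g * A * trGL g) := by
  unfold gam trGL
  rw [← map_inv, mul_assoc, mul_assoc, tAut_mul_cGL', ← mul_assoc, ← mul_assoc, ← map_mul,
    ← map_mul]

theorem gam_mul_gam (A B : GL (Fin n) F) : gam A * gam B = cGL (A * tGL B) := by
  unfold gam
  rw [mul_assoc, ← mul_assoc tAut, tAut_mul_cGL', mul_assoc, tAut_mul_tAut, mul_one, ← map_mul]

theorem gam_ne_cGL (hn : 3 ≤ n) (A g : GL (Fin n) F) : gam A ≠ cGL g := by
  intro h
  apply uniqT hn (A⁻¹ * g) (1 : F ≃+* F)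
  rw [map_one, one_mul, map_mul, ← h]
  unfold gam
  rw [← mul_assoc, ← map_mul, inv_mul_cancel, map_one, one_mul]

theorem cGL_eq_cGL_iff (hn : 3 ≤ n) (A B : GL (Fin n) F) :
    cGL A = cGL B ↔ ∃ c : F, c ≠ 0 ∧ (B : Matrix (Fin n) (Fin n) F) =
      c • (A : Matrix (Fin n) (Fin n) F) := by
  constructor
  · intro h
    have h1 : fAut (n := n) (1 : F ≃+* F) = cGL (A⁻¹ * B) := by
      rw [map_one, map_mul, ← h, ← map_mul, inv_mul_cancel, map_one]
    obtain ⟨-, c, hc, h2⟩ := uniq0 (by omega) (hasParPA_three hn) _ 1 h1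
    refine ⟨c, hc, ?_⟩
    have h3 : (B : Matrix (Fin n) (Fin n) F) =
        (A : Matrix (Fin n) (Fin n) F) * ((A⁻¹ * B : GL (Fin n) F) : Matrix (Fin n) (Fin n) F) := by
      rw [← Units.val_mul, mul_inv_cancel_left]
    rw [h3, h2, Matrix.mul_smul, Matrix.mul_one]
  · rintro ⟨c, hc, h⟩
    exact (cGL_eq_of_smul hc h).symm

theorem gam_eq_gam_iff (hn : 3 ≤ n) (A B : GL (Fin n) F) :
    gam A = gam B ↔ ∃ c : F, c ≠ 0 ∧ (B : Matrix (Fin n) (Fin n) F) =
      c • (A : Matrix (Fin n) (Fin n) F) := by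
  rw [← cGL_eq_cGL_iff hn]
  unfold gam
  exact mul_left_inj _

/-- `gam A` is an involution iff `A` is symmetric or skew-symmetric -/
theorem orderOf_gam_eq_two_iff (hn : 3 ≤ n) (A : GL (Fin n) F) :
    orderOf (gam A) = 2 ↔ ((A : Matrix (Fin n) (Fin n) F)ᵀ = (A : Matrix (Fin n) (Fin n) F) ∨
      (A : Matrix (Fin n) (Fin n) F)ᵀ = -(A : Matrix (Fin n) (Fin n) F)) := by
  have hne : gam A ≠ 1 := by
    have := gam_ne_cGL hn A 1
    rwa [map_one] at this
  have h1 : orderOf (gam A) = 2 ↔ gam A * gam A = 1 := by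
    constructor
    · intro h
      have := pow_orderOf_eq_one (gam A)
      rwa [h, sq] at this
    · intro h
      apply orderOf_eq_prime
      · rw [sq]; exact h
      · exact hne
  rw [h1, gam_mul_gam]
  have h2 : cGL (A * tGL A) = 1 ↔ cGL (1 : GL (Fin n) F) = cGL (A * tGL A) := by
    rw [map_one]; exact eq_comm
  rw [h2, cGL_eq_cGL_iff hn]
  have hA : (A : Matrix (Fin n) (Fin n) F) * ((A⁻¹ : GL (Fin n) F) : Matrix (Fin n) (Fin n) F) = 1 :=
    gl_mul_inv A
  have hA' : ((A⁻¹ : GL (Fin n) F) : Matrix (Fin n) (Fin n) F)ᵀ *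
      (A : Matrix (Fin n) (Fin n) F)ᵀ = 1 := by
    rw [← Matrix.transpose_mul, hA, Matrix.transpose_one]
  constructor
  · rintro ⟨c, hc, h⟩
    rw [Units.val_mul, tGL_coe, Units.val_one] at h
    -- A * A⁻ᵀ = c, so A = c Aᵀ
    have h3 : (A : Matrix (Fin n) (Fin n) F) = c • (A : Matrix (Fin n) (Fin n) F)ᵀ := by
      have := congrArg (fun X => X * (A : Matrix (Fin n) (Fin n) F)ᵀ) h
      simp only [Matrix.mul_assoc, hA', Matrix.mul_one, Matrix.smul_mul, Matrix.one_mul] at this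
      exact this
    have h4 : (A : Matrix (Fin n) (Fin n) F)ᵀ = c • (A : Matrix (Fin n) (Fin n) F) := by
      have := congrArg Matrix.transpose h3
      rwa [Matrix.transpose_smul, Matrix.transpose_transpose] at this
    have h5 : (A : Matrix (Fin n) (Fin n) F) = (c * c) • (A : Matrix (Fin n) (Fin n) F) := by
      conv_lhs => rw [h3, h4]
      rw [smul_smul]
    have h6 : c * c = 1 := by
      by_contra hcc
      have h7 : (1 - c * c) • (A : Matrix (Fin n) (Fin n) F) = 0 := by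
        rw [sub_smul, one_smul, ← h5, sub_self]
      rcases smul_eq_zero.1 h7 with h8 | h8
      · apply hcc; linear_combination -h8
      · have h9 : (1 : Matrix (Fin n) (Fin n) F) = 0 := by rw [← hA, h8, Matrix.zero_mul]
        have hn0 : Nonempty (Fin n) := ⟨⟨0, by omega⟩⟩
        exact one_ne_zero h9
    rcases mul_self_eq_one_iff.1 h6 with rfl | rfl
    · left; rw [h4, one_smul]
    · right; rw [h4, neg_smul, one_smul]
  · rintro (h | h)
    · refine ⟨1, one_ne_zero, ?_⟩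
      rw [Units.val_mul, tGL_coe, Units.val_one, one_smul]
      have : ((A⁻¹ : GL (Fin n) F) : Matrix (Fin n) (Fin n) F)ᵀ =
          ((A⁻¹ : GL (Fin n) F) : Matrix (Fin n) (Fin n) F) := by
        have h3 := hA'
        rw [h] at h3
        calc ((A⁻¹ : GL (Fin n) F) : Matrix (Fin n) (Fin n) F)ᵀ
            = ((A⁻¹ : GL (Fin n) F) : Matrix (Fin n) (Fin n) F)ᵀ *
              ((A : Matrix (Fin n) (Fin n) F) *
                ((A⁻¹ : GL (Fin n) F) : Matrix (Fin n) (Fin n) F)) := by rw [hA, Matrix.mul_one]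
          _ = _ := by rw [← Matrix.mul_assoc, h3, Matrix.one_mul]
      rw [this, hA]
    · refine ⟨-1, neg_ne_zero.2 one_ne_zero, ?_⟩
      rw [Units.val_mul, tGL_coe, Units.val_one, neg_smul, one_smul]
      have : ((A⁻¹ : GL (Fin n) F) : Matrix (Fin n) (Fin n) F)ᵀ =
          -((A⁻¹ : GL (Fin n) F) : Matrix (Fin n) (Fin n) F) := by
        have h3 := hA'
        rw [h, Matrix.mul_neg] at h3
        calc ((A⁻¹ : GL (Fin n) F) : Matrix (Fin n) (Fin n) F)ᵀ
            = ((A⁻¹ : GL (Fin n) F) : Matrix (Fin n) (Fin n) F)ᵀ *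
              ((A : Matrix (Fin n) (Fin n) F) *
                ((A⁻¹ : GL (Fin n) F) : Matrix (Fin n) (Fin n) F)) := by rw [hA, Matrix.mul_one]
          _ = _ := by
            rw [← Matrix.mul_assoc]
            have h4 : ((A⁻¹ : GL (Fin n) F) : Matrix (Fin n) (Fin n) F)ᵀ *
                (A : Matrix (Fin n) (Fin n) F) = -1 := by
              rw [← neg_eq_iff_eq_neg]; exact h3
            rw [h4, Matrix.neg_mul, Matrix.one_mul]
      rw [this, Matrix.mul_neg, hA]

end Cfsg.Agent.Lib.H11.PSLGraph
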