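import Cfsg.Agent.Lib.H11.PSLGraph9
import Cfsg.Agent.Lib.H11.ConfOrth10
import Cfsg.Agent.Lib.H2.SpOrder
import Cfsg.Agent.Lib.H13.SpQuadIndex

/-!
# Involutory graph automorphisms of `PSL_n(F)` (part 10): orders of `PGO^±` and `PGSp`

`|PGO^±_{2m}(q)| = |O^±_{2m}(q)|`, `|PGSp_{2m}(q)| = |Sp_{2m}(q)|`, and for `q` odd these orders
differ, so the orthogonal-type and symplectic-type centralisers are not isomorphic.
-/

set_option autoImplicit false
set_option linter.unusedSectionVars false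
set_option linter.unusedSimpArgs false

namespace Cfsg.Agent.Lib.H11.PSLGraph

open Matrix Cfsg.Agent.Lib.H13.AutPSL Cfsg.Agent.Lib.H13 Cfsg.Agent.Lib.H11.ConfOrth

section gen

variable {F : Type*} [Field F] [Fintype F] {ι : Type} [Fintype ι] [DecidableEq ι]

theorem card_scalars [Nonempty ι] : Nat.card (Cfsg.Geo.scalars ι F) = Nat.card Fˣ := by
  unfold Cfsg.Geo.scalars
  have hinj : Function.Injective
      (Units.map (Matrix.scalar ι : F →+* Matrix ι ι F).toMonoidHom) := by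
    apply Units.map_injective
    intro a b hab
    exact Matrix.scalar_inj.1 hab
  exact (Nat.card_congr (MonoidHom.ofInjective hinj).toEquiv).symm

/-- the order of a projective quotient via a multiplier homomorphism -/
theorem card_projQuot_of_mult [Nonempty ι] (H K : Subgroup (GL ι F))
    (hZ : Cfsg.Geo.scalars ι F ≤ H) (hK : K ≤ H) (μ : ↥H →* Fˣ) (hμ : Function.Surjective μ)
    (hker : ∀ g : ↥H, μ g = 1 ↔ g.1 ∈ K) :
    Nat.card (Cfsg.projQuot H) = Nat.card K := by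
  have h1 := Subgroup.card_eq_card_quotient_mul_card_subgroup
    ((Cfsg.Geo.scalars ι F).subgroupOf H)
  have h2 : Nat.card ((Cfsg.Geo.scalars ι F).subgroupOf H) = Nat.card Fˣ := by
    rw [Nat.card_congr (Subgroup.subgroupOfEquivOfLe hZ).toEquiv, card_scalars]
  have h3 := Subgroup.card_eq_card_quotient_mul_card_subgroup μ.ker
  have h4 : Nat.card (↥H ⧸ μ.ker) = Nat.card Fˣ :=
    Nat.card_congr (QuotientGroup.quotientKerEquivOfSurjective μ hμ).toEquiv
  have h5 : μ.ker = K.subgroupOf H := by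
    ext g
    rw [MonoidHom.mem_ker, Subgroup.mem_subgroupOf, hker]
  have h6 : Nat.card μ.ker = Nat.card K := by
    rw [h5, Nat.card_congr (Subgroup.subgroupOfEquivOfLe hK).toEquiv]
  rw [h2] at h1
  rw [h4, h6, h1, mul_comm] at h3
  have hpos : 0 < Nat.card Fˣ := Nat.card_pos
  exact Nat.eq_of_mul_eq_mul_left hpos h3

theorem scalars_le_quadSim (Q : QuadraticForm F (ι → F)) :
    Cfsg.Geo.scalars ι F ≤ Cfsg.Geo.quadSimilarityGroup (F := F) ⇑Q := by
  intro g hg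
  obtain ⟨c, hc⟩ := (Cfsg.Geo.mem_scalars_iff g).1 hg
  refine ⟨c ^ 2, fun v => ?_⟩
  rw [hc, Matrix.smul_mulVec, Matrix.one_mulVec, QuadraticMap.map_smul, smul_eq_mul,
    Units.val_pow_eq_pow_val, sq]

/-- `|PGO(Q)| = |O(Q)|` when all multipliers occur -/
theorem card_PGO_eq [Nonempty ι] (Q : QuadraticForm F (ι → F)) (hne : ∃ v, Q v ≠ 0)
    (hsurj : Function.Surjective (mult (⇑Q) hne)) :
    Nat.card (Cfsg.PGO F ⇑Q) = Nat.card (Cfsg.isometryGroup F ⇑Q) :=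
  card_projQuot_of_mult _ _ (scalars_le_quadSim Q) (iso_le_sim _) (mult (⇑Q) hne) hsurj
    (mult_eq_one_iff (⇑Q) hne)

end gen

section orders

variable {F : Type*} [Field F] [Fintype F]

theorem card_PGO_plus (m : ℕ) (hm : 1 ≤ m) :
    Nat.card (Cfsg.PGO F (Cfsg.quadFormPlus m F)) =
      Nat.card (Cfsg.isometryGroup F (Cfsg.quadFormPlus m F)) := by
  have : Nonempty (Fin m ⊕ Fin m) := ⟨Sum.inl ⟨0, by omega⟩⟩
  have hne : ∃ v, plusQF F m v ≠ 0 :=
    exists_ne_of_nondeg _ (Cfsg.Agent.S0287.nondeg m) Fintype.card_pos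
  have := card_PGO_eq (plusQF F m) hne (fun ν => ⟨⟨dPlus ν, dPlus_mem ν⟩, dPlus_mult hne ν⟩)
  rwa [Cfsg.Agent.S0287.coe_plusQF] at this

theorem card_PGO_minus (h2 : (2 : F) ≠ 0) (k : ℕ) (a b : F)
    (hab : ∀ z₁ z₂ : F, z₁ ^ 2 + a * z₁ * z₂ + b * z₂ ^ 2 = 0 → z₁ = 0 ∧ z₂ = 0) :
    Nat.card (Cfsg.PGO F (Cfsg.quadFormMinus k F a b)) =
      Nat.card (Cfsg.isometryGroup F (Cfsg.quadFormMinus k F a b)) := by
  have : Nonempty ((Fin k ⊕ Fin k) ⊕ Fin 2) := ⟨Sum.inr 0⟩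
  have hne : ∃ v, minusQF F k a b v ≠ 0 :=
    exists_ne_of_nondeg _ (Cfsg.Agent.S0288.nondeg a b hab k) Fintype.card_pos
  have := card_PGO_eq (minusQF F k a b) hne (fun ν => by
    obtain ⟨c₁, c₂, hc⟩ := exists_binary_eq h2 a b hab (ν : F)
    exact ⟨⟨dMinus a b ν c₁ c₂ hc, dMinus_mem a b ν c₁ c₂ hc⟩, dMinus_mult a b hne ν c₁ c₂ hc⟩)
  rwa [Cfsg.Agent.S0288.coe_minusQF] at this

end orders

section multS

variable {F : Type*} [Field F] {ι : Type} [Fintype ι] [DecidableEq ι]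
  (f : (ι → F) → (ι → F) → F)

/-- the multiplier of a similitude of a two-variable form -/
noncomputable def multSFun (g : ↥(Cfsg.Geo.similarityGroup (F := F) f)) : Fˣ :=
  Classical.choose g.2

theorem multSFun_spec (g : ↥(Cfsg.Geo.similarityGroup (F := F) f)) (u v : ι → F) :
    f (g.1.1 *ᵥ u) (g.1.1 *ᵥ v) = (multSFun f g : F) * f u v := Classical.choose_spec g.2 u v

theorem multSFun_unique (hne : ∃ u v, f u v ≠ 0) (g : ↥(Cfsg.Geo.similarityGroup (F := F) f))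
    (c : Fˣ) (h : ∀ u v, f (g.1.1 *ᵥ u) (g.1.1 *ᵥ v) = (c : F) * f u v) : multSFun f g = c := by
  obtain ⟨u, v, huv⟩ := hne
  have h1 := multSFun_spec f g u v
  rw [h u v] at h1
  exact (Units.ext (mul_right_cancel₀ huv h1)).symm

/-- the multiplier homomorphism of a two-variable form -/
noncomputable def multS (hne : ∃ u v, f u v ≠ 0) :
    ↥(Cfsg.Geo.similarityGroup (F := F) f) →* Fˣ where
  toFun := multSFun f
  map_one' := by
    apply multSFun_unique f hne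
    intro u v
    rw [Units.val_one, one_mul]
    show f ((1 : GL ι F).1 *ᵥ u) ((1 : GL ι F).1 *ᵥ v) = f u v
    rw [Units.val_one, Matrix.one_mulVec, Matrix.one_mulVec]
  map_mul' g h := by
    apply multSFun_unique f hne
    intro u v
    rw [Subgroup.coe_mul, Units.val_mul, ← Matrix.mulVec_mulVec, ← Matrix.mulVec_mulVec,
      multSFun_spec f g, multSFun_spec f h, Units.val_mul, mul_assoc]

theorem multS_spec (hne : ∃ u v, f u v ≠ 0) (g : ↥(Cfsg.Geo.similarityGroup (F := F) f))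
    (u v : ι → F) : f (g.1.1 *ᵥ u) (g.1.1 *ᵥ v) = (multS f hne g : F) * f u v :=
  multSFun_spec f g u v

theorem multS_eq (hne : ∃ u v, f u v ≠ 0) (g : ↥(Cfsg.Geo.similarityGroup (F := F) f)) (c : Fˣ)
    (h : ∀ u v, f (g.1.1 *ᵥ u) (g.1.1 *ᵥ v) = (c : F) * f u v) : multS f hne g = c :=
  multSFun_unique f hne g c h

end multS

section symp

variable {F : Type*} [Field F] [Fintype F]

theorem symp_hne (m : ℕ) (hm : 1 ≤ m) : ∃ u v, Cfsg.sympForm m F u v ≠ 0 := by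
  refine ⟨Pi.single (Sum.inr ⟨0, by omega⟩) 1, Pi.single (Sum.inl ⟨0, by omega⟩) 1, ?_⟩
  unfold Cfsg.sympForm
  simp [Matrix.J]

theorem scalars_le_GSp (m : ℕ) : Cfsg.Geo.scalars (Fin m ⊕ Fin m) F ≤ Cfsg.GSp m F := by
  intro g hg
  obtain ⟨c, hc⟩ := (Cfsg.Geo.mem_scalars_iff g).1 hg
  refine ⟨c * c, fun u v => ?_⟩
  rw [hc, Matrix.smul_mulVec, Matrix.one_mulVec, Matrix.smul_mulVec, Matrix.one_mulVec]
  unfold Cfsg.sympForm
  rw [Matrix.mulVec_smul, smul_dotProduct, dotProduct_smul, smul_eq_mul, smul_eq_mul,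
    Units.val_mul, mul_assoc]

theorem spGL_le_GSp (m : ℕ) : Cfsg.spGL m F ≤ Cfsg.GSp m F := by
  intro g hg
  refine ⟨1, fun u v => ?_⟩
  rw [Units.val_one, one_mul]
  exact hg u v

/-- `|PGSp_{2m}(q)| = |Sp_{2m}(q)|` -/
theorem card_PGSp (m : ℕ) (hm : 1 ≤ m) :
    Nat.card (Cfsg.PGSp m F) = Nat.card (Cfsg.spGL m F) := by
  have : Nonempty (Fin m ⊕ Fin m) := ⟨Sum.inl ⟨0, by omega⟩⟩
  have hne := symp_hne (F := F) m hm
  refine card_projQuot_of_mult _ _ (scalars_le_GSp m) (spGL_le_GSp m)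
    (multS (Cfsg.sympForm m F) hne) ?_ ?_
  · intro ν
    refine ⟨⟨diSGL m ν, diSGL_mem m ν⟩, ?_⟩
    apply multS_eq
    intro u v
    have := (symp_sim_iff m (diS m (ν : F)) (ν : F)).2 (diS_J m (ν : F))
    exact this u v
  · intro g
    constructor
    · intro h u v
      have h3 := multS_spec (Cfsg.sympForm m F) hne g u v
      have h4 : ((multS (Cfsg.sympForm m F) hne g : Fˣ) : F) = 1 := by
        have := congrArg Units.val h
        rwa [Units.val_one] at this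
      rw [h4, one_mul] at h3
      exact h3
    · intro h
      apply multS_eq
      intro u v
      rw [Units.val_one, one_mul]
      exact h u v

end symp

section compare

variable {F : Type*} [Field F] [Fintype F]

theorem card_field_ge_three (hodd : Odd (Fintype.card F)) : 3 ≤ Fintype.card F := by
  have h1 : 1 < Fintype.card F := Fintype.one_lt_card
  obtain ⟨k, hk⟩ := hodd
  omega

theorem plus_arith (q k A P : ℕ) (hq : 3 ≤ q) (hA : 0 < A) (hP : 0 < P) :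
    2 * A * (q ^ (k + 1) - 1) * P ≠ A * q ^ (k + 1) * (P * (q ^ (2 * (k + 1)) - 1)) := by
  have hx : 3 ≤ q ^ (k + 1) := by
    calc 3 ≤ q := hq
      _ = q ^ 1 := (pow_one q).symm
      _ ≤ q ^ (k + 1) := Nat.pow_le_pow_right (by omega) (by omega)
  have h2 : q ^ (2 * (k + 1)) = (q ^ (k + 1)) ^ 2 := by rw [mul_comm, pow_mul]
  rw [h2]
  obtain ⟨y, hy⟩ : ∃ y, q ^ (k + 1) = y + 3 := ⟨q ^ (k + 1) - 3, by omega⟩
  rw [hy]
  have h3 : y + 3 - 1 = y + 2 := by omega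
  have h4 : (y + 3) ^ 2 - 1 = (y + 2) * (y + 4) := by
    have : (y + 3) ^ 2 = (y + 2) * (y + 4) + 1 := by ring
    omega
  rw [h3, h4]
  intro h
  have hpos : 0 < A * P * (y + 2) := by positivity
  have h5 : A * P * (y + 2) * 2 = A * P * (y + 2) * ((y + 3) * (y + 4)) := by
    linear_combination h
  have h6 := Nat.eq_of_mul_eq_mul_left hpos h5
  nlinarith

theorem minus_arith (q k A P : ℕ) (hq : 3 ≤ q) (hA : 0 < A) (hP : 0 < P) :
    2 * A * (q ^ (k + 1) + 1) * P ≠ A * q ^ (k + 1) * (P * (q ^ (2 * (k + 1)) - 1)) := by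
  have hx : 3 ≤ q ^ (k + 1) := by
    calc 3 ≤ q := hq
      _ = q ^ 1 := (pow_one q).symm
      _ ≤ q ^ (k + 1) := Nat.pow_le_pow_right (by omega) (by omega)
  have h2 : q ^ (2 * (k + 1)) = (q ^ (k + 1)) ^ 2 := by rw [mul_comm, pow_mul]
  rw [h2]
  obtain ⟨y, hy⟩ : ∃ y, q ^ (k + 1) = y + 3 := ⟨q ^ (k + 1) - 3, by omega⟩
  rw [hy]
  have h4 : (y + 3) ^ 2 - 1 = (y + 2) * (y + 4) := by
    have : (y + 3) ^ 2 = (y + 2) * (y + 4) + 1 := by ring
    omega
  rw [h4]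
  intro h
  have hpos : 0 < A * P * (y + 4) := by positivity
  have h5 : A * P * (y + 4) * 2 = A * P * (y + 4) * ((y + 3) * (y + 2)) := by
    linear_combination h
  have h6 := Nat.eq_of_mul_eq_mul_left hpos h5
  nlinarith

theorem prod_pos_aux (q k : ℕ) (hq : 3 ≤ q) :
    0 < ∏ i ∈ Finset.range k, (q ^ (2 * (i + 1)) - 1) := by
  apply Finset.prod_pos
  intro i _
  have : 1 < q ^ (2 * (i + 1)) := Nat.one_lt_pow (by omega) (by omega)
  omega

theorem card_PGO_plus_ne (hodd : Odd (Fintype.card F)) (m : ℕ) (hm : 1 ≤ m) :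
    Nat.card (Cfsg.PGO F (Cfsg.quadFormPlus m F)) ≠ Nat.card (Cfsg.PGSp m F) := by
  rw [card_PGO_plus m hm, card_PGSp m hm, Cfsg.Agent.Lib.H13.SpQuadIndex.card_spGL,
    Cfsg.Agent.S0287.result rfl m hm]
  obtain ⟨k, rfl⟩ : ∃ k, m = k + 1 := ⟨m - 1, by omega⟩
  have hq := card_field_ge_three hodd
  rw [Finset.prod_range_succ, Nat.add_sub_cancel]
  have hA : (Fintype.card F) ^ ((k + 1) ^ 2) =
      (Fintype.card F) ^ ((k + 1) * k) * (Fintype.card F) ^ (k + 1) := by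
    rw [← pow_add]
    congr 1
    ring
  rw [hA]
  exact plus_arith _ k _ _ hq (by positivity) (prod_pos_aux _ k hq)

theorem card_PGO_minus_ne (hodd : Odd (Fintype.card F)) (h2 : (2 : F) ≠ 0) (m : ℕ) (hm : 1 ≤ m)
    (a b : F)
    (hab : ∀ z₁ z₂ : F, z₁ ^ 2 + a * z₁ * z₂ + b * z₂ ^ 2 = 0 → z₁ = 0 ∧ z₂ = 0) :
    Nat.card (Cfsg.PGO F (Cfsg.quadFormMinus (m - 1) F a b)) ≠ Nat.card (Cfsg.PGSp m F) := by
  rw [card_PGO_minus h2 (m - 1) a b hab, card_PGSp m hm,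
    Cfsg.Agent.Lib.H13.SpQuadIndex.card_spGL, Cfsg.Agent.S0288.result rfl m hm a b hab]
  obtain ⟨k, rfl⟩ : ∃ k, m = k + 1 := ⟨m - 1, by omega⟩
  have hq := card_field_ge_three hodd
  rw [Finset.prod_range_succ, Nat.add_sub_cancel]
  have hA : (Fintype.card F) ^ ((k + 1) ^ 2) =
      (Fintype.card F) ^ ((k + 1) * k) * (Fintype.card F) ^ (k + 1) := by
    rw [← pow_add]
    congr 1
    ring
  rw [hA]
  exact minus_arith _ k _ _ hq (by positivity) (prod_pos_aux _ k hq)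

end compare

end Cfsg.Agent.Lib.H11.PSLGraph
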