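import Cfsg.Agent.Lib.H11.PSLGraph11
import Cfsg.Agent.Lib.H2.OddSp

/-!
# Involutory graph automorphisms of `PSL_n(F)` (part 12): characteristic two, general lemmas

In characteristic two every multiplier of a similitude is the square of a scalar, so the
projective similitude group is isomorphic to the isometry group.  The standard form
`x₀ y₀ + ⟨x', y'⟩` in odd dimension has isometry group `Sp_{2m}`.
-/

set_option autoImplicit false
set_option linter.unusedSectionVars false
set_option linter.unusedSimpArgs false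

namespace Cfsg.Agent.Lib.H11.PSLGraph

open Matrix Module Cfsg.Agent.Lib.H13.AutPSL Cfsg.Agent.Lib.H13 Cfsg.Agent.Lib.H11.ConfOrth

section split

variable {F : Type*} [Field F] {ι : Type} [Fintype ι] [DecidableEq ι]

/-- a complement to the scalars gives the projective quotient -/
theorem projQuot_equiv_of_split (H K : Subgroup (GL ι F)) (hKH : K ≤ H)
    (hdec : ∀ g ∈ H, ∃ z ∈ Cfsg.Geo.scalars ι F, g * z⁻¹ ∈ K)
    (hinj : ∀ g ∈ K, g ∈ Cfsg.Geo.scalars ι F → g = 1) :
    Nonempty (↥K ≃* Cfsg.projQuot H) := by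
  let φ : ↥K →* Cfsg.projQuot H :=
    (QuotientGroup.mk' ((Cfsg.Geo.scalars ι F).subgroupOf H)).comp (Subgroup.inclusion hKH)
  refine ⟨MulEquiv.ofBijective φ ⟨?_, ?_⟩⟩
  · rw [injective_iff_map_eq_one]
    intro k hk
    have h1 : Subgroup.inclusion hKH k ∈ (Cfsg.Geo.scalars ι F).subgroupOf H :=
      (QuotientGroup.eq_one_iff _).1 hk
    rw [Subgroup.mem_subgroupOf] at h1
    exact Subtype.ext (hinj k.1 k.2 h1)
  · intro q
    obtain ⟨g, rfl⟩ := QuotientGroup.mk_surjective q
    obtain ⟨z, hz, hk⟩ := hdec g.1 g.2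
    refine ⟨⟨g.1 * z⁻¹, hk⟩, ?_⟩
    show (QuotientGroup.mk (Subgroup.inclusion hKH ⟨g.1 * z⁻¹, hk⟩) :
      ↥H ⧸ (Cfsg.Geo.scalars ι F).subgroupOf H) = QuotientGroup.mk g
    rw [QuotientGroup.eq, Subgroup.mem_subgroupOf]
    have : (((Subgroup.inclusion hKH ⟨g.1 * z⁻¹, hk⟩)⁻¹ * g : ↥H) : GL ι F) = z := by
      rw [Subgroup.coe_mul, Subgroup.coe_inv]
      show (g.1 * z⁻¹)⁻¹ * g.1 = z
      group
    rw [this]
    exact hz

theorem scalar_mem_scalars (a : Fˣ) :
    Matrix.GeneralLinearGroup.scalar ι a ∈ Cfsg.Geo.scalars ι F := ⟨a, rfl⟩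

theorem sq_eq_one_char2 [CharP F 2] (c : F) (h : c * c = 1) : c = 1 := by
  have h1 : (c + 1) ^ 2 = 0 := by
    rw [CharTwo.add_sq, one_pow, sq, h, CharTwo.add_self_eq_zero]
  have h2 := pow_eq_zero_iff (two_ne_zero) |>.1 h1
  rw [← CharTwo.sub_eq_add, sub_eq_zero] at h2
  exact h2

/-- in characteristic two the isometry group of a homogeneous two-variable form is the
projective similitude group -/
theorem preserving_equiv_projQuot_sim [Finite F] [CharP F 2] (f : (ι → F) → (ι → F) → F)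
    (hhom : ∀ (c : F) (u v : ι → F), f (c • u) (c • v) = c * c * f u v)
    (hne : ∃ u v, f u v ≠ 0) :
    Nonempty (↥(Cfsg.preserving (Units.coeHom (Matrix ι ι F)) f) ≃*
      Cfsg.projQuot (Cfsg.Geo.similarityGroup (F := F) f)) := by
  apply projQuot_equiv_of_split
  · intro g hg
    refine ⟨1, fun u v => ?_⟩
    rw [Units.val_one, one_mul]
    exact hg u v
  · intro g hg
    obtain ⟨c, hc⟩ := hg
    obtain ⟨a, ha⟩ := isSquare_of_charTwo' (c : F)
    have ha0 : a ≠ 0 := by
      rintro rfl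
      rw [mul_zero] at ha
      exact c.ne_zero ha
    refine ⟨Matrix.GeneralLinearGroup.scalar ι (Units.mk0 a ha0), scalar_mem_scalars _, ?_⟩
    intro u v
    show f ((g * (Matrix.GeneralLinearGroup.scalar ι (Units.mk0 a ha0))⁻¹ : GL ι F).1 *ᵥ u)
      ((g * (Matrix.GeneralLinearGroup.scalar ι (Units.mk0 a ha0))⁻¹ : GL ι F).1 *ᵥ v) = f u v
    rw [← map_inv, Units.val_mul, ← Matrix.mulVec_mulVec, ← Matrix.mulVec_mulVec, scalar_mulVec,
      scalar_mulVec, hc, hhom, Units.val_inv_eq_inv_val, Units.val_mk0, ha]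
    field_simp
  · intro g hg hgs
    obtain ⟨c, hc⟩ := (Cfsg.Geo.mem_scalars_iff g).1 hgs
    obtain ⟨u, v, huv⟩ := hne
    have h1 := hg u v
    have h1' : f ((g : Matrix ι ι F) *ᵥ u) ((g : Matrix ι ι F) *ᵥ v) = f u v := h1
    rw [hc, Matrix.smul_mulVec, Matrix.one_mulVec, Matrix.smul_mulVec, Matrix.one_mulVec,
      hhom] at h1'
    have h2 : (c : F) * (c : F) = 1 := by
      have h3 : ((c : F) * (c : F) - 1) * f u v = 0 := by linear_combination h1'
      rcases mul_eq_zero.1 h3 with h4 | h4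
      · exact sub_eq_zero.1 h4
      · exact absurd h4 huv
    have h5 := sq_eq_one_char2 (c : F) h2
    apply Units.ext
    rw [hc, h5, one_smul, Units.val_one]

/-- in characteristic two the isometry group of a quadratic form is its projective similitude
group -/
theorem iso_equiv_PGO_char2 [Finite F] [CharP F 2] (Q : QuadraticForm F (ι → F))
    (hne : ∃ v, Q v ≠ 0) :
    Nonempty (↥(Cfsg.isometryGroup F ⇑Q) ≃* Cfsg.PGO F ⇑Q) := by
  apply projQuot_equiv_of_split
  · exact iso_le_sim _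
  · intro g hg
    obtain ⟨c, hc⟩ := hg
    obtain ⟨a, ha⟩ := isSquare_of_charTwo' (c : F)
    have ha0 : a ≠ 0 := by
      rintro rfl
      rw [mul_zero] at ha
      exact c.ne_zero ha
    refine ⟨Matrix.GeneralLinearGroup.scalar ι (Units.mk0 a ha0), scalar_mem_scalars _, ?_⟩
    rw [mem_iso_iff]
    intro v
    rw [← map_inv, Units.val_mul, ← Matrix.mulVec_mulVec, scalar_mulVec, hc,
      QuadraticMap.map_smul, Units.val_inv_eq_inv_val, Units.val_mk0, ha, smul_eq_mul]
    field_simp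
  · intro g hg hgs
    obtain ⟨c, hc⟩ := (Cfsg.Geo.mem_scalars_iff g).1 hgs
    obtain ⟨v, hv⟩ := hne
    have h1 := (mem_iso_iff _ g).1 hg v
    rw [hc, Matrix.smul_mulVec, Matrix.one_mulVec, QuadraticMap.map_smul, smul_eq_mul] at h1
    have h2 : (c : F) * (c : F) = 1 := by
      have h3 : ((c : F) * (c : F) - 1) * Q v = 0 := by linear_combination h1
      rcases mul_eq_zero.1 h3 with h4 | h4
      · exact sub_eq_zero.1 h4
      · exact absurd h4 hv
    have h5 := sq_eq_one_char2 (c : F) h2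
    apply Units.ext
    rw [hc, h5, one_smul, Units.val_one]

end split

section stdodd

variable {F : Type*} [Field F] (m : ℕ)

local notation "IO" => (Unit ⊕ (Fin m ⊕ Fin m))

/-- the Gram matrix `1 ⊕ J` -/
def gramOdd : Matrix IO IO F :=
  Matrix.fromBlocks (1 : Matrix Unit Unit F) 0 0 (Matrix.J (Fin m) F)

/-- the bilinear form `x₀ y₀ + ⟨x', y'⟩` -/
def fOdd (x y : IO → F) : F := x ⬝ᵥ (gramOdd (F := F) m *ᵥ y)

theorem fOdd_eq (x y : IO → F) :
    fOdd m x y = x (.inl ()) * y (.inl ()) +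
      Cfsg.sympForm m F (fun j => x (.inr j)) (fun j => y (.inr j)) := by
  unfold fOdd gramOdd Cfsg.sympForm
  have hx : x = Sum.elim (fun u => x (.inl u)) (fun j => x (.inr j)) := by
    funext k; rcases k with k | k <;> rfl
  have hy : y = Sum.elim (fun u => y (.inl u)) (fun j => y (.inr j)) := by
    funext k; rcases k with k | k <;> rfl
  conv_lhs => rw [hx, hy]
  rw [Matrix.fromBlocks_mulVec, sumElim_dotProduct_sumElim]
  simp [dotProduct, Matrix.mulVec]

theorem fOdd_self (x : IO → F) : fOdd m x x = x (.inl ()) * x (.inl ()) := by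
  rw [fOdd_eq, Cfsg.Agent.Lib.H4.sympForm_self, add_zero]

theorem fOdd_smul (c : F) (u v : IO → F) : fOdd m (c • u) (c • v) = c * c * fOdd m u v := by
  unfold fOdd
  rw [Matrix.mulVec_smul, smul_dotProduct, dotProduct_smul, smul_eq_mul, smul_eq_mul, mul_assoc]

theorem fOdd_hne : ∃ u v : IO → F, fOdd m u v ≠ 0 := by
  refine ⟨Pi.single (.inl ()) 1, Pi.single (.inl ()) 1, ?_⟩
  rw [fOdd_self]
  simp

theorem dot_mulVec_mulVec {κ : Type*} [Fintype κ] (M g : Matrix κ κ F) (u v : κ → F) :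
    (g *ᵥ u) ⬝ᵥ (M *ᵥ (g *ᵥ v)) = u ⬝ᵥ ((gᵀ * M * g) *ᵥ v) := by
  rw [← Matrix.mulVec_mulVec, ← Matrix.mulVec_mulVec, Matrix.dotProduct_mulVec u gᵀ,
    Matrix.vecMul_transpose]

theorem mem_preserving_fOdd_iff (g : GL IO F) :
    g ∈ Cfsg.preserving (Units.coeHom (Matrix IO IO F)) (fOdd (F := F) m) ↔
      (g : Matrix IO IO F)ᵀ * gramOdd m * (g : Matrix IO IO F) = gramOdd m := by
  constructor
  · intro h
    apply dot_ext
    intro u v
    rw [← dot_mulVec_mulVec]
    exact h u v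
  · intro h u v
    show fOdd m ((g : Matrix IO IO F) *ᵥ u) ((g : Matrix IO IO F) *ᵥ v) = fOdd m u v
    unfold fOdd
    rw [dot_mulVec_mulVec, h]

/-- the embedding of matrices fixing the first coordinate -/
def ext1M : Matrix (Fin m ⊕ Fin m) (Fin m ⊕ Fin m) F →* Matrix IO IO F where
  toFun h := Matrix.fromBlocks (1 : Matrix Unit Unit F) 0 0 h
  map_one' := Matrix.fromBlocks_one
  map_mul' a b := by
    rw [Matrix.fromBlocks_multiply]
    simp

/-- the embedding `Sp_{2m} → GL_{2m+1}` -/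
noncomputable def ext1 : ↥(Matrix.symplecticGroup (Fin m) F) →* GL IO F :=
  ((ext1M (F := F) m).comp (Matrix.symplecticGroup (Fin m) F).subtype).toHomUnits

theorem ext1_val (h : ↥(Matrix.symplecticGroup (Fin m) F)) :
    ((ext1 m h : GL IO F) : Matrix IO IO F) =
      Matrix.fromBlocks (1 : Matrix Unit Unit F) 0 0 (h : Matrix _ _ F) := rfl

theorem ext1_mem (h : ↥(Matrix.symplecticGroup (Fin m) F)) :
    ext1 m h ∈ Cfsg.preserving (Units.coeHom (Matrix IO IO F)) (fOdd (F := F) m) := by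
  rw [mem_preserving_fOdd_iff, ext1_val]
  unfold gramOdd
  rw [Matrix.fromBlocks_transpose, Matrix.fromBlocks_multiply, Matrix.fromBlocks_multiply]
  have := SymplecticGroup.mem_iff'.1 h.2
  simp [this]

theorem ext1_injective : Function.Injective (ext1 (F := F) m) := by
  intro a b hab
  have h1 := congrArg (fun g : GL IO F => (g : Matrix IO IO F)) hab
  simp only [ext1_val] at h1
  exact Subtype.ext (Matrix.fromBlocks_inj.1 h1).2.2.2

/-- in characteristic two every isometry of `fOdd` comes from `Sp_{2m}` -/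
theorem ext1_surj [CharP F 2] (g : GL IO F)
    (hg : g ∈ Cfsg.preserving (Units.coeHom (Matrix IO IO F)) (fOdd (F := F) m)) :
    ∃ h : ↥(Matrix.symplecticGroup (Fin m) F), ext1 m h = g := by
  -- the first coordinate is preserved
  have h0 : ∀ v : IO → F, ((g : Matrix IO IO F) *ᵥ v) (.inl ()) = v (.inl ()) := by
    intro v
    have h1 : fOdd m ((g : Matrix IO IO F) *ᵥ v) ((g : Matrix IO IO F) *ᵥ v) = fOdd m v v :=
      hg v v
    rw [fOdd_self, fOdd_self] at h1
    have h2 : (((g : Matrix IO IO F) *ᵥ v) (.inl ()) + v (.inl ())) ^ 2 = 0 := by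
      rw [CharTwo.add_sq, sq, sq, h1, CharTwo.add_self_eq_zero]
    have h3 := pow_eq_zero_iff (two_ne_zero) |>.1 h2
    rw [← CharTwo.sub_eq_add, sub_eq_zero] at h3
    exact h3
  have hrow : ∀ k : IO, (g : Matrix IO IO F) (.inl ()) k =
      (Pi.single (Sum.inl ()) (1 : F) : IO → F) k := by
    intro k
    have := h0 (Pi.single k 1)
    rw [Matrix.mulVec_single_one] at this
    rw [Pi.single_apply] at this ⊢
    rw [Matrix.col_apply] at this
    rw [this]
    by_cases hk : k = Sum.inl ()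
    · rw [if_pos hk, if_pos hk.symm]
    · rw [if_neg hk, if_neg (Ne.symm hk)]
  have h11 : (g : Matrix IO IO F).toBlocks₁₁ = 1 := by
    ext i j
    rw [Matrix.toBlocks₁₁, Matrix.of_apply, hrow]
    simp
  have h12 : (g : Matrix IO IO F).toBlocks₁₂ = 0 := by
    ext i j
    rw [Matrix.toBlocks₁₂, Matrix.of_apply, hrow]
    simp
  have hgM := (mem_preserving_fOdd_iff m g).1 hg
  have hblocks : (g : Matrix IO IO F) = Matrix.fromBlocks 1 0
      (g : Matrix IO IO F).toBlocks₂₁ (g : Matrix IO IO F).toBlocks₂₂ := by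
    conv_lhs => rw [← Matrix.fromBlocks_toBlocks (g : Matrix IO IO F), h11, h12]
  set c := (g : Matrix IO IO F).toBlocks₂₁ with hc
  set d := (g : Matrix IO IO F).toBlocks₂₂ with hd
  rw [hblocks] at hgM
  unfold gramOdd at hgM
  rw [Matrix.fromBlocks_transpose, Matrix.fromBlocks_multiply, Matrix.fromBlocks_multiply] at hgM
  have h22 := (Matrix.fromBlocks_inj.1 hgM).2.2.2
  have h21 := (Matrix.fromBlocks_inj.1 hgM).2.2.1
  simp only [Matrix.transpose_zero, Matrix.zero_mul, Matrix.mul_zero, zero_add, add_zero,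
    Matrix.transpose_one, Matrix.one_mul, Matrix.mul_one] at h22 h21
  have hdS : d ∈ Matrix.symplecticGroup (Fin m) F := SymplecticGroup.mem_iff'.2 h22
  have hc0 : c = 0 := by
    have hdet : IsUnit (dᵀ * Matrix.J (Fin m) F).det := by
      rw [Matrix.det_mul, Matrix.det_transpose, SymplecticGroup.det_eq_one hdS, one_mul]
      exact Matrix.isUnit_det_J (Fin m) F
    have h5 : (dᵀ * Matrix.J (Fin m) F)⁻¹ * ((dᵀ * Matrix.J (Fin m) F) * c) = 0 := by
      rw [h21, Matrix.mul_zero]
    rwa [← Matrix.mul_assoc, Matrix.nonsing_inv_mul _ hdet, Matrix.one_mul] at h5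
  refine ⟨⟨d, hdS⟩, ?_⟩
  apply Units.ext
  rw [ext1_val, hblocks, hc0]

/-- in characteristic two the isometry group of `fOdd` is `Sp_{2m}` -/
theorem sp_equiv_preserving_fOdd [CharP F 2] :
    Nonempty (↥(Matrix.symplecticGroup (Fin m) F) ≃*
      ↥(Cfsg.preserving (Units.coeHom (Matrix IO IO F)) (fOdd (F := F) m))) := by
  let φ : ↥(Matrix.symplecticGroup (Fin m) F) →*
      ↥(Cfsg.preserving (Units.coeHom (Matrix IO IO F)) (fOdd (F := F) m)) :=
    (ext1 m).codRestrict _ (ext1_mem m)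
  refine ⟨MulEquiv.ofBijective φ ⟨?_, ?_⟩⟩
  · intro a b hab
    exact ext1_injective m (congrArg Subtype.val hab)
  · intro g
    obtain ⟨h, hh⟩ := ext1_surj m g.1 g.2
    exact ⟨h, Subtype.ext hh⟩

end stdodd

end Cfsg.Agent.Lib.H11.PSLGraph
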