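import Cfsg.Agent.Lib.H11.PSLGraph12

/-!
# Involutory graph automorphisms of `PSL_n(F)` (part 13): characteristic two, odd degree

A symmetric invertible matrix of odd size over a finite field of characteristic two is congruent
to `1 ⊕ J`; the centraliser of the corresponding graph automorphism is `Sp_{n-1}(F) ≅ PGO_n(F)`.
-/

set_option autoImplicit false
set_option linter.unusedSectionVars false
set_option linter.unusedSimpArgs false

namespace Cfsg.Agent.Lib.H11.PSLGraph

open Matrix Module Cfsg.Agent.Lib.H13.AutPSL Cfsg.Agent.Lib.H13 Cfsg.Agent.Lib.H11.ConfOrth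

section diag

variable {F : Type*} [Field F] {n : ℕ}

theorem bf_single_single (B : Matrix (Fin n) (Fin n) F) (i j : Fin n) :
    bf B (Pi.single i 1) (Pi.single j 1) = B i j := by
  unfold bf
  simp

theorem bf_smul_left (B : Matrix (Fin n) (Fin n) F) (c : F) (u v : Fin n → F) :
    bf B (c • u) v = c * bf B u v := by
  unfold bf
  rw [smul_dotProduct, smul_eq_mul]

theorem bf_smul_right (B : Matrix (Fin n) (Fin n) F) (c : F) (u v : Fin n → F) :
    bf B u (c • v) = c * bf B u v := by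
  unfold bf
  rw [Matrix.mulVec_smul, dotProduct_smul, smul_eq_mul]

/-- the functional `v ↦ s ⬝ v` -/
def dotL (s : Fin n → F) : (Fin n → F) →ₗ[F] F where
  toFun v := s ⬝ᵥ v
  map_add' := dotProduct_add s
  map_smul' c v := dotProduct_smul c s v

theorem dotL_apply (s v : Fin n → F) : dotL s v = s ⬝ᵥ v := rfl

variable [Finite F] [CharP F 2]

theorem exists_sqrt_diag (B : Matrix (Fin n) (Fin n) F) :
    ∃ s : Fin n → F, ∀ i, s i * s i = B i i :=
  ⟨fun i => (isSquare_of_charTwo' (B i i)).choose,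
    fun i => ((isSquare_of_charTwo' (B i i)).choose_spec).symm⟩

/-- in characteristic two the diagonal of a symmetric form is the square of a functional -/
theorem bf_self_char2 (B : Matrix (Fin n) (Fin n) F) (hB : Bᵀ = B) (s : Fin n → F)
    (hs : ∀ i, s i * s i = B i i) (v : Fin n → F) :
    bf B v v = (s ⬝ᵥ v) * (s ⬝ᵥ v) := by
  have h2 : (2 : F) = 0 := CharTwo.two_eq_zero
  have key : qfB B = QuadraticMap.linMulLin (dotL s) (dotL s) := by
    apply quadraticMap_ext_basis (Pi.basisFun F (Fin n))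
    · intro i
      rw [Pi.basisFun_apply, qfB_apply, bf_single_single, QuadraticMap.linMulLin_apply,
        dotL_apply, dotProduct_single, mul_one, hs]
    · intro i j
      rw [polar_qfB B hB, h2, zero_mul]
      unfold QuadraticMap.polar
      simp only [QuadraticMap.linMulLin_apply, map_add]
      have : (dotL s ((Pi.basisFun F (Fin n)) i) + dotL s ((Pi.basisFun F (Fin n)) j)) *
          (dotL s ((Pi.basisFun F (Fin n)) i) + dotL s ((Pi.basisFun F (Fin n)) j)) -
          dotL s ((Pi.basisFun F (Fin n)) i) * dotL s ((Pi.basisFun F (Fin n)) i) -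
          dotL s ((Pi.basisFun F (Fin n)) j) * dotL s ((Pi.basisFun F (Fin n)) j) =
          2 * (dotL s ((Pi.basisFun F (Fin n)) i) * dotL s ((Pi.basisFun F (Fin n)) j)) := by
        ring
      rw [this, h2, zero_mul]
  have := congrArg (fun q : QuadraticForm F (Fin n → F) => q v) key
  simp only [QuadraticMap.linMulLin_apply, dotL_apply] at this
  rw [← this, qfB_apply]

end diag

section special

variable {F : Type*} [Field F] {n : ℕ}

/-- the distinguished vector `w = B⁻¹ s`: `bf B v w = v ⬝ s` -/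
theorem bf_special (B : GL (Fin n) F) (s v : Fin n → F) :
    bf (B : Matrix (Fin n) (Fin n) F) v
      (((B⁻¹ : GL (Fin n) F) : Matrix (Fin n) (Fin n) F) *ᵥ s) = v ⬝ᵥ s := by
  unfold bf
  rw [Matrix.mulVec_mulVec, gl_mul_inv, Matrix.one_mulVec]

theorem toBilin'_eq_bf (A : Matrix (Fin n) (Fin n) F) (u v : Fin n → F) :
    Matrix.toBilin' A u v = bf A u v := Matrix.toBilin'_apply' _ u v

/-- an alternating form in odd dimension is degenerate -/
theorem alt_degenerate_of_odd (hodd : Odd n) (A : Matrix (Fin n) (Fin n) F)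
    (halt : ∀ v, bf A v v = 0) : ∃ u : Fin n → F, u ≠ 0 ∧ ∀ v, bf A u v = 0 := by
  classical
  by_contra hcon
  push Not at hcon
  have hnd : ∀ v, (∀ w, Matrix.toBilin' A v w = 0) → v = 0 := by
    intro v hv
    by_contra hv0
    obtain ⟨w, hw⟩ := hcon v hv0
    exact hw (by rw [← toBilin'_eq_bf]; exact hv w)
  obtain ⟨ι, _, _, b, _⟩ := symp_aux n (Matrix.toBilin' A)
    (fun v => by rw [toBilin'_eq_bf]; exact halt v) hnd
    (by rw [Module.finrank_fintype_fun_eq_card, Fintype.card_fin])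
  have h1 := Module.finrank_eq_card_basis b
  rw [Module.finrank_fintype_fun_eq_card, Fintype.card_fin, Fintype.card_sum] at h1
  obtain ⟨k, hk⟩ := hodd
  omega

theorem bf_add_vecMulVec (B : Matrix (Fin n) (Fin n) F) (s u v : Fin n → F) :
    bf (B + Matrix.vecMulVec s s) u v = bf B u v + (s ⬝ᵥ u) * (s ⬝ᵥ v) := by
  unfold bf
  rw [Matrix.add_mulVec, dotProduct_add, Matrix.vecMulVec_mulVec, op_smul_eq_smul,
    dotProduct_smul, smul_eq_mul, dotProduct_comm u s, mul_comm]

variable [Finite F] [CharP F 2]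

/-- in odd dimension the distinguished vector is non-singular -/
theorem special_one (hodd : Odd n) (B : GL (Fin n) F)
    (hB : (B : Matrix (Fin n) (Fin n) F)ᵀ = (B : Matrix (Fin n) (Fin n) F)) (s : Fin n → F)
    (hs : ∀ i, s i * s i = (B : Matrix (Fin n) (Fin n) F) i i) :
    s ⬝ᵥ (((B⁻¹ : GL (Fin n) F) : Matrix (Fin n) (Fin n) F) *ᵥ s) = 1 := by
  set w := ((B⁻¹ : GL (Fin n) F) : Matrix (Fin n) (Fin n) F) *ᵥ s with hw
  have h2 : (2 : F) = 0 := CharTwo.two_eq_zero
  obtain ⟨u, hu0, hu⟩ := alt_degenerate_of_odd hodd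
    ((B : Matrix (Fin n) (Fin n) F) + Matrix.vecMulVec s s) (fun v => by
      rw [bf_add_vecMulVec, bf_self_char2 _ hB s hs]
      have : s ⬝ᵥ v * (s ⬝ᵥ v) + s ⬝ᵥ v * (s ⬝ᵥ v) = 2 * (s ⬝ᵥ v * (s ⬝ᵥ v)) := by ring
      rw [this, h2, zero_mul])
  set t := s ⬝ᵥ u with ht
  have h3 : u + t • w = 0 := by
    apply bf_nondeg B
    intro v
    have h4 := hu v
    rw [bf_add_vecMulVec] at h4
    rw [bf_add_left, bf_smul_left, bf_symm _ hB w v, hw, bf_special, dotProduct_comm v s]
    exact h4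
  have ht0 : t ≠ 0 := by
    intro h0
    rw [h0, zero_smul, add_zero] at h3
    exact hu0 h3
  have h5 := congrArg (fun x => s ⬝ᵥ x) h3
  simp only [dotProduct_add, dotProduct_smul, dotProduct_zero, smul_eq_mul] at h5
  have h6 : t * (1 + s ⬝ᵥ w) = 0 := by rw [← h5]; ring
  rcases mul_eq_zero.1 h6 with h7 | h7
  · exact absurd h7 ht0
  · rw [← CharTwo.sub_eq_add, sub_eq_zero] at h7
    exact h7.symm

end special

section coords

variable {F : Type*} [Field F] {n : ℕ}

theorem bf_sub_left (B : Matrix (Fin n) (Fin n) F) (u u' v : Fin n → F) :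
    bf B (u - u') v = bf B u v - bf B u' v := by
  unfold bf
  rw [sub_dotProduct]

theorem bf_sub_right (B : Matrix (Fin n) (Fin n) F) (u v v' : Fin n → F) :
    bf B u (v - v') = bf B u v - bf B u v' := by
  unfold bf
  rw [Matrix.mulVec_sub, dotProduct_sub]

/-- splitting off a vector on which a functional is one -/
def splitL (ℓ : (Fin n → F) →ₗ[F] F) (w : Fin n → F) (hw : ℓ w = 1) :
    (Fin n → F) ≃ₗ[F] F × ↥(LinearMap.ker ℓ) where
  toFun v := (ℓ v, ⟨v - ℓ v • w, by
    rw [LinearMap.mem_ker, map_sub, map_smul, hw, smul_eq_mul, mul_one, sub_self]⟩)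
  map_add' u v := by
    apply Prod.ext
    · exact map_add ℓ u v
    · apply Subtype.ext
      show u + v - ℓ (u + v) • w = (u - ℓ u • w) + (v - ℓ v • w)
      rw [map_add, add_smul]
      abel
  map_smul' c v := by
    apply Prod.ext
    · exact map_smul ℓ c v
    · apply Subtype.ext
      show c • v - ℓ (c • v) • w = c • (v - ℓ v • w)
      rw [map_smul, smul_sub, smul_eq_mul, mul_smul]
  invFun p := p.1 • w + (p.2 : Fin n → F)
  left_inv v := by
    show ℓ v • w + (v - ℓ v • w) = v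
    abel
  right_inv p := by
    have hp : ℓ (p.2 : Fin n → F) = 0 := LinearMap.mem_ker.1 p.2.2
    apply Prod.ext
    · show ℓ (p.1 • w + (p.2 : Fin n → F)) = p.1
      rw [map_add, map_smul, hw, hp, smul_eq_mul, mul_one, add_zero]
    · apply Subtype.ext
      show p.1 • w + (p.2 : Fin n → F) - ℓ (p.1 • w + (p.2 : Fin n → F)) • w = (p.2 : Fin n → F)
      rw [map_add, map_smul, hw, hp, smul_eq_mul, mul_one, add_zero]
      abel

theorem splitL_fst (ℓ : (Fin n → F) →ₗ[F] F) (w : Fin n → F) (hw : ℓ w = 1) (v : Fin n → F) :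
    (splitL ℓ w hw v).1 = ℓ v := rfl

theorem splitL_snd (ℓ : (Fin n → F) →ₗ[F] F) (w : Fin n → F) (hw : ℓ w = 1) (v : Fin n → F) :
    ((splitL ℓ w hw v).2 : Fin n → F) = v - ℓ v • w := rfl

variable [Finite F] [CharP F 2]

/-- standard coordinates for a symmetric invertible matrix of odd size in characteristic two -/
theorem exists_fOdd_equiv (m : ℕ) (hnm : n = 2 * m + 1) (B : GL (Fin n) F)
    (hB : (B : Matrix (Fin n) (Fin n) F)ᵀ = (B : Matrix (Fin n) (Fin n) F)) :
    ∃ e : (Fin n → F) ≃ₗ[F] (Unit ⊕ (Fin m ⊕ Fin m) → F),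
      ∀ u v, fOdd m (e u) (e v) = bf (B : Matrix (Fin n) (Fin n) F) u v := by
  classical
  obtain ⟨s, hs⟩ := exists_sqrt_diag (B : Matrix (Fin n) (Fin n) F)
  set w := ((B⁻¹ : GL (Fin n) F) : Matrix (Fin n) (Fin n) F) *ᵥ s with hw
  have hsw : s ⬝ᵥ w = 1 := special_one ⟨m, hnm⟩ B hB s hs
  have hℓw : dotL s w = 1 := hsw
  have hbw : ∀ v, bf (B : Matrix (Fin n) (Fin n) F) v w = s ⬝ᵥ v := by
    intro v
    rw [hw, bf_special, dotProduct_comm]
  have hbw' : ∀ v, bf (B : Matrix (Fin n) (Fin n) F) w v = s ⬝ᵥ v := by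
    intro v
    rw [bf_symm _ hB, hbw]
  set W := LinearMap.ker (dotL s) with hW
  let T := splitL (dotL s) w hℓw
  let BW := restrictB (Matrix.toBilin' (B : Matrix (Fin n) (Fin n) F)) W
  have hBW : ∀ x y : W, BW x y = bf (B : Matrix (Fin n) (Fin n) F) (x : Fin n → F)
      (y : Fin n → F) := by
    intro x y
    show restrictB _ W x y = _
    rw [restrictB_apply, toBilin'_eq_bf]
  have hmemW : ∀ x : W, s ⬝ᵥ (x : Fin n → F) = 0 := fun x => LinearMap.mem_ker.1 x.2
  have halt : ∀ x : W, BW x x = 0 := by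
    intro x
    rw [hBW, bf_self_char2 _ hB s hs, hmemW, zero_mul]
  have hnd : ∀ x : W, (∀ y : W, BW x y = 0) → x = 0 := by
    intro x hx
    apply Subtype.ext
    apply bf_nondeg B
    intro v
    have h1 := hx (T v).2
    rw [hBW, splitL_snd, bf_sub_right, bf_smul_right, hbw, hmemW, mul_zero, sub_zero] at h1
    exact h1
  have hfin : finrank F W = 2 * m := by
    have h1 := T.finrank_eq
    rw [Module.finrank_prod, Module.finrank_self, Module.finrank_fintype_fun_eq_card,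
      Fintype.card_fin] at h1
    have h2 : finrank F ↥(LinearMap.ker (dotL s)) = finrank F ↥W := rfl
    omega
  obtain ⟨b₀, hb₀⟩ := exists_symp_basis BW halt hnd hfin
  set b' := b₀.reindex (Equiv.sumComm (Fin m) (Fin m)) with hb'
  have hsymp : ∀ x y : W, BW x y = Cfsg.sympForm m F (b'.equivFun x) (b'.equivFun y) :=
    sympForm_of_isSymp BW halt b₀ hb₀
  let e : (Fin n → F) ≃ₗ[F] (Unit ⊕ (Fin m ⊕ Fin m) → F) :=
    T.trans (((LinearEquiv.funUnique Unit F F).symm.prodCongr b'.equivFun).trans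
      (LinearEquiv.sumArrowLequivProdArrow Unit (Fin m ⊕ Fin m) F F).symm)
  have he0 : ∀ v, e v (.inl ()) = s ⬝ᵥ v := by
    intro v
    rfl
  have her : ∀ v, (fun j => e v (.inr j)) = b'.equivFun (T v).2 := by
    intro v
    rfl
  refine ⟨e, fun u v => ?_⟩
  rw [fOdd_eq, he0, he0, her, her, ← hsymp, hBW, splitL_snd, splitL_snd, bf_sub_left,
    bf_sub_right, bf_sub_right, bf_smul_left, bf_smul_left, bf_smul_right, bf_smul_right, hbw,
    hbw', hbw']
  show s ⬝ᵥ u * s ⬝ᵥ v + (bf (B : Matrix (Fin n) (Fin n) F) u v - s ⬝ᵥ v * s ⬝ᵥ u -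
    (s ⬝ᵥ u * s ⬝ᵥ v - s ⬝ᵥ u * (s ⬝ᵥ v * s ⬝ᵥ w))) = _
  rw [hsw]
  ring

end coords

section final

variable {F : Type*} [Field F] [Fintype F] [CharP F 2] {n : ℕ}

theorem sym_of_char2 (B : GL (Fin n) F)
    (h : (B : Matrix (Fin n) (Fin n) F)ᵀ = (B : Matrix (Fin n) (Fin n) F) ∨
      (B : Matrix (Fin n) (Fin n) F)ᵀ = -(B : Matrix (Fin n) (Fin n) F)) :
    (B : Matrix (Fin n) (Fin n) F)ᵀ = (B : Matrix (Fin n) (Fin n) F) := by
  rcases h with h | h
  · exact h
  · rw [h]
    ext i j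
    rw [Matrix.neg_apply, CharTwo.neg_eq]

theorem odd_centralizer_char2 (hn : 3 ≤ n) (m : ℕ) (hnm : n = 2 * m + 1) (B : GL (Fin n) F)
    (hB : (B : Matrix (Fin n) (Fin n) F)ᵀ = (B : Matrix (Fin n) (Fin n) F)) :
    Nonempty (↥(Cfsg.inndiagPSL n F ⊓ Subgroup.centralizer {gamF B}) ≃*
      Cfsg.PGO F (Cfsg.quadFormOdd m F)) := by
  classical
  obtain ⟨E₀⟩ := centralizer_equiv hn B
  obtain ⟨e, he⟩ := exists_fOdd_equiv m hnm B hB
  have E₁ := projQuotCongr e (Cfsg.Geo.similarityGroup (F := F)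
    (bf (B : Matrix (Fin n) (Fin n) F))) (Cfsg.Geo.similarityGroup (F := F) (fOdd (F := F) m))
    (glCongr_mem_sim e _ _ 1 one_ne_zero (fun u v => by rw [he, one_mul]))
  obtain ⟨E₂⟩ := preserving_equiv_projQuot_sim (fOdd (F := F) m) (fOdd_smul m) (fOdd_hne m)
  obtain ⟨E₃⟩ := sp_equiv_preserving_fOdd (F := F) m
  obtain ⟨E₄⟩ := Cfsg.Agent.Lib.H2.OddSp.main (F := F) m
  have hne : ∃ v, Cfsg.Agent.S0286.oddQF F m v ≠ 0 := by
    refine ⟨Pi.single (.inl ()) 1, ?_⟩
    rw [Cfsg.Agent.S0286.oddQF_apply]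
    unfold Cfsg.quadFormOdd
    simp
  obtain ⟨E₅⟩ := iso_equiv_PGO_char2 (Cfsg.Agent.S0286.oddQF F m) hne
  rw [Cfsg.Agent.S0286.coe_oddQF] at E₅
  exact ⟨E₀.trans (E₁.trans (E₂.symm.trans (E₃.symm.trans (E₄.symm.trans E₅))))⟩

theorem odd_conj_char2 (hn : 3 ≤ n) (m : ℕ) (hnm : n = 2 * m + 1) (B B' : GL (Fin n) F)
    (hB : (B : Matrix (Fin n) (Fin n) F)ᵀ = (B : Matrix (Fin n) (Fin n) F))
    (hB' : (B' : Matrix (Fin n) (Fin n) F)ᵀ = (B' : Matrix (Fin n) (Fin n) F)) :
    Cfsg.IsConjUnder (Cfsg.inndiagPSL n F) (gamF B) (gamF B') := by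
  obtain ⟨e, he⟩ := exists_fOdd_equiv m hnm B hB
  obtain ⟨e', he'⟩ := exists_fOdd_equiv m hnm B' hB'
  obtain ⟨g, hg⟩ := congr_of_equiv (B' : Matrix (Fin n) (Fin n) F)
    (B : Matrix (Fin n) (Fin n) F) (e'.trans e.symm) (fun u v => by
      rw [← he, LinearEquiv.trans_apply, LinearEquiv.trans_apply, LinearEquiv.apply_symm_apply,
        LinearEquiv.apply_symm_apply, he'])
  exact conj_of_congr hn B' B g hg

end final

end Cfsg.Agent.Lib.H11.PSLGraph
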