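import Cfsg.Agent.Lib.H11.PSLGraph13
import Cfsg.Agent.S0270
import Cfsg.Agent.Lib.H2.SpTrans

/-!
# Involutory graph automorphisms of `PSL_n(F)` (part 14): characteristic two, even degree

The non-alternating symmetric form `⟨x, y⟩ + ⟨x, w₀⟩⟨y, w₀⟩`; in characteristic two its isometry
group is the stabiliser of `w₀` in the symplectic group, which is the centraliser of the
transvection of `w₀`.
-/

set_option autoImplicit false
set_option linter.unusedSectionVars false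
set_option linter.unusedSimpArgs false

namespace Cfsg.Agent.Lib.H11.PSLGraph

open Matrix Module Cfsg.Agent.Lib.H13.AutPSL Cfsg.Agent.Lib.H13 Cfsg.Agent.Lib.H11.ConfOrth
open Cfsg.Agent.Lib.H4 Cfsg.Agent.Lib.H2.Sp

section f3

variable {F : Type*} [Field F] (m : ℕ)

local notation "KK" => (Fin m ⊕ Fin m)

/-- the non-alternating form attached to a vector -/
def f3 (w₀ x y : KK → F) : F :=
  Cfsg.sympForm m F x y + Cfsg.sympForm m F x w₀ * Cfsg.sympForm m F y w₀

theorem f3_self (w₀ x : KK → F) :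
    f3 m w₀ x x = Cfsg.sympForm m F x w₀ * Cfsg.sympForm m F x w₀ := by
  unfold f3
  rw [sympForm_self, zero_add]

theorem f3_smul (w₀ : KK → F) (c : F) (u v : KK → F) :
    f3 m w₀ (c • u) (c • v) = c * c * f3 m w₀ u v := by
  unfold f3
  rw [sympForm_smul_left, sympForm_smul_right, sympForm_smul_left, sympForm_smul_left]
  ring

theorem symp_nondeg_right (v : KK → F) (h : ∀ y, Cfsg.sympForm m F y v = 0) : v = 0 := by
  by_contra hv
  obtain ⟨z, hz⟩ := exists_sympForm_ne_zero m v hv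
  apply hz
  rw [sympForm_swap, h, neg_zero]

theorem exists_symp_ne (w₀ : KK → F) (hw : w₀ ≠ 0) : ∃ x, Cfsg.sympForm m F x w₀ ≠ 0 := by
  by_contra h
  push Not at h
  exact hw (symp_nondeg_right m w₀ h)

theorem f3_hne (w₀ : KK → F) (hw : w₀ ≠ 0) : ∃ u v, f3 m w₀ u v ≠ 0 := by
  obtain ⟨x, hx⟩ := exists_symp_ne m w₀ hw
  refine ⟨x, x, ?_⟩
  rw [f3_self]
  exact mul_ne_zero hx hx

theorem gl_mulVec_surj {ι : Type*} [Fintype ι] [DecidableEq ι] (g : GL ι F) (y : ι → F) :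
    ∃ x, (g : Matrix ι ι F) *ᵥ x = y :=
  ⟨((g⁻¹ : GL ι F) : Matrix ι ι F) *ᵥ y, by
    rw [Matrix.mulVec_mulVec, ← Units.val_mul, mul_inv_cancel, Units.val_one, Matrix.one_mulVec]⟩

/-- in characteristic two the isometries of `f3` are the symplectic maps fixing `w₀` -/
theorem mem_preserving_f3_iff [CharP F 2] (w₀ : KK → F) (g : GL KK F) :
    g ∈ Cfsg.preserving (Units.coeHom (Matrix KK KK F)) (f3 m w₀) ↔
      g ∈ Cfsg.spGL m F ∧ (g : Matrix KK KK F) *ᵥ w₀ = w₀ := by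
  constructor
  · intro hg
    have hg' : ∀ x y, f3 m w₀ ((g : Matrix KK KK F) *ᵥ x) ((g : Matrix KK KK F) *ᵥ y) =
        f3 m w₀ x y := hg
    have h1 : ∀ x, Cfsg.sympForm m F ((g : Matrix KK KK F) *ᵥ x) w₀ = Cfsg.sympForm m F x w₀ := by
      intro x
      have h2 := hg' x x
      rw [f3_self, f3_self] at h2
      have h3 : (Cfsg.sympForm m F ((g : Matrix KK KK F) *ᵥ x) w₀ + Cfsg.sympForm m F x w₀) ^ 2
          = 0 := by
        rw [CharTwo.add_sq, sq, sq, h2, CharTwo.add_self_eq_zero]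
      have h4 := pow_eq_zero_iff (two_ne_zero) |>.1 h3
      rw [← CharTwo.sub_eq_add, sub_eq_zero] at h4
      exact h4
    have hsp : g ∈ Cfsg.spGL m F := by
      intro x y
      have h2 := hg' x y
      unfold f3 at h2
      rw [h1, h1] at h2
      exact add_right_cancel h2
    refine ⟨hsp, ?_⟩
    have h5 : ∀ y, Cfsg.sympForm m F y (w₀ - (g : Matrix KK KK F) *ᵥ w₀) = 0 := by
      intro y
      obtain ⟨x, rfl⟩ := gl_mulVec_surj g y
      rw [sympForm_sub_right, h1]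
      have := hsp x w₀
      have h6 : Cfsg.sympForm m F ((g : Matrix KK KK F) *ᵥ x) ((g : Matrix KK KK F) *ᵥ w₀) =
        Cfsg.sympForm m F x w₀ := this
      rw [h6, sub_self]
    have h7 := symp_nondeg_right m _ h5
    exact (sub_eq_zero.1 h7).symm
  · rintro ⟨hsp, hw⟩ x y
    show f3 m w₀ ((g : Matrix KK KK F) *ᵥ x) ((g : Matrix KK KK F) *ᵥ y) = f3 m w₀ x y
    have hsp' : ∀ x y, Cfsg.sympForm m F ((g : Matrix KK KK F) *ᵥ x) ((g : Matrix KK KK F) *ᵥ y) =
        Cfsg.sympForm m F x y := hsp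
    have h1 : ∀ x, Cfsg.sympForm m F ((g : Matrix KK KK F) *ᵥ x) w₀ = Cfsg.sympForm m F x w₀ := by
      intro x
      conv_lhs => rw [← hw]
      exact hsp' x w₀
    unfold f3
    rw [hsp', h1, h1]

theorem mat_ext_mulVec {ι : Type*} [Fintype ι] [DecidableEq ι] (A B : Matrix ι ι F)
    (h : ∀ v, A *ᵥ v = B *ᵥ v) : A = B := by
  ext i j
  have := congrFun (h (Pi.single j 1)) i
  simpa using this

/-- in characteristic two the centraliser of a symplectic transvection is the stabiliser of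
its vector -/
theorem mem_centralizer_tv_iff [CharP F 2] (w₀ : KK → F) (hw : w₀ ≠ 0)
    (h : ↥(Matrix.symplecticGroup (Fin m) F)) :
    h ∈ Subgroup.centralizer ({tv m w₀ 1} : Set ↥(Matrix.symplecticGroup (Fin m) F)) ↔
      (h : Matrix KK KK F) *ᵥ w₀ = w₀ := by
  have hsp : ∀ x y, Cfsg.sympForm m F ((h : Matrix KK KK F) *ᵥ x) ((h : Matrix KK KK F) *ᵥ y) =
      Cfsg.sympForm m F x y := (mem_symplecticGroup_iff_sympForm m h.1).1 h.2
  rw [Subgroup.mem_centralizer_singleton_iff]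
  constructor
  · intro hc
    have hc' : ∀ x, (h : Matrix KK KK F) *ᵥ x + Cfsg.sympForm m F x w₀ •
        ((h : Matrix KK KK F) *ᵥ w₀) = (h : Matrix KK KK F) *ᵥ x +
        Cfsg.sympForm m F ((h : Matrix KK KK F) *ᵥ x) w₀ • w₀ := by
      intro x
      have h1 := congrArg (fun A : ↥(Matrix.symplecticGroup (Fin m) F) =>
        (A : Matrix KK KK F) *ᵥ x) hc
      simp only [Submonoid.coe_mul, ← Matrix.mulVec_mulVec, tv_mulVec, one_mul,
        Matrix.mulVec_add, Matrix.mulVec_smul] at h1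
      exact h1
    have hc'' : ∀ x, Cfsg.sympForm m F x w₀ • ((h : Matrix KK KK F) *ᵥ w₀) =
        Cfsg.sympForm m F ((h : Matrix KK KK F) *ᵥ x) w₀ • w₀ := fun x => add_left_cancel (hc' x)
    obtain ⟨x₁, hx₁⟩ := exists_symp_ne m w₀ hw
    set a := Cfsg.sympForm m F ((h : Matrix KK KK F) *ᵥ x₁) w₀ / Cfsg.sympForm m F x₁ w₀ with ha
    have hhw : (h : Matrix KK KK F) *ᵥ w₀ = a • w₀ := by
      have h2 := hc'' x₁
      have h3 := congrArg (fun v => (Cfsg.sympForm m F x₁ w₀)⁻¹ • v) h2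
      simp only [smul_smul, inv_mul_cancel₀ hx₁, one_smul] at h3
      rw [h3, ha, div_eq_inv_mul]
    -- `a * a = 1`
    have h4 : Cfsg.sympForm m F ((h : Matrix KK KK F) *ᵥ x₁) w₀ = a * Cfsg.sympForm m F x₁ w₀ := by
      rw [ha]
      field_simp
    have h5 := hsp x₁ w₀
    rw [hhw, sympForm_smul_right, h4] at h5
    have h6 : a * a = 1 := by
      have h7 : (a * a - 1) * Cfsg.sympForm m F x₁ w₀ = 0 := by linear_combination h5
      rcases mul_eq_zero.1 h7 with h8 | h8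
      · exact sub_eq_zero.1 h8
      · exact absurd h8 hx₁
    rw [hhw, sq_eq_one_char2 a h6, one_smul]
  · intro hw'
    apply Subtype.ext
    rw [Submonoid.coe_mul, Submonoid.coe_mul]
    apply mat_ext_mulVec
    intro x
    rw [← Matrix.mulVec_mulVec, ← Matrix.mulVec_mulVec, tv_mulVec, tv_mulVec, Matrix.mulVec_add,
      Matrix.mulVec_smul, hw', one_mul, one_mul]
    congr 2
    conv_rhs => rw [← hw']
    exact (hsp x w₀).symm

/-- the isometry group of `f3` is the centraliser of the transvection -/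
theorem centralizer_tv_equiv [CharP F 2] (w₀ : KK → F) (hw : w₀ ≠ 0) :
    Nonempty (↥(Subgroup.centralizer ({tv m w₀ 1} : Set ↥(Matrix.symplecticGroup (Fin m) F))) ≃*
      ↥(Cfsg.preserving (Units.coeHom (Matrix KK KK F)) (f3 m w₀))) := by
  let φ : ↥(Subgroup.centralizer ({tv m w₀ 1} : Set ↥(Matrix.symplecticGroup (Fin m) F))) →*
      ↥(Cfsg.preserving (Units.coeHom (Matrix KK KK F)) (f3 m w₀)) :=
    (Cfsg.Agent.S0270.toGL.comp (Subgroup.subtype _)).codRestrict _ (fun h => by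
      rw [mem_preserving_f3_iff]
      exact ⟨Cfsg.Agent.S0270.toGL_mem h.1, (mem_centralizer_tv_iff m w₀ hw h.1).1 h.2⟩)
  refine ⟨MulEquiv.ofBijective φ ⟨?_, ?_⟩⟩
  · intro a b hab
    have h1 := congrArg (fun g : ↥(Cfsg.preserving (Units.coeHom (Matrix KK KK F)) (f3 m w₀)) =>
      ((g : GL KK F) : Matrix KK KK F)) hab
    exact Subtype.ext (Subtype.ext h1)
  · intro g
    obtain ⟨hsp, hgw⟩ := (mem_preserving_f3_iff m w₀ g.1).1 g.2
    obtain ⟨h, hh⟩ := Cfsg.Agent.S0270.toSpGL_surj ⟨g.1, hsp⟩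
    have hval : (h : Matrix KK KK F) = ((g.1 : GL KK F) : Matrix KK KK F) := by
      have := congrArg (fun x : ↥(Cfsg.spGL m F) => ((x : GL KK F) : Matrix KK KK F)) hh
      exact this
    refine ⟨⟨h, (mem_centralizer_tv_iff m w₀ hw h).2 (by rw [hval]; exact hgw)⟩, ?_⟩
    apply Subtype.ext
    apply Units.ext
    exact hval

end f3

section normal

variable {F : Type*} [Field F] {n : ℕ}

/-- a symplectic coordinate system for a non-degenerate alternating matrix -/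
theorem exists_symp_equiv_alt (m : ℕ) (hnm : n = 2 * m) (A : Matrix (Fin n) (Fin n) F)
    (halt : ∀ v, bf A v v = 0) (hnd : ∀ v, (∀ w, bf A v w = 0) → v = 0) :
    ∃ e : (Fin n → F) ≃ₗ[F] (Fin m ⊕ Fin m → F),
      ∀ u v, Cfsg.sympForm m F (e u) (e v) = bf A u v := by
  have halt' : ∀ v, Matrix.toBilin' A v v = 0 := by
    intro v; rw [toBilin'_eq_bf]; exact halt v
  have hnd' : ∀ v, (∀ w, Matrix.toBilin' A v w = 0) → v = 0 := by
    intro v hv
    apply hnd
    intro w; rw [← toBilin'_eq_bf]; exact hv w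
  obtain ⟨b, hb⟩ := exists_symp_basis (Matrix.toBilin' A) halt' hnd'
    (m := m) (by rw [Module.finrank_fintype_fun_eq_card, Fintype.card_fin, hnm])
  refine ⟨(b.reindex (Equiv.sumComm _ _)).equivFun, fun u v => ?_⟩
  rw [← toBilin'_eq_bf]
  exact (sympForm_of_isSymp _ halt' b hb u v).symm

/-- the linear equivalence of an invertible matrix -/
noncomputable def glEquiv {ι : Type*} [Fintype ι] [DecidableEq ι] (g : GL ι F) :
    (ι → F) ≃ₗ[F] (ι → F) :=
  Matrix.toLin'OfInv (M := ((g⁻¹ : GL ι F) : Matrix ι ι F)) (M' := (g : Matrix ι ι F))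
    (by rw [← Units.val_mul, inv_mul_cancel, Units.val_one])
    (by rw [← Units.val_mul, mul_inv_cancel, Units.val_one])

theorem glEquiv_apply {ι : Type*} [Fintype ι] [DecidableEq ι] (g : GL ι F) (v : ι → F) :
    glEquiv g v = (g : Matrix ι ι F) *ᵥ v := rfl

variable [Finite F] [CharP F 2]

/-- if the distinguished vector is non-singular then the degree is odd -/
theorem odd_of_special_one (B : GL (Fin n) F)
    (hB : (B : Matrix (Fin n) (Fin n) F)ᵀ = (B : Matrix (Fin n) (Fin n) F)) (s : Fin n → F)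
    (hs : ∀ i, s i * s i = (B : Matrix (Fin n) (Fin n) F) i i)
    (hsw : s ⬝ᵥ (((B⁻¹ : GL (Fin n) F) : Matrix (Fin n) (Fin n) F) *ᵥ s) = 1) : Odd n := by
  classical
  set w := ((B⁻¹ : GL (Fin n) F) : Matrix (Fin n) (Fin n) F) *ᵥ s with hw
  have hℓw : dotL s w = 1 := hsw
  have hbw : ∀ v, bf (B : Matrix (Fin n) (Fin n) F) v w = s ⬝ᵥ v := by
    intro v
    rw [hw, bf_special, dotProduct_comm]
  set W := LinearMap.ker (dotL s) with hW
  let T := splitL (dotL s) w hℓw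
  let BW := restrictB (Matrix.toBilin' (B : Matrix (Fin n) (Fin n) F)) W
  have hBW : ∀ x y : W, BW x y = bf (B : Matrix (Fin n) (Fin n) F) (x : Fin n → F)
      (y : Fin n → F) := by
    intro x y
    show restrictB _ W x y = _
    rw [restrictB_apply, toBilin'_eq_bf]
  have hmemW : ∀ x : W, s ⬝ᵥ (x : Fin n → F) = 0 := fun x => LinearMap.mem_ker.1 x.2
  have halt : ∀ x : W, BW x x = 0 := by
    intro x
    rw [hBW, bf_self_char2 _ hB s hs, hmemW, zero_mul]
  have hnd : ∀ x : W, (∀ y : W, BW x y = 0) → x = 0 := by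
    intro x hx
    apply Subtype.ext
    apply bf_nondeg B
    intro v
    have h1 := hx (T v).2
    rw [hBW, splitL_snd, bf_sub_right, bf_smul_right, hbw, hmemW, mul_zero, sub_zero] at h1
    exact h1
  have hfin : n = 1 + finrank F W := by
    have h1 := T.finrank_eq
    rw [Module.finrank_prod, Module.finrank_self, Module.finrank_fintype_fun_eq_card,
      Fintype.card_fin] at h1
    exact h1
  obtain ⟨ι, _, _, b, _⟩ := symp_aux (finrank F W) BW halt hnd rfl
  have h2 := Module.finrank_eq_card_basis b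
  rw [Fintype.card_sum] at h2
  exact ⟨Fintype.card ι, by omega⟩

/-- in even degree the distinguished vector is singular -/
theorem special_zero (m : ℕ) (hnm : n = 2 * m) (B : GL (Fin n) F)
    (hB : (B : Matrix (Fin n) (Fin n) F)ᵀ = (B : Matrix (Fin n) (Fin n) F)) (s : Fin n → F)
    (hs : ∀ i, s i * s i = (B : Matrix (Fin n) (Fin n) F) i i) :
    s ⬝ᵥ (((B⁻¹ : GL (Fin n) F) : Matrix (Fin n) (Fin n) F) *ᵥ s) = 0 := by
  set w := ((B⁻¹ : GL (Fin n) F) : Matrix (Fin n) (Fin n) F) *ᵥ s with hw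
  have h1 : bf (B : Matrix (Fin n) (Fin n) F) w w = s ⬝ᵥ w := by
    rw [hw, bf_special, dotProduct_comm]
  rw [bf_self_char2 _ hB s hs] at h1
  have h2 : s ⬝ᵥ w * (s ⬝ᵥ w - 1) = 0 := by linear_combination h1
  rcases mul_eq_zero.1 h2 with h3 | h3
  · exact h3
  · exfalso
    have h4 : s ⬝ᵥ w = 1 := sub_eq_zero.1 h3
    obtain ⟨k, hk⟩ := odd_of_special_one B hB s hs h4
    omega

/-- normal form of a non-alternating symmetric invertible matrix of even size -/
theorem exists_f3_equiv (m : ℕ) (hnm : n = 2 * m) (B : GL (Fin n) F)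
    (hB : (B : Matrix (Fin n) (Fin n) F)ᵀ = (B : Matrix (Fin n) (Fin n) F))
    (hna : ∃ v, bf (B : Matrix (Fin n) (Fin n) F) v v ≠ 0) :
    ∃ (e : (Fin n → F) ≃ₗ[F] (Fin m ⊕ Fin m → F)) (w₀ : Fin m ⊕ Fin m → F), w₀ ≠ 0 ∧
      ∀ u v, f3 m w₀ (e u) (e v) = bf (B : Matrix (Fin n) (Fin n) F) u v := by
  have h2 : (2 : F) = 0 := CharTwo.two_eq_zero
  obtain ⟨s, hs⟩ := exists_sqrt_diag (B : Matrix (Fin n) (Fin n) F)
  set w := ((B⁻¹ : GL (Fin n) F) : Matrix (Fin n) (Fin n) F) *ᵥ s with hw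
  have hsw : s ⬝ᵥ w = 0 := special_zero m hnm B hB s hs
  have hbw : ∀ v, bf (B : Matrix (Fin n) (Fin n) F) v w = s ⬝ᵥ v := by
    intro v
    rw [hw, bf_special, dotProduct_comm]
  have hw0 : w ≠ 0 := by
    intro h0
    obtain ⟨v, hv⟩ := hna
    apply hv
    rw [bf_self_char2 _ hB s hs, ← hbw, h0]
    unfold bf
    rw [Matrix.mulVec_zero, dotProduct_zero, zero_mul]
  set A := (B : Matrix (Fin n) (Fin n) F) + Matrix.vecMulVec s s with hA
  have halt : ∀ v, bf A v v = 0 := by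
    intro v
    rw [hA, bf_add_vecMulVec, bf_self_char2 _ hB s hs]
    have : s ⬝ᵥ v * (s ⬝ᵥ v) + s ⬝ᵥ v * (s ⬝ᵥ v) = 2 * (s ⬝ᵥ v * (s ⬝ᵥ v)) := by ring
    rw [this, h2, zero_mul]
  have hnd : ∀ u, (∀ v, bf A u v = 0) → u = 0 := by
    intro u hu
    set t := s ⬝ᵥ u with ht
    have h3 : u + t • w = 0 := by
      apply bf_nondeg B
      intro v
      have h4 := hu v
      rw [hA, bf_add_vecMulVec] at h4
      rw [bf_add_left, bf_smul_left, bf_symm _ hB w v, hbw]
      exact h4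
    have h5 := congrArg (fun x => s ⬝ᵥ x) h3
    simp only [dotProduct_add, dotProduct_smul, dotProduct_zero, smul_eq_mul, hsw, mul_zero,
      add_zero] at h5
    rw [← ht] at h5
    rw [h5, zero_smul, add_zero] at h3
    exact h3
  obtain ⟨e, he⟩ := exists_symp_equiv_alt m hnm A halt hnd
  refine ⟨e, e w, fun h0 => hw0 (by simpa using h0), fun u v => ?_⟩
  have hAw : ∀ x, bf A x w = s ⬝ᵥ x := by
    intro x
    rw [hA, bf_add_vecMulVec, hbw, hsw, mul_zero, add_zero]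
  unfold f3
  rw [he, he, he, hAw, hAw, hA, bf_add_vecMulVec]
  have : bf (B : Matrix (Fin n) (Fin n) F) u v + s ⬝ᵥ u * s ⬝ᵥ v + s ⬝ᵥ u * s ⬝ᵥ v =
      bf (B : Matrix (Fin n) (Fin n) F) u v + 2 * (s ⬝ᵥ u * s ⬝ᵥ v) := by ring
  rw [this, h2, zero_mul, add_zero]

/-- the forms `f3` of two non-zero vectors are isometric -/
theorem f3_transport (m : ℕ) (w₀ w₁ : Fin m ⊕ Fin m → F) (h0 : w₀ ≠ 0) (h1 : w₁ ≠ 0) :
    ∃ φ : (Fin m ⊕ Fin m → F) ≃ₗ[F] (Fin m ⊕ Fin m → F),
      ∀ x y, f3 m w₁ (φ x) (φ y) = f3 m w₀ x y := by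
  obtain ⟨h, hh⟩ := Cfsg.Agent.Lib.H2.Sp.transitive m w₀ w₁ h0 h1
  have hsp : ∀ x y, Cfsg.sympForm m F ((h : Matrix _ _ F) *ᵥ x) ((h : Matrix _ _ F) *ᵥ y) =
      Cfsg.sympForm m F x y := (mem_symplecticGroup_iff_sympForm m h.1).1 h.2
  refine ⟨glEquiv (Cfsg.Agent.S0270.toGL h), fun x y => ?_⟩
  rw [glEquiv_apply, glEquiv_apply, Cfsg.Agent.S0270.toGL_val]
  unfold f3
  have hh' : (h : Matrix _ _ F) *ᵥ w₀ = w₁ := hh
  rw [hsp, ← hh', hsp, hsp]

/-- two non-alternating symmetric invertible matrices of even size are congruent -/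
theorem nonalt_congr (m : ℕ) (hnm : n = 2 * m) (B B' : GL (Fin n) F)
    (hB : (B : Matrix (Fin n) (Fin n) F)ᵀ = (B : Matrix (Fin n) (Fin n) F))
    (hB' : (B' : Matrix (Fin n) (Fin n) F)ᵀ = (B' : Matrix (Fin n) (Fin n) F))
    (hna : ∃ v, bf (B : Matrix (Fin n) (Fin n) F) v v ≠ 0)
    (hna' : ∃ v, bf (B' : Matrix (Fin n) (Fin n) F) v v ≠ 0) :
    ∃ g : GL (Fin n) F, (B : Matrix (Fin n) (Fin n) F) =
      (g : Matrix (Fin n) (Fin n) F)ᵀ * (B' : Matrix (Fin n) (Fin n) F) *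
        (g : Matrix (Fin n) (Fin n) F) := by
  obtain ⟨e, w₀, hw₀, he⟩ := exists_f3_equiv m hnm B hB hna
  obtain ⟨e', w₁, hw₁, he'⟩ := exists_f3_equiv m hnm B' hB' hna'
  obtain ⟨φ, hφ⟩ := f3_transport m w₀ w₁ hw₀ hw₁
  apply congr_of_equiv _ _ ((e.trans φ).trans e'.symm)
  intro u v
  rw [← he', LinearEquiv.trans_apply, LinearEquiv.trans_apply, LinearEquiv.trans_apply,
    LinearEquiv.trans_apply, LinearEquiv.apply_symm_apply, LinearEquiv.apply_symm_apply, hφ, he]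

end normal

section reps

variable {F : Type*} [Field F] {n : ℕ}

theorem rank_pos_of_ne_zero {ι : Type*} [Fintype ι] [DecidableEq ι] (A : Matrix ι ι F)
    (h : A ≠ 0) : 1 ≤ A.rank := by
  by_contra hlt
  have h0 : A.rank = 0 := by omega
  unfold Matrix.rank at h0
  rw [Submodule.finrank_eq_zero] at h0
  apply h
  ext i j
  have h1 : A *ᵥ (Pi.single j 1) ∈ LinearMap.range A.mulVecLin := ⟨_, rfl⟩
  rw [h0, Submodule.mem_bot] at h1
  have h2 := congrFun h1 i
  simpa using h2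

/-- a symplectic transvection is a transvection -/
theorem isTransvection_tv (m : ℕ) (w₀ : Fin m ⊕ Fin m → F) (hw : w₀ ≠ 0) :
    Cfsg.IsTransvection ((tv m w₀ 1 : ↥(Matrix.symplecticGroup (Fin m) F)) :
      Matrix (Fin m ⊕ Fin m) (Fin m ⊕ Fin m) F) := by
  have h1 : ((tv m w₀ 1 : ↥(Matrix.symplecticGroup (Fin m) F)) :
      Matrix (Fin m ⊕ Fin m) (Fin m ⊕ Fin m) F) - 1 =
      Matrix.vecMulVec w₀ (Matrix.J (Fin m) F *ᵥ w₀) := by
    rw [tv_val]
    unfold Cfsg.sympTransvection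
    rw [one_smul, add_sub_cancel_left]
  have hJw : Matrix.J (Fin m) F *ᵥ w₀ ≠ 0 := by
    intro h0
    apply hw
    have := J_mulVec_J_mulVec m w₀
    rw [h0, Matrix.mulVec_zero] at this
    exact neg_eq_zero.1 this.symm
  unfold Cfsg.IsTransvection
  rw [h1]
  constructor
  · apply le_antisymm (Matrix.rank_vecMulVec_le _ _)
    apply rank_pos_of_ne_zero
    intro h0
    obtain ⟨i, hi⟩ := Function.ne_iff.1 hw
    obtain ⟨j, hj⟩ := Function.ne_iff.1 hJw
    have := congrFun (congrFun h0 i) j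
    rw [Matrix.vecMulVec_apply, Matrix.zero_apply] at this
    rcases mul_eq_zero.1 this with h2 | h2
    · exact hi h2
    · exact hj h2
  · rw [Matrix.vecMulVec_mul_vecMulVec, dotProduct_comm, dot_J_self, zero_smul]
    ext i j
    simp [Matrix.vecMulVec_apply]

variable [Finite F] [CharP F 2]

/-- an alternating symmetric invertible matrix of even size -/
theorem exists_alt_char2 (m : ℕ) (hnm : n = 2 * m) :
    ∃ B : GL (Fin n) F, (B : Matrix (Fin n) (Fin n) F)ᵀ = (B : Matrix (Fin n) (Fin n) F) ∧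
      ∀ v, bf (B : Matrix (Fin n) (Fin n) F) v v = 0 := by
  have e₀ : Fin n ≃ Fin m ⊕ Fin m :=
    (finCongr (by rw [hnm]; ring)).trans (finSumFinEquiv (m := m) (n := m)).symm
  have hdet : ((Matrix.J (Fin m) F).submatrix e₀ e₀).det ≠ 0 := by
    rw [Matrix.det_submatrix_equiv_self]
    intro h
    have := Matrix.J_det_mul_J_det (Fin m) F
    rw [h, mul_zero] at this
    exact zero_ne_one this
  have hsymm : ((Matrix.J (Fin m) F).submatrix e₀ e₀)ᵀ = (Matrix.J (Fin m) F).submatrix e₀ e₀ := by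
    rw [Matrix.transpose_submatrix, Matrix.J_transpose]
    ext i j
    rw [Matrix.submatrix_apply, Matrix.neg_apply, CharTwo.neg_eq, Matrix.submatrix_apply]
  refine ⟨Matrix.GeneralLinearGroup.mkOfDetNeZero _ hdet, hsymm, fun v => ?_⟩
  show bf ((Matrix.J (Fin m) F).submatrix e₀ e₀) v v = 0
  rw [bf_self_char2 _ hsymm (fun _ => 0) (fun i => by
    rw [Matrix.submatrix_apply, mul_zero]
    rcases e₀ i with a | a <;> simp [Matrix.J])]
  simp

end reps

section centr

variable {F : Type*} [Field F] [Fintype F] [CharP F 2] {n : ℕ}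

/-- `Sp_{2m}` as the isometry group of the standard alternating form -/
theorem sp_equiv_spGL (m : ℕ) :
    Nonempty (↥(Matrix.symplecticGroup (Fin m) F) ≃*
      ↥(Cfsg.preserving (Units.coeHom (Matrix (Fin m ⊕ Fin m) (Fin m ⊕ Fin m) F))
        (Cfsg.sympForm m F))) := by
  refine ⟨MulEquiv.ofBijective (Cfsg.Agent.S0270.toSpGL (F := F) (m := m))
    ⟨?_, Cfsg.Agent.S0270.toSpGL_surj⟩⟩
  intro a b hab
  apply Subtype.ext
  have := congrArg (fun x : ↥(Cfsg.spGL m F) =>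
    ((x : GL (Fin m ⊕ Fin m) F) : Matrix (Fin m ⊕ Fin m) (Fin m ⊕ Fin m) F)) hab
  exact this

/-- the centraliser of a symplectic-type graph automorphism in characteristic two -/
theorem alt_centralizer_char2 (hn : 3 ≤ n) (m : ℕ) (hm : 1 ≤ m) (hnm : n = 2 * m)
    (B : GL (Fin n) F) (halt : ∀ v, bf (B : Matrix (Fin n) (Fin n) F) v v = 0) :
    Nonempty (↥(Cfsg.inndiagPSL n F ⊓ Subgroup.centralizer {gamF B}) ≃*
      ↥(Matrix.symplecticGroup (Fin m) F)) := by
  classical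
  obtain ⟨E₀⟩ := centralizer_equiv hn B
  obtain ⟨e, he⟩ := exists_symp_equiv_alt m hnm (B : Matrix (Fin n) (Fin n) F) halt (bf_nondeg B)
  have E₁ := projQuotCongr e (Cfsg.Geo.similarityGroup (F := F)
    (bf (B : Matrix (Fin n) (Fin n) F))) (Cfsg.Geo.similarityGroup (F := F) (Cfsg.sympForm m F))
    (glCongr_mem_sim e _ _ 1 one_ne_zero (fun u v => by rw [he, one_mul]))
  obtain ⟨E₂⟩ := preserving_equiv_projQuot_sim (Cfsg.sympForm m F) (fun c u v => by
    rw [sympForm_smul_left, sympForm_smul_right, mul_assoc]) (symp_hne (F := F) m hm)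
  obtain ⟨E₃⟩ := sp_equiv_spGL (F := F) m
  exact ⟨E₀.trans (E₁.trans (E₂.symm.trans E₃.symm))⟩

/-- the centraliser of an orthogonal-type graph automorphism in characteristic two -/
theorem nonalt_centralizer_char2 (hn : 3 ≤ n) (m : ℕ) (B : GL (Fin n) F)
    (e : (Fin n → F) ≃ₗ[F] (Fin m ⊕ Fin m → F)) (w₀ : Fin m ⊕ Fin m → F) (hw₀ : w₀ ≠ 0)
    (he : ∀ u v, f3 m w₀ (e u) (e v) = bf (B : Matrix (Fin n) (Fin n) F) u v) :
    Nonempty (↥(Cfsg.inndiagPSL n F ⊓ Subgroup.centralizer {gamF B}) ≃*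
      ↥(Subgroup.centralizer ({tv m w₀ 1} : Set ↥(Matrix.symplecticGroup (Fin m) F)))) := by
  classical
  obtain ⟨E₀⟩ := centralizer_equiv hn B
  have E₁ := projQuotCongr e (Cfsg.Geo.similarityGroup (F := F)
    (bf (B : Matrix (Fin n) (Fin n) F))) (Cfsg.Geo.similarityGroup (F := F) (f3 m w₀))
    (glCongr_mem_sim e _ _ 1 one_ne_zero (fun u v => by rw [he, one_mul]))
  obtain ⟨E₂⟩ := preserving_equiv_projQuot_sim (f3 m w₀) (f3_smul m w₀) (f3_hne m w₀ hw₀)
  obtain ⟨E₃⟩ := centralizer_tv_equiv m w₀ hw₀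
  exact ⟨E₀.trans (E₁.trans (E₂.symm.trans E₃.symm))⟩

end centr

end Cfsg.Agent.Lib.H11.PSLGraph
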