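import Mathlib
import Cfsg.Prelude.Def_LieTypeDatum

/-!
# Transport of matrix groups along a linear equivalence of coordinate spaces

`glCongr e : GL ι F ≃* GL κ F` for `e : (ι → F) ≃ₗ[F] (κ → F)`; it maps scalars to scalars and
similarity groups of similar forms to each other; hence isomorphisms of the projective quotients.
-/

set_option autoImplicit false
set_option linter.unusedSectionVars false

namespace Cfsg.Agent.Lib.H11.PSLGraph

open Matrix

variable {F : Type*} [Field F] {ι κ : Type} [Fintype ι] [DecidableEq ι] [Fintype κ] [DecidableEq κ]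

/-- the matrix of a linear equivalence of coordinate spaces -/
noncomputable def matE (e : (ι → F) ≃ₗ[F] (κ → F)) : Matrix κ ι F :=
  LinearMap.toMatrix' (e : (ι → F) →ₗ[F] (κ → F))

theorem matE_mulVec (e : (ι → F) ≃ₗ[F] (κ → F)) (v : ι → F) : matE e *ᵥ v = e v := by
  unfold matE
  rw [LinearMap.toMatrix'_mulVec]
  rfl

theorem matE_mul_symm (e : (ι → F) ≃ₗ[F] (κ → F)) : matE e * matE e.symm = 1 := by
  unfold matE
  rw [← LinearMap.toMatrix'_comp]
  have : ((e : (ι → F) →ₗ[F] (κ → F)).comp (e.symm : (κ → F) →ₗ[F] (ι → F))) = LinearMap.id := by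
    ext x : 1
    simp
  rw [this, LinearMap.toMatrix'_id]

theorem matE_symm_mul (e : (ι → F) ≃ₗ[F] (κ → F)) : matE e.symm * matE e = 1 := by
  have := matE_mul_symm e.symm
  rwa [LinearEquiv.symm_symm] at this

theorem conj_mul_conj (e : (ι → F) ≃ₗ[F] (κ → F)) (X Y : Matrix ι ι F) :
    (matE e * X * matE e.symm) * (matE e * Y * matE e.symm) = matE e * (X * Y) * matE e.symm := by
  rw [Matrix.mul_assoc (matE e * X), ← Matrix.mul_assoc (matE e.symm),
    ← Matrix.mul_assoc (matE e.symm), matE_symm_mul, Matrix.one_mul]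
  simp only [Matrix.mul_assoc]

theorem conj_one (e : (ι → F) ≃ₗ[F] (κ → F)) :
    matE e * (1 : Matrix ι ι F) * matE e.symm = 1 := by
  rw [Matrix.mul_one, matE_mul_symm]

/-- conjugation by a linear equivalence of coordinate spaces -/
noncomputable def glCongr (e : (ι → F) ≃ₗ[F] (κ → F)) : GL ι F ≃* GL κ F where
  toFun g := ⟨matE e * (g : Matrix ι ι F) * matE e.symm,
    matE e * ((g⁻¹ : GL ι F) : Matrix ι ι F) * matE e.symm, by
      rw [conj_mul_conj, ← Units.val_mul, mul_inv_cancel, Units.val_one, conj_one], by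
      rw [conj_mul_conj, ← Units.val_mul, inv_mul_cancel, Units.val_one, conj_one]⟩
  invFun g := ⟨matE e.symm * (g : Matrix κ κ F) * matE e,
    matE e.symm * ((g⁻¹ : GL κ F) : Matrix κ κ F) * matE e, by
      have h1 := conj_mul_conj e.symm (g : Matrix κ κ F) ((g⁻¹ : GL κ F) : Matrix κ κ F)
      rw [LinearEquiv.symm_symm] at h1
      rw [h1, ← Units.val_mul, mul_inv_cancel, Units.val_one, Matrix.mul_one, matE_symm_mul], by
      have h1 := conj_mul_conj e.symm ((g⁻¹ : GL κ F) : Matrix κ κ F) (g : Matrix κ κ F)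
      rw [LinearEquiv.symm_symm] at h1
      rw [h1, ← Units.val_mul, inv_mul_cancel, Units.val_one, Matrix.mul_one, matE_symm_mul]⟩
  left_inv g := by
    apply Units.ext
    show matE e.symm * (matE e * (g : Matrix ι ι F) * matE e.symm) * matE e = _
    rw [Matrix.mul_assoc, Matrix.mul_assoc, Matrix.mul_assoc, matE_symm_mul, Matrix.mul_one,
      ← Matrix.mul_assoc, matE_symm_mul, Matrix.one_mul]
  right_inv g := by
    apply Units.ext
    show matE e * (matE e.symm * (g : Matrix κ κ F) * matE e) * matE e.symm = _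
    rw [Matrix.mul_assoc, Matrix.mul_assoc, Matrix.mul_assoc, matE_mul_symm, Matrix.mul_one,
      ← Matrix.mul_assoc, matE_mul_symm, Matrix.one_mul]
  map_mul' g h := by
    apply Units.ext
    show matE e * ((g * h : GL ι F) : Matrix ι ι F) * matE e.symm =
      (matE e * (g : Matrix ι ι F) * matE e.symm) * (matE e * (h : Matrix ι ι F) * matE e.symm)
    rw [Units.val_mul, Matrix.mul_assoc (matE e * (g : Matrix ι ι F)),
      ← Matrix.mul_assoc (matE e.symm), ← Matrix.mul_assoc (matE e.symm), matE_symm_mul,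
      Matrix.one_mul]
    simp only [Matrix.mul_assoc]

theorem glCongr_val (e : (ι → F) ≃ₗ[F] (κ → F)) (g : GL ι F) :
    ((glCongr e g : GL κ F) : Matrix κ κ F) = matE e * (g : Matrix ι ι F) * matE e.symm := rfl

theorem glCongr_symm_val (e : (ι → F) ≃ₗ[F] (κ → F)) (g : GL κ F) :
    (((glCongr e).symm g : GL ι F) : Matrix ι ι F) = matE e.symm * (g : Matrix κ κ F) * matE e :=
  rfl

theorem glCongr_mulVec (e : (ι → F) ≃ₗ[F] (κ → F)) (g : GL ι F) (v : ι → F) :
    ((glCongr e g : GL κ F) : Matrix κ κ F) *ᵥ (e v) = e ((g : Matrix ι ι F) *ᵥ v) := by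
  rw [glCongr_val, ← Matrix.mulVec_mulVec, matE_mulVec, LinearEquiv.symm_apply_apply,
    ← Matrix.mulVec_mulVec, matE_mulVec]

theorem glCongr_symm_mulVec (e : (ι → F) ≃ₗ[F] (κ → F)) (g : GL κ F) (v : ι → F) :
    e ((((glCongr e).symm g : GL ι F) : Matrix ι ι F) *ᵥ v) = (g : Matrix κ κ F) *ᵥ (e v) := by
  rw [← glCongr_mulVec, MulEquiv.apply_symm_apply]

theorem glCongr_scalars (e : (ι → F) ≃ₗ[F] (κ → F)) (g : GL ι F) :
    glCongr e g ∈ Cfsg.Geo.scalars κ F ↔ g ∈ Cfsg.Geo.scalars ι F := by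
  rw [Cfsg.Geo.mem_scalars_iff, Cfsg.Geo.mem_scalars_iff]
  constructor
  · rintro ⟨c, hc⟩
    refine ⟨c, ?_⟩
    rw [glCongr_val] at hc
    have h1 := congrArg (fun X => matE e.symm * X * matE e) hc
    rw [Matrix.mul_assoc, Matrix.mul_assoc, Matrix.mul_assoc, matE_symm_mul, Matrix.mul_one,
      ← Matrix.mul_assoc, matE_symm_mul, Matrix.one_mul, Matrix.mul_smul, Matrix.mul_one,
      Matrix.smul_mul, matE_symm_mul] at h1
    exact h1
  · rintro ⟨c, hc⟩
    refine ⟨c, ?_⟩
    rw [glCongr_val, hc, Matrix.mul_smul, Matrix.mul_one, Matrix.smul_mul, matE_mul_symm]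

/-- similarity groups of similar quadratic maps correspond -/
theorem glCongr_mem_quadSim (e : (ι → F) ≃ₗ[F] (κ → F)) (Q : (ι → F) → F) (Q' : (κ → F) → F)
    (c : F) (hc : c ≠ 0) (h : ∀ v, Q' (e v) = c * Q v) (g : GL ι F) :
    glCongr e g ∈ Cfsg.Geo.quadSimilarityGroup (F := F) Q' ↔
      g ∈ Cfsg.Geo.quadSimilarityGroup (F := F) Q := by
  constructor
  · rintro ⟨μ, hμ⟩
    refine ⟨μ, fun v => ?_⟩
    have h1 := hμ (e v)
    rw [glCongr_mulVec, h, h] at h1
    have h3 : c * Q ((g : Matrix ι ι F) *ᵥ v) = c * ((μ : F) * Q v) := by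
      rw [h1]; ring
    exact mul_left_cancel₀ hc h3
  · rintro ⟨μ, hμ⟩
    refine ⟨μ, fun w => ?_⟩
    obtain ⟨v, rfl⟩ := e.surjective w
    rw [glCongr_mulVec, h, h, hμ]
    ring

/-- similarity groups of similar two-variable forms correspond -/
theorem glCongr_mem_sim (e : (ι → F) ≃ₗ[F] (κ → F)) (f : (ι → F) → (ι → F) → F)
    (f' : (κ → F) → (κ → F) → F)
    (c : F) (hc : c ≠ 0) (h : ∀ u v, f' (e u) (e v) = c * f u v) (g : GL ι F) :
    glCongr e g ∈ Cfsg.Geo.similarityGroup (F := F) f' ↔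
      g ∈ Cfsg.Geo.similarityGroup (F := F) f := by
  constructor
  · rintro ⟨μ, hμ⟩
    refine ⟨μ, fun u v => ?_⟩
    have h1 := hμ (e u) (e v)
    rw [glCongr_mulVec, glCongr_mulVec, h, h] at h1
    have h3 : c * f ((g : Matrix ι ι F) *ᵥ u) ((g : Matrix ι ι F) *ᵥ v) =
        c * ((μ : F) * f u v) := by
      rw [h1]; ring
    exact mul_left_cancel₀ hc h3
  · rintro ⟨μ, hμ⟩
    refine ⟨μ, fun w w' => ?_⟩
    obtain ⟨u, rfl⟩ := e.surjective w
    obtain ⟨v, rfl⟩ := e.surjective w'
    rw [glCongr_mulVec, glCongr_mulVec, h, h, hμ]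
    ring

/-- the induced isomorphism of projective quotients -/
noncomputable def projQuotCongr (e : (ι → F) ≃ₗ[F] (κ → F)) (H : Subgroup (GL ι F))
    (H' : Subgroup (GL κ F)) (hH : ∀ g, glCongr e g ∈ H' ↔ g ∈ H) :
    Cfsg.projQuot H ≃* Cfsg.projQuot H' := by
  let E : ↥H ≃* ↥H' :=
    { toFun := fun x => ⟨glCongr e x.1, (hH x.1).2 x.2⟩
      invFun := fun y => ⟨(glCongr e).symm y.1, (hH _).1 (by
        rw [MulEquiv.apply_symm_apply]; exact y.2)⟩
      left_inv := fun x => by
        apply Subtype.ext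
        exact (glCongr e).symm_apply_apply x.1
      right_inv := fun y => by
        apply Subtype.ext
        exact (glCongr e).apply_symm_apply y.1
      map_mul' := fun x y => by
        apply Subtype.ext
        exact map_mul (glCongr e) x.1 y.1 }
  refine QuotientGroup.congr _ _ E ?_
  ext y
  rw [Subgroup.mem_map, Subgroup.mem_subgroupOf]
  constructor
  · rintro ⟨x, hx, rfl⟩
    rw [Subgroup.mem_subgroupOf] at hx
    exact (glCongr_scalars e x.1).2 hx
  · intro hy
    refine ⟨E.symm y, ?_, E.apply_symm_apply y⟩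
    rw [Subgroup.mem_subgroupOf, ← glCongr_scalars e]
    have : glCongr e ((E.symm y : ↥H) : GL ι F) = y.1 := (glCongr e).apply_symm_apply y.1
    rw [this]
    exact hy

end Cfsg.Agent.Lib.H11.PSLGraph
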