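import Cfsg.Agent.Lib.H11.PSLGraph1
import Cfsg.Agent.Lib.H11.PSLGraph2

/-!
# Involutory graph automorphisms of `PSL_n(F)` (part 3): classes and centralisers via forms

`gamF B = tAut * cGL B` is the graph automorphism attached to the bilinear form with matrix `B`.
Conjugation by `cGL g⁻¹` replaces `B` by `gᵀ B g`; the centraliser of `gamF B` in `Inndiag` is the
image of the similarity group of the form, hence isomorphic to its projective quotient.
-/

set_option autoImplicit false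
set_option linter.unusedSectionVars false

namespace Cfsg.Agent.Lib.H11.PSLGraph

open Matrix Cfsg.Agent.Lib.H13.AutPSL

variable {n : ℕ} {F : Type*} [Field F]

/-- the bilinear form attached to a matrix -/
def bf (B : Matrix (Fin n) (Fin n) F) (u v : Fin n → F) : F := u ⬝ᵥ (B *ᵥ v)

theorem bf_mulVec (B g : Matrix (Fin n) (Fin n) F) (u v : Fin n → F) :
    bf B (g *ᵥ u) (g *ᵥ v) = bf (gᵀ * B * g) u v := by
  unfold bf
  rw [← Matrix.mulVec_mulVec, ← Matrix.mulVec_mulVec, Matrix.dotProduct_mulVec u gᵀ,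
    Matrix.vecMul_transpose]

theorem bf_ext (B B' : Matrix (Fin n) (Fin n) F) (h : ∀ u v, bf B u v = bf B' u v) : B = B' := by
  ext i j
  have := h (Pi.single i 1) (Pi.single j 1)
  unfold bf at this
  simpa using this

theorem bf_smul (c : F) (B : Matrix (Fin n) (Fin n) F) (u v : Fin n → F) :
    bf (c • B) u v = c * bf B u v := by
  unfold bf
  rw [Matrix.smul_mulVec, dotProduct_smul, smul_eq_mul]

theorem mem_sim_bf_iff (B : Matrix (Fin n) (Fin n) F) (g : GL (Fin n) F) :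
    g ∈ Cfsg.Geo.similarityGroup (F := F) (bf B) ↔
      ∃ c : Fˣ, (g : Matrix (Fin n) (Fin n) F)ᵀ * B * (g : Matrix (Fin n) (Fin n) F) =
        (c : F) • B := by
  constructor
  · rintro ⟨c, hc⟩
    refine ⟨c, bf_ext _ _ fun u v => ?_⟩
    rw [← bf_mulVec, hc, bf_smul]
  · rintro ⟨c, hc⟩
    refine ⟨c, fun u v => ?_⟩
    rw [bf_mulVec, hc, bf_smul]

/-- the graph automorphism attached to the form with matrix `B` -/
noncomputable def gamF (B : GL (Fin n) F) : MulAut (ProjectiveSpecialLinearGroup (Fin n) F) :=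
  tAut * cGL B

theorem tGL_tGL (g : GL (Fin n) F) : tGL (tGL g) = g := by
  apply Units.ext
  rw [tGL_coe]
  have h1 : ((tGL g)⁻¹ : GL (Fin n) F) = tGL g⁻¹ := by
    apply inv_eq_of_mul_eq_one_right
    apply Units.ext
    rw [Units.val_mul, tGL_coe, tGL_coe, inv_inv, ← Matrix.transpose_mul, gl_mul_inv,
      Matrix.transpose_one, Units.val_one]
  rw [h1, tGL_coe, inv_inv, Matrix.transpose_transpose]

theorem cGL_mul_tAut (g : GL (Fin n) F) :
    cGL g * (tAut : MulAut (ProjectiveSpecialLinearGroup (Fin n) F)) = tAut * cGL (tGL g) := by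
  rw [tAut_mul_cGL', tGL_tGL]

theorem gam_eq_gamF (A : GL (Fin n) F) : gam A = gamF (tGL A) := by
  unfold gam gamF
  exact cGL_mul_tAut A

theorem gamF_eq_gam (B : GL (Fin n) F) : gamF B = gam (tGL B) := by
  rw [gam_eq_gamF, tGL_tGL]

theorem isGraph_iff' (β : MulAut (ProjectiveSpecialLinearGroup (Fin n) F)) :
    Cfsg.IsGraphAutClassPSL β ↔ 3 ≤ n ∧ ∃ B : GL (Fin n) F, β = gamF B := by
  rw [isGraph_iff]
  constructor
  · rintro ⟨hn, A, rfl⟩
    exact ⟨hn, tGL A, gam_eq_gamF A⟩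
  · rintro ⟨hn, B, rfl⟩
    exact ⟨hn, tGL B, gamF_eq_gam B⟩

theorem conj_gamF (g B : GL (Fin n) F) :
    (cGL g)⁻¹ * gamF B * cGL g = gamF (trGL g * B * g) := by
  unfold gamF trGL
  rw [← map_inv, ← mul_assoc, cGL_mul_tAut, mul_assoc, mul_assoc, ← map_mul, ← map_mul, mul_assoc]

theorem gamF_eq_gamF_iff (hn : 3 ≤ n) (B B' : GL (Fin n) F) :
    gamF B = gamF B' ↔ ∃ c : F, c ≠ 0 ∧ (B' : Matrix (Fin n) (Fin n) F) =
      c • (B : Matrix (Fin n) (Fin n) F) := by
  rw [← cGL_eq_cGL_iff hn]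
  unfold gamF
  exact mul_right_inj _

theorem gamF_ne_cGL (hn : 3 ≤ n) (B g : GL (Fin n) F) : gamF B ≠ cGL g := by
  rw [gamF_eq_gam]
  exact gam_ne_cGL hn _ g

theorem orderOf_gamF_eq_two_iff (hn : 3 ≤ n) (B : GL (Fin n) F) :
    orderOf (gamF B) = 2 ↔ ((B : Matrix (Fin n) (Fin n) F)ᵀ = (B : Matrix (Fin n) (Fin n) F) ∨
      (B : Matrix (Fin n) (Fin n) F)ᵀ = -(B : Matrix (Fin n) (Fin n) F)) := by
  rw [gamF_eq_gam, orderOf_gam_eq_two_iff hn, tGL_coe, Matrix.transpose_transpose]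
  have hB : (B : Matrix (Fin n) (Fin n) F) * ((B⁻¹ : GL (Fin n) F) : Matrix (Fin n) (Fin n) F) = 1 :=
    gl_mul_inv B
  have hB' : ((B⁻¹ : GL (Fin n) F) : Matrix (Fin n) (Fin n) F) * (B : Matrix (Fin n) (Fin n) F) = 1 :=
    gl_inv_mul B
  have key : ∀ ε : F, ε * ε = 1 →
      (((B⁻¹ : GL (Fin n) F) : Matrix (Fin n) (Fin n) F) =
        ε • ((B⁻¹ : GL (Fin n) F) : Matrix (Fin n) (Fin n) F)ᵀ ↔
      (B : Matrix (Fin n) (Fin n) F)ᵀ = ε • (B : Matrix (Fin n) (Fin n) F)) := by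
    intro ε hε
    constructor
    · intro h
      -- Bᵀ = Bᵀ * (B⁻¹ * B) = Bᵀ (ε B⁻ᵀ) B = ε B
      calc (B : Matrix (Fin n) (Fin n) F)ᵀ
          = (B : Matrix (Fin n) (Fin n) F)ᵀ *
            (((B⁻¹ : GL (Fin n) F) : Matrix (Fin n) (Fin n) F) * (B : Matrix (Fin n) (Fin n) F)) := by
            rw [hB', Matrix.mul_one]
        _ = ε • (((B : Matrix (Fin n) (Fin n) F)ᵀ *
            ((B⁻¹ : GL (Fin n) F) : Matrix (Fin n) (Fin n) F)ᵀ) * (B : Matrix (Fin n) (Fin n) F)) := by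
            conv_lhs => rw [h]
            rw [Matrix.smul_mul, Matrix.mul_smul, Matrix.mul_assoc]
        _ = ε • (B : Matrix (Fin n) (Fin n) F) := by
            rw [← Matrix.transpose_mul, hB', Matrix.transpose_one, Matrix.one_mul]
    · intro h
      calc ((B⁻¹ : GL (Fin n) F) : Matrix (Fin n) (Fin n) F)
          = (((B⁻¹ : GL (Fin n) F) : Matrix (Fin n) (Fin n) F)ᵀ * (B : Matrix (Fin n) (Fin n) F)ᵀ) *
            ((B⁻¹ : GL (Fin n) F) : Matrix (Fin n) (Fin n) F) := by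
            rw [← Matrix.transpose_mul, hB, Matrix.transpose_one, Matrix.one_mul]
        _ = ε • (((B⁻¹ : GL (Fin n) F) : Matrix (Fin n) (Fin n) F)ᵀ *
            ((B : Matrix (Fin n) (Fin n) F) * ((B⁻¹ : GL (Fin n) F) : Matrix (Fin n) (Fin n) F))) := by
            rw [h, Matrix.mul_smul, Matrix.smul_mul, Matrix.mul_assoc]
        _ = ε • ((B⁻¹ : GL (Fin n) F) : Matrix (Fin n) (Fin n) F)ᵀ := by
            rw [hB, Matrix.mul_one]
  have k1 := key 1 (one_mul 1)
  have k2 := key (-1) (by ring)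
  rw [one_smul, one_smul] at k1
  rw [neg_smul, one_smul, neg_smul, one_smul] at k2
  rw [k1, k2]

/-- conjugacy of graph automorphisms under `Inndiag` in terms of forms -/
theorem isConj_gamF_iff (hn : 3 ≤ n) (B B' : GL (Fin n) F) :
    Cfsg.IsConjUnder (Cfsg.inndiagPSL n F) (gamF B) (gamF B') ↔
      ∃ (g : GL (Fin n) F) (c : F), c ≠ 0 ∧ (B' : Matrix (Fin n) (Fin n) F) =
        c • ((g : Matrix (Fin n) (Fin n) F)ᵀ * (B : Matrix (Fin n) (Fin n) F) *
          (g : Matrix (Fin n) (Fin n) F)) := by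
  unfold Cfsg.IsConjUnder
  rw [inndiag_eq]
  constructor
  · rintro ⟨h, ⟨g, rfl⟩, hh⟩
    have h1 : gamF B' = (cGL g⁻¹)⁻¹ * gamF B * cGL g⁻¹ := by
      rw [hh, map_inv, inv_inv]
    rw [conj_gamF, gamF_eq_gamF_iff hn] at h1
    obtain ⟨c, hc, h3⟩ := h1
    have hc' : c⁻¹ ≠ 0 := inv_ne_zero hc
    refine ⟨g⁻¹, c⁻¹, hc', ?_⟩
    rw [Units.val_mul, Units.val_mul, trGL_coe] at h3
    rw [h3, smul_smul, inv_mul_cancel₀ hc, one_smul]
  · rintro ⟨g, c, hc, h⟩
    refine ⟨cGL g⁻¹, ⟨g⁻¹, rfl⟩, ?_⟩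
    have h1 := conj_gamF g B
    rw [map_inv, inv_inv, h1, gamF_eq_gamF_iff hn]
    refine ⟨c⁻¹, inv_ne_zero hc, ?_⟩
    rw [h, Units.val_mul, Units.val_mul, trGL_coe, smul_smul, inv_mul_cancel₀ hc, one_smul]

/-- the centraliser of `gamF B` in `Inndiag` is the image of the similarity group of the form -/
theorem inndiag_inf_centralizer (hn : 3 ≤ n) (B : GL (Fin n) F) :
    Cfsg.inndiagPSL n F ⊓ Subgroup.centralizer {gamF B} =
      (Cfsg.Geo.similarityGroup (F := F) (bf (B : Matrix (Fin n) (Fin n) F))).map cGL := by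
  rw [inndiag_eq]
  ext β
  rw [Subgroup.mem_inf, Subgroup.mem_map]
  have key : ∀ g : GL (Fin n) F, cGL g ∈ Subgroup.centralizer {gamF B} ↔
      g ∈ Cfsg.Geo.similarityGroup (F := F) (bf (B : Matrix (Fin n) (Fin n) F)) := by
    intro g
    rw [Subgroup.mem_centralizer_iff, mem_sim_bf_iff]
    constructor
    · intro h
      have h1 := h (gamF B) (Set.mem_singleton _)
      have h3 : (cGL g)⁻¹ * gamF B * cGL g = gamF B := by
        rw [mul_assoc, h1, inv_mul_cancel_left]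
      rw [conj_gamF, gamF_eq_gamF_iff hn] at h3
      obtain ⟨c, hc, h4⟩ := h3
      refine ⟨Units.mk0 c⁻¹ (inv_ne_zero hc), ?_⟩
      rw [Units.val_mul, Units.val_mul, trGL_coe] at h4
      rw [Units.val_mk0]
      conv_rhs => rw [h4]
      rw [smul_smul, inv_mul_cancel₀ hc, one_smul]
    · rintro ⟨c, hc⟩ x hx
      rw [Set.mem_singleton_iff] at hx
      subst hx
      have h3 : (cGL g)⁻¹ * gamF B * cGL g = gamF B := by
        rw [conj_gamF, gamF_eq_gamF_iff hn]
        refine ⟨(c : F)⁻¹, inv_ne_zero c.ne_zero, ?_⟩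
        rw [Units.val_mul, Units.val_mul, trGL_coe, hc, smul_smul, inv_mul_cancel₀ c.ne_zero,
          one_smul]
      calc gamF B * cGL g = cGL g * ((cGL g)⁻¹ * gamF B * cGL g) := by group
        _ = cGL g * gamF B := by rw [h3]
  constructor
  · rintro ⟨⟨g, rfl⟩, h⟩
    exact ⟨g, (key g).1 h, rfl⟩
  · rintro ⟨g, hg, rfl⟩
    exact ⟨⟨g, rfl⟩, (key g).2 hg⟩

/-- scalars as a subgroup coincide with the centre -/
theorem scalars_eq_center : Cfsg.Geo.scalars (Fin n) F = Subgroup.center (GL (Fin n) F) := by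
  ext g
  rw [Matrix.GeneralLinearGroup.center_eq_range_scalar, Cfsg.Geo.mem_scalars_iff]
  constructor
  · rintro ⟨c, hc⟩
    refine ⟨c, ?_⟩
    apply Units.ext
    rw [Matrix.GeneralLinearGroup.coe_scalar, hc]
    ext i j
    simp [Matrix.scalar_apply, Matrix.diagonal_apply, Matrix.one_apply]
  · rintro ⟨c, rfl⟩
    refine ⟨c, ?_⟩
    rw [Matrix.GeneralLinearGroup.coe_scalar]
    ext i j
    simp [Matrix.scalar_apply, Matrix.diagonal_apply, Matrix.one_apply]

/-- the image under `cGL` of a subgroup of `GL` is its projective quotient -/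
noncomputable def mapCGLEquiv (hn : 3 ≤ n) (S : Subgroup (GL (Fin n) F)) :
    ↥(S.map (cGL (n := n) (F := F))) ≃* Cfsg.projQuot S := by
  let ψ : ↥S →* MulAut (ProjectiveSpecialLinearGroup (Fin n) F) := cGL.comp S.subtype
  have hker : ψ.ker = (Cfsg.Geo.scalars (Fin n) F).subgroupOf S := by
    ext x
    rw [MonoidHom.mem_ker, Subgroup.mem_subgroupOf, scalars_eq_center,
      ← cGL_ker (by omega) (hasParPA_three hn), MonoidHom.mem_ker]
    rfl
  have hrange : ψ.range = S.map cGL := by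
    rw [MonoidHom.range_comp, Subgroup.range_subtype]
  exact ((MulEquiv.subgroupCongr hrange).symm.trans
    (QuotientGroup.quotientKerEquivRange ψ).symm).trans
    (QuotientGroup.quotientMulEquivOfEq hker)

/-- the centraliser of `gamF B` in `Inndiag` is the projective similarity group of the form -/
theorem centralizer_equiv (hn : 3 ≤ n) (B : GL (Fin n) F) :
    Nonempty (↥(Cfsg.inndiagPSL n F ⊓ Subgroup.centralizer {gamF B}) ≃*
      Cfsg.projQuot (Cfsg.Geo.similarityGroup (F := F) (bf (B : Matrix (Fin n) (Fin n) F)))) :=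
  ⟨(MulEquiv.subgroupCongr (inndiag_inf_centralizer hn B)).trans (mapCGLEquiv hn _)⟩

end Cfsg.Agent.Lib.H11.PSLGraph
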