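import Cfsg.Agent.Lib.H13.Witt
import Cfsg.Agent.Lib.H13.QuadExt
import Cfsg.Agent.Lib.H13.Disc
import Cfsg.Agent.Lib.H13.StdForm

/-!
# Normal forms of even-dimensional quadratic forms over finite fields of odd characteristic

A non-degenerate quadratic form on `ι → F` with `card ι = 2m` is isometric to the plus form or to a
minus form; the case is detected by the discriminant.
-/

set_option autoImplicit false
set_option linter.unusedSectionVars false
set_option linter.unusedSimpArgs false

namespace Cfsg.Agent.Lib.H11.PSLGraph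

open Matrix Module Cfsg.Agent.Lib.H13

variable {F : Type*} [Field F] [Fintype F] {ι : Type} [Fintype ι] [DecidableEq ι]

theorem toBilin'_single_single {κ : Type*} [Fintype κ] [DecidableEq κ] (G : Matrix κ κ F)
    (x y : κ) : Matrix.toBilin' G (Pi.single x 1) (Pi.single y 1) = G x y := by
  rw [Matrix.toBilin'_single]

theorem equivFun_basis' {κ V : Type*} [Fintype κ] [DecidableEq κ] [AddCommGroup V] [Module F V]
    (b : Basis κ F V) (x : κ) : b.equivFun (b x) = Pi.single x 1 := by
  funext j
  rw [Basis.equivFun_self, Pi.single_apply]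
  by_cases h : x = j
  · rw [if_pos h, if_pos h.symm]
  · rw [if_neg h, if_neg (Ne.symm h)]

/-- the plus case -/
theorem plus_of_std (Q : QuadraticForm F (ι → F)) (m : ℕ)
    (b : Basis ((Fin m ⊕ Fin m) ⊕ Fin 0) F (ι → F)) (hstd : IsStd Q b) :
    ∃ e : (ι → F) ≃ₗ[F] (Fin m ⊕ Fin m → F), (∀ v, Cfsg.quadFormPlus m F (e v) = Q v) ∧
      ∃ d : F, d ≠ 0 ∧ (-1 : F) ^ m =
        d * d * (LinearMap.BilinForm.toMatrix' (QuadraticMap.polarBilin Q)).det := by
  classical
  let b' : Basis (Fin m ⊕ Fin m) F (ι → F) := b.reindex (Equiv.sumEmpty (Fin m ⊕ Fin m) (Fin 0))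
  have hb' : ∀ x, b' x = b (.inl x) := by
    intro x
    simp [b', Basis.reindex_apply]
  have hpol : ∀ x y, QuadraticMap.polar (⇑Q) (b' x) (b' y) = gramPlus m F x y := by
    intro x y
    rw [hb', hb']
    rcases x with i | i <;> rcases y with j | j
    · rw [hstd.iso_l]; simp [gramPlus]
    · rw [hstd.pair]; simp [gramPlus, Matrix.one_apply]
    · rw [QuadraticMap.polar_comm, hstd.pair]; simp [gramPlus, Matrix.one_apply, eq_comm]
    · rw [hstd.iso_r]; simp [gramPlus]
  have hval : ∀ x, Q (b' x) = 0 := by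
    intro x
    rw [hb']
    rcases x with i | i
    · exact hstd.sing_l i
    · exact hstd.sing_r i
  refine ⟨b'.equivFun, ?_, ?_⟩
  · have key : Q = (plusQF F m).comp (b'.equivFun : (ι → F) →ₗ[F] (Fin m ⊕ Fin m → F)) := by
      apply quadraticMap_ext_basis b'
      · intro x
        rw [hval, QuadraticMap.comp_apply]
        show 0 = plusQF F m (b'.equivFun (b' x))
        rw [equivFun_basis', plusQF_apply]
        unfold Cfsg.quadFormPlus
        symm
        apply Finset.sum_eq_zero
        intro i _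
        rcases x with k | k
        · simp [Pi.single_apply]
        · simp [Pi.single_apply]
      · intro x y
        rw [hpol]
        have h1 : QuadraticMap.polar (⇑((plusQF F m).comp
            (b'.equivFun : (ι → F) →ₗ[F] (Fin m ⊕ Fin m → F)))) (b' x) (b' y) =
            QuadraticMap.polar (⇑(plusQF F m)) (b'.equivFun (b' x)) (b'.equivFun (b' y)) := by
          simp only [QuadraticMap.polar, QuadraticMap.comp_apply, map_add]
          rfl
        rw [h1, equivFun_basis', equivFun_basis']
        have h3 : (⇑(plusQF F m) : (Fin m ⊕ Fin m → F) → F) = Cfsg.quadFormPlus m F :=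
          funext (plusQF_apply F m)
        rw [h3, polar_quadFormPlus, toBilin'_single_single]
    intro v
    have := congrArg (fun q : QuadraticForm F (ι → F) => q v) key
    simp only [QuadraticMap.comp_apply] at this
    rw [this, ← plusQF_apply]
    rfl
  · obtain ⟨d, hd, hdet⟩ := gram_det_basis (⇑Q) (QuadraticMap.polarBilin Q) (fun u v => rfl) b'
    refine ⟨d, hd, ?_⟩
    rw [← hdet]
    have : Matrix.of (fun i j : Fin m ⊕ Fin m => QuadraticMap.polar (⇑Q) (b' i) (b' j)) =
        gramPlus m F := by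
      ext x y
      rw [Matrix.of_apply, hpol]
    rw [this, gramPlus, det_hyp]

/-- the minus case -/
theorem minus_of_std (Q : QuadraticForm F (ι → F)) (k : ℕ)
    (b : Basis ((Fin k ⊕ Fin k) ⊕ Fin 2) F (ι → F)) (hstd : IsStd Q b) (ζ : F)
    (h0 : Q (b (.inr 0)) = 1) (h01 : QuadraticMap.polar (⇑Q) (b (.inr 0)) (b (.inr 1)) = 1)
    (h1 : Q (b (.inr 1)) = ζ) :
    ∃ e : (ι → F) ≃ₗ[F] ((Fin k ⊕ Fin k) ⊕ Fin 2 → F),
      (∀ v, Cfsg.quadFormMinus k F 1 ζ (e v) = Q v) ∧
      ∃ d : F, d ≠ 0 ∧ (-1 : F) ^ k * (4 * ζ - 1) =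
        d * d * (LinearMap.BilinForm.toMatrix' (QuadraticMap.polarBilin Q)).det := by
  classical
  have hpol : ∀ x y, QuadraticMap.polar (⇑Q) (b x) (b y) = gramMinus k F 1 ζ x y := by
    intro x y
    rcases x with (i | i) | i <;> rcases y with (j | j) | j
    · rw [hstd.iso_l]; simp [gramMinus, gramPlus]
    · rw [hstd.pair]; simp [gramMinus, gramPlus, Matrix.one_apply]
    · rw [hstd.orth_l]; simp [gramMinus]
    · rw [QuadraticMap.polar_comm, hstd.pair]; simp [gramMinus, gramPlus, Matrix.one_apply, eq_comm]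
    · rw [hstd.iso_r]; simp [gramMinus, gramPlus]
    · rw [hstd.orth_r]; simp [gramMinus]
    · rw [QuadraticMap.polar_comm, hstd.orth_l]; simp [gramMinus]
    · rw [QuadraticMap.polar_comm, hstd.orth_r]; simp [gramMinus]
    · fin_cases i <;> fin_cases j
      · show QuadraticMap.polar (⇑Q) (b (.inr 0)) (b (.inr 0)) = _
        have : QuadraticMap.polar (⇑Q) (b (.inr 0)) (b (.inr 0)) = 2 * Q (b (.inr 0)) := by
          unfold QuadraticMap.polar
          rw [← two_smul F (b (.inr 0)), QuadraticMap.map_smul]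
          simp only [smul_eq_mul]
          ring
        rw [this, h0]
        simp [gramMinus]
      · show QuadraticMap.polar (⇑Q) (b (.inr 0)) (b (.inr 1)) = _
        rw [h01]; simp [gramMinus]
      · show QuadraticMap.polar (⇑Q) (b (.inr 1)) (b (.inr 0)) = _
        rw [QuadraticMap.polar_comm, h01]; simp [gramMinus]
      · show QuadraticMap.polar (⇑Q) (b (.inr 1)) (b (.inr 1)) = _
        have : QuadraticMap.polar (⇑Q) (b (.inr 1)) (b (.inr 1)) = 2 * Q (b (.inr 1)) := by
          unfold QuadraticMap.polar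
          rw [← two_smul F (b (.inr 1)), QuadraticMap.map_smul]
          simp only [smul_eq_mul]
          ring
        rw [this, h1]
        simp [gramMinus]
  refine ⟨b.equivFun, ?_, ?_⟩
  · have key : Q = (minusQF F k 1 ζ).comp
        (b.equivFun : (ι → F) →ₗ[F] ((Fin k ⊕ Fin k) ⊕ Fin 2 → F)) := by
      apply quadraticMap_ext_basis b
      · intro x
        rw [QuadraticMap.comp_apply]
        show Q (b x) = minusQF F k 1 ζ (b.equivFun (b x))
        rw [equivFun_basis', minusQF_apply]
        unfold Cfsg.quadFormMinus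
        rcases x with (i | i) | i
        · rw [hstd.sing_l]
          have : ∑ j : Fin k, (Pi.single (Sum.inl (Sum.inl i)) (1 : F) :
              (Fin k ⊕ Fin k) ⊕ Fin 2 → F) (Sum.inl (Sum.inl j)) *
              (Pi.single (Sum.inl (Sum.inl i)) (1 : F) : (Fin k ⊕ Fin k) ⊕ Fin 2 → F)
                (Sum.inl (Sum.inr j)) = 0 := by
            apply Finset.sum_eq_zero
            intro j _
            simp [Pi.single_apply]
          rw [this]
          simp [Pi.single_apply]
        · rw [hstd.sing_r]
          have : ∑ j : Fin k, (Pi.single (Sum.inl (Sum.inr i)) (1 : F) :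
              (Fin k ⊕ Fin k) ⊕ Fin 2 → F) (Sum.inl (Sum.inl j)) *
              (Pi.single (Sum.inl (Sum.inr i)) (1 : F) : (Fin k ⊕ Fin k) ⊕ Fin 2 → F)
                (Sum.inl (Sum.inr j)) = 0 := by
            apply Finset.sum_eq_zero
            intro j _
            simp [Pi.single_apply]
          rw [this]
          simp [Pi.single_apply]
        · have : ∑ j : Fin k, (Pi.single (Sum.inr i) (1 : F) :
              (Fin k ⊕ Fin k) ⊕ Fin 2 → F) (Sum.inl (Sum.inl j)) *
              (Pi.single (Sum.inr i) (1 : F) : (Fin k ⊕ Fin k) ⊕ Fin 2 → F)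
                (Sum.inl (Sum.inr j)) = 0 := by
            apply Finset.sum_eq_zero
            intro j _
            simp [Pi.single_apply]
          rw [this]
          fin_cases i
          · show Q (b (.inr 0)) = _
            rw [h0]
            simp [Pi.single_apply]
          · show Q (b (.inr 1)) = _
            rw [h1]
            simp [Pi.single_apply]
      · intro x y
        rw [hpol]
        have h1' : QuadraticMap.polar (⇑((minusQF F k 1 ζ).comp
            (b.equivFun : (ι → F) →ₗ[F] ((Fin k ⊕ Fin k) ⊕ Fin 2 → F)))) (b x) (b y) =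
            QuadraticMap.polar (⇑(minusQF F k 1 ζ)) (b.equivFun (b x)) (b.equivFun (b y)) := by
          simp only [QuadraticMap.polar, QuadraticMap.comp_apply, map_add]
          rfl
        rw [h1', equivFun_basis', equivFun_basis']
        have h3 : (⇑(minusQF F k 1 ζ) : ((Fin k ⊕ Fin k) ⊕ Fin 2 → F) → F) =
            Cfsg.quadFormMinus k F 1 ζ := funext (minusQF_apply F k 1 ζ)
        rw [h3, polar_quadFormMinus, toBilin'_single_single]
    intro v
    have := congrArg (fun q : QuadraticForm F (ι → F) => q v) key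
    simp only [QuadraticMap.comp_apply] at this
    rw [this, ← minusQF_apply]
    rfl
  · obtain ⟨d, hd, hdet⟩ := gram_det_basis (⇑Q) (QuadraticMap.polarBilin Q) (fun u v => rfl) b
    refine ⟨d, hd, ?_⟩
    rw [← hdet]
    have : Matrix.of (fun i j : (Fin k ⊕ Fin k) ⊕ Fin 2 =>
        QuadraticMap.polar (⇑Q) (b i) (b j)) = gramMinus k F 1 ζ := by
      ext x y
      rw [Matrix.of_apply, hpol]
    rw [this, det_gramMinus]
    ring

/-- normal form of an even-dimensional non-degenerate quadratic form -/
theorem exists_plus_or_minus (Q : QuadraticForm F (ι → F))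
    (hQ : (QuadraticMap.polarBilin Q).Nondegenerate) (m : ℕ) (hcard : Fintype.card ι = 2 * m) :
    (∃ e : (ι → F) ≃ₗ[F] (Fin m ⊕ Fin m → F), (∀ v, Cfsg.quadFormPlus m F (e v) = Q v) ∧
      ∃ d : F, d ≠ 0 ∧ (-1 : F) ^ m =
        d * d * (LinearMap.BilinForm.toMatrix' (QuadraticMap.polarBilin Q)).det) ∨
    (1 ≤ m ∧ ∃ ζ : F, (∀ t : F, t ^ 2 + t + ζ ≠ 0) ∧
      ∃ e : (ι → F) ≃ₗ[F] ((Fin (m - 1) ⊕ Fin (m - 1)) ⊕ Fin 2 → F),
      (∀ v, Cfsg.quadFormMinus (m - 1) F 1 ζ (e v) = Q v) ∧
      ∃ d : F, d ≠ 0 ∧ (-1 : F) ^ (m - 1) * (4 * ζ - 1) =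
        d * d * (LinearMap.BilinForm.toMatrix' (QuadraticMap.polarBilin Q)).det) := by
  obtain ⟨k, r, b, hstd, htail, hfr⟩ := Cfsg.Agent.Lib.H13.witt Q hQ
  rw [Module.finrank_fintype_fun_eq_card, hcard] at hfr
  rcases r with _ | _ | _ | r
  · left
    have hk : k = m := by omega
    subst hk
    exact plus_of_std Q k b hstd
  · omega
  · right
    have hk : k = m - 1 := by omega
    subst hk
    obtain ⟨ζ, hζ, h0, h01, h1⟩ := htail
    exact ⟨by omega, ζ, hζ, minus_of_std Q (m - 1) b hstd ζ h0 h01 h1⟩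
  · exact htail.elim

end Cfsg.Agent.Lib.H11.PSLGraph
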