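import Cfsg.Agent.Lib.H11.PSLGraph3
import Cfsg.Agent.Lib.H11.PSLGraph4

/-!
# Involutory graph automorphisms of `PSL_n(F)` (part 5): the orthogonal types

For a symmetric invertible matrix `B` over a finite field of odd characteristic and `n = 2m`, the
centraliser of `gamF B` in `Inndiag` is `PGO⁺` or `PGO⁻` according to the discriminant.
-/

set_option autoImplicit false
set_option linter.unusedSectionVars false

namespace Cfsg.Agent.Lib.H11.PSLGraph

open Matrix Cfsg.Agent.Lib.H13.AutPSL Cfsg.Agent.Lib.H13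

variable {n : ℕ} {F : Type*} [Field F]

/-- the quadratic form `v ↦ v ⬝ B v` -/
noncomputable def qfB (B : Matrix (Fin n) (Fin n) F) : QuadraticForm F (Fin n → F) :=
  LinearMap.BilinMap.toQuadraticMap (Matrix.toLinearMap₂' F B)

theorem qfB_apply (B : Matrix (Fin n) (Fin n) F) (v : Fin n → F) : qfB B v = bf B v v := by
  unfold qfB bf
  rw [LinearMap.BilinMap.toQuadraticMap_apply, Matrix.toLinearMap₂'_apply']

theorem bf_symm (B : Matrix (Fin n) (Fin n) F) (hB : Bᵀ = B) (u v : Fin n → F) :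
    bf B u v = bf B v u := by
  unfold bf
  rw [Matrix.dotProduct_mulVec, ← Matrix.mulVec_transpose, hB, dotProduct_comm]

theorem bf_add_left (B : Matrix (Fin n) (Fin n) F) (u u' v : Fin n → F) :
    bf B (u + u') v = bf B u v + bf B u' v := by
  unfold bf
  rw [add_dotProduct]

theorem bf_add_right (B : Matrix (Fin n) (Fin n) F) (u v v' : Fin n → F) :
    bf B u (v + v') = bf B u v + bf B u v' := by
  unfold bf
  rw [Matrix.mulVec_add, dotProduct_add]

theorem polar_qfB (B : Matrix (Fin n) (Fin n) F) (hB : Bᵀ = B) (u v : Fin n → F) :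
    QuadraticMap.polar (⇑(qfB B)) u v = 2 * bf B u v := by
  unfold QuadraticMap.polar
  rw [qfB_apply, qfB_apply, qfB_apply, bf_add_left, bf_add_right, bf_add_right, bf_symm B hB v u]
  ring

theorem sim_bf_eq_quadSim (h2 : (2 : F) ≠ 0) (B : Matrix (Fin n) (Fin n) F) (hB : Bᵀ = B) :
    Cfsg.Geo.similarityGroup (F := F) (bf B) =
      Cfsg.Geo.quadSimilarityGroup (F := F) (⇑(qfB B)) := by
  ext g
  constructor
  · rintro ⟨c, hc⟩
    refine ⟨c, fun v => ?_⟩
    rw [qfB_apply, qfB_apply, hc]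
  · rintro ⟨c, hc⟩
    refine ⟨c, fun u v => ?_⟩
    have h1 : ∀ x y, 2 * bf B x y = qfB B (x + y) - qfB B x - qfB B y := by
      intro x y
      rw [← polar_qfB B hB]
      rfl
    have h3 : 2 * bf B ((g : Matrix (Fin n) (Fin n) F) *ᵥ u) ((g : Matrix (Fin n) (Fin n) F) *ᵥ v) =
        2 * ((c : F) * bf B u v) := by
      rw [h1, ← Matrix.mulVec_add, hc, hc, hc]
      have := h1 u v
      linear_combination (-(c : F)) * this
    exact mul_left_cancel₀ h2 h3

theorem toMatrix'_polarBilin_qfB (B : Matrix (Fin n) (Fin n) F) (hB : Bᵀ = B) :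
    LinearMap.BilinForm.toMatrix' (QuadraticMap.polarBilin (qfB B)) = (2 : F) • B := by
  ext i j
  rw [LinearMap.BilinForm.toMatrix'_apply, QuadraticMap.polarBilin_apply_apply, polar_qfB B hB,
    Matrix.smul_apply, smul_eq_mul]
  unfold bf
  simp

theorem nondeg_qfB (h2 : (2 : F) ≠ 0) (B : GL (Fin n) F)
    (hB : (B : Matrix (Fin n) (Fin n) F)ᵀ = (B : Matrix (Fin n) (Fin n) F)) :
    (QuadraticMap.polarBilin (qfB (B : Matrix (Fin n) (Fin n) F))).Nondegenerate := by
  apply (LinearMap.BilinForm.nondegenerate_toMatrix'_iff).1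
  rw [toMatrix'_polarBilin_qfB _ hB, Matrix.nondegenerate_iff_det_ne_zero, Matrix.det_smul]
  apply mul_ne_zero (pow_ne_zero _ h2)
  have := (Matrix.GeneralLinearGroup.det B).ne_zero
  rwa [Matrix.GeneralLinearGroup.val_det_apply] at this

theorem aniso_of_irred (ζ : F) (hζ : ∀ t : F, t ^ 2 + t + ζ ≠ 0) (z₁ z₂ : F)
    (h : z₁ ^ 2 + 1 * z₁ * z₂ + ζ * z₂ ^ 2 = 0) : z₁ = 0 ∧ z₂ = 0 := by
  by_cases hz : z₂ = 0
  · subst hz
    refine ⟨?_, rfl⟩
    have : z₁ ^ 2 = 0 := by linear_combination h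
    exact pow_eq_zero_iff (by norm_num) |>.1 this
  · exfalso
    apply hζ (z₁ / z₂)
    field_simp
    linear_combination h

section fin

variable [Fintype F]

/-- the centraliser of an orthogonal-type graph automorphism -/
theorem sym_centralizer (h2 : (2 : F) ≠ 0) (hn : 3 ≤ n) (m : ℕ) (hnm : n = 2 * m)
    (B : GL (Fin n) F)
    (hB : (B : Matrix (Fin n) (Fin n) F)ᵀ = (B : Matrix (Fin n) (Fin n) F)) :
    (IsSquare ((-1 : F) ^ m * (B : Matrix (Fin n) (Fin n) F).det) →
      Nonempty (↥(Cfsg.inndiagPSL n F ⊓ Subgroup.centralizer {gamF B}) ≃*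
        Cfsg.PGO F (Cfsg.quadFormPlus m F))) ∧
    (¬ IsSquare ((-1 : F) ^ m * (B : Matrix (Fin n) (Fin n) F).det) →
      ∃ ζ : F, (∀ t : F, t ^ 2 + t + ζ ≠ 0) ∧
        Nonempty (↥(Cfsg.inndiagPSL n F ⊓ Subgroup.centralizer {gamF B}) ≃*
          Cfsg.PGO F (Cfsg.quadFormMinus (m - 1) F 1 ζ))) := by
  classical
  obtain ⟨E₀⟩ := centralizer_equiv hn B
  rw [sim_bf_eq_quadSim h2 _ hB] at E₀
  have hdetB : (B : Matrix (Fin n) (Fin n) F).det ≠ 0 := by
    have := (Matrix.GeneralLinearGroup.det B).ne_zero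
    rwa [Matrix.GeneralLinearGroup.val_det_apply] at this
  have hG : (LinearMap.BilinForm.toMatrix' (QuadraticMap.polarBilin
      (qfB (B : Matrix (Fin n) (Fin n) F)))).det =
      (2 ^ m) * (2 ^ m) * (B : Matrix (Fin n) (Fin n) F).det := by
    have hpow : (2 : F) ^ n = 2 ^ m * 2 ^ m := by
      have : (2 : F) ^ n = (2 : F) ^ (2 * m) := congrArg (fun k => (2 : F) ^ k) hnm
      rw [this]
      ring
    rw [toMatrix'_polarBilin_qfB _ hB, Matrix.det_smul, Fintype.card_fin, hpow]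
  have h2m : (2 : F) ^ m ≠ 0 := pow_ne_zero _ h2
  rcases exists_plus_or_minus (qfB (B : Matrix (Fin n) (Fin n) F)) (nondeg_qfB h2 B hB) m
    (by rw [Fintype.card_fin, hnm]) with ⟨e, he, d, hd, hdisc⟩ | ⟨hm1, ζ, hζ, e, he, d, hd, hdisc⟩
  · -- plus type
    have hsq : IsSquare ((-1 : F) ^ m * (B : Matrix (Fin n) (Fin n) F).det) := by
      rw [hdisc, hG]
      exact ⟨d * 2 ^ m * (B : Matrix (Fin n) (Fin n) F).det, by ring⟩
    refine ⟨fun _ => ?_, fun h => absurd hsq h⟩
    have E₁ := projQuotCongr e (Cfsg.Geo.quadSimilarityGroup (F := F)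
      (⇑(qfB (B : Matrix (Fin n) (Fin n) F))))
      (Cfsg.Geo.quadSimilarityGroup (F := F) (Cfsg.quadFormPlus m F))
      (glCongr_mem_quadSim e _ _ 1 one_ne_zero (fun v => by rw [he, one_mul]))
    exact ⟨E₀.trans E₁⟩
  · -- minus type
    have hns : ¬ IsSquare ((-1 : F) ^ m * (B : Matrix (Fin n) (Fin n) F).det) := by
      intro hsq
      have hnsq : ¬ IsSquare ((1 : F) ^ 2 - 4 * ζ) :=
        disc_nonsquare h2 1 ζ (aniso_of_irred ζ hζ)
      apply hnsq
      have hm' : (-1 : F) ^ m = -((-1 : F) ^ (m - 1)) := by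
        obtain ⟨k, rfl⟩ : ∃ k, m = k + 1 := ⟨m - 1, by omega⟩
        rw [Nat.add_sub_cancel, pow_succ]
        ring
      have h5 : ((-1 : F) ^ m * (B : Matrix (Fin n) (Fin n) F).det) * ((1 : F) ^ 2 - 4 * ζ) =
          (d * 2 ^ m * (B : Matrix (Fin n) (Fin n) F).det) *
            (d * 2 ^ m * (B : Matrix (Fin n) (Fin n) F).det) := by
        have h6 : (-1 : F) ^ m * ((1 : F) ^ 2 - 4 * ζ) =
            d * d * (2 ^ m * 2 ^ m * (B : Matrix (Fin n) (Fin n) F).det) := by
          rw [← hG, ← hdisc, hm']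
          ring
        linear_combination (B : Matrix (Fin n) (Fin n) F).det * h6
      have h0 : (-1 : F) ^ m * (B : Matrix (Fin n) (Fin n) F).det ≠ 0 :=
        mul_ne_zero (pow_ne_zero _ (neg_ne_zero.2 one_ne_zero)) hdetB
      obtain ⟨s, hs⟩ := hsq
      have hs0 : s ≠ 0 := by
        rintro rfl
        rw [mul_zero] at hs
        exact h0 hs
      refine ⟨d * 2 ^ m * (B : Matrix (Fin n) (Fin n) F).det / s, ?_⟩
      have : (1 : F) ^ 2 - 4 * ζ = ((-1 : F) ^ m * (B : Matrix (Fin n) (Fin n) F).det) *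
          ((1 : F) ^ 2 - 4 * ζ) / (s * s) := by
        rw [← hs]
        field_simp
      rw [this, h5]
      field_simp
    refine ⟨fun h => absurd h hns, fun _ => ⟨ζ, hζ, ?_⟩⟩
    have E₁ := projQuotCongr e (Cfsg.Geo.quadSimilarityGroup (F := F)
      (⇑(qfB (B : Matrix (Fin n) (Fin n) F))))
      (Cfsg.Geo.quadSimilarityGroup (F := F) (Cfsg.quadFormMinus (m - 1) F 1 ζ))
      (glCongr_mem_quadSim e _ _ 1 one_ne_zero (fun v => by rw [he, one_mul]))
    exact ⟨E₀.trans E₁⟩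

end fin

end Cfsg.Agent.Lib.H11.PSLGraph
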