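import Cfsg.Agent.Lib.H11.PSLGraph5
import Cfsg.Agent.Lib.H13.SympBasis

/-!
# Involutory graph automorphisms of `PSL_n(F)` (part 6): congruence classes of forms

Symmetric invertible matrices of the same discriminant class are congruent; skew-symmetric
invertible matrices are congruent; the symplectic-type centraliser.
-/

set_option autoImplicit false
set_option linter.unusedSectionVars false
set_option linter.unusedSimpArgs false

namespace Cfsg.Agent.Lib.H11.PSLGraph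

open Matrix Cfsg.Agent.Lib.H13.AutPSL Cfsg.Agent.Lib.H13

variable {F : Type*} [Field F]

section adjust

variable (k : ℕ)

local notation "IM" => ((Fin k ⊕ Fin k) ⊕ Fin 2)

/-- the matrix changing the parameter of the anisotropic part -/
def adjM (s t : F) : Matrix IM IM F :=
  Matrix.fromBlocks 1 0 0 !![1, t; 0, s]

theorem adjM_mulVec_inl (s t : F) (v : IM → F) (x : Fin k ⊕ Fin k) :
    (adjM k s t *ᵥ v) (.inl x) = v (.inl x) := by
  unfold adjM
  rw [Matrix.fromBlocks_mulVec]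
  simp

theorem adjM_mulVec_inr0 (s t : F) (v : IM → F) :
    (adjM k s t *ᵥ v) (.inr 0) = v (.inr 0) + t * v (.inr 1) := by
  unfold adjM
  rw [Matrix.fromBlocks_mulVec]
  simp [Matrix.mulVec, dotProduct, Fin.sum_univ_two]

theorem adjM_mulVec_inr1 (s t : F) (v : IM → F) :
    (adjM k s t *ᵥ v) (.inr 1) = s * v (.inr 1) := by
  unfold adjM
  rw [Matrix.fromBlocks_mulVec]
  simp [Matrix.mulVec, dotProduct, Fin.sum_univ_two]

theorem det_adjM (s t : F) : (adjM k s t).det = s := by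
  unfold adjM
  rw [Matrix.det_fromBlocks_zero₂₁, Matrix.det_one, Matrix.det_fin_two_of]
  ring

/-- minus forms with different parameters are isometric -/
theorem minus_adjust [Fintype F] (h2 : (2 : F) ≠ 0) (ζ ζ' : F) (hζ : ∀ t : F, t ^ 2 + t + ζ ≠ 0)
    (hζ' : ∀ t : F, t ^ 2 + t + ζ' ≠ 0) :
    ∃ e : (IM → F) ≃ₗ[F] (IM → F),
      ∀ v, Cfsg.quadFormMinus k F 1 ζ' (e v) = Cfsg.quadFormMinus k F 1 ζ v := by
  classical
  have hn1 : ¬ IsSquare ((1 : F) ^ 2 - 4 * ζ) := disc_nonsquare h2 1 ζ (aniso_of_irred ζ hζ)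
  have hn2 : ¬ IsSquare ((1 : F) ^ 2 - 4 * ζ') := disc_nonsquare h2 1 ζ' (aniso_of_irred ζ' hζ')
  have h10 : (1 : F) ^ 2 - 4 * ζ ≠ 0 := by
    intro h; apply hn1; rw [h]; exact ⟨0, by simp⟩
  have h20 : (1 : F) ^ 2 - 4 * ζ' ≠ 0 := by
    intro h; apply hn2; rw [h]; exact ⟨0, by simp⟩
  -- the ratio of two non-squares is a square
  have hsq : IsSquare (((1 : F) ^ 2 - 4 * ζ) * ((1 : F) ^ 2 - 4 * ζ')) := by
    by_contra hns
    apply hns
    rw [isSquare_mul_nonsquare_iff h10 hn2]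
    exact hn1
  obtain ⟨r, hr⟩ := hsq
  have hr0 : r ≠ 0 := by
    rintro rfl
    rw [mul_zero] at hr
    exact (mul_ne_zero h10 h20) hr
  obtain ⟨s, hs⟩ : ∃ s : F, s = r / ((1 : F) ^ 2 - 4 * ζ') := ⟨_, rfl⟩
  have hs0 : s ≠ 0 := by rw [hs]; exact div_ne_zero hr0 h20
  have hss : s * s * ((1 : F) ^ 2 - 4 * ζ') = (1 : F) ^ 2 - 4 * ζ := by
    have h7 : s * ((1 : F) ^ 2 - 4 * ζ') = r := by rw [hs]; exact div_mul_cancel₀ r h20
    have h8 : s * r = (1 : F) ^ 2 - 4 * ζ := by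
      rw [hs, div_mul_eq_mul_div, ← hr, mul_div_assoc, div_self h20, mul_one]
    calc s * s * ((1 : F) ^ 2 - 4 * ζ') = s * (s * ((1 : F) ^ 2 - 4 * ζ')) := by ring
      _ = (1 : F) ^ 2 - 4 * ζ := by rw [h7, h8]
  obtain ⟨t, ht⟩ : ∃ t : F, t = (1 - s) / 2 := ⟨_, rfl⟩
  have ht2 : 2 * t + s = 1 := by rw [ht]; field_simp; ring
  have hinv : Invertible (adjM k s t) := Matrix.invertibleOfIsUnitDet _ (by
    rw [det_adjM]; exact isUnit_iff_ne_zero.2 hs0)
  refine ⟨Matrix.toLinearEquiv' (adjM k s t) hinv, fun v => ?_⟩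
  have hev : (Matrix.toLinearEquiv' (adjM k s t) hinv) v = adjM k s t *ᵥ v := by
    show ((Matrix.toLinearEquiv' (adjM k s t) hinv : (IM → F) ≃ₗ[F] (IM → F)) :
      (IM → F) →ₗ[F] (IM → F)) v = _
    rw [Matrix.toLinearEquiv'_apply, Matrix.toLin'_apply]
  rw [hev]
  unfold Cfsg.quadFormMinus
  simp only [adjM_mulVec_inl, adjM_mulVec_inr0, adjM_mulVec_inr1]
  have h4 : (4 : F) ≠ 0 := by
    have : (4 : F) = 2 * 2 := by norm_num
    rw [this]; exact mul_ne_zero h2 h2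
  have key : t ^ 2 + s * t + ζ' * s ^ 2 = ζ := by
    have h5 : 4 * (t ^ 2 + s * t + ζ' * s ^ 2) = 4 * ζ := by
      have : 2 * t = 1 - s := by linear_combination ht2
      have h6 : 4 * (t ^ 2 + s * t + ζ' * s ^ 2) = (2 * t) ^ 2 + 2 * s * (2 * t) +
          4 * ζ' * s ^ 2 := by ring
      rw [h6, this]
      linear_combination -hss
    exact mul_left_cancel₀ h4 h5
  have hst : 2 * t + s = 1 := ht2
  linear_combination (v (Sum.inr 1)) ^ 2 * key + (v (Sum.inr 0)) * (v (Sum.inr 1)) * hst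

end adjust

section congr

variable {n : ℕ}

/-- a linear isometry between the forms of two matrices gives a congruence -/
theorem congr_of_equiv (B B' : Matrix (Fin n) (Fin n) F) (φ : (Fin n → F) ≃ₗ[F] (Fin n → F))
    (h : ∀ u v, bf B' (φ u) (φ v) = bf B u v) :
    ∃ g : GL (Fin n) F, B = (g : Matrix (Fin n) (Fin n) F)ᵀ * B' * (g : Matrix (Fin n) (Fin n) F) := by
  refine ⟨⟨matE φ, matE φ.symm, matE_mul_symm φ, matE_symm_mul φ⟩, ?_⟩
  apply bf_ext
  intro u v
  rw [← bf_mulVec, matE_mulVec, matE_mulVec, h]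

theorem bf_of_qfB (h2 : (2 : F) ≠ 0) (B : Matrix (Fin n) (Fin n) F) (hB : Bᵀ = B)
    (u v : Fin n → F) : bf B u v = (qfB B (u + v) - qfB B u - qfB B v) / 2 := by
  have := polar_qfB B hB u v
  unfold QuadraticMap.polar at this
  rw [this]
  field_simp

/-- symmetric matrices whose quadratic forms are isometric are congruent -/
theorem congr_of_qf_equiv (h2 : (2 : F) ≠ 0) (B B' : Matrix (Fin n) (Fin n) F) (hB : Bᵀ = B)
    (hB' : B'ᵀ = B') (φ : (Fin n → F) ≃ₗ[F] (Fin n → F))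
    (h : ∀ v, qfB B' (φ v) = qfB B v) :
    ∃ g : GL (Fin n) F, B = (g : Matrix (Fin n) (Fin n) F)ᵀ * B' * (g : Matrix (Fin n) (Fin n) F) := by
  apply congr_of_equiv B B' φ
  intro u v
  rw [bf_of_qfB h2 B' hB', bf_of_qfB h2 B hB, ← map_add, h, h, h]

/-- symmetric invertible matrices in the same discriminant class are congruent -/
theorem sym_congr [Fintype F] (h2 : (2 : F) ≠ 0) (m : ℕ) (hnm : n = 2 * m) (B B' : GL (Fin n) F)
    (hB : (B : Matrix (Fin n) (Fin n) F)ᵀ = (B : Matrix (Fin n) (Fin n) F))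
    (hB' : (B' : Matrix (Fin n) (Fin n) F)ᵀ = (B' : Matrix (Fin n) (Fin n) F))
    (hd : IsSquare ((-1 : F) ^ m * (B : Matrix (Fin n) (Fin n) F).det) ↔
      IsSquare ((-1 : F) ^ m * (B' : Matrix (Fin n) (Fin n) F).det)) :
    ∃ g : GL (Fin n) F, (B : Matrix (Fin n) (Fin n) F) =
      (g : Matrix (Fin n) (Fin n) F)ᵀ * (B' : Matrix (Fin n) (Fin n) F) *
        (g : Matrix (Fin n) (Fin n) F) := by
  classical
  -- discriminant bookkeeping
  have hdet : ∀ C : GL (Fin n) F, (C : Matrix (Fin n) (Fin n) F).det ≠ 0 := by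
    intro C
    have := (Matrix.GeneralLinearGroup.det C).ne_zero
    rwa [Matrix.GeneralLinearGroup.val_det_apply] at this
  have hG : ∀ C : GL (Fin n) F, (C : Matrix (Fin n) (Fin n) F)ᵀ = (C : Matrix (Fin n) (Fin n) F) →
      (LinearMap.BilinForm.toMatrix' (QuadraticMap.polarBilin
        (qfB (C : Matrix (Fin n) (Fin n) F)))).det =
      (2 ^ m) * (2 ^ m) * (C : Matrix (Fin n) (Fin n) F).det := by
    intro C hC
    have hpow : (2 : F) ^ n = 2 ^ m * 2 ^ m := by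
      have : (2 : F) ^ n = (2 : F) ^ (2 * m) := congrArg (fun k => (2 : F) ^ k) hnm
      rw [this]
      ring
    rw [toMatrix'_polarBilin_qfB _ hC, Matrix.det_smul, Fintype.card_fin, hpow]
  -- which case is which
  have hplus : ∀ C : GL (Fin n) F, (C : Matrix (Fin n) (Fin n) F)ᵀ = (C : Matrix (Fin n) (Fin n) F) →
      ∀ d : F, (-1 : F) ^ m = d * d * (LinearMap.BilinForm.toMatrix' (QuadraticMap.polarBilin
        (qfB (C : Matrix (Fin n) (Fin n) F)))).det →
      IsSquare ((-1 : F) ^ m * (C : Matrix (Fin n) (Fin n) F).det) := by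
    intro C hC d hdisc
    rw [hdisc, hG C hC]
    exact ⟨d * 2 ^ m * (C : Matrix (Fin n) (Fin n) F).det, by ring⟩
  have hminus : ∀ C : GL (Fin n) F,
      (C : Matrix (Fin n) (Fin n) F)ᵀ = (C : Matrix (Fin n) (Fin n) F) → 1 ≤ m →
      ∀ (ζ : F) (_ : ∀ t : F, t ^ 2 + t + ζ ≠ 0) (d : F),
      (-1 : F) ^ (m - 1) * (4 * ζ - 1) = d * d * (LinearMap.BilinForm.toMatrix'
        (QuadraticMap.polarBilin (qfB (C : Matrix (Fin n) (Fin n) F)))).det →
      ¬ IsSquare ((-1 : F) ^ m * (C : Matrix (Fin n) (Fin n) F).det) := by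
    intro C hC hm1 ζ hζ d hdisc hsq
    have hdC := hdet C
    have hnsq : ¬ IsSquare ((1 : F) ^ 2 - 4 * ζ) :=
      disc_nonsquare h2 1 ζ (aniso_of_irred ζ hζ)
    apply hnsq
    have hm' : (-1 : F) ^ m = -((-1 : F) ^ (m - 1)) := by
      obtain ⟨k, rfl⟩ : ∃ k, m = k + 1 := ⟨m - 1, by omega⟩
      rw [Nat.add_sub_cancel, pow_succ]
      ring
    have h5 : ((-1 : F) ^ m * (C : Matrix (Fin n) (Fin n) F).det) * ((1 : F) ^ 2 - 4 * ζ) =
        (d * 2 ^ m * (C : Matrix (Fin n) (Fin n) F).det) *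
          (d * 2 ^ m * (C : Matrix (Fin n) (Fin n) F).det) := by
      have h6 : (-1 : F) ^ m * ((1 : F) ^ 2 - 4 * ζ) =
          d * d * (2 ^ m * 2 ^ m * (C : Matrix (Fin n) (Fin n) F).det) := by
        rw [← hG C hC, ← hdisc, hm']
        ring
      linear_combination (C : Matrix (Fin n) (Fin n) F).det * h6
    have h0 : (-1 : F) ^ m * (C : Matrix (Fin n) (Fin n) F).det ≠ 0 :=
      mul_ne_zero (pow_ne_zero _ (neg_ne_zero.2 one_ne_zero)) (hdet C)
    obtain ⟨s, hs⟩ := hsq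
    have hs0 : s ≠ 0 := by
      rintro rfl
      rw [mul_zero] at hs
      exact h0 hs
    refine ⟨d * 2 ^ m * (C : Matrix (Fin n) (Fin n) F).det / s, ?_⟩
    have : (1 : F) ^ 2 - 4 * ζ = ((-1 : F) ^ m * (C : Matrix (Fin n) (Fin n) F).det) *
        ((1 : F) ^ 2 - 4 * ζ) / (s * s) := by
      rw [← hs]
      field_simp
    rw [this, h5]
    field_simp
  have hcard : Fintype.card (Fin n) = 2 * m := by rw [Fintype.card_fin, hnm]
  rcases exists_plus_or_minus (qfB (B : Matrix (Fin n) (Fin n) F)) (nondeg_qfB h2 B hB) m hcard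
    with ⟨e, he, d, -, hdisc⟩ | ⟨hm1, ζ, hζ, e, he, d, -, hdisc⟩
  · have hsqB := hplus B hB d hdisc
    rcases exists_plus_or_minus (qfB (B' : Matrix (Fin n) (Fin n) F)) (nondeg_qfB h2 B' hB') m hcard
      with ⟨e', he', d', -, hdisc'⟩ | ⟨hm1', ζ', hζ', e', he', d', -, hdisc'⟩
    · apply congr_of_qf_equiv h2 _ _ hB hB' (e.trans e'.symm)
      intro v
      rw [← he', LinearEquiv.trans_apply, LinearEquiv.apply_symm_apply, he]
    · exact absurd (hd.1 hsqB) (hminus B' hB' hm1' ζ' hζ' d' hdisc')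
  · have hnsB := hminus B hB hm1 ζ hζ d hdisc
    rcases exists_plus_or_minus (qfB (B' : Matrix (Fin n) (Fin n) F)) (nondeg_qfB h2 B' hB') m hcard
      with ⟨e', he', d', -, hdisc'⟩ | ⟨hm1', ζ', hζ', e', he', d', -, hdisc'⟩
    · exact absurd (hd.2 (hplus B' hB' d' hdisc')) hnsB
    · obtain ⟨a, ha⟩ := minus_adjust (m - 1) h2 ζ ζ' hζ hζ'
      apply congr_of_qf_equiv h2 _ _ hB hB' ((e.trans a).trans e'.symm)
      intro v
      rw [← he', LinearEquiv.trans_apply, LinearEquiv.trans_apply, LinearEquiv.apply_symm_apply, ha,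
        he]

end congr

end Cfsg.Agent.Lib.H11.PSLGraph
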