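import Cfsg.Agent.Lib.H11.PSLGraph7
import Cfsg.Agent.Lib.H13.HypPairs

/-!
# Involutory graph automorphisms of `PSL_n(F)` (part 8): assembling the three classes
-/

set_option autoImplicit false
set_option linter.unusedSectionVars false
set_option linter.unusedSimpArgs false

namespace Cfsg.Agent.Lib.H11.PSLGraph

open Matrix Cfsg.Agent.Lib.H13.AutPSL Cfsg.Agent.Lib.H13

variable {F : Type*} [Field F] {n : ℕ}

theorem not_conj_skew_sym (h2 : (2 : F) ≠ 0) (hn : 3 ≤ n) (B B' : GL (Fin n) F)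
    (hB : (B : Matrix (Fin n) (Fin n) F)ᵀ = -(B : Matrix (Fin n) (Fin n) F))
    (hB' : (B' : Matrix (Fin n) (Fin n) F)ᵀ = (B' : Matrix (Fin n) (Fin n) F)) :
    ¬ Cfsg.IsConjUnder (Cfsg.inndiagPSL n F) (gamF B) (gamF B') := by
  rw [isConj_gamF_iff hn]
  rintro ⟨g, c, hc, h⟩
  have h1 : (B' : Matrix (Fin n) (Fin n) F)ᵀ = -(B' : Matrix (Fin n) (Fin n) F) := by
    conv_lhs => rw [h]
    rw [Matrix.transpose_smul, Matrix.transpose_mul, Matrix.transpose_mul,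
      Matrix.transpose_transpose, hB, h, Matrix.neg_mul, Matrix.mul_neg, smul_neg, Matrix.mul_assoc]
  rw [hB'] at h1
  have h3 : (2 : F) • (B' : Matrix (Fin n) (Fin n) F) = 0 := by
    rw [two_smul]
    nth_rewrite 1 [h1]
    exact neg_add_cancel _
  have h4 : (B' : Matrix (Fin n) (Fin n) F) = 0 := (smul_eq_zero.1 h3).resolve_left h2
  have h5 := gl_mul_inv B'
  rw [h4, Matrix.zero_mul] at h5
  have hn0 : Nonempty (Fin n) := ⟨⟨0, by omega⟩⟩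
  exact zero_ne_one h5

theorem disc_of_conj (hn : 3 ≤ n) (m : ℕ) (hnm : n = 2 * m) (B B' : GL (Fin n) F)
    (h : Cfsg.IsConjUnder (Cfsg.inndiagPSL n F) (gamF B) (gamF B')) :
    IsSquare ((-1 : F) ^ m * (B : Matrix (Fin n) (Fin n) F).det) ↔
      IsSquare ((-1 : F) ^ m * (B' : Matrix (Fin n) (Fin n) F).det) := by
  rw [isConj_gamF_iff hn] at h
  obtain ⟨g, c, hc, h⟩ := h
  have hg : (g : Matrix (Fin n) (Fin n) F).det ≠ 0 := by
    have := (Matrix.GeneralLinearGroup.det g).ne_zero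
    rwa [Matrix.GeneralLinearGroup.val_det_apply] at this
  have hpow : c ^ n = c ^ m * c ^ m := by
    have : c ^ n = c ^ (2 * m) := congrArg (fun k => c ^ k) hnm
    rw [this]
    ring
  have h1 : (-1 : F) ^ m * (B' : Matrix (Fin n) (Fin n) F).det =
      (c ^ m * (g : Matrix (Fin n) (Fin n) F).det) * (c ^ m * (g : Matrix (Fin n) (Fin n) F).det) *
        ((-1 : F) ^ m * (B : Matrix (Fin n) (Fin n) F).det) := by
    rw [h, Matrix.det_smul, Matrix.det_mul, Matrix.det_mul, Matrix.det_transpose, Fintype.card_fin,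
      hpow]
    ring
  rw [h1, isSquare_sq_mul_iff _ _ (mul_ne_zero (pow_ne_zero _ hc) hg)]

theorem conj_of_congr (hn : 3 ≤ n) (B B' g : GL (Fin n) F)
    (h : (B : Matrix (Fin n) (Fin n) F) = (g : Matrix (Fin n) (Fin n) F)ᵀ *
      (B' : Matrix (Fin n) (Fin n) F) * (g : Matrix (Fin n) (Fin n) F)) :
    Cfsg.IsConjUnder (Cfsg.inndiagPSL n F) (gamF B') (gamF B) := by
  rw [isConj_gamF_iff hn]
  exact ⟨g, 1, one_ne_zero, by rw [one_smul]; exact h⟩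

/-- the three classes of involutory graph automorphisms of `PSL_{2m}(q)`, `q` odd -/
theorem three_classes [Fintype F] (hodd : Odd (Fintype.card F)) (m : ℕ) (hm : 2 ≤ m)
    (hnm : n = 2 * m) :
    ∃ (γ₁ γ₂ γ₃ : MulAut (Matrix.ProjectiveSpecialLinearGroup (Fin n) F)) (a b : F),
      (∀ z₁ z₂ : F, z₁ ^ 2 + a * z₁ * z₂ + b * z₂ ^ 2 = 0 → z₁ = 0 ∧ z₂ = 0) ∧
      Cfsg.IsGraphAutClassPSL γ₁ ∧ orderOf γ₁ = 2 ∧ Cfsg.IsGraphAutClassPSL γ₂ ∧ orderOf γ₂ = 2 ∧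
      Cfsg.IsGraphAutClassPSL γ₃ ∧ orderOf γ₃ = 2 ∧
      ¬ Cfsg.IsConjUnder (Cfsg.inndiagPSL n F) γ₁ γ₂ ∧
      ¬ Cfsg.IsConjUnder (Cfsg.inndiagPSL n F) γ₁ γ₃ ∧
      ¬ Cfsg.IsConjUnder (Cfsg.inndiagPSL n F) γ₂ γ₃ ∧
      (∀ γ : MulAut (Matrix.ProjectiveSpecialLinearGroup (Fin n) F),
        Cfsg.IsGraphAutClassPSL γ → orderOf γ = 2 →
          Cfsg.IsConjUnder (Cfsg.inndiagPSL n F) γ₁ γ ∨
          Cfsg.IsConjUnder (Cfsg.inndiagPSL n F) γ₂ γ ∨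
          Cfsg.IsConjUnder (Cfsg.inndiagPSL n F) γ₃ γ) ∧
      Nonempty (↥(Cfsg.inndiagPSL n F ⊓ Subgroup.centralizer {γ₁}) ≃* Cfsg.PGSp m F) ∧
      Nonempty (↥(Cfsg.inndiagPSL n F ⊓ Subgroup.centralizer {γ₂}) ≃*
        Cfsg.PGO F (Cfsg.quadFormPlus m F)) ∧
      Nonempty (↥(Cfsg.inndiagPSL n F ⊓ Subgroup.centralizer {γ₃}) ≃*
        Cfsg.PGO F (Cfsg.quadFormMinus (m - 1) F a b)) := by
  classical
  have h2 : (2 : F) ≠ 0 := Cfsg.Agent.Lib.H13.HypPairs.two_ne_zero_of_odd_card rfl hodd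
  have hn : 3 ≤ n := by omega
  have hchar : ringChar F ≠ 2 := by
    intro h
    apply h2
    have := ringChar.spec F 2
    rw [h] at this
    have h5 : ((2 : ℕ) : F) = 0 := this.2 (dvd_refl 2)
    exact_mod_cast h5
  obtain ⟨ν, hν⟩ := FiniteField.exists_nonsquare hchar
  have hν0 : ν ≠ 0 := by
    rintro rfl
    exact hν ⟨0, by simp⟩
  have hε0 : (-1 : F) ^ m ≠ 0 := pow_ne_zero _ (neg_ne_zero.2 one_ne_zero)
  obtain ⟨B₁, hB₁⟩ := exists_skew (F := F) m hnm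
  obtain ⟨B₂, hB₂, hd₂⟩ := exists_sym_det (n := n) (by omega) ((-1 : F) ^ m) hε0
  obtain ⟨B₃, hB₃, hd₃⟩ := exists_sym_det (n := n) (by omega) ((-1 : F) ^ m * ν)
    (mul_ne_zero hε0 hν0)
  have hs₂ : IsSquare ((-1 : F) ^ m * (B₂ : Matrix (Fin n) (Fin n) F).det) := by
    rw [hd₂]; exact ⟨_, rfl⟩
  have hs₃ : ¬ IsSquare ((-1 : F) ^ m * (B₃ : Matrix (Fin n) (Fin n) F).det) := by
    rw [hd₃, ← mul_assoc, isSquare_sq_mul_iff _ _ hε0]
    exact hν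
  have hE₁ := alt_centralizer h2 hn m hnm B₁ hB₁
  have hE₂ := (sym_centralizer h2 hn m hnm B₂ hB₂).1 hs₂
  obtain ⟨ζ, hζ, hE₃⟩ := (sym_centralizer h2 hn m hnm B₃ hB₃).2 hs₃
  refine ⟨gamF B₁, gamF B₂, gamF B₃, 1, ζ, aniso_of_irred ζ hζ,
    (isGraph_iff' _).2 ⟨hn, B₁, rfl⟩, (orderOf_gamF_eq_two_iff hn B₁).2 (Or.inr hB₁),
    (isGraph_iff' _).2 ⟨hn, B₂, rfl⟩, (orderOf_gamF_eq_two_iff hn B₂).2 (Or.inl hB₂),
    (isGraph_iff' _).2 ⟨hn, B₃, rfl⟩, (orderOf_gamF_eq_two_iff hn B₃).2 (Or.inl hB₃),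
    not_conj_skew_sym h2 hn B₁ B₂ hB₁ hB₂, not_conj_skew_sym h2 hn B₁ B₃ hB₁ hB₃, ?_, ?_,
    hE₁, hE₂, hE₃⟩
  · intro h
    exact hs₃ ((disc_of_conj hn m hnm B₂ B₃ h).1 hs₂)
  · intro γ hγ hγ2
    obtain ⟨-, B, rfl⟩ := (isGraph_iff' γ).1 hγ
    rcases (orderOf_gamF_eq_two_iff hn B).1 hγ2 with hB | hB
    · by_cases hsq : IsSquare ((-1 : F) ^ m * (B : Matrix (Fin n) (Fin n) F).det)
      · right; left
        obtain ⟨g, hg⟩ := sym_congr h2 m hnm B B₂ hB hB₂ ⟨fun _ => hs₂, fun _ => hsq⟩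
        exact conj_of_congr hn B B₂ g hg
      · right; right
        obtain ⟨g, hg⟩ := sym_congr h2 m hnm B B₃ hB hB₃
          ⟨fun h => absurd h hsq, fun h => absurd h hs₃⟩
        exact conj_of_congr hn B B₃ g hg
    · left
      obtain ⟨g, hg⟩ := alt_congr h2 m hnm B B₁ hB hB₁
      exact conj_of_congr hn B B₁ g hg

end Cfsg.Agent.Lib.H11.PSLGraph
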