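import Cfsg.Agent.Lib.H11.PSLGraph8
import Cfsg.Agent.Lib.H13.AutPSLCentr

/-!
# Involutory graph automorphisms of `PSL_n(F)` (part 9): determinants of similitudes

The class of an involutory graph automorphism `gamF B` under the inner-diagonal group splits into
`|F^× : det(Sim B) (F^×)^n|` classes under the inner automorphisms; here `det(Sim B)` is computed.
-/

set_option autoImplicit false
set_option linter.unusedSectionVars false
set_option linter.unusedSimpArgs false

namespace Cfsg.Agent.Lib.H11.PSLGraph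

open Matrix Cfsg.Agent.Lib.H13.AutPSL Cfsg.Agent.Lib.H13

variable {F : Type*} [Field F] {n : ℕ}

section det

/-- the determinants of the similitudes of the form of `B` -/
def detSim (B : Matrix (Fin n) (Fin n) F) : Subgroup Fˣ :=
  (Matrix.GeneralLinearGroup.det.comp
    (Cfsg.Geo.similarityGroup (F := F) (bf B)).subtype).range

theorem mem_detSim (B : Matrix (Fin n) (Fin n) F) (d : Fˣ) :
    d ∈ detSim B ↔ ∃ g : GL (Fin n) F, g ∈ Cfsg.Geo.similarityGroup (F := F) (bf B) ∧
      Matrix.GeneralLinearGroup.det g = d := by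
  unfold detSim
  rw [MonoidHom.mem_range]
  constructor
  · rintro ⟨g, rfl⟩
    exact ⟨g.1, g.2, rfl⟩
  · rintro ⟨g, hg, rfl⟩
    exact ⟨⟨g, hg⟩, rfl⟩

theorem det_gl_ne_zero (B : GL (Fin n) F) : (B : Matrix (Fin n) (Fin n) F).det ≠ 0 := by
  have := (Matrix.GeneralLinearGroup.det B).ne_zero
  rwa [Matrix.GeneralLinearGroup.val_det_apply] at this

theorem det_sq_of_sim (B g : GL (Fin n) F) (c : F)
    (h : (g : Matrix (Fin n) (Fin n) F)ᵀ * (B : Matrix (Fin n) (Fin n) F) *
      (g : Matrix (Fin n) (Fin n) F) = c • (B : Matrix (Fin n) (Fin n) F)) :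
    (g : Matrix (Fin n) (Fin n) F).det ^ 2 = c ^ n := by
  have hdetB := det_gl_ne_zero B
  have h1 := congrArg Matrix.det h
  rw [Matrix.det_mul, Matrix.det_mul, Matrix.det_transpose, Matrix.det_smul,
    Fintype.card_fin] at h1
  have h2 : ((g : Matrix (Fin n) (Fin n) F).det ^ 2 - c ^ n) *
      (B : Matrix (Fin n) (Fin n) F).det = 0 := by linear_combination h1
  rcases mul_eq_zero.1 h2 with h3 | h3
  · exact sub_eq_zero.1 h3
  · exact absurd h3 hdetB

theorem det_sq_of_sim' (B g : GL (Fin n) F) (c : Fˣ)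
    (h : (g : Matrix (Fin n) (Fin n) F)ᵀ * (B : Matrix (Fin n) (Fin n) F) *
      (g : Matrix (Fin n) (Fin n) F) = (c : F) • (B : Matrix (Fin n) (Fin n) F)) :
    Matrix.GeneralLinearGroup.det g ^ 2 = c ^ n := by
  apply Units.ext
  rw [Units.val_pow_eq_pow_val, Units.val_pow_eq_pow_val,
    Matrix.GeneralLinearGroup.val_det_apply]
  exact det_sq_of_sim B g c h

/-- odd degree: all determinants of similitudes are `n`-th powers -/
theorem detSim_le_pow_odd (hodd : Odd n) (B : GL (Fin n) F) :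
    detSim (B : Matrix (Fin n) (Fin n) F) ≤ (powMonoidHom n : Fˣ →* Fˣ).range := by
  intro d hd
  obtain ⟨g, hg, rfl⟩ := (mem_detSim _ _).1 hd
  obtain ⟨c, hc⟩ := (mem_sim_bf_iff _ g).1 hg
  have h1 := det_sq_of_sim' B g c hc
  obtain ⟨k, hk⟩ := hodd
  set D := Matrix.GeneralLinearGroup.det g with hD
  refine ⟨D / c ^ k, ?_⟩
  have h2 : (c ^ k) ^ n = D ^ (2 * k) := by
    rw [← pow_mul, mul_comm, pow_mul, ← h1, ← pow_mul]
  rw [powMonoidHom_apply, div_pow, h2]
  have h3 : D ^ n = D ^ (2 * k) * D := by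
    have : D ^ n = D ^ (2 * k + 1) := congrArg (fun j => D ^ j) hk
    rw [this, pow_succ]
  rw [h3, mul_div_cancel_left]

/-- characteristic two: all determinants of similitudes are `n`-th powers -/
theorem detSim_le_pow_char2 [Finite F] [CharP F 2] (m : ℕ) (hnm : n = 2 * m) (B : GL (Fin n) F) :
    detSim (B : Matrix (Fin n) (Fin n) F) ≤ (powMonoidHom n : Fˣ →* Fˣ).range := by
  intro d hd
  obtain ⟨g, hg, rfl⟩ := (mem_detSim _ _).1 hd
  obtain ⟨c, hc⟩ := (mem_sim_bf_iff _ g).1 hg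
  have h1 := det_sq_of_sim B g c hc
  have hcn : (c : F) ^ n = ((c : F) ^ m) ^ 2 := by
    have : (c : F) ^ n = (c : F) ^ (2 * m) := congrArg (fun j => (c : F) ^ j) hnm
    rw [this, mul_comm, pow_mul]
  rw [hcn] at h1
  have h2 : (g : Matrix (Fin n) (Fin n) F).det = (c : F) ^ m := by
    have h3 : ((g : Matrix (Fin n) (Fin n) F).det + (c : F) ^ m) ^ 2 = 0 := by
      rw [CharTwo.add_sq, h1, CharTwo.add_self_eq_zero]
    have h4 := pow_eq_zero_iff (two_ne_zero) |>.1 h3
    rw [← CharTwo.sub_eq_add, sub_eq_zero] at h4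
    exact h4
  obtain ⟨s, hs⟩ := isSquare_of_charTwo' (c : F)
  have hs0 : s ≠ 0 := by
    rintro rfl
    rw [mul_zero] at hs
    exact c.ne_zero hs
  refine ⟨Units.mk0 s hs0, ?_⟩
  apply Units.ext
  rw [powMonoidHom_apply, Units.val_pow_eq_pow_val, Units.val_mk0,
    Matrix.GeneralLinearGroup.val_det_apply, h2, hs]
  have : s ^ n = s ^ (2 * m) := congrArg (fun j => s ^ j) hnm
  rw [this]
  ring

end det

section symp

variable (m : ℕ)

/-- the diagonal similitude with multiplier `a` of the standard alternating form -/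
def diS (a : F) : Matrix (Fin m ⊕ Fin m) (Fin m ⊕ Fin m) F :=
  Matrix.fromBlocks (a • (1 : Matrix (Fin m) (Fin m) F)) 0 0 1

theorem diS_J (a : F) :
    (diS m a)ᵀ * Matrix.J (Fin m) F * diS m a = a • Matrix.J (Fin m) F := by
  unfold diS Matrix.J
  rw [Matrix.fromBlocks_transpose, Matrix.fromBlocks_multiply, Matrix.fromBlocks_multiply,
    Matrix.fromBlocks_smul]
  simp

theorem det_diS (a : F) : (diS m a).det = a ^ m := by
  unfold diS
  rw [Matrix.det_fromBlocks_zero₂₁, Matrix.det_one, mul_one, Matrix.det_smul, Matrix.det_one,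
    mul_one, Fintype.card_fin]

/-- the determinant of a symplectic similitude -/
theorem det_of_symp_sim (g : Matrix (Fin m ⊕ Fin m) (Fin m ⊕ Fin m) F) (c : F) (hc : c ≠ 0)
    (h : gᵀ * Matrix.J (Fin m) F * g = c • Matrix.J (Fin m) F) : g.det = c ^ m := by
  have hX : g * diS m c⁻¹ ∈ Matrix.symplecticGroup (Fin m) F := by
    rw [SymplecticGroup.mem_iff']
    have h1 : (g * diS m c⁻¹)ᵀ * Matrix.J (Fin m) F * (g * diS m c⁻¹) =
        (diS m c⁻¹)ᵀ * (gᵀ * Matrix.J (Fin m) F * g) * diS m c⁻¹ := by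
      rw [Matrix.transpose_mul]
      simp only [Matrix.mul_assoc]
    rw [h1, h, Matrix.mul_smul, Matrix.smul_mul, diS_J, smul_smul, mul_inv_cancel₀ hc, one_smul]
  have h1 := SymplecticGroup.det_eq_one hX
  rw [Matrix.det_mul, det_diS, inv_pow] at h1
  have hcm : c ^ m ≠ 0 := pow_ne_zero _ hc
  field_simp at h1
  exact h1

theorem symp_mulVec (g : Matrix (Fin m ⊕ Fin m) (Fin m ⊕ Fin m) F) (u v : Fin m ⊕ Fin m → F) :
    Cfsg.sympForm m F (g *ᵥ u) (g *ᵥ v) =
      u ⬝ᵥ ((gᵀ * Matrix.J (Fin m) F * g) *ᵥ v) := by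
  unfold Cfsg.sympForm
  rw [← Matrix.mulVec_mulVec, ← Matrix.mulVec_mulVec, Matrix.dotProduct_mulVec u gᵀ,
    Matrix.vecMul_transpose]

theorem dot_ext {ι : Type*} [Fintype ι] [DecidableEq ι] (M M' : Matrix ι ι F)
    (h : ∀ u v : ι → F, u ⬝ᵥ (M *ᵥ v) = u ⬝ᵥ (M' *ᵥ v)) : M = M' := by
  ext i j
  have := h (Pi.single i 1) (Pi.single j 1)
  simpa using this

/-- membership in the conformal symplectic group in matrix form -/
theorem symp_sim_iff (g : Matrix (Fin m ⊕ Fin m) (Fin m ⊕ Fin m) F) (c : F) :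
    (∀ u v, Cfsg.sympForm m F (g *ᵥ u) (g *ᵥ v) = c * Cfsg.sympForm m F u v) ↔
      gᵀ * Matrix.J (Fin m) F * g = c • Matrix.J (Fin m) F := by
  constructor
  · intro h
    apply dot_ext
    intro u v
    rw [← symp_mulVec, h, Matrix.smul_mulVec, dotProduct_smul, smul_eq_mul]
    rfl
  · intro h u v
    rw [symp_mulVec, h, Matrix.smul_mulVec, dotProduct_smul, smul_eq_mul]
    rfl

/-- the diagonal similitude as an element of `GSp` -/
noncomputable def diSGL (a : Fˣ) : GL (Fin m ⊕ Fin m) F :=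
  Matrix.GeneralLinearGroup.mkOfDetNeZero (diS m (a : F))
    (by rw [det_diS]; exact pow_ne_zero _ a.ne_zero)

theorem diSGL_mem (a : Fˣ) : diSGL m a ∈ Cfsg.GSp m F := by
  refine ⟨a, ?_⟩
  rw [symp_sim_iff]
  exact diS_J m (a : F)

theorem det_diSGL (a : Fˣ) : Matrix.GeneralLinearGroup.det (diSGL m a) = a ^ m := by
  apply Units.ext
  rw [Matrix.GeneralLinearGroup.val_det_apply, Units.val_pow_eq_pow_val]
  exact det_diS m (a : F)

theorem det_of_mem_GSp (g : GL (Fin m ⊕ Fin m) F) (c : Fˣ)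
    (h : ∀ u v, Cfsg.sympForm m F ((g : Matrix _ _ F) *ᵥ u) ((g : Matrix _ _ F) *ᵥ v) =
      (c : F) * Cfsg.sympForm m F u v) :
    Matrix.GeneralLinearGroup.det g = c ^ m := by
  apply Units.ext
  rw [Matrix.GeneralLinearGroup.val_det_apply, Units.val_pow_eq_pow_val]
  exact det_of_symp_sim m _ _ c.ne_zero ((symp_sim_iff m _ _).1 h)

end symp

section transport

variable {ι κ : Type} [Fintype ι] [DecidableEq ι] [Fintype κ] [DecidableEq κ]

theorem det_glCongr (e : (ι → F) ≃ₗ[F] (κ → F)) (g : GL ι F) :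
    Matrix.GeneralLinearGroup.det (glCongr e g) = Matrix.GeneralLinearGroup.det g := by
  apply Units.ext
  rw [Matrix.GeneralLinearGroup.val_det_apply, Matrix.GeneralLinearGroup.val_det_apply,
    glCongr_val]
  exact Matrix.det_conj_of_mul_eq_one (matE_mul_symm e) (matE_symm_mul e)

end transport

section skew

/-- symplectic type: the determinants of similitudes are the `m`-th powers -/
theorem detSim_skew (h2 : (2 : F) ≠ 0) (m : ℕ) (hnm : n = 2 * m) (B : GL (Fin n) F)
    (hB : (B : Matrix (Fin n) (Fin n) F)ᵀ = -(B : Matrix (Fin n) (Fin n) F)) :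
    detSim (B : Matrix (Fin n) (Fin n) F) = (powMonoidHom m : Fˣ →* Fˣ).range := by
  obtain ⟨e, he⟩ := exists_symp_equiv h2 m hnm B hB
  have hmem := glCongr_mem_sim e (bf (B : Matrix (Fin n) (Fin n) F)) (Cfsg.sympForm m F) 1
    one_ne_zero (fun u v => by rw [he, one_mul])
  apply le_antisymm
  · intro d hd
    obtain ⟨g, hg, rfl⟩ := (mem_detSim _ _).1 hd
    obtain ⟨c, hc⟩ := (hmem g).2 hg
    refine ⟨c, ?_⟩
    rw [powMonoidHom_apply, ← det_glCongr e g]
    exact (det_of_mem_GSp m _ c hc).symm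
  · rintro _ ⟨c, rfl⟩
    rw [mem_detSim]
    refine ⟨(glCongr e).symm (diSGL m c), ?_, ?_⟩
    · rw [← hmem, MulEquiv.apply_symm_apply]
      exact diSGL_mem m c
    · rw [← det_glCongr e, MulEquiv.apply_symm_apply, det_diSGL, powMonoidHom_apply]

end skew

section sym

/-- a diagonal symmetric matrix with prescribed determinant, and an isometry of determinant `-1` -/
theorem exists_sym_det_refl (hn : 1 ≤ n) (δ : F) (hδ : δ ≠ 0) :
    ∃ B r : GL (Fin n) F, (B : Matrix (Fin n) (Fin n) F)ᵀ = (B : Matrix (Fin n) (Fin n) F) ∧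
      (B : Matrix (Fin n) (Fin n) F).det = δ ∧
      (r : Matrix (Fin n) (Fin n) F)ᵀ * (B : Matrix (Fin n) (Fin n) F) *
        (r : Matrix (Fin n) (Fin n) F) = (B : Matrix (Fin n) (Fin n) F) ∧
      (r : Matrix (Fin n) (Fin n) F).det = -1 := by
  classical
  let i₀ : Fin n := ⟨0, by omega⟩
  obtain ⟨D, hD⟩ : ∃ D : Matrix (Fin n) (Fin n) F,
      D = Matrix.diagonal (fun i : Fin n => if i = i₀ then δ else 1) := ⟨_, rfl⟩
  obtain ⟨R, hR⟩ : ∃ R : Matrix (Fin n) (Fin n) F,
      R = Matrix.diagonal (fun i : Fin n => if i = i₀ then (-1 : F) else 1) := ⟨_, rfl⟩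
  have hdet : D.det = δ := by
    rw [hD, Matrix.det_diagonal, Finset.prod_ite_eq']
    simp
  have hdetR : R.det = -1 := by
    rw [hR, Matrix.det_diagonal, Finset.prod_ite_eq']
    simp
  have hDt : Dᵀ = D := by rw [hD, Matrix.diagonal_transpose]
  have hRDR : Rᵀ * D * R = D := by
    rw [hR, hD, Matrix.diagonal_transpose, Matrix.diagonal_mul_diagonal,
      Matrix.diagonal_mul_diagonal]
    congr 1
    ext i
    by_cases h : i = i₀
    · simp [h]
    · simp [h]
  refine ⟨Matrix.GeneralLinearGroup.mkOfDetNeZero D (by rw [hdet]; exact hδ),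
    Matrix.GeneralLinearGroup.mkOfDetNeZero R (by rw [hdetR]; exact neg_ne_zero.2 one_ne_zero),
    hDt, hdet, hRDR, hdetR⟩

variable [Fintype F]

/-- an isometry of determinant `-1` of a symmetric form -/
theorem exists_isom_det_neg_one (h2 : (2 : F) ≠ 0) (m : ℕ) (hm : 1 ≤ m) (hnm : n = 2 * m)
    (B : GL (Fin n) F)
    (hB : (B : Matrix (Fin n) (Fin n) F)ᵀ = (B : Matrix (Fin n) (Fin n) F)) :
    ∃ r : GL (Fin n) F, (r : Matrix (Fin n) (Fin n) F)ᵀ * (B : Matrix (Fin n) (Fin n) F) *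
        (r : Matrix (Fin n) (Fin n) F) = (B : Matrix (Fin n) (Fin n) F) ∧
      Matrix.GeneralLinearGroup.det r = -1 := by
  obtain ⟨B', r', hB', hdet', hr', hdr'⟩ := exists_sym_det_refl (n := n) (by omega)
    (B : Matrix (Fin n) (Fin n) F).det (det_gl_ne_zero B)
  obtain ⟨g, hg⟩ := sym_congr h2 m hnm B B' hB hB' (by rw [hdet'])
  refine ⟨g⁻¹ * r' * g, ?_, ?_⟩
  · have h1 : ((g⁻¹ * r' * g : GL (Fin n) F) : Matrix (Fin n) (Fin n) F) =
        ((g⁻¹ : GL (Fin n) F) : Matrix (Fin n) (Fin n) F) * (r' : Matrix (Fin n) (Fin n) F) *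
          (g : Matrix (Fin n) (Fin n) F) := by
      rw [Units.val_mul, Units.val_mul]
    have h3 : ((g⁻¹ : GL (Fin n) F) : Matrix (Fin n) (Fin n) F)ᵀ *
        (g : Matrix (Fin n) (Fin n) F)ᵀ = 1 := by
      rw [← Matrix.transpose_mul, gl_mul_inv, Matrix.transpose_one]
    rw [h1]
    conv_lhs => rw [hg]
    rw [Matrix.transpose_mul, Matrix.transpose_mul]
    calc (g : Matrix (Fin n) (Fin n) F)ᵀ * ((r' : Matrix (Fin n) (Fin n) F)ᵀ *
          ((g⁻¹ : GL (Fin n) F) : Matrix (Fin n) (Fin n) F)ᵀ) *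
          ((g : Matrix (Fin n) (Fin n) F)ᵀ * (B' : Matrix (Fin n) (Fin n) F) *
            (g : Matrix (Fin n) (Fin n) F)) *
          (((g⁻¹ : GL (Fin n) F) : Matrix (Fin n) (Fin n) F) * (r' : Matrix (Fin n) (Fin n) F) *
            (g : Matrix (Fin n) (Fin n) F))
        = (g : Matrix (Fin n) (Fin n) F)ᵀ * ((r' : Matrix (Fin n) (Fin n) F)ᵀ *
          ((((g⁻¹ : GL (Fin n) F) : Matrix (Fin n) (Fin n) F)ᵀ *
            (g : Matrix (Fin n) (Fin n) F)ᵀ) * (B' : Matrix (Fin n) (Fin n) F) *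
            ((g : Matrix (Fin n) (Fin n) F) *
              ((g⁻¹ : GL (Fin n) F) : Matrix (Fin n) (Fin n) F))) *
            (r' : Matrix (Fin n) (Fin n) F)) * (g : Matrix (Fin n) (Fin n) F) := by
          simp only [Matrix.mul_assoc]
      _ = (g : Matrix (Fin n) (Fin n) F)ᵀ * ((r' : Matrix (Fin n) (Fin n) F)ᵀ *
            (B' : Matrix (Fin n) (Fin n) F) * (r' : Matrix (Fin n) (Fin n) F)) *
            (g : Matrix (Fin n) (Fin n) F) := by
          rw [h3, gl_mul_inv, Matrix.one_mul, Matrix.mul_one]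
      _ = _ := by rw [hr', hg]
  · rw [map_mul, map_mul, map_inv, mul_comm, ← mul_assoc, mul_inv_cancel, one_mul]
    apply Units.ext
    rw [Matrix.GeneralLinearGroup.val_det_apply, hdr']
    simp

/-- orthogonal type: the determinants of similitudes are `± c^m` -/
theorem detSim_sym (h2 : (2 : F) ≠ 0) (m : ℕ) (hm : 1 ≤ m) (hnm : n = 2 * m) (B : GL (Fin n) F)
    (hB : (B : Matrix (Fin n) (Fin n) F)ᵀ = (B : Matrix (Fin n) (Fin n) F)) :
    detSim (B : Matrix (Fin n) (Fin n) F) =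
      Subgroup.zpowers (-1 : Fˣ) ⊔ (powMonoidHom m : Fˣ →* Fˣ).range := by
  obtain ⟨r, hr, hdr⟩ := exists_isom_det_neg_one h2 m hm hnm B hB
  have hrS : r ∈ Cfsg.Geo.similarityGroup (F := F) (bf (B : Matrix (Fin n) (Fin n) F)) := by
    rw [mem_sim_bf_iff]
    exact ⟨1, by rw [hr, Units.val_one, one_smul]⟩
  have hneg : (-1 : Fˣ) ∈ detSim (B : Matrix (Fin n) (Fin n) F) :=
    (mem_detSim _ _).2 ⟨r, hrS, hdr⟩
  have hpow : ∀ c : F, c ^ n = (c ^ m) ^ 2 := by
    intro c
    have : c ^ n = c ^ (2 * m) := congrArg (fun j => c ^ j) hnm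
    rw [this, mul_comm, pow_mul]
  apply le_antisymm
  · intro d hd
    obtain ⟨g, hg, rfl⟩ := (mem_detSim _ _).1 hd
    obtain ⟨c, hc⟩ := (mem_sim_bf_iff _ g).1 hg
    have h1 := det_sq_of_sim B g c hc
    rw [hpow, sq_eq_sq_iff_eq_or_eq_neg] at h1
    rcases h1 with h1 | h1
    · apply Subgroup.mem_sup_right
      refine ⟨c, ?_⟩
      apply Units.ext
      rw [powMonoidHom_apply, Units.val_pow_eq_pow_val, Matrix.GeneralLinearGroup.val_det_apply, h1]
    · have h3 : Matrix.GeneralLinearGroup.det g = (-1 : Fˣ) * c ^ m := by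
        apply Units.ext
        rw [Matrix.GeneralLinearGroup.val_det_apply, h1, Units.val_mul, Units.val_neg,
          Units.val_one, Units.val_pow_eq_pow_val]
        ring
      rw [h3]
      exact Subgroup.mul_mem_sup (Subgroup.mem_zpowers _) ⟨c, rfl⟩
  · apply sup_le
    · exact (Subgroup.zpowers_le).2 hneg
    · rintro _ ⟨c, rfl⟩
      rw [powMonoidHom_apply]
      -- the form `c • B`
      have hdc : ((c : F) • (B : Matrix (Fin n) (Fin n) F)).det ≠ 0 := by
        rw [Matrix.det_smul]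
        exact mul_ne_zero (pow_ne_zero _ c.ne_zero) (det_gl_ne_zero B)
      obtain ⟨g, hg⟩ := sym_congr h2 m hnm
        (Matrix.GeneralLinearGroup.mkOfDetNeZero ((c : F) • (B : Matrix (Fin n) (Fin n) F)) hdc) B
        (by
          show ((c : F) • (B : Matrix (Fin n) (Fin n) F))ᵀ = (c : F) • (B : Matrix (Fin n) (Fin n) F)
          rw [Matrix.transpose_smul, hB]) hB
        (by
          show IsSquare ((-1 : F) ^ m * ((c : F) • (B : Matrix (Fin n) (Fin n) F)).det) ↔ _
          rw [Matrix.det_smul, Fintype.card_fin, hpow]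
          have : (-1 : F) ^ m * (((c : F) ^ m) ^ 2 * (B : Matrix (Fin n) (Fin n) F).det) =
              (c : F) ^ m * (c : F) ^ m * ((-1 : F) ^ m * (B : Matrix (Fin n) (Fin n) F).det) := by
            ring
          rw [this, isSquare_sq_mul_iff _ _ (pow_ne_zero _ c.ne_zero)])
      have hg' : (g : Matrix (Fin n) (Fin n) F)ᵀ * (B : Matrix (Fin n) (Fin n) F) *
          (g : Matrix (Fin n) (Fin n) F) = (c : F) • (B : Matrix (Fin n) (Fin n) F) := hg.symm
      have hgS : g ∈ Cfsg.Geo.similarityGroup (F := F) (bf (B : Matrix (Fin n) (Fin n) F)) := by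
        rw [mem_sim_bf_iff]
        exact ⟨c, hg'⟩
      have h1 := det_sq_of_sim B g c hg'
      rw [hpow, sq_eq_sq_iff_eq_or_eq_neg] at h1
      rcases h1 with h1 | h1
      · rw [mem_detSim]
        refine ⟨g, hgS, ?_⟩
        apply Units.ext
        rw [Units.val_pow_eq_pow_val, Matrix.GeneralLinearGroup.val_det_apply, h1]
      · rw [mem_detSim]
        refine ⟨g * r, Subgroup.mul_mem _ hgS hrS, ?_⟩
        rw [map_mul, hdr]
        apply Units.ext
        rw [Units.val_mul, Units.val_neg, Units.val_one, Units.val_pow_eq_pow_val,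
          Matrix.GeneralLinearGroup.val_det_apply, h1]
        ring

end sym

section count

variable [Fintype F]

/-- the number of classes into which the class of an involutory graph automorphism splits -/
theorem count_eq (hn : 3 ≤ n) (p : ℕ) [Fact p.Prime] [CharP F p] (B : GL (Fin n) F) :
    Cfsg.splitClassCount (Cfsg.inndiagPSL n F)
      (Cfsg.Inn (ProjectiveSpecialLinearGroup (Fin n) F)) (gamF B) =
      (detSim (B : Matrix (Fin n) (Fin n) F) ⊔ (powMonoidHom n : Fˣ →* Fˣ).range).index := by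
  have hC : (cGL (n := n) (F := F)).range ⊓ Subgroup.centralizer {gamF B} =
      ((cGL (n := n) (F := F)).comp
        (Cfsg.Geo.similarityGroup (F := F) (bf (B : Matrix (Fin n) (Fin n) F))).subtype).range := by
    rw [← inndiag_eq, inndiag_inf_centralizer hn B, MonoidHom.range_comp, Subgroup.range_subtype]
  exact split_psl (by omega) p (gamF B) 1 (gamF B) (by simp) _ hC

theorem card_units_F : Nat.card Fˣ = Fintype.card F - 1 := by
  rw [Nat.card_units, Nat.card_eq_fintype_card]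

theorem count_of_le_pow (hn : 3 ≤ n) (p : ℕ) [Fact p.Prime] [CharP F p] (B : GL (Fin n) F)
    (hle : detSim (B : Matrix (Fin n) (Fin n) F) ≤ (powMonoidHom n : Fˣ →* Fˣ).range) :
    Cfsg.splitClassCount (Cfsg.inndiagPSL n F)
      (Cfsg.Inn (ProjectiveSpecialLinearGroup (Fin n) F)) (gamF B) =
      Nat.gcd n (Fintype.card F - 1) := by
  rw [count_eq hn p B, sup_eq_right.2 hle, IsCyclic.index_powMonoidHom_range, card_units_F,
    Nat.gcd_comm]

theorem count_skew (h2 : (2 : F) ≠ 0) (hn : 3 ≤ n) (p : ℕ) [Fact p.Prime] [CharP F p] (m : ℕ)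
    (hnm : n = 2 * m) (B : GL (Fin n) F)
    (hB : (B : Matrix (Fin n) (Fin n) F)ᵀ = -(B : Matrix (Fin n) (Fin n) F)) :
    Cfsg.splitClassCount (Cfsg.inndiagPSL n F)
      (Cfsg.Inn (ProjectiveSpecialLinearGroup (Fin n) F)) (gamF B) =
      Nat.gcd m (Fintype.card F - 1) := by
  rw [count_eq hn p B, detSim_skew h2 m hnm B hB,
    sup_eq_left.2 (range_pow_le_of_dvd (U := Fˣ) (Dvd.intro_left 2 hnm.symm)),
    IsCyclic.index_powMonoidHom_range, card_units_F, Nat.gcd_comm]

theorem orderOf_neg_one_units (h2 : (2 : F) ≠ 0) : orderOf (-1 : Fˣ) = 2 := by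
  apply orderOf_eq_prime
  · rw [neg_one_sq]
  · intro h
    have h1 := congrArg Units.val h
    rw [Units.val_neg, Units.val_one] at h1
    apply h2
    linear_combination -h1

theorem count_sym (h2 : (2 : F) ≠ 0) (hn : 3 ≤ n) (p : ℕ) [Fact p.Prime] [CharP F p] (m : ℕ)
    (hnm : n = 2 * m) (B : GL (Fin n) F)
    (hB : (B : Matrix (Fin n) (Fin n) F)ᵀ = (B : Matrix (Fin n) (Fin n) F)) :
    Cfsg.splitClassCount (Cfsg.inndiagPSL n F)
      (Cfsg.Inn (ProjectiveSpecialLinearGroup (Fin n) F)) (gamF B) =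
      Nat.gcd n (Fintype.card F - 1) / 2 := by
  rw [count_eq hn p B, detSim_sym h2 m (by omega) hnm B hB, sup_assoc,
    sup_eq_left.2 (range_pow_le_of_dvd (U := Fˣ) (Dvd.intro_left 2 hnm.symm)),
    cyclic_index, Nat.card_zpowers, orderOf_neg_one_units h2, card_units_F]
  have hodd : Odd (Fintype.card F) := by
    by_contra hne
    rw [Nat.not_odd_iff_even] at hne
    have h3 : ringChar F = 2 := by
      by_contra h4
      exact (Nat.not_even_iff_odd.2 (Nat.odd_iff.2 (FiniteField.odd_card_of_char_ne_two h4))) hne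
    have : CharP F 2 := ringChar.of_eq h3
    exact h2 (CharTwo.two_eq_zero)
  obtain ⟨k, hk⟩ := hodd
  have h5 : Fintype.card F - 1 = 2 * k := by omega
  rw [h5, Nat.mul_div_cancel_left _ (by norm_num : 0 < 2), hnm, Nat.gcd_mul_left,
    Nat.mul_div_cancel_left _ (by norm_num : 0 < 2)]

end count

end Cfsg.Agent.Lib.H11.PSLGraph
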