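import Mathlib

/-!
# S2806 pieces (OP) and (INF)

Blueprint `tools/blueprints/S2806.md`, exact signatures of `tools/blueprints/S2806_sigs.lean`.
(helper11.)
-/

set_option autoImplicit false

namespace Cfsg.Agent.Lib.H11.PS

variable {p : ℕ} [Fact p.Prime]

/-- (INF) the intersection of two subnormal subgroups is subnormal. -/
theorem isSubnormal_inf {G : Type*} [Group G] {X Y : Subgroup G} (hX : X.IsSubnormal) (hY : Y.IsSubnormal) :
    (X ⊓ Y).IsSubnormal :=
  hX.inf hY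

/-- (OP) a subnormal subgroup containing a Sylow `p`-subgroup contains every `p`-element. -/
theorem mem_of_isSubnormal_of_sylow_le {K : Type*} [Group K] [Finite K] (R P : Subgroup K) (hR : R.IsSubnormal)
    (hPp : IsPGroup p P) (hP : ¬ p ∣ P.index) (hPR : P ≤ R) (x : K) (hx : ∃ k : ℕ, orderOf x = p ^ k) :
    x ∈ R := by
  induction hR with
  | top => exact Subgroup.mem_top x
  | step H K1 h_le hSubn hN ih =>
    have hPK : P ≤ K1 := hPR.trans h_le
    have hx1 : x ∈ K1 := ih hPK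
    -- `P` as a Sylow `p`-subgroup of `K1`
    have hP' : IsPGroup p (P.subgroupOf K1) := hPp.comap_subtype
    have hidx : ¬ p ∣ (P.subgroupOf K1).index := fun h =>
      hP (h.trans (Subgroup.relIndex_dvd_index_of_le hPK))
    obtain ⟨S0, hS0⟩ : ∃ S0 : Sylow p K1, (S0 : Subgroup K1) = P.subgroupOf K1 :=
      ⟨hP'.toSylow hidx, rfl⟩
    -- `x` as a `p`-element of `K1`
    have hxp : IsPGroup p (Subgroup.zpowers (⟨x, hx1⟩ : K1)) := by
      obtain ⟨k, hk⟩ := hx
      apply IsPGroup.of_card (n := k)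
      rw [Nat.card_zpowers, Subgroup.orderOf_mk, hk]
    obtain ⟨Q, hQ⟩ := hxp.exists_le_sylow
    obtain ⟨g, hg⟩ := MulAction.exists_smul_eq K1 Q S0
    have hxQ : (⟨x, hx1⟩ : K1) ∈ (Q : Subgroup K1) := hQ (Subgroup.mem_zpowers _)
    have h1 : g * ⟨x, hx1⟩ * g⁻¹ ∈ (S0 : Subgroup K1) := by
      rw [← hg, Sylow.coe_subgroup_smul]
      have := Subgroup.smul_mem_pointwise_smul (⟨x, hx1⟩ : K1) (MulAut.conj g) (Q : Subgroup K1) hxQ
      simpa [MulAut.smul_def] using this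
    rw [hS0] at h1
    have h2 : g * ⟨x, hx1⟩ * g⁻¹ ∈ H.subgroupOf K1 := by
      rw [Subgroup.mem_subgroupOf] at h1 ⊢
      exact hPR h1
    have h3 := hN.conj_mem _ h2 g⁻¹
    have h4 : g⁻¹ * (g * ⟨x, hx1⟩ * g⁻¹) * g⁻¹⁻¹ = (⟨x, hx1⟩ : K1) := by group
    rw [h4, Subgroup.mem_subgroupOf] at h3
    exact h3

end Cfsg.Agent.Lib.H11.PS
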