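import Cfsg.Agent.Lib.H13.AutPSU9
import Cfsg.Agent.Lib.H13.AutPSLGraphField

/-!
# Involutory graph automorphisms of `PSU_n(q)` (part 1): the basic parametrisation

`gamU D g = cGU g * fU D.τ` is the graph automorphism attached to the unitary matrix `g`.  It has
order two exactly when `g` is symmetric or skew-symmetric.
-/

set_option autoImplicit false
set_option linter.unusedSectionVars false

namespace Cfsg.Agent.Lib.H11.PSUGraph

open Matrix Cfsg.Agent.Lib.H13 Cfsg.Agent.Lib.H13.AutPSU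

variable {F : Type*} [Field F] {n q : ℕ}

/-- the matrix of an element of `GU` -/
def mt (g : ↥(Cfsg.GU n F q)) : Matrix (Fin n) (Fin n) F :=
  ((g : GL (Fin n) F) : Matrix (Fin n) (Fin n) F)

theorem mt_mul (g h : ↥(Cfsg.GU n F q)) : mt (g * h) = mt g * mt h := rfl

theorem mt_one : mt (1 : ↥(Cfsg.GU n F q)) = 1 := rfl

theorem mt_mul_inv (g : ↥(Cfsg.GU n F q)) : mt g * mt g⁻¹ = 1 := by
  rw [← mt_mul, mul_inv_cancel, mt_one]

theorem mt_inv_mul (g : ↥(Cfsg.GU n F q)) : mt g⁻¹ * mt g = 1 := by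
  rw [← mt_mul, inv_mul_cancel, mt_one]

theorem mt_injective : Function.Injective (mt : ↥(Cfsg.GU n F q) → Matrix (Fin n) (Fin n) F) := by
  intro g h hgh
  apply Subtype.ext
  apply Units.ext
  exact hgh

theorem mt_gmapU (σ : F ≃+* F) (g : ↥(Cfsg.GU n F q)) : mt (gmapU σ g) = (mt g).map σ := rfl

variable (D : UF F q)

theorem ct_mt (g : ↥(Cfsg.GU n F q)) : ct D (mt g) * mt g = 1 :=
  (mem_GU_iff_ct (D := D) _).1 g.2

theorem mt_inv (g : ↥(Cfsg.GU n F q)) : mt g⁻¹ = ct D (mt g) := by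
  calc mt g⁻¹ = (ct D (mt g) * mt g) * mt g⁻¹ := by rw [ct_mt, Matrix.one_mul]
    _ = ct D (mt g) := by rw [Matrix.mul_assoc, mt_mul_inv, Matrix.mul_one]

theorem map_tau_mt (g : ↥(Cfsg.GU n F q)) : (mt g).map D.τ = (mt g⁻¹)ᵀ := by
  rw [mt_inv D]
  unfold ct
  rw [Matrix.transpose_transpose]

theorem tau_mul_tau : D.τ * D.τ = 1 := by
  ext a
  exact D.hτ2 a

theorem tau_ne_one : D.τ ≠ 1 := by
  intro h
  obtain ⟨a, ha⟩ := D.hne
  apply ha
  rw [h, RingAut.one_apply]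

theorem orderOf_tau : orderOf D.τ = 2 := by
  apply orderOf_eq_prime
  · rw [sq]
    exact tau_mul_tau D
  · exact tau_ne_one D

theorem map_tau_tau {m l : Type*} (X : Matrix m l F) : (X.map D.τ).map D.τ = X := by
  ext i j
  exact D.hτ2 _

/-- the graph automorphism attached to the unitary matrix `g` -/
noncomputable def gamU (g : ↥(Cfsg.GU n F q)) : MulAut (Cfsg.PSU n F q) := cGU g * fU D.τ

theorem gamU_mul_self (g : ↥(Cfsg.GU n F q)) :
    gamU D g * gamU D g = cGU (g * gmapU D.τ g) := by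
  unfold gamU
  rw [mul_formU', tau_mul_tau, map_one, mul_one]

theorem conj_gamU (h g : ↥(Cfsg.GU n F q)) :
    cGU h * gamU D g * (cGU h)⁻¹ = gamU D (h * g * (gmapU D.τ h)⁻¹) := by
  unfold gamU
  rw [← map_inv, mul_assoc, mul_assoc, fU_mul_cGU', ← mul_assoc, ← mul_assoc, ← map_mul,
    ← map_mul, map_inv]

include D in
theorem cGU_eq_iff (hn : 3 ≤ n) (g g' : ↥(Cfsg.GU n F q)) :
    cGU g = cGU g' ↔ ∃ d : F, mt g' = d • mt g := by
  constructor
  · intro h
    have h1 : cGU (g' * g⁻¹) = 1 := by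
      rw [map_mul, map_inv, h, mul_inv_cancel]
    obtain ⟨l, hl⟩ := exists_scN_of_cGU_eq_one D hn h1
    refine ⟨((l : Fˣ) : F), ?_⟩
    have h2 : g' = scN D l * g := by
      rw [← hl, inv_mul_cancel_right]
    rw [h2, mt_mul]
    change Matrix.scalar (Fin n) ((l : Fˣ) : F) * mt g = _
    rw [Matrix.scalar_apply, ← Matrix.smul_eq_diagonal_mul]
  · rintro ⟨d, hd⟩
    exact (cGU_eq_of_smul D (by omega) hd).symm

theorem gamU_eq_iff (hn : 3 ≤ n) (g g' : ↥(Cfsg.GU n F q)) :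
    gamU D g = gamU D g' ↔ ∃ d : F, mt g' = d • mt g := by
  rw [← cGU_eq_iff D hn]
  unfold gamU
  exact mul_left_inj _

theorem gamU_ne_cGU (hn : 3 ≤ n) (g h : ↥(Cfsg.GU n F q)) : gamU D g ≠ cGU h := by
  intro heq
  have h1 : (cGU g * fU D.τ : MulAut (Cfsg.PSU n F q)) = cGU h * fU 1 := by
    rw [map_one, mul_one]
    exact heq
  exact tau_ne_one D (uniq_sigma D hn h1)

theorem gamU_ne_one (hn : 3 ≤ n) (g : ↥(Cfsg.GU n F q)) : gamU D g ≠ 1 := by
  have := gamU_ne_cGU D hn g 1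
  rwa [map_one] at this

/-- a scalar matrix relation forces the scalar to be unique -/
theorem smul_one_inj (hn : 1 ≤ n) {a b : F}
    (h : a • (1 : Matrix (Fin n) (Fin n) F) = b • (1 : Matrix (Fin n) (Fin n) F)) : a = b := by
  have := congrFun (congrFun h ⟨0, hn⟩) ⟨0, hn⟩
  simpa using this

theorem orderOf_gamU_eq_two_iff (hn : 3 ≤ n) (g : ↥(Cfsg.GU n F q)) :
    orderOf (gamU D g) = 2 ↔ ((mt g)ᵀ = mt g ∨ (mt g)ᵀ = -mt g) := by
  have hgi : mt g * mt g⁻¹ = 1 := mt_mul_inv g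
  have hig : mt g⁻¹ * mt g = 1 := mt_inv_mul g
  have hgiT : (mt g⁻¹)ᵀ * (mt g)ᵀ = 1 := by
    rw [← Matrix.transpose_mul, hgi, Matrix.transpose_one]
  have key : gamU D g * gamU D g = 1 ↔ ∃ d : F, mt g * (mt g⁻¹)ᵀ = d • 1 := by
    rw [gamU_mul_self, ← map_one (cGU (n := n) (F := F) (q := q)), eq_comm, cGU_eq_iff D hn,
      mt_mul, mt_gmapU, map_tau_mt, mt_one]
  constructor
  · intro h
    have h2 : gamU D g * gamU D g = 1 := by
      rw [← sq, ← h]
      exact pow_orderOf_eq_one _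
    obtain ⟨d, hd⟩ := key.1 h2
    -- `g = d gᵀ`
    have h3 : mt g = d • (mt g)ᵀ := by
      calc mt g = mt g * ((mt g⁻¹)ᵀ * (mt g)ᵀ) := by rw [hgiT, Matrix.mul_one]
        _ = d • (mt g)ᵀ := by rw [← Matrix.mul_assoc, hd, Matrix.smul_mul, Matrix.one_mul]
    have h4 : (mt g)ᵀ = d • mt g := by
      conv_lhs => rw [h3]
      rw [Matrix.transpose_smul, Matrix.transpose_transpose]
    have h5 : (d * d) • (1 : Matrix (Fin n) (Fin n) F) = (1 : F) • 1 := by
      have : mt g = (d * d) • mt g := by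
        conv_lhs => rw [h3, h4]
        rw [smul_smul]
      calc (d * d) • (1 : Matrix (Fin n) (Fin n) F) = ((d * d) • mt g) * mt g⁻¹ := by
            rw [Matrix.smul_mul, hgi]
        _ = (1 : F) • 1 := by rw [← this, hgi, one_smul]
    have h6 : d * d = 1 := smul_one_inj (by omega) h5
    have h7 : (d - 1) * (d + 1) = 0 := by linear_combination h6
    rcases mul_eq_zero.1 h7 with h8 | h8
    · left
      have : d = 1 := by linear_combination h8
      rw [h4, this, one_smul]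
    · right
      have : d = -1 := by linear_combination h8
      rw [h4, this, neg_smul, one_smul]
  · intro h
    apply orderOf_eq_prime
    · rw [sq, key]
      have aux : ∀ ε : F, ε * ε = 1 → (mt g)ᵀ = ε • mt g → mt g * (mt g⁻¹)ᵀ = ε • 1 := by
        intro ε hε hT
        have h1 : mt g * (mt g⁻¹)ᵀ * (ε • mt g) = mt g := by
          rw [← hT, Matrix.mul_assoc, hgiT, Matrix.mul_one]
        calc mt g * (mt g⁻¹)ᵀ = (ε * ε) • (mt g * (mt g⁻¹)ᵀ * (mt g * mt g⁻¹)) := by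
              rw [hε, one_smul, hgi, Matrix.mul_one]
          _ = ε • ((mt g * (mt g⁻¹)ᵀ * (ε • mt g)) * mt g⁻¹) := by
              rw [Matrix.mul_smul, Matrix.smul_mul, smul_smul]
              simp only [Matrix.mul_assoc]
          _ = ε • 1 := by rw [h1, hgi]
      rcases h with h | h
      · exact ⟨1, aux 1 (one_mul 1) (by rw [one_smul]; exact h)⟩
      · exact ⟨-1, aux (-1) (by ring) (by rw [neg_smul, one_smul]; exact h)⟩
    · exact gamU_ne_one D hn g

theorem isGraph_gamU (hn : 3 ≤ n) (g : ↥(Cfsg.GU n F q)) :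
    Cfsg.IsGraphAutClassPSU (gamU D g) := by
  refine ⟨hn, cGU g, fU D.τ, D.τ, ?_, isInnerDiagonal_cU g.2, isFieldAut_cU D.τ, rfl⟩
  rw [orderOf_tau]
  exact even_two

/-- an involutory graph automorphism is `gamU D g` for a unitary `g` -/
theorem exists_gamU [Fintype F] (p : ℕ) [Fact p.Prime] [CharP F p] (hn : 3 ≤ n)
    (γ : MulAut (Cfsg.PSU n F q)) (hγ : Cfsg.IsGraphAutClassPSU γ) (hγ2 : orderOf γ = 2) :
    ∃ g : ↥(Cfsg.GU n F q), γ = gamU D g := by
  obtain ⟨-, δ, φ, σ, hσ, hδ, hφ, rfl⟩ := hγ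
  obtain ⟨g, rfl⟩ := eq_cGU_of_isInnerDiagonal hδ
  have hφ' := eq_fU_of_isFieldAut hφ
  subst hφ'
  refine ⟨g, ?_⟩
  have h1 : (cGU g * fU σ : MulAut (Cfsg.PSU n F q)) ^ 2 = 1 := by
    rw [← hγ2]
    exact pow_orderOf_eq_one _
  rw [sq, mul_formU'] at h1
  have h2 : (cGU (g * gmapU σ g) * fU (σ * σ) : MulAut (Cfsg.PSU n F q)) = cGU 1 * fU 1 := by
    rw [h1, map_one, map_one, mul_one]
  have h3 : σ * σ = 1 := uniq_sigma D hn h2
  have h4 : σ ≠ 1 := by
    intro h
    rw [h, orderOf_one] at hσ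
    exact absurd hσ (by decide)
  have h5 : orderOf σ = 2 := orderOf_eq_prime (by rw [sq]; exact h3) h4
  have := AutPSL.isCyclic_ringAut (F := F) p
  let _ : CommGroup (F ≃+* F) := IsCyclic.commGroup
  have : Finite (F ≃+* F) := Finite.of_injective (fun e : F ≃+* F => (e : F → F))
    (fun a b hab => RingEquiv.ext (fun x => congrFun hab x))
  have h6 : σ = D.τ := AutPSL.eq_of_orderOf_two h5 (orderOf_tau D)
  rw [h6]
  rfl

end Cfsg.Agent.Lib.H11.PSUGraph
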