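import Cfsg.Agent.Lib.H11.PSUGraph1

/-!
# Involutory graph automorphisms of `PSU_n(q)` (part 2): descent to the fixed field

An involutory graph automorphism `gamU D g` (`g` unitary, `gᵀ = ε g`) is described by a matrix `P`
with `c g τ(P) = P` (Hilbert 90); the Hermitian matrix `P* P` is then `e` times a matrix with
entries in the fixed field `K` of `τ`, symmetric or skew according to `ε`.  The relation `Rel`
records this correspondence between graph involutions and forms over `K`.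
-/

set_option autoImplicit false
set_option linter.unusedSectionVars false

namespace Cfsg.Agent.Lib.H11.PSUGraph

open Matrix Cfsg.Agent.Lib.H13 Cfsg.Agent.Lib.H13.AutPSU

variable {F : Type*} [Field F] {K : Type*} [Field K] {n q : ℕ}

/-- `ι` identifies `K` with the fixed field of `τ` -/
def IsFix (D : UF F q) (ι : K →+* F) : Prop := ∀ x : F, D.τ x = x ↔ ∃ k, ι k = x

theorem map_smul_hom (ι : K →+* F) {m l : Type*} (a : K) (X : Matrix m l K) :
    (a • X).map ι = ι a • X.map ι := by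
  ext i j
  simp

theorem map_smul_tau (D : UF F q) {m l : Type*} (a : F) (X : Matrix m l F) :
    (a • X).map D.τ = D.τ a • X.map D.τ := by
  ext i j
  simp

theorem map_one_hom (ι : K →+* F) {m : Type*} [DecidableEq m] :
    (1 : Matrix m m K).map ι = 1 := by
  ext i j
  by_cases hij : i = j
  · subst hij; simp
  · simp [Matrix.one_apply_ne hij]

theorem map_one_tau (D : UF F q) {m : Type*} [DecidableEq m] :
    (1 : Matrix m m F).map D.τ = 1 := by
  ext i j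
  by_cases hij : i = j
  · subst hij; simp
  · simp [Matrix.one_apply_ne hij]

section fix

variable {D : UF F q} {ι : K →+* F}

theorem IsFix.tau_apply (hι : IsFix D ι) (k : K) : D.τ (ι k) = ι k := (hι _).2 ⟨k, rfl⟩

theorem IsFix.tau_map (hι : IsFix D ι) {m l : Type*} (X : Matrix m l K) :
    (X.map ι).map D.τ = X.map ι := by
  ext i j
  exact hι.tau_apply _

theorem IsFix.ct_map (hι : IsFix D ι) {m l : Type*} (X : Matrix m l K) :
    ct D (X.map ι) = (X.map ι)ᵀ := by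
  unfold ct
  rw [hι.tau_map]

theorem IsFix.exists_map (hι : IsFix D ι) {m l : Type*} (X : Matrix m l F)
    (hX : X.map D.τ = X) : ∃ Y : Matrix m l K, Y.map ι = X := by
  have h : ∀ i j, ∃ k, ι k = X i j := by
    intro i j
    apply (hι _).1
    have := congrFun (congrFun hX i) j
    rwa [Matrix.map_apply] at this
  choose Y hY using h
  exact ⟨Matrix.of Y, by ext i j; exact hY i j⟩

theorem IsFix.exists_apply (hι : IsFix D ι) {a : F} (ha : D.τ a = a) : ∃ k, ι k = a :=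
  (hι a).1 ha

theorem IsFix.exists_GL_map (hι : IsFix D ι) (X : Matrix (Fin n) (Fin n) F)
    (hX : X.map D.τ = X) (hu : IsUnit X) :
    ∃ B : GL (Fin n) K, (B : Matrix (Fin n) (Fin n) K).map ι = X := by
  obtain ⟨Y, hY⟩ := hι.exists_map X hX
  have hdet : Y.det ≠ 0 := by
    intro h0
    have e1 := RingHom.map_det ι Y
    rw [h0, map_zero] at e1
    have e2 : ι.mapMatrix Y = X := hY
    rw [e2] at e1
    rw [Matrix.isUnit_iff_isUnit_det, isUnit_iff_ne_zero] at hu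
    exact hu e1.symm
  exact ⟨Matrix.GeneralLinearGroup.mkOfDetNeZero Y hdet, hY⟩

end fix

/-- the sign data: `ε = ±1`, an element `e` with `τ e = ε e` and an element `c` of norm `ε` -/
structure EDat (D : UF F q) where
  ε : F
  e : F
  c : F
  hε : ε = 1 ∨ ε = -1
  he : e ≠ 0
  hτe : D.τ e = ε * e
  hc : c * D.τ c = ε

/-- the symmetric sign data -/
def EDat.plus (D : UF F q) : EDat D where
  ε := 1
  e := 1
  c := 1
  hε := Or.inl rfl
  he := one_ne_zero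
  hτe := by simp
  hc := by simp

/-- the skew-symmetric sign data -/
noncomputable def EDat.minus (D : UF F q) : EDat D where
  ε := -1
  e := (exists_skew_ne_zero D).choose
  c := (D.nm_surj (-1) (by simp) (neg_ne_zero.2 one_ne_zero)).choose
  hε := Or.inr rfl
  he := (exists_skew_ne_zero D).choose_spec.2
  hτe := by
    have h := (exists_skew_ne_zero D).choose_spec.1
    rw [h]
    ring
  hc := (D.nm_surj (-1) (by simp) (neg_ne_zero.2 one_ne_zero)).choose_spec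

namespace EDat

variable {D : UF F q} (E : EDat D)

theorem sq : E.ε * E.ε = 1 := by
  rcases E.hε with h | h <;> rw [h] <;> ring

theorem ne_zero : E.ε ≠ 0 := by
  intro h
  have := E.sq
  rw [h, zero_mul] at this
  exact zero_ne_one this

theorem tau_ε : D.τ E.ε = E.ε := by
  rcases E.hε with h | h <;> rw [h] <;> simp

theorem c_ne_zero : E.c ≠ 0 := by
  intro h
  have := E.hc
  rw [h, zero_mul] at this
  exact E.ne_zero this.symm

theorem tau_c_ne_zero : D.τ E.c ≠ 0 := by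
  intro h
  have := E.hc
  rw [h, mul_zero] at this
  exact E.ne_zero this.symm

@[simp] theorem plus_ε (D : UF F q) : (plus D).ε = 1 := rfl
@[simp] theorem plus_e (D : UF F q) : (plus D).e = 1 := rfl
@[simp] theorem plus_c (D : UF F q) : (plus D).c = 1 := rfl
@[simp] theorem minus_ε (D : UF F q) : (minus D).ε = -1 := rfl

end EDat

section gl

variable (D : UF F q)

theorem gl_map_mul_inv (P : GL (Fin n) F) :
    (P : Matrix (Fin n) (Fin n) F).map D.τ *
      ((P⁻¹ : GL (Fin n) F) : Matrix (Fin n) (Fin n) F).map D.τ = 1 := by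
  rw [← Matrix.map_mul, AutPSL.gl_mul_inv, map_one_tau]

theorem gl_map_inv_mul (P : GL (Fin n) F) :
    ((P⁻¹ : GL (Fin n) F) : Matrix (Fin n) (Fin n) F).map D.τ *
      (P : Matrix (Fin n) (Fin n) F).map D.τ = 1 := by
  rw [← Matrix.map_mul, AutPSL.gl_inv_mul, map_one_tau]

/-- `gᵀ = ε g` gives `g τ(g) = ε` for unitary `g` -/
theorem mul_map_tau_of_symm (E : EDat D) (g : ↥(Cfsg.GU n F q))
    (hT : (mt g)ᵀ = E.ε • mt g) : mt g * (mt g).map D.τ = E.ε • 1 := by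
  have hgi : mt g * mt g⁻¹ = 1 := mt_mul_inv g
  have hgiT : (mt g⁻¹)ᵀ * (mt g)ᵀ = 1 := by
    rw [← Matrix.transpose_mul, hgi, Matrix.transpose_one]
  rw [map_tau_mt]
  have h1 : mt g * (mt g⁻¹)ᵀ * (E.ε • mt g) = mt g := by
    rw [← hT, Matrix.mul_assoc, hgiT, Matrix.mul_one]
  calc mt g * (mt g⁻¹)ᵀ = (E.ε * E.ε) • (mt g * (mt g⁻¹)ᵀ * (mt g * mt g⁻¹)) := by
        rw [E.sq, one_smul, hgi, Matrix.mul_one]
    _ = E.ε • ((mt g * (mt g⁻¹)ᵀ * (E.ε • mt g)) * mt g⁻¹) := by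
        rw [Matrix.mul_smul, Matrix.smul_mul, smul_smul]
        simp only [Matrix.mul_assoc]
    _ = E.ε • 1 := by rw [h1, hgi]

end gl

section rel

variable (D : UF F q) (ι : K →+* F)

/-- the correspondence between graph involutions of `PSU_n(q)` and forms over the fixed field -/
def Rel (E : EDat D) (γ : MulAut (Cfsg.PSU n F q)) (B : GL (Fin n) K) : Prop :=
  ∃ (g : ↥(Cfsg.GU n F q)) (P : GL (Fin n) F), γ = gamU D g ∧
    (mt g)ᵀ = E.ε • mt g ∧
    ((B : Matrix (Fin n) (Fin n) K).map ι)ᵀ = E.ε • (B : Matrix (Fin n) (Fin n) K).map ι ∧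
    E.c • (mt g * (P : Matrix (Fin n) (Fin n) F).map D.τ) = (P : Matrix (Fin n) (Fin n) F) ∧
    ct D (P : Matrix (Fin n) (Fin n) F) * (P : Matrix (Fin n) (Fin n) F) =
      E.e • (B : Matrix (Fin n) (Fin n) K).map ι

variable {D ι}

theorem Rel.isGraph {E : EDat D} {γ : MulAut (Cfsg.PSU n F q)} {B : GL (Fin n) K}
    (h : Rel D ι E γ B) (hn : 3 ≤ n) : Cfsg.IsGraphAutClassPSU γ := by
  obtain ⟨g, P, rfl, -⟩ := h
  exact isGraph_gamU D hn g

theorem Rel.orderOf {E : EDat D} {γ : MulAut (Cfsg.PSU n F q)} {B : GL (Fin n) K}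
    (h : Rel D ι E γ B) (hn : 3 ≤ n) : orderOf γ = 2 := by
  obtain ⟨g, P, rfl, hg, -⟩ := h
  rw [orderOf_gamU_eq_two_iff D hn]
  rcases E.hε with h1 | h1
  · left; rw [hg, h1, one_smul]
  · right; rw [hg, h1, neg_smul, one_smul]

/-- every form of the right symmetry type over `K` arises from a graph involution -/
theorem exists_rel_of_form [Fintype F] (hι : IsFix D ι) (E : EDat D) (B : GL (Fin n) K)
    (hB : ((B : Matrix (Fin n) (Fin n) K).map ι)ᵀ = E.ε • (B : Matrix (Fin n) (Fin n) K).map ι) :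
    ∃ γ : MulAut (Cfsg.PSU n F q), Rel D ι E γ B := by
  obtain ⟨Bh, hBh⟩ : ∃ Bh : Matrix (Fin n) (Fin n) F,
      Bh = (B : Matrix (Fin n) (Fin n) K).map ι := ⟨_, rfl⟩
  obtain ⟨Bi, hBi⟩ : ∃ Bi : Matrix (Fin n) (Fin n) F,
      Bi = ((B⁻¹ : GL (Fin n) K) : Matrix (Fin n) (Fin n) K).map ι := ⟨_, rfl⟩
  rw [← hBh] at hB
  have hBBi : Bh * Bi = 1 := by
    rw [hBh, hBi, ← Matrix.map_mul, AutPSL.gl_mul_inv, map_one_hom]
  have hτB : Bh.map D.τ = Bh := by rw [hBh]; exact hι.tau_map _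
  -- the Hermitian matrix `e • Bh`
  have hA1 : ((E.e • Bh).map D.τ)ᵀ = E.e • Bh := by
    rw [map_smul_tau, hτB, Matrix.transpose_smul, hB, smul_smul, E.hτe]
    congr 1
    rw [mul_assoc, mul_comm E.e, ← mul_assoc, E.sq, one_mul]
  have hA2 : IsUnit (E.e • Bh) := by
    apply IsUnit.of_mul_eq_one (E.e⁻¹ • Bi)
    rw [Matrix.smul_mul, Matrix.mul_smul, smul_smul, hBBi, mul_inv_cancel₀ E.he, one_smul]
  obtain ⟨k, hk, hkA⟩ := AutPSL.herm_class D.τ (tau_ne_one D) D.hτ2 (E.e • Bh) hA1 hA2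
  have hPu : IsUnit (ct D k) := isUnit_ct D hk
  obtain ⟨P, hP⟩ : ∃ P : GL (Fin n) F, (P : Matrix (Fin n) (Fin n) F) = ct D k :=
    ⟨hPu.unit, rfl⟩
  obtain ⟨Pm, hPm⟩ : ∃ Pm : Matrix (Fin n) (Fin n) F, Pm = (P : Matrix (Fin n) (Fin n) F) :=
    ⟨_, rfl⟩
  obtain ⟨Pi, hPi⟩ : ∃ Pi : Matrix (Fin n) (Fin n) F,
      Pi = ((P⁻¹ : GL (Fin n) F) : Matrix (Fin n) (Fin n) F) := ⟨_, rfl⟩
  have hPPi : Pm * Pi = 1 := by rw [hPm, hPi]; exact AutPSL.gl_mul_inv P
  have hPiP : Pi * Pm = 1 := by rw [hPm, hPi]; exact AutPSL.gl_inv_mul P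
  have hQQi : Pm.map D.τ * Pi.map D.τ = 1 := by rw [hPm, hPi]; exact gl_map_mul_inv D P
  have hQiQ : Pi.map D.τ * Pm.map D.τ = 1 := by rw [hPm, hPi]; exact gl_map_inv_mul D P
  -- the Hermitian form
  have hH : ct D Pm * Pm = E.e • Bh := by
    rw [hPm, hP, ct_ct, hkA]
    rfl
  have hHT : Pmᵀ * Pm.map D.τ = E.ε • ((Pm.map D.τ)ᵀ * Pm) := by
    have h1 : (ct D Pm * Pm)ᵀ = E.ε • (ct D Pm * Pm) := by
      rw [hH, Matrix.transpose_smul, hB, smul_comm]
    unfold ct at h1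
    rw [Matrix.transpose_mul, Matrix.transpose_transpose] at h1
    exact h1
  -- the unitary matrix
  obtain ⟨G, hG⟩ : ∃ G : Matrix (Fin n) (Fin n) F, G = E.c⁻¹ • (Pm * Pi.map D.τ) := ⟨_, rfl⟩
  have hctG : ct D G = (D.τ E.c)⁻¹ • (Piᵀ * (Pm.map D.τ)ᵀ) := by
    rw [hG, ct_smul, ct_mul, map_inv₀]
    congr 1
    unfold ct
    rw [map_tau_tau]
  have hH' : (Pm.map D.τ)ᵀ * Pm = E.ε • (Pmᵀ * Pm.map D.τ) := by
    rw [hHT, smul_smul, E.sq, one_smul]
  have hGG : ct D G * G = 1 := by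
    rw [hctG, hG, Matrix.smul_mul, Matrix.mul_smul, smul_smul]
    have h1 : Piᵀ * (Pm.map D.τ)ᵀ * (Pm * Pi.map D.τ) =
        Piᵀ * ((Pm.map D.τ)ᵀ * Pm) * Pi.map D.τ := by
      simp only [Matrix.mul_assoc]
    rw [h1, hH', Matrix.mul_smul, Matrix.smul_mul, smul_smul]
    have h2 : Piᵀ * (Pmᵀ * Pm.map D.τ) * Pi.map D.τ = 1 := by
      rw [← Matrix.mul_assoc, ← Matrix.transpose_mul, hPPi, Matrix.transpose_one, Matrix.one_mul,
        hQQi]
    rw [h2]
    have h3 : (D.τ E.c)⁻¹ * E.c⁻¹ * E.ε = 1 := by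
      rw [← mul_inv, mul_comm (D.τ E.c), E.hc, inv_mul_cancel₀ E.ne_zero]
    rw [h3, one_smul]
  have hGG' : G * ct D G = 1 := mul_eq_one_comm.1 hGG
  obtain ⟨g, hg⟩ : ∃ g : ↥(Cfsg.GU n F q), mt g = G := by
    refine ⟨⟨mkGL G (ct D G) hGG' hGG, ?_⟩, rfl⟩
    rw [mem_GU_iff_ct (D := D)]
    exact hGG
  refine ⟨gamU D g, g, P, rfl, ?_, ?_, ?_, ?_⟩
  · -- symmetry of `g`
    rw [hg, hG, Matrix.transpose_smul, Matrix.transpose_mul, smul_comm]
    congr 1
    calc (Pi.map D.τ)ᵀ * Pmᵀ = (Pi.map D.τ)ᵀ * (Pmᵀ * Pm.map D.τ) * Pi.map D.τ := by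
          rw [Matrix.mul_assoc, Matrix.mul_assoc, hQQi, Matrix.mul_one]
      _ = E.ε • (((Pi.map D.τ)ᵀ * (Pm.map D.τ)ᵀ) * Pm * Pi.map D.τ) := by
          rw [hHT, Matrix.mul_smul, Matrix.smul_mul]
          simp only [Matrix.mul_assoc]
      _ = E.ε • (Pm * Pi.map D.τ) := by
          rw [← Matrix.transpose_mul, hQQi, Matrix.transpose_one, Matrix.one_mul]
  · rw [← hBh]; exact hB
  · rw [hg, hG, ← hPm, Matrix.smul_mul, smul_smul, mul_inv_cancel₀ E.c_ne_zero, one_smul,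
      Matrix.mul_assoc, hQiQ, Matrix.mul_one]
  · rw [← hPm, ← hBh]
    exact hH

/-- every graph involution `gamU D g` with `gᵀ = ε g` is related to a form over `K` -/
theorem exists_rel_of_gamU (hι : IsFix D ι) (E : EDat D) (g : ↥(Cfsg.GU n F q))
    (hg : (mt g)ᵀ = E.ε • mt g) : ∃ B : GL (Fin n) K, Rel D ι E (gamU D g) B := by
  -- Hilbert 90
  have hN : AutPSL.PM D.τ (E.c • mt g) 2 = 1 := by
    rw [AutPSL.PM_succ, AutPSL.PM_succ, AutPSL.PM_zero, map_one_tau, Matrix.mul_one,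
      map_smul_tau, Matrix.smul_mul, Matrix.mul_smul, smul_smul, E.hc,
      mul_map_tau_of_symm D E g hg, smul_smul, E.sq, one_smul]
  obtain ⟨Pm, hPu, hgP⟩ := AutPSL.hilbert90_GL D.τ (by norm_num) (orderOf_tau D) _ hN
  obtain ⟨P, hP⟩ : ∃ P : GL (Fin n) F, (P : Matrix (Fin n) (Fin n) F) = Pm := ⟨hPu.unit, rfl⟩
  rw [Matrix.smul_mul] at hgP
  -- `τ(P) = τ(c) τ(g) P`
  have hτP : Pm.map D.τ = D.τ E.c • ((mt g).map D.τ * Pm) := by
    conv_lhs => rw [← hgP]
    rw [map_smul_tau, Matrix.map_mul, map_tau_tau]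
  -- the Hermitian matrix
  have hgi : mt g * mt g⁻¹ = 1 := mt_mul_inv g
  have hH1 : ct D Pm * Pm = D.τ E.c • (Pmᵀ * mt g⁻¹ * Pm) := by
    unfold ct
    rw [hτP, Matrix.transpose_smul, Matrix.transpose_mul, map_tau_mt, Matrix.transpose_transpose,
      Matrix.smul_mul]
  have hgiT : (mt g⁻¹)ᵀ = E.ε • mt g⁻¹ := by
    -- from `gᵀ = ε g`
    have h1 : (mt g⁻¹)ᵀ * (mt g)ᵀ = 1 := by
      rw [← Matrix.transpose_mul, hgi, Matrix.transpose_one]
    calc (mt g⁻¹)ᵀ = (E.ε * E.ε) • ((mt g⁻¹)ᵀ * (mt g * mt g⁻¹)) := by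
          rw [E.sq, one_smul, hgi, Matrix.mul_one]
      _ = E.ε • (((mt g⁻¹)ᵀ * (E.ε • mt g)) * mt g⁻¹) := by
          rw [Matrix.mul_smul, Matrix.smul_mul, smul_smul, Matrix.mul_assoc]
      _ = E.ε • mt g⁻¹ := by rw [← hg, h1, Matrix.one_mul]
  have hHT : (ct D Pm * Pm)ᵀ = E.ε • (ct D Pm * Pm) := by
    rw [hH1, Matrix.transpose_smul, Matrix.transpose_mul, Matrix.transpose_mul,
      Matrix.transpose_transpose, hgiT, Matrix.smul_mul, Matrix.mul_smul, smul_comm,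
      Matrix.mul_assoc]
  have hHh : ct D (ct D Pm * Pm) = ct D Pm * Pm := by rw [ct_mul, ct_ct]
  have hHτ : (ct D Pm * Pm).map D.τ = E.ε • (ct D Pm * Pm) := by
    have h1 : ((ct D Pm * Pm).map D.τ)ᵀ = ct D Pm * Pm := hHh
    rw [← hHT, ← h1, Matrix.transpose_transpose, h1]
  -- the form over `K`
  have hfix : (E.e⁻¹ • (ct D Pm * Pm)).map D.τ = E.e⁻¹ • (ct D Pm * Pm) := by
    rw [map_smul_tau, hHτ, smul_smul, map_inv₀, E.hτe]
    congr 1
    rw [mul_inv, mul_comm E.ε⁻¹, mul_assoc, inv_mul_cancel₀ E.ne_zero, mul_one]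
  have hunit : IsUnit (E.e⁻¹ • (ct D Pm * Pm)) := by
    have h1 : IsUnit (ct D Pm * Pm) := (isUnit_ct D hPu).mul hPu
    obtain ⟨u, hu⟩ := h1
    apply IsUnit.of_mul_eq_one (E.e • ((u⁻¹ : (Matrix (Fin n) (Fin n) F)ˣ) :
      Matrix (Fin n) (Fin n) F))
    rw [← hu, Matrix.smul_mul, Matrix.mul_smul, smul_smul, inv_mul_cancel₀ E.he, one_smul,
      ← Units.val_mul, mul_inv_cancel, Units.val_one]
  obtain ⟨B, hB⟩ := hι.exists_GL_map _ hfix hunit
  have hB' : E.e • (B : Matrix (Fin n) (Fin n) K).map ι = ct D Pm * Pm := by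
    rw [hB, smul_smul, mul_inv_cancel₀ E.he, one_smul]
  refine ⟨B, g, P, rfl, hg, ?_, ?_, ?_⟩
  · rw [hB, Matrix.transpose_smul, hHT, smul_comm]
  · rw [hP]
    exact hgP
  · rw [hP, hB']

end rel

end Cfsg.Agent.Lib.H11.PSUGraph
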