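import Cfsg.Agent.Lib.H11.PSUGraph2
import Cfsg.Agent.Lib.H11.PSLGraph3

/-!
# Involutory graph automorphisms of `PSU_n(q)` (part 3): the centraliser

For descent data `c g τ(P) = P`, `P* P = e B̂`, the centraliser of `gamU D g` in `Inndiag` is the
image of the group `G1` of pairs `(μ, k)`, `k` a similitude of the form `B` over the fixed field
with `μ τ(μ)` inverse to its multiplier, under `(μ, k) ↦ μ P k̂ P⁻¹`.  Hence it is isomorphic to the
projective similarity group of `B`.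
-/

set_option autoImplicit false
set_option linter.unusedSectionVars false

namespace Cfsg.Agent.Lib.H11.PSUGraph

open Matrix Cfsg.Agent.Lib.H13 Cfsg.Agent.Lib.H13.AutPSU

variable {F : Type*} [Field F] {K : Type*} [Field K] {n q : ℕ}

theorem scalar_comm (μ : Fˣ) (X : GL (Fin n) F) :
    Commute (Matrix.GeneralLinearGroup.scalar (Fin n) μ) X := by
  show _ * _ = _ * _
  apply Units.ext
  rw [Units.val_mul, Units.val_mul, Matrix.GeneralLinearGroup.coe_scalar]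
  exact Matrix.scalar_commute _ (fun _ => Commute.all _ _) _

/-- `(μ, k) ↦ μ P k̂ P⁻¹` -/
noncomputable def Jhom (ι : K →+* F) (P : GL (Fin n) F) : Fˣ × GL (Fin n) K →* GL (Fin n) F :=
  MonoidHom.noncommCoprod (Matrix.GeneralLinearGroup.scalar (Fin n))
    ((MulAut.conj P).toMonoidHom.comp (Matrix.GeneralLinearGroup.map ι))
    (fun μ _ => scalar_comm μ _)

theorem Jhom_val (ι : K →+* F) (P : GL (Fin n) F) (x : Fˣ × GL (Fin n) K) :
    ((Jhom ι P x : GL (Fin n) F) : Matrix (Fin n) (Fin n) F) =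
      ((x.1 : Fˣ) : F) • ((P : Matrix (Fin n) (Fin n) F) *
        (x.2 : Matrix (Fin n) (Fin n) K).map ι *
        ((P⁻¹ : GL (Fin n) F) : Matrix (Fin n) (Fin n) F)) := by
  unfold Jhom
  rw [MonoidHom.noncommCoprod_apply, Units.val_mul, Matrix.GeneralLinearGroup.coe_scalar,
    Matrix.scalar_apply, ← Matrix.smul_eq_diagonal_mul]
  rfl

/-- the descent data attached to a graph involution -/
structure RData (D : UF F q) (ι : K →+* F) (E : EDat D) (g : ↥(Cfsg.GU n F q))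
    (P : GL (Fin n) F) (B : GL (Fin n) K) : Prop where
  hgP : E.c • (mt g * (P : Matrix (Fin n) (Fin n) F).map D.τ) = (P : Matrix (Fin n) (Fin n) F)
  hPB : ct D (P : Matrix (Fin n) (Fin n) F) * (P : Matrix (Fin n) (Fin n) F) =
    E.e • (B : Matrix (Fin n) (Fin n) K).map ι

section data

variable {D : UF F q} {ι : K →+* F} {E : EDat D} {g : ↥(Cfsg.GU n F q)} {P : GL (Fin n) F}
  {B : GL (Fin n) K}

theorem RData.key1 (R : RData D ι E g P B) :
    mt g * (P : Matrix (Fin n) (Fin n) F).map D.τ = E.c⁻¹ • (P : Matrix (Fin n) (Fin n) F) := by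
  have h := congrArg (fun X => E.c⁻¹ • X) R.hgP
  simp only [smul_smul, inv_mul_cancel₀ E.c_ne_zero, one_smul] at h
  exact h

theorem RData.key2 (R : RData D ι E g P B) :
    ((P⁻¹ : GL (Fin n) F) : Matrix (Fin n) (Fin n) F) * mt g =
      E.c⁻¹ • ((P⁻¹ : GL (Fin n) F) : Matrix (Fin n) (Fin n) F).map D.τ := by
  calc ((P⁻¹ : GL (Fin n) F) : Matrix (Fin n) (Fin n) F) * mt g
      = ((P⁻¹ : GL (Fin n) F) : Matrix (Fin n) (Fin n) F) *
          (mt g * (P : Matrix (Fin n) (Fin n) F).map D.τ) *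
          ((P⁻¹ : GL (Fin n) F) : Matrix (Fin n) (Fin n) F).map D.τ := by
        rw [Matrix.mul_assoc, Matrix.mul_assoc, gl_map_mul_inv, Matrix.mul_one]
    _ = E.c⁻¹ • ((P⁻¹ : GL (Fin n) F) : Matrix (Fin n) (Fin n) F).map D.τ := by
        rw [R.key1, Matrix.mul_smul, Matrix.smul_mul, AutPSL.gl_inv_mul, Matrix.one_mul]

variable (D ι P) in
/-- the group of pairs `(μ, k)` with `μ P k̂ P⁻¹` unitary -/
noncomputable def G1 : Subgroup (Fˣ × GL (Fin n) K) := (Cfsg.GU n F q).comap (Jhom ι P)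

variable (D ι P) in
/-- the map `G1 → GU` -/
noncomputable def jG : ↥(G1 (q := q) ι P) →* ↥(Cfsg.GU n F q) :=
  (Jhom ι P).subgroupComap (Cfsg.GU n F q)

theorem mt_jG (x : ↥(G1 (q := q) ι P)) :
    mt (jG (q := q) ι P x) = ((x.1.1 : Fˣ) : F) • ((P : Matrix (Fin n) (Fin n) F) *
        (x.1.2 : Matrix (Fin n) (Fin n) K).map ι *
        ((P⁻¹ : GL (Fin n) F) : Matrix (Fin n) (Fin n) F)) :=
  Jhom_val ι P x.1

theorem mem_G1_iff (R : RData D ι E g P B) (hι : IsFix D ι) (x : Fˣ × GL (Fin n) K) :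
    x ∈ G1 (q := q) ι P ↔
      (((x.1 : Fˣ) : F) * D.τ ((x.1 : Fˣ) : F)) •
        (((x.2 : Matrix (Fin n) (Fin n) K).map ι)ᵀ * (B : Matrix (Fin n) (Fin n) K).map ι *
          (x.2 : Matrix (Fin n) (Fin n) K).map ι) = (B : Matrix (Fin n) (Fin n) K).map ι := by
  obtain ⟨Pm, hPm⟩ : ∃ Pm : Matrix (Fin n) (Fin n) F, Pm = (P : Matrix (Fin n) (Fin n) F) :=
    ⟨_, rfl⟩
  obtain ⟨Pi, hPi⟩ : ∃ Pi : Matrix (Fin n) (Fin n) F,
      Pi = ((P⁻¹ : GL (Fin n) F) : Matrix (Fin n) (Fin n) F) := ⟨_, rfl⟩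
  obtain ⟨kh, hkh⟩ : ∃ kh : Matrix (Fin n) (Fin n) F,
      kh = (x.2 : Matrix (Fin n) (Fin n) K).map ι := ⟨_, rfl⟩
  obtain ⟨Bh, hBh⟩ : ∃ Bh : Matrix (Fin n) (Fin n) F,
      Bh = (B : Matrix (Fin n) (Fin n) K).map ι := ⟨_, rfl⟩
  obtain ⟨μ, hμ⟩ : ∃ μ : F, μ = ((x.1 : Fˣ) : F) := ⟨_, rfl⟩
  have hPPi : Pm * Pi = 1 := by rw [hPm, hPi]; exact AutPSL.gl_mul_inv P
  have hPiP : Pi * Pm = 1 := by rw [hPm, hPi]; exact AutPSL.gl_inv_mul P
  have hcPPi : ct D Pm * ct D Pi = 1 := by rw [← ct_mul, hPiP, ct_one]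
  have hcPiP : ct D Pi * ct D Pm = 1 := by rw [← ct_mul, hPPi, ct_one]
  have hH : ct D Pm * Pm = E.e • Bh := by rw [hPm, hBh]; exact R.hPB
  have hctk : ct D kh = khᵀ := by rw [hkh]; exact hι.ct_map _
  change Jhom ι P x ∈ Cfsg.GU n F q ↔ _
  rw [mem_GU_iff_ct (D := D), Jhom_val, ← hPm, ← hPi, ← hkh, ← hBh, ← hμ]
  have e1 : ct D (μ • (Pm * kh * Pi)) * (μ • (Pm * kh * Pi)) =
      (μ * D.τ μ * E.e) • (ct D Pi * (khᵀ * Bh * kh) * Pi) := by
    rw [ct_smul, ct_mul, ct_mul, hctk, Matrix.smul_mul, Matrix.mul_smul, smul_smul]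
    have : ct D Pi * (khᵀ * ct D Pm) * (Pm * kh * Pi) =
        ct D Pi * (khᵀ * (ct D Pm * Pm) * kh) * Pi := by
      simp only [Matrix.mul_assoc]
    rw [this, hH, Matrix.mul_smul, Matrix.smul_mul, Matrix.mul_smul, Matrix.smul_mul, smul_smul]
    congr 1
    ring
  rw [e1]
  constructor
  · intro h
    have h1 : ct D Pm * ((μ * D.τ μ * E.e) • (ct D Pi * (khᵀ * Bh * kh) * Pi)) * Pm =
        ct D Pm * 1 * Pm := by rw [h]
    rw [Matrix.mul_one, hH, Matrix.mul_smul, Matrix.smul_mul] at h1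
    have h2 : ct D Pm * (ct D Pi * (khᵀ * Bh * kh) * Pi) * Pm = khᵀ * Bh * kh := by
      calc ct D Pm * (ct D Pi * (khᵀ * Bh * kh) * Pi) * Pm
          = (ct D Pm * ct D Pi) * (khᵀ * Bh * kh) * (Pi * Pm) := by
            simp only [Matrix.mul_assoc]
        _ = khᵀ * Bh * kh := by rw [hcPPi, hPiP, Matrix.one_mul, Matrix.mul_one]
    rw [h2, mul_comm, ← smul_smul] at h1
    exact smul_right_injective _ E.he h1
  · intro h
    have e2 : (μ * D.τ μ * E.e) • (ct D Pi * (khᵀ * Bh * kh) * Pi) =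
        ct D Pi * (E.e • ((μ * D.τ μ) • (khᵀ * Bh * kh))) * Pi := by
      simp only [Matrix.mul_smul, Matrix.smul_mul, smul_smul]
      congr 1
      ring
    rw [e2, h, ← hH]
    calc ct D Pi * (ct D Pm * Pm) * Pi = (ct D Pi * ct D Pm) * (Pm * Pi) := by
          simp only [Matrix.mul_assoc]
      _ = 1 := by rw [hcPiP, hPPi, Matrix.mul_one]

theorem G1_snd_mem (R : RData D ι E g P B) (hι : IsFix D ι) (x : Fˣ × GL (Fin n) K)
    (hx : x ∈ G1 (q := q) ι P) :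
    x.2 ∈ Cfsg.Geo.similarityGroup (F := K) (PSLGraph.bf (B : Matrix (Fin n) (Fin n) K)) := by
  rw [mem_G1_iff R hι] at hx
  rw [PSLGraph.mem_sim_bf_iff]
  have hfix : D.τ (((x.1 : Fˣ) : F) * D.τ ((x.1 : Fˣ) : F)) =
      ((x.1 : Fˣ) : F) * D.τ ((x.1 : Fˣ) : F) := by
    rw [map_mul, D.hτ2, mul_comm]
  obtain ⟨a, ha⟩ := hι.exists_apply hfix
  have ha0 : a ≠ 0 := by
    rintro rfl
    rw [map_zero] at ha
    have h1 : D.τ ((x.1 : Fˣ) : F) ≠ 0 := (map_ne_zero_iff D.τ D.τ.injective).2 x.1.ne_zero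
    exact mul_ne_zero x.1.ne_zero h1 ha.symm
  refine ⟨Units.mk0 a⁻¹ (inv_ne_zero ha0), ?_⟩
  rw [Units.val_mk0]
  have h2 : (a • ((x.2 : Matrix (Fin n) (Fin n) K)ᵀ * (B : Matrix (Fin n) (Fin n) K) *
      (x.2 : Matrix (Fin n) (Fin n) K))).map ι = (B : Matrix (Fin n) (Fin n) K).map ι := by
    rw [map_smul_hom, Matrix.map_mul, Matrix.map_mul, ha, Matrix.transpose_map]
    exact hx
  have h3 := Matrix.map_injective ι.injective h2
  conv_rhs => rw [← h3]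
  rw [smul_smul, inv_mul_cancel₀ ha0, one_smul]

theorem exists_G1_of_sim (R : RData D ι E g P B) (hι : IsFix D ι) (k : GL (Fin n) K)
    (hk : k ∈ Cfsg.Geo.similarityGroup (F := K) (PSLGraph.bf (B : Matrix (Fin n) (Fin n) K))) :
    ∃ μ : Fˣ, (μ, k) ∈ G1 (q := q) ι P := by
  rw [PSLGraph.mem_sim_bf_iff] at hk
  obtain ⟨ν, hν⟩ := hk
  have h1 : D.τ ((ι (ν : K))⁻¹) = (ι (ν : K))⁻¹ := by rw [map_inv₀, hι.tau_apply]
  have h2 : (ι (ν : K))⁻¹ ≠ 0 := inv_ne_zero ((map_ne_zero ι).2 ν.ne_zero)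
  obtain ⟨μ, hμ⟩ := D.nm_surj _ h1 h2
  have hμ0 : μ ≠ 0 := by
    rintro rfl
    rw [zero_mul] at hμ
    exact h2 hμ.symm
  refine ⟨Units.mk0 μ hμ0, ?_⟩
  rw [mem_G1_iff R hι]
  change (μ * D.τ μ) • (((k : Matrix (Fin n) (Fin n) K).map ι)ᵀ *
    (B : Matrix (Fin n) (Fin n) K).map ι * (k : Matrix (Fin n) (Fin n) K).map ι) = _
  rw [hμ, ← Matrix.transpose_map, ← Matrix.map_mul, ← Matrix.map_mul, hν, map_smul_hom, smul_smul,
    inv_mul_cancel₀ ((map_ne_zero ι).2 ν.ne_zero), one_smul]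

variable (D ι P B) in
/-- the projection `G1 → Sim(B)` -/
noncomputable def simG (R : RData D ι E g P B) (hι : IsFix D ι) :
    ↥(G1 (q := q) ι P) →*
      ↥(Cfsg.Geo.similarityGroup (F := K) (PSLGraph.bf (B : Matrix (Fin n) (Fin n) K))) :=
  ((MonoidHom.snd Fˣ (GL (Fin n) K)).comp (G1 (q := q) ι P).subtype).codRestrict _
    (fun x => G1_snd_mem R hι x.1 x.2)

variable (D ι P B) in
/-- the projection `G1 → PSim(B)` -/
noncomputable def piG (R : RData D ι E g P B) (hι : IsFix D ι) :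
    ↥(G1 (q := q) ι P) →*
      Cfsg.projQuot (Cfsg.Geo.similarityGroup (F := K)
        (PSLGraph.bf (B : Matrix (Fin n) (Fin n) K))) :=
  (QuotientGroup.mk' _).comp (simG D ι P B R hι)

theorem piG_surjective (R : RData D ι E g P B) (hι : IsFix D ι) :
    Function.Surjective (piG D ι P B R hι) := by
  intro y
  obtain ⟨k, rfl⟩ := QuotientGroup.mk_surjective y
  obtain ⟨μ, hμ⟩ := exists_G1_of_sim R hι k.1 k.2
  refine ⟨⟨(μ, k.1), hμ⟩, ?_⟩
  rfl

set_option linter.unusedVariables false in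
theorem mem_ker_piG (R : RData D ι E g P B) (hι : IsFix D ι) (x : ↥(G1 (q := q) ι P)) :
    x ∈ (piG D ι P B R hι).ker ↔ x.1.2 ∈ Cfsg.Geo.scalars (Fin n) K := by
  rw [MonoidHom.mem_ker]
  unfold piG
  rw [MonoidHom.comp_apply, QuotientGroup.mk'_apply, QuotientGroup.eq_one_iff,
    Subgroup.mem_subgroupOf]
  rfl

theorem mem_ker_cGU_jG (R : RData D ι E g P B) (hι : IsFix D ι) (hn : 3 ≤ n)
    (x : ↥(G1 (q := q) ι P)) :
    x ∈ ((cGU (n := n) (F := F) (q := q)).comp (jG (q := q) ι P)).ker ↔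
      x.1.2 ∈ Cfsg.Geo.scalars (Fin n) K := by
  obtain ⟨Pm, hPm⟩ : ∃ Pm : Matrix (Fin n) (Fin n) F, Pm = (P : Matrix (Fin n) (Fin n) F) :=
    ⟨_, rfl⟩
  obtain ⟨Pi, hPi⟩ : ∃ Pi : Matrix (Fin n) (Fin n) F,
      Pi = ((P⁻¹ : GL (Fin n) F) : Matrix (Fin n) (Fin n) F) := ⟨_, rfl⟩
  have hPPi : Pm * Pi = 1 := by rw [hPm, hPi]; exact AutPSL.gl_mul_inv P
  have hPiP : Pi * Pm = 1 := by rw [hPm, hPi]; exact AutPSL.gl_inv_mul P
  rw [MonoidHom.mem_ker, MonoidHom.comp_apply, ← map_one (cGU (n := n) (F := F) (q := q)),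
    eq_comm, cGU_eq_iff D hn, mt_one, mt_jG, Cfsg.Geo.mem_scalars_iff, ← hPm, ← hPi]
  have i₀ : Fin n := ⟨0, by omega⟩
  constructor
  · rintro ⟨d, hd⟩
    have h1 : (x.1.2 : Matrix (Fin n) (Fin n) K).map ι =
        (((x.1.1 : Fˣ) : F)⁻¹ * d) • (1 : Matrix (Fin n) (Fin n) F) := by
      have h2 : Pi * (((x.1.1 : Fˣ) : F) •
          (Pm * (x.1.2 : Matrix (Fin n) (Fin n) K).map ι * Pi)) * Pm =
          Pi * (d • 1) * Pm := by rw [hd]
      rw [Matrix.mul_smul, Matrix.smul_mul, Matrix.mul_smul, Matrix.smul_mul, Matrix.mul_one,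
        hPiP] at h2
      have h3 : Pi * (Pm * (x.1.2 : Matrix (Fin n) (Fin n) K).map ι * Pi) * Pm =
          (x.1.2 : Matrix (Fin n) (Fin n) K).map ι := by
        calc Pi * (Pm * (x.1.2 : Matrix (Fin n) (Fin n) K).map ι * Pi) * Pm
            = (Pi * Pm) * (x.1.2 : Matrix (Fin n) (Fin n) K).map ι * (Pi * Pm) := by
              simp only [Matrix.mul_assoc]
          _ = _ := by rw [hPiP, Matrix.one_mul, Matrix.mul_one]
      rw [h3] at h2
      rw [← smul_smul, ← h2, smul_smul, inv_mul_cancel₀ x.1.1.ne_zero, one_smul]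
    obtain ⟨a, ha⟩ : ∃ a : K, a = (x.1.2 : Matrix (Fin n) (Fin n) K) i₀ i₀ := ⟨_, rfl⟩
    have ha1 : ι a = ((x.1.1 : Fˣ) : F)⁻¹ * d := by
      have := congrFun (congrFun h1 i₀) i₀
      rw [Matrix.map_apply, ← ha] at this
      simpa using this
    have h4 : (x.1.2 : Matrix (Fin n) (Fin n) K) = a • 1 := by
      apply Matrix.map_injective ι.injective
      change (x.1.2 : Matrix (Fin n) (Fin n) K).map ι = (a • (1 : Matrix (Fin n) (Fin n) K)).map ι
      rw [map_smul_hom, map_one_hom, ha1]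
      exact h1
    have ha0 : a ≠ 0 := by
      rintro rfl
      rw [zero_smul] at h4
      have h5 := AutPSL.gl_mul_inv x.1.2
      rw [h4, Matrix.zero_mul] at h5
      have := congrFun (congrFun h5 i₀) i₀
      simp at this
    exact ⟨Units.mk0 a ha0, h4⟩
  · rintro ⟨a, ha⟩
    refine ⟨((x.1.1 : Fˣ) : F) * ι (a : K), ?_⟩
    rw [ha, map_smul_hom, map_one_hom, Matrix.mul_smul, Matrix.smul_mul, Matrix.mul_one, hPPi,
      smul_smul]

theorem ker_eq (R : RData D ι E g P B) (hι : IsFix D ι) (hn : 3 ≤ n) :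
    ((cGU (n := n) (F := F) (q := q)).comp (jG (q := q) ι P)).ker = (piG D ι P B R hι).ker := by
  ext x
  rw [mem_ker_cGU_jG R hι hn, mem_ker_piG R hι]

/-- the centraliser of `gamU D g` in `Inndiag` is the image of `G1` -/
theorem centralizer_eq (R : RData D ι E g P B) (hι : IsFix D ι) (hn : 3 ≤ n) :
    (cGU (n := n) (F := F) (q := q)).range ⊓ Subgroup.centralizer {gamU D g} =
      ((cGU (n := n) (F := F) (q := q)).comp (jG (q := q) ι P)).range := by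
  obtain ⟨Pm, hPm⟩ : ∃ Pm : Matrix (Fin n) (Fin n) F, Pm = (P : Matrix (Fin n) (Fin n) F) :=
    ⟨_, rfl⟩
  obtain ⟨Pi, hPi⟩ : ∃ Pi : Matrix (Fin n) (Fin n) F,
      Pi = ((P⁻¹ : GL (Fin n) F) : Matrix (Fin n) (Fin n) F) := ⟨_, rfl⟩
  have hPPi : Pm * Pi = 1 := by rw [hPm, hPi]; exact AutPSL.gl_mul_inv P
  have hPiP : Pi * Pm = 1 := by rw [hPm, hPi]; exact AutPSL.gl_inv_mul P
  have hQQi : Pm.map D.τ * Pi.map D.τ = 1 := by rw [hPm, hPi]; exact gl_map_mul_inv D P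
  have hQiQ : Pi.map D.τ * Pm.map D.τ = 1 := by rw [hPm, hPi]; exact gl_map_inv_mul D P
  have k1 : mt g * Pm.map D.τ = E.c⁻¹ • Pm := by rw [hPm]; exact R.key1
  have k2 : Pi * mt g = E.c⁻¹ • Pi.map D.τ := by rw [hPi]; exact R.key2
  -- commuting with `gamU D g` in terms of matrices
  have hcomm : ∀ h : ↥(Cfsg.GU n F q), cGU h ∈ Subgroup.centralizer {gamU D g} ↔
      ∃ d : F, mt g * (mt h).map D.τ = d • (mt h * mt g) := by
    intro h
    rw [Subgroup.mem_centralizer_singleton_iff]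
    unfold gamU
    rw [← mul_assoc, ← map_mul, mul_assoc, fU_mul_cGU', ← mul_assoc, ← map_mul, mul_left_inj,
      cGU_eq_iff D hn, mt_mul, mt_mul, mt_gmapU]
  ext y
  constructor
  · rintro ⟨⟨h, rfl⟩, hy⟩
    obtain ⟨d, hd⟩ := (hcomm h).1 hy
    obtain ⟨H, hH⟩ : ∃ H : Matrix (Fin n) (Fin n) F, H = mt h := ⟨_, rfl⟩
    obtain ⟨Hi, hHi⟩ : ∃ Hi : Matrix (Fin n) (Fin n) F, Hi = mt h⁻¹ := ⟨_, rfl⟩
    have hHHi : H * Hi = 1 := by rw [hH, hHi]; exact mt_mul_inv h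
    rw [← hH] at hd
    obtain ⟨X, hX⟩ : ∃ X : Matrix (Fin n) (Fin n) F, X = Pi * H * Pm := ⟨_, rfl⟩
    have hXτ : X.map D.τ = d • X := by
      rw [hX, Matrix.map_mul, Matrix.map_mul]
      have e1 : Pi * (mt g * H.map D.τ) * Pm.map D.τ = Pi * (d • (H * mt g)) * Pm.map D.τ := by
        rw [hd]
      have e2 : Pi * (mt g * H.map D.τ) * Pm.map D.τ =
          E.c⁻¹ • (Pi.map D.τ * H.map D.τ * Pm.map D.τ) := by
        rw [← Matrix.mul_assoc, k2, Matrix.smul_mul, Matrix.smul_mul]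
      have e3 : Pi * (d • (H * mt g)) * Pm.map D.τ = E.c⁻¹ • (d • (Pi * H * Pm)) := by
        rw [Matrix.mul_smul, Matrix.smul_mul, Matrix.mul_assoc, Matrix.mul_assoc, k1,
          Matrix.mul_smul, Matrix.mul_smul, smul_comm, ← Matrix.mul_assoc]
      rw [e2, e3] at e1
      exact smul_right_injective _ (inv_ne_zero E.c_ne_zero) e1
    have hXunit : IsUnit X := by
      apply IsUnit.of_mul_eq_one (Pi * Hi * Pm)
      rw [hX]
      calc Pi * H * Pm * (Pi * Hi * Pm) = Pi * (H * ((Pm * Pi) * Hi)) * Pm := by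
            simp only [Matrix.mul_assoc]
        _ = 1 := by rw [hPPi, Matrix.one_mul, hHHi, Matrix.mul_one, hPiP]
    have hX0 : X ≠ 0 := by
      intro h0
      rw [h0] at hXunit
      have i₀ : Fin n := ⟨0, by omega⟩
      obtain ⟨u, hu⟩ := hXunit
      have h1 : (u : Matrix (Fin n) (Fin n) F) * ((u⁻¹ : (Matrix (Fin n) (Fin n) F)ˣ) :
          Matrix (Fin n) (Fin n) F) = 1 := by
        rw [← Units.val_mul, mul_inv_cancel, Units.val_one]
      rw [hu, Matrix.zero_mul] at h1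
      have := congrFun (congrFun h1 i₀) i₀
      simp at this
    obtain ⟨l, hl0, hl⟩ := AutPSL.exists_fixed_smul D.τ (by norm_num) (orderOf_tau D) X hX0 d hXτ
    have hlunit : IsUnit (l • X) := by
      obtain ⟨u, hu⟩ := hXunit
      apply IsUnit.of_mul_eq_one (l⁻¹ • ((u⁻¹ : (Matrix (Fin n) (Fin n) F)ˣ) :
        Matrix (Fin n) (Fin n) F))
      rw [← hu, Matrix.smul_mul, Matrix.mul_smul, smul_smul, mul_inv_cancel₀ hl0, one_smul,
        ← Units.val_mul, mul_inv_cancel, Units.val_one]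
    obtain ⟨k, hk⟩ := hι.exists_GL_map _ hl hlunit
    have hJ : Jhom ι P (Units.mk0 l⁻¹ (inv_ne_zero hl0), k) = (h : GL (Fin n) F) := by
      apply Units.ext
      rw [Jhom_val]
      change l⁻¹ • (_ * (k : Matrix (Fin n) (Fin n) K).map ι * _) = mt h
      rw [hk, ← hPm, ← hPi, ← hH, hX, Matrix.mul_smul, Matrix.smul_mul, smul_smul,
        inv_mul_cancel₀ hl0, one_smul]
      calc Pm * (Pi * H * Pm) * Pi = (Pm * Pi) * H * (Pm * Pi) := by
            simp only [Matrix.mul_assoc]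
        _ = H := by rw [hPPi, Matrix.one_mul, Matrix.mul_one]
    have hmem : (Units.mk0 l⁻¹ (inv_ne_zero hl0), k) ∈ G1 (q := q) ι P := by
      change Jhom ι P _ ∈ Cfsg.GU n F q
      rw [hJ]
      exact h.2
    refine ⟨⟨_, hmem⟩, ?_⟩
    rw [MonoidHom.comp_apply]
    congr 1
    apply Subtype.ext
    exact hJ
  · rintro ⟨x, rfl⟩
    refine Subgroup.mem_inf.2 ⟨⟨jG (q := q) ι P x, rfl⟩, ?_⟩
    rw [MonoidHom.comp_apply, hcomm, mt_jG, ← hPm, ← hPi]
    obtain ⟨kh, hkh⟩ : ∃ kh : Matrix (Fin n) (Fin n) F,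
        kh = (x.1.2 : Matrix (Fin n) (Fin n) K).map ι := ⟨_, rfl⟩
    obtain ⟨μ, hμ⟩ : ∃ μ : F, μ = ((x.1.1 : Fˣ) : F) := ⟨_, rfl⟩
    have hμ0 : μ ≠ 0 := by rw [hμ]; exact x.1.1.ne_zero
    have hkτ : kh.map D.τ = kh := by rw [hkh]; exact hι.tau_map _
    rw [← hkh, ← hμ]
    have e1 : mt g * (μ • (Pm * kh * Pi)).map D.τ =
        D.τ μ • (mt g * (Pm.map D.τ * kh * Pi.map D.τ)) := by
      rw [map_smul_tau, Matrix.map_mul, Matrix.map_mul, hkτ, Matrix.mul_smul]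
    have e2 : mt g * (Pm.map D.τ * kh * Pi.map D.τ) = Pm * kh * Pi * mt g := by
      calc mt g * (Pm.map D.τ * kh * Pi.map D.τ) = (mt g * Pm.map D.τ) * kh * Pi.map D.τ := by
            simp only [Matrix.mul_assoc]
        _ = Pm * kh * (E.c⁻¹ • Pi.map D.τ) := by
            rw [k1, Matrix.smul_mul, Matrix.smul_mul, Matrix.mul_smul]
        _ = Pm * kh * Pi * mt g := by rw [← k2]; simp only [Matrix.mul_assoc]
    refine ⟨D.τ μ * μ⁻¹, ?_⟩
    rw [e1, e2, Matrix.smul_mul, smul_smul, inv_mul_cancel_right₀ hμ0]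

/-- the centraliser of a graph involution is the projective similarity group of the form -/
theorem centralizer_iso (R : RData D ι E g P B) (hι : IsFix D ι) (hn : 3 ≤ n) :
    Nonempty (↥(Cfsg.inndiagPSU n F q ⊓ Subgroup.centralizer {gamU D g}) ≃*
      Cfsg.projQuot (Cfsg.Geo.similarityGroup (F := K)
        (PSLGraph.bf (B : Matrix (Fin n) (Fin n) K)))) := by
  have h1 : Cfsg.inndiagPSU n F q ⊓ Subgroup.centralizer {gamU D g} =
      ((cGU (n := n) (F := F) (q := q)).comp (jG (q := q) ι P)).range := by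
    rw [inndiagU_eq]
    exact centralizer_eq R hι hn
  exact ⟨(((MulEquiv.subgroupCongr h1).trans
    (QuotientGroup.quotientKerEquivRange _).symm).trans
    (QuotientGroup.quotientMulEquivOfEq (ker_eq R hι hn))).trans
    (QuotientGroup.quotientKerEquivOfSurjective _ (piG_surjective R hι))⟩

end data

end Cfsg.Agent.Lib.H11.PSUGraph
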