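import Cfsg.Agent.Lib.H11.PSUGraph3

/-!
# Involutory graph automorphisms of `PSU_n(q)` (part 4): conjugacy

Two graph involutions with descent data of the same sign are conjugate under `Inndiag` exactly when
the attached forms over the fixed field are similar; involutions of different signs are never
conjugate (in odd characteristic).
-/

set_option autoImplicit false
set_option linter.unusedSectionVars false

namespace Cfsg.Agent.Lib.H11.PSUGraph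

open Matrix Cfsg.Agent.Lib.H13 Cfsg.Agent.Lib.H13.AutPSU

variable {F : Type*} [Field F] {K : Type*} [Field K] {n q : ℕ}

theorem isConjUnder_symm {X : Type*} [Group X] {H : Subgroup X} {x y : X}
    (h : Cfsg.IsConjUnder H x y) : Cfsg.IsConjUnder H y x := by
  obtain ⟨k, hk, rfl⟩ := h
  exact ⟨k⁻¹, H.inv_mem hk, by group⟩

section data

variable {D : UF F q} {ι : K →+* F} {E : EDat D} {g g' : ↥(Cfsg.GU n F q)} {P P' : GL (Fin n) F}
  {B B' : GL (Fin n) K}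

theorem mt_gmapU_inv (D : UF F q) (h : ↥(Cfsg.GU n F q)) :
    mt (gmapU D.τ h)⁻¹ = (mt h)ᵀ := by
  rw [← map_inv, mt_gmapU, map_tau_mt, inv_inv]

/-- conjugacy in `Inndiag` in terms of matrices -/
theorem isConj_gamU_iff (D : UF F q) (hn : 3 ≤ n) (g g' : ↥(Cfsg.GU n F q)) :
    Cfsg.IsConjUnder (Cfsg.inndiagPSU n F q) (gamU D g) (gamU D g') ↔
      ∃ (h : ↥(Cfsg.GU n F q)) (d : F), mt h * mt g * (mt h)ᵀ = d • mt g' := by
  unfold Cfsg.IsConjUnder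
  rw [inndiagU_eq]
  constructor
  · rintro ⟨_, ⟨h, rfl⟩, heq⟩
    rw [conj_gamU, gamU_eq_iff D hn] at heq
    obtain ⟨d, hd⟩ := heq
    refine ⟨h, d, ?_⟩
    rw [mt_mul, mt_mul, mt_gmapU_inv] at hd
    exact hd
  · rintro ⟨h, d, hd⟩
    refine ⟨cGU h, ⟨h, rfl⟩, ?_⟩
    rw [conj_gamU, gamU_eq_iff D hn]
    refine ⟨d, ?_⟩
    rw [mt_mul, mt_mul, mt_gmapU_inv]
    exact hd

/-- similar forms give conjugate graph involutions -/
theorem conj_of_similar (R : RData D ι E g P B) (R' : RData D ι E g' P' B') (hι : IsFix D ι)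
    (hn : 3 ≤ n) (k : GL (Fin n) K) (a : K) (ha : a ≠ 0)
    (hB : (B' : Matrix (Fin n) (Fin n) K) = a • ((k : Matrix (Fin n) (Fin n) K)ᵀ *
      (B : Matrix (Fin n) (Fin n) K) * (k : Matrix (Fin n) (Fin n) K))) :
    Cfsg.IsConjUnder (Cfsg.inndiagPSU n F q) (gamU D g) (gamU D g') := by
  obtain ⟨Pm, hPm⟩ : ∃ Pm : Matrix (Fin n) (Fin n) F, Pm = (P : Matrix (Fin n) (Fin n) F) :=
    ⟨_, rfl⟩
  obtain ⟨Pi, hPi⟩ : ∃ Pi : Matrix (Fin n) (Fin n) F,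
      Pi = ((P⁻¹ : GL (Fin n) F) : Matrix (Fin n) (Fin n) F) := ⟨_, rfl⟩
  obtain ⟨Pm', hPm'⟩ : ∃ Pm' : Matrix (Fin n) (Fin n) F, Pm' = (P' : Matrix (Fin n) (Fin n) F) :=
    ⟨_, rfl⟩
  obtain ⟨Pi', hPi'⟩ : ∃ Pi' : Matrix (Fin n) (Fin n) F,
      Pi' = ((P'⁻¹ : GL (Fin n) F) : Matrix (Fin n) (Fin n) F) := ⟨_, rfl⟩
  obtain ⟨kh, hkh⟩ : ∃ kh : Matrix (Fin n) (Fin n) F,
      kh = (k : Matrix (Fin n) (Fin n) K).map ι := ⟨_, rfl⟩
  obtain ⟨ki, hki⟩ : ∃ ki : Matrix (Fin n) (Fin n) F,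
      ki = ((k⁻¹ : GL (Fin n) K) : Matrix (Fin n) (Fin n) K).map ι := ⟨_, rfl⟩
  obtain ⟨Bh, hBh⟩ : ∃ Bh : Matrix (Fin n) (Fin n) F,
      Bh = (B : Matrix (Fin n) (Fin n) K).map ι := ⟨_, rfl⟩
  obtain ⟨Bh', hBh'⟩ : ∃ Bh' : Matrix (Fin n) (Fin n) F,
      Bh' = (B' : Matrix (Fin n) (Fin n) K).map ι := ⟨_, rfl⟩
  have hPPi : Pm * Pi = 1 := by rw [hPm, hPi]; exact AutPSL.gl_mul_inv P
  have hPiP : Pi * Pm = 1 := by rw [hPm, hPi]; exact AutPSL.gl_inv_mul P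
  have hPPi' : Pm' * Pi' = 1 := by rw [hPm', hPi']; exact AutPSL.gl_mul_inv P'
  have hPiP' : Pi' * Pm' = 1 := by rw [hPm', hPi']; exact AutPSL.gl_inv_mul P'
  have hQQi' : Pm'.map D.τ * Pi'.map D.τ = 1 := by rw [hPm', hPi']; exact gl_map_mul_inv D P'
  have hQiQ' : Pi'.map D.τ * Pm'.map D.τ = 1 := by rw [hPm', hPi']; exact gl_map_inv_mul D P'
  have hkki : kh * ki = 1 := by
    rw [hkh, hki, ← Matrix.map_mul, AutPSL.gl_mul_inv, map_one_hom]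
  have hkik : ki * kh = 1 := by
    rw [hkh, hki, ← Matrix.map_mul, AutPSL.gl_inv_mul, map_one_hom]
  have hkτ : kh.map D.τ = kh := by rw [hkh]; exact hι.tau_map _
  have hkiτ : ki.map D.τ = ki := by rw [hki]; exact hι.tau_map _
  have hctki : ct D ki = kiᵀ := by rw [hki]; exact hι.ct_map _
  have hH : ct D Pm * Pm = E.e • Bh := by rw [hPm, hBh]; exact R.hPB
  have hH' : ct D Pm' * Pm' = E.e • Bh' := by rw [hPm', hBh']; exact R'.hPB
  have k1 : mt g * Pm.map D.τ = E.c⁻¹ • Pm := by rw [hPm]; exact R.key1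
  have k1' : mt g' * Pm'.map D.τ = E.c⁻¹ • Pm' := by rw [hPm']; exact R'.key1
  have hBB : Bh' = ι a • (khᵀ * Bh * kh) := by
    rw [hBh', hB, map_smul_hom, Matrix.map_mul, Matrix.map_mul, Matrix.transpose_map, hkh, hBh]
  have hιa : ι a ≠ 0 := (map_ne_zero ι).2 ha
  obtain ⟨ν, hν⟩ := D.nm_surj (ι a) (hι.tau_apply a) hιa
  have hν0 : ν ≠ 0 := by
    rintro rfl
    rw [zero_mul] at hν
    exact hιa hν.symm
  have hτν0 : D.τ ν ≠ 0 := (map_ne_zero_iff D.τ D.τ.injective).2 hν0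
  -- the conjugating unitary matrix
  obtain ⟨H, hHd⟩ : ∃ H : Matrix (Fin n) (Fin n) F, H = ν⁻¹ • (Pm' * ki * Pi) := ⟨_, rfl⟩
  obtain ⟨Hi, hHid⟩ : ∃ Hi : Matrix (Fin n) (Fin n) F, Hi = ν • (Pm * kh * Pi') := ⟨_, rfl⟩
  have hHHi : H * Hi = 1 := by
    rw [hHd, hHid, Matrix.smul_mul, Matrix.mul_smul, smul_smul, inv_mul_cancel₀ hν0, one_smul]
    calc Pm' * ki * Pi * (Pm * kh * Pi') = Pm' * (ki * ((Pi * Pm) * kh)) * Pi' := by
          simp only [Matrix.mul_assoc]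
      _ = 1 := by rw [hPiP, Matrix.one_mul, hkik, Matrix.mul_one, hPPi']
  have hHiH : Hi * H = 1 := mul_eq_one_comm.1 hHHi
  have hkBk : kiᵀ * Bh' * ki = ι a • Bh := by
    rw [hBB, Matrix.mul_smul, Matrix.smul_mul]
    congr 1
    calc kiᵀ * (khᵀ * Bh * kh) * ki = (kiᵀ * khᵀ) * Bh * (kh * ki) := by
          simp only [Matrix.mul_assoc]
      _ = Bh := by
          rw [← Matrix.transpose_mul, hkki, Matrix.transpose_one, Matrix.one_mul, Matrix.mul_one]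
  have hcH : ct D H * H = 1 := by
    rw [hHd, ct_smul, ct_mul, ct_mul, hctki, Matrix.smul_mul, Matrix.mul_smul, smul_smul]
    have e1 : ct D Pi * (kiᵀ * ct D Pm') * (Pm' * ki * Pi) =
        ct D Pi * (kiᵀ * (ct D Pm' * Pm') * ki) * Pi := by
      simp only [Matrix.mul_assoc]
    have e1b : ct D Pi * (kiᵀ * (ct D Pm' * Pm') * ki) * Pi = (E.e * ι a) • (ct D Pi * Bh * Pi) := by
      rw [hH', Matrix.mul_smul, Matrix.smul_mul, hkBk, smul_smul, Matrix.mul_smul,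
        Matrix.smul_mul]
    have e2 : D.τ (ν⁻¹) * ν⁻¹ * (E.e * ι a) = E.e := by
      rw [map_inv₀, ← hν]
      field_simp
    have e1c : E.e • (ct D Pi * Bh * Pi) = ct D Pi * (E.e • Bh) * Pi := by
      rw [Matrix.mul_smul, Matrix.smul_mul]
    rw [e1, e1b, smul_smul, e2, e1c, ← hH]
    calc ct D Pi * (ct D Pm * Pm) * Pi = (ct D Pi * ct D Pm) * (Pm * Pi) := by
          simp only [Matrix.mul_assoc]
      _ = 1 := by rw [← ct_mul, hPPi, ct_one, Matrix.one_mul]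
  obtain ⟨h, hh⟩ : ∃ h : ↥(Cfsg.GU n F q), mt h = H := by
    refine ⟨⟨mkGL H Hi hHHi hHiH, ?_⟩, rfl⟩
    rw [mem_GU_iff_ct (D := D)]
    exact hcH
  rw [isConj_gamU_iff D hn]
  refine ⟨h, D.τ ν * ν⁻¹, ?_⟩
  -- `Hᵀ = τ(H⁻¹)`
  have hHT : (mt h)ᵀ = Hi.map D.τ := by
    have h1 : mt h⁻¹ = Hi := by
      calc mt h⁻¹ = mt h⁻¹ * (H * Hi) := by rw [hHHi, Matrix.mul_one]
        _ = Hi := by rw [← Matrix.mul_assoc, ← hh, mt_inv_mul, Matrix.one_mul]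
    rw [← h1, ← mt_gmapU_inv D, ← map_inv, mt_gmapU]
  have hg' : mt g' = E.c⁻¹ • (Pm' * Pi'.map D.τ) := by
    calc mt g' = (mt g' * Pm'.map D.τ) * Pi'.map D.τ := by
          rw [Matrix.mul_assoc, hQQi', Matrix.mul_one]
      _ = _ := by rw [k1', Matrix.smul_mul]
  rw [hHT, hh, hHd, hHid, map_smul_tau, Matrix.map_mul, Matrix.map_mul, hkτ, Matrix.smul_mul,
    Matrix.smul_mul, Matrix.mul_smul, smul_smul, hg', smul_smul]
  have e3 : Pm' * ki * Pi * mt g * (Pm.map D.τ * kh * Pi'.map D.τ) =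
      Pm' * ki * (Pi * (mt g * Pm.map D.τ)) * kh * Pi'.map D.τ := by
    simp only [Matrix.mul_assoc]
  rw [e3, k1, Matrix.mul_smul, hPiP, Matrix.mul_smul, Matrix.mul_one, Matrix.smul_mul,
    Matrix.smul_mul, Matrix.mul_assoc Pm', hkik, Matrix.mul_one, smul_smul]
  congr 1
  ring

/-- conjugate graph involutions have similar forms -/
theorem similar_of_conj (R : RData D ι E g P B) (R' : RData D ι E g' P' B') (hι : IsFix D ι)
    (hn : 3 ≤ n)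
    (hconj : Cfsg.IsConjUnder (Cfsg.inndiagPSU n F q) (gamU D g) (gamU D g')) :
    ∃ (k : GL (Fin n) K) (a : K), a ≠ 0 ∧
      (k : Matrix (Fin n) (Fin n) K)ᵀ * (B' : Matrix (Fin n) (Fin n) K) *
        (k : Matrix (Fin n) (Fin n) K) = a • (B : Matrix (Fin n) (Fin n) K) := by
  obtain ⟨Pm, hPm⟩ : ∃ Pm : Matrix (Fin n) (Fin n) F, Pm = (P : Matrix (Fin n) (Fin n) F) :=
    ⟨_, rfl⟩
  obtain ⟨Pi, hPi⟩ : ∃ Pi : Matrix (Fin n) (Fin n) F,
      Pi = ((P⁻¹ : GL (Fin n) F) : Matrix (Fin n) (Fin n) F) := ⟨_, rfl⟩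
  obtain ⟨Pm', hPm'⟩ : ∃ Pm' : Matrix (Fin n) (Fin n) F, Pm' = (P' : Matrix (Fin n) (Fin n) F) :=
    ⟨_, rfl⟩
  obtain ⟨Pi', hPi'⟩ : ∃ Pi' : Matrix (Fin n) (Fin n) F,
      Pi' = ((P'⁻¹ : GL (Fin n) F) : Matrix (Fin n) (Fin n) F) := ⟨_, rfl⟩
  obtain ⟨Bh, hBh⟩ : ∃ Bh : Matrix (Fin n) (Fin n) F,
      Bh = (B : Matrix (Fin n) (Fin n) K).map ι := ⟨_, rfl⟩
  obtain ⟨Bh', hBh'⟩ : ∃ Bh' : Matrix (Fin n) (Fin n) F,
      Bh' = (B' : Matrix (Fin n) (Fin n) K).map ι := ⟨_, rfl⟩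
  have hPPi : Pm * Pi = 1 := by rw [hPm, hPi]; exact AutPSL.gl_mul_inv P
  have hPiP : Pi * Pm = 1 := by rw [hPm, hPi]; exact AutPSL.gl_inv_mul P
  have hPPi' : Pm' * Pi' = 1 := by rw [hPm', hPi']; exact AutPSL.gl_mul_inv P'
  have hPiP' : Pi' * Pm' = 1 := by rw [hPm', hPi']; exact AutPSL.gl_inv_mul P'
  have hH : ct D Pm * Pm = E.e • Bh := by rw [hPm, hBh]; exact R.hPB
  have hH' : ct D Pm' * Pm' = E.e • Bh' := by rw [hPm', hBh']; exact R'.hPB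
  have k1 : mt g * Pm.map D.τ = E.c⁻¹ • Pm := by rw [hPm]; exact R.key1
  have k2' : Pi' * mt g' = E.c⁻¹ • Pi'.map D.τ := by rw [hPi']; exact R'.key2
  rw [isConj_gamU_iff D hn] at hconj
  obtain ⟨h, d, hd⟩ := hconj
  obtain ⟨H, hHd⟩ : ∃ H : Matrix (Fin n) (Fin n) F, H = mt h := ⟨_, rfl⟩
  obtain ⟨Hi, hHid⟩ : ∃ Hi : Matrix (Fin n) (Fin n) F, Hi = mt h⁻¹ := ⟨_, rfl⟩
  have hHHi : H * Hi = 1 := by rw [hHd, hHid]; exact mt_mul_inv h
  have hHiH : Hi * H = 1 := by rw [hHd, hHid]; exact mt_inv_mul h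
  have hcH : ct D H * H = 1 := by rw [hHd]; exact ct_mt D h
  have hHT : Hᵀ = Hi.map D.τ := by
    rw [hHd, hHid, ← mt_gmapU_inv D, ← map_inv, mt_gmapU]
  rw [← hHd, hHT] at hd
  have hHτ : Hi.map D.τ * H.map D.τ = 1 := by
    rw [← Matrix.map_mul, hHiH, map_one_tau]
  -- `H g = d g' τ(H)`
  have hd2 : H * mt g = d • (mt g' * H.map D.τ) := by
    calc H * mt g = (H * mt g * Hi.map D.τ) * H.map D.τ := by
          rw [Matrix.mul_assoc (H * mt g), hHτ, Matrix.mul_one]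
      _ = _ := by rw [hd, Matrix.smul_mul]
  have i₀ : Fin n := ⟨0, by omega⟩
  have hd0 : d ≠ 0 := by
    rintro rfl
    rw [zero_smul] at hd2
    have h1 : Hi * (H * mt g) * mt g⁻¹ = 1 := by
      rw [← Matrix.mul_assoc, hHiH, Matrix.one_mul, mt_mul_inv]
    rw [hd2, Matrix.mul_zero, Matrix.zero_mul] at h1
    have := congrFun (congrFun h1 i₀) i₀
    simp at this
  obtain ⟨X, hX⟩ : ∃ X : Matrix (Fin n) (Fin n) F, X = Pi' * H * Pm := ⟨_, rfl⟩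
  have hXτ : X.map D.τ = d⁻¹ • X := by
    rw [hX, Matrix.map_mul, Matrix.map_mul]
    have e1 : Pi' * (H * mt g) * Pm.map D.τ = E.c⁻¹ • (Pi' * H * Pm) := by
      rw [Matrix.mul_assoc, Matrix.mul_assoc, k1, Matrix.mul_smul, Matrix.mul_smul,
        ← Matrix.mul_assoc]
    have e2 : Pi' * (d • (mt g' * H.map D.τ)) * Pm.map D.τ =
        (E.c⁻¹ * d) • (Pi'.map D.τ * H.map D.τ * Pm.map D.τ) := by
      rw [Matrix.mul_smul, ← Matrix.mul_assoc, k2', Matrix.smul_mul, Matrix.smul_mul,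
        Matrix.smul_mul, smul_smul, mul_comm]
    rw [hd2, e2] at e1
    have e3 := congrArg (fun Y => (E.c * d⁻¹) • Y) e1
    simp only [smul_smul] at e3
    have e4 : E.c * d⁻¹ * (E.c⁻¹ * d) = 1 := by
      field_simp [E.c_ne_zero]
    have e5 : E.c * d⁻¹ * E.c⁻¹ = d⁻¹ := by
      field_simp [E.c_ne_zero]
    rw [e4, e5, one_smul] at e3
    exact e3
  have hXunit : IsUnit X := by
    apply IsUnit.of_mul_eq_one (Pi * Hi * Pm')
    rw [hX]
    calc Pi' * H * Pm * (Pi * Hi * Pm') = Pi' * (H * ((Pm * Pi) * Hi)) * Pm' := by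
          simp only [Matrix.mul_assoc]
      _ = 1 := by rw [hPPi, Matrix.one_mul, hHHi, Matrix.mul_one, hPiP']
  have hX0 : X ≠ 0 := by
    intro h0
    rw [h0] at hXunit
    obtain ⟨u, hu⟩ := hXunit
    have h1 : (u : Matrix (Fin n) (Fin n) F) * ((u⁻¹ : (Matrix (Fin n) (Fin n) F)ˣ) :
        Matrix (Fin n) (Fin n) F) = 1 := by
      rw [← Units.val_mul, mul_inv_cancel, Units.val_one]
    rw [hu, Matrix.zero_mul] at h1
    have := congrFun (congrFun h1 i₀) i₀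
    simp at this
  obtain ⟨l, hl0, hl⟩ := AutPSL.exists_fixed_smul D.τ (by norm_num) (orderOf_tau D) X hX0 _ hXτ
  have hlunit : IsUnit (l • X) := by
    obtain ⟨u, hu⟩ := hXunit
    apply IsUnit.of_mul_eq_one (l⁻¹ • ((u⁻¹ : (Matrix (Fin n) (Fin n) F)ˣ) :
      Matrix (Fin n) (Fin n) F))
    rw [← hu, Matrix.smul_mul, Matrix.mul_smul, smul_smul, mul_inv_cancel₀ hl0, one_smul,
      ← Units.val_mul, mul_inv_cancel, Units.val_one]
  obtain ⟨k, hk⟩ := hι.exists_GL_map _ hl hlunit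
  obtain ⟨kh, hkh⟩ : ∃ kh : Matrix (Fin n) (Fin n) F,
      kh = (k : Matrix (Fin n) (Fin n) K).map ι := ⟨_, rfl⟩
  rw [← hkh] at hk
  have hctk : ct D kh = khᵀ := by rw [hkh]; exact hι.ct_map _
  have hfix : D.τ (l * D.τ l) = l * D.τ l := by rw [map_mul, D.hτ2, mul_comm]
  obtain ⟨a, ha⟩ := hι.exists_apply hfix
  have ha0 : a ≠ 0 := by
    rintro rfl
    rw [map_zero] at ha
    have h1 : D.τ l ≠ 0 := (map_ne_zero_iff D.τ D.τ.injective).2 hl0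
    exact mul_ne_zero hl0 h1 ha.symm
  refine ⟨k, a, ha0, ?_⟩
  apply Matrix.map_injective ι.injective
  change ((k : Matrix (Fin n) (Fin n) K)ᵀ * (B' : Matrix (Fin n) (Fin n) K) *
    (k : Matrix (Fin n) (Fin n) K)).map ι = (a • (B : Matrix (Fin n) (Fin n) K)).map ι
  rw [Matrix.map_mul, Matrix.map_mul, map_smul_hom, Matrix.transpose_map, ← hkh, ← hBh, ← hBh',
    ha]
  -- `P' k̂ = l H P`
  have hPk : Pm' * kh = l • (H * Pm) := by
    rw [hk, hX, Matrix.mul_smul]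
    congr 1
    calc Pm' * (Pi' * H * Pm) = (Pm' * Pi') * H * Pm := by simp only [Matrix.mul_assoc]
      _ = H * Pm := by rw [hPPi', Matrix.one_mul]
  have e6 : E.e • (khᵀ * Bh' * kh) = E.e • ((l * D.τ l) • Bh) := by
    calc E.e • (khᵀ * Bh' * kh) = ct D kh * (ct D Pm' * Pm') * kh := by
          rw [hH', hctk, Matrix.mul_smul, Matrix.smul_mul]
      _ = ct D (Pm' * kh) * (Pm' * kh) := by
          rw [ct_mul]
          simp only [Matrix.mul_assoc]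
      _ = (l * D.τ l) • (ct D Pm * (ct D H * H) * Pm) := by
          rw [hPk, ct_smul, ct_mul, Matrix.smul_mul, Matrix.mul_smul, smul_smul, mul_comm]
          simp only [Matrix.mul_assoc]
      _ = E.e • ((l * D.τ l) • Bh) := by
          rw [hcH, Matrix.mul_one, hH, smul_comm]
  exact smul_right_injective _ E.he e6

end data

/-- symmetric and skew-symmetric unitary matrices give non-conjugate graph involutions -/
theorem not_conj_sym_skew (D : UF F q) (hn : 3 ≤ n) (h2 : (2 : F) ≠ 0)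
    (g g' : ↥(Cfsg.GU n F q)) (hg : (mt g)ᵀ = mt g) (hg' : (mt g')ᵀ = -mt g') :
    ¬ Cfsg.IsConjUnder (Cfsg.inndiagPSU n F q) (gamU D g) (gamU D g') := by
  rw [isConj_gamU_iff D hn]
  rintro ⟨h, d, hd⟩
  have h1 : (mt h * mt g * (mt h)ᵀ)ᵀ = mt h * mt g * (mt h)ᵀ := by
    rw [Matrix.transpose_mul, Matrix.transpose_mul, Matrix.transpose_transpose, hg,
      Matrix.mul_assoc]
  have h3 : (2 : F) • (mt h * mt g * (mt h)ᵀ) = 0 := by
    have h4 : mt h * mt g * (mt h)ᵀ = -(mt h * mt g * (mt h)ᵀ) := by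
      conv_lhs => rw [← h1, hd, Matrix.transpose_smul, hg', smul_neg, ← hd]
    rw [two_smul]
    nth_rewrite 1 [h4]
    exact neg_add_cancel _
  have h5 : mt h * mt g * (mt h)ᵀ = 0 := (smul_eq_zero.1 h3).resolve_left h2
  have h6 : mt h⁻¹ * (mt h * mt g * (mt h)ᵀ) * (mt h⁻¹)ᵀ * mt g⁻¹ = 1 := by
    have e1 : mt h⁻¹ * (mt h * mt g * (mt h)ᵀ) * (mt h⁻¹)ᵀ =
        (mt h⁻¹ * mt h) * mt g * ((mt h)ᵀ * (mt h⁻¹)ᵀ) := by
      simp only [Matrix.mul_assoc]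
    rw [e1, mt_inv_mul, ← Matrix.transpose_mul, mt_inv_mul, Matrix.transpose_one, Matrix.one_mul,
      Matrix.mul_one, mt_mul_inv]
  rw [h5, Matrix.mul_zero, Matrix.zero_mul, Matrix.zero_mul] at h6
  have := congrFun (congrFun h6 ⟨0, by omega⟩) ⟨0, by omega⟩
  simp at this

end Cfsg.Agent.Lib.H11.PSUGraph
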