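import Cfsg.Agent.Lib.H11.PSUGraph4
import Cfsg.Agent.Lib.H11.PSLGraph8

/-!
# Involutory graph automorphisms of `PSU_n(q)` (part 5): transfer to `PSL_n` of the fixed field

The relation `RelAny D ι γ B` links an involutory graph automorphism `γ` of `PSU_n(q)` with the
involutory graph automorphism `gamF B` of `PSL_n(K)`, `K` the fixed field: it is total in both
directions, matches centralisers in the inner-diagonal groups up to isomorphism, and matches
conjugacy under the inner-diagonal groups.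
-/

set_option autoImplicit false
set_option linter.unusedSectionVars false

namespace Cfsg.Agent.Lib.H11.PSUGraph

open Matrix Cfsg.Agent.Lib.H13 Cfsg.Agent.Lib.H13.AutPSU Cfsg.Agent.Lib.H11.PSLGraph

variable {F : Type*} [Field F] {K : Type*} [Field K] {n q : ℕ}

section

variable {D : UF F q} {ι : K →+* F}

theorem Rel.rdata {E : EDat D} {γ : MulAut (Cfsg.PSU n F q)} {B : GL (Fin n) K}
    (h : Rel D ι E γ B) :
    ∃ (g : ↥(Cfsg.GU n F q)) (P : GL (Fin n) F), γ = gamU D g ∧ RData D ι E g P B ∧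
      (mt g)ᵀ = E.ε • mt g := by
  obtain ⟨g, P, h1, h2, -, h4, h5⟩ := h
  exact ⟨g, P, h1, ⟨h4, h5⟩, h2⟩

theorem Rel.symm_plus {γ : MulAut (Cfsg.PSU n F q)} {B : GL (Fin n) K}
    (h : Rel D ι (EDat.plus D) γ B) :
    (B : Matrix (Fin n) (Fin n) K)ᵀ = (B : Matrix (Fin n) (Fin n) K) := by
  obtain ⟨g, P, -, -, h3, -⟩ := h
  rw [EDat.plus_ε, one_smul, ← Matrix.transpose_map] at h3
  exact Matrix.map_injective ι.injective h3

theorem Rel.symm_minus {γ : MulAut (Cfsg.PSU n F q)} {B : GL (Fin n) K}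
    (h : Rel D ι (EDat.minus D) γ B) :
    (B : Matrix (Fin n) (Fin n) K)ᵀ = -(B : Matrix (Fin n) (Fin n) K) := by
  obtain ⟨g, P, -, -, h3, -⟩ := h
  rw [EDat.minus_ε, neg_smul, one_smul, ← Matrix.transpose_map] at h3
  apply Matrix.map_injective ι.injective
  change (B : Matrix (Fin n) (Fin n) K)ᵀ.map ι = (-(B : Matrix (Fin n) (Fin n) K)).map ι
  rw [h3]
  ext i j
  simp

end

variable (D : UF F q) (ι : K →+* F)

/-- the correspondence, for either sign -/
def RelAny (γ : MulAut (Cfsg.PSU n F q)) (B : GL (Fin n) K) : Prop :=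
  Rel D ι (EDat.plus D) γ B ∨ ((2 : F) ≠ 0 ∧ Rel D ι (EDat.minus D) γ B)

variable {D ι}

theorem two_ne_zero_of_hom (ι : K →+* F) (h2 : (2 : F) ≠ 0) : (2 : K) ≠ 0 := by
  intro h
  apply h2
  have := congrArg ι h
  rwa [map_ofNat, map_zero] at this

theorem RelAny.isGraph {γ : MulAut (Cfsg.PSU n F q)} {B : GL (Fin n) K}
    (h : RelAny D ι γ B) (hn : 3 ≤ n) : Cfsg.IsGraphAutClassPSU γ := by
  rcases h with h | ⟨-, h⟩ <;> exact h.isGraph hn

theorem RelAny.orderOf {γ : MulAut (Cfsg.PSU n F q)} {B : GL (Fin n) K}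
    (h : RelAny D ι γ B) (hn : 3 ≤ n) : orderOf γ = 2 := by
  rcases h with h | ⟨-, h⟩ <;> exact h.orderOf hn

theorem RelAny.symm_or {γ : MulAut (Cfsg.PSU n F q)} {B : GL (Fin n) K}
    (h : RelAny D ι γ B) :
    (B : Matrix (Fin n) (Fin n) K)ᵀ = (B : Matrix (Fin n) (Fin n) K) ∨
      (B : Matrix (Fin n) (Fin n) K)ᵀ = -(B : Matrix (Fin n) (Fin n) K) := by
  rcases h with h | ⟨-, h⟩
  · exact Or.inl h.symm_plus
  · exact Or.inr h.symm_minus

theorem RelAny.isGraph_gamF {γ : MulAut (Cfsg.PSU n F q)} {B : GL (Fin n) K}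
    (_h : RelAny D ι γ B) (hn : 3 ≤ n) : Cfsg.IsGraphAutClassPSL (gamF B) :=
  (isGraph_iff' _).2 ⟨hn, B, rfl⟩

theorem RelAny.orderOf_gamF {γ : MulAut (Cfsg.PSU n F q)} {B : GL (Fin n) K}
    (h : RelAny D ι γ B) (hn : 3 ≤ n) : _root_.orderOf (gamF B) = 2 :=
  (orderOf_gamF_eq_two_iff hn B).2 h.symm_or

/-- centralisers correspond -/
theorem RelAny.centralizer_sim {γ : MulAut (Cfsg.PSU n F q)} {B : GL (Fin n) K}
    (h : RelAny D ι γ B) (hι : IsFix D ι) (hn : 3 ≤ n) :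
    Nonempty (↥(Cfsg.inndiagPSU n F q ⊓ Subgroup.centralizer {γ}) ≃*
      Cfsg.projQuot (Cfsg.Geo.similarityGroup (F := K)
        (bf (B : Matrix (Fin n) (Fin n) K)))) := by
  rcases h with h | ⟨-, h⟩
  · obtain ⟨g, P, rfl, R, -⟩ := h.rdata
    exact centralizer_iso R hι hn
  · obtain ⟨g, P, rfl, R, -⟩ := h.rdata
    exact centralizer_iso R hι hn

/-- centralisers correspond -/
theorem RelAny.centralizer {γ : MulAut (Cfsg.PSU n F q)} {B : GL (Fin n) K}
    (h : RelAny D ι γ B) (hι : IsFix D ι) (hn : 3 ≤ n) :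
    Nonempty (↥(Cfsg.inndiagPSU n F q ⊓ Subgroup.centralizer {γ}) ≃*
      ↥(Cfsg.inndiagPSL n K ⊓ Subgroup.centralizer {gamF B})) := by
  obtain ⟨e1⟩ := h.centralizer_sim hι hn
  obtain ⟨e2⟩ := centralizer_equiv hn B
  exact ⟨e1.trans e2.symm⟩

theorem conj_iff_of_rel {E : EDat D} {γ γ' : MulAut (Cfsg.PSU n F q)} {B B' : GL (Fin n) K}
    (h : Rel D ι E γ B) (h' : Rel D ι E γ' B') (hι : IsFix D ι) (hn : 3 ≤ n) :
    Cfsg.IsConjUnder (Cfsg.inndiagPSU n F q) γ γ' ↔
      Cfsg.IsConjUnder (Cfsg.inndiagPSL n K) (gamF B) (gamF B') := by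
  obtain ⟨g, P, rfl, R, -⟩ := h.rdata
  obtain ⟨g', P', rfl, R', -⟩ := h'.rdata
  constructor
  · intro hc
    obtain ⟨k, a, ha, hk⟩ := similar_of_conj R R' hι hn hc
    apply isConjUnder_symm
    rw [isConj_gamF_iff hn]
    refine ⟨k, a⁻¹, inv_ne_zero ha, ?_⟩
    rw [hk, smul_smul, inv_mul_cancel₀ ha, one_smul]
  · intro hc
    rw [isConj_gamF_iff hn] at hc
    obtain ⟨k, a, ha, hk⟩ := hc
    exact conj_of_similar R R' hι hn k a ha hk

/-- conjugacy corresponds -/
theorem RelAny.conj_iff {γ γ' : MulAut (Cfsg.PSU n F q)} {B B' : GL (Fin n) K}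
    (h : RelAny D ι γ B) (h' : RelAny D ι γ' B') (hι : IsFix D ι) (hn : 3 ≤ n) :
    Cfsg.IsConjUnder (Cfsg.inndiagPSU n F q) γ γ' ↔
      Cfsg.IsConjUnder (Cfsg.inndiagPSL n K) (gamF B) (gamF B') := by
  rcases h with h | ⟨h2, h⟩ <;> rcases h' with h' | ⟨h2', h'⟩
  · exact conj_iff_of_rel h h' hι hn
  · have hB := h.symm_plus
    have hB' := h'.symm_minus
    obtain ⟨g, P, rfl, -, hg⟩ := h.rdata
    obtain ⟨g', P', rfl, -, hg'⟩ := h'.rdata
    rw [EDat.plus_ε, one_smul] at hg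
    rw [EDat.minus_ε, neg_smul, one_smul] at hg'
    constructor
    · intro hc
      exact absurd hc (not_conj_sym_skew D hn h2' g g' hg hg')
    · intro hc
      exact absurd (isConjUnder_symm hc)
        (not_conj_skew_sym (two_ne_zero_of_hom ι h2') hn B' B hB' hB)
  · have hB := h.symm_minus
    have hB' := h'.symm_plus
    obtain ⟨g, P, rfl, -, hg⟩ := h.rdata
    obtain ⟨g', P', rfl, -, hg'⟩ := h'.rdata
    rw [EDat.minus_ε, neg_smul, one_smul] at hg
    rw [EDat.plus_ε, one_smul] at hg'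
    constructor
    · intro hc
      exact absurd (isConjUnder_symm hc) (not_conj_sym_skew D hn h2 g' g hg' hg)
    · intro hc
      exact absurd hc (not_conj_skew_sym (two_ne_zero_of_hom ι h2) hn B B' hB hB')
  · exact conj_iff_of_rel h h' hι hn

/-- every involutory graph automorphism of `PSU_n(q)` has a partner -/
theorem exists_relAny [Fintype F] (p : ℕ) [Fact p.Prime] [CharP F p] (hι : IsFix D ι)
    (hn : 3 ≤ n) (γ : MulAut (Cfsg.PSU n F q)) (hγ : Cfsg.IsGraphAutClassPSU γ)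
    (hγ2 : _root_.orderOf γ = 2) : ∃ B : GL (Fin n) K, RelAny D ι γ B := by
  obtain ⟨g, rfl⟩ := exists_gamU D p hn γ hγ hγ2
  rcases (orderOf_gamU_eq_two_iff D hn g).1 hγ2 with hg | hg
  · obtain ⟨B, hB⟩ := exists_rel_of_gamU hι (EDat.plus D) g (by rw [EDat.plus_ε, one_smul, hg])
    exact ⟨B, Or.inl hB⟩
  · by_cases h2 : (2 : F) = 0
    · have hneg : -mt g = mt g := by
        have : (2 : F) • mt g = 0 := by rw [h2, zero_smul]
        rw [two_smul] at this
        exact neg_eq_of_add_eq_zero_left this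
      obtain ⟨B, hB⟩ := exists_rel_of_gamU hι (EDat.plus D) g
        (by rw [EDat.plus_ε, one_smul, hg, hneg])
      exact ⟨B, Or.inl hB⟩
    · obtain ⟨B, hB⟩ := exists_rel_of_gamU hι (EDat.minus D) g
        (by rw [EDat.minus_ε, neg_smul, one_smul, hg])
      exact ⟨B, Or.inr ⟨h2, hB⟩⟩

/-- every symmetric or skew-symmetric form over the fixed field has a partner -/
theorem exists_relAny_of_form [Fintype F] (hι : IsFix D ι) (B : GL (Fin n) K)
    (hB : (B : Matrix (Fin n) (Fin n) K)ᵀ = (B : Matrix (Fin n) (Fin n) K) ∨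
      (B : Matrix (Fin n) (Fin n) K)ᵀ = -(B : Matrix (Fin n) (Fin n) K)) :
    ∃ γ : MulAut (Cfsg.PSU n F q), RelAny D ι γ B := by
  have hplus : (B : Matrix (Fin n) (Fin n) K)ᵀ = (B : Matrix (Fin n) (Fin n) K) →
      ∃ γ : MulAut (Cfsg.PSU n F q), RelAny D ι γ B := by
    intro h
    obtain ⟨γ, hγ⟩ := exists_rel_of_form hι (EDat.plus D) B
      (by rw [EDat.plus_ε, one_smul, ← Matrix.transpose_map, h])
    exact ⟨γ, Or.inl hγ⟩
  rcases hB with h | h
  · exact hplus h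
  · by_cases h2 : (2 : F) = 0
    · apply hplus
      have h2K : (2 : K) = 0 := by
        apply ι.injective
        rw [map_ofNat, map_zero, h2]
      have : (2 : K) • (B : Matrix (Fin n) (Fin n) K) = 0 := by rw [h2K, zero_smul]
      rw [two_smul] at this
      rw [h]
      exact neg_eq_of_add_eq_zero_left this
    · obtain ⟨γ, hγ⟩ := exists_rel_of_form hι (EDat.minus D) B
        (by
          rw [EDat.minus_ε, neg_smul, one_smul, ← Matrix.transpose_map, h]
          ext i j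
          simp)
      exact ⟨γ, Or.inr ⟨h2, hγ⟩⟩

/-- every involutory graph automorphism of `PSL_n(K)` has a partner -/
theorem exists_relAny_of_graph [Fintype F] (hι : IsFix D ι) (hn : 3 ≤ n)
    (β : MulAut (Matrix.ProjectiveSpecialLinearGroup (Fin n) K))
    (hβ : Cfsg.IsGraphAutClassPSL β) (hβ2 : _root_.orderOf β = 2) :
    ∃ (γ : MulAut (Cfsg.PSU n F q)) (B : GL (Fin n) K), β = gamF B ∧ RelAny D ι γ B := by
  obtain ⟨-, B, rfl⟩ := (isGraph_iff' β).1 hβ
  obtain ⟨γ, hγ⟩ := exists_relAny_of_form (D := D) hι B ((orderOf_gamF_eq_two_iff hn B).1 hβ2)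
  exact ⟨γ, B, rfl, hγ⟩

end Cfsg.Agent.Lib.H11.PSUGraph
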