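import Cfsg.Agent.Lib.H11.PSUGraph5

/-!
# Involutory graph automorphisms of `PSU_n(q)` (part 6): setting up the fields
-/

set_option autoImplicit false
set_option linter.unusedSectionVars false

namespace Cfsg.Agent.Lib.H11.PSUGraph

open Matrix Cfsg.Agent.Lib.H13 Cfsg.Agent.Lib.H13.AutPSU

variable {F : Type*} [Field F] [Fintype F] {q : ℕ}

theorem exists_prime_pow (hF : Fintype.card F = q ^ 2) :
    ∃ p f : ℕ, p.Prime ∧ q = p ^ f := by
  obtain ⟨p, -, k, hp, hk⟩ := FiniteField.card' F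
  have h1 : q ∣ p ^ (k : ℕ) := by
    rw [← hk, hF]
    exact dvd_pow_self q (by norm_num)
  obtain ⟨m, -, hm⟩ := (Nat.dvd_prime_pow hp).1 h1
  exact ⟨p, m, hp, hm⟩

/-- an embedding of a field with `q` elements onto the fixed field of `τ` -/
theorem exists_iota (D : UF F q) (hF : Fintype.card F = q ^ 2) (F₀ : Type*) [Field F₀]
    [Fintype F₀] (hF₀ : Fintype.card F₀ = q) : ∃ ι : F₀ →+* F, IsFix D ι := by
  classical
  have h1 := AutPSL.card_fixF D.τ (r := 2) (by norm_num) (orderOf_tau D)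
  rw [hF] at h1
  have h2 : Nat.card (AutPSL.fixF D.τ) = q := Nat.pow_left_injective (n := 2) (by norm_num) h1
  let _ : Fintype (AutPSL.fixF D.τ) := Fintype.ofFinite _
  have h3 : Fintype.card F₀ = Fintype.card (AutPSL.fixF D.τ) := by
    rw [hF₀, ← Nat.card_eq_fintype_card, h2]
  let e : F₀ ≃+* AutPSL.fixF D.τ := FiniteField.ringEquivOfCardEq h3
  refine ⟨(AutPSL.fixF D.τ).subtype.comp (e : F₀ →+* AutPSL.fixF D.τ), ?_⟩
  intro x
  rw [← AutPSL.mem_fixF_iff]
  constructor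
  · intro hx
    refine ⟨e.symm ⟨x, hx⟩, ?_⟩
    simp
  · rintro ⟨k, rfl⟩
    simp

end Cfsg.Agent.Lib.H11.PSUGraph
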