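import Cfsg.Agent.Lib.H11.PSUGraph6
import Cfsg.Agent.Lib.H11.PSLGraph9

/-!
# Involutory graph automorphisms of `PSU_n(q)` (part 7): determinants of similitudes

Refinements of the determinant computations of `PSLGraph9` keeping track of the multiplier, and the
determinant of the image of `G1` in `GU`.
-/

set_option autoImplicit false
set_option linter.unusedSectionVars false

namespace Cfsg.Agent.Lib.H11.PSUGraph

open Matrix Cfsg.Agent.Lib.H13 Cfsg.Agent.Lib.H13.AutPSU Cfsg.Agent.Lib.H11.PSLGraph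

section forms

variable {K : Type*} [Field K] {n : ℕ}

/-- the determinant of a similitude of a non-degenerate alternating form -/
theorem det_of_sim_skew (h2 : (2 : K) ≠ 0) (m : ℕ) (hnm : n = 2 * m) (B : GL (Fin n) K)
    (hB : (B : Matrix (Fin n) (Fin n) K)ᵀ = -(B : Matrix (Fin n) (Fin n) K)) (k : GL (Fin n) K)
    (ν : K) (hν : ν ≠ 0)
    (h : (k : Matrix (Fin n) (Fin n) K)ᵀ * (B : Matrix (Fin n) (Fin n) K) *
      (k : Matrix (Fin n) (Fin n) K) = ν • (B : Matrix (Fin n) (Fin n) K)) :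
    (k : Matrix (Fin n) (Fin n) K).det = ν ^ m := by
  obtain ⟨e, he⟩ := exists_symp_equiv h2 m hnm B hB
  have h1 : ∀ u v, Cfsg.sympForm m K (((glCongr e k : GL (Fin m ⊕ Fin m) K) : Matrix _ _ K) *ᵥ u)
      (((glCongr e k : GL (Fin m ⊕ Fin m) K) : Matrix _ _ K) *ᵥ v) =
      ((Units.mk0 ν hν : Kˣ) : K) * Cfsg.sympForm m K u v := by
    intro u' v'
    obtain ⟨u, rfl⟩ := e.surjective u'
    obtain ⟨v, rfl⟩ := e.surjective v'
    rw [glCongr_mulVec, glCongr_mulVec, he, he, bf_mulVec, h, bf_smul, Units.val_mk0]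
  have h3 := det_of_mem_GSp m (glCongr e k) (Units.mk0 ν hν) h1
  rw [det_glCongr] at h3
  have h4 := congrArg Units.val h3
  rw [Matrix.GeneralLinearGroup.val_det_apply, Units.val_pow_eq_pow_val, Units.val_mk0] at h4
  exact h4

/-- similitudes of a non-degenerate alternating form with prescribed multiplier -/
theorem exists_sim_mult_skew (h2 : (2 : K) ≠ 0) (m : ℕ) (hnm : n = 2 * m) (B : GL (Fin n) K)
    (hB : (B : Matrix (Fin n) (Fin n) K)ᵀ = -(B : Matrix (Fin n) (Fin n) K)) (c : Kˣ) :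
    ∃ k : GL (Fin n) K, (k : Matrix (Fin n) (Fin n) K)ᵀ * (B : Matrix (Fin n) (Fin n) K) *
      (k : Matrix (Fin n) (Fin n) K) = (c : K) • (B : Matrix (Fin n) (Fin n) K) := by
  obtain ⟨e, he⟩ := exists_symp_equiv h2 m hnm B hB
  refine ⟨(glCongr e).symm (diSGL m c), ?_⟩
  apply bf_ext
  intro u v
  rw [← bf_mulVec, ← he, glCongr_symm_mulVec, glCongr_symm_mulVec, bf_smul, ← he]
  have h1 := (symp_sim_iff m (diS m (c : K)) (c : K)).2 (diS_J m (c : K)) (e u) (e v)
  exact h1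

/-- similitudes of a non-degenerate symmetric form of even dimension with prescribed multiplier -/
theorem exists_sim_mult_sym [Fintype K] (h2 : (2 : K) ≠ 0) (m : ℕ) (hnm : n = 2 * m)
    (B : GL (Fin n) K)
    (hB : (B : Matrix (Fin n) (Fin n) K)ᵀ = (B : Matrix (Fin n) (Fin n) K)) (c : Kˣ) :
    ∃ k : GL (Fin n) K, (k : Matrix (Fin n) (Fin n) K)ᵀ * (B : Matrix (Fin n) (Fin n) K) *
      (k : Matrix (Fin n) (Fin n) K) = (c : K) • (B : Matrix (Fin n) (Fin n) K) := by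
  have hpow : ∀ c : K, c ^ n = (c ^ m) ^ 2 := by
    intro c
    have : c ^ n = c ^ (2 * m) := congrArg (fun j => c ^ j) hnm
    rw [this, mul_comm, pow_mul]
  have hdc : ((c : K) • (B : Matrix (Fin n) (Fin n) K)).det ≠ 0 := by
    rw [Matrix.det_smul]
    exact mul_ne_zero (pow_ne_zero _ c.ne_zero) (det_gl_ne_zero B)
  obtain ⟨g, hg⟩ := sym_congr h2 m hnm
    (Matrix.GeneralLinearGroup.mkOfDetNeZero ((c : K) • (B : Matrix (Fin n) (Fin n) K)) hdc) B
    (by
      show ((c : K) • (B : Matrix (Fin n) (Fin n) K))ᵀ = (c : K) • (B : Matrix (Fin n) (Fin n) K)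
      rw [Matrix.transpose_smul, hB]) hB
    (by
      show IsSquare ((-1 : K) ^ m * ((c : K) • (B : Matrix (Fin n) (Fin n) K)).det) ↔ _
      rw [Matrix.det_smul, Fintype.card_fin, hpow]
      have : (-1 : K) ^ m * (((c : K) ^ m) ^ 2 * (B : Matrix (Fin n) (Fin n) K).det) =
          (c : K) ^ m * (c : K) ^ m * ((-1 : K) ^ m * (B : Matrix (Fin n) (Fin n) K).det) := by
        ring
      rw [this, Cfsg.Agent.Lib.H13.isSquare_sq_mul_iff _ _ (pow_ne_zero _ c.ne_zero)])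
  exact ⟨g, hg.symm⟩

end forms

section det

variable {F : Type*} [Field F] {K : Type*} [Field K] {n q : ℕ}
variable {D : UF F q} {ι : K →+* F} {E : EDat D} {g : ↥(Cfsg.GU n F q)} {P : GL (Fin n) F}
  {B : GL (Fin n) K}

/-- the determinant of the image of an element of `G1` -/
theorem det_jG (x : ↥(G1 (q := q) ι P)) :
    ((((detN D (jG (q := q) ι P x) : ↥(N1 F q)) : Fˣ) : F)) =
      ((x.1.1 : Fˣ) : F) ^ n * ι ((x.1.2 : Matrix (Fin n) (Fin n) K).det) := by
  rw [detN_coe]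
  change (mt (jG (q := q) ι P x)).det = _
  rw [mt_jG, Matrix.det_smul, Fintype.card_fin, Matrix.det_mul, Matrix.det_mul]
  have h1 : (P : Matrix (Fin n) (Fin n) F).det *
      ((P⁻¹ : GL (Fin n) F) : Matrix (Fin n) (Fin n) F).det = 1 := by
    rw [← Matrix.det_mul, AutPSL.gl_mul_inv, Matrix.det_one]
  have h2 : ((x.1.2 : Matrix (Fin n) (Fin n) K).map ι).det =
      ι ((x.1.2 : Matrix (Fin n) (Fin n) K).det) := by
    rw [RingHom.map_det]
    rfl
  rw [h2]
  linear_combination ((x.1.1 : Fˣ) : F) ^ n * ι ((x.1.2 : Matrix (Fin n) (Fin n) K).det) * h1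

/-- the multiplier of the second component of an element of `G1` -/
theorem G1_mult (R : RData D ι E g P B) (hι : IsFix D ι) (x : Fˣ × GL (Fin n) K)
    (hx : x ∈ G1 (q := q) ι P) :
    ∃ a : K, a ≠ 0 ∧ ι a = ((x.1 : Fˣ) : F) * D.τ ((x.1 : Fˣ) : F) ∧
      (x.2 : Matrix (Fin n) (Fin n) K)ᵀ * (B : Matrix (Fin n) (Fin n) K) *
        (x.2 : Matrix (Fin n) (Fin n) K) = a⁻¹ • (B : Matrix (Fin n) (Fin n) K) := by
  rw [mem_G1_iff R hι] at hx
  have hfix : D.τ (((x.1 : Fˣ) : F) * D.τ ((x.1 : Fˣ) : F)) =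
      ((x.1 : Fˣ) : F) * D.τ ((x.1 : Fˣ) : F) := by
    rw [map_mul, D.hτ2, mul_comm]
  obtain ⟨a, ha⟩ := hι.exists_apply hfix
  have ha0 : a ≠ 0 := by
    rintro rfl
    rw [map_zero] at ha
    have h1 : D.τ ((x.1 : Fˣ) : F) ≠ 0 := (map_ne_zero_iff D.τ D.τ.injective).2 x.1.ne_zero
    exact mul_ne_zero x.1.ne_zero h1 ha.symm
  refine ⟨a, ha0, ha, ?_⟩
  have h2 : (a • ((x.2 : Matrix (Fin n) (Fin n) K)ᵀ * (B : Matrix (Fin n) (Fin n) K) *
      (x.2 : Matrix (Fin n) (Fin n) K))).map ι = (B : Matrix (Fin n) (Fin n) K).map ι := by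
    rw [map_smul_hom, Matrix.map_mul, Matrix.map_mul, ha, Matrix.transpose_map]
    exact hx
  have h3 := Matrix.map_injective ι.injective h2
  conv_rhs => rw [← h3]
  rw [smul_smul, inv_mul_cancel₀ ha0, one_smul]

/-- membership in `G1` from a similitude and a compatible scalar -/
theorem mem_G1_of_mult (R : RData D ι E g P B) (hι : IsFix D ι) (μ : Fˣ) (k : GL (Fin n) K)
    (a : K) (ha : ι a * ((μ : F) * D.τ (μ : F)) = 1)
    (hk : (k : Matrix (Fin n) (Fin n) K)ᵀ * (B : Matrix (Fin n) (Fin n) K) *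
      (k : Matrix (Fin n) (Fin n) K) = a • (B : Matrix (Fin n) (Fin n) K)) :
    (μ, k) ∈ G1 (q := q) ι P := by
  rw [mem_G1_iff R hι]
  change ((μ : F) * D.τ (μ : F)) • (((k : Matrix (Fin n) (Fin n) K).map ι)ᵀ *
    (B : Matrix (Fin n) (Fin n) K).map ι * (k : Matrix (Fin n) (Fin n) K).map ι) = _
  rw [← Matrix.transpose_map, ← Matrix.map_mul, ← Matrix.map_mul, hk, map_smul_hom, smul_smul,
    mul_comm, ha, one_smul]

end det

end Cfsg.Agent.Lib.H11.PSUGraph
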