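import Cfsg.Agent.Lib.H11.PSUGraph7

/-!
# Involutory graph automorphisms of `PSU_n(q)` (part 8): the determinants of the centraliser

The range of the determinant on the preimage `G1` of the centraliser of a graph involution, in the
norm-one group `N1`, according to the type of the form over the fixed field.
-/

set_option autoImplicit false
set_option linter.unusedSectionVars false

namespace Cfsg.Agent.Lib.H11.PSUGraph

open Matrix Cfsg.Agent.Lib.H13 Cfsg.Agent.Lib.H13.AutPSU Cfsg.Agent.Lib.H11.PSLGraph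

variable {F : Type*} [Field F] {K : Type*} [Field K] {n q : ℕ}

section N1

variable (D : UF F q)

/-- build an element of the norm-one group -/
noncomputable def mkN1 (ρ : F) (h : ρ * D.τ ρ = 1) : ↥(N1 F q) :=
  ⟨Units.mk0 ρ (by
    rintro rfl
    rw [zero_mul] at h
    exact zero_ne_one h), (mem_N1 D).2 h⟩

theorem mkN1_coe (ρ : F) (h : ρ * D.τ ρ = 1) : (((mkN1 D ρ h : ↥(N1 F q)) : Fˣ) : F) = ρ := rfl

theorem N1_ext {a b : ↥(N1 F q)} (h : ((a : Fˣ) : F) = ((b : Fˣ) : F)) : a = b :=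
  Subtype.ext (Units.ext h)

theorem N1_coe_pow (a : ↥(N1 F q)) (k : ℕ) :
    (((a ^ k : ↥(N1 F q)) : Fˣ) : F) = ((a : Fˣ) : F) ^ k := by
  rw [SubgroupClass.coe_pow, Units.val_pow_eq_pow_val]

theorem N1_coe_mul (a b : ↥(N1 F q)) :
    (((a * b : ↥(N1 F q)) : Fˣ) : F) = ((a : Fˣ) : F) * ((b : Fˣ) : F) := by
  rw [Subgroup.coe_mul, Units.val_mul]

theorem N1_norm (a : ↥(N1 F q)) : ((a : Fˣ) : F) * D.τ ((a : Fˣ) : F) = 1 := (mem_N1 D).1 a.2

theorem N1_pow_card (a : ↥(N1 F q)) : a ^ (q + 1) = 1 := by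
  have h := a.2
  rw [MonoidHom.mem_ker, powMonoidHom_apply] at h
  apply Subtype.ext
  rw [SubgroupClass.coe_pow]
  exact h

/-- every element of `N1` is `l / τ l` -/
theorem exists_div_tau (a : ↥(N1 F q)) :
    ∃ l : F, l ≠ 0 ∧ ((a : Fˣ) : F) * D.τ l = l := by
  apply AutPSL.hilbert90_scalar D.τ (by norm_num) (orderOf_tau D)
  have := N1_norm D a
  simpa [AutPSL.Nm, Finset.prod_range_succ] using this

end N1

section ranges

variable {D : UF F q} {ι : K →+* F} {E : EDat D} {g : ↥(Cfsg.GU n F q)} {P : GL (Fin n) F}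
  {B : GL (Fin n) K}

variable (D ι P) in
/-- the determinant on `G1` -/
noncomputable def dj : ↥(G1 (q := q) ι P) →* ↥(N1 F q) := (detN D).comp (jG (q := q) ι P)

theorem dj_coe (x : ↥(G1 (q := q) ι P)) :
    (((dj D ι P x : ↥(N1 F q)) : Fˣ) : F) =
      ((x.1.1 : Fˣ) : F) ^ n * ι ((x.1.2 : Matrix (Fin n) (Fin n) K).det) :=
  det_jG (D := D) x

/-- odd degree: all determinants are `n`-th powers -/
theorem range_dj_le_odd (R : RData D ι E g P B) (hι : IsFix D ι) (m : ℕ) (hnm : n = 2 * m + 1) :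
    (dj D ι P).range ≤ (powMonoidHom n : ↥(N1 F q) →* ↥(N1 F q)).range := by
  rintro _ ⟨x, rfl⟩
  obtain ⟨a, ha0, ha, hk⟩ := G1_mult R hι x.1 x.2
  have hdet := det_sq_of_sim B x.1.2 a⁻¹ hk
  obtain ⟨d, hd⟩ : ∃ d : K, d = (x.1.2 : Matrix (Fin n) (Fin n) K).det := ⟨_, rfl⟩
  obtain ⟨μ, hμ⟩ : ∃ μ : F, μ = ((x.1.1 : Fˣ) : F) := ⟨_, rfl⟩
  rw [← hd] at hdet
  rw [← hμ] at ha
  obtain ⟨s, hs⟩ : ∃ s : K, s = d * a ^ m := ⟨_, rfl⟩
  have hs2 : a * (s * s) = 1 := by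
    calc a * (s * s) = a * d ^ 2 * (a ^ m) ^ 2 := by rw [hs]; ring
      _ = a * (a⁻¹) ^ (2 * m + 1) * (a ^ m) ^ 2 := by rw [hdet, hnm]
      _ = 1 := by
          rw [inv_pow]
          field_simp
          ring
  have hss : s * s = a⁻¹ := eq_inv_of_mul_eq_one_right hs2
  have hsn : s ^ n = d := by
    have h1 : (a⁻¹) ^ m * a ^ m = 1 := by rw [← mul_pow, inv_mul_cancel₀ ha0, one_pow]
    calc s ^ n = (s * s) ^ m * s := by rw [hnm]; ring
      _ = d * ((a⁻¹) ^ m * a ^ m) := by rw [hss, hs]; ring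
      _ = d := by rw [h1, mul_one]
  have hρ : (μ * ι s) * D.τ (μ * ι s) = 1 := by
    rw [map_mul, hι.tau_apply]
    calc μ * ι s * (D.τ μ * ι s) = (μ * D.τ μ) * ι (s * s) := by rw [map_mul]; ring
      _ = 1 := by rw [← ha, ← map_mul, hs2, map_one]
  refine ⟨mkN1 D (μ * ι s) hρ, ?_⟩
  apply N1_ext
  rw [powMonoidHom_apply, N1_coe_pow, mkN1_coe, dj_coe, ← hμ, ← hd, mul_pow, ← map_pow, hsn]

/-- the quotient `μ / τ μ` as an element of `N1` -/
noncomputable def divTau (D : UF F q) (μ : F) (hμ : μ ≠ 0) : ↥(N1 F q) :=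
  mkN1 D (μ * (D.τ μ)⁻¹) (by
    have h1 : D.τ μ ≠ 0 := (map_ne_zero_iff D.τ D.τ.injective).2 hμ
    rw [map_mul, map_inv₀, D.hτ2]
    field_simp)

theorem divTau_coe (D : UF F q) (μ : F) (hμ : μ ≠ 0) :
    (((divTau D μ hμ : ↥(N1 F q)) : Fˣ) : F) = μ * (D.τ μ)⁻¹ := rfl

/-- if `det k = ν ^ m` for the second component, the determinant is `(μ / τ μ) ^ m` -/
theorem dj_eq_pow (m : ℕ) (hnm : n = 2 * m) (x : ↥(G1 (q := q) ι P)) (a : K) (_ha0 : a ≠ 0)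
    (ha : ι a = ((x.1.1 : Fˣ) : F) * D.τ ((x.1.1 : Fˣ) : F))
    (hdet : (x.1.2 : Matrix (Fin n) (Fin n) K).det = (a⁻¹) ^ m) :
    dj D ι P x = divTau D ((x.1.1 : Fˣ) : F) x.1.1.ne_zero ^ m := by
  apply N1_ext
  rw [dj_coe, N1_coe_pow, divTau_coe, hdet, map_pow, map_inv₀, ha]
  have h1 : ((x.1.1 : Fˣ) : F) ≠ 0 := x.1.1.ne_zero
  have h2 : D.τ ((x.1.1 : Fˣ) : F) ≠ 0 := (map_ne_zero_iff D.τ D.τ.injective).2 h1
  have h3 : ((x.1.1 : Fˣ) : F) ^ n = (((x.1.1 : Fˣ) : F) ^ 2) ^ m := by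
    rw [← pow_mul]
    exact congrArg (fun j => ((x.1.1 : Fˣ) : F) ^ j) hnm
  rw [h3, ← mul_pow]
  congr 1
  field_simp

/-- if `det k = - ν ^ m` for the second component, the determinant is `- (μ / τ μ) ^ m` -/
theorem dj_eq_neg_pow (m : ℕ) (hnm : n = 2 * m) (x : ↥(G1 (q := q) ι P)) (a : K) (_ha0 : a ≠ 0)
    (ha : ι a = ((x.1.1 : Fˣ) : F) * D.τ ((x.1.1 : Fˣ) : F))
    (hdet : (x.1.2 : Matrix (Fin n) (Fin n) K).det = -(a⁻¹) ^ m) :
    (((dj D ι P x : ↥(N1 F q)) : Fˣ) : F) =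
      -(((divTau D ((x.1.1 : Fˣ) : F) x.1.1.ne_zero ^ m : ↥(N1 F q)) : Fˣ) : F) := by
  rw [dj_coe, N1_coe_pow, divTau_coe, hdet, map_neg, map_pow, map_inv₀, ha]
  have h1 : ((x.1.1 : Fˣ) : F) ≠ 0 := x.1.1.ne_zero
  have h2 : D.τ ((x.1.1 : Fˣ) : F) ≠ 0 := (map_ne_zero_iff D.τ D.τ.injective).2 h1
  have h3 : ((x.1.1 : Fˣ) : F) ^ n = (((x.1.1 : Fˣ) : F) ^ 2) ^ m := by
    rw [← pow_mul]
    exact congrArg (fun j => ((x.1.1 : Fˣ) : F) ^ j) hnm
  rw [h3, mul_neg, ← mul_pow]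
  congr 2
  field_simp

/-- even degree in characteristic two: all determinants are `n`-th powers -/
theorem range_dj_le_char2 [CharP F 2] (R : RData D ι E g P B) (hι : IsFix D ι) (hq : Even q)
    (m : ℕ) (hnm : n = 2 * m) :
    (dj D ι P).range ≤ (powMonoidHom n : ↥(N1 F q) →* ↥(N1 F q)).range := by
  have : CharP K 2 := by
    have h2 : (2 : F) = 0 := CharTwo.two_eq_zero
    have h2' : (2 : K) = 0 := by
      apply ι.injective
      rw [map_ofNat, map_zero, h2]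
    exact CharTwo.of_one_ne_zero_of_two_eq_zero one_ne_zero h2'
  rintro _ ⟨x, rfl⟩
  obtain ⟨a, ha0, ha, hk⟩ := G1_mult R hι x.1 x.2
  have hdet := det_sq_of_sim B x.1.2 a⁻¹ hk
  have hdet' : (x.1.2 : Matrix (Fin n) (Fin n) K).det = (a⁻¹) ^ m := by
    have h1 : (a⁻¹) ^ n = ((a⁻¹) ^ m) ^ 2 := by
      rw [← pow_mul, mul_comm]
      exact congrArg (fun j => (a⁻¹) ^ j) hnm
    rw [h1] at hdet
    have h2 : ((x.1.2 : Matrix (Fin n) (Fin n) K).det + (a⁻¹) ^ m) ^ 2 = 0 := by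
      rw [CharTwo.add_sq, hdet, CharTwo.add_self_eq_zero]
    have h3 := pow_eq_zero_iff (two_ne_zero) |>.1 h2
    rw [← CharTwo.sub_eq_add] at h3
    exact sub_eq_zero.1 h3
  rw [dj_eq_pow m hnm x a ha0 ha hdet']
  obtain ⟨l, hl⟩ : ∃ l : ↥(N1 F q), l = divTau D ((x.1.1 : Fˣ) : F) x.1.1.ne_zero := ⟨_, rfl⟩
  rw [← hl]
  obtain ⟨t, ht⟩ := hq
  refine ⟨l ^ (t + 1), ?_⟩
  rw [powMonoidHom_apply, ← pow_mul, hnm]
  have h1 : (t + 1) * (2 * m) = (q + 1) * m + m := by rw [ht]; ring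
  rw [h1, pow_add, pow_mul, N1_pow_card, one_pow, one_mul]

/-- symplectic type: the determinants are the `m`-th powers -/
theorem range_dj_skew (R : RData D ι E g P B) (hι : IsFix D ι) (h2 : (2 : K) ≠ 0) (m : ℕ)
    (hnm : n = 2 * m)
    (hB : (B : Matrix (Fin n) (Fin n) K)ᵀ = -(B : Matrix (Fin n) (Fin n) K)) :
    (dj D ι P).range = (powMonoidHom m : ↥(N1 F q) →* ↥(N1 F q)).range := by
  apply le_antisymm
  · rintro _ ⟨x, rfl⟩
    obtain ⟨a, ha0, ha, hk⟩ := G1_mult R hι x.1 x.2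
    have hdet := det_of_sim_skew h2 m hnm B hB x.1.2 a⁻¹ (inv_ne_zero ha0) hk
    rw [dj_eq_pow m hnm x a ha0 ha hdet]
    exact ⟨_, rfl⟩
  · rintro _ ⟨l, rfl⟩
    obtain ⟨μ, hμ0, hμ⟩ := exists_div_tau D l
    have hfix : D.τ (μ * D.τ μ) = μ * D.τ μ := by rw [map_mul, D.hτ2, mul_comm]
    obtain ⟨a, ha⟩ := hι.exists_apply hfix
    have hτμ0 : D.τ μ ≠ 0 := (map_ne_zero_iff D.τ D.τ.injective).2 hμ0
    have ha0 : a ≠ 0 := by
      rintro rfl
      rw [map_zero] at ha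
      exact mul_ne_zero hμ0 hτμ0 ha.symm
    obtain ⟨k, hk⟩ := exists_sim_mult_skew h2 m hnm B hB (Units.mk0 a⁻¹ (inv_ne_zero ha0))
    rw [Units.val_mk0] at hk
    have hmem : (Units.mk0 μ hμ0, k) ∈ G1 (q := q) ι P := by
      apply mem_G1_of_mult R hι _ _ a⁻¹ _ hk
      rw [Units.val_mk0, map_inv₀, ha]
      exact inv_mul_cancel₀ (mul_ne_zero hμ0 hτμ0)
    refine ⟨⟨_, hmem⟩, ?_⟩
    have hdet := det_of_sim_skew h2 m hnm B hB k a⁻¹ (inv_ne_zero ha0) hk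
    rw [dj_eq_pow m hnm ⟨_, hmem⟩ a ha0 ha hdet, powMonoidHom_apply]
    congr 1
    apply N1_ext
    rw [divTau_coe]
    change μ * (D.τ μ)⁻¹ = _
    have h7 : ((l : Fˣ) : F) = μ * (D.τ μ)⁻¹ := by
      rw [eq_mul_inv_iff_mul_eq₀ hτμ0]
      exact hμ
    exact h7.symm

/-- `-1` as an element of `N1`, for odd `q` -/
noncomputable def negOneN1 (D : UF F q) : ↥(N1 F q) :=
  mkN1 D (-1) (by rw [map_neg, map_one]; ring)

theorem negOneN1_coe (D : UF F q) : (((negOneN1 D : ↥(N1 F q)) : Fˣ) : F) = -1 := rfl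

theorem negOneN1_sq (D : UF F q) : negOneN1 D * negOneN1 D = 1 := by
  apply N1_ext
  rw [N1_coe_mul, negOneN1_coe]
  simp

/-- orthogonal type in even degree: the determinants are `± l ^ m` -/
theorem range_dj_sym [Fintype K] (R : RData D ι E g P B) (hι : IsFix D ι) (h2 : (2 : K) ≠ 0)
    (m : ℕ) (hm : 1 ≤ m) (hnm : n = 2 * m)
    (hB : (B : Matrix (Fin n) (Fin n) K)ᵀ = (B : Matrix (Fin n) (Fin n) K)) :
    (dj D ι P).range =
      Subgroup.zpowers (negOneN1 D) ⊔ (powMonoidHom m : ↥(N1 F q) →* ↥(N1 F q)).range := by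
  have hpow : ∀ c : K, c ^ n = (c ^ m) ^ 2 := by
    intro c
    have : c ^ n = c ^ (2 * m) := congrArg (fun j => c ^ j) hnm
    rw [this, mul_comm, pow_mul]
  have hdetpm : ∀ (k : GL (Fin n) K) (a : K), (k : Matrix (Fin n) (Fin n) K)ᵀ *
      (B : Matrix (Fin n) (Fin n) K) * (k : Matrix (Fin n) (Fin n) K) =
        a⁻¹ • (B : Matrix (Fin n) (Fin n) K) →
      (k : Matrix (Fin n) (Fin n) K).det = (a⁻¹) ^ m ∨
        (k : Matrix (Fin n) (Fin n) K).det = -(a⁻¹) ^ m := by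
    intro k a hk
    have h1 := det_sq_of_sim B k a⁻¹ hk
    rw [hpow, sq_eq_sq_iff_eq_or_eq_neg] at h1
    exact h1
  -- `-1` is a determinant
  have hneg : negOneN1 D ∈ (dj D ι P).range := by
    obtain ⟨r, hr, hdr⟩ := exists_isom_det_neg_one h2 m hm hnm B hB
    have hmem : ((1 : Fˣ), r) ∈ G1 (q := q) ι P := by
      apply mem_G1_of_mult R hι _ _ 1 _ (by rw [one_smul]; exact hr)
      simp
    refine ⟨⟨_, hmem⟩, ?_⟩
    apply N1_ext
    rw [dj_coe, negOneN1_coe]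
    change ((1 : Fˣ) : F) ^ n * ι ((r : Matrix (Fin n) (Fin n) K).det) = -1
    have h3 := congrArg Units.val hdr
    rw [Matrix.GeneralLinearGroup.val_det_apply, Units.val_neg, Units.val_one] at h3
    rw [h3]
    simp
  have hnegmul : ∀ y : ↥(N1 F q), ∀ z : ↥(N1 F q),
      ((y : Fˣ) : F) = -((z : Fˣ) : F) → y = negOneN1 D * z := by
    intro y z h
    apply N1_ext
    rw [N1_coe_mul, negOneN1_coe, h]
    ring
  apply le_antisymm
  · rintro _ ⟨x, rfl⟩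
    obtain ⟨a, ha0, ha, hk⟩ := G1_mult R hι x.1 x.2
    rcases hdetpm x.1.2 a hk with hdet | hdet
    · rw [dj_eq_pow m hnm x a ha0 ha hdet]
      exact Subgroup.mem_sup_right ⟨_, rfl⟩
    · rw [hnegmul _ _ (dj_eq_neg_pow m hnm x a ha0 ha hdet)]
      exact Subgroup.mul_mem_sup (Subgroup.mem_zpowers _) ⟨_, rfl⟩
  · apply sup_le
    · exact (Subgroup.zpowers_le).2 hneg
    · rintro _ ⟨l, rfl⟩
      obtain ⟨μ, hμ0, hμ⟩ := exists_div_tau D l
      have hfix : D.τ (μ * D.τ μ) = μ * D.τ μ := by rw [map_mul, D.hτ2, mul_comm]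
      obtain ⟨a, ha⟩ := hι.exists_apply hfix
      have hτμ0 : D.τ μ ≠ 0 := (map_ne_zero_iff D.τ D.τ.injective).2 hμ0
      have ha0 : a ≠ 0 := by
        rintro rfl
        rw [map_zero] at ha
        exact mul_ne_zero hμ0 hτμ0 ha.symm
      obtain ⟨k, hk⟩ := exists_sim_mult_sym h2 m hnm B hB (Units.mk0 a⁻¹ (inv_ne_zero ha0))
      rw [Units.val_mk0] at hk
      have hmem : (Units.mk0 μ hμ0, k) ∈ G1 (q := q) ι P := by
        apply mem_G1_of_mult R hι _ _ a⁻¹ _ hk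
        rw [Units.val_mk0, map_inv₀, ha]
        exact inv_mul_cancel₀ (mul_ne_zero hμ0 hτμ0)
      have hl : divTau D μ hμ0 = l := by
        apply N1_ext
        rw [divTau_coe]
        have h7 : ((l : Fˣ) : F) = μ * (D.τ μ)⁻¹ := by
          rw [eq_mul_inv_iff_mul_eq₀ hτμ0]
          exact hμ
        exact h7.symm
      rw [powMonoidHom_apply]
      rcases hdetpm k a hk with hdet | hdet
      · have h5 := dj_eq_pow m hnm ⟨_, hmem⟩ a ha0 ha hdet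
        change dj D ι P ⟨_, hmem⟩ = divTau D μ hμ0 ^ m at h5
        rw [hl] at h5
        rw [← h5]
        exact ⟨_, rfl⟩
      · have h5 := hnegmul _ _ (dj_eq_neg_pow m hnm ⟨_, hmem⟩ a ha0 ha hdet)
        change dj D ι P ⟨_, hmem⟩ = negOneN1 D * divTau D μ hμ0 ^ m at h5
        rw [hl] at h5
        have h6 : l ^ m = negOneN1 D * dj D ι P ⟨_, hmem⟩ := by
          rw [h5, ← mul_assoc, negOneN1_sq, one_mul]
        rw [h6]
        exact Subgroup.mul_mem _ hneg ⟨_, rfl⟩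

end ranges

end Cfsg.Agent.Lib.H11.PSUGraph
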