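import Cfsg.Agent.Lib.H11.PSUGraph8

/-!
# Involutory graph automorphisms of `PSU_n(q)` (part 9): the class splitting counts
-/

set_option autoImplicit false
set_option linter.unusedSectionVars false

namespace Cfsg.Agent.Lib.H11.PSUGraph

open Matrix Cfsg.Agent.Lib.H13 Cfsg.Agent.Lib.H13.AutPSU Cfsg.Agent.Lib.H11.PSLGraph

variable {F : Type*} [Field F] [Fintype F] {K : Type*} [Field K] {n q : ℕ}
variable {D : UF F q} {ι : K →+* F} {E : EDat D} {g : ↥(Cfsg.GU n F q)} {P : GL (Fin n) F}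
  {B : GL (Fin n) K}

/-- the number of classes into which the class of a graph involution splits -/
theorem count_eq_index (hn : 3 ≤ n)
    (hall : ∀ θ : Cfsg.PSU n F q ≃* Cfsg.PSU n F q, IsSemi θ)
    (R : RData D ι E g P B) (hι : IsFix D ι) :
    Cfsg.splitClassCount (Cfsg.inndiagPSU n F q) (Cfsg.Inn (Cfsg.PSU n F q)) (gamU D g) =
      ((dj D ι P).range ⊔ (powMonoidHom n : ↥(N1 F q) →* ↥(N1 F q)).range).index :=
  split_psu D hn hall (gamU D g) 1 (gamU D g) (by simp) (jG (q := q) ι P)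
    (centralizer_eq R hι hn)

theorem count_of_le (hn : 3 ≤ n) (hF : Fintype.card F = q ^ 2) (hq2 : 2 ≤ q)
    (hall : ∀ θ : Cfsg.PSU n F q ≃* Cfsg.PSU n F q, IsSemi θ)
    (R : RData D ι E g P B) (hι : IsFix D ι)
    (hle : (dj D ι P).range ≤ (powMonoidHom n : ↥(N1 F q) →* ↥(N1 F q)).range) :
    Cfsg.splitClassCount (Cfsg.inndiagPSU n F q) (Cfsg.Inn (Cfsg.PSU n F q)) (gamU D g) =
      Nat.gcd n (q + 1) := by
  rw [count_eq_index hn hall R hι, sup_eq_right.2 hle, IsCyclic.index_powMonoidHom_range,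
    card_N1 hF hq2, Nat.gcd_comm]

theorem count_skew (hn : 3 ≤ n) (hF : Fintype.card F = q ^ 2) (hq2 : 2 ≤ q)
    (hall : ∀ θ : Cfsg.PSU n F q ≃* Cfsg.PSU n F q, IsSemi θ)
    (R : RData D ι E g P B) (hι : IsFix D ι) (h2 : (2 : K) ≠ 0) (m : ℕ) (hnm : n = 2 * m)
    (hB : (B : Matrix (Fin n) (Fin n) K)ᵀ = -(B : Matrix (Fin n) (Fin n) K)) :
    Cfsg.splitClassCount (Cfsg.inndiagPSU n F q) (Cfsg.Inn (Cfsg.PSU n F q)) (gamU D g) =
      Nat.gcd m (q + 1) := by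
  rw [count_eq_index hn hall R hι, range_dj_skew R hι h2 m hnm hB,
    sup_eq_left.2 (AutPSL.range_pow_le_of_dvd (U := ↥(N1 F q)) (Dvd.intro_left 2 hnm.symm)),
    IsCyclic.index_powMonoidHom_range, card_N1 hF hq2, Nat.gcd_comm]

theorem orderOf_negOneN1 (h2 : (2 : F) ≠ 0) : orderOf (negOneN1 D) = 2 := by
  apply orderOf_eq_prime
  · rw [sq]
    exact negOneN1_sq D
  · intro h
    have h1 := congrArg (fun x : ↥(N1 F q) => ((x : Fˣ) : F)) h
    simp only [negOneN1_coe] at h1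
    apply h2
    have h3 : (((1 : ↥(N1 F q)) : Fˣ) : F) = 1 := rfl
    rw [h3] at h1
    linear_combination -h1

theorem count_sym [Fintype K] (hn : 3 ≤ n) (hF : Fintype.card F = q ^ 2) (hq2 : 2 ≤ q)
    (hodd : Odd q) (hall : ∀ θ : Cfsg.PSU n F q ≃* Cfsg.PSU n F q, IsSemi θ)
    (R : RData D ι E g P B) (hι : IsFix D ι) (h2 : (2 : F) ≠ 0) (m : ℕ) (hnm : n = 2 * m)
    (hB : (B : Matrix (Fin n) (Fin n) K)ᵀ = (B : Matrix (Fin n) (Fin n) K)) :
    Cfsg.splitClassCount (Cfsg.inndiagPSU n F q) (Cfsg.Inn (Cfsg.PSU n F q)) (gamU D g) =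
      Nat.gcd n (q + 1) / 2 := by
  rw [count_eq_index hn hall R hι,
    range_dj_sym R hι (two_ne_zero_of_hom ι h2) m (by omega) hnm hB, sup_assoc,
    sup_eq_left.2 (AutPSL.range_pow_le_of_dvd (U := ↥(N1 F q)) (Dvd.intro_left 2 hnm.symm)),
    AutPSL.cyclic_index, Nat.card_zpowers, orderOf_negOneN1 h2, card_N1 hF hq2]
  obtain ⟨k, hk⟩ := hodd
  have h5 : q + 1 = 2 * (k + 1) := by omega
  rw [h5, Nat.mul_div_cancel_left _ (by norm_num : 0 < 2), hnm, Nat.gcd_mul_left,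
    Nat.mul_div_cancel_left _ (by norm_num : 0 < 2)]

end Cfsg.Agent.Lib.H11.PSUGraph
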