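import Mathlib

/-!
Group theory behind the bound for elementary abelian 2-subgroups of `G/⟨z⟩`:
the centralizer in `E` of a maximal elementary abelian subgroup `A` has order at most `4|A|`.
-/

set_option autoImplicit false
set_option linter.unusedSimpArgs false
set_option linter.unusedSectionVars false
set_option linter.unusedVariables false

namespace Cfsg.Agent.Lib.H11.PSpRank

section group
variable {G : Type*} [Group G] (z : G) (E A : Subgroup G)

/-- the hypotheses on `E` (preimage of an elementary abelian 2-group modulo `⟨z⟩`) and `A` -/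
structure Setup : Prop where
  zc : ∀ g : G, z * g = g * z
  zz : z * z = 1
  E2 : ∀ x ∈ E, ∀ y ∈ E, x * y = y * x ∨ x * y = z * (y * x)
  E3 : ∀ x ∈ E, x * x = 1 ∨ x * x = z
  AE : A ≤ E
  zA : z ∈ A
  Ac : ∀ x ∈ A, ∀ y ∈ A, x * y = y * x
  A2 : ∀ x ∈ A, x * x = 1
  Amax : ∀ w ∈ E, w * w = 1 → (∀ a ∈ A, w * a = a * w) → w ∈ A

/-- the centralizer of `A` in `E` -/
def Cset : Set G := {c | c ∈ E ∧ ∀ a ∈ A, c * a = a * c}

variable {z E A}

theorem Cset_mul {x y : G} (hx : x ∈ Cset E A) (hy : y ∈ Cset E A) : x * y ∈ Cset E A := by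
  refine ⟨E.mul_mem hx.1 hy.1, ?_⟩
  intro a ha
  rw [mul_assoc, hy.2 a ha, ← mul_assoc, hx.2 a ha, mul_assoc]

theorem Cset_inv_mul {x y : G} (hx : x ∈ Cset E A) (hy : y ∈ Cset E A) :
    x⁻¹ * y ∈ Cset E A := by
  refine ⟨E.mul_mem (E.inv_mem hx.1) hy.1, ?_⟩
  intro a ha
  have h1 : x⁻¹ * a = a * x⁻¹ := by
    have := hx.2 a ha
    calc x⁻¹ * a = x⁻¹ * (a * x) * x⁻¹ := by group
      _ = x⁻¹ * (x * a) * x⁻¹ := by rw [this]
      _ = a * x⁻¹ := by group
  rw [mul_assoc, hy.2 a ha, ← mul_assoc, h1, mul_assoc]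

theorem sq_of_not_mem (h : Setup z E A) {x : G} (hx : x ∈ Cset E A) (hxA : x ∉ A) :
    x * x = z := by
  rcases h.E3 x hx.1 with h1 | h1
  · exact absurd (h.Amax x hx.1 h1 hx.2) hxA
  · exact h1

/-- two commuting elements of `C ∖ A` differ by an element of `A` -/
theorem key1 (h : Setup z E A) {x y : G} (hy : y ∈ Cset E A) (hyA : y ∉ A) (hx : x ∈ Cset E A)
    (hxA : x ∉ A) (hxy : x * y = y * x) : ∃ a ∈ A, x = y * a := by
  have hyy := sq_of_not_mem h hy hyA
  have hxx := sq_of_not_mem h hx hxA
  have h1 : (y * x) * (y * x) = 1 := by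
    calc (y * x) * (y * x) = y * (x * y) * x := by group
      _ = y * (y * x) * x := by rw [hxy]
      _ = (y * y) * (x * x) := by group
      _ = 1 := by rw [hyy, hxx, h.zz]
  have h3 : y * x ∈ A := h.Amax _ (Cset_mul hy hx).1 h1 (Cset_mul hy hx).2
  refine ⟨z * (y * x), A.mul_mem h.zA h3, ?_⟩
  have hzinv : z⁻¹ = z := by
    rw [inv_eq_iff_mul_eq_one, h.zz]
  calc x = (y * y)⁻¹ * (y * (y * x)) := by group
    _ = z * (y * (y * x)) := by rw [hyy, hzinv]
    _ = y * (z * (y * x)) := by rw [← mul_assoc, h.zc y, mul_assoc]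

/-- `C` is covered by four cosets of `A` -/
theorem cover (h : Setup z E A) :
    ∃ c d : G, ∀ x ∈ Cset E A, (x ∈ A) ∨ (∃ a ∈ A, x = c * a) ∨ (∃ a ∈ A, x = d * a) ∨
      ∃ a ∈ A, x = c * d * a := by
  by_cases hc : ∃ c, c ∈ Cset E A ∧ c ∉ A
  · obtain ⟨c, hcC, hcA⟩ := hc
    by_cases hd : ∃ d, d ∈ Cset E A ∧ d ∉ A ∧ ¬ ∃ a ∈ A, d = c * a
    · obtain ⟨d, hdC, hdA, hdc⟩ := hd
      refine ⟨c, d, ?_⟩
      intro x hx
      by_cases hxA : x ∈ A
      · left; exact hxA
      · right
        have hdc' : d * c ≠ c * d := by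
          intro hcomm
          exact hdc (key1 h hcC hcA hdC hdA hcomm)
        have hdc2 : d * c = z * (c * d) := by
          rcases h.E2 d hdC.1 c hcC.1 with h1 | h1
          · exact absurd h1 hdc'
          · exact h1
        rcases h.E2 x hx.1 c hcC.1 with h1 | h1
        · left
          exact key1 h hcC hcA hx hxA h1
        · right
          rcases h.E2 x hx.1 d hdC.1 with h3 | h3
          · left
            exact key1 h hdC hdA hx hxA h3
          · right
            have hcd : c * d ∈ Cset E A := Cset_mul hcC hdC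
            have hcdA : c * d ∉ A := by
              intro hmem
              apply hdc
              have hcc := sq_of_not_mem h hcC hcA
              refine ⟨z * (c * d), A.mul_mem h.zA hmem, ?_⟩
              calc d = (z * z) * d := by rw [h.zz, one_mul]
                _ = z * (c * c) * d := by rw [hcc]
                _ = c * (z * (c * d)) := by
                  rw [← mul_assoc c z, ← h.zc c]; group
            have hcomm : x * (c * d) = c * d * x := by
              calc x * (c * d) = (x * c) * d := by group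
                _ = z * (c * x) * d := by rw [h1]
                _ = z * c * (x * d) := by group
                _ = z * c * (z * (d * x)) := by rw [h3]
                _ = (z * z) * (c * d * x) := by
                  rw [← mul_assoc (z * c) z, mul_assoc z c z, ← h.zc c, ← mul_assoc z z c]
                  group
                _ = c * d * x := by rw [h.zz, one_mul]
            exact key1 h hcd hcdA hx hxA hcomm
    · push Not at hd
      refine ⟨c, 1, ?_⟩
      intro x hx
      by_cases hxA : x ∈ A
      · left; exact hxA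
      · right; left
        exact hd x hx hxA
  · push Not at hc
    refine ⟨1, 1, ?_⟩
    intro x hx
    left
    exact hc x hx

theorem ncard_Cset_le [Finite G] (h : Setup z E A) :
    (Cset E A).ncard ≤ 4 * Nat.card A := by
  obtain ⟨c, d, hcov⟩ := cover h
  have hsub : Cset E A ⊆ (A : Set G) ∪ (fun a => c * a) '' (A : Set G) ∪
      (fun a => d * a) '' (A : Set G) ∪ (fun a => c * d * a) '' (A : Set G) := by
    intro x hx
    rcases hcov x hx with h1 | ⟨a, ha, rfl⟩ | ⟨a, ha, rfl⟩ | ⟨a, ha, rfl⟩
    · left; left; left; exact h1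
    · left; left; right; exact ⟨a, ha, rfl⟩
    · left; right; exact ⟨a, ha, rfl⟩
    · right; exact ⟨a, ha, rfl⟩
  have hA : (A : Set G).ncard = Nat.card A := by
    rw [← Nat.card_coe_set_eq]; rfl
  have h1 := Set.ncard_le_ncard hsub (Set.toFinite _)
  have h3 : ∀ g : G, ((fun a => g * a) '' (A : Set G)).ncard ≤ Nat.card A := by
    intro g
    rw [← hA]
    exact Set.ncard_image_le (Set.toFinite _)
  have e1 := Set.ncard_union_le ((A : Set G) ∪ (fun a => c * a) '' (A : Set G) ∪
      (fun a => d * a) '' (A : Set G)) ((fun a => c * d * a) '' (A : Set G))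
  have e2 := Set.ncard_union_le ((A : Set G) ∪ (fun a => c * a) '' (A : Set G))
      ((fun a => d * a) '' (A : Set G))
  have e3 := Set.ncard_union_le (A : Set G) ((fun a => c * a) '' (A : Set G))
  have := h3 c
  have := h3 d
  have := h3 (c * d)
  omega

end group

end Cfsg.Agent.Lib.H11.PSpRank
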