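import Cfsg.Agent.Lib.H11.PSpRank1
import Cfsg.Agent.S2233
import Cfsg.Agent.S0768
import Cfsg.Agent.Lib.H4.Symp

/-!
Eigencharacters of an elementary abelian 2-subgroup of `Sp_{2m}(q)`, `q` odd.
-/

set_option autoImplicit false
set_option linter.unusedSimpArgs false
set_option linter.unusedSectionVars false
set_option linter.unusedVariables false
set_option warn.classDefReducibility false

namespace Cfsg.Agent.Lib.H11.PSpRank

open Matrix Module
open Cfsg.Agent.S0768 (B₀ B₀_apply B₀_alt B₀_nondeg)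

section chars
variable {F : Type*} [Field F] [Fintype F] {m : ℕ}

local notation "VV" => (Fin m ⊕ Fin m → F)
local notation "MM" => Matrix (Fin m ⊕ Fin m) (Fin m ⊕ Fin m) F
/-- the symplectic group as a type -/
abbrev SpG (F : Type*) [Field F] (m : ℕ) : Type _ := ↥(Matrix.symplecticGroup (Fin m) F)

local notation "GG" => SpG F m

/-- finiteness of the symplectic group, as a `Fintype` instance used locally -/
noncomputable def fintypeSp (F : Type*) [Field F] [Fintype F] (m : ℕ) :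
    Fintype (SpG F m) := Fintype.ofFinite _

attribute [local instance] fintypeSp

theorem f_pres (g : GG) (u v : VV) : B₀ F m ((g : MM) *ᵥ u) ((g : MM) *ᵥ v) = B₀ F m u v := by
  rw [B₀_apply, B₀_apply]
  exact (Cfsg.Agent.Lib.H4.mem_symplecticGroup_iff_sympForm _ _).1 g.2 u v

theorem val_mul (g h : GG) : ((g * h : GG) : MM) = (g : MM) * (h : MM) := rfl

theorem val_one : ((1 : GG) : MM) = 1 := rfl

theorem mulVec_mul (g h : GG) (v : VV) : ((g * h : GG) : MM) *ᵥ v = (g : MM) *ᵥ ((h : MM) *ᵥ v) := by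
  rw [val_mul, Matrix.mulVec_mulVec]

theorem mulVec_ne_zero (g : GG) (v : VV) (hv : v ≠ 0) : (g : MM) *ᵥ v ≠ 0 := by
  intro h
  apply hv
  have h1 : ((g⁻¹ * g : GG) : MM) *ᵥ v = v := by
    rw [inv_mul_cancel, val_one, Matrix.one_mulVec]
  rw [mulVec_mul, h, Matrix.mulVec_zero] at h1
  exact h1.symm

variable (A : Subgroup (SpG F m))

/-- the eigencharacters of `A` (extended by zero outside `A`) -/
def Xset : Set (GG → F) :=
  {χ | (∀ g : GG, g ∉ A → χ g = 0) ∧ ∃ v : VV, v ≠ 0 ∧ ∀ a : GG, a ∈ A → (a : MM) *ᵥ v = χ a • v}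

/-- `v` is an eigenvector with character `χ` -/
def IsEig (χ : GG → F) (v : VV) : Prop := ∀ a : GG, a ∈ A → (a : MM) *ᵥ v = χ a • v

variable {A}

theorem chi_sq (hA2 : ∀ x ∈ A, x * x = 1) {χ : GG → F} {v : VV} (hv : v ≠ 0)
    (hχ : IsEig A χ v) {a : GG} (ha : a ∈ A) : χ a * χ a = 1 := by
  have h1 : ((a * a : GG) : MM) *ᵥ v = v := by
    rw [hA2 a ha, val_one, Matrix.one_mulVec]
  rw [mulVec_mul, hχ a ha, Matrix.mulVec_smul, hχ a ha, smul_smul] at h1
  have h3 : (χ a * χ a - 1) • v = 0 := by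
    rw [sub_smul, h1, one_smul, sub_self]
  rcases smul_eq_zero.1 h3 with h | h
  · exact sub_eq_zero.1 h
  · exact absurd h hv

theorem chi_mul {χ : GG → F} {v : VV} (hv : v ≠ 0)
    (hχ : IsEig A χ v) {a b : GG} (ha : a ∈ A) (hb : b ∈ A) : χ (a * b) = χ a * χ b := by
  have h1 := hχ (a * b) (A.mul_mem ha hb)
  rw [mulVec_mul, hχ b hb, Matrix.mulVec_smul, hχ a ha, smul_smul] at h1
  have h3 : (χ b * χ a - χ (a * b)) • v = 0 := by
    rw [sub_smul, h1, sub_self]
  rcases smul_eq_zero.1 h3 with h | h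
  · rw [mul_comm]; exact (sub_eq_zero.1 h).symm
  · exact absurd h hv

theorem chi_pm (hA2 : ∀ x ∈ A, x * x = 1) {χ : GG → F} {v : VV} (hv : v ≠ 0)
    (hχ : IsEig A χ v) {a : GG} (ha : a ∈ A) : χ a = 1 ∨ χ a = -1 :=
  mul_self_eq_one_iff.1 (chi_sq hA2 hv hχ ha)

/-- the (unnormalised) projection onto the `χ`-eigenspace -/
noncomputable def Pr (χ : GG → F) (u : VV) : VV := ∑ g : GG, χ g • ((g : MM) *ᵥ u)

theorem Pr_eig (hA2 : ∀ x ∈ A, x * x = 1) {χ : GG → F} (hχ0 : ∀ g, g ∉ A → χ g = 0) {v : VV}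
    (hv : v ≠ 0) (hχ : IsEig A χ v) (u : VV) : IsEig A χ (Pr χ u) := by
  intro b hb
  rw [Pr, Matrix.mulVec_sum, Finset.smul_sum]
  rw [← Equiv.sum_comp (Equiv.mulLeft b) (fun g => χ b • χ g • ((g : MM) *ᵥ u))]
  apply Finset.sum_congr rfl
  intro g _
  rw [Equiv.coe_mulLeft, Matrix.mulVec_smul, ← mulVec_mul, smul_smul]
  by_cases hg : g ∈ A
  · rw [chi_mul hv hχ hb hg, ← mul_assoc, chi_sq hA2 hv hχ hb, one_mul]
  · have hbg : b * g ∉ A := by
      intro h
      apply hg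
      have := A.mul_mem (A.inv_mem hb) h
      rwa [inv_mul_cancel_left] at this
    rw [hχ0 g hg, hχ0 (b * g) hbg, mul_zero, zero_smul]

theorem f_Pr (hA2 : ∀ x ∈ A, x * x = 1) {χ : GG → F} (hχ0 : ∀ g, g ∉ A → χ g = 0) {v : VV}
    (hv : v ≠ 0) (hχ : IsEig A χ v) (u : VV) :
    B₀ F m v (Pr χ u) = (Nat.card A : F) * B₀ F m v u := by
  classical
  rw [Pr, map_sum]
  have h1 : ∀ g : GG, B₀ F m v (χ g • ((g : MM) *ᵥ u)) = if g ∈ A then B₀ F m v u else 0 := by
    intro g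
    split_ifs with hg
    · rw [map_smul, smul_eq_mul]
      have h3 : B₀ F m v ((g : MM) *ᵥ u) = χ g * B₀ F m v u := by
        rw [← f_pres g v ((g : MM) *ᵥ u), ← mulVec_mul, hA2 g hg, val_one, Matrix.one_mulVec,
          hχ g hg, map_smul, LinearMap.smul_apply, smul_eq_mul]
      rw [h3, ← mul_assoc, chi_sq hA2 hv hχ hg, one_mul]
    · rw [hχ0 g hg, zero_smul, map_zero]
  rw [Finset.sum_congr rfl (fun g _ => h1 g), Finset.sum_ite, Finset.sum_const_zero, add_zero,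
    Finset.sum_const, nsmul_eq_mul]
  congr 2
  rw [Nat.card_eq_fintype_card, Fintype.card_subtype]

theorem card_ne_zero (h2 : (2 : F) ≠ 0) (hA2 : ∀ x ∈ A, x * x = 1) : (Nat.card A : F) ≠ 0 := by
  have hp : IsPGroup 2 A := by
    intro g
    refine ⟨1, ?_⟩
    rw [pow_one, pow_two]
    apply Subtype.ext
    exact hA2 g.1 g.2
  obtain ⟨k, hk⟩ := IsPGroup.iff_card.1 hp
  rw [hk, Nat.cast_pow]
  exact pow_ne_zero _ (by exact_mod_cast h2)

/-- eigenspaces for distinct characters are orthogonal -/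
theorem eig_orth (h2 : (2 : F) ≠ 0) (hA2 : ∀ x ∈ A, x * x = 1) {χ χ' : GG → F}
    (hχ0 : ∀ g, g ∉ A → χ g = 0) (hχ0' : ∀ g, g ∉ A → χ' g = 0) (hne : χ ≠ χ') {x y : VV}
    (hx0 : x ≠ 0) (hy0 : y ≠ 0) (hx : IsEig A χ x) (hy : IsEig A χ' y) : B₀ F m x y = 0 := by
  obtain ⟨a, ha⟩ : ∃ a, χ a ≠ χ' a := by
    by_contra hcon
    push Not at hcon
    exact hne (funext hcon)
  have haA : a ∈ A := by
    by_contra h
    exact ha (by rw [hχ0 a h, hχ0' a h])
  have h1 : B₀ F m x y = χ a * χ' a * B₀ F m x y := by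
    conv_lhs => rw [← f_pres a x y, hx a haA, hy a haA]
    simp only [map_smul, LinearMap.smul_apply, smul_eq_mul]
    ring
  have h3 : χ a * χ' a = -1 := by
    rcases chi_pm hA2 hx0 hx haA with h | h <;> rcases chi_pm hA2 hy0 hy haA with h' | h'
    · exact absurd (h.trans h'.symm) ha
    · rw [h, h']; ring
    · rw [h, h']; ring
    · exact absurd (h.trans h'.symm) ha
  rw [h3] at h1
  have h5 : (2 : F) * B₀ F m x y = 0 := by linear_combination h1
  exact (mul_eq_zero.1 h5).resolve_left h2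

theorem li_of_dual {ι : Type*} [Fintype ι] [DecidableEq ι] (w z : ι → VV)
    (hwz : ∀ i j, B₀ F m (w i) (z j) = if i = j then 1 else 0) : LinearIndependent F w := by
  rw [Fintype.linearIndependent_iff]
  intro g hg j
  have h1 : B₀ F m (∑ i, g i • w i) (z j) = 0 := by rw [hg, map_zero, LinearMap.zero_apply]
  rw [map_sum, LinearMap.sum_apply, Finset.sum_eq_single j] at h1
  · rw [map_smul, LinearMap.smul_apply, hwz j j, if_pos rfl, smul_eq_mul, mul_one] at h1
    exact h1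
  · intro i _ hij
    rw [map_smul, LinearMap.smul_apply, hwz i j, if_neg hij, smul_zero]
  · intro h; exact absurd (Finset.mem_univ j) h

/-- there are at most `m` eigencharacters -/
theorem ncard_Xset_le (h2 : (2 : F) ≠ 0) (hA2 : ∀ x ∈ A, x * x = 1) : (Xset A).ncard ≤ m := by
  classical
  have hfin : (Xset A).Finite := Set.toFinite _
  have : Fintype ↥(Xset A) := hfin.fintype
  -- eigenvectors
  have hv : ∀ χ : ↥(Xset A), ∃ v : VV, v ≠ 0 ∧ IsEig A χ.1 v := fun χ => χ.2.2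
  choose v hv0 hveig using hv
  have hu : ∀ χ : ↥(Xset A), ∃ u : VV, IsEig A χ.1 u ∧ B₀ F m (v χ) u = 1 := by
    intro χ
    obtain ⟨u', hu'⟩ : ∃ u', B₀ F m (v χ) u' ≠ 0 := by
      by_contra hcon
      push Not at hcon
      exact hv0 χ ((B₀_nondeg (F := F) (m := m)).1 (v χ) hcon)
    have hne : (Nat.card A : F) * B₀ F m (v χ) u' ≠ 0 := mul_ne_zero (card_ne_zero h2 hA2) hu'
    refine ⟨((Nat.card A : F) * B₀ F m (v χ) u')⁻¹ • Pr χ.1 u', ?_, ?_⟩
    · intro a ha
      rw [Matrix.mulVec_smul, Pr_eig hA2 χ.2.1 (hv0 χ) (hveig χ) u' a ha, smul_comm]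
    · rw [map_smul, f_Pr hA2 χ.2.1 (hv0 χ) (hveig χ), smul_eq_mul, inv_mul_cancel₀ hne]
  choose u hueig hvu using hu
  have hu0 : ∀ χ, u χ ≠ 0 := by
    intro χ h
    have := hvu χ
    rw [h, map_zero] at this
    exact zero_ne_one this
  have horth : ∀ (χ χ' : ↥(Xset A)) (x y : VV), χ ≠ χ' → x ≠ 0 → y ≠ 0 → IsEig A χ.1 x →
      IsEig A χ'.1 y → B₀ F m x y = 0 := by
    intro χ χ' x y hne hx0 hy0 hx hy
    exact eig_orth h2 hA2 χ.2.1 χ'.2.1 (fun h => hne (Subtype.ext h)) hx0 hy0 hx hy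
  have hskew : ∀ x y : VV, B₀ F m x y = -B₀ F m y x := fun x y =>
    ((B₀_alt (F := F) (m := m)).neg_eq y x).symm
  let W : ↥(Xset A) ⊕ ↥(Xset A) → VV := Sum.elim v u
  let Z : ↥(Xset A) ⊕ ↥(Xset A) → VV := Sum.elim u (fun χ => -v χ)
  have hWZ : ∀ i j, B₀ F m (W i) (Z j) = if i = j then 1 else 0 := by
    rintro (χ | χ) (χ' | χ')
    · simp only [W, Z, Sum.elim_inl, Sum.inl.injEq]
      by_cases h : χ = χ'
      · subst h; rw [hvu, if_pos rfl]
      · rw [if_neg h]; exact horth χ χ' _ _ h (hv0 χ) (hu0 χ') (hveig χ) (hueig χ')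
    · simp only [W, Z, Sum.elim_inl, Sum.elim_inr, reduceCtorEq, if_false, map_neg, neg_eq_zero]
      by_cases h : χ = χ'
      · subst h; exact (B₀_alt (F := F) (m := m)) _
      · exact horth χ χ' _ _ h (hv0 χ) (hv0 χ') (hveig χ) (hveig χ')
    · simp only [W, Z, Sum.elim_inl, Sum.elim_inr, reduceCtorEq, if_false]
      by_cases h : χ = χ'
      · subst h; exact (B₀_alt (F := F) (m := m)) _
      · exact horth χ χ' _ _ h (hu0 χ) (hu0 χ') (hueig χ) (hueig χ')
    · simp only [W, Z, Sum.elim_inr, Sum.inr.injEq, map_neg]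
      by_cases h : χ = χ'
      · subst h; rw [if_pos rfl, ← hskew, hvu]
      · rw [if_neg h, neg_eq_zero]
        exact horth χ χ' _ _ h (hu0 χ) (hv0 χ') (hueig χ) (hveig χ')
  have hli := li_of_dual W Z hWZ
  have hcard := hli.fintype_card_le_finrank
  rw [Fintype.card_sum, Module.finrank_fintype_fun_eq_card, Fintype.card_sum, Fintype.card_fin] at hcard
  have : (Xset A).ncard = Fintype.card ↥(Xset A) := by
    rw [← Nat.card_coe_set_eq, Nat.card_eq_fintype_card]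
  omega

end chars

end Cfsg.Agent.Lib.H11.PSpRank
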