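import Cfsg.Agent.Lib.H11.PSpRank2

/-!
Counting: `|E| ≤ 4 |A| m`, and existence of a maximal `A`.
-/

set_option autoImplicit false
set_option linter.unusedSimpArgs false
set_option linter.unusedSectionVars false
set_option linter.unusedVariables false
set_option warn.classDefReducibility false

namespace Cfsg.Agent.Lib.H11.PSpRank

section group
variable {G : Type*} [Group G] {z : G} {E A : Subgroup G}

/-- two elements of `E` with the same commutation pattern on `A` differ by an element of `C` -/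
theorem comm_or (h : Setup z E A) {e e' : G} (he : e ∈ E) (he' : e' ∈ E)
    (hsame : ∀ a ∈ A, (e * a = a * e ↔ e' * a = a * e')) : e⁻¹ * e' ∈ Cset E A := by
  refine ⟨E.mul_mem (E.inv_mem he) he', ?_⟩
  intro a ha
  by_cases h1 : e * a = a * e
  · have h1' := (hsame a ha).1 h1
    have h3 : e⁻¹ * a = a * e⁻¹ := by
      calc e⁻¹ * a = e⁻¹ * (a * e) * e⁻¹ := by group
        _ = e⁻¹ * (e * a) * e⁻¹ := by rw [h1]
        _ = a * e⁻¹ := by group
    rw [mul_assoc, h1', ← mul_assoc, h3, mul_assoc]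
  · have h1' : ¬ e' * a = a * e' := fun hh => h1 ((hsame a ha).2 hh)
    have k1 : e * a = z * (a * e) := (h.E2 e he a (h.AE ha)).resolve_left h1
    have k1' : e' * a = z * (a * e') := (h.E2 e' he' a (h.AE ha)).resolve_left h1'
    have h3 : e⁻¹ * a = z * (a * e⁻¹) := by
      have hz : z * (z * (a * e)) = a * e := by rw [← mul_assoc, h.zz, one_mul]
      calc e⁻¹ * a = e⁻¹ * (a * e) * e⁻¹ := by group
        _ = e⁻¹ * (z * (z * (a * e))) * e⁻¹ := by rw [hz]
        _ = e⁻¹ * (z * (e * a)) * e⁻¹ := by rw [k1]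
        _ = e⁻¹ * (z * e) * a * e⁻¹ := by group
        _ = e⁻¹ * (e * z) * a * e⁻¹ := by rw [h.zc e]
        _ = z * (a * e⁻¹) := by group
    calc e⁻¹ * e' * a = e⁻¹ * (e' * a) := by group
      _ = e⁻¹ * (z * (a * e')) := by rw [k1']
      _ = e⁻¹ * (z * a) * e' := by group
      _ = e⁻¹ * (a * z) * e' := by rw [h.zc a]
      _ = (e⁻¹ * a) * z * e' := by group
      _ = z * (a * e⁻¹) * z * e' := by rw [h3]
      _ = z * (a * e⁻¹) * (z * e') := by group
      _ = z * (a * e⁻¹) * (e' * z) := by rw [h.zc e']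
      _ = z * (a * e⁻¹ * e') * z := by group
      _ = (a * e⁻¹ * e') * z * z := by rw [h.zc (a * e⁻¹ * e')]
      _ = (a * e⁻¹ * e') * (z * z) := by group
      _ = a * (e⁻¹ * e') := by rw [h.zz]; group

/-- existence of a maximal elementary abelian subgroup of `E` containing `z` -/
theorem exists_setup [Finite G] (zc : ∀ g : G, z * g = g * z) (zz : z * z = 1)
    (E2 : ∀ x ∈ E, ∀ y ∈ E, x * y = y * x ∨ x * y = z * (y * x))
    (E3 : ∀ x ∈ E, x * x = 1 ∨ x * x = z) (zE : z ∈ E) : ∃ A : Subgroup G, Setup z E A := by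
  let P : Subgroup G → Prop := fun B => B ≤ E ∧ z ∈ B ∧ (∀ x ∈ B, ∀ y ∈ B, x * y = y * x) ∧
    ∀ x ∈ B, x * x = 1
  have h0 : P (Subgroup.zpowers z) := by
    refine ⟨?_, Subgroup.mem_zpowers z, ?_, ?_⟩
    · rw [Subgroup.zpowers_le]; exact zE
    · intro x hx y hy
      obtain ⟨k, rfl⟩ := Subgroup.mem_zpowers_iff.1 hx
      obtain ⟨l, rfl⟩ := Subgroup.mem_zpowers_iff.1 hy
      rw [← zpow_add, ← zpow_add, add_comm]
    · intro x hx
      obtain ⟨k, rfl⟩ := Subgroup.mem_zpowers_iff.1 hx
      rw [← (Commute.refl z).mul_zpow, zz, one_zpow]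
  obtain ⟨A, -, hA⟩ := Finite.exists_le_maximal (p := P) h0
  obtain ⟨⟨hAE, hzA, hAc, hA2⟩, hmax⟩ := hA
  refine ⟨A, ⟨zc, zz, E2, E3, hAE, hzA, hAc, hA2, ?_⟩⟩
  intro w hwE hww hwA
  have hS : ∀ x ∈ ((A : Set G) ∪ {w}), ∀ y ∈ ((A : Set G) ∪ {w}), x * y = y * x := by
    intro x hx y hy
    rcases hx with hx | hx <;> rcases hy with hy | hy
    · exact hAc x hx y hy
    · rw [Set.mem_singleton_iff] at hy; subst hy; exact (hwA x hx).symm
    · rw [Set.mem_singleton_iff] at hx; subst hx; exact hwA y hy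
    · rw [Set.mem_singleton_iff] at hx hy; subst hx; subst hy; rfl
  have hcomm := Subgroup.isMulCommutative_closure hS
  have hB : P (Subgroup.closure ((A : Set G) ∪ {w})) := by
    refine ⟨?_, ?_, ?_, ?_⟩
    · rw [Subgroup.closure_le]
      intro x hx
      rcases hx with hx | hx
      · exact hAE hx
      · rw [Set.mem_singleton_iff] at hx; subst hx; exact hwE
    · exact Subgroup.subset_closure (Or.inl hzA)
    · intro x hx y hy
      have := hcomm.is_comm.comm ⟨x, hx⟩ ⟨y, hy⟩
      exact congrArg Subtype.val this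
    · intro x hx
      induction hx using Subgroup.closure_induction with
      | mem x hx =>
        rcases hx with hx | hx
        · exact hA2 x hx
        · rw [Set.mem_singleton_iff] at hx; subst hx; exact hww
      | one => exact one_mul 1
      | mul x y hx hy hxx hyy =>
        have hxy : x * y = y * x := congrArg Subtype.val (hcomm.is_comm.comm ⟨x, hx⟩ ⟨y, hy⟩)
        calc x * y * (x * y) = x * (y * x) * y := by group
          _ = x * (x * y) * y := by rw [hxy]
          _ = (x * x) * (y * y) := by group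
          _ = 1 := by rw [hxx, hyy, one_mul]
      | inv x hx hxx =>
        calc x⁻¹ * x⁻¹ = (x * x)⁻¹ := by group
          _ = 1 := by rw [hxx, inv_one]
  have hle : A ≤ Subgroup.closure ((A : Set G) ∪ {w}) := by
    intro x hx
    exact Subgroup.subset_closure (Or.inl hx)
  have := hmax hB hle
  exact this (Subgroup.subset_closure (Or.inr rfl))

end group

end Cfsg.Agent.Lib.H11.PSpRank
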