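import Cfsg.Agent.Lib.H11.PSpRank3
import Cfsg.Agent.Lib.H2.SpCenter

/-!
`|E| ≤ 4 |A| m` for `E ≤ Sp_{2m}(q)`.
-/

set_option autoImplicit false
set_option linter.unusedSimpArgs false
set_option linter.unusedSectionVars false
set_option linter.unusedVariables false
set_option warn.classDefReducibility false

namespace Cfsg.Agent.Lib.H11.PSpRank

open Matrix Module
open Cfsg.Agent.Lib.H2.Sp (negOne)

section count
variable {F : Type*} [Field F] [Fintype F] {m : ℕ}

local notation "VV" => (Fin m ⊕ Fin m → F)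
local notation "MM" => Matrix (Fin m ⊕ Fin m) (Fin m ⊕ Fin m) F
local notation "GG" => SpG F m

attribute [local instance] fintypeSp

theorem val_negOne : ((negOne m : GG) : MM) = -1 := rfl

open scoped Classical in
/-- the commutation sign of `e` on `A` -/
noncomputable def eps (A : Subgroup (SpG F m)) (e g : GG) : F :=
  if g ∈ A then (if e * g = g * e then 1 else -1) else 0

variable {E A : Subgroup (SpG F m)}

theorem eps_mem (h : Setup (negOne m) E A) {χ₀ : GG → F} (hχ₀ : χ₀ ∈ Xset A) {e : GG}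
    (he : e ∈ E) : (fun g => eps A e g * χ₀ g) ∈ Xset A := by
  obtain ⟨hz0, v₀, hv₀, hev⟩ := hχ₀
  refine ⟨?_, (e : MM) *ᵥ v₀, mulVec_ne_zero e v₀ hv₀, ?_⟩
  · intro g hg
    show eps A e g * χ₀ g = 0
    rw [eps, if_neg hg, zero_mul]
  · intro a ha
    show (a : MM) *ᵥ ((e : MM) *ᵥ v₀) = (eps A e a * χ₀ a) • ((e : MM) *ᵥ v₀)
    rw [eps, if_pos ha]
    by_cases h1 : e * a = a * e
    · rw [if_pos h1, one_mul, ← mulVec_mul, ← h1, mulVec_mul, hev a ha, Matrix.mulVec_smul]
    · rw [if_neg h1]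
      have k1 : e * a = negOne m * (a * e) := (h.E2 e he a (h.AE ha)).resolve_left h1
      have k2 : a * e = negOne m * (e * a) := by
        rw [k1, ← mul_assoc, h.zz, one_mul]
      rw [← mulVec_mul, k2, mulVec_mul, mulVec_mul, hev a ha, Matrix.mulVec_smul, val_negOne,
        Matrix.neg_mulVec, Matrix.one_mulVec, neg_one_mul, neg_smul]

theorem eps_same (h2 : (2 : F) ≠ 0) (hA2 : ∀ x ∈ A, x * x = 1) {χ₀ : GG → F} (hχ₀ : χ₀ ∈ Xset A)
    {e e' : GG}
    (heq : (fun g => eps A e g * χ₀ g) = (fun g => eps A e' g * χ₀ g)) :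
    ∀ a ∈ A, (e * a = a * e ↔ e' * a = a * e') := by
  obtain ⟨hz0, v₀, hv₀, hev⟩ := hχ₀
  intro a ha
  have h1 := congrFun heq a
  simp only [eps, if_pos ha] at h1
  have hχa : χ₀ a ≠ 0 := by
    intro h0
    have := chi_sq hA2 hv₀ hev ha
    rw [h0, mul_zero] at this
    exact zero_ne_one this
  have h3 := mul_right_cancel₀ hχa h1
  have hne : (1 : F) ≠ -1 := by
    intro h
    apply h2
    linear_combination h
  by_cases k : e * a = a * e <;> by_cases k' : e' * a = a * e'
  · exact ⟨fun _ => k', fun _ => k⟩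
  · rw [if_pos k, if_neg k'] at h3; exact absurd h3 hne
  · rw [if_neg k, if_pos k'] at h3; exact absurd h3.symm hne
  · exact ⟨fun hh => absurd hh k, fun hh => absurd hh k'⟩

theorem Xset_nonempty (h2 : (2 : F) ≠ 0) (hm : 1 ≤ m) (hAc : ∀ x ∈ A, ∀ y ∈ A, x * y = y * x)
    (hA2 : ∀ x ∈ A, x * x = 1) : ∃ χ₀ : GG → F, χ₀ ∈ Xset A := by
  classical
  have hfr : Module.finrank F VV = 2 * m := by
    rw [Module.finrank_fintype_fun_eq_card, Fintype.card_sum, Fintype.card_fin]; ring
  obtain ⟨b, hb⟩ := Cfsg.Agent.S2233.exists_simul_eigenbasis (V := VV) h2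
    (fun a : ↥A => Matrix.toLinAlgEquiv' ((a : GG) : MM))
    (by
      intro a b _
      show Matrix.toLinAlgEquiv' _ * Matrix.toLinAlgEquiv' _ =
        Matrix.toLinAlgEquiv' _ * Matrix.toLinAlgEquiv' _
      rw [← map_mul, ← map_mul, ← val_mul, ← val_mul, hAc a.1 a.2 b.1 b.2])
    (by
      intro a
      show Matrix.toLinAlgEquiv' _ * Matrix.toLinAlgEquiv' _ = 1
      rw [← map_mul, ← val_mul, hA2 a.1 a.2, val_one, map_one])
  have hpos : 0 < Module.finrank F VV := by rw [hfr]; omega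
  let j : Fin (Module.finrank F VV) := ⟨0, hpos⟩
  have hc : ∀ a : ↥A, ∃ c : F, ((a : GG) : MM) *ᵥ (b j) = c • b j := by
    intro a
    obtain ⟨c, hc⟩ := hb a j
    exact ⟨c, by rw [← hc]; rfl⟩
  choose c hc using hc
  refine ⟨fun g => if hg : g ∈ A then c ⟨g, hg⟩ else 0, ?_, b j, b.ne_zero j, ?_⟩
  · intro g hg
    show (if hg : g ∈ A then c ⟨g, hg⟩ else 0) = 0
    rw [dif_neg hg]
  · intro a ha
    show _ = (if hg : a ∈ A then c ⟨a, hg⟩ else 0) • b j
    rw [dif_pos ha]
    exact hc ⟨a, ha⟩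

/-- the main counting bound -/
theorem card_E_le (h2 : (2 : F) ≠ 0) (hm : 1 ≤ m) (h : Setup (negOne m) E A) :
    Nat.card E ≤ 4 * Nat.card A * m := by
  classical
  obtain ⟨χ₀, hχ₀⟩ := Xset_nonempty h2 hm h.Ac h.A2
  let Ψ : GG → (GG → F) := fun e g => eps A e g * χ₀ g
  let s : Finset GG := Finset.univ.filter (fun e => e ∈ E)
  let C : Finset GG := Finset.univ.filter (fun e => e ∈ Cset E A)
  let X : Finset (GG → F) := Finset.univ.filter (fun χ => χ ∈ Xset A)
  have hs : s.card = Nat.card E := by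
    rw [Nat.card_eq_fintype_card, Fintype.card_subtype]
  have hC : C.card = (Cset E A).ncard := by
    rw [← Nat.card_coe_set_eq, Nat.card_eq_fintype_card, Fintype.card_subtype]
  have hX : X.card = (Xset A).ncard := by
    rw [← Nat.card_coe_set_eq, Nat.card_eq_fintype_card, Fintype.card_subtype]
  have himg : (s.image Ψ).card ≤ X.card := by
    apply Finset.card_le_card
    intro χ hχ
    obtain ⟨e, he, rfl⟩ := Finset.mem_image.1 hχ
    rw [Finset.mem_filter] at he ⊢
    exact ⟨Finset.mem_univ _, eps_mem h hχ₀ he.2⟩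
  have hfib : ∀ χ ∈ s.image Ψ, (s.filter (fun x => Ψ x = χ)).card ≤ C.card := by
    intro χ hχ
    obtain ⟨e, he, rfl⟩ := Finset.mem_image.1 hχ
    rw [Finset.mem_filter] at he
    apply Finset.card_le_card_of_injOn (fun x => e⁻¹ * x)
    · intro x hx
      have hx' := Finset.mem_filter.1 (Finset.mem_coe.1 hx)
      have hxE : x ∈ E := (Finset.mem_filter.1 hx'.1).2
      have hsame := eps_same h2 h.A2 hχ₀ hx'.2.symm
      have := comm_or h he.2 hxE hsame
      exact Finset.mem_coe.2 (Finset.mem_filter.2 ⟨Finset.mem_univ _, this⟩)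
    · intro x _ y _ hxy
      exact mul_left_cancel hxy
  have h1 := Finset.card_le_mul_card_image (f := Ψ) s C.card hfib
  have h3 := ncard_Cset_le h
  have h4 := ncard_Xset_le (m := m) h2 h.A2
  rw [hs] at h1
  calc Nat.card E ≤ C.card * (s.image Ψ).card := h1
    _ ≤ (4 * Nat.card A) * m := by
      apply Nat.mul_le_mul
      · rw [hC]; exact h3
      · exact le_trans himg (by rw [hX]; exact h4)

end count

end Cfsg.Agent.Lib.H11.PSpRank
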