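import Cfsg.Agent.Lib.H11.SpPair1
import Cfsg.Agent.S0768

set_option autoImplicit false
set_option linter.unusedSimpArgs false
set_option linter.unusedSectionVars false
set_option linter.unusedVariables false

namespace Cfsg.Agent.Lib.H11.SpPair

open Matrix Module
open Cfsg.Agent.Lib.H28 Cfsg.Agent.Lib.H11.SubspMax
open Cfsg.Agent.Lib.H4 (sympForm_self sympForm_add_left sympForm_add_right sympForm_smul_left
  sympForm_smul_right sympForm_swap)

section general

variable {F : Type*} [Field F] {V : Type*} [AddCommGroup V] [Module F V] [FiniteDimensional F V]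

theorem finrank_le_inf_ker_add_one (U : Submodule F V) (f : Dual F V) :
    finrank F U ≤ finrank F ↥(U ⊓ LinearMap.ker f) + 1 := by
  have h1 := Submodule.finrank_sup_add_finrank_inf_eq U (LinearMap.ker f)
  have h2 : finrank F ↥(U ⊔ LinearMap.ker f) ≤ finrank F V := Submodule.finrank_le _
  have h3 := LinearMap.finrank_range_add_finrank_ker f
  have h4 : finrank F ↥(LinearMap.range f) ≤ 1 := by
    have := Submodule.finrank_le (LinearMap.range f)
    rwa [Module.finrank_self] at this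
  omega

/-- a vector of `U` killed by finitely many functionals and outside a small subspace `S` -/
theorem exists_mem_kers_not_mem (fs : List (Dual F V)) :
    ∀ (U S : Submodule F V), finrank F S + fs.length < finrank F U →
      ∃ w ∈ U, (∀ f ∈ fs, f w = 0) ∧ w ∉ S := by
  induction fs with
  | nil =>
    intro U S h
    have : ¬ U ≤ S := fun hle => by
      have := Submodule.finrank_mono hle
      simp at h
      omega
    obtain ⟨w, hw, hwS⟩ := Set.not_subset.mp this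
    exact ⟨w, hw, by simp, hwS⟩
  | cons f fs ih =>
    intro U S h
    have h1 := finrank_le_inf_ker_add_one U f
    obtain ⟨w, hw, hfs, hwS⟩ := ih (U ⊓ LinearMap.ker f) S (by
      simp only [List.length_cons] at h
      omega)
    refine ⟨w, hw.1, ?_, hwS⟩
    intro g hg
    rcases List.mem_cons.1 hg with rfl | hg
    · exact hw.2
    · exact hfs g hg

end general

variable {F : Type*} [Field F] {m : ℕ}

local notation "VV" => (Fin m ⊕ Fin m → F)
local notation "GG" => GL (Fin m ⊕ Fin m) F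
local notation "MM" => Matrix (Fin m ⊕ Fin m) (Fin m ⊕ Fin m) F
local notation "B" => Cfsg.sympForm m F

/-- a pair of complementary maximal totally isotropic subspaces -/
structure LagPair (U₁ U₂ : Submodule F VV) : Prop where
  iso₁ : ∀ u ∈ U₁, ∀ v ∈ U₁, B u v = 0
  iso₂ : ∀ u ∈ U₂, ∀ v ∈ U₂, B u v = 0
  disj : U₁ ⊓ U₂ = ⊥
  span : ∀ x : VV, ∃ x₁ ∈ U₁, ∃ x₂ ∈ U₂, x = x₁ + x₂
  fr₁ : finrank F U₁ = m
  fr₂ : finrank F U₂ = m

variable {U₁ U₂ : Submodule F (Fin m ⊕ Fin m → F)}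

theorem LagPair.symm (h : LagPair U₁ U₂) : LagPair U₂ U₁ where
  iso₁ := h.iso₂
  iso₂ := h.iso₁
  disj := by rw [inf_comm]; exact h.disj
  span := fun x => by
    obtain ⟨x₁, h₁, x₂, h₂, hx⟩ := h.span x
    exact ⟨x₂, h₂, x₁, h₁, by rw [hx, add_comm]⟩
  fr₁ := h.fr₂
  fr₂ := h.fr₁

/-- the functional `B(·, y)` -/
noncomputable def fB (y : VV) : Dual F VV := (Cfsg.Agent.S0768.B₀ F m).flip y

theorem fB_apply (y x : VV) : fB y x = B x y := by
  show (Cfsg.Agent.S0768.B₀ F m) x y = _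
  rw [Cfsg.Agent.S0768.B₀_apply]

theorem LagPair.exists_ne (h : LagPair U₁ U₂) {x : VV} (hx : x ∈ U₁) (hx0 : x ≠ 0) :
    ∃ y ∈ U₂, B x y ≠ 0 := by
  obtain ⟨y₀, hy₀⟩ := exists_sympForm_ne x hx0
  obtain ⟨y₁, h₁, y₂, h₂, rfl⟩ := h.span y₀
  rw [sympForm_add_right, h.iso₁ x hx y₁ h₁, zero_add] at hy₀
  exact ⟨y₂, h₂, hy₀⟩

/-- `U₂` is the dual of `U₁` -/
theorem LagPair.exists_dual (h : LagPair U₁ U₂) (φ : Dual F VV) :
    ∃ y ∈ U₂, ∀ x ∈ U₁, B x y = φ x := by
  let ψ : U₂ →ₗ[F] Dual F U₁ :=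
    (Submodule.dualRestrict U₁) ∘ₗ ((Cfsg.Agent.S0768.B₀ F m).flip) ∘ₗ U₂.subtype
  have hψ : ∀ (y : U₂) (x : U₁), ψ y x = B (x : VV) (y : VV) := by
    intro y x
    show (Submodule.dualRestrict U₁) (((Cfsg.Agent.S0768.B₀ F m).flip) (y : VV)) x = _
    rw [Submodule.dualRestrict_apply]
    show (Cfsg.Agent.S0768.B₀ F m) (x : VV) (y : VV) = _
    rw [Cfsg.Agent.S0768.B₀_apply]
  have hinj : Function.Injective ψ := by
    rw [injective_iff_map_eq_zero]
    intro y hy
    by_contra hy0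
    have hy0' : (y : VV) ≠ 0 := fun h0 => hy0 (Subtype.ext h0)
    obtain ⟨x, hx, hxy⟩ := h.symm.exists_ne y.2 hy0'
    apply hxy
    have := hψ y ⟨x, hx⟩
    rw [hy, LinearMap.zero_apply] at this
    rw [sympForm_swap, ← this, neg_zero]
  have hfr : finrank F U₂ = finrank F (Dual F U₁) := by
    rw [Subspace.dual_finrank_eq, h.fr₁, h.fr₂]
  have hsurj : Function.Surjective ψ :=
    (LinearMap.injective_iff_surjective_of_finrank_eq_finrank hfr).1 hinj
  obtain ⟨y, hy⟩ := hsurj (Submodule.dualRestrict U₁ φ)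
  refine ⟨y, y.2, fun x hx => ?_⟩
  have := hψ y ⟨x, hx⟩
  rw [hy, Submodule.dualRestrict_apply] at this
  exact this.symm

/-- separate two independent vectors of `U₁` by a vector of `U₂` -/
theorem LagPair.exists_sep (h : LagPair U₁ U₂) {u v : VV} (hu : u ∈ U₁) (hv : v ∈ U₁)
    (hvu : v ∉ Submodule.span F {u}) : ∃ y ∈ U₂, B u y = 0 ∧ B v y = 1 := by
  obtain ⟨f, hfv, hfu⟩ := Submodule.exists_le_ker_of_notMem hvu
  have hfu0 : f u = 0 := hfu (Submodule.mem_span_singleton_self u)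
  obtain ⟨y, hy, hyx⟩ := h.exists_dual ((f v)⁻¹ • f)
  refine ⟨y, hy, ?_, ?_⟩
  · rw [hyx u hu, LinearMap.smul_apply, hfu0, smul_zero]
  · rw [hyx v hv, LinearMap.smul_apply, smul_eq_mul, inv_mul_cancel₀ hfv]

/-- a vector of `U₂` with equal value one on two independent vectors of `U₁` -/
theorem LagPair.exists_both_one (h : LagPair U₁ U₂) {u v : VV} (hu : u ∈ U₁) (hv : v ∈ U₁)
    (hvu : v ∉ Submodule.span F {u}) (hu0 : u ≠ 0) : ∃ y ∈ U₂, B u y = 1 ∧ B v y = 1 := by
  obtain ⟨y₁, hy₁, h11, h12⟩ := h.exists_sep hu hv hvu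
  have huv : u ∉ Submodule.span F {v} := by
    intro hmem
    obtain ⟨c, hc⟩ := Submodule.mem_span_singleton.1 hmem
    have hc0 : c ≠ 0 := by
      rintro rfl
      rw [zero_smul] at hc
      exact hu0 hc.symm
    apply hvu
    rw [Submodule.mem_span_singleton]
    exact ⟨c⁻¹, by rw [← hc, smul_smul, inv_mul_cancel₀ hc0, one_smul]⟩
  obtain ⟨y₂, hy₂, h21, h22⟩ := h.exists_sep hv hu huv
  refine ⟨y₁ + y₂, U₂.add_mem hy₁ hy₂, ?_, ?_⟩
  · rw [sympForm_add_right, h11, h22, zero_add]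
  · rw [sympForm_add_right, h12, h21, add_zero]

/-- components -/
theorem LagPair.orth_of_mem_of_forall (h : LagPair U₁ U₂) {x : VV} (hx : x ∈ U₁)
    (hall : ∀ y ∈ U₂, B x y = 0) : x = 0 := by
  by_contra hx0
  obtain ⟨y, hy, hxy⟩ := h.exists_ne hx hx0
  exact hxy (hall y hy)

end Cfsg.Agent.Lib.H11.SpPair
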