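import Cfsg.Agent.Lib.H11.SubspMax1
import Cfsg.Agent.Lib.H11.SpPair2

set_option autoImplicit false
set_option linter.unusedSimpArgs false
set_option linter.unusedSectionVars false
set_option linter.unusedVariables false

/-!
Stabilisers of a pair of subspaces `D : Fin 2 → Submodule F (ι → F)` of equal dimension, in `GL`.
-/

namespace Cfsg.Agent.Lib.H11.PairStab

open Matrix Module
open Cfsg.Agent.Lib.H28 Cfsg.Agent.Lib.H11.SubspMax

variable {F : Type*} [Field F] {ι : Type} [Fintype ι] [DecidableEq ι]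

theorem gl_inj (g : GL ι F) {x y : ι → F}
    (h : (g : Matrix ι ι F) *ᵥ x = (g : Matrix ι ι F) *ᵥ y) : x = y := by
  have := congrArg (fun v => ((g⁻¹ : GL ι F) : Matrix ι ι F) *ᵥ v) h
  simpa [gl_inv_mulVec] using this

theorem toLin'_injective (g : GL ι F) :
    Function.Injective (Matrix.toLin' (g : Matrix ι ι F)) := by
  intro x y hxy
  rw [Matrix.toLin'_apply, Matrix.toLin'_apply] at hxy
  exact gl_inj g hxy

theorem finrank_map_gl (g : GL ι F) (W : Submodule F (ι → F)) :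
    finrank F ↥(W.map (Matrix.toLin' (g : Matrix ι ι F))) = finrank F W :=
  (LinearEquiv.finrank_eq (Submodule.equivMapOfInjective _ (toLin'_injective g) W)).symm

theorem map_gl_injective (g : GL ι F) {W W' : Submodule F (ι → F)}
    (h : W.map (Matrix.toLin' (g : Matrix ι ι F)) = W'.map (Matrix.toLin' (g : Matrix ι ι F))) :
    W = W' :=
  Submodule.map_injective_of_injective (toLin'_injective g) h

theorem map_eq_of_maps (g : GL ι F) (W W' : Submodule F (ι → F))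
    (h : ∀ x ∈ W, (g : Matrix ι ι F) *ᵥ x ∈ W') (hfr : finrank F W = finrank F W') :
    W.map (Matrix.toLin' (g : Matrix ι ι F)) = W' := by
  have hle : W.map (Matrix.toLin' (g : Matrix ι ι F)) ≤ W' := by
    rintro _ ⟨x, hx, rfl⟩
    rw [Matrix.toLin'_apply]; exact h x hx
  exact Submodule.eq_of_le_of_finrank_eq hle (by rw [finrank_map_gl, hfr])

variable {D : Fin 2 → Submodule F (ι → F)}

theorem mem_stab_of_stab2 (g : GL ι F)
    (h1 : ∀ x ∈ D 0, (g : Matrix ι ι F) *ᵥ x ∈ D 0)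
    (h2 : ∀ x ∈ D 1, (g : Matrix ι ι F) *ᵥ x ∈ D 1) :
    g ∈ Cfsg.Geo.decompositionStabilizer D := by
  refine ⟨1, ?_⟩
  rw [Fin.forall_fin_two]
  exact ⟨map_eq_of_maps g _ _ h1 rfl, map_eq_of_maps g _ _ h2 rfl⟩

theorem mem_stab_of_swap2 (hfr : finrank F (D 0) = finrank F (D 1)) (g : GL ι F)
    (h1 : ∀ x ∈ D 0, (g : Matrix ι ι F) *ᵥ x ∈ D 1)
    (h2 : ∀ x ∈ D 1, (g : Matrix ι ι F) *ᵥ x ∈ D 0) :
    g ∈ Cfsg.Geo.decompositionStabilizer D := by
  refine ⟨Equiv.swap 0 1, ?_⟩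
  rw [Fin.forall_fin_two]
  refine ⟨?_, ?_⟩
  · rw [Equiv.swap_apply_left]
    exact map_eq_of_maps g _ _ h1 hfr
  · rw [Equiv.swap_apply_right]
    exact map_eq_of_maps g _ _ h2 hfr.symm

theorem cases_of_mem_stab (g : GL ι F) (hg : g ∈ Cfsg.Geo.decompositionStabilizer D) :
    ((∀ x ∈ D 0, (g : Matrix ι ι F) *ᵥ x ∈ D 0) ∧ (∀ x ∈ D 1, (g : Matrix ι ι F) *ᵥ x ∈ D 1)) ∨
    ((∀ x ∈ D 0, (g : Matrix ι ι F) *ᵥ x ∈ D 1) ∧ (∀ x ∈ D 1, (g : Matrix ι ι F) *ᵥ x ∈ D 0)) := by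
  obtain ⟨σ, hσ⟩ := hg
  have key : ∀ i, ∀ x ∈ D i, (g : Matrix ι ι F) *ᵥ x ∈ D (σ i) := by
    intro i x hx
    rw [← hσ i]
    exact ⟨x, hx, by rw [Matrix.toLin'_apply]⟩
  have hfin : ∀ i : Fin 2, i = 0 ∨ i = 1 := by decide
  rcases hfin (σ 0) with h0 | h0
  · left
    have h1 : σ 1 = 1 := by
      rcases hfin (σ 1) with h1 | h1
      · exact absurd (σ.injective (h0.trans h1.symm)) (by decide)
      · exact h1
    refine ⟨fun x hx => ?_, fun x hx => ?_⟩
    · have := key 0 x hx; rwa [h0] at this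
    · have := key 1 x hx; rwa [h1] at this
  · right
    have h1 : σ 1 = 0 := by
      rcases hfin (σ 1) with h1 | h1
      · exact h1
      · exact absurd (σ.injective (h0.trans h1.symm)) (by decide)
    refine ⟨fun x hx => ?_, fun x hx => ?_⟩
    · have := key 0 x hx; rwa [h0] at this
    · have := key 1 x hx; rwa [h1] at this

/-- if the images of `D 0`, `D 1` under `h` are again `D 0`, `D 1` in some order, `h` stabilises
the pair -/
theorem mem_stab_of_images (hne : D 0 ≠ D 1) (h : GL ι F)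
    (h0 : (D 0).map (Matrix.toLin' (h : Matrix ι ι F)) = D 0 ∨
      (D 0).map (Matrix.toLin' (h : Matrix ι ι F)) = D 1)
    (h1 : (D 1).map (Matrix.toLin' (h : Matrix ι ι F)) = D 0 ∨
      (D 1).map (Matrix.toLin' (h : Matrix ι ι F)) = D 1) :
    h ∈ Cfsg.Geo.decompositionStabilizer D := by
  rcases h0 with h0 | h0 <;> rcases h1 with h1 | h1
  · exact absurd (map_gl_injective h (h0.trans h1.symm)) hne
  · refine ⟨1, ?_⟩
    rw [Fin.forall_fin_two]
    exact ⟨h0, h1⟩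
  · refine ⟨Equiv.swap 0 1, ?_⟩
    rw [Fin.forall_fin_two]
    exact ⟨by rw [Equiv.swap_apply_left]; exact h0, by rw [Equiv.swap_apply_right]; exact h1⟩
  · exact absurd (map_gl_injective h (h0.trans h1.symm)) hne

theorem sup_eq_top_of_decomp {k : ℕ} (hD : Cfsg.Geo.IsMDecomposition k D) : D 0 ⊔ D 1 = ⊤ := by
  rw [← hD.iSup_eq_top]
  apply le_antisymm
  · exact sup_le (le_iSup D 0) (le_iSup D 1)
  · apply iSup_le
    rw [Fin.forall_fin_two]
    exact ⟨le_sup_left, le_sup_right⟩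

theorem inf_eq_bot_of_decomp {k : ℕ} (hD : Cfsg.Geo.IsMDecomposition k D) : D 0 ⊓ D 1 = ⊥ := by
  have := hD.indep.pairwiseDisjoint (show (0 : Fin 2) ≠ 1 by decide)
  exact disjoint_iff.1 this

end Cfsg.Agent.Lib.H11.PairStab
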