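import Mathlib
import Cfsg.Prelude.Def_OddOrderLocal
import Cfsg.Prelude.Def_CaseTheorems
import Cfsg.Prelude.Def_PLocal
import Cfsg.Agent.Lib.H19.R2Defs
import Cfsg.Agent.Lib.H11.R2LIFT

/-!
# S3888 farm-out, piece ALPHAT2 (helper11)
-/

set_option autoImplicit false

namespace Cfsg.Agent.Lib.H11.R2

open Cfsg Cfsg.Agent.Lib.H19.R2
open scoped commutatorElement

universe u

variable {p : ℕ} [Fact p.Prime] {G : Type u} [Group G] [Finite G]

/-- ALPHAT2. -/
theorem alpha_T2 (hp2 : p ≠ 2) (hG : IsPGroup p G) {N : Subgroup G} (h : H2 p G N) {n : ℕ} (h5 : 5 ≤ n)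
    (hcard : Nat.card G = p ^ n) (Z : Subgroup G) [Z.Normal] (hZ : Z = N ⊓ Subgroup.center G)
    (hZp : Nat.card Z = p) : ¬ T2 p (n - 1) (G ⧸ Z) := by
  have hpp : p.Prime := Fact.out
  rintro ⟨-, x, y, z, hgen, hx, hy, hz, hxz, hyz, hxy⟩
  have hQ : Nat.card (G ⧸ Z) = p ^ (n - 1) := card_quot_of_card Z (by omega) hcard hZp
  -- `z` is central
  have hzc : ∀ g : G ⧸ Z, z * g = g * z := by
    intro g
    have hle : Subgroup.closure ({x, y, z} : Set (G ⧸ Z)) ≤ Subgroup.centralizer {z} := by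
      rw [Subgroup.closure_le]
      intro g hg
      rw [SetLike.mem_coe, Subgroup.mem_centralizer_iff]
      intro w hw
      rw [Set.mem_singleton_iff] at hw
      subst hw
      rcases hg with rfl | rfl | rfl
      · exact hxz.symm
      · exact hyz.symm
      · rfl
    have hg : g ∈ Subgroup.centralizer ({z} : Set (G ⧸ Z)) := hle (hgen ▸ Subgroup.mem_top g)
    exact Subgroup.mem_centralizer_iff.mp hg z rfl
  obtain ⟨w, hw⟩ : ∃ w : G ⧸ Z, w = z ^ p ^ (n - 1 - 3) := ⟨_, rfl⟩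
  -- `w ≠ 1` by counting
  have hw1 : w ≠ 1 := by
    intro hw1
    rw [← hw, hw1, mul_one] at hxy
    have hdvd := card_dvd_of_gens x y z hgen hyz
      (by rw [hxy]; exact (le_sup_left : Subgroup.zpowers y ≤ _) (Subgroup.mem_zpowers y))
      (by
        have : x⁻¹ * z * x = z := by rw [mul_assoc, hxz.symm, inv_mul_cancel_left]
        rw [this]; exact (le_sup_right : Subgroup.zpowers z ≤ _) (Subgroup.mem_zpowers z))
    have hox : orderOf x ∣ p := orderOf_dvd_of_pow_eq_one hx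
    have hoy : orderOf y ∣ p := orderOf_dvd_of_pow_eq_one hy
    have hoz : orderOf z ∣ p ^ (n - 1 - 3) := orderOf_dvd_of_pow_eq_one (by rw [← hw]; exact hw1)
    have h2 : Nat.card (G ⧸ Z) ∣ p * (p * p ^ (n - 1 - 3)) :=
      hdvd.trans (Nat.mul_dvd_mul hox (Nat.mul_dvd_mul hoy hoz))
    rw [hQ] at h2
    have h3 : p * (p * p ^ (n - 1 - 3)) = p ^ (n - 2) := by
      rw [← pow_succ', ← pow_succ']; congr 1; omega
    rw [h3] at h2
    have := (Nat.pow_dvd_pow_iff_le_right hpp.one_lt).mp h2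
    omega
  -- the central element of order `p ^ 2`
  have hfc : ∀ g : G ⧸ Z, z ^ p ^ (n - 1 - 4) * g = g * z ^ p ^ (n - 1 - 4) := fun g =>
    ((show Commute z g from hzc g).pow_left _).eq
  have hfp : (z ^ p ^ (n - 1 - 4)) ^ p = w := by
    rw [hw, ← pow_mul, ← pow_succ]; congr 2; omega
  have hfpp : (z ^ p ^ (n - 1 - 4)) ^ (p * p) = 1 := by
    rw [pow_mul, hfp, hw, ← pow_mul, ← pow_succ]
    have : n - 1 - 3 + 1 = n - 1 - 2 := by omega
    rw [this]; exact hz
  have hcomm := lift_commute h Z hZ hZp (z ^ p ^ (n - 1 - 4)) hfc (by rw [hfp]; exact hw1) hfpp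
    x y hx hy
  apply hw1
  rw [← hw] at hxy
  have : x⁻¹ * y * x = y := by rw [mul_assoc, ← hcomm, inv_mul_cancel_left]
  rw [this] at hxy
  exact (mul_eq_left.mp hxy.symm)

end Cfsg.Agent.Lib.H11.R2
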