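import Mathlib
import Cfsg.Prelude.Def_OddOrderLocal
import Cfsg.Prelude.Def_CaseTheorems
import Cfsg.Prelude.Def_PLocal
import Cfsg.Agent.Lib.H19.R2Defs
import Cfsg.Agent.Lib.H11.R2LIFT

/-!
# S3888 farm-out, piece ALPHAT3 (helper11)
-/

set_option autoImplicit false

namespace Cfsg.Agent.Lib.H11.R2

open Cfsg Cfsg.Agent.Lib.H19.R2
open scoped commutatorElement

universe u

variable {p : ℕ} [Fact p.Prime] {G : Type u} [Group G] [Finite G]

/-- ALPHAT3. -/
theorem alpha_T3 (hp2 : p ≠ 2) (hG : IsPGroup p G) {N : Subgroup G} (h : H2 p G N) {n : ℕ} (h5 : 5 ≤ n)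
    (hcard : Nat.card G = p ^ n) (Z : Subgroup G) [Z.Normal] (hZ : Z = N ⊓ Subgroup.center G)
    (hZp : Nat.card Z = p) (ht : T3 p (n - 1) (G ⧸ Z)) :
    n = 5 ∧ (⊤ : Subgroup (G ⧸ Z)).lowerCentralSeries 2 ≠ ⊥ := by
  have hpp : p.Prime := Fact.out
  obtain ⟨-, s, x, y, z, hs, hgen, hx, hy, hz, hyz, hxy, hxz⟩ := ht
  have hQ : Nat.card (G ⧸ Z) = p ^ (n - 1) := card_quot_of_card Z (by omega) hcard hZp
  -- `p ∤ s`
  have hps : ¬ p ∣ s := by
    intro hd
    rcases hs with rfl | hs
    · exact hpp.one_lt.ne' (Nat.dvd_one.mp hd)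
    · apply hs
      rw [(ZMod.natCast_eq_zero_iff s p).mpr hd]
      exact ⟨0, by simp⟩
  obtain ⟨w, hw⟩ : ∃ w : G ⧸ Z, w = z ^ p ^ (n - 1 - 3) := ⟨_, rfl⟩
  have hws : z ^ (s * p ^ (n - 1 - 3)) = w ^ s := by rw [hw, ← pow_mul, mul_comm]
  rw [hws] at hxy
  have hwp : w ^ p = 1 := by
    rw [hw, ← pow_mul, ← pow_succ]
    have : n - 1 - 3 + 1 = n - 1 - 2 := by omega
    rw [this]; exact hz
  -- `w ≠ 1` by counting
  have hw1 : w ≠ 1 := by
    intro hw1
    rw [hw1, one_pow, mul_one] at hxy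
    have hdvd := card_dvd_of_gens x y z hgen hyz
      (by rw [hxy]; exact (le_sup_left : Subgroup.zpowers y ≤ _) (Subgroup.mem_zpowers y))
      (by
        rw [hxz]
        exact Subgroup.mul_mem _
          ((le_sup_left : Subgroup.zpowers y ≤ _) (Subgroup.mem_zpowers y))
          ((le_sup_right : Subgroup.zpowers z ≤ _) (Subgroup.mem_zpowers z)))
    have hox : orderOf x ∣ p := orderOf_dvd_of_pow_eq_one hx
    have hoy : orderOf y ∣ p := orderOf_dvd_of_pow_eq_one hy
    have hoz : orderOf z ∣ p ^ (n - 1 - 3) := orderOf_dvd_of_pow_eq_one (by rw [← hw]; exact hw1)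
    have h2 : Nat.card (G ⧸ Z) ∣ p * (p * p ^ (n - 1 - 3)) :=
      hdvd.trans (Nat.mul_dvd_mul hox (Nat.mul_dvd_mul hoy hoz))
    rw [hQ] at h2
    have h3 : p * (p * p ^ (n - 1 - 3)) = p ^ (n - 2) := by
      rw [← pow_succ', ← pow_succ']; congr 1; omega
    rw [h3] at h2
    have := (Nat.pow_dvd_pow_iff_le_right hpp.one_lt).mp h2
    omega
  have hws1 : w ^ s ≠ 1 := by
    intro h1
    have ho : orderOf w = p := orderOf_eq_prime hwp hw1
    exact hps (ho ▸ orderOf_dvd_of_pow_eq_one h1)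
  have hnc : x * y ≠ y * x := by
    intro hc
    apply hws1
    have : x⁻¹ * y * x = y := by rw [mul_assoc, ← hc, inv_mul_cancel_left]
    rw [this] at hxy
    exact (mul_eq_left.mp hxy.symm)
  have hn5 : n = 5 := by
    by_contra hne
    have h6 : 6 ≤ n := by omega
    apply hnc
    obtain ⟨f, hf⟩ : ∃ f : G ⧸ Z, f = z ^ p ^ (n - 1 - 4) := ⟨_, rfl⟩
    have hfz : f * z = z * f := by rw [hf]; exact ((Commute.refl z).pow_left _).eq
    have hfy : f * y = y * f := by
      rw [hf]; exact ((show Commute z y from hyz.symm).pow_left _).eq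
    have hfx : f * x = x * f := by
      have h1 : x⁻¹ * f * x = f := by
        have hconj : x⁻¹ * f * x = (x⁻¹ * z * x) ^ p ^ (n - 1 - 4) := by
          rw [hf]
          have := conj_pow (a := x⁻¹) (b := z) (i := p ^ (n - 1 - 4))
          rw [inv_inv] at this
          exact this.symm
        rw [hconj, hxz, (show Commute y z from hyz).mul_pow, ← hf]
        have : y ^ p ^ (n - 1 - 4) = 1 := by
          have : p ^ (n - 1 - 4) = p * p ^ (n - 1 - 5) := by rw [← pow_succ']; congr 1; omega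
          rw [this, pow_mul, hy, one_pow]
        rw [this, one_mul]
      calc f * x = x * (x⁻¹ * f * x) := by group
        _ = x * f := by rw [h1]
    have hfc : ∀ g : G ⧸ Z, f * g = g * f := by
      intro g
      have hle : Subgroup.closure ({x, y, z} : Set (G ⧸ Z)) ≤ Subgroup.centralizer {f} := by
        rw [Subgroup.closure_le]
        intro g hg
        rw [SetLike.mem_coe, Subgroup.mem_centralizer_iff]
        intro v hv
        rw [Set.mem_singleton_iff] at hv
        subst hv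
        rcases hg with rfl | rfl | rfl
        · exact hfx
        · exact hfy
        · exact hfz
      have hg : g ∈ Subgroup.centralizer ({f} : Set (G ⧸ Z)) := hle (hgen ▸ Subgroup.mem_top g)
      exact Subgroup.mem_centralizer_iff.mp hg f rfl
    have hfp : f ^ p = w := by
      rw [hf, hw, ← pow_mul, ← pow_succ]; congr 2; omega
    have hfpp : f ^ (p * p) = 1 := by rw [pow_mul, hfp, hwp]
    exact lift_commute h Z hZ hZp f hfc (by rw [hfp]; exact hw1) hfpp x y hx hy
  refine ⟨hn5, ?_⟩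
  intro hbot
  apply hws1
  have hy1 : y ∈ (⊤ : Subgroup (G ⧸ Z)).lowerCentralSeries 1 := by
    have hyc : y = ⁅x⁻¹, z⁆ := by
      rw [commutatorElement_def, inv_inv, hxz, mul_inv_cancel_right]
    rw [hyc, Subgroup.lowerCentralSeries_succ, Subgroup.lowerCentralSeries_zero]
    exact Subgroup.commutator_mem_commutator (Subgroup.mem_top _) (Subgroup.mem_top _)
  have hw2 : w ^ s ∈ (⊤ : Subgroup (G ⧸ Z)).lowerCentralSeries 2 := by
    have hwc : w ^ s = ⁅y⁻¹, x⁻¹⁆ := by
      rw [commutatorElement_def, inv_inv, inv_inv, mul_assoc, mul_assoc, ← mul_assoc x⁻¹, hxy,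
        inv_mul_cancel_left]
    rw [hwc, Subgroup.lowerCentralSeries_succ]
    exact Subgroup.commutator_mem_commutator (Subgroup.inv_mem _ hy1) (Subgroup.mem_top _)
  rw [hbot, Subgroup.mem_bot] at hw2
  exact hw2

end Cfsg.Agent.Lib.H11.R2
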