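import Mathlib
import Cfsg.Prelude.Def_OddOrderLocal
import Cfsg.Prelude.Def_CaseTheorems
import Cfsg.Prelude.Def_PLocal
import Cfsg.Agent.Lib.H19.R2Defs
import Cfsg.Agent.Lib.H18.PGroupP4
import Cfsg.Agent.Lib.H27.Extraspecial
import Cfsg.Agent.Lib.H1.NilpotentBasic

/-!
# S3888 farm-out, piece ALPHAZ (helper11)
-/

set_option autoImplicit false

namespace Cfsg.Agent.Lib.H11.R2

open Cfsg Cfsg.Agent.Lib.H19.R2
open scoped commutatorElement

universe u

/-- a group of order `p ^ k` with a cyclic subgroup `⟨g⟩` of index dividing `p` is metacyclic -/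
theorem az_meta {p : ℕ} [Fact p.Prime] {X : Type*} [Group X] [Finite X] {k : ℕ}
    (hX : Nat.card X = p ^ k) (g : X) (hg : p ^ k ∣ orderOf g * p) : Cfsg.IsMetacyclic X := by
  have hpp : p.Prime := Fact.out
  obtain ⟨C, hC⟩ : ∃ C : Subgroup X, C = Subgroup.zpowers g := ⟨_, rfl⟩
  have hCcard : Nat.card C = orderOf g := by rw [hC, Nat.card_zpowers]
  have hidx : C.index ∣ p := by
    have h1 := Subgroup.card_mul_index C
    rw [hCcard, hX] at h1
    rw [← h1] at hg
    have ho : 0 < orderOf g := orderOf_pos g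
    exact Nat.dvd_of_mul_dvd_mul_left ho hg
  have hcyc : IsCyclic C := by rw [hC]; infer_instance
  rcases (Nat.dvd_prime hpp).mp hidx with h1 | h1
  · have htop : C = ⊤ := Subgroup.index_eq_one.mp h1
    have hn : C.Normal := by rw [htop]; infer_instance
    refine ⟨C, hn, hcyc, ?_⟩
    have : Nat.card (X ⧸ C) = 1 := by rw [← Subgroup.index_eq_card]; exact h1
    have : Subsingleton (X ⧸ C) := (Nat.card_eq_one_iff_unique.mp this).1
    exact isCyclic_of_subsingleton
  · have hk : k ≠ 0 := by
      rintro rfl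
      rw [pow_zero] at hX
      have := Subgroup.index_dvd_card C
      rw [hX, h1] at this
      exact hpp.one_lt.ne' (Nat.dvd_one.mp this)
    have hn : C.Normal := by
      apply Subgroup.normal_of_index_eq_minFac_card
      rw [hX, Nat.Prime.pow_minFac hpp hk, h1]
    refine ⟨C, hn, hcyc, ?_⟩
    have : Nat.card (X ⧸ C) = p := by rw [← Subgroup.index_eq_card]; exact h1
    exact isCyclic_of_prime_card this

variable {p : ℕ} [Fact p.Prime] {G : Type u} [Group G] [Finite G]

/-- ALPHAZ. -/
theorem alpha_Z (hp2 : p ≠ 2) (hG : IsPGroup p G) {N : Subgroup G} (h : H2 p G N) {n : ℕ}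
    (hcard : Nat.card G = p ^ n) (M : Subgroup G) (hM : M.index = p) (hNM : N ≤ M)
    (hMmc : MC p (n - 1) ↥M) (hMn : ¬ Cfsg.IsMetacyclic ↥M) :
    5 ≤ n ∧ Nat.card ↥(N ⊓ Subgroup.center G) = p ∧
      ∀ g ∈ M, (∀ m ∈ M, g * m = m * g) → g ∈ N ⊓ Subgroup.center G := by
  have hpp : p.Prime := Fact.out
  obtain ⟨-, hn2, hlcs⟩ := hMmc
  have hMcard : Nat.card M = p ^ (n - 1) := by
    have h1 := Subgroup.card_mul_index M
    rw [hM, hcard] at h1
    have h2 : p ^ n = p ^ (n - 1) * p := by rw [← pow_succ]; congr 1; omega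
    rw [h2] at h1
    exact Nat.eq_of_mul_eq_mul_right hpp.pos h1
  have hMp : IsPGroup p M := hG.to_subgroup M
  -- Step 1: `5 ≤ n`
  have h5 : 5 ≤ n := by
    by_contra hlt
    have hk : n - 1 ≤ 3 := by omega
    apply hMn
    by_cases hex : ∃ g : M, g ^ p ≠ 1
    · obtain ⟨g, hg⟩ := hex
      have ho : orderOf g ∣ p ^ (n - 1) := hMcard ▸ orderOf_dvd_natCard g
      obtain ⟨e, he, hoe⟩ := (Nat.dvd_prime_pow hpp).mp ho
      have he2 : 2 ≤ e := by
        by_contra hlt2
        apply hg
        have : orderOf g ∣ p := by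
          rw [hoe]
          have : e ≤ 1 := by omega
          calc p ^ e ∣ p ^ 1 := Nat.pow_dvd_pow p this
            _ = p := pow_one p
        exact orderOf_dvd_iff_pow_eq_one.mp this
      apply az_meta hMcard g
      rw [hoe, ← pow_succ]
      exact Nat.pow_dvd_pow p (by omega)
    · push Not at hex
      have hMN : M ≤ N := by
        intro g hg
        apply h.2
        have := hex ⟨g, hg⟩
        exact congrArg Subtype.val this
      have hle : p ^ (n - 1) ∣ p ^ 2 := by
        rw [← hMcard, ← h.1.card]; exact Subgroup.card_dvd_of_le hMN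
      have hn12 : n - 1 ≤ 2 := (Nat.pow_dvd_pow_iff_le_right hpp.one_lt).mp hle
      have hn1 : n - 1 = 2 := by omega
      have hnt : Nontrivial M := by
        rw [← Finite.one_lt_card_iff_nontrivial, hMcard, hn1]
        exact Nat.one_lt_pow (by norm_num) hpp.one_lt
      obtain ⟨g, hg1⟩ := exists_ne (1 : M)
      have hog : orderOf g = p := orderOf_eq_prime (hex g) hg1
      apply az_meta hMcard g
      rw [hog, hn1, pow_two]
  refine ⟨h5, ?_⟩
  -- Step 2: `|Z(M)| = p`
  have : Group.IsNilpotent M := hMp.isNilpotent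
  have hntM : Nontrivial M := by
    rw [← Finite.one_lt_card_iff_nontrivial, hMcard]
    exact Nat.one_lt_pow (by omega) hpp.one_lt
  obtain ⟨j, hj⟩ := IsPGroup.iff_card.mp (hMp.to_subgroup (Subgroup.center M))
  have hj1 : j = 1 := by
    have hj0 : j ≠ 0 := by
      rintro rfl
      rw [pow_zero] at hj
      have hbot : Subgroup.center M = ⊥ := Subgroup.card_eq_one.mp hj
      exact (hMp.bot_lt_center).ne' hbot
    by_contra hj1
    have hj2 : 2 ≤ j := by omega
    have hquot : Nat.card (M ⧸ Subgroup.center M) * p ^ j = p ^ (n - 1) := by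
      rw [← hj, ← hMcard]
      exact (Subgroup.card_eq_card_quotient_mul_card_subgroup (Subgroup.center M)).symm
    have hjn : j ≤ n - 1 := by
      have hdvd : p ^ j ∣ p ^ (n - 1) := by
        rw [← hj, ← hMcard]; exact Subgroup.card_subgroup_dvd_card _
      exact (Nat.pow_dvd_pow_iff_le_right hpp.one_lt).mp hdvd
    have hq : Nat.card (M ⧸ Subgroup.center M) = p ^ (n - 1 - j) := by
      have : p ^ (n - 1) = p ^ (n - 1 - j) * p ^ j := by rw [← pow_add]; congr 1; omega
      rw [this] at hquot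
      exact Nat.eq_of_mul_eq_mul_right (pow_pos hpp.pos j) hquot
    have hcl := Cfsg.Agent.Lib.H1.nilpotencyClass_le_of_card_eq_prime_pow (n - 1 - j)
      (M ⧸ Subgroup.center M) hq
    rw [Group.nilpotencyClass_quotient_center] at hcl
    have hcl2 : Group.nilpotencyClass M ≤ n - 3 := by
      have : max (n - 1 - j - 1) 1 ≤ n - 4 := max_le (by omega) (by omega)
      omega
    apply hlcs
    have hn3 : n - 1 - 2 = n - 3 := by omega
    rw [hn3, eq_bot_iff, ← Subgroup.lowerCentralSeries_nilpotencyClass (G := M)]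
    exact Subgroup.lowerCentralSeries_antitone _ hcl2
  rw [hj1, pow_one] at hj
  -- Step 3/4: `Z(M)` inside `G`
  obtain ⟨ZM, hZM⟩ : ∃ ZM : Subgroup G, ZM = M ⊓ Subgroup.centralizer (M : Set G) := ⟨_, rfl⟩
  have hZMcard : Nat.card ZM = p := by
    rw [hZM, ← Cfsg.Agent.Lib.H27.map_center_eq M,
      Subgroup.card_map_of_injective M.subtype_injective, hj]
  have hMn' : M.Normal := by
    apply Subgroup.normal_of_index_eq_minFac_card
    rw [hcard, Nat.Prime.pow_minFac hpp (by omega), hM]
  have hZMn : ZM.Normal := by rw [hZM]; infer_instance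
  have hZMc : ZM ≤ Subgroup.center G :=
    Cfsg.Agent.Lib.H18.le_center_of_normal_of_card_prime p hG ZM hZMcard
  have hZMN : ZM ≤ N := by
    intro g hg
    apply h.2
    have := pow_card_eq_one' (G := ZM) (x := ⟨g, hg⟩)
    rw [hZMcard] at this
    exact congrArg Subtype.val this
  have heq : N ⊓ Subgroup.center G = ZM := by
    apply le_antisymm
    · intro g hg
      rw [hZM]
      refine ⟨hNM hg.1, ?_⟩
      show g ∈ Subgroup.centralizer (M : Set G)
      rw [Subgroup.mem_centralizer_iff]
      intro m _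
      exact (Subgroup.mem_center_iff.mp hg.2 m)
    · exact le_inf hZMN hZMc
  refine ⟨by rw [heq]; exact hZMcard, ?_⟩
  intro g hgM hgc
  rw [heq, hZM]
  refine ⟨hgM, ?_⟩
  show g ∈ Subgroup.centralizer (M : Set G)
  rw [Subgroup.mem_centralizer_iff]
  intro m hm
  exact (hgc m hm).symm

end Cfsg.Agent.Lib.H11.R2
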