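import Mathlib

/-!
S4443 piece 8 (RANKMAP): the rank of a square matrix over a field is invariant under field
homomorphisms (general finite index type).  PURE Mathlib.
(Exact signature of `tools/blueprints/S4443_sigs.lean`; architect helper2.)
-/
set_option autoImplicit false

namespace Cfsg.Agent.Lib.H11.RB

/-- (RANKMAP) PURE: the rank of a square matrix over a field is invariant under field homomorphisms. -/
theorem rank_map_field {K L : Type*} [Field K] [Field L] (φ : K →+* L) {J : Type*} [Fintype J]
    [DecidableEq J] (A : Matrix J J K) : (A.map φ).rank = A.rank := by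
  classical
  obtain ⟨V, U, e, hV, hU, h⟩ := Matrix.exists_rank_normal_form A
  set w : Fin A.rank ⊕ Fin (Fintype.card J - A.rank) → K :=
    Sum.elim (fun _ => 1) (fun _ => 0) with hw
  have hN : (Matrix.fromBlocks (1 : Matrix (Fin A.rank) (Fin A.rank) K) 0 0
      (0 : Matrix (Fin (Fintype.card J - A.rank)) (Fin (Fintype.card J - A.rank)) K)).submatrix e e =
      Matrix.diagonal (w ∘ e) := by
    rw [← Matrix.diagonal_one, ← Matrix.diagonal_zero, Matrix.fromBlocks_diagonal,
      Matrix.submatrix_diagonal_equiv]
  rw [hN] at h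
  have hmapmul : ∀ X Y : Matrix J J K, (X * Y).map φ = X.map φ * Y.map φ :=
    fun X Y => Matrix.map_mul
  have hVdet : IsUnit (V.map φ).det := by
    have h1 : (V.map φ).det = φ V.det := by
      rw [RingHom.map_det, RingHom.mapMatrix_apply]
    rw [h1]
    exact ((Matrix.isUnit_iff_isUnit_det _).1 hV).map φ
  have hUdet : IsUnit (U.map φ).det := by
    have h1 : (U.map φ).det = φ U.det := by
      rw [RingHom.map_det, RingHom.mapMatrix_apply]
    rw [h1]
    exact ((Matrix.isUnit_iff_isUnit_det _).1 hU).map φ
  have hVdet' : IsUnit V.det := (Matrix.isUnit_iff_isUnit_det _).1 hV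
  have hUdet' : IsUnit U.det := (Matrix.isUnit_iff_isUnit_det _).1 hU
  -- the mapped identity
  have h2 : V.map φ * A.map φ * U.map φ = Matrix.diagonal (fun i => φ ((w ∘ e) i)) := by
    rw [← hmapmul, ← hmapmul, h, Matrix.diagonal_map (map_zero φ)]
  have h3 := congrArg Matrix.rank h2
  rw [Matrix.rank_mul_eq_left_of_isUnit_det _ _ hUdet,
    Matrix.rank_mul_eq_right_of_isUnit_det _ _ hVdet, Matrix.rank_diagonal] at h3
  have h4 := congrArg Matrix.rank h
  rw [Matrix.rank_mul_eq_left_of_isUnit_det _ _ hUdet',
    Matrix.rank_mul_eq_right_of_isUnit_det _ _ hVdet', Matrix.rank_diagonal] at h4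
  exact h3.trans ((Fintype.card_congr (Equiv.subtypeEquivRight (fun i => map_ne_zero φ))).trans h4.symm)

end Cfsg.Agent.Lib.H11.RB
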