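import Mathlib
import Cfsg.Prelude.Def_FusionSystem
import Cfsg.Agent.Lib.H11.RK2Fus0
import Cfsg.Agent.Lib.H11.RK2Pieces

/-!
# S5289 (helper11): essential subgroups of a `p`-group with multiplicative power map
-/

set_option autoImplicit false

namespace Cfsg.Agent.Lib.H11.RK2

open Cfsg Cfsg.FusionSystem Cfsg.Agent.Lib.H25 Cfsg.Agent.Lib.H26 Cfsg.Agent.Lib.H26.CycChain

variable {Ω : Type*} [Group Ω] {S : Subgroup Ω}

/-- CHAIN at the level of the ambient group: an essential subgroup `T` either has exponent `p` or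
contains `Ω₁(S)`. -/
theorem not_essential_of_pe [Finite S] {p : ℕ} [Fact p.Prime] (hS : IsPGroup p S)
    {F : FusionSystem S} (hF : F.IsSaturated p) {T : Subgroup Ω} (hess : F.IsEssential p T)
    (zp : Ω)
    (hpow : ∀ g ∈ S, ∀ k ∈ S, (g * k) ^ p = g ^ p * k ^ p)
    (hC : ∀ g ∈ S, g ^ p ∈ Subgroup.zpowers zp)
    (hΩ : Nat.card {g : ↥S // g ^ p = 1} = p ^ 3)
    (hout : ∃ g ∈ S, g ^ p = 1 ∧ g ∉ T)
    (hne : ∃ g ∈ T, g ^ p ≠ 1) : False := by
  have hTS : T ≤ S := hess.1.1
  have hfinT : Finite T := finite_of_le S hTS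
  have hTp : IsPGroup p T := hS.to_le hTS
  have hpowT : ∀ g k : T, (g * k) ^ p = g ^ p * k ^ p := by
    intro g k
    apply Subtype.ext
    have := hpow (g : Ω) (hTS g.2) (k : Ω) (hTS k.2)
    simpa using this
  have hCc : IsCyclic ((Subgroup.zpowers zp).subgroupOf T) := by
    refine isCyclic_of_injective
      (MonoidHom.codRestrict (T.subtype.comp ((Subgroup.zpowers zp).subgroupOf T).subtype)
        (Subgroup.zpowers zp) (fun g => g.2)) (fun a b hab => ?_)
    apply Subtype.ext; apply Subtype.ext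
    have := congrArg Subtype.val hab
    exact this
  have hCT : ∀ g : T, g ^ p ∈ (Subgroup.zpowers zp).subgroupOf T := by
    intro g
    rw [Subgroup.mem_subgroupOf]
    have := hC (g : Ω) (hTS g.2)
    simpa using this
  have hker : Nat.card {g : T // g ^ p = 1} < p ^ 3 := by
    obtain ⟨g₀, hg₀S, hg₀p, hg₀T⟩ := hout
    rw [← hΩ]
    haveI : Finite ↥S := inferInstance
    haveI : Fintype {g : T // g ^ p = 1} := Fintype.ofFinite _
    haveI : Fintype {g : ↥S // g ^ p = 1} := Fintype.ofFinite _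
    rw [Nat.card_eq_fintype_card, Nat.card_eq_fintype_card]
    refine Fintype.card_lt_of_injective_of_notMem
      (fun g : {g : T // g ^ p = 1} => (⟨⟨(g.1 : Ω), hTS g.1.2⟩, by
        apply Subtype.ext
        have := congrArg Subtype.val g.2
        simpa using this⟩ : {g : ↥S // g ^ p = 1}))
      (fun a b hab => ?_) (b := ⟨⟨g₀, hg₀S⟩, Subtype.ext (by simpa using hg₀p)⟩) ?_
    · apply Subtype.ext; apply Subtype.ext
      have := congrArg (fun t : {g : ↥S // g ^ p = 1} => ((t.1 : ↥S) : Ω)) hab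
      exact this
    · rintro ⟨a, ha⟩
      have := congrArg (fun t : {g : ↥S // g ^ p = 1} => ((t.1 : ↥S) : Ω)) ha
      apply hg₀T
      have h2 : ((a.1 : T) : Ω) = g₀ := this
      rw [← h2]
      exact a.1.2
  have hneT : ∃ g : T, g ^ p ≠ 1 := by
    obtain ⟨g, hgT, hgp⟩ := hne
    refine ⟨⟨g, hgT⟩, fun h => hgp ?_⟩
    have := congrArg Subtype.val h
    simpa using this
  obtain ⟨cc, hcd, h0, h3⟩ := Cfsg.Agent.Lib.H11.RK2P.chain_cycData hTp hpowT _ hCc hCT hker hneT (F.autGroup T)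
  exact not_essential_of_cycData hS hF hess cc 3 hcd h0 h3

end Cfsg.Agent.Lib.H11.RK2
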