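import Mathlib
import Cfsg.Prelude.Def_FusionSystem
import Cfsg.Agent.Lib.H11.RK2Fus1
import Cfsg.Agent.Lib.H25.Normal
import Cfsg.Agent.Lib.H26.EssentialOmit

/-!
# S5289 (helper11): the case of Blackburn's type T2
-/

set_option autoImplicit false

namespace Cfsg.Agent.Lib.H11.RK2

open Cfsg Cfsg.FusionSystem Cfsg.Agent.Lib.H25 Cfsg.Agent.Lib.H26

/-- An element commuting with the generators is central. -/
theorem central_of_gens {G : Type*} [Group G] {x y z c : G}
    (hgen : Subgroup.closure ({x, y, z} : Set G) = ⊤) (hx : x * c = c * x) (hy : y * c = c * y)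
    (hz : z * c = c * z) : ∀ g : G, g * c = c * g := by
  have h1 : Subgroup.closure ({x, y, z} : Set G) ≤ Subgroup.centralizer ({c} : Set G) := by
    rw [Subgroup.closure_le]
    intro g hg
    rw [SetLike.mem_coe, Subgroup.mem_centralizer_iff]
    intro k hk
    rw [Set.mem_singleton_iff] at hk
    subst hk
    rcases hg with rfl | rfl | rfl
    · exact hx.symm
    · exact hy.symm
    · exact hz.symm
  intro g
  have hg : g ∈ Subgroup.centralizer ({c} : Set G) := h1 (by rw [hgen]; exact Subgroup.mem_top g)
  rw [Subgroup.mem_centralizer_iff] at hg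
  exact (hg c rfl).symm

/-- A subgroup of `S` containing the generators is `S`. -/
theorem le_of_gens {Ω : Type*} [Group Ω] {S T : Subgroup Ω} {x y z : ↥S}
    (hgen : Subgroup.closure ({x, y, z} : Set ↥S) = ⊤) (hx : (x : Ω) ∈ T) (hy : (y : Ω) ∈ T)
    (hz : (z : Ω) ∈ T) : S ≤ T := by
  have h1 : Subgroup.closure ({x, y, z} : Set ↥S) ≤ T.subgroupOf S := by
    rw [Subgroup.closure_le]
    intro g hg
    rw [SetLike.mem_coe, Subgroup.mem_subgroupOf]
    rcases hg with rfl | rfl | rfl
    · exact hx
    · exact hy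
    · exact hz
  intro g hg
  have : (⟨g, hg⟩ : ↥S) ∈ T.subgroupOf S := h1 (by rw [hgen]; exact Subgroup.mem_top _)
  exact Subgroup.mem_subgroupOf.1 this

variable {Ω : Type*} [Group Ω] {S : Subgroup Ω}

theorem isNormal_of_T2 [Finite S] {p : ℕ} [Fact p.Prime] (hS : IsPGroup p S)
    {F : FusionSystem S} (hF : F.IsSaturated p) {n : ℕ} {x y z : ↥S} (h : T2 p n x y z)
    (hnotE : ¬ (Nat.card S = p ^ 3 ∧ Monoid.exponent ↥S = p)) : F.IsNormal S := by
  have hpp : p.Prime := Fact.out
  have hpow := Cfsg.Agent.Lib.H11.RK2P.T2.pow_mul h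
  have hxy' : x⁻¹ * y * x ∈ Subgroup.zpowers y ⊔ Subgroup.zpowers z := by
    rw [h.hxy]
    exact Subgroup.mul_mem _ (Subgroup.mem_sup_left (Subgroup.mem_zpowers y))
      (Subgroup.mem_sup_right (Subgroup.pow_mem _ (Subgroup.mem_zpowers z) _))
  have hxz' : x⁻¹ * z * x ∈ Subgroup.zpowers y ⊔ Subgroup.zpowers z := by
    have : x⁻¹ * z * x = z := by rw [mul_assoc, ← h.hxz, inv_mul_cancel_left]
    rw [this]
    exact Subgroup.mem_sup_right (Subgroup.mem_zpowers z)
  obtain ⟨hord, hC, hΩ⟩ :=
    Cfsg.Agent.Lib.H11.RK2P.pe_gen h.hn h.card x y z h.gen h.hx h.hy h.hz h.hyz hxy' hxz' hpow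
  by_cases hn3 : n = 3
  · exfalso
    apply hnotE
    refine ⟨by rw [h.card, hn3], ?_⟩
    -- all `p`-th powers are trivial
    let K : Subgroup ↥S :=
      { carrier := {g | g ^ p = 1}
        one_mem' := one_pow p
        mul_mem' := by
          intro a b ha hb
          show (a * b) ^ p = 1
          rw [hpow, ha, hb, mul_one]
        inv_mem' := by
          intro a ha
          show a⁻¹ ^ p = 1
          rw [inv_pow, ha, inv_one] }
    have hK : K = ⊤ := by
      rw [eq_top_iff, ← h.gen, Subgroup.closure_le]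
      intro g hg
      rcases hg with hg | hg | hg
      · rw [hg]; exact h.hx
      · rw [hg]; exact h.hy
      · have := h.hz
        rw [hn3] at this
        rw [hg]
        show z ^ p = 1
        simpa using this
    have hall : ∀ g : ↥S, g ^ p = 1 := by
      intro g
      have : g ∈ K := by rw [hK]; exact Subgroup.mem_top g
      exact this
    have hdvd : Monoid.exponent ↥S ∣ p := Monoid.exponent_dvd_of_forall_pow_eq_one hall
    rcases (Nat.dvd_prime hpp).1 hdvd with h1 | h1
    · exfalso
      have hsub : Subsingleton ↥S := Monoid.exp_eq_one_iff.1 h1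
      have hc1 : Nat.card ↥S = 1 := Nat.card_of_subsingleton 1
      rw [h.card, hn3] at hc1
      have : 1 < p ^ 3 := Nat.one_lt_pow (by norm_num) hpp.one_lt
      omega
    · exact h1
  · have hn4 : 4 ≤ n := by have := h.hn; omega
    apply isNormal_of_essential hS hF
    intro T hT
    rcases hT with rfl | hess
    · exact ⟨le_rfl, fun α _ x _ => (α x).2⟩
    · exfalso
      have hTS : T ≤ S := hess.1.1
      have hne : T ≠ S := essential_ne_top hS hF hess
      have hzc : ∀ g : ↥S, g * z = z * g :=
        central_of_gens h.gen h.hxz h.hyz rfl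
      have hzT : (z : Ω) ∈ T := by
        apply hess.1.2 T (isConj_refl F hTS)
        refine ⟨z.2, ?_⟩
        show (z : Ω) ∈ Subgroup.centralizer (T : Set Ω)
        rw [Subgroup.mem_centralizer_iff]
        intro t ht
        have := hzc ⟨t, hTS ht⟩
        exact congrArg Subtype.val this
      apply not_essential_of_pe hS hF hess ((z ^ p : ↥S) : Ω)
      · intro g hg k hk
        have := hpow ⟨g, hg⟩ ⟨k, hk⟩
        exact congrArg Subtype.val this
      · intro g hg
        obtain ⟨k, hk⟩ := Subgroup.mem_zpowers_iff.1 (hC ⟨g, hg⟩)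
        refine Subgroup.mem_zpowers_iff.2 ⟨k, ?_⟩
        have := congrArg Subtype.val hk
        simpa using this
      · exact hΩ
      · by_contra hcon
        push Not at hcon
        apply hne
        apply le_antisymm hTS
        exact le_of_gens h.gen (hcon x x.2 (by simpa using congrArg Subtype.val h.hx))
          (hcon y y.2 (by simpa using congrArg Subtype.val h.hy)) hzT
      · refine ⟨z, hzT, fun hz1 => ?_⟩
        have hz1' : z ^ p = 1 := Subtype.ext (by simpa using hz1)
        have hd : orderOf z ∣ p := orderOf_dvd_of_pow_eq_one hz1'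
        rw [hord] at hd
        have h2 : p ^ 2 ∣ p ^ (n - 2) := pow_dvd_pow p (by omega)
        have h3 : p ^ 2 ∣ p := h2.trans hd
        have h4 := Nat.le_of_dvd hpp.pos h3
        have h5 : p < p ^ 2 := by
          have := hpp.one_lt
          nlinarith
        omega

end Cfsg.Agent.Lib.H11.RK2
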