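import Mathlib
import Cfsg.Prelude.Def_FusionSystem
import Cfsg.Agent.Lib.H11.RK2T2

/-!
# S5289 (helper11): type T3, the candidates for essential subgroups
-/

set_option autoImplicit false

namespace Cfsg.Agent.Lib.H11.RK2

open Cfsg Cfsg.FusionSystem Cfsg.Agent.Lib.H25 Cfsg.Agent.Lib.H26

variable {Ω : Type*} [Group Ω] {S : Subgroup Ω}

theorem mem_mapS {H : Subgroup ↥S} {g : Ω} :
    g ∈ H.map S.subtype ↔ ∃ hg : g ∈ S, (⟨g, hg⟩ : ↥S) ∈ H := by
  constructor
  · rintro ⟨g', hg', rfl⟩
    exact ⟨g'.2, hg'⟩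
  · rintro ⟨hg, hg'⟩
    exact ⟨⟨g, hg⟩, hg', rfl⟩

theorem mapS_le (H : Subgroup ↥S) : H.map S.subtype ≤ S := by
  rintro _ ⟨g', -, rfl⟩
  exact g'.2

theorem card_mapS (H : Subgroup ↥S) : Nat.card ↥(H.map S.subtype) = Nat.card ↥H :=
  Subgroup.card_map_of_injective S.subtype_injective

/-- `M₀`, as a subgroup of the ambient group. -/
def M0 (p : ℕ) (x y z : ↥S) : Subgroup Ω :=
  (Subgroup.closure ({x, y, z ^ p} : Set ↥S)).map S.subtype

/-- The candidates for essential subgroups in type T3. -/
theorem T3.essential_cases [Finite S] {p : ℕ} [Fact p.Prime] (hS : IsPGroup p S)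
    {F : FusionSystem S} (hF : F.IsSaturated p) {n s : ℕ} {x y z : ↥S} (h : T3 p n s x y z)
    {T : Subgroup Ω} (hess : F.IsEssential p T) :
    T = M0 p x y z ∨ (n = 4 ∧ Nat.card T = p ^ 2 ∧ ∀ g ∈ T, g ^ p = 1) := by
  have hpp : p.Prime := Fact.out
  have hpow := Cfsg.Agent.Lib.H11.RK2P.T3.pow_mul h
  have hxy' : x⁻¹ * y * x ∈ Subgroup.zpowers y ⊔ Subgroup.zpowers z := by
    rw [h.hxy]
    exact Subgroup.mul_mem _ (Subgroup.mem_sup_left (Subgroup.mem_zpowers y))
      (Subgroup.mem_sup_right (Subgroup.pow_mem _ (Subgroup.mem_zpowers z) _))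
  have hxz' : x⁻¹ * z * x ∈ Subgroup.zpowers y ⊔ Subgroup.zpowers z := by
    rw [h.hxz]
    exact Subgroup.mul_mem _ (Subgroup.mem_sup_left (Subgroup.mem_zpowers y))
      (Subgroup.mem_sup_right (Subgroup.mem_zpowers z))
  have hn3 : 3 ≤ n := by have := h.hn; omega
  obtain ⟨hord, hC, hΩ⟩ :=
    Cfsg.Agent.Lib.H11.RK2P.pe_gen hn3 h.card x y z h.gen h.hx h.hy h.hz h.hyz hxy' hxz' hpow
  have hzc := Cfsg.Agent.Lib.H11.RK2P.T3.zp_central h
  have hm3 := Cfsg.Agent.Lib.H11.RK2P.T3.m3 h
  have hom := Cfsg.Agent.Lib.H11.RK2P.T3.omega_le h hpow hord hm3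
  have hmc := Cfsg.Agent.Lib.H11.RK2P.T3.m0_card h
  have hTS : T ≤ S := hess.1.1
  have hne : T ≠ S := essential_ne_top hS hF hess
  have hfinT : Finite T := finite_of_le S hTS
  -- `z^p ∈ T`
  have hzT : ((z ^ p : ↥S) : Ω) ∈ T := by
    apply hess.1.2 T (isConj_refl F hTS)
    refine ⟨(z ^ p).2, ?_⟩
    show ((z ^ p : ↥S) : Ω) ∈ Subgroup.centralizer (T : Set Ω)
    rw [Subgroup.mem_centralizer_iff]
    intro t ht
    have := hzc ⟨t, hTS ht⟩
    exact congrArg Subtype.val this
  -- cardinalities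
  have hcS : Nat.card S = p ^ n := h.card
  have hcM : Nat.card ↥(M0 p x y z) = p ^ (n - 1) := by
    unfold M0
    rw [card_mapS, hmc]
  obtain ⟨k, hk⟩ := (IsPGroup.iff_card.1 (hS.to_le hTS) : ∃ k, Nat.card T = p ^ k)
  have hTlt : Nat.card T < Nat.card S := by
    by_contra hcon
    push Not at hcon
    exact hne (Subgroup.eq_of_le_of_card_ge hTS hcon)
  have hkn : k < n := by
    rw [hk, hcS] at hTlt
    exact (Nat.pow_lt_pow_iff_right hpp.one_lt).1 hTlt
  by_cases hex : ∃ g ∈ T, g ^ p ≠ 1
  · left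
    -- `Ω₁(S) ≤ T`
    have hall : ∀ g ∈ S, g ^ p = 1 → g ∈ T := by
      intro g hg hgp
      by_contra hgT
      apply not_essential_of_pe hS hF hess ((z ^ p : ↥S) : Ω) _ _ hΩ ⟨g, hg, hgp, hgT⟩ hex
      · intro g hg k hk
        have := hpow ⟨g, hg⟩ ⟨k, hk⟩
        exact congrArg Subtype.val this
      · intro g hg
        obtain ⟨k, hk⟩ := Subgroup.mem_zpowers_iff.1 (hC ⟨g, hg⟩)
        refine Subgroup.mem_zpowers_iff.2 ⟨k, ?_⟩
        have := congrArg Subtype.val hk
        simpa using this
    have hxT : (x : Ω) ∈ T := hall x x.2 (by simpa using congrArg Subtype.val h.hx)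
    have hyT : (y : Ω) ∈ T := hall y y.2 (by simpa using congrArg Subtype.val h.hy)
    have hMT : M0 p x y z ≤ T := by
      unfold M0
      rw [Subgroup.map_le_iff_le_comap, Subgroup.closure_le]
      intro g hg
      rw [SetLike.mem_coe, Subgroup.mem_comap]
      rcases hg with hg | hg | hg
      · rw [hg]; exact hxT
      · rw [hg]; exact hyT
      · rw [hg]; exact hzT
    symm
    apply Subgroup.eq_of_le_of_card_ge hMT
    rw [hcM, hk]
    apply Nat.pow_le_pow_right hpp.pos
    omega
  · push Not at hex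
    -- `n = 4`
    have hzpp : (z ^ p) ^ p = 1 := by
      apply Subtype.ext
      have := hex _ hzT
      simpa using this
    have hn4 : n = 4 := by
      have hd : orderOf z ∣ p * p := orderOf_dvd_of_pow_eq_one (by rw [pow_mul]; exact hzpp)
      rw [hord, ← pow_two] at hd
      have := (Nat.pow_dvd_pow_iff_le_right hpp.one_lt).1 hd
      have := h.hn
      omega
    have hTM : T ≤ M0 p x y z := by
      intro g hg
      unfold M0
      rw [mem_mapS]
      refine ⟨hTS hg, hom ⟨g, hTS hg⟩ ?_⟩
      apply Subtype.ext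
      have := hex g hg
      simpa using this
    have hk3 : k ≤ 3 := by omega
    by_cases hk3' : k = 3
    · left
      have hfinM : Finite ↥(M0 p x y z) := finite_of_le S (mapS_le _)
      apply Subgroup.eq_of_le_of_card_ge hTM
      rw [hcM, hk, hn4, hk3']
    · right
      refine ⟨hn4, ?_, hex⟩
      rw [hk]
      -- `k = 2`
      have hk2 : 2 ≤ k := by
        by_contra hk2
        push Not at hk2
        -- `T = ⟨z^p⟩`, which is central
        have hzp1 : (z ^ p : ↥S) ≠ 1 := by
          intro h1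
          have hd : orderOf z ∣ p := orderOf_dvd_of_pow_eq_one h1
          rw [hord, hn4] at hd
          have h4 := Nat.le_of_dvd hpp.pos hd
          have h5 : p < p ^ (4 - 2) := by
            have := hpp.one_lt
            norm_num
            nlinarith
          omega
        have hzle : Subgroup.zpowers ((z ^ p : ↥S) : Ω) ≤ T := Subgroup.zpowers_le.2 hzT
        have hcz : p ≤ Nat.card ↥(Subgroup.zpowers ((z ^ p : ↥S) : Ω)) := by
          rw [Nat.card_zpowers]
          have h1 : orderOf ((z ^ p : ↥S) : Ω) ∣ p := orderOf_dvd_of_pow_eq_one (by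
            have := congrArg Subtype.val hzpp
            simpa using this)
          rcases (Nat.dvd_prime hpp).1 h1 with h2 | h2
          · exfalso
            rw [orderOf_eq_one_iff] at h2
            apply hzp1
            exact Subtype.ext h2
          · rw [h2]
        have hTz : T = Subgroup.zpowers ((z ^ p : ↥S) : Ω) := by
          symm
          apply Subgroup.eq_of_le_of_card_ge hzle
          rw [hk]
          refine le_trans ?_ hcz
          calc p ^ k ≤ p ^ 1 := Nat.pow_le_pow_right hpp.pos (by omega)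
            _ = p := pow_one p
        apply hne
        apply le_antisymm hTS
        intro g hg
        apply hess.1.2 T (isConj_refl F hTS)
        refine ⟨hg, ?_⟩
        show g ∈ Subgroup.centralizer (T : Set Ω)
        rw [Subgroup.mem_centralizer_iff]
        intro t ht
        rw [hTz] at ht
        obtain ⟨i, rfl⟩ := Subgroup.mem_zpowers_iff.1 ht
        have h1 : g * ((z ^ p : ↥S) : Ω) = ((z ^ p : ↥S) : Ω) * g :=
          congrArg Subtype.val (hzc ⟨g, hg⟩)
        exact ((Commute.zpow_right h1 i).eq).symm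
      have : k = 2 := by omega
      rw [this]

end Cfsg.Agent.Lib.H11.RK2
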