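import Mathlib
import Cfsg.Prelude.Def_FusionSystem
import Cfsg.Agent.Lib.H11.RK2T3a

/-!
# S5289 (helper11): type T3, `Aut_S(M₀)` is normal in `Aut_F(M₀)`
-/

set_option autoImplicit false

namespace Cfsg.Agent.Lib.H11.RK2

open Cfsg Cfsg.FusionSystem Cfsg.Agent.Lib.H25 Cfsg.Agent.Lib.H26

variable {Ω : Type*} [Group Ω] {S : Subgroup Ω}

/-- `j² ≡ 1` from the action of an automorphism on `G/A`. -/
theorem sq_modEq_one_of_char {p : ℕ} [Fact p.Prime] {c : Multiplicative (ZMod p)} (hc : c ≠ 1)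
    {j : ℕ} (h : c ^ j = c ∨ c ^ j = c⁻¹) : j * j ≡ 1 [MOD p] := by
  have hpp : p.Prime := Fact.out
  have hcard : Nat.card (Multiplicative (ZMod p)) = p := by
    rw [Nat.card_congr Multiplicative.toAdd, Nat.card_zmod]
  have hord : orderOf c = p := by
    have hd : orderOf c ∣ p := by
      have := orderOf_dvd_natCard c
      rwa [hcard] at this
    rcases (Nat.dvd_prime hpp).1 hd with h1 | h1
    · exact (hc (orderOf_eq_one_iff.1 h1)).elim
    · exact h1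
  rcases h with h | h
  · have h1 : c ^ j = c ^ 1 := by rw [h, pow_one]
    have h2 : j ≡ 1 [MOD p] := by
      rw [← hord]
      exact pow_eq_pow_iff_modEq.1 h1
    exact h2.mul h2
  · have h1 : c ^ (j + 1) = 1 := by rw [pow_succ, h, inv_mul_cancel]
    have h2 : p ∣ j + 1 := by
      rw [← hord]
      exact orderOf_dvd_of_pow_eq_one h1
    have h3 : ((j + 1 : ℕ) : ZMod p) = 0 := (ZMod.natCast_eq_zero_iff _ _).2 h2
    have h4 : (j : ZMod p) = -1 := by
      push_cast at h3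
      exact eq_neg_of_add_eq_zero_left h3
    have h5 : ((j * j : ℕ) : ZMod p) = ((1 : ℕ) : ZMod p) := by
      push_cast
      rw [h4]
      ring
    exact (ZMod.natCast_eq_natCast_iff _ _ _).1 h5

theorem T3.normalizerIn_M0 [Finite S] {p : ℕ} [Fact p.Prime] {n s : ℕ} {x y z : ↥S}
    (h : T3 p n s x y z) : normalizerIn S (M0 p x y z) = S := by
  have hm4 := Cfsg.Agent.Lib.H11.RK2P.T3.m4 h
  obtain ⟨Mc, hMc⟩ : ∃ Mc, Mc = Subgroup.closure ({x, y, z ^ p} : Set ↥S) := ⟨_, rfl⟩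
  have hR : M0 p x y z = Mc.map S.subtype := by rw [hMc]; rfl
  rw [hR]
  have hyM : y ∈ Mc := by rw [hMc]; exact Subgroup.subset_closure (by simp)
  have hzM : z ^ p ∈ Mc := by rw [hMc]; exact Subgroup.subset_closure (by simp)
  have hw : z ^ p ^ (n - 3) = (z ^ p) ^ p ^ (n - 4) := by
    rw [← pow_mul, ← pow_succ']
    congr 2
    have := h.hn
    omega
  have hcY : Subgroup.closure ({y, z ^ p ^ (n - 3)} : Set ↥S) ≤ Mc := by
    rw [Subgroup.closure_le]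
    intro g hg
    rcases hg with hg | hg
    · rw [hg]; exact hyM
    · rw [hg, hw]; exact Subgroup.pow_mem _ hzM _
  have hMn : ∀ g : ↥S, ∀ r ∈ Mc, g * r * g⁻¹ ∈ Mc := by
    intro g r hr
    have h1 : g * r * g⁻¹ = (g * r * g⁻¹ * r⁻¹) * r := by group
    rw [h1]
    exact Mc.mul_mem (hcY (hm4 g r)) hr
  apply le_antisymm inf_le_left
  intro g hg
  refine ⟨hg, ?_⟩
  apply Cfsg.Agent.Lib.H26.mem_normalizer_of_conj_mem
  · intro r hr
    obtain ⟨hrS, hr'⟩ := mem_mapS.1 hr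
    exact mem_mapS.2 ⟨_, hMn ⟨g, hg⟩ _ hr'⟩
  · intro r hr
    obtain ⟨hrS, hr'⟩ := mem_mapS.1 hr
    have := hMn ⟨g, hg⟩⁻¹ _ hr'
    rw [inv_inv] at this
    exact mem_mapS.2 ⟨_, this⟩

theorem T3.fullyNormalized_M0 [Finite S] {p : ℕ} [Fact p.Prime] (F : FusionSystem S) {n s : ℕ}
    {x y z : ↥S} (h : T3 p n s x y z) : F.IsFullyNormalized (M0 p x y z) := by
  refine ⟨mapS_le _, fun Q _ => ?_⟩
  rw [T3.normalizerIn_M0 h]
  exact Subgroup.card_le_of_le inf_le_left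

theorem T3.autS_normal_M0 [Finite S] {p : ℕ} [Fact p.Prime] (hS : IsPGroup p S)
    {F : FusionSystem S} (hF : F.IsSaturated p) {n s : ℕ} {x y z : ↥S} (h : T3 p n s x y z) :
    ∀ γ ∈ F.autGroup (M0 p x y z), ∀ t ∈ autInducedBy S (M0 p x y z),
      γ * t * γ⁻¹ ∈ autInducedBy S (M0 p x y z) := by
  by_contra hcon
  push Not at hcon
  have hpp : p.Prime := Fact.out
  have hpow := Cfsg.Agent.Lib.H11.RK2P.T3.pow_mul h
  have hxy' : x⁻¹ * y * x ∈ Subgroup.zpowers y ⊔ Subgroup.zpowers z := by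
    rw [h.hxy]
    exact Subgroup.mul_mem _ (Subgroup.mem_sup_left (Subgroup.mem_zpowers y))
      (Subgroup.mem_sup_right (Subgroup.pow_mem _ (Subgroup.mem_zpowers z) _))
  have hxz' : x⁻¹ * z * x ∈ Subgroup.zpowers y ⊔ Subgroup.zpowers z := by
    rw [h.hxz]
    exact Subgroup.mul_mem _ (Subgroup.mem_sup_left (Subgroup.mem_zpowers y))
      (Subgroup.mem_sup_right (Subgroup.mem_zpowers z))
  have hn3 : 3 ≤ n := by have := h.hn; omega
  obtain ⟨hord, hC, hΩ⟩ :=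
    Cfsg.Agent.Lib.H11.RK2P.pe_gen hn3 h.card x y z h.gen h.hx h.hy h.hz h.hyz hxy' hxz' hpow
  have hzc := Cfsg.Agent.Lib.H11.RK2P.T3.zp_central h
  have hm1 := Cfsg.Agent.Lib.H11.RK2P.T3.m1 h
  have hm2 := Cfsg.Agent.Lib.H11.RK2P.T3.m2 h
  have hm3 := Cfsg.Agent.Lib.H11.RK2P.T3.m3 h
  have hm4 := Cfsg.Agent.Lib.H11.RK2P.T3.m4 h
  have hm5 := Cfsg.Agent.Lib.H11.RK2P.T3.m5 h
  have hm7 := Cfsg.Agent.Lib.H11.RK2P.T3.m7 h
  have hm9 := Cfsg.Agent.Lib.H11.RK2P.T3.m9 h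
  obtain ⟨χ, hχx, hχy, hχz, -, hχb⟩ := Cfsg.Agent.Lib.H11.RK2P.T3.aut h
  -- the subgroups
  obtain ⟨Mc, hMc⟩ : ∃ Mc, Mc = Subgroup.closure ({x, y, z ^ p} : Set ↥S) := ⟨_, rfl⟩
  obtain ⟨Yc, hYc⟩ : ∃ Yc, Yc = Subgroup.closure ({y, z ^ p} : Set ↥S) := ⟨_, rfl⟩
  obtain ⟨Dc, hDc⟩ : ∃ Dc, Dc = Subgroup.zpowers (z ^ p : ↥S) := ⟨_, rfl⟩
  rw [← hMc] at hm1 hm2 hm3 hm5 hm9
  rw [← hYc] at hm5 hm7 hm9
  rw [← hDc] at hm1 hm5 hm7 hC
  have hR : M0 p x y z = Mc.map S.subtype := by rw [hMc]; rfl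
  rw [hR] at hcon
  have hxM : x ∈ Mc := by rw [hMc]; exact Subgroup.subset_closure (by simp)
  have hyM : y ∈ Mc := by rw [hMc]; exact Subgroup.subset_closure (by simp)
  have hzM : z ^ p ∈ Mc := by rw [hMc]; exact Subgroup.subset_closure (by simp)
  have hyY : y ∈ Yc := by rw [hYc]; exact Subgroup.subset_closure (by simp)
  have hzY : z ^ p ∈ Yc := by rw [hYc]; exact Subgroup.subset_closure (by simp)
  have hzD : z ^ p ∈ Dc := by rw [hDc]; exact Subgroup.mem_zpowers _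
  have hDY : Dc ≤ Yc := by rw [hDc]; exact Subgroup.zpowers_le.2 hzY
  have hYM : Yc ≤ Mc := by
    rw [hYc, Subgroup.closure_le]
    intro g hg
    rcases hg with hg | hg
    · rw [hg]; exact hyM
    · rw [hg]; exact hzM
  have hw : z ^ p ^ (n - 3) = (z ^ p) ^ p ^ (n - 4) := by
    rw [← pow_mul, ← pow_succ']
    congr 2
    have := h.hn
    omega
  have hwD : Subgroup.zpowers (z ^ p ^ (n - 3)) ≤ Dc := by
    rw [hw, hDc]
    exact Subgroup.zpowers_le.2 (Subgroup.pow_mem _ (Subgroup.mem_zpowers _) _)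
  have hcY : Subgroup.closure ({y, z ^ p ^ (n - 3)} : Set ↥S) ≤ Yc := by
    rw [Subgroup.closure_le]
    intro g hg
    rcases hg with hg | hg
    · rw [hg]; exact hyY
    · rw [hg]; exact hDY (hwD (Subgroup.mem_zpowers _))
  have hDcen : ∀ d ∈ Dc, ∀ g : ↥S, g * d = d * g := by
    intro d hd g
    rw [hDc] at hd
    obtain ⟨i, rfl⟩ := Subgroup.mem_zpowers_iff.1 hd
    exact (Commute.zpow_right (hzc g) i).eq
  -- `M₀` is normal in `S`
  have hMn : ∀ g : ↥S, ∀ r ∈ Mc, g * r * g⁻¹ ∈ Mc := by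
    intro g r hr
    have h1 : g * r * g⁻¹ = (g * r * g⁻¹ * r⁻¹) * r := by group
    rw [h1]
    exact Mc.mul_mem (hYM (hcY (hm4 g r))) hr
  have hRS : Mc.map S.subtype ≤ S := mapS_le _
  have hN : normalizerIn S (Mc.map S.subtype) = S := by
    apply le_antisymm inf_le_left
    intro g hg
    refine ⟨hg, ?_⟩
    apply Cfsg.Agent.Lib.H26.mem_normalizer_of_conj_mem
    · intro r hr
      obtain ⟨hrS, hr'⟩ := mem_mapS.1 hr
      exact mem_mapS.2 ⟨_, hMn ⟨g, hg⟩ _ hr'⟩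
    · intro r hr
      obtain ⟨hrS, hr'⟩ := mem_mapS.1 hr
      have := hMn ⟨g, hg⟩⁻¹ _ hr'
      rw [inv_inv] at this
      exact mem_mapS.2 ⟨_, this⟩
  have hfn : F.IsFullyNormalized (Mc.map S.subtype) := by
    refine ⟨hRS, fun Q _ => ?_⟩
    rw [hN]
    exact Subgroup.card_le_of_le inf_le_left
  obtain ⟨β, N', hiso, hβR, u, huR, huY, j, hj, e, heY, hβu⟩ :=
    Cfsg.Agent.Lib.H11.RK2P.torus_extension hS hF h.hp (R := Mc.map S.subtype) (D := Dc.map S.subtype)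
      (Y := Yc.map S.subtype) hfn (Subgroup.map_mono hDY) (Subgroup.map_mono hYM)
      (by
        intro α _ r hr
        obtain ⟨hrS, hr'⟩ := mem_mapS.1 hr
        obtain ⟨haS, ha'⟩ := mem_mapS.1 (α r).2
        refine mem_mapS.2 ⟨haS, hm1 _ ha' ?_⟩
        intro k hk
        have hkR : (k : Ω) ∈ Mc.map S.subtype := mem_mapS.2 ⟨k.2, hk⟩
        have h1 : α r * α (α⁻¹ ⟨(k : Ω), hkR⟩) = α (α⁻¹ ⟨(k : Ω), hkR⟩) * α r := by
          rw [← map_mul, ← map_mul]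
          congr 1
          apply Subtype.ext
          have := hDcen _ hr' ⟨_, hRS (α⁻¹ ⟨(k : Ω), hkR⟩).2⟩
          exact (congrArg Subtype.val this).symm
        rw [MulAut.apply_inv_self] at h1
        apply Subtype.ext
        have h2 := congrArg (fun t : ↥(Mc.map S.subtype) => (t : Ω)) h1
        exact h2)
      (by
        intro a ha b hb
        obtain ⟨haS, ha'⟩ := mem_mapS.1 ha
        obtain ⟨hbS, hb'⟩ := mem_mapS.1 hb
        exact mem_mapS.2 ⟨_, hwD (hm2 _ ha' _ hb')⟩)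
      (by
        intro a ha
        obtain ⟨haS, ha'⟩ := mem_mapS.1 ha
        exact mem_mapS.2 ⟨_, hC ⟨a, haS⟩⟩)
      (z : Ω) (by rw [hN]; exact z.2)
      (by
        intro g hg
        rw [hN] at hg
        obtain ⟨i, r, hr, hgr⟩ := hm3 ⟨g, hg⟩
        exact ⟨i, r, mem_mapS.2 ⟨r.2, hr⟩, by simpa using congrArg Subtype.val hgr⟩)
      (by
        intro d hd
        obtain ⟨hdS, hd'⟩ := mem_mapS.1 hd
        have := hDcen _ hd' z
        have h2 : (z : Ω) * d = d * z := congrArg Subtype.val this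
        rw [h2, mul_inv_cancel_right])
      (by
        intro r hr
        obtain ⟨hrS, hr'⟩ := mem_mapS.1 hr
        exact mem_mapS.2 ⟨_, hcY (hm4 z ⟨r, hrS⟩)⟩)
      (y : Ω) (mem_mapS.2 ⟨y.2, hyY⟩)
      (by
        have : (z : Ω) * y * (z : Ω)⁻¹ * (y : Ω)⁻¹ = 1 := by
          have h1 : (y : Ω) * z = z * y := congrArg Subtype.val h.hyz
          rw [← h1, mul_inv_cancel_right, mul_inv_cancel]
        rw [this]
        exact Subgroup.one_mem _)
      (by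
        intro r hr
        obtain ⟨hrS, hr'⟩ := mem_mapS.1 hr
        obtain ⟨k, d, hd, hrd⟩ := hm7 _ hr'
        exact ⟨k, d, mem_mapS.2 ⟨d.2, hd⟩, by simpa using congrArg Subtype.val hrd⟩)
      (by
        intro r hr hrD
        obtain ⟨hrS, hr'⟩ := mem_mapS.1 hr
        obtain ⟨hcS, hc'⟩ := mem_mapS.1 hrD
        exact mem_mapS.2 ⟨hrS, hm5 _ hr' hc'⟩)
      (x : Ω) (mem_mapS.2 ⟨x.2, hxM⟩)
      (by
        intro r hr
        obtain ⟨hrS, hr'⟩ := mem_mapS.1 hr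
        obtain ⟨i, e, he, hre⟩ := hm9 _ hr'
        exact ⟨i, e, mem_mapS.2 ⟨e.2, he⟩, by simpa using congrArg Subtype.val hre⟩)
      hcon
  rw [hN] at hiso
  have hN'S : N' = S := by
    have hle : N' ≤ S := hiso.le_right
    apply Subgroup.eq_of_le_of_card_ge hle
    exact le_of_eq (Nat.card_congr hiso.toMulEquiv.toEquiv)
  subst hN'S
  obtain ⟨b, hb⟩ : ∃ b : ↥N' ≃* ↥N', ∀ g : ↥N', ((b g : ↥N') : Ω) = β g :=
    ⟨hiso.toMulEquiv, fun g => rfl⟩
  obtain ⟨huS, hu'⟩ := mem_mapS.1 huR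
  obtain ⟨heS, he'⟩ := mem_mapS.1 heY
  have hbu : b ⟨u, huS⟩ = ⟨u, huS⟩ ^ j * ⟨e, heS⟩ := by
    apply Subtype.ext
    rw [hb]
    simpa using hβu
  -- `χ` is trivial on `Y`
  have hχY : ∀ g ∈ Yc, χ g = 1 := by
    have : Yc ≤ χ.ker := by
      rw [hYc, Subgroup.closure_le]
      intro g hg
      rw [SetLike.mem_coe, MonoidHom.mem_ker]
      rcases hg with hg | hg
      · rw [hg]; exact hχy
      · rw [hg, map_pow, hχz, one_pow]
    intro g hg
    exact MonoidHom.mem_ker.1 (this hg)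
  have hχu : χ ⟨u, huS⟩ ≠ 1 := by
    intro h1
    obtain ⟨i, e₂, he₂, hue⟩ := hm9 _ hu'
    rw [hue, map_mul, map_pow, hχY _ he₂, mul_one] at h1
    -- `p ∣ i`
    have hcard : Nat.card (Multiplicative (ZMod p)) = p := by
      rw [Nat.card_congr Multiplicative.toAdd, Nat.card_zmod]
    have hordx : orderOf (χ x) = p := by
      have hd : orderOf (χ x) ∣ p := by
        have := orderOf_dvd_natCard (χ x)
        rwa [hcard] at this
      rcases (Nat.dvd_prime hpp).1 hd with h2 | h2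
      · exact (hχx (orderOf_eq_one_iff.1 h2)).elim
      · exact h2
    have hpi : p ∣ i := by
      rw [← hordx]
      exact orderOf_dvd_of_pow_eq_one h1
    obtain ⟨c, rfl⟩ := hpi
    apply huY
    refine mem_mapS.2 ⟨huS, ?_⟩
    rw [hue, pow_mul, h.hx, one_pow, one_mul]
    exact he₂
  apply hj
  apply sq_modEq_one_of_char hχu
  have h2 : χ (b ⟨u, huS⟩) = χ ⟨u, huS⟩ ^ j := by
    rw [hbu, map_mul, map_pow, hχY _ he', mul_one]
  rcases hχb b with h3 | h3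
  · left
    rw [← h2, h3]
  · right
    rw [← h2, h3]

end Cfsg.Agent.Lib.H11.RK2
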