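import Mathlib
import Cfsg.Prelude.Def_FusionSystem
import Cfsg.Agent.Lib.H11.RK2T3b

/-!
# S5289 (helper11): type T3, `n = 4`: no essential subgroup of order `p²`
-/

set_option autoImplicit false

namespace Cfsg.Agent.Lib.H11.RK2

open Cfsg Cfsg.FusionSystem Cfsg.Agent.Lib.H25 Cfsg.Agent.Lib.H26

/-- A group of order `p²` is generated by an element `a` of order `p` and any `b ∉ ⟨a⟩`. -/
theorem rank2_gen {Ω : Type*} [Group Ω] {p : ℕ} [Fact p.Prime] {T : Subgroup Ω} [Finite T]
    (hc : Nat.card T = p ^ 2) {a b : Ω} (haT : a ∈ T) (hbT : b ∈ T) (ha1 : a ≠ 1)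
    (hap : a ^ p = 1) (hb : b ∉ Subgroup.zpowers a) :
    ∀ r ∈ T, ∃ i k : ℕ, r = b ^ i * a ^ k := by
  have hpp : p.Prime := Fact.out
  letI : CommGroup T := IsPGroup.commGroupOfCardEqPrimeSq hc
  obtain ⟨a', ha'⟩ : ∃ a' : T, a' = ⟨a, haT⟩ := ⟨_, rfl⟩
  obtain ⟨b', hb'⟩ : ∃ b' : T, b' = ⟨b, hbT⟩ := ⟨_, rfl⟩
  have hoa : orderOf a' = p := by
    have hd : orderOf a' ∣ p := orderOf_dvd_of_pow_eq_one (by
      rw [ha']; exact Subtype.ext (by simpa using hap))
    rcases (Nat.dvd_prime hpp).1 hd with h1 | h1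
    · exfalso
      apply ha1
      have := orderOf_eq_one_iff.1 h1
      rw [ha'] at this
      exact congrArg Subtype.val this
    · exact h1
  have hb'' : b' ∉ Subgroup.zpowers a' := by
    intro hmem
    apply hb
    obtain ⟨i, hi⟩ := Subgroup.mem_zpowers_iff.1 hmem
    refine Subgroup.mem_zpowers_iff.2 ⟨i, ?_⟩
    have := congrArg Subtype.val hi
    rw [ha', hb'] at this
    simpa using this
  have htop : Subgroup.zpowers b' ⊔ Subgroup.zpowers a' = ⊤ := by
    obtain ⟨k, hk2, hk⟩ := (Nat.dvd_prime_pow hpp).1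
      (hc ▸ Subgroup.card_subgroup_dvd_card (Subgroup.zpowers b' ⊔ Subgroup.zpowers a'))
    have hle : Subgroup.zpowers a' ≤ Subgroup.zpowers b' ⊔ Subgroup.zpowers a' := le_sup_right
    have hca : Nat.card (Subgroup.zpowers a') = p := by rw [Nat.card_zpowers, hoa]
    have hk1 : 1 ≤ k := by
      have := Subgroup.card_dvd_of_le hle
      rw [hca, hk] at this
      by_contra h0
      push Not at h0
      have hk0 : k = 0 := by omega
      rw [hk0, pow_zero] at this
      exact hpp.one_lt.ne' (Nat.dvd_one.1 this)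
    have hk2' : k = 2 := by
      by_contra hne
      have hk1' : k = 1 := by omega
      have : Subgroup.zpowers a' = Subgroup.zpowers b' ⊔ Subgroup.zpowers a' := by
        apply Subgroup.eq_of_le_of_card_ge hle
        rw [hk, hca, hk1', pow_one]
      apply hb''
      rw [this]
      exact Subgroup.mem_sup_left (Subgroup.mem_zpowers b')
    apply (Subgroup.card_eq_iff_eq_top _).1
    rw [hk, hk2', hc]
  intro r hr
  have hmem : (⟨r, hr⟩ : T) ∈ Subgroup.zpowers b' ⊔ Subgroup.zpowers a' := by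
    rw [htop]; exact Subgroup.mem_top _
  obtain ⟨u, hu, v, hv, huv⟩ := Subgroup.mem_sup.1 hmem
  obtain ⟨i, hi⟩ := (Submonoid.mem_powers_iff _ _).1 (mem_powers_iff_mem_zpowers.2 hu)
  obtain ⟨k, hk⟩ := (Submonoid.mem_powers_iff _ _).1 (mem_powers_iff_mem_zpowers.2 hv)
  refine ⟨i, k, ?_⟩
  have := congrArg Subtype.val huv
  rw [← hi, ← hk, ha', hb'] at this
  simpa using this.symm

variable {Ω : Type*} [Group Ω] {S : Subgroup Ω}

theorem T3.not_essential_rank2 [Finite S] {p : ℕ} [Fact p.Prime] (hS : IsPGroup p S)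
    {F : FusionSystem S} (hF : F.IsSaturated p) {n s : ℕ} {x y z : ↥S} (h : T3 p n s x y z)
    {T : Subgroup Ω} (hess : F.IsEssential p T) (hn4 : n = 4) (hcT : Nat.card T = p ^ 2)
    (hexpT : ∀ g ∈ T, g ^ p = 1) : False := by
  have hpp : p.Prime := Fact.out
  have hpow := Cfsg.Agent.Lib.H11.RK2P.T3.pow_mul h
  have hxy' : x⁻¹ * y * x ∈ Subgroup.zpowers y ⊔ Subgroup.zpowers z := by
    rw [h.hxy]
    exact Subgroup.mul_mem _ (Subgroup.mem_sup_left (Subgroup.mem_zpowers y))
      (Subgroup.mem_sup_right (Subgroup.pow_mem _ (Subgroup.mem_zpowers z) _))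
  have hxz' : x⁻¹ * z * x ∈ Subgroup.zpowers y ⊔ Subgroup.zpowers z := by
    rw [h.hxz]
    exact Subgroup.mul_mem _ (Subgroup.mem_sup_left (Subgroup.mem_zpowers y))
      (Subgroup.mem_sup_right (Subgroup.mem_zpowers z))
  have hn3 : 3 ≤ n := by omega
  obtain ⟨hord, hC, hΩ⟩ :=
    Cfsg.Agent.Lib.H11.RK2P.pe_gen hn3 h.card x y z h.gen h.hx h.hy h.hz h.hyz hxy' hxz' hpow
  have hzc := Cfsg.Agent.Lib.H11.RK2P.T3.zp_central h
  have hm2 := Cfsg.Agent.Lib.H11.RK2P.T3.m2 h
  have hm3 := Cfsg.Agent.Lib.H11.RK2P.T3.m3 h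
  have hom := Cfsg.Agent.Lib.H11.RK2P.T3.omega_le h hpow hord hm3
  have hex0 := Cfsg.Agent.Lib.H11.RK2P.T3.exp_m0 h hpow hn4
  have hmc := Cfsg.Agent.Lib.H11.RK2P.T3.m0_card h
  obtain ⟨χ, hχx, hχy, hχz, hχA, hχb⟩ := Cfsg.Agent.Lib.H11.RK2P.T3.aut h
  obtain ⟨Mc, hMc⟩ : ∃ Mc, Mc = Subgroup.closure ({x, y, z ^ p} : Set ↥S) := ⟨_, rfl⟩
  rw [← hMc] at hm2 hom hex0 hmc
  have hR : M0 p x y z = Mc.map S.subtype := by rw [hMc]; rfl
  have hNM := T3.normalizerIn_M0 h
  have hfnM := T3.fullyNormalized_M0 F h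
  have hnormM := T3.autS_normal_M0 hS hF h
  rw [hR] at hNM hfnM hnormM
  obtain ⟨M, hM⟩ : ∃ M, M = Mc.map S.subtype := ⟨_, rfl⟩
  rw [← hM] at hNM hfnM hnormM
  have hMS : M ≤ S := by rw [hM]; exact mapS_le _
  have hfinM : Finite M := finite_of_le S hMS
  have hcM : Nat.card M = p ^ 3 := by rw [hM, card_mapS, hmc, hn4]
  have hTS : T ≤ S := hess.1.1
  have hfinT : Finite T := finite_of_le S hTS
  have hcen : centralizerIn S T ≤ T := hess.1.2 T (isConj_refl F hTS)
  -- the central element `w = z^p`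
  obtain ⟨wz, hwz⟩ : ∃ wz : Ω, wz = ((z ^ p : ↥S) : Ω) := ⟨_, rfl⟩
  have hwS : wz ∈ S := by rw [hwz]; exact (z ^ p).2
  have hwc : ∀ g ∈ S, g * wz = wz * g := by
    intro g hg
    rw [hwz]
    exact congrArg Subtype.val (hzc ⟨g, hg⟩)
  have hwT : wz ∈ T := by
    apply hcen
    refine ⟨hwS, ?_⟩
    show wz ∈ Subgroup.centralizer (T : Set Ω)
    rw [Subgroup.mem_centralizer_iff]
    intro t ht
    exact hwc t (hTS ht)
  have hwp : wz ^ p = 1 := hexpT wz hwT
  have hw1 : wz ≠ 1 := by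
    intro h1
    have h2 : z ^ p = 1 := Subtype.ext (by rw [← hwz, h1]; rfl)
    have hd : orderOf z ∣ p := orderOf_dvd_of_pow_eq_one h2
    rw [hord, hn4] at hd
    have h4 := Nat.le_of_dvd hpp.pos hd
    have h5 : p < p ^ (4 - 2) := by
      have := hpp.one_lt
      norm_num
      nlinarith
    omega
  have hzp1 : (z : Ω) ^ p ≠ 1 := by
    intro h1
    apply hw1
    rw [hwz]
    simpa using h1
  -- `T ≤ M`
  have hTM : T ≤ M := by
    intro g hg
    rw [hM, mem_mapS]
    exact ⟨hTS hg, hom ⟨g, hTS hg⟩ (Subtype.ext (by simpa using hexpT g hg))⟩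
  have hTcomm : ∀ a ∈ T, ∀ b ∈ T, a * b = b * a := by
    intro a ha b hb
    have := IsPGroup.commutative_of_card_eq_prime_sq hcT ⟨a, ha⟩ ⟨b, hb⟩
    exact congrArg Subtype.val this
  -- commutators of `M` lie in `⟨w⟩`
  have hMcomm : ∀ a ∈ M, ∀ b ∈ M, a * b * a⁻¹ * b⁻¹ ∈ Subgroup.zpowers wz := by
    intro a ha b hb
    rw [hM] at ha hb
    obtain ⟨haS, ha'⟩ := mem_mapS.1 ha
    obtain ⟨hbS, hb'⟩ := mem_mapS.1 hb
    have := hm2 _ ha' _ hb'
    rw [hn4] at this
    norm_num at this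
    obtain ⟨k, hk⟩ := Subgroup.mem_zpowers_iff.1 this
    refine Subgroup.mem_zpowers_iff.2 ⟨k, ?_⟩
    rw [hwz]
    have := congrArg Subtype.val hk
    simpa using this
  have hwzT : Subgroup.zpowers wz ≤ T := Subgroup.zpowers_le.2 hwT
  -- `N_S(T) = M`
  have hMN : M ≤ normalizerIn S T := by
    intro m hm
    refine ⟨hMS hm, ?_⟩
    apply Cfsg.Agent.Lib.H26.mem_normalizer_of_conj_mem
    · intro t ht
      have h1 : m * t * m⁻¹ = (m * t * m⁻¹ * t⁻¹) * t := by group
      rw [h1]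
      exact T.mul_mem (hwzT (hMcomm m hm t (hTM ht))) ht
    · intro t ht
      have h1 : m⁻¹ * t * m = (m⁻¹ * t * m⁻¹⁻¹ * t⁻¹) * t := by group
      rw [h1]
      exact T.mul_mem (hwzT (hMcomm m⁻¹ (M.inv_mem hm) t (hTM ht))) ht
  have hCT : centralizerIn S T = T := by
    apply le_antisymm hcen
    intro t ht
    refine ⟨hTS ht, ?_⟩
    show t ∈ Subgroup.centralizer (T : Set Ω)
    rw [Subgroup.mem_centralizer_iff]
    intro t' ht'
    exact hTcomm t' ht' t ht
  have hNT : normalizerIn S T = M := by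
    symm
    have hfinN : Finite ↥(normalizerIn S T) := finite_of_le S inf_le_left
    apply Subgroup.eq_of_le_of_card_ge hMN
    have := Cfsg.Agent.Lib.H11.RK2P.card_normalizer_le S T hS hTS hcT
    have h2 : Nat.card ↥(S ⊓ Subgroup.centralizer (T : Set Ω)) = p ^ 2 := by
      have : S ⊓ Subgroup.centralizer (T : Set Ω) = T := hCT
      rw [this, hcT]
    rw [h2] at this
    rw [hcM]
    calc Nat.card ↥(normalizerIn S T) ≤ p * p ^ 2 := this
      _ = p ^ 3 := by ring
  -- an element of `M` outside `T`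
  obtain ⟨m, hmM, hmT⟩ : ∃ m ∈ M, m ∉ T := by
    by_contra hcon
    push Not at hcon
    have : Nat.card M ≤ Nat.card T := Subgroup.card_le_of_le hcon
    rw [hcM, hcT] at this
    have := (Nat.pow_le_pow_iff_right hpp.one_lt).1 this
    omega
  -- `M = ⟨m⟩ T`
  have hMgen : ∀ g ∈ M, ∃ i : ℕ, ∃ r ∈ T, g = m ^ i * r := by
    have hTn : (T.subgroupOf M).Normal := by
      refine ⟨fun r hr g => ?_⟩
      rw [Subgroup.mem_subgroupOf] at hr ⊢
      have := (Subgroup.mem_normalizer_iff.1 (hMN g.2).2 r).1 hr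
      simpa using this
    obtain ⟨m', hm'⟩ : ∃ m' : M, m' = ⟨m, hmM⟩ := ⟨_, rfl⟩
    have hcT' : Nat.card (T.subgroupOf M) = p ^ 2 := by
      rw [← hcT]
      exact Nat.card_congr (Subgroup.subgroupOfEquivOfLe hTM).toEquiv
    have htop : Subgroup.zpowers m' ⊔ T.subgroupOf M = ⊤ := by
      obtain ⟨k, hk3, hk⟩ := (Nat.dvd_prime_pow hpp).1
        (hcM ▸ Subgroup.card_subgroup_dvd_card (Subgroup.zpowers m' ⊔ T.subgroupOf M))
      have hle : T.subgroupOf M ≤ Subgroup.zpowers m' ⊔ T.subgroupOf M := le_sup_right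
      have hk2 : 2 ≤ k := by
        have := Subgroup.card_dvd_of_le hle
        rw [hcT', hk] at this
        exact (Nat.pow_dvd_pow_iff_le_right hpp.one_lt).1 this
      have hk3' : k = 3 := by
        by_contra hne
        have hk2' : k = 2 := by omega
        have : T.subgroupOf M = Subgroup.zpowers m' ⊔ T.subgroupOf M := by
          apply Subgroup.eq_of_le_of_card_ge hle
          rw [hk, hcT', hk2']
        apply hmT
        have h3 : m' ∈ T.subgroupOf M := by
          rw [this]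
          exact Subgroup.mem_sup_left (Subgroup.mem_zpowers m')
        rw [Subgroup.mem_subgroupOf, hm'] at h3
        exact h3
      apply (Subgroup.card_eq_iff_eq_top _).1
      rw [hk, hk3', hcM]
    intro g hg
    have hmem : (⟨g, hg⟩ : M) ∈ Subgroup.zpowers m' ⊔ T.subgroupOf M := by
      rw [htop]; exact Subgroup.mem_top _
    obtain ⟨u, hu, v, hv, huv⟩ := Subgroup.mem_sup_of_normal_right.1 hmem
    obtain ⟨i, hi⟩ := (Submonoid.mem_powers_iff _ _).1 (mem_powers_iff_mem_zpowers.2 hu)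
    refine ⟨i, (v : Ω), Subgroup.mem_subgroupOf.1 hv, ?_⟩
    have := congrArg Subtype.val huv
    rw [← hi, hm'] at this
    simpa using this.symm
  -- an element of `T` outside `⟨w⟩` exists
  have hnn : ∃ γ ∈ F.autGroup T, ∃ t ∈ autInducedBy S T, γ * t * γ⁻¹ ∉ autInducedBy S T := by
    by_contra hcon
    push Not at hcon
    exact autInducedBy_not_normal_of_essential hS hF hess hcon
  obtain ⟨t₀, ht₀T, ht₀w⟩ : ∃ t₀ ∈ T, t₀ ∉ Subgroup.zpowers wz := by
    by_contra hcon
    push Not at hcon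
    have hfinw : Finite ↥(Subgroup.zpowers wz) := finite_of_le S (Subgroup.zpowers_le.2 hwS)
    have h1 : Nat.card T ≤ Nat.card ↥(Subgroup.zpowers wz) := Subgroup.card_le_of_le hcon
    have h2 : Nat.card ↥(Subgroup.zpowers wz) ≤ p := by
      rw [Nat.card_zpowers]
      exact Nat.le_of_dvd hpp.pos (orderOf_dvd_of_pow_eq_one hwp)
    rw [hcT] at h1
    have : p < p ^ 2 := by
      have := hpp.one_lt
      nlinarith
    omega
  have hmN : m ∈ normalizerIn S T := hMN hmM
  have hmS : m ∈ S := hMS hmM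
  obtain ⟨β, N', hiso, hβR, u, huT, huY, j, hj, e, heY, hβu⟩ :=
    Cfsg.Agent.Lib.H11.RK2P.torus_extension hS hF h.hp (R := T) (D := ⊥) (Y := Subgroup.zpowers wz)
      hess.2.1 bot_le hwzT
      (by
        intro α _ r hr
        rw [Subgroup.mem_bot] at hr ⊢
        have : r = 1 := Subtype.ext hr
        rw [this, map_one]
        rfl)
      (by
        intro a ha b hb
        rw [Subgroup.mem_bot, hTcomm a ha b hb, mul_inv_cancel_right, mul_inv_cancel])
      (by
        intro a ha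
        rw [Subgroup.mem_bot]
        exact hexpT a ha)
      m hmN
      (by
        intro g hg
        rw [hNT] at hg
        exact hMgen g hg)
      (by
        intro d hd
        rw [Subgroup.mem_bot] at hd
        rw [hd, mul_one, mul_inv_cancel])
      (by
        intro r hr
        exact hMcomm m hmM r (hTM hr))
      wz (Subgroup.mem_zpowers wz)
      (by
        rw [Subgroup.mem_bot, hwc m hmS, mul_inv_cancel_right, mul_inv_cancel])
      (by
        intro r hr
        obtain ⟨k, hk⟩ := (Submonoid.mem_powers_iff _ _).1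
          ((IsOfFinOrder.mem_powers_iff_mem_zpowers
            (isOfFinOrder_iff_pow_eq_one.2 ⟨p, hpp.pos, hwp⟩)).2 hr)
        exact ⟨k, 1, Subgroup.one_mem _, by rw [mul_one, hk]⟩)
      (by
        intro r hr hfix
        rw [Subgroup.mem_bot] at hfix
        by_contra hrw
        apply hmT
        apply hcen
        refine ⟨hmS, ?_⟩
        show m ∈ Subgroup.centralizer (T : Set Ω)
        rw [Subgroup.mem_centralizer_iff]
        intro t ht
        obtain ⟨i, k, hik⟩ := rank2_gen hcT hwT hr hw1 hwp hrw t ht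
        have h1 : m * r = r * m := by
          have : m * r * m⁻¹ = r := by
            have h2 : m * r * m⁻¹ = (m * r * m⁻¹ * r⁻¹) * r := by group
            rw [h2, hfix, one_mul]
          calc m * r = (m * r * m⁻¹) * m := by group
            _ = r * m := by rw [this]
        have h2 : m * wz = wz * m := hwc m hmS
        have h3 : Commute m (r ^ i * wz ^ k) :=
          Commute.mul_right (Commute.pow_right h1 i) (Commute.pow_right h2 k)
        rw [hik]
        exact h3.eq.symm)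
      t₀ ht₀T
      (by
        intro r hr
        obtain ⟨i, k, hik⟩ := rank2_gen hcT hwT ht₀T hw1 hwp ht₀w r hr
        exact ⟨i, wz ^ k, Subgroup.pow_mem _ (Subgroup.mem_zpowers wz) _, hik⟩)
      hnn
  rw [hNT] at hiso
  -- `N' = M`
  have hN'M : N' = M := by
    have hle : N' ≤ M := by
      intro g hg
      obtain ⟨m', hm', rfl⟩ := hiso.surjOn hg
      have hm'S : m' ∈ S := hMS hm'
      have hm'c : (⟨m', hm'S⟩ : ↥S) ∈ Mc := by
        have := hm'
        rw [hM] at this
        exact (mem_mapS.1 this).2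
      have hm'p : m' ^ p = 1 := by
        have := congrArg Subtype.val (hex0 _ hm'c)
        simpa using this
      have hgp : (β m') ^ p = 1 := by
        have h1 : (hiso.toMulEquiv ⟨m', hm'⟩) ^ p = 1 := by
          rw [← map_pow]
          have : (⟨m', hm'⟩ : M) ^ p = 1 := Subtype.ext (by simpa using hm'p)
          rw [this, map_one]
        have := congrArg Subtype.val h1
        simpa [IsIso.toMulEquiv_apply] using this
      have hgS : β m' ∈ S := hiso.le_right hg
      rw [hM, mem_mapS]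
      exact ⟨hgS, hom ⟨β m', hgS⟩ (Subtype.ext (by simpa using hgp))⟩
    apply Subgroup.eq_of_le_of_card_ge hle
    exact le_of_eq (Nat.card_congr hiso.toMulEquiv.toEquiv)
  subst hN'M
  obtain ⟨α, hα, hαβ⟩ := exists_mem_autGroup_of_isIso F hiso
  have hrecM : F.IsReceptive N' :=
    isReceptive_of_fullyCentralized hS hF (fullyNormalized_props hS hF hfnM).1
  obtain ⟨β', N'', hiso2, hβ'⟩ :=
    Cfsg.Agent.Lib.H26.AutSylow.extend_normalizing hrecM hα (hnormM α hα)
  rw [hNM] at hiso2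
  have hN''S : N'' = S := by
    have hle : N'' ≤ S := hiso2.le_right
    apply Subgroup.eq_of_le_of_card_ge hle
    exact le_of_eq (Nat.card_congr hiso2.toMulEquiv.toEquiv)
  subst hN''S
  obtain ⟨b, hb⟩ : ∃ b : ↥N'' ≃* ↥N'', ∀ g : ↥N'', ((b g : ↥N'') : Ω) = β' g :=
    ⟨hiso2.toMulEquiv, fun g => rfl⟩
  have huS : u ∈ N'' := hTS huT
  have heS : e ∈ N'' := hTS (hwzT heY)
  have hbu : b ⟨u, huS⟩ = ⟨u, huS⟩ ^ j * ⟨e, heS⟩ := by
    apply Subtype.ext
    rw [hb]
    have h1 := hβ' ⟨u, hTM huT⟩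
    have h2 := hαβ ⟨u, hTM huT⟩
    simp only at h1 h2
    rw [h1, h2, hβu]
    simp
  have hχe : χ ⟨e, heS⟩ = 1 := by
    obtain ⟨k, hk⟩ := Subgroup.mem_zpowers_iff.1 heY
    have : (⟨e, heS⟩ : ↥N'') = (z ^ p) ^ k := by
      apply Subtype.ext
      show e = (((z ^ p) ^ k : ↥N'') : Ω)
      rw [← hk, hwz]
      simp
    rw [this, map_zpow, map_pow, hχz, one_pow, one_zpow]
  have hχu : χ ⟨u, huS⟩ ≠ 1 := by
    intro h1
    have huA := hχA _ h1
    have hzu : (⟨u, huS⟩ : ↥N'') * z = z * ⟨u, huS⟩ := by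
      have hle : Subgroup.closure ({y, z} : Set ↥N'') ≤ Subgroup.centralizer ({z} : Set ↥N'') := by
        rw [Subgroup.closure_le]
        intro g hg
        rw [SetLike.mem_coe, Subgroup.mem_centralizer_iff]
        intro k hk
        rw [Set.mem_singleton_iff] at hk
        rw [hk]
        rcases hg with hg | hg
        · rw [hg]; exact h.hyz.symm
        · rw [hg]
      have := hle huA
      rw [Subgroup.mem_centralizer_iff] at this
      exact (this z rfl).symm
    have hzu' : u * (z : Ω) = z * u := congrArg Subtype.val hzu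
    apply hzp1
    apply hexpT
    apply hcen
    refine ⟨z.2, ?_⟩
    show (z : Ω) ∈ Subgroup.centralizer (T : Set Ω)
    rw [Subgroup.mem_centralizer_iff]
    intro t ht
    obtain ⟨i, k, hik⟩ := rank2_gen hcT hwT huT hw1 hwp huY t ht
    have h2 : wz * (z : Ω) = z * wz := (hwc z z.2).symm
    have h3 : Commute (u ^ i * wz ^ k) (z : Ω) :=
      Commute.mul_left (Commute.pow_left hzu' i) (Commute.pow_left h2 k)
    rw [hik]
    exact h3.eq
  apply hj
  apply sq_modEq_one_of_char hχu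
  have h2 : χ (b ⟨u, huS⟩) = χ ⟨u, huS⟩ ^ j := by
    rw [hbu, map_mul, map_pow, hχe, mul_one]
  rcases hχb b with h3 | h3
  · left
    rw [← h2, h3]
  · right
    rw [← h2, h3]

end Cfsg.Agent.Lib.H11.RK2
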