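import Mathlib
import Cfsg.Prelude.Def_FusionSystem
import Cfsg.Prelude.Def_Transfer
import Cfsg.Agent.Lib.H11.RK2T3c
import Cfsg.Agent.Lib.H26.MetaSCMain
import Cfsg.Agent.S3888

/-!
# S5289 (helper11): `p`-groups of `p`-rank two, `p ≥ 5`, are resistant — assembly
-/

set_option autoImplicit false

namespace Cfsg.Agent.Lib.H11.RK2

open Cfsg Cfsg.FusionSystem Cfsg.Agent.Lib.H25 Cfsg.Agent.Lib.H26

theorem isNormal_of_T3 {Ω : Type*} [Group Ω] {S : Subgroup Ω} [Finite S] {p : ℕ} [Fact p.Prime]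
    (hS : IsPGroup p S) {F : FusionSystem S} (hF : F.IsSaturated p) {n s : ℕ} {x y z : ↥S}
    (h : T3 p n s x y z) : F.IsNormal S := by
  apply isNormal_of_essential hS hF
  intro T hT
  rcases hT with rfl | hess
  · exact ⟨le_rfl, fun α _ x _ => (α x).2⟩
  · exfalso
    rcases T3.essential_cases hS hF h hess with hTM | ⟨hn4, hcT, hexpT⟩
    · subst hTM
      exact autInducedBy_not_normal_of_essential hS hF hess (T3.autS_normal_M0 hS hF h)
    · exact T3.not_essential_rank2 hS hF h hess hn4 hcT hexpT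

theorem rank_two_resistant {Ω : Type*} [Group Ω] {S : Subgroup Ω} [Finite S] (p : ℕ)
    [Fact p.Prime] (hS : IsPGroup p S)
    (F : Cfsg.FusionSystem S) (hF : F.IsSaturated p)
    (hp : 5 ≤ p)
    (hrank3 : ∀ E : Subgroup Ω, E ≤ S → Cfsg.IsElementaryAbelian p E → Nat.card E ≤ p ^ 2)
    (hnotE : ¬ (Nat.card S = p ^ 3 ∧ Monoid.exponent ↥S = p)) : F.IsNormal S := by
  have hpp : p.Prime := Fact.out
  obtain ⟨n, hn⟩ := (IsPGroup.iff_card.1 hS : ∃ n, Nat.card S = p ^ n)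
  have hp2 : p ≠ 2 := by omega
  have hrk : Cfsg.PRankLE p 2 ↥S := by
    intro A hA hAp
    have h1 := hrank3 (A.map S.subtype) (mapS_le A) ⟨?_, ?_⟩
    · rwa [card_mapS] at h1
    · refine ⟨⟨fun a b => ?_⟩⟩
      obtain ⟨a, ha⟩ := a
      obtain ⟨b, hb⟩ := b
      obtain ⟨a', ha', rfl⟩ := ha
      obtain ⟨b', hb', rfl⟩ := hb
      apply Subtype.ext
      have := hA.is_comm.comm ⟨a', ha'⟩ ⟨b', hb'⟩
      have h2 := congrArg (fun t : ↥A => ((t : ↥S) : Ω)) this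
      exact h2
    · rintro _ ⟨a', ha', rfl⟩
      have := hAp a' ha'
      have h2 := congrArg Subtype.val this
      simpa using h2
  rcases Cfsg.Agent.S3888.result hp2 n hn hrk with hm | ⟨hn3, x, y, z, hgen, hx, hy, hz, hxz, hyz, hxy⟩ |
    ⟨hn4, s, x, y, z, hs, hgen, hx, hy, hz, hyz, hxy, hxz⟩ | ⟨hp3, -, -⟩
  · exact Cfsg.Agent.Lib.H26.MetaSC.isNormal_of_metacyclic hS hF
      ⟨le_rfl, fun R _ φ hφ x => hom_mem_S F hφ x⟩ hp2 hm
  · exact isNormal_of_T2 hS hF ⟨hp2, hn3, hn, hgen, hx, hy, hz, hxz, hyz, hxy⟩ hnotE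
  · have hs' : ¬ p ∣ s := by
      intro hd
      rcases hs with hs | hs
      · rw [hs] at hd
        exact hpp.one_lt.ne' (Nat.dvd_one.1 hd)
      · apply hs
        have : ((s : ℕ) : ZMod p) = 0 := (ZMod.natCast_eq_zero_iff _ _).2 hd
        rw [this]
        exact ⟨0, by simp⟩
    exact isNormal_of_T3 hS hF ⟨hp, hn4, hs', hn, hgen, hx, hy, hz, hyz, hxy, hxz⟩
  · omega

end Cfsg.Agent.Lib.H11.RK2
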