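import Mathlib
import Cfsg.Prelude.Def_Transfer

/-!
# S3175 piece NPC (helper11): if every automorphism of odd order of a Sylow 2-subgroup `T` is trivial, then
`N_G(T)` has a normal 2-complement (Schur–Zassenhaus).
-/

set_option autoImplicit false

namespace Cfsg.Agent.Lib.H11.RTN

/-- **NPC**: if every automorphism of odd order of the Sylow 2-subgroup `T` is trivial then `N_G(T)` has a normal
2-complement. -/
theorem hasNormalPComplement_normalizer {G : Type*} [Group G] [Finite G] (T : Sylow 2 G)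
    (h : ∀ (α : MulAut ↥(T : Subgroup G)) (m : ℕ), Odd m → α ^ m = 1 → α = 1) :
    Cfsg.HasNormalPComplement 2 ↥(Subgroup.normalizer ((T : Subgroup G) : Set G)) := by
  classical
  set N : Subgroup G := Subgroup.normalizer ((T : Subgroup G) : Set G) with hNdef
  have hTN : (T : Subgroup G) ≤ N := Subgroup.le_normalizer
  let P : Sylow 2 ↥N := T.subtype hTN
  have hPcoe : (P : Subgroup ↥N) = (T : Subgroup G).subgroupOf N := Sylow.coe_subtype T hTN
  have hnorm : ((T : Subgroup G).subgroupOf N).Normal := Subgroup.normal_in_normalizer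
  have hPnorm : (P : Subgroup ↥N).Normal := by rw [hPcoe]; exact hnorm
  have hcop : (Nat.card ↥(P : Subgroup ↥N)).Coprime (P : Subgroup ↥N).index := P.card_coprime_index
  obtain ⟨K, hK⟩ := Subgroup.exists_left_complement'_of_coprime hcop
  -- `K` has odd order
  have hKcard : Nat.card ↥K = (P : Subgroup ↥N).index := hK.index_eq_card.symm
  have hKcop : (Nat.card ↥K).Coprime 2 := by
    rw [hKcard]
    exact ((Nat.Prime.coprime_iff_not_dvd Nat.prime_two).mpr P.not_dvd_index).symm
  -- every element of `K` centralizes `T`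
  have hcent : ∀ k ∈ K, ∀ t : ↥N, t ∈ (T : Subgroup G).subgroupOf N → k * t = t * k := by
    intro k hk t ht
    set m := orderOf k with hm
    have hmdvd : m ∣ Nat.card ↥K := by
      have := orderOf_dvd_natCard (⟨k, hk⟩ : ↥K)
      rwa [Subgroup.orderOf_mk] at this
    have hmodd : Odd m := by
      rw [← Nat.not_even_iff_odd, even_iff_two_dvd]
      intro h2
      have : 2 ∣ Nat.gcd (Nat.card ↥K) 2 := Nat.dvd_gcd (h2.trans hmdvd) dvd_rfl
      rw [hKcop] at this
      omega
    set α : MulAut ↥(T : Subgroup G) := (T : Subgroup G).normalizerMonoidHom k with hα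
    have hαm : α ^ m = 1 := by
      rw [hα, ← map_pow, hm, pow_orderOf_eq_one, map_one]
    have hα1 : α = 1 := h α m hmodd hαm
    have ht' : (t : G) ∈ (T : Subgroup G) := ht
    have := congrArg (fun β : MulAut ↥(T : Subgroup G) => ((β ⟨(t : G), ht'⟩ : ↥(T : Subgroup G)) : G)) hα1
    simp only [hα, Subgroup.normalizerMonoidHom_apply_apply_coe, MulAut.one_apply] at this
    apply Subtype.ext
    simp only [Subgroup.coe_mul]
    calc (k : G) * (t : G) = ((k : G) * (t : G) * (k : G)⁻¹) * (k : G) := by group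
      _ = (t : G) * (k : G) := by rw [this]
  -- `K` is normal
  have hKnormal : K.Normal := by
    constructor
    intro x hx n
    have hcompl : Subgroup.IsComplement (K : Set ↥N) ((P : Subgroup ↥N) : Set ↥N) := hK
    obtain ⟨⟨k', t⟩, hkt, -⟩ := hcompl.existsUnique n
    simp only at hkt
    have ht : (t : ↥N) ∈ (T : Subgroup G).subgroupOf N := by
      have h1 : (t : ↥N) ∈ (P : Subgroup ↥N) := t.2
      exact hPcoe ▸ h1
    have hxt : x * (t : ↥N) = (t : ↥N) * x := hcent x hx t ht
    have : n * x * n⁻¹ = (k' : ↥N) * x * (k' : ↥N)⁻¹ := by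
      rw [← hkt]
      calc (k' : ↥N) * (t : ↥N) * x * ((k' : ↥N) * (t : ↥N))⁻¹
          = (k' : ↥N) * ((t : ↥N) * x) * (t : ↥N)⁻¹ * (k' : ↥N)⁻¹ := by group
        _ = (k' : ↥N) * (x * (t : ↥N)) * (t : ↥N)⁻¹ * (k' : ↥N)⁻¹ := by rw [hxt]
        _ = (k' : ↥N) * x * (k' : ↥N)⁻¹ := by group
    rw [this]
    exact K.mul_mem (K.mul_mem k'.2 hx) (K.inv_mem k'.2)
  exact ⟨P, K, hKnormal, hK⟩

end Cfsg.Agent.Lib.H11.RTN
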