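import Mathlib
import Cfsg.Agent.Lib.H16.RTWDefs

/-!
# S3175 piece ODD3 (helper11): an automorphism `α` of odd order of a 2-group `T` of Rudvalis type which is trivial on
`Z₃`, on `T/W` and on `Z₄/Z₃` is trivial on `W/Z₃`.

Route (a variant of the blueprint which needs no quotient automorphism): with `π : T → T/Z₃`, the images of `W`
commute and have square 1.  By induction on `i`, every `u ∈ W ∩ Z_i(T)` has `α u · u⁻¹ ∈ Z₃`: for `u ∈ W ∩ Z_{i+1}` and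
`v := α u · u⁻¹ ∈ W`, applying `α` to `⁅u, q⁆ ∈ W ∩ Z_i` gives `⁅v, q⁆ ∈ Z₃` for all `q`, so `v ∈ Z₄`, so `α v ≡ v`,
so `α^j u ≡ v^j u` mod `Z₃`, so `v^m ≡ 1`; `v² ≡ 1` and `m` odd give `v ∈ Z₃`.
-/

set_option autoImplicit false

namespace Cfsg.Agent.Lib.H11.RTN

open scoped commutatorElement
open Cfsg.Agent.Lib.H16.RTW

/-- **ODD3** (the `A × B`-lemma step): `α` is trivial on `W/Z₃`. -/
theorem mul_inv_mem_ucs3 {T : Type*} [Group T] [Finite T] (c : Ctx T) (α : MulAut T) (m : ℕ) (hm : Odd m)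
    (hα : α ^ m = 1)
    (h3 : ∀ z ∈ Subgroup.upperCentralSeries T 3, α z = z)
    (hTW : ∀ t : T, α t * t⁻¹ ∈ c.W)
    (h4 : ∀ y ∈ Subgroup.upperCentralSeries T 4, α y * y⁻¹ ∈ Subgroup.upperCentralSeries T 3) :
    ∀ w ∈ c.W, α w * w⁻¹ ∈ Subgroup.upperCentralSeries T 3 := by
  classical
  set Z := Subgroup.upperCentralSeries T 3 with hZ
  have hWn := c.hWn
  let π : T →* T ⧸ Z := QuotientGroup.mk' Z
  have hπ1 : ∀ x : T, π x = 1 ↔ x ∈ Z := fun x => QuotientGroup.eq_one_iff x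
  have hπeq : ∀ x y : T, π x = π y ↔ x * y⁻¹ ∈ Z := by
    intro x y
    rw [← hπ1, map_mul, map_inv, mul_inv_eq_one]
  -- `α` respects `π`
  have hπα : ∀ x y : T, π x = π y → π (α x) = π (α y) := by
    intro x y hxy
    rw [hπeq] at hxy ⊢
    have := h3 _ hxy
    rw [map_mul, map_inv] at this
    rw [this]; exact hxy
  -- images of `W` commute and have square 1
  have hWcomm : ∀ a ∈ c.W, ∀ b ∈ c.W, π a * π b = π b * π a := by
    intro a ha b hb
    have := (hπ1 _).mpr (c.hcomm a ha b hb)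
    rw [commutatorElement_def, map_mul, map_mul, map_mul, map_inv, map_inv] at this
    calc π a * π b = (π a * π b * (π a)⁻¹ * (π b)⁻¹) * (π b * π a) := by group
      _ = π b * π a := by rw [this, one_mul]
  have hWsq : ∀ a ∈ c.W, π a * π a = 1 := by
    intro a ha
    have := (hπ1 _).mpr (c.hsq a ha)
    rwa [pow_two, map_mul] at this
  -- the order argument
  have key : ∀ u ∈ c.W, α u * u⁻¹ ∈ Subgroup.upperCentralSeries T 4 → α u * u⁻¹ ∈ Z := by
    intro u hu hv4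
    obtain ⟨v, hv⟩ : ∃ v : T, v = α u * u⁻¹ := ⟨_, rfl⟩
    rw [← hv] at hv4 ⊢
    have hvW : v ∈ c.W := hv ▸ hTW u
    have hαv : π (α v) = π v := by
      rw [hπeq]; exact h4 v hv4
    have hαu : α u = v * u := by rw [hv]; group
    have hpow : ∀ j : ℕ, π ((α ^ j) u) = (π v) ^ j * π u := by
      intro j
      induction j with
      | zero => simp
      | succ j ih =>
        rw [pow_succ', MulAut.mul_apply]
        have h1 : π ((α ^ j) u) = π (v ^ j * u) := by rw [ih, map_mul, map_pow]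
        rw [hπα _ _ h1, map_mul, map_pow, hαu, map_mul, map_pow, map_mul, hαv, pow_succ]
        group
    have hm' := hpow m
    rw [hα, MulAut.one_apply] at hm'
    have hvm : (π v) ^ m = 1 := by
      have : (π v) ^ m * π u = 1 * π u := by rw [one_mul]; exact hm'.symm
      exact mul_right_cancel this
    obtain ⟨k, hk⟩ := hm
    have hv2 : (π v) ^ 2 = 1 := by rw [pow_two]; exact hWsq v hvW
    rw [hk, pow_succ, pow_mul, hv2, one_pow, one_mul] at hvm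
    exact (hπ1 v).mp hvm
  -- induction along the upper central series
  have main : ∀ i : ℕ, ∀ u ∈ c.W, u ∈ Subgroup.upperCentralSeries T i → α u * u⁻¹ ∈ Z := by
    intro i
    induction i with
    | zero =>
      intro u _ hu0
      rw [Subgroup.upperCentralSeries_zero, Subgroup.mem_bot] at hu0
      subst hu0
      simp
    | succ i ih =>
      intro u hu hui
      apply key u hu
      rw [Subgroup.mem_upperCentralSeries_succ_iff]
      intro q
      obtain ⟨v, hv⟩ : ∃ v : T, v = α u * u⁻¹ := ⟨_, rfl⟩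
      rw [← hv]
      have hvW : v ∈ c.W := hv ▸ hTW u
      obtain ⟨s, hs⟩ : ∃ s : T, s = α q * q⁻¹ := ⟨_, rfl⟩
      have hsW : s ∈ c.W := hs ▸ hTW q
      have hαu : α u = v * u := by rw [hv]; group
      have hαq : α q = s * q := by rw [hs]; group
      have hcomm_mem : u * q * u⁻¹ * q⁻¹ ∈ Subgroup.upperCentralSeries T i := by
        have := (Subgroup.mem_upperCentralSeries_succ_iff.mp hui) q
        rwa [commutatorElement_def] at this
      have hdW : q * u⁻¹ * q⁻¹ ∈ c.W := hWn.conj_mem _ (c.W.inv_mem hu) q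
      have heW : q * v⁻¹ * q⁻¹ ∈ c.W := hWn.conj_mem _ (c.W.inv_mem hvW) q
      have hcommW : u * q * u⁻¹ * q⁻¹ ∈ c.W := by
        have h2 := c.W.mul_mem hu hdW
        convert h2 using 1; group
      have hfix := ih _ hcommW hcomm_mem
      have hfix' : π (α (u * q * u⁻¹ * q⁻¹)) = π (u * q * u⁻¹ * q⁻¹) := (hπeq _ _).mpr hfix
      rw [commutatorElement_def, ← hπ1]
      -- names in the quotient
      obtain ⟨A, hA⟩ : ∃ A, A = π v := ⟨_, rfl⟩
      obtain ⟨B, hB⟩ : ∃ B, B = π u := ⟨_, rfl⟩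
      obtain ⟨S, hS⟩ : ∃ S, S = π s := ⟨_, rfl⟩
      obtain ⟨Q, hQ⟩ : ∃ Q, Q = π q := ⟨_, rfl⟩
      have hD : π (q * u⁻¹ * q⁻¹) = Q * B⁻¹ * Q⁻¹ := by simp [hQ, hB]
      have hE : π (q * v⁻¹ * q⁻¹) = Q * A⁻¹ * Q⁻¹ := by simp [hQ, hA]
      have hSD : S * (Q * B⁻¹ * Q⁻¹) = (Q * B⁻¹ * Q⁻¹) * S := by
        rw [← hD, hS]; exact hWcomm s hsW _ hdW
      have hSE : S * (Q * A⁻¹ * Q⁻¹) = (Q * A⁻¹ * Q⁻¹) * S := by
        rw [← hE, hS]; exact hWcomm s hsW _ heW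
      have hAB : A * B = B * A := by rw [hA, hB]; exact hWcomm v hvW u hu
      have hAD : A * (Q * B⁻¹ * Q⁻¹) = (Q * B⁻¹ * Q⁻¹) * A := by
        rw [← hD, hA]; exact hWcomm v hvW _ hdW
      -- expand `hfix'`
      have e0 : π (α (u * q * u⁻¹ * q⁻¹)) = (A * B) * (S * Q) * (A * B)⁻¹ * (S * Q)⁻¹ := by
        rw [map_mul α, map_mul α, map_mul α, map_inv α, map_inv α, hαu, hαq]
        simp only [map_mul, map_inv, hA, hB, hS, hQ]
      have e1 : (A * B) * (S * Q) * (A * B)⁻¹ * (S * Q)⁻¹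
          = B * (Q * B⁻¹ * Q⁻¹) * (A * (Q * A⁻¹ * Q⁻¹)) := by
        calc (A * B) * (S * Q) * (A * B)⁻¹ * (S * Q)⁻¹
            = A * B * (S * (Q * B⁻¹ * Q⁻¹)) * (Q * A⁻¹ * Q⁻¹) * S⁻¹ := by group
          _ = A * B * ((Q * B⁻¹ * Q⁻¹) * S) * (Q * A⁻¹ * Q⁻¹) * S⁻¹ := by rw [hSD]
          _ = A * B * (Q * B⁻¹ * Q⁻¹) * (S * (Q * A⁻¹ * Q⁻¹)) * S⁻¹ := by group
          _ = A * B * (Q * B⁻¹ * Q⁻¹) * ((Q * A⁻¹ * Q⁻¹) * S) * S⁻¹ := by rw [hSE]
          _ = (A * B) * (Q * B⁻¹ * Q⁻¹) * (Q * A⁻¹ * Q⁻¹) := by group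
          _ = (B * A) * (Q * B⁻¹ * Q⁻¹) * (Q * A⁻¹ * Q⁻¹) := by rw [hAB]
          _ = B * (A * (Q * B⁻¹ * Q⁻¹)) * (Q * A⁻¹ * Q⁻¹) := by group
          _ = B * ((Q * B⁻¹ * Q⁻¹) * A) * (Q * A⁻¹ * Q⁻¹) := by rw [hAD]
          _ = B * (Q * B⁻¹ * Q⁻¹) * (A * (Q * A⁻¹ * Q⁻¹)) := by group
      have e2 : π (u * q * u⁻¹ * q⁻¹) = B * (Q * B⁻¹ * Q⁻¹) := by
        simp only [map_mul, map_inv, hB, hQ]; group
      have e3 : B * (Q * B⁻¹ * Q⁻¹) * (A * (Q * A⁻¹ * Q⁻¹)) = B * (Q * B⁻¹ * Q⁻¹) * 1 := by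
        rw [mul_one, ← e1, ← e0, hfix', e2]
      have e4 : A * (Q * A⁻¹ * Q⁻¹) = 1 := mul_left_cancel e3
      calc π (v * q * v⁻¹ * q⁻¹) = A * (Q * A⁻¹ * Q⁻¹) := by
            simp only [map_mul, map_inv, hA, hQ]; group
        _ = 1 := e4
  -- `T` is nilpotent
  intro w hw
  have : Fact (Nat.Prime 2) := ⟨Nat.prime_two⟩
  have hnil : Group.IsNilpotent T := c.hT.isNilpotent
  obtain ⟨n, hn⟩ := hnil.nilpotent'
  exact main n w hw (hn ▸ Subgroup.mem_top w)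

end Cfsg.Agent.Lib.H11.RTN
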