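/-
S4959 (architect helper23), piece CRIT, part (a): the group theory of `X = V ⋊ G`.
* `isConj_of_pow`: `(a^t ~ b^t)`, `t` prime to the exponent `⟹ a ~ b`;
* `exists_conj_of_isConj`: `v h ~ v h'` (`h, h' ∈ H = C_G(v)`) `⟹ h' = k h k⁻¹` with `k ∈ H`;
* `card_centralizer_le'`: `|C_X((v h)^t)| ≤ |C_V(h)| |C_H(h)|`.
-/
import Mathlib

set_option autoImplicit false
set_option linter.unusedSectionVars false

universe u

namespace Cfsg.Agent.Lib.H11.RV

section pow

variable {X : Type u} [Group X]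

/-- if `t` is prime to `m` and `a ^ m = 1` then `a` is a power of `a ^ t` -/
theorem exists_pow_pow_eq {m t : ℕ} (hm : 0 < m) (ht : t.Coprime m) :
    ∃ s : ℕ, ∀ a : X, a ^ m = 1 → (a ^ t) ^ s = a := by
  rcases Nat.lt_or_ge 1 m with h1 | h1
  · obtain ⟨s, -, hs⟩ := Nat.exists_mul_mod_eq_one_of_coprime ht h1
    refine ⟨s, fun a ha => ?_⟩
    rw [← pow_mul, pow_eq_pow_mod (t * s) ha, hs, pow_one]
  · have hm1 : m = 1 := by omega
    subst hm1
    refine ⟨0, fun a ha => ?_⟩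
    rw [pow_one] at ha
    rw [ha, pow_zero]

theorem isConj_of_pow {m t : ℕ} (hm : 0 < m) (ht : t.Coprime m) (a b : X) (ha : a ^ m = 1)
    (hb : b ^ m = 1) (h : IsConj (a ^ t) (b ^ t)) : IsConj a b := by
  obtain ⟨s, hs⟩ := exists_pow_pow_eq (X := X) hm ht
  rw [isConj_iff] at h ⊢
  obtain ⟨c, hc⟩ := h
  refine ⟨c, ?_⟩
  have h1 : c * (a ^ t) ^ s * c⁻¹ = (b ^ t) ^ s := by
    rw [← hc, conj_pow]
  rwa [hs a ha, hs b hb] at h1

theorem centralizer_pow_le {m t : ℕ} (hm : 0 < m) (ht : t.Coprime m) (a : X) (ha : a ^ m = 1) :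
    Subgroup.centralizer ({a ^ t} : Set X) ≤ Subgroup.centralizer ({a} : Set X) := by
  obtain ⟨s, hs⟩ := exists_pow_pow_eq (X := X) hm ht
  intro c hc
  rw [Subgroup.mem_centralizer_singleton_iff] at hc ⊢
  have h1 : Commute c (a ^ t) := hc
  have h2 := h1.pow_right s
  rw [hs a ha] at h2
  exact h2

end pow

section semidirect

variable {X : Type u} [Group X] [Finite X] (p : ℕ) [Fact p.Prime]
  (V : Subgroup X) [V.Normal] (hVexp : ∀ v ∈ V, v ^ p = 1) (hidx : ¬ p ∣ V.index)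
  (hself : Subgroup.centralizer (V : Set X) = V) (G : Subgroup X)
  (hGV : Subgroup.IsComplement' V G) (v : X) (hv : v ∈ V)

include hself in
theorem V_comm (a b : X) (ha : a ∈ V) (hb : b ∈ V) : a * b = b * a := by
  have h1 : a ∈ Subgroup.centralizer (V : Set X) := by rw [hself]; exact ha
  exact (Subgroup.mem_centralizer_iff.1 h1 b hb).symm

include hVexp hidx hGV hv in
/-- `v` and `h` are powers of `v h` with exponents independent of `h ∈ H` -/
theorem exists_pow_split :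
    ∃ a b : ℕ, ∀ h : X, h ∈ G → h * v = v * h → (v * h) ^ a = v ∧ (v * h) ^ b = h := by
  have hp : p.Prime := Fact.out
  set N := Nat.card G with hN
  have hcop : p.Coprime N := by
    rw [hp.coprime_iff_not_dvd, hN, ← hGV.symm.index_eq_card]
    exact hidx
  obtain ⟨a, ha1, ha2⟩ := Nat.chineseRemainder hcop 1 0
  obtain ⟨b, hb1, hb2⟩ := Nat.chineseRemainder hcop 0 1
  refine ⟨a, b, fun h hh hc => ?_⟩
  have hcomm : Commute v h := hc.symm
  have hhN : h ^ N = 1 := by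
    have h1 : (⟨h, hh⟩ : ↥G) ^ Nat.card ↥G = 1 := pow_card_eq_one'
    have h2 := congrArg (fun z : ↥G => (z : X)) h1
    exact h2
  have hvp : v ^ p = 1 := hVexp v hv
  constructor
  · rw [hcomm.mul_pow, pow_eq_pow_mod a hvp, pow_eq_pow_mod a hhN, ha1, ha2,
      Nat.zero_mod, pow_zero, mul_one, Nat.mod_eq_of_lt hp.one_lt, pow_one]
  · rw [hcomm.mul_pow, pow_eq_pow_mod b hvp, pow_eq_pow_mod b hhN, hb1, hb2,
      Nat.zero_mod, pow_zero, one_mul]
    rcases Nat.lt_or_ge 1 N with h1 | h1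
    · rw [Nat.mod_eq_of_lt h1, pow_one]
    · have hN1 : N = 1 := by
        have : 0 < N := Nat.card_pos
        omega
      rw [hN1] at hhN ⊢
      rw [pow_one] at hhN
      rw [hhN, one_pow]

include hVexp hidx hself hGV hv in
/-- the key decomposition: if `c` conjugates `v h` to `v h'` (`h, h' ∈ H`) then `c = w k` with `w ∈ V`,
`k ∈ H`, `k h k⁻¹ = h'` and `w` commuting with `h'` -/
theorem decomp_of_conj (h h' : X) (hh : h ∈ G ⊓ Subgroup.centralizer ({v} : Set X))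
    (hh' : h' ∈ G ⊓ Subgroup.centralizer ({v} : Set X)) (c : X)
    (hc : c * (v * h) * c⁻¹ = v * h') :
    ∃ w k : X, w ∈ V ∧ k ∈ G ⊓ Subgroup.centralizer ({v} : Set X) ∧ c = w * k ∧
      k * h * k⁻¹ = h' ∧ h' * w = w * h' := by
  obtain ⟨a, b, hab⟩ := exists_pow_split p V hVexp hidx G hGV v hv
  have hhv : h * v = v * h := Subgroup.mem_centralizer_singleton_iff.1 hh.2
  have hhv' : h' * v = v * h' := Subgroup.mem_centralizer_singleton_iff.1 hh'.2
  obtain ⟨h1, h2⟩ := hab h hh.1 hhv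
  obtain ⟨h1', h2'⟩ := hab h' hh'.1 hhv'
  have hcv : c * v * c⁻¹ = v := by
    have := congrArg (· ^ a) hc
    simp only [conj_pow, h1, h1'] at this
    exact this
  have hch : c * h * c⁻¹ = h' := by
    have := congrArg (· ^ b) hc
    simp only [conj_pow, h2, h2'] at this
    exact this
  obtain ⟨⟨w, k⟩, hwk⟩ := hGV.2 c
  have hwk' : (w : X) * (k : X) = c := hwk
  have hkv : (k : X) * v * (k : X)⁻¹ = v := by
    have h3 : (w : X) * ((k : X) * v * (k : X)⁻¹) * (w : X)⁻¹ = v := by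
      have e1 : (w : X) * ((k : X) * v * (k : X)⁻¹) * (w : X)⁻¹ =
          ((w : X) * (k : X)) * v * ((w : X) * (k : X))⁻¹ := by group
      rw [e1, hwk']
      exact hcv
    have h4 : (k : X) * v * (k : X)⁻¹ ∈ V := ‹V.Normal›.conj_mem v hv k
    have h5 := V_comm V hself (w : X) ((k : X) * v * (k : X)⁻¹) w.2 h4
    rw [h5, mul_assoc, mul_inv_cancel, mul_one] at h3
    exact h3
  have hkH : (k : X) ∈ G ⊓ Subgroup.centralizer ({v} : Set X) := by
    refine Subgroup.mem_inf.2 ⟨k.2, ?_⟩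
    rw [Subgroup.mem_centralizer_singleton_iff]
    rw [mul_inv_eq_iff_eq_mul] at hkv
    exact hkv
  set h'' : X := (k : X) * h * (k : X)⁻¹ with hh''
  have hh''G : h'' ∈ G := G.mul_mem (G.mul_mem k.2 hh.1) (G.inv_mem k.2)
  have hw : (w : X) * h'' * (w : X)⁻¹ = h' := by
    have e2 : (w : X) * h'' * (w : X)⁻¹ = ((w : X) * (k : X)) * h * ((w : X) * (k : X))⁻¹ := by
      rw [hh'']
      group
    rw [e2, hwk']
    exact hch
  -- `h' h''⁻¹ ∈ V ∩ G = 1`
  have h6 : h' * h''⁻¹ ∈ V := by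
    rw [← hw]
    have h7 : (w : X) * h'' * (w : X)⁻¹ * h''⁻¹ = (w : X) * (h'' * (w : X)⁻¹ * h''⁻¹) := by group
    rw [h7]
    exact V.mul_mem w.2 (‹V.Normal›.conj_mem _ (V.inv_mem w.2) h'')
  have h8 : h' * h''⁻¹ ∈ G := G.mul_mem hh'.1 (G.inv_mem hh''G)
  have h9 : h' * h''⁻¹ = 1 := by
    have := hGV.disjoint
    rw [Subgroup.disjoint_def] at this
    exact this h6 h8
  have h10 : h' = h'' := by
    rw [mul_inv_eq_one] at h9
    exact h9
  refine ⟨w, k, w.2, hkH, hwk'.symm, h10.symm, ?_⟩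
  rw [← h10] at hw
  rw [mul_inv_eq_iff_eq_mul] at hw
  exact hw.symm

include hVexp hidx hself hGV hv in
theorem exists_conj_of_isConj (h h' : ↥(G ⊓ Subgroup.centralizer ({v} : Set X)))
    (hc : IsConj (v * (h : X)) (v * (h' : X))) : ∃ k : ↥(G ⊓ Subgroup.centralizer ({v} : Set X)),
      k * h * k⁻¹ = h' := by
  rw [isConj_iff] at hc
  obtain ⟨c, hc⟩ := hc
  obtain ⟨w, k, -, hk, -, hkh, -⟩ := decomp_of_conj p V hVexp hidx hself G hGV v hv h h' h.2 h'.2 c hc
  exact ⟨⟨k, hk⟩, Subtype.ext hkh⟩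

include hVexp hidx hself hGV hv in
/-- `|C_X(v h)| ≤ |C_V(h)| |C_H(h)|` -/
theorem card_centralizer_le' (h : ↥(G ⊓ Subgroup.centralizer ({v} : Set X))) :
    Nat.card ↥(Subgroup.centralizer ({v * (h : X)} : Set X)) ≤
      Nat.card {w : X // w ∈ V ∧ (h : X) * w = w * (h : X)} *
        Nat.card ↥(Subgroup.centralizer ({h} : Set ↥(G ⊓ Subgroup.centralizer ({v} : Set X)))) := by
  classical
  rw [← Nat.card_prod]
  have key : ∀ c : ↥(Subgroup.centralizer ({v * (h : X)} : Set X)),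
      ∃ wk : {w : X // w ∈ V ∧ (h : X) * w = w * (h : X)} ×
        ↥(Subgroup.centralizer ({h} : Set ↥(G ⊓ Subgroup.centralizer ({v} : Set X)))),
        (c : X) = (wk.1 : X) * ((wk.2 : ↥(G ⊓ Subgroup.centralizer ({v} : Set X))) : X) := by
    intro c
    have hc : (c : X) * (v * (h : X)) * (c : X)⁻¹ = v * (h : X) := by
      have := Subgroup.mem_centralizer_singleton_iff.1 c.2
      rw [this, mul_assoc, mul_inv_cancel, mul_one]
    obtain ⟨w, k, hw, hk, hwk, hkh, hwh⟩ :=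
      decomp_of_conj p V hVexp hidx hself G hGV v hv h h h.2 h.2 c hc
    refine ⟨(⟨w, hw, hwh⟩, ⟨⟨k, hk⟩, ?_⟩), hwk⟩
    rw [Subgroup.mem_centralizer_singleton_iff]
    apply Subtype.ext
    show k * (h : X) = (h : X) * k
    rw [mul_inv_eq_iff_eq_mul] at hkh
    exact hkh
  choose f hf using key
  apply Nat.card_le_card_of_injective f
  intro c c' hcc
  apply Subtype.ext
  rw [hf c, hf c', hcc]

end semidirect

end Cfsg.Agent.Lib.H11.RV
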