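/-
S4959 (architect helper23), piece CRIT, part (b): the generic character sum estimate from the second
orthogonality relation.
-/
import Mathlib
import Cfsg.Agent.Lib.H24.CharOrth

set_option autoImplicit false
set_option linter.unusedSectionVars false

universe u

namespace Cfsg.Agent.Lib.H11.RV

open Cfsg Cfsg.Agent.Lib.H24
open scoped ComplexConjugate

section generic

variable {X : Type u} [Group X] [Fintype X] [Fintype (IrrCharacter X)]
  {H : Type*} [Fintype H] [Nonempty H]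

open Classical in
/-- **the character sum estimate**: for a family `g : H → X` and weights `A : H → ℂ` constant on the pairs with
conjugate `g`-values, `∑_χ |  |H|⁻¹ ∑_h A_h χ(g_h) |² ≤ M` as soon as
`|A_h|² ∑_{h' : g_h' ~ g_h} |C_X(g_h)| ≤ |H| M` for all `h`. -/
theorem char_sum_le (g : H → X) (A : H → ℂ) (hA : ∀ h h', IsConj (g h) (g h') → A h' = A h) (M : ℝ)
    (hM : ∀ h, ‖A h‖ ^ 2 * (∑ h' : H, if IsConj (g h) (g h') then
      (Nat.card (Subgroup.centralizer ({g h} : Set X)) : ℝ) else 0) ≤ (Fintype.card H : ℝ) * M) :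
    ∑ χ : IrrCharacter X, ‖((Fintype.card H : ℂ))⁻¹ * ∑ h : H, A h * (χ : X → ℂ) (g h)‖ ^ 2 ≤ M := by
  set nH : ℕ := Fintype.card H with hnH
  have hnH0 : (nH : ℝ) ≠ 0 := by
    have : 0 < nH := Fintype.card_pos
    exact_mod_cast this.ne'
  have hnH0' : (nH : ℂ) ≠ 0 := by exact_mod_cast hnH0
  set D : H → H → ℝ := fun h h' => if IsConj (g h) (g h') then
      (Nat.card (Subgroup.centralizer ({g h} : Set X)) : ℝ) else 0 with hD
  -- the complex identity
  have key : ∑ χ : IrrCharacter X, ((((nH : ℂ))⁻¹ * ∑ h : H, A h * (χ : X → ℂ) (g h)) *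
      conj (((nH : ℂ))⁻¹ * ∑ h : H, A h * (χ : X → ℂ) (g h))) =
      (((nH : ℝ)⁻¹ * (nH : ℝ)⁻¹ * ∑ h : H, ‖A h‖ ^ 2 * ∑ h' : H, D h h' : ℝ) : ℂ) := by
    have h1 : ∀ χ : IrrCharacter X, ((((nH : ℂ))⁻¹ * ∑ h : H, A h * (χ : X → ℂ) (g h)) *
        conj (((nH : ℂ))⁻¹ * ∑ h : H, A h * (χ : X → ℂ) (g h))) =
        (nH : ℂ)⁻¹ * (nH : ℂ)⁻¹ * ∑ h : H, ∑ h' : H, A h * conj (A h') *
          ((χ : X → ℂ) (g h) * conj ((χ : X → ℂ) (g h'))) := by
      intro χ
      rw [map_mul, map_inv₀, Complex.conj_natCast, map_sum, mul_mul_mul_comm, Finset.sum_mul_sum]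
      congr 1
      apply Finset.sum_congr rfl
      intro h _
      apply Finset.sum_congr rfl
      intro h' _
      rw [map_mul]
      ring
    rw [Finset.sum_congr rfl (fun χ _ => h1 χ), ← Finset.mul_sum, Finset.sum_comm]
    rw [Finset.sum_congr rfl (fun h _ => Finset.sum_comm)]
    have h2 : ∀ h h' : H, ∑ χ : IrrCharacter X, A h * conj (A h') *
        ((χ : X → ℂ) (g h) * conj ((χ : X → ℂ) (g h'))) = ((‖A h‖ ^ 2 * D h h' : ℝ) : ℂ) := by
      intro h h'
      rw [← Finset.mul_sum, second_orthogonality]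
      simp only [hD]
      split_ifs with hc
      · rw [hA h h' hc, Complex.mul_conj, Complex.normSq_eq_norm_sq]
        push_cast
        ring
      · simp
    rw [Finset.sum_congr rfl (fun h _ => Finset.sum_congr rfl (fun h' _ => h2 h h'))]
    push_cast
    congr 1
    apply Finset.sum_congr rfl
    intro h _
    rw [Finset.mul_sum]
  have key2 : ∑ χ : IrrCharacter X, ‖((nH : ℂ))⁻¹ * ∑ h : H, A h * (χ : X → ℂ) (g h)‖ ^ 2 =
      (nH : ℝ)⁻¹ * (nH : ℝ)⁻¹ * ∑ h : H, ‖A h‖ ^ 2 * ∑ h' : H, D h h' := by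
    apply Complex.ofReal_injective
    rw [← key]
    push_cast
    apply Finset.sum_congr rfl
    intro χ _
    rw [Complex.mul_conj, Complex.normSq_eq_norm_sq]
    push_cast
    rfl
  rw [key2]
  have h3 : ∑ h : H, ‖A h‖ ^ 2 * ∑ h' : H, D h h' ≤ ∑ _h : H, (nH : ℝ) * M :=
    Finset.sum_le_sum (fun h _ => hM h)
  rw [Finset.sum_const, Finset.card_univ, nsmul_eq_mul] at h3
  have hpos : (0 : ℝ) ≤ (nH : ℝ)⁻¹ * (nH : ℝ)⁻¹ := by positivity
  calc (nH : ℝ)⁻¹ * (nH : ℝ)⁻¹ * ∑ h : H, ‖A h‖ ^ 2 * ∑ h' : H, D h h'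
      ≤ (nH : ℝ)⁻¹ * (nH : ℝ)⁻¹ * ((Fintype.card H : ℝ) * ((nH : ℝ) * M)) :=
        mul_le_mul_of_nonneg_left h3 hpos
    _ = M := by
        rw [← hnH]
        field_simp

end generic

end Cfsg.Agent.Lib.H11.RV
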