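/-
S4959 (architect helper23), piece CRIT: the criterion `k(X) ≤ |V|` (`class_number_le`).
-/
import Mathlib
import Cfsg.Agent.Lib.H11.RVCRITa
import Cfsg.Agent.Lib.H11.RVCRITb
import Cfsg.Agent.Lib.H23.RVDefs
import Cfsg.Agent.Lib.H23.ContribI

set_option autoImplicit false
set_option linter.unusedSectionVars false
set_option maxHeartbeats 1000000

universe u

namespace Cfsg.Agent.Lib.H11.RV

open Cfsg Cfsg.Agent.Lib.H23 Cfsg.Agent.Lib.H23.RV Cfsg.Agent.Lib.H24
open scoped ComplexConjugate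

theorem cycPow_one_val_pow {X : Type*} [Group X] (m : ℕ) [NeZero m] (a : X) (ha : a ^ m = 1) :
    a ^ (cycPow m (1 : Gal(CyclotomicField m ℚ/ℚ))).val = a := by
  have h1 : cycPow m (1 : Gal(CyclotomicField m ℚ/ℚ)) = 1 := by
    unfold cycPow
    rw [map_one, Units.val_one]
  rw [h1, ZMod.val_one_eq_one_mod, ← pow_eq_pow_mod 1 ha, pow_one]

section crit

variable {X : Type u} [Group X] [Finite X] (p : ℕ) [Fact p.Prime]

theorem class_number_le (V : Subgroup X) [V.Normal] (hVexp : ∀ v ∈ V, v ^ p = 1)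
    (hidx : ¬ p ∣ V.index) (hself : Subgroup.centralizer (V : Set X) = V) (G : Subgroup X)
    (hGV : Subgroup.IsComplement' V G) (v : X) (hv : v ∈ V)
    (m : ℕ) [NeZero m] (hm : ∀ x : X, x ^ m = 1)
    (y : ↥(G ⊓ Subgroup.centralizer ({v} : Set X)) → CyclotomicField m ℚ)
    (hy : ∀ h g : ↥(G ⊓ Subgroup.centralizer ({v} : Set X)), y (g * h * g⁻¹) = y h)
    (hnorm : ∀ (σ : Gal(CyclotomicField m ℚ/ℚ)) (h : ↥(G ⊓ Subgroup.centralizer ({v} : Set X))),
      ‖cycEmb m (σ (y h))‖ ^ 2 * (Nat.card {w : X // w ∈ V ∧ (h : X) * w = w * (h : X)} : ℝ) ≤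
        (Nat.card V : ℝ))
    (hint : ∀ χ : X → ℂ, IsIrrCharacter X χ →
      (∑ᶠ h : ↥(G ⊓ Subgroup.centralizer ({v} : Set X)), cycEmb m (y h) * χ (v * (h : X))) ≠ 0 ∧
      IsIntegral ℤ ((Nat.card ↥(G ⊓ Subgroup.centralizer ({v} : Set X)) : ℂ)⁻¹ *
        ∑ᶠ h : ↥(G ⊓ Subgroup.centralizer ({v} : Set X)), cycEmb m (y h) * χ (v * (h : X)))) :
    Nat.card (ConjClasses X) ≤ Nat.card V := by
  classical
  have hmpos : 0 < m := NeZero.pos m
  have : Fintype X := Fintype.ofFinite X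
  have : Fintype (IrrCharacter X) := Fintype.ofFinite _
  have : Fintype ↥(G ⊓ Subgroup.centralizer ({v} : Set X)) := Fintype.ofFinite _
  set nH : ℕ := Fintype.card ↥(G ⊓ Subgroup.centralizer ({v} : Set X)) with hnH
  have hnHcard : Nat.card ↥(G ⊓ Subgroup.centralizer ({v} : Set X)) = nH :=
    Nat.card_eq_fintype_card
  have hnHpos : 0 < nH := Fintype.card_pos
  have hnH0 : (nH : ℂ) ≠ 0 := by exact_mod_cast hnHpos.ne'
  have ht : ∀ σ : Gal(CyclotomicField m ℚ/ℚ), ((cycPow m σ).val).Coprime m :=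
    Cfsg.Agent.Lib.H23.Contrib.cycPow_val_coprime m
  -- Step 1
  have step1 : ∀ σ : Gal(CyclotomicField m ℚ/ℚ), ∑ χ : IrrCharacter X,
      ‖((nH : ℂ))⁻¹ * ∑ h : ↥(G ⊓ Subgroup.centralizer ({v} : Set X)),
        cycEmb m (σ (y h)) * (χ : X → ℂ) ((v * (h : X)) ^ (cycPow m σ).val)‖ ^ 2 ≤
      (Nat.card V : ℝ) := by
    intro σ
    apply char_sum_le (fun h : ↥(G ⊓ Subgroup.centralizer ({v} : Set X)) =>
      (v * (h : X)) ^ (cycPow m σ).val) (fun h => cycEmb m (σ (y h)))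
    · intro h h' hc
      have h1 := isConj_of_pow hmpos (ht σ) (v * (h : X)) (v * (h' : X)) (hm _) (hm _) hc
      obtain ⟨k, hk⟩ := exists_conj_of_isConj p V hVexp hidx hself G hGV v hv h h' h1
      show cycEmb m (σ (y h')) = cycEmb m (σ (y h))
      rw [← hk, hy]
    · intro h
      set cX : ℕ := Nat.card (Subgroup.centralizer
        ({(v * (h : X)) ^ (cycPow m σ).val} : Set X)) with hcX
      set cV : ℕ := Nat.card {w : X // w ∈ V ∧ (h : X) * w = w * (h : X)} with hcV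
      set cH : ℕ := Nat.card ↥(Subgroup.centralizer
        ({h} : Set ↥(G ⊓ Subgroup.centralizer ({v} : Set X)))) with hcH
      set idx : ℕ := (Subgroup.centralizer
        ({h} : Set ↥(G ⊓ Subgroup.centralizer ({v} : Set X)))).index with hidx'
      have e1 : cX ≤ cV * cH := by
        have h1 : cX ≤ Nat.card (Subgroup.centralizer ({v * (h : X)} : Set X)) :=
          Subgroup.card_le_of_le (centralizer_pow_le hmpos (ht σ) _ (hm _))
        exact h1.trans (card_centralizer_le' p V hVexp hidx hself G hGV v hv h)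
      have e2 : idx * cH = nH := by
        rw [hidx', hcH, Subgroup.index_mul_card, hnHcard]
      -- the sum of `D`
      have e3 : (∑ h' : ↥(G ⊓ Subgroup.centralizer ({v} : Set X)),
          if IsConj ((v * (h : X)) ^ (cycPow m σ).val) ((v * (h' : X)) ^ (cycPow m σ).val) then
            (cX : ℝ) else 0) ≤ (cX : ℝ) * (idx : ℝ) := by
        have h1 : ∀ h' : ↥(G ⊓ Subgroup.centralizer ({v} : Set X)),
            (if IsConj ((v * (h : X)) ^ (cycPow m σ).val) ((v * (h' : X)) ^ (cycPow m σ).val) then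
              (cX : ℝ) else 0) ≤ (if IsConj h h' then (cX : ℝ) else 0) := by
          intro h'
          by_cases hc : IsConj ((v * (h : X)) ^ (cycPow m σ).val)
              ((v * (h' : X)) ^ (cycPow m σ).val)
          · have h2 := isConj_of_pow hmpos (ht σ) (v * (h : X)) (v * (h' : X)) (hm _) (hm _) hc
            obtain ⟨k, hk⟩ := exists_conj_of_isConj p V hVexp hidx hself G hGV v hv h h' h2
            have h3 : IsConj h h' := isConj_iff.mpr ⟨k, hk⟩
            rw [if_pos hc, if_pos h3]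
          · rw [if_neg hc]
            split_ifs
            · exact Nat.cast_nonneg _
            · exact le_refl _
        refine (Finset.sum_le_sum (fun h' _ => h1 h')).trans (le_of_eq ?_)
        rw [← Finset.sum_filter, Finset.sum_const, nsmul_eq_mul, mul_comm]
        congr 1
        rw [hidx', index_centralizer_eq_card_conj, Nat.card_eq_fintype_card, Fintype.card_subtype]
      have e4 := hnorm σ h
      have hA0 : (0 : ℝ) ≤ ‖cycEmb m (σ (y h))‖ ^ 2 := by positivity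
      calc ‖cycEmb m (σ (y h))‖ ^ 2 * _ ≤ ‖cycEmb m (σ (y h))‖ ^ 2 * ((cX : ℝ) * (idx : ℝ)) :=
            mul_le_mul_of_nonneg_left e3 hA0
        _ ≤ ‖cycEmb m (σ (y h))‖ ^ 2 * (((cV * cH : ℕ) : ℝ) * (idx : ℝ)) := by
            apply mul_le_mul_of_nonneg_left _ hA0
            apply mul_le_mul_of_nonneg_right _ (Nat.cast_nonneg _)
            exact_mod_cast e1
        _ = (‖cycEmb m (σ (y h))‖ ^ 2 * (cV : ℝ)) * ((idx * cH : ℕ) : ℝ) := by
            push_cast
            ring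
        _ ≤ (Nat.card V : ℝ) * ((idx * cH : ℕ) : ℝ) :=
            mul_le_mul_of_nonneg_right e4 (Nat.cast_nonneg _)
        _ = (Fintype.card ↥(G ⊓ Subgroup.centralizer ({v} : Set X)) : ℝ) * (Nat.card V : ℝ) := by
            rw [e2, mul_comm]
  -- Step 2
  have step2 : ∀ χ : IrrCharacter X, (Fintype.card Gal(CyclotomicField m ℚ/ℚ) : ℝ) ≤
      ∑ σ : Gal(CyclotomicField m ℚ/ℚ),
        ‖((nH : ℂ))⁻¹ * ∑ h : ↥(G ⊓ Subgroup.centralizer ({v} : Set X)),
          cycEmb m (σ (y h)) * (χ : X → ℂ) ((v * (h : X)) ^ (cycPow m σ).val)‖ ^ 2 := by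
    intro χ
    choose z hz using fun h : ↥(G ⊓ Subgroup.centralizer ({v} : Set X)) =>
      Cfsg.Agent.Lib.H23.Contrib.exists_cyc_irr m χ (v * (h : X)) (hm _)
    set x : CyclotomicField m ℚ := (nH : CyclotomicField m ℚ)⁻¹ *
      ∑ h : ↥(G ⊓ Subgroup.centralizer ({v} : Set X)), y h * z h with hx
    have hxσ : ∀ σ : Gal(CyclotomicField m ℚ/ℚ), cycEmb m (σ x) =
        ((nH : ℂ))⁻¹ * ∑ h : ↥(G ⊓ Subgroup.centralizer ({v} : Set X)),
          cycEmb m (σ (y h)) * (χ : X → ℂ) ((v * (h : X)) ^ (cycPow m σ).val) := by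
      intro σ
      rw [hx, map_mul, map_inv₀, map_natCast, map_sum, map_mul, map_inv₀, map_natCast, map_sum]
      congr 1
      apply Finset.sum_congr rfl
      intro h _
      rw [map_mul, map_mul, hz h σ]
    have hx1 : cycEmb m x = ((nH : ℂ))⁻¹ * ∑ h : ↥(G ⊓ Subgroup.centralizer ({v} : Set X)),
        cycEmb m (y h) * (χ : X → ℂ) (v * (h : X)) := by
      have := hxσ 1
      rw [AlgEquiv.one_apply] at this
      rw [this]
      congr 1
      apply Finset.sum_congr rfl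
      intro h _
      rw [AlgEquiv.one_apply, cycPow_one_val_pow m _ (hm _)]
    obtain ⟨hne, hint'⟩ := hint χ.1 χ.2
    rw [finsum_eq_sum_of_fintype] at hne hint'
    rw [hnHcard] at hint'
    have hxint : IsIntegral ℤ (cycEmb m x) := by rw [hx1]; exact hint'
    have hxne : cycEmb m x ≠ 0 := by
      rw [hx1]
      exact mul_ne_zero (inv_ne_zero hnH0) hne
    obtain ⟨N, hN0, hN⟩ := exists_int_prod_galois m x hxint hxne
    have hprod : (1 : ℝ) ≤ ∏ σ : Gal(CyclotomicField m ℚ/ℚ), ‖cycEmb m (σ x)‖ ^ 2 := by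
      rw [Finset.prod_pow, ← norm_prod, hN]
      have h1 : ‖((N : ℤ) : ℂ)‖ = |(N : ℝ)| := by
        rw [← Complex.ofReal_intCast, Complex.norm_real, Real.norm_eq_abs]
      rw [h1, sq_abs]
      have h2 : (1 : ℤ) ≤ N ^ 2 := by
        have : 0 < N ^ 2 := by positivity
        omega
      exact_mod_cast h2
    have h3 := card_le_sum_of_one_le_prod (fun σ : Gal(CyclotomicField m ℚ/ℚ) =>
      ‖cycEmb m (σ x)‖ ^ 2) (fun σ => by positivity) hprod
    refine h3.trans (le_of_eq ?_)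
    apply Finset.sum_congr rfl
    intro σ _
    show ‖cycEmb m (σ x)‖ ^ 2 = _
    rw [hxσ σ]
  -- Step 3
  have hgal : (0 : ℝ) < (Fintype.card Gal(CyclotomicField m ℚ/ℚ) : ℝ) := by
    exact_mod_cast Fintype.card_pos
  have h4 : (Fintype.card (IrrCharacter X) : ℝ) * (Fintype.card Gal(CyclotomicField m ℚ/ℚ) : ℝ) ≤
      (Fintype.card Gal(CyclotomicField m ℚ/ℚ) : ℝ) * (Nat.card V : ℝ) := by
    calc (Fintype.card (IrrCharacter X) : ℝ) * (Fintype.card Gal(CyclotomicField m ℚ/ℚ) : ℝ)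
        = ∑ _χ : IrrCharacter X, (Fintype.card Gal(CyclotomicField m ℚ/ℚ) : ℝ) := by
          rw [Finset.sum_const, Finset.card_univ, nsmul_eq_mul]
      _ ≤ ∑ χ : IrrCharacter X, ∑ σ : Gal(CyclotomicField m ℚ/ℚ),
            ‖((nH : ℂ))⁻¹ * ∑ h : ↥(G ⊓ Subgroup.centralizer ({v} : Set X)),
              cycEmb m (σ (y h)) * (χ : X → ℂ) ((v * (h : X)) ^ (cycPow m σ).val)‖ ^ 2 :=
          Finset.sum_le_sum (fun χ _ => step2 χ)
      _ = ∑ σ : Gal(CyclotomicField m ℚ/ℚ), ∑ χ : IrrCharacter X,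
            ‖((nH : ℂ))⁻¹ * ∑ h : ↥(G ⊓ Subgroup.centralizer ({v} : Set X)),
              cycEmb m (σ (y h)) * (χ : X → ℂ) ((v * (h : X)) ^ (cycPow m σ).val)‖ ^ 2 :=
          Finset.sum_comm
      _ ≤ ∑ _σ : Gal(CyclotomicField m ℚ/ℚ), (Nat.card V : ℝ) :=
          Finset.sum_le_sum (fun σ _ => step1 σ)
      _ = (Fintype.card Gal(CyclotomicField m ℚ/ℚ) : ℝ) * (Nat.card V : ℝ) := by
          rw [Finset.sum_const, Finset.card_univ, nsmul_eq_mul]
  have h5 : (Fintype.card (IrrCharacter X) : ℝ) ≤ (Nat.card V : ℝ) := by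
    rw [mul_comm] at h4
    exact le_of_mul_le_mul_left h4 hgal
  rw [← card_irr_eq_card_conjClasses, Nat.card_eq_fintype_card]
  exact_mod_cast h5

end crit

end Cfsg.Agent.Lib.H11.RV
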