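/-
S4959 (architect helper23), piece SYM-B: coprime splitting `W = C_W(K) ⊕ R`, `R = ker (avg)`, and
`Ψ_W(g) = |C_W(K)| Ψ_R(g)`.
-/
import Mathlib
import Cfsg.Agent.Lib.H23.RVDefs

set_option autoImplicit false

universe u

namespace Cfsg.Agent.Lib.H11.RV

open Cfsg Cfsg.Agent.Lib.H23 Cfsg.Agent.Lib.H23.RV
open scoped ComplexConjugate

section sym
variable {p : ℕ} [Fact p.Prime]

/-- SYM-B. -/
theorem gaussPsi_split {K : Type u} [Group K] [Finite K] (hcop : ¬ p ∣ Nat.card K) {W : Type*}
    [AddCommGroup W] [Module (ZMod p) W] [Finite W] (ρ : Representation (ZMod p) K W)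
    (B : LinearMap.BilinForm (ZMod p) W) (hinv : ∀ g x y, B (ρ g x) (ρ g y) = B x y)
    (hnd : ∀ x, (∀ y, B x y = 0) → x = 0) :
    ∃ (R : Submodule (ZMod p) W) (hR : ∀ g : K, ∀ x ∈ R, ρ g x ∈ R),
      Nat.card W = fixCardK ρ ⊤ * Nat.card R ∧
      (∀ x ∈ R, (∀ g : K, ρ g x = x) → x = 0) ∧
      (∀ x ∈ R, (∀ y ∈ R, B x y = 0) → x = 0) ∧
      ∀ g : K, gaussPsi B ρ g =
        (fixCardK ρ ⊤ : ℂ) * gaussPsi (B.domRestrict₁₂ R R) (subRep ρ R hR) g := by
  classical
  have : Fintype K := Fintype.ofFinite K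
  have : Fintype W := Fintype.ofFinite W
  set n : ℕ := Fintype.card K with hn
  have hn0 : (n : ZMod p) ≠ 0 := by
    rw [Ne, ZMod.natCast_eq_zero_iff, hn, ← Nat.card_eq_fintype_card]
    exact hcop
  -- the sum and the average
  set S : W →ₗ[ZMod p] W := ∑ g : K, ρ g with hS
  have hSx : ∀ x, S x = ∑ g : K, ρ g x := by
    intro x
    rw [hS, LinearMap.sum_apply]
  have hS_left : ∀ (h : K) x, ρ h (S x) = S x := by
    intro h x
    rw [hSx, map_sum]
    rw [← Fintype.sum_equiv (Equiv.mulLeft h) (fun g => ρ (h * g) x) (fun g => ρ g x) (fun g => rfl)]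
    apply Finset.sum_congr rfl
    intro g _
    rw [map_mul, Module.End.mul_apply]
  have hS_right : ∀ (h : K) x, S (ρ h x) = S x := by
    intro h x
    rw [hSx, hSx]
    rw [← Fintype.sum_equiv (Equiv.mulRight h) (fun g => ρ (g * h) x) (fun g => ρ g x) (fun g => rfl)]
    apply Finset.sum_congr rfl
    intro g _
    rw [map_mul, Module.End.mul_apply]
  have hS_fixed : ∀ x, (∀ g : K, ρ g x = x) → S x = (n : ZMod p) • x := by
    intro x hx
    rw [hSx, Finset.sum_congr rfl (fun g _ => hx g), Finset.sum_const, Finset.card_univ,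
      Nat.cast_smul_eq_nsmul]
  set avg : W →ₗ[ZMod p] W := (n : ZMod p)⁻¹ • S with havg
  have havgx : ∀ x, avg x = (n : ZMod p)⁻¹ • S x := fun x => rfl
  have avg_fix : ∀ (h : K) x, ρ h (avg x) = avg x := by
    intro h x
    rw [havgx, map_smul, hS_left]
  have avg_right : ∀ (h : K) x, avg (ρ h x) = avg x := by
    intro h x
    rw [havgx, havgx, hS_right]
  have avg_of_fixed : ∀ x, (∀ g : K, ρ g x = x) → avg x = x := by
    intro x hx
    rw [havgx, hS_fixed x hx, smul_smul, inv_mul_cancel₀ hn0, one_smul]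
  have avg_avg : ∀ x, avg (avg x) = avg x := fun x => avg_of_fixed _ (fun g => avg_fix g x)
  -- adjointness of `avg`
  have hgg : ∀ (g : K) x, ρ g (ρ g⁻¹ x) = x := by
    intro g x
    rw [← Module.End.mul_apply, ← map_mul, mul_inv_cancel, map_one, Module.End.one_apply]
  have hadj : ∀ (g : K) x y, B x (ρ g y) = B (ρ g⁻¹ x) y := by
    intro g x y
    have h0 := hinv g (ρ g⁻¹ x) y
    rw [hgg] at h0
    exact h0
  have hB_avg : ∀ x y, B x (avg y) = B (avg x) y := by
    intro x y
    rw [havgx, havgx, map_smul, smul_eq_mul, map_smul, LinearMap.smul_apply, smul_eq_mul, hSx, hSx,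
      map_sum, map_sum, LinearMap.sum_apply]
    congr 1
    rw [← Fintype.sum_equiv (Equiv.inv K) (fun g => B (ρ g⁻¹ x) y) (fun g => B (ρ g x) y)
      (fun g => rfl)]
    apply Finset.sum_congr rfl
    intro g _
    exact hadj g x y
  -- the submodules
  set R : Submodule (ZMod p) W := LinearMap.ker avg with hRdef
  have hR : ∀ g : K, ∀ x ∈ R, ρ g x ∈ R := by
    intro g x hx
    rw [hRdef, LinearMap.mem_ker] at hx ⊢
    rw [avg_right, hx]
  have hfix_iff : ∀ w : W, (∀ g ∈ (⊤ : Subgroup K), ρ g w = w) ↔ avg w = w := by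
    intro w
    constructor
    · intro h
      exact avg_of_fixed w (fun g => h g (Subgroup.mem_top g))
    · intro h g _
      rw [← h]
      exact avg_fix g w
  -- the bijection `C × R ≃ W`
  let eqv : {w : W // ∀ g ∈ (⊤ : Subgroup K), ρ g w = w} × R ≃ W :=
    { toFun := fun cr => cr.1.1 + cr.2.1
      invFun := fun w => (⟨avg w, (hfix_iff _).2 (avg_avg w)⟩, ⟨w - avg w, by
        rw [hRdef, LinearMap.mem_ker, map_sub, avg_avg, sub_self]⟩)
      left_inv := by
        rintro ⟨⟨c, hc⟩, ⟨r, hr⟩⟩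
        have hc' : avg c = c := (hfix_iff c).1 hc
        have hr' : avg r = 0 := hr
        apply Prod.ext
        · apply Subtype.ext
          show avg (c + r) = c
          rw [map_add, hc', hr', add_zero]
        · apply Subtype.ext
          show c + r - avg (c + r) = r
          rw [map_add, hc', hr', add_zero, add_sub_cancel_left]
      right_inv := by
        intro w
        show avg w + (w - avg w) = w
        abel }
  refine ⟨R, hR, ?_, ?_, ?_, ?_⟩
  · rw [← Nat.card_congr eqv, Nat.card_prod]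
    rfl
  · intro x hx hfx
    have h1 : avg x = 0 := hx
    rw [← avg_of_fixed x hfx, h1]
  · intro x hx hxy
    apply hnd
    intro w
    have hx0 : avg x = 0 := hx
    have h1 : w = avg w + (w - avg w) := by abel
    rw [h1, map_add, hB_avg, hx0, map_zero, LinearMap.zero_apply, zero_add]
    apply hxy
    rw [hRdef, LinearMap.mem_ker, map_sub, avg_avg, sub_self]
  · intro g
    rw [gaussPsi_eq_sum, gaussPsi_eq_sum]
    rw [← Fintype.sum_equiv eqv (fun cr => (ZMod.stdAddChar (N := p)
      (B (eqv cr) (ρ g (eqv cr) - eqv cr)) : ℂ)) _ (fun cr => rfl)]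
    rw [Fintype.sum_prod_type]
    have hterm : ∀ (c : {w : W // ∀ g ∈ (⊤ : Subgroup K), ρ g w = w}) (r : R),
        B (eqv (c, r)) (ρ g (eqv (c, r)) - eqv (c, r)) =
          (B.domRestrict₁₂ R R) r (subRep ρ R hR g r - r) := by
      intro c r
      have hcg : ∀ h : K, ρ h c.1 = c.1 := fun h => c.2 h (Subgroup.mem_top h)
      show B (c.1 + r.1) (ρ g (c.1 + r.1) - (c.1 + r.1)) = B r.1 (ρ g r.1 - r.1)
      have h1 : ρ g (c.1 + r.1) - (c.1 + r.1) = ρ g r.1 - r.1 := by
        rw [map_add, hcg g]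
        abel
      rw [h1, map_add, LinearMap.add_apply]
      have h2 : B c.1 (ρ g r.1 - r.1) = 0 := by
        rw [map_sub, hadj, hcg, sub_self]
      rw [h2, zero_add]
    simp only [hterm]
    rw [Finset.sum_const, Finset.card_univ, nsmul_eq_mul]
    congr 1
    unfold fixCardK
    rw [Nat.card_eq_fintype_card]

end sym

end Cfsg.Agent.Lib.H11.RV
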