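/-
S4959 (architect helper23), piece SYM-C: `|Ψ(g)|² = |W|` for a fixed-point-free `g` (symmetric invariant
non-degenerate form over `ZMod p`).
-/
import Mathlib
import Cfsg.Agent.Lib.H23.RVDefs

set_option autoImplicit false

universe u

namespace Cfsg.Agent.Lib.H11.RV

open Cfsg Cfsg.Agent.Lib.H23 Cfsg.Agent.Lib.H23.RV
open scoped ComplexConjugate

section sym
variable {p : ℕ} [Fact p.Prime]

/-- the character sum `∑_s e(B s u)` vanishes unless `u = 0` -/
theorem sum_stdAddChar_form {W : Type*} [AddCommGroup W] [Module (ZMod p) W] [Fintype W]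
    (B : LinearMap.BilinForm (ZMod p) W) (hsym : ∀ x y, B x y = B y x)
    (hnd : ∀ x, (∀ y, B x y = 0) → x = 0) (u : W) (hu : u ≠ 0) :
    ∑ s : W, (ZMod.stdAddChar (N := p) (B s u) : ℂ) = 0 := by
  let ψ : AddChar W ℂ := (ZMod.stdAddChar (N := p)).compAddMonoidHom
    ((B.flip u : W →ₗ[ZMod p] ZMod p) : W →+ ZMod p)
  have hψ : ∀ s, ψ s = ZMod.stdAddChar (N := p) (B s u) := fun s => rfl
  have hne : ψ ≠ 1 := by
    intro h1
    apply hu
    apply hnd
    intro y
    rw [hsym]
    have h2 : ψ y = 1 := by rw [h1]; rfl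
    rw [hψ] at h2
    have h3 : ZMod.stdAddChar (N := p) (B y u) = ZMod.stdAddChar (N := p) 0 := by
      rw [h2, AddChar.map_zero_eq_one]
    exact ZMod.injective_stdAddChar h3
  have := AddChar.sum_eq_zero_of_ne_one hne
  simpa [hψ] using this

/-- SYM-C. -/
theorem gaussPsi_normSq_ff {K : Type*} [Group K] {W : Type*} [AddCommGroup W]
    [Module (ZMod p) W] [Finite W] (ρ : Representation (ZMod p) K W)
    (B : LinearMap.BilinForm (ZMod p) W) (hsym : ∀ x y, B x y = B y x)
    (hinv : ∀ g x y, B (ρ g x) (ρ g y) = B x y) (hnd : ∀ x, (∀ y, B x y = 0) → x = 0) (g : K)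
    (hff : ∀ x, ρ g x = x → x = 0) :
    ‖gaussPsi B ρ g‖ ^ 2 = (Nat.card W : ℝ) := by
  classical
  have : Fintype W := Fintype.ofFinite W
  set e : AddChar (ZMod p) ℂ := ZMod.stdAddChar (N := p) with he
  -- `q t = B t (g t - t)`, `u t = g t + g⁻¹ t - 2 t`
  set q : W → ZMod p := fun t => B t (ρ g t - t) with hq
  set u : W → W := fun t => ρ g t + ρ g⁻¹ t - t - t with hu
  have hgg : ∀ x, ρ g (ρ g⁻¹ x) = x := by
    intro x
    rw [← Module.End.mul_apply, ← map_mul, mul_inv_cancel, map_one, Module.End.one_apply]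
  have hkey : ∀ s t, q (s + t) - q s = q t + B s (u t) := by
    intro s t
    have h1 : B t (ρ g s) = B s (ρ g⁻¹ t) := by
      have h0 := hinv g (ρ g⁻¹ t) s
      rw [hgg] at h0
      rw [h0, hsym]
    simp only [hq, hu, map_add, map_sub, LinearMap.add_apply]
    rw [h1]
    have h2 : B t s = B s t := hsym t s
    rw [h2]
    ring
  have hu0 : ∀ t, u t = 0 → t = 0 := by
    intro t ht
    -- `g (u t) = (g - 1)² t`
    have h1 : ρ g (ρ g t - t) = ρ g t - t := by
      have h2 : ρ g (u t) = 0 := by rw [ht, map_zero]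
      simp only [hu, map_sub, map_add, hgg] at h2
      rw [map_sub]
      have h3 : ρ g (ρ g t) - ρ g t - (ρ g t - t) = ρ g (ρ g t) + t - ρ g t - ρ g t := by abel
      rw [← sub_eq_zero, h3]
      exact h2
    have h4 := hff _ h1
    exact hff t (sub_eq_zero.mp h4)
  have hsum : gaussPsi B ρ g * conj (gaussPsi B ρ g) = (Fintype.card W : ℂ) := by
    rw [gaussPsi_eq_sum, map_sum, Finset.sum_mul]
    simp only [Finset.mul_sum]
    -- `∑ a, ∑ s, e (q a) * conj (e (q s))`
    rw [Finset.sum_comm]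
    have h1 : ∀ s : W, ∑ a : W, e (q a) * conj (e (q s)) = ∑ t : W, e (q t) * e (B s (u t)) := by
      intro s
      rw [← Fintype.sum_equiv (Equiv.addLeft s) (fun t => e (q (s + t)) * conj (e (q s)))
        (fun a => e (q a) * conj (e (q s))) (fun t => rfl)]
      apply Finset.sum_congr rfl
      intro t _
      rw [← AddChar.map_neg_eq_conj, ← AddChar.map_add_eq_mul, ← AddChar.map_add_eq_mul,
        ← sub_eq_add_neg, hkey]
    rw [Finset.sum_congr rfl (fun s _ => h1 s), Finset.sum_comm]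
    have h2 : ∀ t : W, ∑ s : W, e (q t) * e (B s (u t)) =
        if t = 0 then (Fintype.card W : ℂ) else 0 := by
      intro t
      rw [← Finset.mul_sum]
      split_ifs with ht
      · subst ht
        have hu00 : u 0 = 0 := by simp [hu]
        have hq0 : q 0 = 0 := by simp [hq]
        rw [hu00, hq0]
        simp
      · rw [sum_stdAddChar_form B hsym hnd (u t) (fun h => ht (hu0 t h)), mul_zero]
    rw [Finset.sum_congr rfl (fun t _ => h2 t)]
    simp
  have h3 : ((‖gaussPsi B ρ g‖ ^ 2 : ℝ) : ℂ) = ((Nat.card W : ℝ) : ℂ) := by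
    rw [← Complex.normSq_eq_norm_sq, ← Complex.mul_conj, hsum, Nat.card_eq_fintype_card]
    simp
  exact_mod_cast h3

end sym

end Cfsg.Agent.Lib.H11.RV
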