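import Mathlib

/-!
# Redundant Sylow subgroups of `GL_p(F)` (part 1): the monomial group `μ_p ≀ C_p`
-/

set_option autoImplicit false
set_option linter.unusedSectionVars false

namespace Cfsg.Agent.Lib.H11.RedSyl

open Matrix
open scoped MatrixGroups

variable {F : Type*} [Field F] {p : ℕ} [NeZero p]

/-- the monomial matrix with `(mono d k *ᵥ v) i = d i * v (i + k)` -/
def mono (d : Fin p → F) (k : Fin p) : Matrix (Fin p) (Fin p) F :=
  Matrix.of fun i j => if j = i + k then d i else 0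

theorem mono_apply (d : Fin p → F) (k : Fin p) (i j : Fin p) :
    mono d k i j = if j = i + k then d i else 0 := rfl

theorem mono_mulVec (d : Fin p → F) (k : Fin p) (v : Fin p → F) (i : Fin p) :
    (mono d k *ᵥ v) i = d i * v (i + k) := by
  simp [Matrix.mulVec, dotProduct, mono_apply]

theorem mono_mul (d e : Fin p → F) (k l : Fin p) :
    mono d k * mono e l = mono (fun i => d i * e (i + k)) (k + l) := by
  ext i j
  rw [Matrix.mul_apply, mono_apply]
  simp only [mono_apply]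
  rw [Finset.sum_eq_single (i + k)]
  · simp only [if_true]
    by_cases h : j = i + (k + l)
    · rw [if_pos h, if_pos (by rw [h, add_assoc])]
    · rw [if_neg h, if_neg (by rw [add_assoc]; exact h), mul_zero]
  · intro t _ ht
    rw [if_neg ht, zero_mul]
  · intro h
    exact absurd (Finset.mem_univ _) h

theorem mono_one_zero : mono (fun _ => (1 : F)) (0 : Fin p) = 1 := by
  ext i j
  rw [mono_apply, Matrix.one_apply, add_zero]
  by_cases h : i = j
  · rw [if_pos h, if_pos h.symm]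
  · rw [if_neg h, if_neg (fun h' => h h'.symm)]

/-- the monomial matrices as elements of `GL` -/
def monoGL (d : Fin p → Fˣ) (k : Fin p) : GL (Fin p) F where
  val := mono (fun i => (d i : F)) k
  inv := mono (fun i => ((d (i - k))⁻¹ : Fˣ)) (-k)
  val_inv := by
    rw [mono_mul]
    have : (fun i => (d i : F) * ((d (i + k - k))⁻¹ : Fˣ)) = fun _ => (1 : F) := by
      funext i
      rw [add_sub_cancel_right, ← Units.val_mul, mul_inv_cancel, Units.val_one]
    rw [this, add_neg_cancel, mono_one_zero]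
  inv_val := by
    rw [mono_mul]
    have : (fun i => (((d (i - k))⁻¹ : Fˣ) : F) * (d (i + -k) : F)) = fun _ => (1 : F) := by
      funext i
      rw [← sub_eq_add_neg, ← Units.val_mul, inv_mul_cancel, Units.val_one]
    rw [this, neg_add_cancel, mono_one_zero]

theorem monoGL_val (d : Fin p → Fˣ) (k : Fin p) :
    ((monoGL d k : GL (Fin p) F) : Matrix (Fin p) (Fin p) F) = mono (fun i => (d i : F)) k := rfl

theorem monoGL_mul (d e : Fin p → Fˣ) (k l : Fin p) :
    monoGL d k * monoGL e l = monoGL (fun i => d i * e (i + k)) (k + l) := by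
  apply Units.ext
  rw [Units.val_mul, monoGL_val, monoGL_val, monoGL_val, mono_mul]
  congr 1

theorem monoGL_one : monoGL (fun _ => (1 : Fˣ)) (0 : Fin p) = 1 := by
  apply Units.ext
  rw [monoGL_val, Units.val_one]
  exact mono_one_zero

theorem monoGL_inv (d : Fin p → Fˣ) (k : Fin p) :
    (monoGL d k)⁻¹ = monoGL (fun i => (d (i - k))⁻¹) (-k) := by
  apply Units.ext
  rfl

theorem monoGL_inj {d e : Fin p → Fˣ} {k l : Fin p} (h : monoGL d k = monoGL e l) :
    d = e ∧ k = l := by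
  have h1 := congrArg (fun g : GL (Fin p) F => (g : Matrix (Fin p) (Fin p) F)) h
  simp only [monoGL_val] at h1
  have hkl : k = l := by
    by_contra hne
    have h3 := congrFun (congrFun h1 0) (0 + k)
    rw [mono_apply, mono_apply, if_pos rfl, if_neg (by
      intro h'; exact hne (add_left_cancel h'))] at h3
    exact (d 0).ne_zero h3
  refine ⟨?_, hkl⟩
  subst hkl
  funext i
  have h3 := congrFun (congrFun h1 i) (i + k)
  rw [mono_apply, mono_apply, if_pos rfl, if_pos rfl] at h3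
  exact Units.ext h3

/-! ### the group `Q = μ ≀ C_p` for a subgroup `μ ≤ Fˣ` -/

section group

variable (μ : Subgroup Fˣ)

/-- the group of monomial matrices `monoGL d k` with all `d i ∈ μ` -/
def QQ : Subgroup (GL (Fin p) F) where
  carrier := {g | ∃ (d : Fin p → Fˣ) (k : Fin p), (∀ i, d i ∈ μ) ∧ g = monoGL d k}
  mul_mem' := by
    rintro _ _ ⟨d, k, hd, rfl⟩ ⟨e, l, he, rfl⟩
    exact ⟨_, _, fun i => μ.mul_mem (hd i) (he _), monoGL_mul d e k l⟩
  one_mem' := ⟨_, _, fun _ => μ.one_mem, monoGL_one.symm⟩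
  inv_mem' := by
    rintro _ ⟨d, k, hd, rfl⟩
    exact ⟨_, _, fun i => μ.inv_mem (hd _), monoGL_inv d k⟩

/-- the diagonal subgroup -/
def DD' : Subgroup (GL (Fin p) F) where
  carrier := {g | ∃ (d : Fin p → Fˣ), (∀ i, d i ∈ μ) ∧ g = monoGL d 0}
  mul_mem' := by
    rintro _ _ ⟨d, hd, rfl⟩ ⟨e, he, rfl⟩
    refine ⟨_, fun i => μ.mul_mem (hd i) (he (i + 0)), ?_⟩
    rw [monoGL_mul, add_zero]
  one_mem' := ⟨_, fun _ => μ.one_mem, monoGL_one.symm⟩
  inv_mem' := by
    rintro _ ⟨d, hd, rfl⟩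
    refine ⟨_, fun i => μ.inv_mem (hd (i - 0)), ?_⟩
    rw [monoGL_inv, neg_zero]

theorem mem_QQ {g : GL (Fin p) F} :
    g ∈ QQ (p := p) μ ↔ ∃ (d : Fin p → Fˣ) (k : Fin p), (∀ i, d i ∈ μ) ∧ g = monoGL d k := Iff.rfl

theorem mem_DD' {g : GL (Fin p) F} :
    g ∈ DD' (p := p) μ ↔ ∃ (d : Fin p → Fˣ), (∀ i, d i ∈ μ) ∧ g = monoGL d 0 := Iff.rfl

theorem DD'_le_QQ : DD' (p := p) μ ≤ QQ μ := by
  rintro _ ⟨d, hd, rfl⟩
  exact ⟨d, 0, hd, rfl⟩

/-- the shift exponent of an element of `Q` -/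
noncomputable def kapFun (g : ↥(QQ (p := p) μ)) : Fin p := (Classical.choose_spec g.2).choose

theorem kapFun_eq (g : ↥(QQ (p := p) μ)) (d : Fin p → Fˣ) (k : Fin p) (h : g.1 = monoGL d k) :
    kapFun μ g = k := by
  have h1 := (Classical.choose_spec (Classical.choose_spec g.2)).2
  exact (monoGL_inj (h.symm.trans h1)).2.symm

/-- the homomorphism `Q → C_p` -/
noncomputable def kap : ↥(QQ (p := p) μ) →* Multiplicative (Fin p) where
  toFun g := Multiplicative.ofAdd (kapFun μ g)
  map_one' := by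
    have := kapFun_eq μ (1 : ↥(QQ (p := p) μ)) _ 0 monoGL_one.symm
    rw [this]; rfl
  map_mul' g h := by
    obtain ⟨d, k, hd, hg⟩ := g.2
    obtain ⟨e, l, he, hh⟩ := h.2
    have h1 : (g * h).1 = monoGL (fun i => d i * e (i + k)) (k + l) := by
      rw [Subgroup.coe_mul, hg, hh, monoGL_mul]
    rw [kapFun_eq μ (g * h) _ _ h1, kapFun_eq μ g d k hg, kapFun_eq μ h e l hh]
    rfl

theorem kap_eq (g : ↥(QQ (p := p) μ)) (d : Fin p → Fˣ) (k : Fin p) (h : g.1 = monoGL d k) :
    kap μ g = Multiplicative.ofAdd k := by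
  show Multiplicative.ofAdd (kapFun μ g) = _
  rw [kapFun_eq μ g d k h]

theorem mem_ker_kap (g : ↥(QQ (p := p) μ)) : g ∈ (kap μ).ker ↔ g.1 ∈ DD' (p := p) μ := by
  rw [MonoidHom.mem_ker]
  obtain ⟨d, k, hd, hg⟩ := g.2
  rw [kap_eq μ g d k hg]
  constructor
  · intro h
    have hk : k = 0 := Multiplicative.ofAdd.injective h
    subst hk
    exact ⟨d, hd, hg⟩
  · rintro ⟨e, he, hg'⟩
    rw [hg] at hg'
    rw [(monoGL_inj hg').2]
    rfl

end group

section card

variable (μ : Subgroup Fˣ)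

theorem card_DD' [Finite F] : Nat.card ↥(DD' (p := p) μ) = Nat.card ↥μ ^ p := by
  have hbij : Function.Bijective (fun d : Fin p → ↥μ =>
      (⟨monoGL (fun i => ((d i : ↥μ) : Fˣ)) 0, ⟨_, fun i => (d i).2, rfl⟩⟩ : ↥(DD' (p := p) μ))) := by
    constructor
    · intro d e h
      have h1 := congrArg Subtype.val h
      simp only at h1
      have h3 := (monoGL_inj h1).1
      funext i
      exact Subtype.ext (congrFun h3 i)
    · rintro ⟨g, d, hd, rfl⟩
      exact ⟨fun i => ⟨d i, hd i⟩, rfl⟩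
  rw [← Nat.card_congr (Equiv.ofBijective _ hbij), Nat.card_pi, Finset.prod_const,
    Finset.card_univ, Fintype.card_fin]

theorem card_QQ [Finite F] : Nat.card ↥(QQ (p := p) μ) = Nat.card ↥μ ^ p * p := by
  have hbij : Function.Bijective (fun dk : (Fin p → ↥μ) × Fin p =>
      (⟨monoGL (fun i => ((dk.1 i : ↥μ) : Fˣ)) dk.2, ⟨_, _, fun i => (dk.1 i).2, rfl⟩⟩ :
        ↥(QQ (p := p) μ))) := by
    constructor
    · rintro ⟨d, k⟩ ⟨e, l⟩ h
      have h1 := congrArg Subtype.val h
      simp only at h1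
      obtain ⟨h3, h4⟩ := monoGL_inj h1
      refine Prod.ext ?_ h4
      funext i
      exact Subtype.ext (congrFun h3 i)
    · rintro ⟨g, d, k, hd, rfl⟩
      exact ⟨(fun i => ⟨d i, hd i⟩, k), rfl⟩
  rw [← Nat.card_congr (Equiv.ofBijective _ hbij), Nat.card_prod, Nat.card_pi, Finset.prod_const,
    Finset.card_univ, Fintype.card_fin, Nat.card_eq_fintype_card (α := Fin p), Fintype.card_fin]

end card

end Cfsg.Agent.Lib.H11.RedSyl
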