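import Mathlib

/-!
# Redundant Sylow subgroups of `GL_p(F)` (part 2): the `p`-part of `|GL_p(F)|`
-/

set_option autoImplicit false
set_option linter.unusedSectionVars false

namespace Cfsg.Agent.Lib.H11.RedSyl

open Matrix
open scoped MatrixGroups

variable {F : Type*} [Field F] [Fintype F] {p : ℕ} [Fact p.Prime]

theorem padicVal_term (hp : p ≠ 2) (h1 : p ∣ Fintype.card F - 1) (h2 : ¬ p ^ 2 ∣ Fintype.card F - 1)
    (i : ℕ) (hi : i < p) :
    padicValNat p (Fintype.card F ^ p - Fintype.card F ^ i) = if i = 0 then 2 else 1 := by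
  set q := Fintype.card F with hq
  have hpp : p.Prime := Fact.out
  have hq1 : 1 < q := Fintype.one_lt_card
  have hodd : Odd p := hpp.odd_of_ne_two hp
  have hq10 : q - 1 ≠ 0 := by omega
  have hpq : ¬ p ∣ q := by
    intro h
    have h3 : p ∣ q - (q - 1) := Nat.dvd_sub h h1
    have h4 : q - (q - 1) = 1 := by omega
    rw [h4] at h3
    exact hpp.one_lt.ne' (Nat.dvd_one.1 h3)
  have hv1 : padicValNat p (q - 1) = 1 := by
    have h3 : 1 ≤ padicValNat p (q - 1) := by
      rw [← padicValNat_dvd_iff_le hq10, pow_one]; exact h1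
    have h4 : ¬ 2 ≤ padicValNat p (q - 1) := by
      rw [← padicValNat_dvd_iff_le hq10]; exact h2
    omega
  have hsplit : q ^ p - q ^ i = q ^ i * (q ^ (p - i) - 1 ^ (p - i)) := by
    rw [one_pow, Nat.mul_sub, mul_one, ← pow_add]
    congr 2
    omega
  have hpi : p - i ≠ 0 := by omega
  have hne1 : q ^ i ≠ 0 := pow_ne_zero _ (by omega)
  have hne2 : q ^ (p - i) - 1 ^ (p - i) ≠ 0 := by
    rw [one_pow]
    have : 1 < q ^ (p - i) := Nat.one_lt_pow hpi hq1
    omega
  rw [hsplit, padicValNat.mul hne1 hne2, padicValNat.pow q i,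
    padicValNat.eq_zero_of_not_dvd hpq, mul_zero, zero_add,
    padicValNat.pow_sub_pow hodd hq1 h1 hpq hpi, hv1]
  by_cases h0 : i = 0
  · subst h0
    rw [if_pos rfl, Nat.sub_zero, padicValNat_self]
  · rw [if_neg h0, padicValNat.eq_zero_of_not_dvd, add_zero]
    intro hdvd
    have := Nat.le_of_dvd (by omega) hdvd
    omega

theorem factorization_card_GL (hp : p ≠ 2) (h1 : p ∣ Fintype.card F - 1)
    (h2 : ¬ p ^ 2 ∣ Fintype.card F - 1) :
    (Nat.card (GL (Fin p) F)).factorization p = p + 1 := by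
  have hpp : p.Prime := Fact.out
  have hq1 : 1 < Fintype.card F := Fintype.one_lt_card
  rw [Matrix.card_GL_field, Nat.factorization_prod, Finsupp.finsetSum_apply]
  · have h3 : ∀ i : Fin p, (Fintype.card F ^ p - Fintype.card F ^ (i : ℕ)).factorization p =
        if (i : ℕ) = 0 then 2 else 1 := by
      intro i
      rw [Nat.factorization_def _ hpp]
      exact padicVal_term hp h1 h2 i i.2
    rw [Finset.sum_congr rfl (fun i _ => h3 i), Fin.sum_univ_eq_sum_range
      (fun i => if i = 0 then 2 else 1) p]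
    have hp0 : p ≠ 0 := hpp.ne_zero
    obtain ⟨k, rfl⟩ := Nat.exists_eq_succ_of_ne_zero hp0
    rw [Finset.sum_range_succ']
    simp
  · intro i _
    have : Fintype.card F ^ (i : ℕ) < Fintype.card F ^ p :=
      Nat.pow_lt_pow_right hq1 i.2
    omega

end Cfsg.Agent.Lib.H11.RedSyl
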