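import Mathlib
import Cfsg.Agent.Lib.H11.RedSyl1

/-!
# Redundant Sylow subgroups of `GL_p(F)` (part 3): group-theoretic criteria and
basic computations with monomial matrices
-/

set_option autoImplicit false
set_option linter.unusedSectionVars false

namespace Cfsg.Agent.Lib.H11.RedSyl

open Matrix
open scoped MatrixGroups

section general

variable {G : Type*} [Group G] {p : ℕ} [Fact p.Prime]

/-- criterion (P): if `g x g⁻¹ ∈ Q` and `g` does not normalise `Q`, then `x` lies in a Sylow
subgroup other than `Q` -/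
theorem exists_sylow_of_conj (Q : Sylow p G) (g x y : G) (hx : g * x * g⁻¹ ∈ Q)
    (hy : y ∈ Q) (hy' : g * y * g⁻¹ ∉ Q) : ∃ P : Sylow p G, P ≠ Q ∧ x ∈ P := by
  refine ⟨g⁻¹ • Q, ?_, ?_⟩
  · intro h
    rw [Sylow.smul_eq_iff_mem_normalizer] at h
    have h2 : g ∈ Subgroup.normalizer ((Q : Subgroup G) : Set G) := by
      have := (Subgroup.normalizer ((Q : Subgroup G) : Set G)).inv_mem h
      rwa [inv_inv] at this
    rw [Subgroup.mem_normalizer_iff] at h2
    exact hy' ((h2 y).1 hy)
  · show x ∈ ((g⁻¹ • Q : Sylow p G) : Subgroup G)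
    rw [Sylow.coe_subgroup_smul, Subgroup.mem_pointwise_smul_iff_inv_smul_mem, map_inv, inv_inv,
      MulAut.smul_def, MulAut.conj_apply]
    exact hx

/-- criterion (K): if `h` is a `p`-element commuting with `x ∈ Q` and `h ∉ Q`, then `x` lies in a
Sylow subgroup other than `Q` -/
theorem exists_sylow_of_commute (Q : Sylow p G) (x h : G) (hx : x ∈ Q) (hh : h ^ p = 1)
    (hc : Commute x h) (hQ : h ∉ Q) : ∃ P : Sylow p G, P ≠ Q ∧ x ∈ P := by
  have h1 : IsPGroup p ↥(Subgroup.zpowers x) :=
    Q.isPGroup'.to_le ((Subgroup.zpowers_le).2 hx)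
  have h2 : IsPGroup p ↥(Subgroup.zpowers h) := by
    by_cases h1 : h = 1
    · apply IsPGroup.of_card (n := 0)
      rw [Nat.card_zpowers, h1, orderOf_one, pow_zero]
    · apply IsPGroup.of_card (n := 1)
      rw [Nat.card_zpowers, pow_one, orderOf_eq_prime hh h1]
  have h3 : Subgroup.zpowers x ≤ Subgroup.normalizer ((Subgroup.zpowers h : Subgroup G) : Set G) := by
    refine le_trans ?_ (Subgroup.centralizer_le_normalizer _)
    rw [Subgroup.zpowers_le, Subgroup.mem_centralizer_iff]
    rintro _ ⟨n, rfl⟩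
    exact ((hc.zpow_right n).eq).symm
  obtain ⟨P, hP⟩ := (h1.to_sup_of_normal_right' h2 h3).exists_le_sylow
  refine ⟨P, ?_, hP (Subgroup.mem_sup_left (Subgroup.mem_zpowers x))⟩
  intro hPQ
  apply hQ
  rw [← hPQ]
  exact hP (Subgroup.mem_sup_right (Subgroup.mem_zpowers h))

end general

variable {F : Type*} [Field F] {p : ℕ} [NeZero p]

theorem mul_mono_apply (M : Matrix (Fin p) (Fin p) F) (e : Fin p → F) (l : Fin p) (a b : Fin p) :
    (M * mono e l) a b = M a (b - l) * e (b - l) := by
  rw [Matrix.mul_apply, Finset.sum_eq_single (b - l)]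
  · rw [mono_apply, if_pos (by rw [sub_add_cancel])]
  · intro c _ hc
    rw [mono_apply, if_neg, mul_zero]
    intro h
    apply hc
    rw [h, add_sub_cancel_right]
  · intro h
    exact absurd (Finset.mem_univ _) h

theorem mono_mul_apply (M : Matrix (Fin p) (Fin p) F) (e : Fin p → F) (l : Fin p) (a b : Fin p) :
    (mono e l * M) a b = e a * M (a + l) b := by
  rw [Matrix.mul_apply, Finset.sum_eq_single (a + l)]
  · rw [mono_apply, if_pos rfl]
  · intro c _ hc
    rw [mono_apply, if_neg hc, zero_mul]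
  · intro h
    exact absurd (Finset.mem_univ _) h

/-- a monomial matrix has a single nonzero entry in each row -/
theorem mono_apply_ne_zero {e : Fin p → F} {l a b : Fin p} (h : mono e l a b ≠ 0) : b = a + l := by
  by_contra hne
  rw [mono_apply, if_neg hne] at h
  exact h rfl

theorem mono_const_zero (c : F) : mono (fun _ : Fin p => c) 0 = c • (1 : Matrix (Fin p) (Fin p) F) := by
  ext a b
  rw [mono_apply, Matrix.smul_apply, Matrix.one_apply, add_zero, smul_eq_mul]
  by_cases h : a = b
  · rw [if_pos h.symm, if_pos h, mul_one]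
  · rw [if_neg (fun h' => h h'.symm), if_neg h, mul_zero]

section prime

variable [Fact p.Prime]

/-- a function on `Fin p` invariant under a nonzero shift is constant -/
theorem const_of_shift {α : Type*} (f : Fin p → α) (k : Fin p) (hk : k ≠ 0)
    (h : ∀ a, f (a + k) = f a) (a b : Fin p) : f a = f b := by
  have h1 : ∀ (n : ℕ) (a : Fin p), f (a + n • k) = f a := by
    intro n
    induction n with
    | zero => intro a; rw [zero_nsmul, add_zero]
    | succ n ih =>
      intro a
      rw [succ_nsmul, ← add_assoc, h, ih]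
  have hcard : Nat.card (Fin p) = p := by
    rw [Nat.card_eq_fintype_card, Fintype.card_fin]
  obtain ⟨n, hn⟩ := mem_multiples_of_prime_card hcard hk (g' := b - a)
  have h2 := h1 n a
  simp only at hn
  rw [hn, add_sub_cancel] at h2
  exact h2.symm

theorem nsmul_ne_zero_of_lt (k : Fin p) (hk : k ≠ 0) (i : ℕ) (hi0 : 0 < i) (hi : i < p) :
    i • k ≠ 0 := by
  have hcard : Nat.card (Fin p) = p := by
    rw [Nat.card_eq_fintype_card, Fintype.card_fin]
  have h1 : p • k = 0 := by
    have := card_nsmul_eq_zero' (x := k)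
    rwa [hcard] at this
  have h2 : addOrderOf k = p := addOrderOf_eq_prime h1 hk
  intro h
  rw [← addOrderOf_dvd_iff_nsmul_eq_zero, h2] at h
  exact absurd (Nat.le_of_dvd hi0 h) (by omega)

theorem add_self_ne_zero (hp2 : p ≠ 2) (k : Fin p) (hk : k ≠ 0) : k + k ≠ 0 := by
  have hpp : p.Prime := Fact.out
  have h := nsmul_ne_zero_of_lt k hk 2 (by omega) (by have := hpp.two_le; omega)
  rwa [two_nsmul] at h

end prime

end Cfsg.Agent.Lib.H11.RedSyl
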