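import Mathlib
import Cfsg.Agent.Lib.H11.RedSyl3

/-!
# Redundant Sylow subgroups of `GL_p(F)` (part 4): diagonal elements
-/

set_option autoImplicit false
set_option linter.unusedSectionVars false

namespace Cfsg.Agent.Lib.H11.RedSyl

open Matrix
open scoped MatrixGroups

variable {F : Type*} [Field F] {p : ℕ} [Fact p.Prime]

/-- criterion (P) for the monomial Sylow subgroup -/
theorem exists_sylow_of_matrix (μ : Subgroup Fˣ) (Q : Sylow p (GL (Fin p) F))
    (hQ : (Q : Subgroup (GL (Fin p) F)) = QQ μ)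
    (g x x' y : GL (Fin p) F) (hx' : x' ∈ QQ (p := p) μ) (hgx : g * x = x' * g)
    (hy : y ∈ QQ (p := p) μ)
    (hy' : ∀ (e' : Fin p → Fˣ) (k' : Fin p), (∀ i, e' i ∈ μ) → g * y ≠ monoGL e' k' * g) :
    ∃ P : Sylow p (GL (Fin p) F), P ≠ Q ∧ x ∈ P := by
  have hmem : ∀ z, z ∈ Q ↔ z ∈ QQ (p := p) μ := by
    intro z
    rw [← hQ]
    exact Iff.rfl
  refine exists_sylow_of_conj Q g x y ?_ ((hmem y).2 hy) ?_
  · rw [hgx, mul_assoc, mul_inv_cancel, mul_one]
    exact (hmem _).2 hx'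
  · intro h
    obtain ⟨e', k', he', h1⟩ := (hmem _).1 h
    apply hy' e' k' he'
    rw [← h1, mul_assoc, mul_assoc, inv_mul_cancel, mul_one]

theorem entry_eq (g : GL (Fin p) F) (e e' : Fin p → Fˣ) (k' : Fin p)
    (h : g * monoGL e 0 = monoGL e' k' * g) (a b : Fin p) :
    g.1 a b * (e b : F) = (e' a : F) * g.1 (a + k') b := by
  have h1 := congrArg (fun z : GL (Fin p) F => (z : Matrix (Fin p) (Fin p) F) a b) h
  simp only [Units.val_mul, monoGL_val] at h1
  rw [mul_mono_apply, mono_mul_apply, sub_zero] at h1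
  exact h1

/-- the test element `diag(ζ, 1, …, 1)` (with `ζ` in position `i`) -/
noncomputable def testD (ζ : Fˣ) (i : Fin p) : Fin p → Fˣ := Function.update (fun _ => 1) i ζ

theorem testD_self (ζ : Fˣ) (i : Fin p) : testD ζ i i = ζ := by
  unfold testD
  rw [Function.update_self]

theorem testD_ne (ζ : Fˣ) {i j : Fin p} (h : j ≠ i) : testD ζ i j = 1 := by
  unfold testD
  rw [Function.update_of_ne h]

theorem testD_mem (μ : Subgroup Fˣ) (ζ : Fˣ) (hζ : ζ ∈ μ) (i j : Fin p) : testD ζ i j ∈ μ := by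
  by_cases h : j = i
  · rw [h, testD_self]; exact hζ
  · rw [testD_ne ζ h]; exact μ.one_mem

theorem testD_mem_QQ (μ : Subgroup Fˣ) (ζ : Fˣ) (hζ : ζ ∈ μ) (i : Fin p) :
    monoGL (testD ζ i) 0 ∈ QQ (p := p) μ :=
  ⟨_, _, testD_mem μ ζ hζ i, rfl⟩

/-! ### Case 1: a diagonal element with a repeated entry -/

theorem transvection_ne_zero {i j a b : Fin p} (h : transvection i j (1 : F) a b ≠ 0) :
    a = b ∨ (a = i ∧ b = j) := by
  by_contra hcon
  rw [not_or] at hcon
  apply h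
  rw [transvection, Matrix.add_apply, Matrix.one_apply, if_neg hcon.1, Matrix.single_apply,
    if_neg (fun h' => hcon.2 ⟨h'.1.symm, h'.2.symm⟩), add_zero]

theorem transvection_diag {i j : Fin p} (hij : i ≠ j) (a : Fin p) :
    transvection i j (1 : F) a a = 1 := by
  rw [transvection, Matrix.add_apply, Matrix.one_apply, if_pos rfl, Matrix.single_apply,
    if_neg (fun h' => hij (h'.1.trans h'.2.symm)), add_zero]

theorem transvection_off {i j : Fin p} (hij : i ≠ j) :
    transvection i j (1 : F) i j = 1 := by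
  rw [transvection, Matrix.add_apply, Matrix.one_apply, if_neg hij, Matrix.single_apply,
    if_pos ⟨rfl, rfl⟩, zero_add]

theorem case_diag_eq (μ : Subgroup Fˣ) (ζ : Fˣ) (hζ : ζ ∈ μ) (hζ1 : ζ ≠ 1)
    (Q : Sylow p (GL (Fin p) F)) (hQ : (Q : Subgroup (GL (Fin p) F)) = QQ μ)
    (d : Fin p → Fˣ) (hd : ∀ i, d i ∈ μ) (i j : Fin p) (hij : i ≠ j) (hdij : d i = d j) :
    ∃ P : Sylow p (GL (Fin p) F), P ≠ Q ∧ monoGL d 0 ∈ P := by
  have hdet : (transvection i j (1 : F)).det ≠ 0 := by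
    rw [det_transvection_of_ne i j hij]; exact one_ne_zero
  obtain ⟨g, hg⟩ : ∃ g : GL (Fin p) F, g.1 = transvection i j (1 : F) :=
    ⟨GeneralLinearGroup.mkOfDetNeZero _ hdet, rfl⟩
  have hdQ : monoGL d 0 ∈ QQ (p := p) μ := ⟨d, 0, hd, rfl⟩
  refine exists_sylow_of_matrix μ Q hQ g (monoGL d 0) (monoGL d 0) (monoGL (testD ζ i) 0) hdQ ?_
    (testD_mem_QQ μ ζ hζ i) ?_
  · apply Units.ext
    ext a b
    rw [Units.val_mul, Units.val_mul, monoGL_val, mul_mono_apply, mono_mul_apply, sub_zero,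
      add_zero, hg]
    by_cases hT : transvection i j (1 : F) a b = 0
    · rw [hT, zero_mul, mul_zero]
    · rcases transvection_ne_zero hT with h | ⟨h1, h2⟩
      · rw [h, mul_comm]
      · rw [h1, h2, hdij, mul_comm]
  · intro e' k' _ h
    have hE := entry_eq g _ e' k' h
    rw [hg] at hE
    have hk' : k' = 0 := by
      by_contra hk'
      have h1 := hE i i
      have h2 : transvection i j (1 : F) (i + k') i = 0 := by
        by_contra hT
        rcases transvection_ne_zero hT with h | ⟨h3, _⟩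
        · exact hk' (add_eq_left.1 h)
        · exact hk' (add_eq_left.1 h3)
      rw [h2, mul_zero, transvection_diag hij, one_mul] at h1
      exact (testD ζ i i).ne_zero h1
    subst hk'
    have h1 := hE i i
    have h2 := hE i j
    rw [add_zero, transvection_diag hij, one_mul, mul_one, testD_self] at h1
    rw [add_zero, transvection_off hij, one_mul, mul_one, testD_ne ζ hij.symm] at h2
    apply hζ1
    apply Units.ext
    rw [h1, ← h2]

/-! ### Case 2: a diagonal element with distinct entries -/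

theorem fin_val_add_one (a : Fin p) : ((a + 1 : Fin p) : ℕ) = ((a : ℕ) + 1) % p := by
  have hpp : p.Prime := Fact.out
  rw [Fin.val_add, Fin.val_one', Nat.add_mod_mod]

theorem case_diag_inj (hp2 : p ≠ 2) (μ : Subgroup Fˣ) (hμ : ∀ a ∈ μ, a ^ p = 1)
    (ζ : Fˣ) (hζ : ζ ∈ μ) (hζ1 : ζ ≠ 1)
    (Q : Sylow p (GL (Fin p) F)) (hQ : (Q : Subgroup (GL (Fin p) F)) = QQ μ)
    (d : Fin p → Fˣ) (hd : ∀ i, d i ∈ μ) (hinj : Function.Injective d) :
    ∃ P : Sylow p (GL (Fin p) F), P ≠ Q ∧ monoGL d 0 ∈ P := by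
  have hpp : p.Prime := Fact.out
  have hp3 : 3 ≤ p := by
    have := hpp.two_le
    omega
  have hinj' : Function.Injective (fun j => ((d j : Fˣ) : F)) := by
    intro a b hab
    exact hinj (Units.ext hab)
  have hdet : ((vandermonde (fun j => ((d j : Fˣ) : F)))ᵀ).det ≠ 0 := by
    rw [det_transpose]
    exact det_vandermonde_ne_zero_iff.2 hinj'
  obtain ⟨g, hg⟩ : ∃ g : GL (Fin p) F, g.1 = (vandermonde (fun j => ((d j : Fˣ) : F)))ᵀ :=
    ⟨GeneralLinearGroup.mkOfDetNeZero _ hdet, rfl⟩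
  have hgab : ∀ a b : Fin p, g.1 a b = ((d b : Fˣ) : F) ^ (a : ℕ) := by
    intro a b
    rw [hg, transpose_apply, vandermonde_apply]
  have hdp : ∀ b : Fin p, ((d b : Fˣ) : F) ^ p = 1 := by
    intro b
    rw [← Units.val_pow_eq_pow_val, hμ _ (hd b), Units.val_one]
  have hdQ : monoGL d 0 ∈ QQ (p := p) μ := ⟨d, 0, hd, rfl⟩
  have hSQ : monoGL (fun _ : Fin p => (1 : Fˣ)) 1 ∈ QQ (p := p) μ :=
    ⟨_, _, fun _ => μ.one_mem, rfl⟩
  refine exists_sylow_of_matrix μ Q hQ g (monoGL d 0) (monoGL (fun _ => 1) 1)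
    (monoGL (testD ζ 0) 0) hSQ ?_ (testD_mem_QQ μ ζ hζ 0) ?_
  · apply Units.ext
    ext a b
    rw [Units.val_mul, Units.val_mul, monoGL_val, monoGL_val, mul_mono_apply, mono_mul_apply,
      sub_zero, hgab, hgab, Units.val_one, one_mul, ← pow_succ, fin_val_add_one,
      ← pow_eq_pow_mod _ (hdp b)]
  · intro e' k' _ h
    have hE := entry_eq g _ e' k' h
    have hE0 : ∀ b : Fin p, testD ζ 0 b = e' 0 * d b ^ (k' : ℕ) := by
      intro b
      have h1 := hE 0 b
      rw [hgab, hgab, zero_add, Fin.val_zero, pow_zero, one_mul] at h1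
      apply Units.ext
      rw [h1, Units.val_mul, Units.val_pow_eq_pow_val]
    -- two further indices
    have h1p : (1 : ℕ) < p := by omega
    have h2p : (2 : ℕ) < p := by omega
    have hj1 : (⟨1, h1p⟩ : Fin p) ≠ 0 := by
      intro h'
      have := congrArg Fin.val h'
      rw [Fin.val_zero] at this
      exact absurd this (by norm_num)
    have hj2 : (⟨2, h2p⟩ : Fin p) ≠ 0 := by
      intro h'
      have := congrArg Fin.val h'
      rw [Fin.val_zero] at this
      exact absurd this (by norm_num)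
    have hj12 : (⟨1, h1p⟩ : Fin p) ≠ ⟨2, h2p⟩ := by
      intro h'
      have := congrArg Fin.val h'
      exact absurd this (by norm_num)
    have e1 := hE0 ⟨1, h1p⟩
    have e2 := hE0 ⟨2, h2p⟩
    rw [testD_ne ζ hj1] at e1
    rw [testD_ne ζ hj2] at e2
    have hr : (d ⟨1, h1p⟩ * (d ⟨2, h2p⟩)⁻¹) ^ (k' : ℕ) = 1 := by
      rw [mul_pow, inv_pow]
      have : d ⟨1, h1p⟩ ^ (k' : ℕ) = d ⟨2, h2p⟩ ^ (k' : ℕ) := by
        have h3 : e' 0 * d ⟨1, h1p⟩ ^ (k' : ℕ) = e' 0 * d ⟨2, h2p⟩ ^ (k' : ℕ) := by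
          rw [← e1, ← e2]
        exact mul_left_cancel h3
      rw [this, mul_inv_cancel]
    have hr1 : d ⟨1, h1p⟩ * (d ⟨2, h2p⟩)⁻¹ ≠ 1 := by
      intro h'
      apply hj12
      apply hinj
      rwa [mul_inv_eq_one] at h'
    have hrp : (d ⟨1, h1p⟩ * (d ⟨2, h2p⟩)⁻¹) ^ p = 1 :=
      hμ _ (μ.mul_mem (hd _) (μ.inv_mem (hd _)))
    have hord := orderOf_eq_prime hrp hr1
    have hdvd : p ∣ (k' : ℕ) := by
      have := orderOf_dvd_of_pow_eq_one hr
      rwa [hord] at this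
    have hk0 : (k' : ℕ) = 0 := Nat.eq_zero_of_dvd_of_lt hdvd k'.2
    have e0 := hE0 0
    rw [testD_self, hk0, pow_zero, mul_one] at e0
    rw [hk0, pow_zero, mul_one] at e1
    exact hζ1 (e0.trans e1.symm)

end Cfsg.Agent.Lib.H11.RedSyl
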