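import Mathlib
import Cfsg.Agent.Lib.H11.RedSyl4

/-!
# Redundant Sylow subgroups of `GL_p(F)` (part 5): non-diagonal elements
-/

set_option autoImplicit false
set_option linter.unusedSectionVars false

namespace Cfsg.Agent.Lib.H11.RedSyl

open Matrix
open scoped MatrixGroups

variable {F : Type*} [Field F] {p : ℕ} [Fact p.Prime]

/-- the `p`-th power of a non-diagonal element of `Q` is a scalar -/
theorem exists_pow_eq (μ : Subgroup Fˣ) (d : Fin p → Fˣ) (hd : ∀ i, d i ∈ μ) (k : Fin p)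
    (hk : k ≠ 0) : ∃ δ ∈ μ, (monoGL d k) ^ p = monoGL (fun _ => δ) 0 := by
  have hcard : Nat.card (Fin p) = p := by
    rw [Nat.card_eq_fintype_card, Fintype.card_fin]
  have hpk : p • k = 0 := by
    have := card_nsmul_eq_zero' (x := k)
    rwa [hcard] at this
  have hxQ : monoGL d k ∈ QQ (p := p) μ := ⟨d, k, hd, rfl⟩
  have h1 : kap μ (⟨monoGL d k, hxQ⟩ ^ p) = 1 := by
    rw [map_pow, kap_eq μ _ d k rfl, ← ofAdd_nsmul, hpk]
    rfl
  have h2 : ((⟨monoGL d k, hxQ⟩ : ↥(QQ (p := p) μ)) ^ p).1 ∈ DD' (p := p) μ := by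
    rw [← mem_ker_kap, MonoidHom.mem_ker]
    exact h1
  rw [Subgroup.coe_pow] at h2
  obtain ⟨e, he, h3⟩ := h2
  simp only at h3
  have h4 : monoGL d k * monoGL e 0 = monoGL e 0 * monoGL d k := by
    rw [← h3, ← pow_succ', ← pow_succ]
  rw [monoGL_mul, monoGL_mul] at h4
  have h5 := (monoGL_inj h4).1
  have h6 : ∀ a, e (a + k) = e a := by
    intro a
    have := congrFun h5 a
    simp only [add_zero] at this
    rw [mul_comm] at this
    exact mul_right_cancel this
  refine ⟨e 0, he 0, ?_⟩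
  rw [h3]
  congr 1
  funext a
  exact const_of_shift e k hk h6 a 0

/-- matrix form of `x ^ p = δ` -/
theorem mono_pow_eq (d : Fin p → Fˣ) (k : Fin p) (δ : Fˣ)
    (hδ : (monoGL d k) ^ p = monoGL (fun _ => δ) 0) :
    (mono (fun i => ((d i : Fˣ) : F)) k) ^ p = ((δ : Fˣ) : F) • (1 : Matrix (Fin p) (Fin p) F) := by
  have h1 := congrArg (fun z : GL (Fin p) F => (z : Matrix (Fin p) (Fin p) F)) hδ
  simp only [Units.val_pow_eq_pow_val, monoGL_val] at h1
  rw [h1, mono_const_zero]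

/-! ### Case 3: a non-diagonal element whose `p`-th power is not `1` -/

theorem one_add_mono_diag (d : Fin p → F) (k : Fin p) (hk : k ≠ 0) (a : Fin p) :
    (1 + mono d k) a a = 1 := by
  rw [Matrix.add_apply, Matrix.one_apply, if_pos rfl, mono_apply, if_neg, add_zero]
  intro h
  exact hk (left_eq_add.1 h)

theorem one_add_mono_shift (d : Fin p → F) (k : Fin p) (hk : k ≠ 0) (a : Fin p) :
    (1 + mono d k) a (a + k) = d a := by
  rw [Matrix.add_apply, Matrix.one_apply, if_neg, mono_apply, if_pos rfl, zero_add]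
  intro h
  exact hk (left_eq_add.1 h)

theorem one_add_mono_ne_zero {d : Fin p → F} {k a b : Fin p} (h : (1 + mono d k) a b ≠ 0) :
    b = a ∨ b = a + k := by
  by_contra hcon
  rw [not_or] at hcon
  apply h
  rw [Matrix.add_apply, Matrix.one_apply, if_neg (fun h' => hcon.1 h'.symm), mono_apply,
    if_neg hcon.2, add_zero]

theorem case_shift_ne (hp2 : p ≠ 2) (μ : Subgroup Fˣ) (hμ : ∀ a ∈ μ, a ^ p = 1)
    (ζ : Fˣ) (hζ : ζ ∈ μ) (hζ1 : ζ ≠ 1)
    (Q : Sylow p (GL (Fin p) F)) (hQ : (Q : Subgroup (GL (Fin p) F)) = QQ μ)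
    (d : Fin p → Fˣ) (hd : ∀ i, d i ∈ μ) (k : Fin p) (hk : k ≠ 0) (δ : Fˣ) (hδμ : δ ∈ μ)
    (hδ : (monoGL d k) ^ p = monoGL (fun _ => δ) 0) (hδ1 : δ ≠ 1) :
    ∃ P : Sylow p (GL (Fin p) F), P ≠ Q ∧ monoGL d k ∈ P := by
  have hpp : p.Prime := Fact.out
  have hodd : Odd p := hpp.odd_of_ne_two hp2
  have hXp := mono_pow_eq d k δ hδ
  obtain ⟨X, hX⟩ : ∃ X : Matrix (Fin p) (Fin p) F, X = mono (fun i => ((d i : Fˣ) : F)) k :=
    ⟨_, rfl⟩
  rw [← hX] at hXp
  -- `1 + δ ≠ 0`
  have h1δ : (1 : F) + ((δ : Fˣ) : F) ≠ 0 := by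
    intro h
    have h1 : ((δ : Fˣ) : F) = -1 := by
      rw [← sub_eq_zero, sub_neg_eq_add, add_comm]; exact h
    have h2 : ((δ : Fˣ) : F) ^ p = 1 := by
      rw [← Units.val_pow_eq_pow_val, hμ _ hδμ, Units.val_one]
    rw [h1, hodd.neg_one_pow] at h2
    apply hδ1
    apply Units.ext
    rw [h1, h2, Units.val_one]
  have hprod : (1 + X) * ∑ i ∈ Finset.range p, (-X) ^ i = (1 + ((δ : Fˣ) : F)) • (1 : Matrix (Fin p) (Fin p) F) := by
    have := mul_neg_geom_sum (-X) p
    rw [sub_neg_eq_add, hodd.neg_pow, sub_neg_eq_add, hXp] at this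
    rw [this, add_smul, one_smul]
  have hdet : (1 + X).det ≠ 0 := by
    have h1 := congrArg Matrix.det hprod
    rw [det_mul, det_smul, det_one, mul_one] at h1
    intro h0
    rw [h0, zero_mul] at h1
    exact pow_ne_zero _ h1δ h1.symm
  obtain ⟨g, hg⟩ : ∃ g : GL (Fin p) F, g.1 = 1 + X :=
    ⟨GeneralLinearGroup.mkOfDetNeZero _ hdet, rfl⟩
  have hdQ : monoGL d k ∈ QQ (p := p) μ := ⟨d, k, hd, rfl⟩
  refine exists_sylow_of_matrix μ Q hQ g (monoGL d k) (monoGL d k) (monoGL (testD ζ 0) 0) hdQ ?_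
    (testD_mem_QQ μ ζ hζ 0) ?_
  · apply Units.ext
    rw [Units.val_mul, Units.val_mul, monoGL_val, hg, ← hX, add_mul, mul_add, one_mul, mul_one]
  · intro e' k' _ h
    have hE := entry_eq g _ e' k' h
    rw [hg, hX] at hE
    by_cases hk' : k' = 0
    · subst hk'
      have h1 := hE 0 0
      have h2 := hE 0 (0 + k)
      rw [add_zero, one_add_mono_diag _ k hk, one_mul, mul_one, testD_self] at h1
      rw [add_zero, one_add_mono_shift _ k hk, zero_add, testD_ne ζ hk, Units.val_one, mul_one,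
        ← h1, mul_comm] at h2
      apply hζ1
      apply Units.ext
      rw [Units.val_one]
      have h3 : ((ζ : Fˣ) : F) * ((d 0 : Fˣ) : F) = 1 * ((d 0 : Fˣ) : F) := by
        rw [one_mul, mul_comm]; exact h2.symm
      exact mul_right_cancel₀ (d 0).ne_zero h3
    · have hkk : k' = k := by
        by_contra hne
        have h2 := hE 0 (0 + k)
        have h3 : (1 + mono (fun i => ((d i : Fˣ) : F)) k) (0 + k') (0 + k) = 0 := by
          by_contra hT
          rcases one_add_mono_ne_zero hT with h' | h'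
          · exact hne (add_left_cancel h').symm
          · rw [add_assoc] at h'
            have := add_left_cancel h'
            exact hk' (add_eq_right.1 this.symm)
        rw [h3, mul_zero, one_add_mono_shift _ k hk] at h2
        exact (mul_ne_zero (d 0).ne_zero (testD ζ 0 (0 + k)).ne_zero) h2
      subst hkk
      have h1 := hE 0 0
      have h3 : (1 + mono (fun i => ((d i : Fˣ) : F)) k') (0 + k') 0 = 0 := by
        by_contra hT
        rcases one_add_mono_ne_zero hT with h' | h'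
        · rw [zero_add] at h'
          exact hk h'.symm
        · rw [zero_add] at h'
          exact add_self_ne_zero hp2 k' hk h'.symm
      rw [h3, mul_zero, one_add_mono_diag _ k' hk, one_mul] at h1
      exact (testD ζ 0 0).ne_zero h1

/-! ### Case 4: a non-diagonal element of order `p` -/

/-- the norm element `∑_{i<p} X^i` -/
noncomputable def nrm (X : Matrix (Fin p) (Fin p) F) : Matrix (Fin p) (Fin p) F :=
  ∑ i ∈ Finset.range p, X ^ i

theorem nrm_mul (X : Matrix (Fin p) (Fin p) F) (hX : X ^ p = 1) : nrm X * X = nrm X := by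
  have := geom_sum_mul X p
  rw [hX, sub_self, mul_sub, mul_one, sub_eq_zero] at this
  exact this

theorem mul_nrm (X : Matrix (Fin p) (Fin p) F) (hX : X ^ p = 1) : X * nrm X = nrm X := by
  have := mul_geom_sum X p
  rw [hX, sub_self, sub_mul, one_mul, sub_eq_zero] at this
  exact this

theorem nrm_mul_pow (X : Matrix (Fin p) (Fin p) F) (hX : X ^ p = 1) (i : ℕ) :
    nrm X * X ^ i = nrm X := by
  induction i with
  | zero => rw [pow_zero, mul_one]
  | succ i ih => rw [pow_succ, ← mul_assoc, ih, nrm_mul X hX]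

theorem nrm_mul_nrm (X : Matrix (Fin p) (Fin p) F) (hX : X ^ p = 1) :
    nrm X * nrm X = (p : F) • nrm X := by
  have h1 : nrm X * nrm X = ∑ i ∈ Finset.range p, nrm X * X ^ i := by
    have : nrm X * nrm X = nrm X * ∑ i ∈ Finset.range p, X ^ i := rfl
    rw [this, Finset.mul_sum]
  rw [h1, Finset.sum_congr rfl (fun i _ => nrm_mul_pow X hX i), Finset.sum_const,
    Finset.card_range, Nat.cast_smul_eq_nsmul]

/-- the elements `1 + ((u - 1)/p) N` multiply like `u` -/
theorem idem_mul (N : Matrix (Fin p) (Fin p) F) (hN : N * N = (p : F) • N) (hpF : (p : F) ≠ 0)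
    (u v : F) :
    (1 + ((u - 1) / (p : F)) • N) * (1 + ((v - 1) / (p : F)) • N) =
      1 + ((u * v - 1) / (p : F)) • N := by
  simp only [add_mul, mul_add, one_mul, mul_one, Matrix.smul_mul, Matrix.mul_smul, hN, smul_smul]
  rw [add_assoc, ← add_smul, ← add_smul]
  congr 2
  field_simp
  ring

theorem idem_one (N : Matrix (Fin p) (Fin p) F) :
    (1 + (((1 : F) - 1) / (p : F)) • N) = 1 := by
  rw [sub_self, zero_div, zero_smul, add_zero]

theorem idem_pow (N : Matrix (Fin p) (Fin p) F) (hN : N * N = (p : F) • N) (hpF : (p : F) ≠ 0)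
    (u : F) (n : ℕ) :
    (1 + ((u - 1) / (p : F)) • N) ^ n = 1 + ((u ^ n - 1) / (p : F)) • N := by
  induction n with
  | zero => rw [pow_zero, pow_zero, idem_one]
  | succ n ih => rw [pow_succ, ih, idem_mul N hN hpF, ← pow_succ]

theorem pow_eq_mono (d : Fin p → F) (k : Fin p) (i : ℕ) :
    ∃ D : Fin p → F, (mono d k) ^ i = mono D (i • k) := by
  induction i with
  | zero => exact ⟨fun _ => 1, by rw [pow_zero, zero_nsmul, mono_one_zero]⟩
  | succ i ih =>
    obtain ⟨D, hD⟩ := ih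
    exact ⟨_, by rw [pow_succ, hD, mono_mul, succ_nsmul]⟩

theorem nrm_zero_zero (d : Fin p → F) (k : Fin p) (hk : k ≠ 0) : nrm (mono d k) 0 0 = 1 := by
  have hpp : p.Prime := Fact.out
  rw [nrm, Matrix.sum_apply, Finset.sum_eq_single 0]
  · rw [pow_zero, Matrix.one_apply, if_pos rfl]
  · intro i hi hi0
    obtain ⟨D, hD⟩ := pow_eq_mono d k i
    rw [hD, mono_apply, if_neg]
    rw [zero_add]
    exact (nsmul_ne_zero_of_lt k hk i (Nat.pos_of_ne_zero hi0) (Finset.mem_range.1 hi)).symm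
  · intro h
    exact absurd (Finset.mem_range.2 hpp.pos) h

theorem nrm_ne_zero (d : Fin p → Fˣ) (k : Fin p) (hk : k ≠ 0)
    (hX : (mono (fun i => ((d i : Fˣ) : F)) k) ^ p = 1) (a b : Fin p) :
    nrm (mono (fun i => ((d i : Fˣ) : F)) k) a b ≠ 0 := by
  obtain ⟨N, hN⟩ : ∃ N, N = nrm (mono (fun i => ((d i : Fˣ) : F)) k) := ⟨_, rfl⟩
  have h1 : N * mono (fun i => ((d i : Fˣ) : F)) k = N := by rw [hN]; exact nrm_mul _ hX
  have h2 : mono (fun i => ((d i : Fˣ) : F)) k * N = N := by rw [hN]; exact mul_nrm _ hX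
  have h3 : N 0 0 ≠ 0 := by
    rw [hN, nrm_zero_zero _ k hk]; exact one_ne_zero
  rw [← hN]
  have hcol : ∀ a b : Fin p, (N a (b + k) ≠ 0) = (N a b ≠ 0) := by
    intro a b
    have := congrFun (congrFun h1 a) (b + k)
    rw [mul_mono_apply, add_sub_cancel_right] at this
    rw [← this]
    apply propext
    constructor
    · intro h h0
      apply h
      rw [h0, zero_mul]
    · intro h
      exact mul_ne_zero h (d b).ne_zero
  have hrow : ∀ b a : Fin p, (N (a + k) b ≠ 0) = (N a b ≠ 0) := by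
    intro b a
    have := congrFun (congrFun h2 a) b
    rw [mono_mul_apply] at this
    rw [← this]
    apply propext
    constructor
    · intro h
      exact mul_ne_zero (d a).ne_zero h
    · intro h h0
      apply h
      rw [h0, mul_zero]
  have h4 : (N a b ≠ 0) = (N a 0 ≠ 0) := const_of_shift (fun b => N a b ≠ 0) k hk (hcol a) b 0
  have h5 : (N a 0 ≠ 0) = (N 0 0 ≠ 0) := const_of_shift (fun a => N a 0 ≠ 0) k hk (hrow 0) a 0
  rw [h4, h5]
  exact h3

theorem case_shift_one (hp2 : p ≠ 2) (μ : Subgroup Fˣ) (hμ : ∀ a ∈ μ, a ^ p = 1)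
    (ζ : Fˣ) (hζ : ζ ∈ μ) (hζ1 : ζ ≠ 1) (hpF : (p : F) ≠ 0)
    (Q : Sylow p (GL (Fin p) F)) (hQ : (Q : Subgroup (GL (Fin p) F)) = QQ μ)
    (d : Fin p → Fˣ) (hd : ∀ i, d i ∈ μ) (k : Fin p) (hk : k ≠ 0)
    (hδ : (monoGL d k) ^ p = 1) :
    ∃ P : Sylow p (GL (Fin p) F), P ≠ Q ∧ monoGL d k ∈ P := by
  have hpp : p.Prime := Fact.out
  have hp3 : 3 ≤ p := by
    have := hpp.two_le
    omega
  have hmem : ∀ z, z ∈ Q ↔ z ∈ QQ (p := p) μ := by
    intro z
    rw [← hQ]
    exact Iff.rfl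
  have hXp : (mono (fun i => ((d i : Fˣ) : F)) k) ^ p = 1 := by
    have h1 := congrArg (fun z : GL (Fin p) F => (z : Matrix (Fin p) (Fin p) F)) hδ
    simp only [Units.val_pow_eq_pow_val, monoGL_val, Units.val_one] at h1
    exact h1
  have hNne := nrm_ne_zero d k hk hXp
  obtain ⟨X, hX⟩ : ∃ X : Matrix (Fin p) (Fin p) F, X = mono (fun i => ((d i : Fˣ) : F)) k :=
    ⟨_, rfl⟩
  rw [← hX] at hXp hNne
  have hNN := nrm_mul_nrm X hXp
  have hζp : ((ζ : Fˣ) : F) ^ p = 1 := by
    rw [← Units.val_pow_eq_pow_val, hμ _ hζ, Units.val_one]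
  -- the element `h`
  obtain ⟨h, hh⟩ : ∃ h : GL (Fin p) F,
      h.1 = 1 + ((((ζ : Fˣ) : F) - 1) / (p : F)) • nrm X := by
    refine ⟨⟨1 + ((((ζ : Fˣ) : F) - 1) / (p : F)) • nrm X,
      1 + ((((ζ⁻¹ : Fˣ) : F) - 1) / (p : F)) • nrm X, ?_, ?_⟩, rfl⟩
    · rw [idem_mul _ hNN hpF, ← Units.val_mul, mul_inv_cancel, Units.val_one, idem_one]
    · rw [idem_mul _ hNN hpF, ← Units.val_mul, inv_mul_cancel, Units.val_one, idem_one]
  have hhp : h ^ p = 1 := by
    apply Units.ext
    rw [Units.val_pow_eq_pow_val, hh, idem_pow _ hNN hpF, hζp, idem_one, Units.val_one]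
  have hc : Commute (monoGL d k) h := by
    apply Units.ext
    rw [Units.val_mul, Units.val_mul, monoGL_val, hh, ← hX, mul_add, add_mul, mul_one, one_mul,
      Matrix.mul_smul, Matrix.smul_mul, mul_nrm X hXp, nrm_mul X hXp]
  have hcne : (((ζ : Fˣ) : F) - 1) / (p : F) ≠ 0 := by
    apply div_ne_zero _ hpF
    intro h0
    apply hζ1
    apply Units.ext
    rw [Units.val_one]
    exact sub_eq_zero.1 h0
  have hnot : h ∉ Q := by
    intro hin
    obtain ⟨e, l, _, hel⟩ := (hmem h).1 hin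
    have h1p : (1 : ℕ) < p := by omega
    have h2p : (2 : ℕ) < p := by omega
    have hj1 : (0 : Fin p) ≠ ⟨1, h1p⟩ := by
      intro h'
      have := congrArg Fin.val h'
      rw [Fin.val_zero] at this
      exact absurd this (by norm_num)
    have hj2 : (0 : Fin p) ≠ ⟨2, h2p⟩ := by
      intro h'
      have := congrArg Fin.val h'
      rw [Fin.val_zero] at this
      exact absurd this (by norm_num)
    have hj12 : (⟨1, h1p⟩ : Fin p) ≠ ⟨2, h2p⟩ := by
      intro h'
      have := congrArg Fin.val h'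
      exact absurd this (by norm_num)
    have hval : mono (fun i => ((e i : Fˣ) : F)) l =
        1 + ((((ζ : Fˣ) : F) - 1) / (p : F)) • nrm X := by
      rw [← hh, hel, monoGL_val]
    have hentry : ∀ j : Fin p, (0 : Fin p) ≠ j → mono (fun i => ((e i : Fˣ) : F)) l 0 j ≠ 0 := by
      intro j hj
      rw [hval, Matrix.add_apply, Matrix.one_apply, if_neg hj, zero_add, Matrix.smul_apply,
        smul_eq_mul]
      exact mul_ne_zero hcne (hNne 0 j)
    have e1 := mono_apply_ne_zero (hentry _ hj1)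
    have e2 := mono_apply_ne_zero (hentry _ hj2)
    exact hj12 (e1.trans e2.symm)
  exact exists_sylow_of_commute Q (monoGL d k) h ((hmem _).2 ⟨d, k, hd, rfl⟩) hhp hc hnot

end Cfsg.Agent.Lib.H11.RedSyl
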