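import Mathlib
import Cfsg.Agent.Lib.H11.RedSyl2
import Cfsg.Agent.Lib.H11.RedSyl5

/-!
# Redundant Sylow subgroups of `GL_p(F)` (part 6): assembly
-/

set_option autoImplicit false
set_option linter.unusedSectionVars false

namespace Cfsg.Agent.Lib.H11.RedSyl

open Matrix
open scoped MatrixGroups

variable {F : Type*} [Field F] {p : ℕ} [Fact p.Prime]

/-- every element of the monomial Sylow subgroup lies in another Sylow subgroup -/
theorem exists_other_sylow (hp2 : p ≠ 2) (μ : Subgroup Fˣ) (hμ : ∀ a ∈ μ, a ^ p = 1)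
    (ζ : Fˣ) (hζ : ζ ∈ μ) (hζ1 : ζ ≠ 1) (hpF : (p : F) ≠ 0)
    (Q : Sylow p (GL (Fin p) F)) (hQ : (Q : Subgroup (GL (Fin p) F)) = QQ μ)
    (x : GL (Fin p) F) (hx : x ∈ QQ (p := p) μ) :
    ∃ P : Sylow p (GL (Fin p) F), P ≠ Q ∧ x ∈ P := by
  obtain ⟨d, k, hd, rfl⟩ := hx
  by_cases hk : k = 0
  · subst hk
    by_cases hinj : Function.Injective d
    · exact case_diag_inj hp2 μ hμ ζ hζ hζ1 Q hQ d hd hinj
    · rw [Function.Injective] at hinj
      push Not at hinj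
      obtain ⟨i, j, hij, hne⟩ := hinj
      exact case_diag_eq μ ζ hζ hζ1 Q hQ d hd i j hne hij
  · obtain ⟨δ, hδμ, hδ⟩ := exists_pow_eq μ d hd k hk
    by_cases hδ1 : δ = 1
    · rw [hδ1, monoGL_one] at hδ
      exact case_shift_one hp2 μ hμ ζ hζ hζ1 hpF Q hQ d hd k hk hδ
    · exact case_shift_ne hp2 μ hμ ζ hζ hζ1 Q hQ d hd k hk δ hδμ hδ hδ1

/-- `GL_p(F)` has a redundant Sylow `p`-subgroup when `p ∥ q - 1`, `p` odd -/
theorem redundant_sylow [Fintype F] (hp : p ≠ 2) (h1 : p ∣ Fintype.card F - 1)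
    (h2 : ¬ p ^ 2 ∣ Fintype.card F - 1) :
    ∃ Q : Sylow p (GL (Fin p) F), ∀ x : GL (Fin p) F,
      (∃ k : ℕ, orderOf x = p ^ k) → ∃ P : Sylow p (GL (Fin p) F), P ≠ Q ∧ x ∈ P := by
  have hpp : p.Prime := Fact.out
  have hq1 : 1 < Fintype.card F := Fintype.one_lt_card
  -- an element of order `p`
  have hcardU : Nat.card Fˣ = Fintype.card F - 1 := by
    rw [Nat.card_units, Nat.card_eq_fintype_card]
  obtain ⟨ζ, hζ⟩ := exists_prime_orderOf_dvd_card' (G := Fˣ) p (by rw [hcardU]; exact h1)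
  have hζ1 : ζ ≠ 1 := by
    intro h
    rw [h, orderOf_one] at hζ
    exact hpp.one_lt.ne hζ
  have hμ : ∀ a ∈ Subgroup.zpowers ζ, a ^ p = 1 := by
    rintro _ ⟨n, rfl⟩
    rw [← zpow_natCast, ← _root_.zpow_mul, mul_comm, _root_.zpow_mul, zpow_natCast, ← hζ,
      pow_orderOf_eq_one, _root_.one_zpow]
  have hcardμ : Nat.card ↥(Subgroup.zpowers ζ) = p := by rw [Nat.card_zpowers, hζ]
  have hpF : (p : F) ≠ 0 := by
    intro h0
    obtain ⟨m, hm⟩ := h1
    have h3 : Fintype.card F = p * m + 1 := by omega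
    have h4 := FiniteField.cast_card_eq_zero F
    rw [h3, Nat.cast_add, Nat.cast_mul, h0, zero_mul, zero_add, Nat.cast_one] at h4
    exact one_ne_zero h4
  have hcardQ : Nat.card ↥(QQ (p := p) (Subgroup.zpowers ζ)) =
      p ^ (Nat.card (GL (Fin p) F)).factorization p := by
    rw [card_QQ, hcardμ, factorization_card_GL hp h1 h2, pow_succ]
  refine ⟨Sylow.ofCard _ hcardQ, ?_⟩
  intro x hx
  by_cases hxQ : x ∈ QQ (p := p) (Subgroup.zpowers ζ)
  · exact exists_other_sylow hp _ hμ ζ (Subgroup.mem_zpowers ζ) hζ1 hpF _ rfl x hxQ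
  · obtain ⟨k, hk⟩ := hx
    have h3 : IsPGroup p ↥(Subgroup.zpowers x) := by
      apply IsPGroup.of_card (n := k)
      rw [Nat.card_zpowers, hk]
    obtain ⟨P, hP⟩ := h3.exists_le_sylow
    refine ⟨P, ?_, hP (Subgroup.mem_zpowers x)⟩
    intro hPQ
    apply hxQ
    have : x ∈ P := hP (Subgroup.mem_zpowers x)
    rw [hPQ] at this
    exact this

end Cfsg.Agent.Lib.H11.RedSyl
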