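import Mathlib

set_option autoImplicit false

/-!
# Affine groups `V ⋊ GL(V)` and a criterion for the set of maximal element orders

Generic tools for S2515.
-/

namespace Cfsg.Agent.Lib.H11.ReeTrunc

/-- The affine group of a module: pairs (translation, linear automorphism). -/
@[ext] structure Aff (F V : Type*) [Semiring F] [AddCommGroup V] [Module F V] where
  /-- translation part -/
  t : V
  /-- linear part -/
  l : V ≃ₗ[F] V

namespace Aff

variable {F V : Type*} [Semiring F] [AddCommGroup V] [Module F V]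

instance : Mul (Aff F V) := ⟨fun a b => ⟨a.t + a.l b.t, a.l * b.l⟩⟩
instance : One (Aff F V) := ⟨⟨0, 1⟩⟩
instance : Inv (Aff F V) := ⟨fun a => ⟨-(a.l⁻¹ a.t), a.l⁻¹⟩⟩

@[simp] theorem mul_t (a b : Aff F V) : (a * b).t = a.t + a.l b.t := rfl
@[simp] theorem mul_l (a b : Aff F V) : (a * b).l = a.l * b.l := rfl
@[simp] theorem one_t : (1 : Aff F V).t = 0 := rfl
@[simp] theorem one_l : (1 : Aff F V).l = 1 := rfl
@[simp] theorem inv_t (a : Aff F V) : (a⁻¹).t = -(a.l⁻¹ a.t) := rfl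
@[simp] theorem inv_l (a : Aff F V) : (a⁻¹).l = a.l⁻¹ := rfl

instance : Group (Aff F V) where
  mul_assoc a b c := by
    ext
    · simp [LinearEquiv.mul_apply, add_assoc]
    · simp [mul_assoc]
  one_mul a := by
    ext
    · simp
    · simp
  mul_one a := by
    ext
    · simp
    · simp
  inv_mul_cancel a := by
    ext
    · simp
    · simp

/-- The projection to the linear part. -/
def linHom : Aff F V →* (V ≃ₗ[F] V) where
  toFun a := a.l
  map_one' := rfl
  map_mul' _ _ := rfl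

@[simp] theorem linHom_apply (a : Aff F V) : linHom a = a.l := rfl

/-- Partial geometric sums `Σ_{i<k} ℓ^i v`. -/
def gsum (ℓ : V ≃ₗ[F] V) (k : ℕ) (v : V) : V := ∑ i ∈ Finset.range k, (ℓ ^ i) v

theorem gsum_zero (ℓ : V ≃ₗ[F] V) (v : V) : gsum ℓ 0 v = 0 := by simp [gsum]

theorem gsum_succ (ℓ : V ≃ₗ[F] V) (k : ℕ) (v : V) :
    gsum ℓ (k + 1) v = gsum ℓ k v + (ℓ ^ k) v := by
  simp [gsum, Finset.sum_range_succ]

theorem pow_eq (a : Aff F V) (k : ℕ) : a ^ k = ⟨gsum a.l k a.t, a.l ^ k⟩ := by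
  induction k with
  | zero => simp [gsum_zero]; rfl
  | succ k ih =>
    rw [pow_succ, ih]
    ext
    · simp [gsum_succ]
    · simp [pow_succ]

theorem pow_t (a : Aff F V) (k : ℕ) : (a ^ k).t = gsum a.l k a.t := by rw [pow_eq]
theorem pow_l (a : Aff F V) (k : ℕ) : (a ^ k).l = a.l ^ k := by rw [pow_eq]

/-- Telescoping: `ℓ (S_k v) = S_k v + ℓ^k v - v`. -/
theorem apply_gsum (ℓ : V ≃ₗ[F] V) (k : ℕ) (v : V) :
    ℓ (gsum ℓ k v) = gsum ℓ k v + (ℓ ^ k) v - v := by
  induction k with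
  | zero => simp [gsum_zero]
  | succ k ih =>
    rw [gsum_succ, map_add, ih, pow_succ', LinearEquiv.mul_apply]
    abel

/-- If `ℓ` has no nonzero fixed vector and `ℓ^k = 1`, then all `k`-fold geometric sums vanish. -/
theorem gsum_eq_zero_of_fpf (ℓ : V ≃ₗ[F] V) (k : ℕ) (hk : ℓ ^ k = 1)
    (hfp : ∀ x : V, ℓ x = x → x = 0) (v : V) : gsum ℓ k v = 0 := by
  apply hfp
  rw [apply_gsum, hk]
  simp

theorem pow_eq_one_of_fpf (a : Aff F V) (k : ℕ) (hk : a.l ^ k = 1)
    (hfp : ∀ x : V, a.l x = x → x = 0) : a ^ k = 1 := by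
  rw [pow_eq]
  ext
  · simp [gsum_eq_zero_of_fpf a.l k hk hfp]
  · simp [hk]

/-- If `ℓ^k = 1` and `n • V = 0` then `a^(k*n) = 1`. -/
theorem pow_mul_eq_one (a : Aff F V) (k n : ℕ) (hk : a.l ^ k = 1) (hn : ∀ v : V, n • v = 0) :
    a ^ (k * n) = 1 := by
  rw [pow_mul]
  have h1 : a ^ k = ⟨gsum a.l k a.t, 1⟩ := by rw [pow_eq, hk]
  rw [h1, pow_eq]
  ext
  · simp only [one_t, gsum, one_pow, LinearEquiv.coe_one, id_eq, Finset.sum_const,
      Finset.card_range]
    exact hn _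
  · simp

/-- Translations. -/
def trans : Multiplicative V →* Aff F V where
  toFun v := ⟨Multiplicative.toAdd v, 1⟩
  map_one' := rfl
  map_mul' a b := by
    ext
    · simp
    · simp

theorem trans_injective : Function.Injective (trans : Multiplicative V →* Aff F V) := by
  intro a b h
  have := congrArg Aff.t h
  exact this

theorem range_trans_eq_ker : (trans : Multiplicative V →* Aff F V).range = (linHom).ker := by
  ext a
  constructor
  · rintro ⟨v, rfl⟩
    rfl
  · intro h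
    refine ⟨Multiplicative.ofAdd a.t, ?_⟩
    exact Aff.ext rfl (MonoidHom.mem_ker.mp h).symm

instance [Finite V] : Finite (V ≃ₗ[F] V) :=
  Finite.of_injective (fun e => (e : V → V)) DFunLike.coe_injective

instance [Finite V] : Finite (Aff F V) :=
  Finite.of_injective (fun a => (a.t, a.l)) (by
    intro a b h
    simp only [Prod.mk.injEq] at h
    exact Aff.ext h.1 h.2)

end Aff

/-- Criterion for the set of element orders maximal under divisibility. -/
theorem maximal_orders_eq {H : Type*} [Group H] (S : Set ℕ)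
    (hdiv : ∀ h : H, ∃ s ∈ S, h ^ s = 1)
    (hex : ∀ s ∈ S, ∃ h : H, orderOf h = s)
    (hanti : ∀ s ∈ S, ∀ s' ∈ S, s ∣ s' → s = s') :
    {n : ℕ | n ∈ Set.range (orderOf : H → ℕ) ∧
      ∀ m ∈ Set.range (orderOf : H → ℕ), n ∣ m → m = n} = S := by
  ext n
  constructor
  · rintro ⟨⟨h, rfl⟩, hmax⟩
    obtain ⟨s, hs, hpow⟩ := hdiv h
    have hd : orderOf h ∣ s := orderOf_dvd_of_pow_eq_one hpow
    obtain ⟨h', hh'⟩ := hex s hs
    have := hmax s ⟨h', hh'⟩ hd
    rw [← this]
    exact hs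
  · intro hn
    obtain ⟨h, hh⟩ := hex n hn
    refine ⟨⟨h, hh⟩, ?_⟩
    rintro m ⟨h', rfl⟩ hd
    obtain ⟨s, hs, hpow⟩ := hdiv h'
    have hd' : orderOf h' ∣ s := orderOf_dvd_of_pow_eq_one hpow
    have hns : n = s := hanti n hn s hs (hd.trans hd')
    subst hns
    exact Nat.dvd_antisymm hd' hd

end Cfsg.Agent.Lib.H11.ReeTrunc
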