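import Mathlib
import Cfsg.Agent.Lib.H11.ReeTrunc1

set_option autoImplicit false

/-!
# The module `N ⊗ N^(3)` of `SL₂(F)` in characteristic 3, realised on 2×2 matrices

`psi ε g : X ↦ ε • g X (g^(3))ᵀ`.  Fixed point lemma and kernel lemma.
-/

namespace Cfsg.Agent.Lib.H11.ReeTrunc

open Matrix

variable {F : Type*} [Field F] [CharP F 3]

local notation "SL2" => Matrix.SpecialLinearGroup (Fin 2) F
local notation "M2" => Matrix (Fin 2) (Fin 2) F

/-- Cayley–Hamilton for 2×2 matrices of determinant one. -/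
theorem ch2 {K : Type*} [CommRing K] (A : Matrix (Fin 2) (Fin 2) K) (hA : A.det = 1) :
    A * A = A.trace • A - 1 := by
  rw [Matrix.det_fin_two] at hA
  ext i j
  fin_cases i <;> fin_cases j <;>
    simp [Matrix.mul_apply, Fin.sum_univ_two, Matrix.trace_fin_two] <;>
    first | ring1 | linear_combination (-1 : K) * hA

/-- The twisted transpose `(g^(3))ᵀ`. -/
def tw (A : M2) : M2 := (A.map (frobenius F 3))ᵀ

theorem tw_apply (A : M2) (i j : Fin 2) : tw A i j = (A j i) ^ 3 := by
  simp [tw, frobenius_def]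

theorem tw_mul (A B : M2) : tw (A * B) = tw B * tw A := by
  unfold tw
  rw [Matrix.map_mul, Matrix.transpose_mul]

theorem tw_one : tw (1 : M2) = 1 := by
  unfold tw
  rw [Matrix.map_one _ (map_zero _) (map_one _), Matrix.transpose_one]

theorem tw_det (A : M2) : (tw A).det = A.det ^ 3 := by
  unfold tw
  rw [Matrix.det_transpose]
  have := (RingHom.map_det (frobenius F 3) A).symm
  rw [RingHom.mapMatrix_apply] at this
  rw [this]
  rfl

theorem tw_trace (A : M2) : (tw A).trace = A.trace ^ 3 := by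
  simp only [Matrix.trace_fin_two, tw_apply]
  have : Fact (Nat.Prime 3) := ⟨Nat.prime_three⟩
  exact (add_pow_char _ _ 3).symm

/-- sign as a field element -/
def sg (ε : ℤˣ) : F := ((ε : ℤ) : F)

theorem sg_one : sg (1 : ℤˣ) = (1 : F) := by simp [sg]
theorem sg_neg_one : sg (-1 : ℤˣ) = (-1 : F) := by simp [sg]
theorem sg_mul (a b : ℤˣ) : sg (a * b) = (sg a * sg b : F) := by simp [sg]
theorem sg_mul_self (a : ℤˣ) : (sg a * sg a : F) = 1 := by
  rw [← sg_mul, Int.units_mul_self, sg_one]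

theorem two_ne_zero' : (2 : F) ≠ 0 := by
  intro h
  have h3 : (3 : F) = 0 := by
    have := CharP.cast_eq_zero F 3
    exact_mod_cast this
  have : (1 : F) = 0 := by linear_combination h3 - h
  exact one_ne_zero this

theorem three_eq_zero : (3 : F) = 0 := by
  have := CharP.cast_eq_zero F 3
  exact_mod_cast this

theorem sg_eq_one_iff (a : ℤˣ) : (sg a : F) = 1 ↔ a = 1 := by
  constructor
  · intro h
    rcases Int.units_eq_one_or a with rfl | rfl
    · rfl
    · exfalso
      rw [sg_neg_one] at h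
      have : (2 : F) = 0 := by linear_combination -h
      exact two_ne_zero' this
  · rintro rfl
    exact sg_one

/-- The linear automorphism `X ↦ ε • g X (g^(3))ᵀ`. -/
def psi (ε : ℤˣ) (g : SL2) : M2 ≃ₗ[F] M2 where
  toFun X := (sg ε : F) • (g.1 * X * tw g.1)
  map_add' X Y := by rw [mul_add, add_mul, smul_add]
  map_smul' c X := by
    simp only [RingHom.id_apply]
    rw [Matrix.mul_smul, Matrix.smul_mul, smul_comm]
  invFun X := (sg ε : F) • ((g⁻¹).1 * X * tw (g⁻¹).1)
  left_inv X := by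
    simp only
    rw [Matrix.mul_smul, Matrix.smul_mul, smul_smul, sg_mul_self, one_smul]
    have h1 : (g⁻¹).1 * g.1 = 1 := by
      rw [← Matrix.SpecialLinearGroup.coe_mul, inv_mul_cancel, Matrix.SpecialLinearGroup.coe_one]
    have h2 : tw g.1 * tw (g⁻¹).1 = 1 := by
      rw [← tw_mul, h1, tw_one]
    calc (g⁻¹).1 * (g.1 * X * tw g.1) * tw (g⁻¹).1
        = ((g⁻¹).1 * g.1) * X * (tw g.1 * tw (g⁻¹).1) := by simp only [Matrix.mul_assoc]
      _ = X := by rw [h1, h2, Matrix.one_mul, Matrix.mul_one]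
  right_inv X := by
    simp only
    rw [Matrix.mul_smul, Matrix.smul_mul, smul_smul, sg_mul_self, one_smul]
    have h1 : g.1 * (g⁻¹).1 = 1 := by
      rw [← Matrix.SpecialLinearGroup.coe_mul, mul_inv_cancel, Matrix.SpecialLinearGroup.coe_one]
    have h2 : tw (g⁻¹).1 * tw g.1 = 1 := by
      rw [← tw_mul, h1, tw_one]
    calc g.1 * ((g⁻¹).1 * X * tw (g⁻¹).1) * tw g.1
        = (g.1 * (g⁻¹).1) * X * (tw (g⁻¹).1 * tw g.1) := by simp only [Matrix.mul_assoc]
      _ = X := by rw [h1, h2, Matrix.one_mul, Matrix.mul_one]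

theorem psi_apply (ε : ℤˣ) (g : SL2) (X : M2) :
    psi ε g X = (sg ε : F) • (g.1 * X * tw g.1) := rfl

theorem psi_one : psi (1 : ℤˣ) (1 : SL2) = 1 := by
  apply LinearEquiv.ext
  intro X
  rw [psi_apply, sg_one, one_smul, Matrix.SpecialLinearGroup.coe_one, tw_one, Matrix.one_mul,
    Matrix.mul_one]
  rfl

theorem psi_mul (ε₁ ε₂ : ℤˣ) (g₁ g₂ : SL2) :
    psi (ε₁ * ε₂) (g₁ * g₂) = psi ε₁ g₁ * psi ε₂ g₂ := by
  apply LinearEquiv.ext
  intro X
  rw [LinearEquiv.mul_apply, psi_apply, psi_apply, psi_apply, sg_mul,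
    Matrix.SpecialLinearGroup.coe_mul, tw_mul, Matrix.mul_smul, Matrix.smul_mul, smul_smul]
  simp only [Matrix.mul_assoc]

/-- `Ψ : ℤˣ × SL₂(F) →* GL(V)`. -/
def Psi : ℤˣ × SL2 →* (M2 ≃ₗ[F] M2) where
  toFun p := psi p.1 p.2
  map_one' := psi_one
  map_mul' p q := psi_mul p.1 q.1 p.2 q.2

theorem Psi_apply (p : ℤˣ × SL2) : Psi p = psi p.1 p.2 := rfl

theorem psi_pow (ε : ℤˣ) (g : SL2) (k : ℕ) : psi ε g ^ k = psi (ε ^ k) (g ^ k) := by
  have := map_pow (Psi : ℤˣ × SL2 →* (M2 ≃ₗ[F] M2)) (ε, g) k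
  simpa [Psi_apply] using this.symm

/-- scalar matrices `±1` act through the sign only. -/
theorem psi_of_scalar (ε : ℤˣ) (g : SL2) (c : F) (hg : g.1 = c • (1 : M2)) (X : M2) :
    psi ε g X = (sg ε : F) • X := by
  have hdet : c * c = 1 := by
    have := g.2
    rw [hg, Matrix.det_smul, Matrix.det_one, Fintype.card_fin] at this
    linear_combination this
  rw [psi_apply]
  congr 1
  have htw : tw g.1 = (c ^ 3) • (1 : M2) := by
    ext i j
    rw [tw_apply, hg]
    fin_cases i <;> fin_cases j <;> simp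
  rw [htw, hg]
  simp only [Matrix.smul_mul, Matrix.one_mul, Matrix.mul_smul, Matrix.mul_one, smul_smul]
  have : c ^ 3 * c = 1 := by
    have : c ^ 3 * c = (c * c) * (c * c) := by ring
    rw [this, hdet, one_mul]
  rw [this, one_smul]

/-- **Fixed point lemma.** -/
theorem fixed_smul_eq_zero (ε : ℤˣ) (g : SL2) (X : M2) (hX : psi ε g X = X) :
    (g.1.trace * ((sg ε : F) * g.1.trace ^ 2 - 1)) • X = 0 := by
  set A := g.1 with hAdef
  set B := tw A with hBdef
  set t := A.trace with ht
  set e : F := sg ε with he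
  have hee : e * e = 1 := sg_mul_self ε
  have hA : A * A = t • A - 1 := ch2 A g.2
  have hBdet : B.det = 1 := by rw [hBdef, tw_det, g.2, one_pow]
  have hBtr : B.trace = t ^ 3 := tw_trace A
  have hB : B * B = t ^ 3 • B - 1 := by
    have := ch2 B hBdet
    rw [hBtr] at this
    exact this
  have hfix : e • (A * X * B) = X := hX
  -- adjugate inverses
  have hA' : (t • (1 : M2) - A) * A = 1 := by
    rw [sub_mul, Matrix.smul_mul, Matrix.one_mul, hA]
    abel
  have hB' : B * (t ^ 3 • (1 : M2) - B) = 1 := by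
    rw [mul_sub, Matrix.mul_smul, Matrix.mul_one, hB]
    abel
  -- A X = e (t^3 X - X B)
  have h1 : A * X = e • (t ^ 3 • X - X * B) := by
    have : A * X = (A * X * B) * (t ^ 3 • (1 : M2) - B) := by
      rw [Matrix.mul_assoc (A * X), hB', Matrix.mul_one]
    rw [this]
    have h2 : A * X * B = e • X := by
      have := congrArg (fun Y => e • Y) hfix
      simp only [smul_smul, hee, one_smul] at this
      exact this
    rw [h2, Matrix.smul_mul, mul_sub, Matrix.mul_smul, Matrix.mul_one]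
  -- X B = e (t X - A X)
  have h3 : X * B = e • (t • X - A * X) := by
    have : X * B = (t • (1 : M2) - A) * (A * X * B) := by
      rw [Matrix.mul_assoc A X B, ← Matrix.mul_assoc _ A, hA', Matrix.one_mul]
    rw [this]
    have h2 : A * X * B = e • X := by
      have := congrArg (fun Y => e • Y) hfix
      simp only [smul_smul, hee, one_smul] at this
      exact this
    rw [h2, Matrix.mul_smul, sub_mul, Matrix.smul_mul, Matrix.one_mul]
  -- combine
  have h6 : A * X = (e * t ^ 3) • X - (e * e) • (t • X) + (e * e) • (A * X) := by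
    conv_lhs => rw [h1, h3]
    module
  rw [hee, one_smul, one_smul] at h6
  have h5 : (e * t ^ 3 - t) • X = 0 := by
    rw [sub_smul]
    have h7 : 0 + A * X = ((e * t ^ 3) • X - t • X) + A * X := by rw [zero_add]; exact h6
    exact (add_right_cancel h7).symm
  have : t * (e * t ^ 2 - 1) = e * t ^ 3 - t := by ring
  rw [this]
  exact h5

theorem fixed_eq_zero (ε : ℤˣ) (g : SL2) (ht0 : g.1.trace ≠ 0)
    (ht1 : (sg ε : F) * g.1.trace ^ 2 ≠ 1) (X : M2) (hX : psi ε g X = X) : X = 0 := by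
  have h := fixed_smul_eq_zero ε g X hX
  rcases smul_eq_zero.mp h with h | h
  · exfalso
    rcases mul_eq_zero.mp h with h | h
    · exact ht0 h
    · exact ht1 (sub_eq_zero.mp h)
  · exact h

/-- **Kernel lemma.** -/
theorem scalar_of_psi_eq_one (ε : ℤˣ) (g : SL2) (h : psi ε g = 1) :
    g.1 0 1 = 0 ∧ g.1 1 0 = 0 ∧ g.1 0 0 = g.1 1 1 := by
  have he : (sg ε : F) ≠ 0 := by
    intro h0
    have := sg_mul_self (F := F) ε
    rw [h0, mul_zero] at this
    exact zero_ne_one this
  have key : ∀ (X : M2) (i j : Fin 2), (sg ε : F) * (∑ a, ∑ b, g.1 i a * X a b * (g.1 j b) ^ 3)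
      = X i j := by
    intro X i j
    have h1 : psi ε g X = X := by rw [h]; rfl
    have h2 := congrFun (congrFun h1 i) j
    rw [psi_apply, Matrix.smul_apply, smul_eq_mul] at h2
    rw [← h2]
    congr 1
    rw [Matrix.mul_apply]
    simp only [Matrix.mul_apply, tw_apply, Finset.sum_mul]
    rw [Finset.sum_comm]
  -- X = E_00, entry (1,1): g10^4 = 0
  have h10 : g.1 1 0 = 0 := by
    have := key (Matrix.single 0 0 1) 1 1
    simp [Fin.sum_univ_two, Matrix.single_apply] at this
    exact this.resolve_left he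
  have h01 : g.1 0 1 = 0 := by
    have := key (Matrix.single 1 1 1) 0 0
    simp [Fin.sum_univ_two, Matrix.single_apply] at this
    exact this.resolve_left he
  refine ⟨h01, h10, ?_⟩
  have e00 := key (Matrix.single 0 0 1) 0 0
  have e01 := key (Matrix.single 0 1 1) 0 1
  simp [Fin.sum_univ_two, Matrix.single_apply] at e00 e01
  -- e00 : sg ε * (g00 * g00^3) = 1 ; e01 : sg ε * (g00 * g11^3) = 1
  have hdet : g.1 0 0 * g.1 1 1 = 1 := by
    have := g.2
    rw [Matrix.det_fin_two, h01, h10] at this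
    linear_combination this
  have hx0 : g.1 0 0 ≠ 0 := left_ne_zero_of_mul_eq_one hdet
  have h3 : g.1 0 0 ^ 3 = g.1 1 1 ^ 3 := by
    have : (sg ε : F) * g.1 0 0 * (g.1 0 0 ^ 3) = (sg ε : F) * g.1 0 0 * (g.1 1 1 ^ 3) := by
      linear_combination e00 - e01
    exact mul_left_cancel₀ (mul_ne_zero he hx0) this
  exact (frobenius_inj F 3) (by simpa [frobenius_def] using h3)

end Cfsg.Agent.Lib.H11.ReeTrunc
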