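import Mathlib
import Cfsg.Agent.Lib.H11.ReeTrunc2
import Cfsg.Agent.Lib.H12.SL2RegCard
import Cfsg.Agent.Lib.H12.SL2Torus

set_option autoImplicit false

/-!
# Exponents of the elements of `V ⋊ (±1 × PSL₂(q))`, `q = 3^α`, `α` odd
-/

namespace Cfsg.Agent.Lib.H11.ReeTrunc

open Matrix

theorem three_pow_odd_mod_eight (α : ℕ) (hα : Odd α) : 3 ^ α % 8 = 3 := by
  obtain ⟨k, rfl⟩ := hα
  induction k with
  | zero => rfl
  | succ k ih =>
    have : 3 ^ (2 * (k + 1) + 1) = 9 * 3 ^ (2 * k + 1) := by ring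
    rw [this, Nat.mul_mod, ih]

theorem units_pow_even (ε : ℤˣ) {n : ℕ} (hn : Even n) : ε ^ n = 1 := by
  obtain ⟨k, rfl⟩ := hn
  rw [← two_mul, pow_mul, sq, Int.units_mul_self, one_pow]

variable {F : Type*} [Field F] [CharP F 3]

local notation "SL2" => Matrix.SpecialLinearGroup (Fin 2) F
local notation "M2" => Matrix (Fin 2) (Fin 2) F

theorem four_eq_one : (4 : F) = 1 := by
  have := three_eq_zero (F := F)
  linear_combination this

/-- An element of `SL₂` squaring to one is scalar. -/
theorem scalar_of_mul_self_eq_one (x : SL2) (hx : x * x = 1) :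
    ∃ c : F, x.1 = c • (1 : M2) := by
  have h1 : x.1 * x.1 = 1 := by
    rw [← Matrix.SpecialLinearGroup.coe_mul, hx, Matrix.SpecialLinearGroup.coe_one]
  have h2 := ch2 x.1 x.2
  rw [h1] at h2
  have ht : x.1.trace ≠ 0 := by
    intro h0
    rw [h0, zero_smul, zero_sub] at h2
    have := congrFun (congrFun h2 0) 0
    simp at this
    have : (2 : F) = 0 := by linear_combination this
    exact two_ne_zero' this
  refine ⟨2 / x.1.trace, ?_⟩
  have h3 : x.1.trace • x.1 = (2 : F) • (1 : M2) := by
    have : x.1.trace • x.1 = 1 + 1 := eq_add_of_sub_eq h2.symm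
    rw [this, two_smul]
  calc x.1 = (x.1.trace)⁻¹ • (x.1.trace • x.1) := by rw [smul_smul, inv_mul_cancel₀ ht, one_smul]
    _ = (2 / x.1.trace) • (1 : M2) := by rw [h3, smul_smul]; congr 1; field_simp

theorem psi_eq_one_of_mul_self (x : SL2) (hx : x * x = 1) : psi (1 : ℤˣ) x = 1 := by
  obtain ⟨c, hc⟩ := scalar_of_mul_self_eq_one x hx
  apply LinearEquiv.ext
  intro X
  rw [psi_of_scalar 1 x c hc, sg_one, one_smul]
  rfl

theorem three_smul_eq_zero (X : M2) : 3 • X = 0 := by
  have : (3 : ℕ) • X = ((3 : ℕ) : F) • X := by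
    rw [Nat.cast_smul_eq_nsmul]
  rw [this]
  have h3 : ((3 : ℕ) : F) = 0 := CharP.cast_eq_zero F 3
  rw [h3, zero_smul]

variable [Fintype F]

/-- `-1` is not a square when `q ≡ 3 (mod 8)`. -/
theorem neg_one_not_sq (hq : Fintype.card F % 8 = 3) (x : F) : x * x ≠ -1 := by
  intro h
  have hx0 : x ≠ 0 := by
    rintro rfl
    rw [mul_zero] at h
    have : (1 : F) = 0 := by linear_combination h
    exact one_ne_zero this
  have h1 := FiniteField.pow_card_sub_one_eq_one x hx0
  obtain ⟨j, hj⟩ : ∃ j, Fintype.card F - 1 = 8 * j + 2 := ⟨Fintype.card F / 8, by omega⟩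
  rw [hj, pow_add, pow_mul] at h1
  have h8 : x ^ 8 = 1 := by
    have : x ^ 8 = (x * x) ^ 4 := by ring
    rw [this, h]
    ring
  rw [h8, one_pow, one_mul, pow_two, h] at h1
  have : (2 : F) = 0 := by linear_combination -h1
  exact two_ne_zero' this

/-- **Exponent cover**: every element with linear part in the range of `Ψ` satisfies one of four
exponent laws. -/
theorem pow_cases {α : ℕ} (hα : Odd α) (hcard : Fintype.card F = 3 ^ α)
    (a : Aff F M2) (ε : ℤˣ) (g : SL2) (ha : a.l = psi ε g) :
    a ^ 6 = 1 ∨ a ^ 9 = 1 ∨ a ^ (3 ^ α - 1) = 1 ∨ a ^ ((3 ^ α + 1) / 2) = 1 := by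
  have hq8 : Fintype.card F % 8 = 3 := by rw [hcard]; exact three_pow_odd_mod_eight α hα
  have hqodd : Odd (Fintype.card F) := by
    rw [Nat.odd_iff]; omega
  set t := g.1.trace with ht
  have hch := ch2 g.1 g.2
  by_cases ht0 : t = 0
  · -- g^2 = -1
    left
    have hg2 : (g * g).1 = (-1 : F) • (1 : M2) := by
      rw [Matrix.SpecialLinearGroup.coe_mul, hch, ← ht, ht0, zero_smul, zero_sub, neg_smul,
        one_smul]
    have hl2 : a.l ^ 2 = 1 := by
      rw [ha, psi_pow, pow_two, pow_two, Int.units_mul_self]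
      apply LinearEquiv.ext
      intro X
      rw [psi_of_scalar 1 (g * g) (-1) hg2, sg_one, one_smul]
      rfl
    exact Aff.pow_mul_eq_one a 2 3 hl2 three_smul_eq_zero
  by_cases ht1 : t ^ 2 = 1
  · -- g^3 = -t scalar
    have hg3 : (g ^ 3).1 = (-t) • (1 : M2) := by
      have e1 : (g ^ 3).1 = g.1 * g.1 * g.1 := by
        rw [pow_succ, pow_two, Matrix.SpecialLinearGroup.coe_mul,
          Matrix.SpecialLinearGroup.coe_mul]
      rw [e1, hch, ← ht, sub_mul, Matrix.smul_mul, hch, ← ht, Matrix.one_mul, smul_sub,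
        smul_smul, ← pow_two, ht1, one_smul]
      rw [neg_smul]
      abel
    have hl3 : a.l ^ 3 = psi ε 1 := by
      rw [ha, psi_pow]
      apply LinearEquiv.ext
      intro X
      rw [psi_of_scalar (ε ^ 3) (g ^ 3) (-t) hg3,
        psi_of_scalar ε 1 1 (by rw [Matrix.SpecialLinearGroup.coe_one, one_smul])]
      congr 1
      rcases Int.units_eq_one_or ε with rfl | rfl
      · simp
      · simp [pow_succ]
    rcases Int.units_eq_one_or ε with rfl | rfl
    · right; left
      rw [psi_one] at hl3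
      exact Aff.pow_mul_eq_one a 3 3 hl3 three_smul_eq_zero
    · left
      have h6 : a ^ 6 = (a ^ 3) * (a ^ 3) := by rw [← pow_add]
      rw [h6]
      ext : 1
      · rw [Aff.mul_t, Aff.pow_l, hl3, psi_of_scalar (-1) 1 1
          (by rw [Matrix.SpecialLinearGroup.coe_one, one_smul]), sg_neg_one, neg_smul, one_smul,
          add_neg_cancel]
        rfl
      · rw [Aff.mul_l, Aff.pow_l, hl3, ← psi_mul]
        simp [psi_one]
  · -- regular semisimple
    have hreg : g.1.trace ^ 2 ≠ 4 := by rw [four_eq_one]; exact ht1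
    obtain ⟨-, hsq, hnsq⟩ := Cfsg.Agent.Lib.H12.regular_centralizer hqodd g hreg
    have hmem : g ∈ Subgroup.centralizer ({g} : Set SL2) :=
      Subgroup.mem_centralizer_singleton_iff.mpr rfl
    have hpowcard : g ^ Nat.card (Subgroup.centralizer ({g} : Set SL2)) = 1 := by
      have := pow_card_eq_one' (G := Subgroup.centralizer ({g} : Set SL2)) (x := ⟨g, hmem⟩)
      exact congrArg Subtype.val this
    have hfp : ∀ X : M2, a.l X = X → X = 0 := by
      intro X hX
      rw [ha] at hX
      refine fixed_eq_zero ε g ht0 ?_ X hX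
      rcases Int.units_eq_one_or ε with rfl | rfl
      · rw [sg_one, one_mul]; exact ht1
      · rw [sg_neg_one]
        intro h
        apply neg_one_not_sq hq8 t
        linear_combination -h
    by_cases hs : IsSquare (g.1.trace ^ 2 - 4)
    · right; right; left
      have hc := hsq hs
      rw [hc, hcard] at hpowcard
      apply Aff.pow_eq_one_of_fpf a _ _ hfp
      rw [ha, psi_pow, hpowcard]
      have hev : Even (3 ^ α - 1) := by
        have := hq8
        rw [hcard] at this
        rw [Nat.even_iff]; omega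
      rw [units_pow_even ε hev, psi_one]
    · right; right; right
      have hc := hnsq hs
      rw [hc, hcard] at hpowcard
      have h8 : 3 ^ α % 8 = 3 := by rw [← hcard]; exact hq8
      have h2e : 3 ^ α + 1 = (3 ^ α + 1) / 2 + (3 ^ α + 1) / 2 := by omega
      have hev : Even ((3 ^ α + 1) / 2) := by
        rw [Nat.even_iff]; omega
      apply Aff.pow_eq_one_of_fpf a _ _ hfp
      rw [ha, psi_pow, units_pow_even ε hev]
      apply psi_eq_one_of_mul_self
      rw [← pow_add, ← h2e, hpowcard]

end Cfsg.Agent.Lib.H11.ReeTrunc
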