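import Mathlib
import Cfsg.Agent.Lib.H11.ReeTrunc3

set_option autoImplicit false

/-!
# Elements of orders 6, 9, q-1, (q+1)/2 and the final group (S2515)
-/

namespace Cfsg.Agent.Lib.H11.ReeTrunc

open Matrix

section Gen
variable {F V : Type*} [Semiring F] [AddCommGroup V] [Module F V]

/-- Embedding of the linear part. -/
def Aff.lin : (V ≃ₗ[F] V) →* Aff F V where
  toFun ℓ := ⟨0, ℓ⟩
  map_one' := rfl
  map_mul' a b := by
    apply Aff.ext
    · simp
    · rfl

theorem Aff.lin_injective : Function.Injective (Aff.lin : (V ≃ₗ[F] V) →* Aff F V) := by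
  intro a b h
  exact congrArg Aff.l h

theorem Aff.orderOf_lin (ℓ : V ≃ₗ[F] V) : orderOf (Aff.lin ℓ : Aff F V) = orderOf ℓ :=
  orderOf_injective Aff.lin Aff.lin_injective ℓ

end Gen

variable {F : Type*} [Field F] [CharP F 3]

local notation "SL2" => Matrix.SpecialLinearGroup (Fin 2) F
local notation "M2" => Matrix (Fin 2) (Fin 2) F

/-- upper unitriangular -/
def up (b : F) : SL2 := ⟨!![1, b; 0, 1], by simp [Matrix.det_fin_two]⟩

theorem up_val (b : F) : (up b).1 = !![1, b; 0, 1] := rfl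

theorem up_mul (b c : F) : up b * up c = up (c + b) := by
  apply Subtype.ext
  rw [Matrix.SpecialLinearGroup.coe_mul, up_val, up_val, up_val]
  ext i j
  fin_cases i <;> fin_cases j <;> simp [Matrix.mul_apply, Fin.sum_univ_two]

theorem up_zero : up (0 : F) = 1 := by
  apply Subtype.ext
  rw [up_val, Matrix.SpecialLinearGroup.coe_one]
  ext i j
  fin_cases i <;> fin_cases j <;> simp

theorem up_pow (b : F) (k : ℕ) : up b ^ k = up ((k : F) * b) := by
  induction k with
  | zero => simp [up_zero]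
  | succ k ih =>
    rw [pow_succ, ih, up_mul]
    congr 1
    push_cast
    ring

theorem up_one_pow_three : up (1 : F) ^ 3 = 1 := by
  rw [up_pow]
  have : ((3 : ℕ) : F) * 1 = 0 := by
    rw [mul_one]; exact CharP.cast_eq_zero F 3
  rw [this, up_zero]

theorem psi_up_apply (b : F) :
    (psi (1 : ℤˣ) (up b) (Matrix.single 1 1 1)) 0 0 = b ^ 4 := by
  rw [psi_apply, sg_one, one_smul]
  simp only [Matrix.mul_apply, Fin.sum_univ_two, tw_apply, up_val]
  simp
  ring

/-- element of order 6 -/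
theorem orderOf_six : orderOf (Aff.lin (psi (-1 : ℤˣ) (up (1 : F))) : Aff F M2) = 6 := by
  rw [Aff.orderOf_lin]
  have h3 : psi (-1 : ℤˣ) (up (1 : F)) ^ 3 = psi (-1) 1 := by
    rw [psi_pow, up_one_pow_three]
    congr 1
  apply orderOf_eq_of_pow_and_pow_div_prime (by norm_num)
  · have : (6 : ℕ) = 3 * 2 := rfl
    rw [this, pow_mul, h3, pow_two, ← psi_mul]
    simp [psi_one]
  · intro p hp hpd
    have hp6 : p ∣ 2 * 3 := hpd
    rcases (Nat.Prime.dvd_mul hp).mp hp6 with h | h
    · have : p = 2 := (Nat.prime_dvd_prime_iff_eq hp Nat.prime_two).mp h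
      subst this
      have : (6 : ℕ) / 2 = 3 := rfl
      rw [this, h3]
      intro h1
      have := LinearEquiv.congr_fun h1 (1 : M2)
      rw [psi_of_scalar (-1) 1 1 (by rw [Matrix.SpecialLinearGroup.coe_one, one_smul]),
        sg_neg_one, neg_smul, one_smul] at this
      have h00 := congrFun (congrFun this 0) 0
      simp at h00
      have : (2 : F) = 0 := by linear_combination -h00
      exact two_ne_zero' this
    · have : p = 3 := (Nat.prime_dvd_prime_iff_eq hp Nat.prime_three).mp h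
      subst this
      have : (6 : ℕ) / 3 = 2 := rfl
      rw [this, psi_pow, up_pow]
      intro h1
      have := (scalar_of_psi_eq_one _ _ h1).1
      rw [up_val] at this
      simp at this
      exact two_ne_zero' this

/-- element of order 9 -/
theorem orderOf_nine :
    orderOf (⟨Matrix.single 1 1 1, psi (1 : ℤˣ) (up (1 : F))⟩ : Aff F M2) = 9 := by
  set a : Aff F M2 := ⟨Matrix.single 1 1 1, psi (1 : ℤˣ) (up (1 : F))⟩ with ha
  have hl3 : a.l ^ 3 = 1 := by
    show psi (1 : ℤˣ) (up (1 : F)) ^ 3 = 1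
    rw [psi_pow, up_one_pow_three, one_pow, psi_one]
  apply orderOf_eq_of_pow_and_pow_div_prime (by norm_num)
  · have : (9 : ℕ) = 3 * 3 := rfl
    rw [this]
    exact Aff.pow_mul_eq_one a 3 3 hl3 three_smul_eq_zero
  · intro p hp hpd
    have hp9 : p ∣ 3 * 3 := hpd
    have hp3 : p ∣ 3 := by
      rcases (Nat.Prime.dvd_mul hp).mp hp9 with h | h <;> exact h
    have : p = 3 := (Nat.prime_dvd_prime_iff_eq hp Nat.prime_three).mp hp3
    subst this
    have : (9 : ℕ) / 3 = 3 := rfl
    rw [this]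
    intro h1
    have ht := congrArg Aff.t h1
    rw [Aff.pow_t, Aff.one_t] at ht
    have h00 := congrFun (congrFun ht 0) 0
    simp only [Aff.gsum, Finset.sum_range_succ, Finset.sum_range_zero, zero_add] at h00
    have e : ∀ i : ℕ, (a.l ^ i) a.t = psi (1 : ℤˣ) (up ((i : F) * 1)) (Matrix.single 1 1 1) := by
      intro i
      show (psi (1 : ℤˣ) (up (1 : F)) ^ i) _ = _
      rw [psi_pow, up_pow, one_pow]
    rw [Matrix.add_apply, Matrix.add_apply, e 0, e 1, e 2, psi_up_apply, psi_up_apply,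
      psi_up_apply] at h00
    simp at h00
    have h3 := three_eq_zero (F := F)
    have : (2 : F) = 0 := by linear_combination h00 - 5 * h3
    exact two_ne_zero' this

/-- diagonal torus -/
def dg : Fˣ →* SL2 where
  toFun x := ⟨!![(x : F), 0; 0, ((x⁻¹ : Fˣ) : F)], by simp [Matrix.det_fin_two]⟩
  map_one' := by
    apply Subtype.ext
    show (!![((1 : Fˣ) : F), 0; 0, (((1 : Fˣ)⁻¹ : Fˣ) : F)] : M2) = 1
    ext i j
    fin_cases i <;> fin_cases j <;> simp
  map_mul' x y := by
    apply Subtype.ext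
    show (!![((x * y : Fˣ) : F), 0; 0, (((x * y)⁻¹ : Fˣ) : F)] : M2) =
      !![(x : F), 0; 0, ((x⁻¹ : Fˣ) : F)] * !![(y : F), 0; 0, ((y⁻¹ : Fˣ) : F)]
    ext i j
    fin_cases i <;> fin_cases j <;> simp [Matrix.mul_apply, Fin.sum_univ_two, mul_comm]

theorem dg_val (x : Fˣ) : (dg x).1 = !![(x : F), 0; 0, ((x⁻¹ : Fˣ) : F)] := rfl

theorem mul_self_eq_one_of_psi_eq_one (ε : ℤˣ) (g : SL2) (h : psi ε g = 1) : g * g = 1 := by
  obtain ⟨h01, h10, h00⟩ := scalar_of_psi_eq_one ε g h
  have hdet := g.2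
  rw [Matrix.det_fin_two, h01, h10, ← h00] at hdet
  apply Subtype.ext
  rw [Matrix.SpecialLinearGroup.coe_mul, Matrix.SpecialLinearGroup.coe_one]
  ext i j
  fin_cases i <;> fin_cases j <;>
    simp [Matrix.mul_apply, Fin.sum_univ_two, h01, h10, ← h00] <;>
    linear_combination hdet

theorem sign_of_psi_eq_one (ε : ℤˣ) (g : SL2) (h : psi ε g = 1) : ε = 1 := by
  obtain ⟨h01, h10, h00⟩ := scalar_of_psi_eq_one ε g h
  have hg : g.1 = (g.1 0 0) • (1 : M2) := by
    ext i j
    fin_cases i <;> fin_cases j <;> simp [h01, h10, ← h00]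
  have h1 := LinearEquiv.congr_fun h (1 : M2)
  rw [psi_of_scalar ε g _ hg] at h1
  have h2 := congrFun (congrFun h1 0) 0
  simp at h2
  exact (sg_eq_one_iff ε).mp h2

variable [Fintype F]

/-- element of order `q - 1` -/
theorem orderOf_split {α : ℕ} (hα : Odd α) (hcard : Fintype.card F = 3 ^ α) (ζ : Fˣ)
    (hζ : orderOf ζ = Fintype.card F - 1) :
    orderOf (psi (-1 : ℤˣ) (dg ζ)) = 3 ^ α - 1 := by
  have h8 := three_pow_odd_mod_eight α hα
  have hev : Even (3 ^ α - 1) := by rw [Nat.even_iff]; omega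
  apply Nat.dvd_antisymm
  · apply orderOf_dvd_of_pow_eq_one
    rw [psi_pow, units_pow_even _ hev, ← map_pow]
    have : ζ ^ (3 ^ α - 1) = 1 := by
      rw [← hcard, ← hζ]; exact pow_orderOf_eq_one ζ
    rw [this, map_one, psi_one]
  · set k := orderOf (psi (-1 : ℤˣ) (dg ζ)) with hk
    have h1 : psi ((-1 : ℤˣ) ^ k) (dg (ζ ^ k)) = 1 := by
      rw [map_pow, ← psi_pow]; exact pow_orderOf_eq_one _
    have hsign := sign_of_psi_eq_one _ _ h1
    have hkev : Even k := (neg_one_pow_eq_one_iff_even (by decide)).mp hsign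
    have hsq := mul_self_eq_one_of_psi_eq_one _ _ h1
    rw [← map_mul, ← pow_add] at hsq
    have hinj : Function.Injective (dg : Fˣ →* SL2) := by
      intro x y hxy
      have := congrArg (fun m : SL2 => m.1 0 0) hxy
      simp [dg_val] at this
      exact Units.ext this
    have hz : ζ ^ (k + k) = 1 := hinj (by rw [hsq, map_one])
    have hd : orderOf ζ ∣ k + k := orderOf_dvd_of_pow_eq_one hz
    rw [hζ, hcard] at hd
    obtain ⟨m, hm⟩ : ∃ m, 3 ^ α - 1 = 2 * m := ⟨(3 ^ α - 1) / 2, by omega⟩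
    have hmodd : Odd m := by rw [Nat.odd_iff]; omega
    rw [hm, ← two_mul] at hd
    have hmk : m ∣ k := Nat.dvd_of_mul_dvd_mul_left (by norm_num) hd
    rw [hm]
    exact Nat.Coprime.mul_dvd_of_dvd_of_dvd (Nat.coprime_two_left.mpr hmodd)
      hkev.two_dvd hmk

/-- element of order `(q + 1) / 2` -/
theorem orderOf_nonsplit {α : ℕ} (hα : Odd α) (hcard : Fintype.card F = 3 ^ α) (c : SL2)
    (hc : orderOf c = Fintype.card F + 1) :
    orderOf (psi (1 : ℤˣ) c) = (3 ^ α + 1) / 2 := by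
  have h8 := three_pow_odd_mod_eight α hα
  have h2e : 3 ^ α + 1 = (3 ^ α + 1) / 2 + (3 ^ α + 1) / 2 := by omega
  apply Nat.dvd_antisymm
  · apply orderOf_dvd_of_pow_eq_one
    rw [psi_pow, one_pow]
    apply psi_eq_one_of_mul_self
    rw [← pow_add, ← h2e, ← hcard, ← hc]
    exact pow_orderOf_eq_one c
  · set k := orderOf (psi (1 : ℤˣ) c) with hk
    have h1 : psi (1 : ℤˣ) (c ^ k) = 1 := by
      have := pow_orderOf_eq_one (psi (1 : ℤˣ) c)
      rw [psi_pow, one_pow] at this
      exact this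
    have hsq := mul_self_eq_one_of_psi_eq_one _ _ h1
    rw [← pow_add] at hsq
    have hd : orderOf c ∣ k + k := orderOf_dvd_of_pow_eq_one hsq
    rw [hc, hcard] at hd
    obtain ⟨e, he⟩ : ∃ e, 3 ^ α + 1 = 2 * e := ⟨(3 ^ α + 1) / 2, by omega⟩
    have : (3 ^ α + 1) / 2 = e := by omega
    rw [this]
    rw [he, ← two_mul] at hd
    exact Nat.dvd_of_mul_dvd_mul_left (by norm_num) hd

end Cfsg.Agent.Lib.H11.ReeTrunc
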