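import Mathlib
import Cfsg.Agent.Lib.H11.ReeTrunc4

set_option autoImplicit false

/-!
# Assembly: a group with nontrivial `O_3` and maximal element orders `6, 9, q-1, (q+1)/2`
-/

namespace Cfsg.Agent.Lib.H11.ReeTrunc

open Matrix

variable (F : Type*) [Field F] [CharP F 3]

local notation "SL2" => Matrix.SpecialLinearGroup (Fin 2) F
local notation "M2" => Matrix (Fin 2) (Fin 2) F

/-- The group `V ⋊ Ψ(±1 × SL₂(F))`. -/
def Hs : Subgroup (Aff F M2) := (Psi (F := F)).range.comap Aff.linHom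

variable {F}

theorem mem_Hs (a : Aff F M2) : a ∈ Hs F ↔ ∃ (ε : ℤˣ) (g : SL2), a.l = psi ε g := by
  unfold Hs
  rw [Subgroup.mem_comap, MonoidHom.mem_range]
  constructor
  · rintro ⟨⟨ε, g⟩, h⟩
    exact ⟨ε, g, h.symm⟩
  · rintro ⟨ε, g, h⟩
    exact ⟨(ε, g), h.symm⟩

theorem main_aux [Fintype F] {α : ℕ} (hα3 : 3 ≤ α) (hα : Odd α)
    (hcard : Fintype.card F = 3 ^ α) :
    (∃ P : Subgroup (Hs F), P.Normal ∧ P ≠ ⊥ ∧ IsPGroup 3 ↥P) ∧
    {n : ℕ | n ∈ Set.range (orderOf : Hs F → ℕ) ∧
      ∀ m ∈ Set.range (orderOf : Hs F → ℕ), n ∣ m → m = n} =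
      ({6, 9, 3 ^ α - 1, (3 ^ α + 1) / 2} : Set ℕ) := by
  have h8 := three_pow_odd_mod_eight α hα
  have h27 : 27 ≤ 3 ^ α := by
    calc 27 = 3 ^ 3 := by norm_num
      _ ≤ 3 ^ α := Nat.pow_le_pow_right (by norm_num) hα3
  constructor
  · -- the translation subgroup
    refine ⟨(Aff.linHom.comp (Hs F).subtype).ker, inferInstance, ?_, ?_⟩
    · intro hbot
      have hmem : (Aff.trans (Multiplicative.ofAdd (1 : M2)) : Aff F M2) ∈ Hs F := by
        rw [mem_Hs]
        exact ⟨1, 1, by rw [psi_one]; rfl⟩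
      have hk : (⟨_, hmem⟩ : Hs F) ∈ (Aff.linHom.comp (Hs F).subtype).ker := by
        rw [MonoidHom.mem_ker]
        rfl
      rw [hbot, Subgroup.mem_bot] at hk
      have h1 := congrArg (fun x : Hs F => (x : Aff F M2).t) hk
      have h2 : (1 : M2) = 0 := h1
      exact one_ne_zero h2
    · intro x
      refine ⟨1, ?_⟩
      have hx := x.2
      rw [MonoidHom.mem_ker] at hx
      have hl : ((x : Hs F) : Aff F M2).l ^ 1 = 1 := by
        rw [pow_one]; exact hx
      have := Aff.pow_mul_eq_one ((x : Hs F) : Aff F M2) 1 3 hl three_smul_eq_zero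
      apply Subtype.ext
      apply Subtype.ext
      rw [pow_one]
      simpa using this
  · apply maximal_orders_eq
    · -- every element satisfies one of the exponent laws
      intro h
      obtain ⟨ε, g, hg⟩ := (mem_Hs _).mp h.2
      have hc := pow_cases hα hcard (h : Aff F M2) ε g hg
      have lift : ∀ k : ℕ, (h : Aff F M2) ^ k = 1 → h ^ k = 1 := by
        intro k hk
        apply Subtype.ext
        rw [Subgroup.coe_pow, hk]
        rfl
      rcases hc with hc | hc | hc | hc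
      · exact ⟨6, by simp, lift 6 hc⟩
      · exact ⟨9, by simp, lift 9 hc⟩
      · exact ⟨3 ^ α - 1, by simp, lift _ hc⟩
      · exact ⟨(3 ^ α + 1) / 2, by simp, lift _ hc⟩
    · -- existence
      intro s hs
      simp only [Set.mem_insert_iff, Set.mem_singleton_iff] at hs
      rcases hs with rfl | rfl | rfl | rfl
      · have hmem : (Aff.lin (psi (-1 : ℤˣ) (up (1 : F))) : Aff F M2) ∈ Hs F :=
          (mem_Hs _).mpr ⟨-1, up 1, rfl⟩
        refine ⟨⟨_, hmem⟩, ?_⟩
        rw [← Subgroup.orderOf_coe]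
        exact orderOf_six
      · have hmem : (⟨Matrix.single 1 1 1, psi (1 : ℤˣ) (up (1 : F))⟩ : Aff F M2) ∈ Hs F :=
          (mem_Hs _).mpr ⟨1, up 1, rfl⟩
        refine ⟨⟨_, hmem⟩, ?_⟩
        rw [← Subgroup.orderOf_coe]
        exact orderOf_nine
      · obtain ⟨ζ, hζ⟩ := IsCyclic.exists_generator (α := Fˣ)
        have hord : orderOf ζ = Fintype.card F - 1 := by
          rw [orderOf_eq_card_of_forall_mem_zpowers hζ, Nat.card_units,
            Nat.card_eq_fintype_card]
        have hmem : (Aff.lin (psi (-1 : ℤˣ) (dg ζ)) : Aff F M2) ∈ Hs F :=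
          (mem_Hs _).mpr ⟨-1, dg ζ, rfl⟩
        refine ⟨⟨_, hmem⟩, ?_⟩
        rw [← Subgroup.orderOf_coe]
        show orderOf (Aff.lin (psi (-1 : ℤˣ) (dg ζ)) : Aff F M2) = _
        rw [Aff.orderOf_lin]
        exact orderOf_split hα hcard ζ hord
      · obtain ⟨t, ht⟩ := Cfsg.Agent.Lib.H12.exists_noRoot (F := F)
        have := ht.fact
        have hcyc : IsCyclic (Cfsg.Agent.Lib.H12.torusT t) := Cfsg.Agent.Lib.H12.isCyclic_torusT
        obtain ⟨c, hc⟩ := IsCyclic.exists_generator (α := Cfsg.Agent.Lib.H12.torusT t)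
        have hord : orderOf c = Fintype.card F + 1 := by
          rw [orderOf_eq_card_of_forall_mem_zpowers hc, Cfsg.Agent.Lib.H12.card_torusT]
        have hord' : orderOf (c : SL2) = Fintype.card F + 1 := by
          rw [Subgroup.orderOf_coe]; exact hord
        have hmem : (Aff.lin (psi (1 : ℤˣ) (c : SL2)) : Aff F M2) ∈ Hs F :=
          (mem_Hs _).mpr ⟨1, c, rfl⟩
        refine ⟨⟨_, hmem⟩, ?_⟩
        rw [← Subgroup.orderOf_coe]
        show orderOf (Aff.lin (psi (1 : ℤˣ) (c : SL2)) : Aff F M2) = _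
        rw [Aff.orderOf_lin]
        exact orderOf_nonsplit hα hcard c hord'
    · -- antichain
      intro s hs s' hs' hd
      simp only [Set.mem_insert_iff, Set.mem_singleton_iff] at hs hs'
      have h3 : 3 ^ α % 3 = 0 := by
        obtain ⟨k, rfl⟩ : ∃ k, α = k + 1 := ⟨α - 1, by omega⟩
        rw [pow_succ]
        exact Nat.mul_mod_left _ _
      have hE : ¬ ((3 ^ α + 1) / 2 ∣ 3 ^ α - 1) := by
        intro hdv
        have h2e : 3 ^ α - 1 + 2 = 2 * ((3 ^ α + 1) / 2) := by omega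
        have h1 : (3 ^ α + 1) / 2 ∣ 3 ^ α - 1 + 2 := by rw [h2e]; exact Dvd.intro_left _ rfl
        have h2 : (3 ^ α + 1) / 2 ∣ 2 := (Nat.dvd_add_right hdv).mp h1
        have := Nat.le_of_dvd (by norm_num) h2
        omega
      rcases hs with rfl | rfl | rfl | rfl <;> rcases hs' with rfl | rfl | rfl | rfl <;>
        first
        | rfl
        | exact absurd hd hE
        | (exfalso
           have hle := Nat.le_of_dvd (by omega) hd
           obtain ⟨c, hc⟩ := hd
           omega)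

end Cfsg.Agent.Lib.H11.ReeTrunc
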