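import Cfsg.Agent.S5359
import Cfsg.Agent.S5358

set_option autoImplicit false
open scoped MatrixGroups
open Cfsg

namespace Cfsg.Agent.Lib.H11.Refl3

open Cfsg.Agent.Lib.H11.CD Cfsg.Agent.Lib.H11.SpinSign Cfsg.Agent.Lib.H11.ReflClass
open Cfsg.Agent.S5357 Cfsg.Agent.S5359

variable {n : ℕ} (Q : QuadraticForm (ZMod 3) (Fin n → ZMod 3))

theorem z3_a : ∀ b c : ZMod 3, c ≠ 0 → b ≠ 0 → b + b * c * (2 * c) = 0 := by decide
theorem z3_b : ∀ b c : ZMod 3, c ≠ 0 → b ≠ 0 →
    c + (b * c) * (b * c) * c + (b * c) * b = 0 := by decide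
theorem z3_c : ∀ b c : ZMod 3, c ≠ 0 → b ≠ 0 → b * c = 1 ∨ b * c = -1 := by decide
theorem z3_d : ∀ c : ZMod 3, c ≠ 0 → (2 : ZMod 3) * c ≠ 0 := by decide
theorem z3_e : ∀ c : ZMod 3, c ≠ 0 → c ≠ -c := by decide
theorem z3_f : ∀ c : ZMod 3, c ≠ 0 → 2 * c ≠ -(2 * c) := by decide

/-- the singular vector attached to two non-orthogonal vectors of norm `c` -/
theorem sing_of_pair (c : ZMod 3) (hc : c ≠ 0) (u v : Fin n → ZMod 3) (hu : Q u = c) (hv : Q v = c)
    (hb : QuadraticMap.polar (⇑Q) u v ≠ 0) :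
    Q (v + (QuadraticMap.polar (⇑Q) u v * c) • u) = 0 ∧
    QuadraticMap.polar (⇑Q) u (v + (QuadraticMap.polar (⇑Q) u v * c) • u) = 0 := by
  constructor
  · rw [Cfsg.Agent.Lib.H4.Q_add_smul, hu, hv, QuadraticMap.polar_comm (⇑Q) v u]
    have := z3_b _ c hc hb
    linear_combination this
  · rw [QuadraticMap.polar_add_right, QuadraticMap.polar_smul_right, Cfsg.Agent.Lib.H4.polar_self,
      hu, smul_eq_mul]
    exact z3_a _ c hc hb

/-- a vector of norm `c` orthogonal to `u` and not orthogonal to `v` -/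
theorem exists_sep (hQ : (QuadraticMap.polarBilin Q).Nondegenerate) (hn : 5 ≤ n) (c : ZMod 3)
    (hc : c ≠ 0) (u v : Fin n → ZMod 3) (hu : Q u = c) (hv : Q v = c) (h1 : v ≠ u)
    (h2 : v ≠ -u) :
    ∃ x, Q x = c ∧ QuadraticMap.polar (⇑Q) u x = 0 ∧ QuadraticMap.polar (⇑Q) v x ≠ 0 ∧
      x ≠ v ∧ x ≠ -v := by
  have h2c : (2 : ZMod 3) * c ≠ 0 := z3_d c hc
  by_cases huv : QuadraticMap.polar (⇑Q) u v = 0
  · have hvu : QuadraticMap.polar (⇑Q) v u = 0 := by rw [QuadraticMap.polar_comm]; exact huv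
    obtain ⟨z1, hz1, hz1p⟩ := exists_perp_value Q hQ (k := 2) (by omega) ![u, v]
      (by intro i; fin_cases i <;> simp [hu, hv, hc])
      (by intro i j hij; fin_cases i <;> fin_cases j <;> simp_all) c hc
    have hz1u : QuadraticMap.polar (⇑Q) u z1 = 0 := hz1p 0
    have hz1v : QuadraticMap.polar (⇑Q) v z1 = 0 := hz1p 1
    have hz1u' : QuadraticMap.polar (⇑Q) z1 u = 0 := by rw [QuadraticMap.polar_comm]; exact hz1u
    have hz1v' : QuadraticMap.polar (⇑Q) z1 v = 0 := by rw [QuadraticMap.polar_comm]; exact hz1v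
    obtain ⟨z2, hz2, hz2p⟩ := exists_perp_value Q hQ (k := 3) (by omega) ![u, v, z1]
      (by intro i; fin_cases i <;> simp [hu, hv, hc, hz1])
      (by intro i j hij; fin_cases i <;> fin_cases j <;> simp_all) (-c) (neg_ne_zero.2 hc)
    have hz2u : QuadraticMap.polar (⇑Q) u z2 = 0 := hz2p 0
    have hz2v : QuadraticMap.polar (⇑Q) v z2 = 0 := hz2p 1
    have hz2z : QuadraticMap.polar (⇑Q) z1 z2 = 0 := hz2p 2
    have hpv : QuadraticMap.polar (⇑Q) v (v + z1 + z2) = 2 * c := by
      rw [QuadraticMap.polar_add_right, QuadraticMap.polar_add_right, hz1v, hz2v,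
        Cfsg.Agent.Lib.H4.polar_self, hv]; ring
    refine ⟨v + z1 + z2, ?_, ?_, ?_, ?_, ?_⟩
    · rw [Q_add', Q_add', hv, hz1, hz2, hz1v, QuadraticMap.polar_add_left, hz2v, hz2z]; ring
    · rw [QuadraticMap.polar_add_right, QuadraticMap.polar_add_right, huv, hz1u, hz2u]; ring
    · rw [hpv]; exact h2c
    · intro h
      have h' : z1 = -z2 := by
        have : z1 + z2 = 0 := by
          have := congrArg (fun t => t - v) h
          simpa [add_assoc] using this
        exact eq_neg_of_add_eq_zero_left this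
      have : Q z1 = Q z2 := by rw [h', QuadraticMap.map_neg]
      rw [hz1, hz2] at this
      exact z3_e c hc this
    · intro h
      have := hpv
      rw [h, QuadraticMap.polar_neg_right, Cfsg.Agent.Lib.H4.polar_self, hv] at this
      exact z3_f c hc this.symm
  · -- non-orthogonal: `v' = v + ε u` is singular, orthogonal to `u`
    set b := QuadraticMap.polar (⇑Q) u v with hb
    set v' := v + (b * c) • u with hv'
    obtain ⟨hQv', hpv'⟩ := sing_of_pair Q c hc u v hu hv huv
    rw [← hb, ← hv'] at hQv' hpv'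
    have hv'0 : v' ≠ 0 := by
      intro h0
      rcases z3_c b c hc huv with e | e
      · apply h2
        rw [hv', e, one_smul] at h0
        exact eq_neg_of_add_eq_zero_left h0
      · apply h1
        rw [hv', e, neg_one_smul] at h0
        exact (sub_eq_zero.1 (by rw [sub_eq_add_neg]; exact h0))
    obtain ⟨y0, hy0⟩ : ∃ y0, QuadraticMap.polar (⇑Q) v' y0 ≠ 0 := by
      by_contra h
      push Not at h
      exact hv'0 (hQ.1 v' h)
    have hpv'u : QuadraticMap.polar (⇑Q) v' u = 0 := by rw [QuadraticMap.polar_comm]; exact hpv'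
    set y := y0 - (QuadraticMap.polar (⇑Q) u y0 * (2 * c)⁻¹) • u with hy
    have hyu : QuadraticMap.polar (⇑Q) u y = 0 := by
      rw [hy, QuadraticMap.polar_sub_right, QuadraticMap.polar_smul_right,
        Cfsg.Agent.Lib.H4.polar_self, hu, smul_eq_mul, inv_mul_cancel_right₀ h2c, sub_self]
    have hyv' : QuadraticMap.polar (⇑Q) v' y = QuadraticMap.polar (⇑Q) v' y0 := by
      rw [hy, QuadraticMap.polar_sub_right, QuadraticMap.polar_smul_right, hpv'u, smul_eq_mul,
        mul_zero, sub_zero]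
    set κ := QuadraticMap.polar (⇑Q) v' y0 with hκ
    set t := (c - Q y) * κ⁻¹ with ht
    have hv'v' : QuadraticMap.polar (⇑Q) v' v' = 0 := by
      rw [Cfsg.Agent.Lib.H4.polar_self, hQv', mul_zero]
    have hpx : QuadraticMap.polar (⇑Q) v' (y + t • v') = κ := by
      rw [QuadraticMap.polar_add_right, QuadraticMap.polar_smul_right, hv'v', hyv', smul_eq_mul,
        mul_zero, add_zero]
    have hux : QuadraticMap.polar (⇑Q) u (y + t • v') = 0 := by
      rw [QuadraticMap.polar_add_right, QuadraticMap.polar_smul_right, hyu, hpv', smul_eq_mul,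
        mul_zero, add_zero]
    have hvx : QuadraticMap.polar (⇑Q) v (y + t • v') = κ := by
      have hvv' : v = v' - (b * c) • u := by rw [hv']; abel
      rw [hvv', QuadraticMap.polar_sub_left, QuadraticMap.polar_smul_left, hpx, hux, smul_eq_mul,
        mul_zero, sub_zero]
    refine ⟨y + t • v', ?_, hux, ?_, ?_, ?_⟩
    · rw [Cfsg.Agent.Lib.H4.Q_add_smul, hQv', QuadraticMap.polar_comm (⇑Q) y v', hyv', ht]
      field_simp
      ring
    · rw [hvx]; exact hy0
    · intro h
      rw [h] at hux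
      exact huv hux
    · intro h
      rw [h, QuadraticMap.polar_neg_right, neg_eq_zero] at hux
      exact huv hux

/-- a vector of norm `c` orthogonal to two given vectors of norm `c` -/
theorem exists_common (hQ : (QuadraticMap.polarBilin Q).Nondegenerate) (hn : 5 ≤ n) (c : ZMod 3)
    (hc : c ≠ 0) (u v : Fin n → ZMod 3) (hu : Q u = c) (hv : Q v = c) :
    ∃ x, Q x = c ∧ QuadraticMap.polar (⇑Q) u x = 0 ∧ QuadraticMap.polar (⇑Q) v x = 0 := by
  by_cases huv : QuadraticMap.polar (⇑Q) u v = 0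
  · have hvu : QuadraticMap.polar (⇑Q) v u = 0 := by rw [QuadraticMap.polar_comm]; exact huv
    obtain ⟨z1, hz1, hz1p⟩ := exists_perp_value Q hQ (k := 2) (by omega) ![u, v]
      (by intro i; fin_cases i <;> simp [hu, hv, hc])
      (by intro i j hij; fin_cases i <;> fin_cases j <;> simp_all) c hc
    exact ⟨z1, hz1, hz1p 0, hz1p 1⟩
  · set b := QuadraticMap.polar (⇑Q) u v with hb
    set v' := v + (b * c) • u with hv'
    obtain ⟨hQv', hpv'⟩ := sing_of_pair Q c hc u v hu hv huv
    rw [← hb, ← hv'] at hQv' hpv'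
    have hvv' : v = v' - (b * c) • u := by rw [hv']; abel
    by_cases hv'0 : v' = 0
    · obtain ⟨z1, hz1, hz1p⟩ := exists_perp_value Q hQ (k := 1) (by omega) ![u]
        (by intro i; fin_cases i; simp [hu, hc])
        (by intro i j hij; fin_cases i; fin_cases j; exact absurd rfl hij) c hc
      have hz1u : QuadraticMap.polar (⇑Q) u z1 = 0 := hz1p 0
      refine ⟨z1, hz1, hz1u, ?_⟩
      rw [hvv', hv'0, zero_sub, QuadraticMap.polar_neg_left, QuadraticMap.polar_smul_left, hz1u,
        smul_eq_mul, mul_zero, neg_zero]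
    · obtain ⟨e, he, heu, hev'⟩ := exists_e3 Q hQ hn c hc u v' hu hQv' hpv' hv'0
      refine ⟨e, he, heu, ?_⟩
      rw [hvv', QuadraticMap.polar_sub_left, QuadraticMap.polar_smul_left, hev', heu, smul_eq_mul,
        mul_zero, sub_zero]

end Cfsg.Agent.Lib.H11.Refl3
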