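import Cfsg.Agent.Lib.H11.SpinSign
import Cfsg.Agent.S0750

/-!
Reflections in vectors of one square class generate a subgroup of index 2 (q odd, n even,
(n, q) ≠ (4, 3)).
-/

set_option autoImplicit false

namespace Cfsg.Agent.Lib.H11.ReflClass

open Matrix
open scoped MatrixGroups
open Cfsg.Agent.Lib.H11.CD Cfsg.Agent.Lib.H11.SpinSign

variable {F : Type*} [Field F] {n : ℕ} (Q : QuadraticForm F (Fin n → F))

theorem Q_lin (α β : F) (w w' : Fin n → F) :
    Q (α • w + β • w') = α * α * Q w + β * β * Q w' + α * β * QuadraticMap.polar (⇑Q) w w' := by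
  rw [QuadraticMap.map_add (⇑Q), QuadraticMap.map_smul, QuadraticMap.map_smul,
    QuadraticMap.polar_smul_left, QuadraticMap.polar_smul_right]
  simp only [smul_eq_mul]
  ring

/-- the third vector in the three reflections identity -/
def yvec (α β : F) (w w' : Fin n → F) : Fin n → F :=
  (Q w * α + QuadraticMap.polar (⇑Q) w w' * β) • w' - (Q w' * β) • w

theorem Q_yvec (α β : F) (w w' : Fin n → F) :
    Q (yvec Q α β w w') = Q w * Q w' * Q (α • w + β • w') := by
  unfold yvec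
  rw [sub_eq_add_neg, ← neg_smul, Q_lin, Q_lin, QuadraticMap.polar_comm (⇑Q) w' w]
  ring

/-- three reflections theorem in a plane: `r_x r_y = r_w r_w'` -/
theorem three_refl (α β : F) (w w' : Fin n → F) (hw : Q w ≠ 0) (hw' : Q w' ≠ 0)
    (hx : Q (α • w + β • w') ≠ 0) (hy : Q (yvec Q α β w w') ≠ 0) :
    reflEl Q (α • w + β • w') hx * reflEl Q (yvec Q α β w w') hy =
      reflEl Q w hw * reflEl Q w' hw' := by
  apply ext_act
  intro z
  have hξ : Q (α • w + β • w') =
      α * α * Q w + β * β * Q w' + α * β * QuadraticMap.polar (⇑Q) w w' := Q_lin Q α β w w'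
  rw [act_mul, act_mul, reflEl_act, reflEl_act, reflEl_act, reflEl_act, Q_yvec]
  generalize Q (α • w + β • w') = ξ at hx hξ ⊢
  unfold yvec
  simp only [QuadraticMap.polar_sub_right, QuadraticMap.polar_add_right,
    QuadraticMap.polar_smul_right, QuadraticMap.polar_sub_left, QuadraticMap.polar_add_left,
    QuadraticMap.polar_smul_left, smul_eq_mul, Cfsg.Agent.Lib.H4.polar_self,
    QuadraticMap.polar_comm (⇑Q) w' w]
  match_scalars
  · field_simp
  · field_simp
    rw [hξ]
    ring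
  · field_simp
    rw [hξ]
    ring

section finite

variable [Fintype F]

/-- a nondegenerate plane spanned by two vectors of the same norm represents everything -/
theorem binary_rep (h2 : (2 : F) ≠ 0) (w w' : Fin n → F) (c' c : F) (hw : Q w = c')
    (hw' : Q w' = c') (hc' : c' ≠ 0) (hc : c ≠ 0)
    (hD : 4 * c' ^ 2 - (QuadraticMap.polar (⇑Q) w w') ^ 2 ≠ 0) :
    ∃ α β : F, Q (α • w + β • w') = c := by
  have h4 : (4 : F) ≠ 0 := by
    have : (4 : F) = 2 * 2 := by norm_num
    rw [this]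
    exact mul_ne_zero h2 h2
  obtain ⟨x, y, hxy⟩ := Cfsg.Agent.S0756.diag_universal h2 (c' / c)
    ((4 * c' ^ 2 - (QuadraticMap.polar (⇑Q) w w') ^ 2) / (4 * c' * c))
    (div_ne_zero hc' hc) (div_ne_zero hD (mul_ne_zero (mul_ne_zero h4 hc') hc))
  refine ⟨x - QuadraticMap.polar (⇑Q) w w' * y / (2 * c'), y, ?_⟩
  rw [Q_lin, hw, hw']
  field_simp at hxy ⊢
  linear_combination hxy

/-- Case A: the plane `⟨w, w'⟩` is nondegenerate -/
theorem pair_mem_A (h2 : (2 : F) ≠ 0) (c c' : F) (hc : c ≠ 0) (hc' : c' ≠ 0)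
    (H : Subgroup ↥(Cfsg.isometryGroup F ⇑Q))
    (hH : ∀ (v : Fin n → F) (t : F) (hv : Q v ≠ 0), t ≠ 0 → Q v = c * t ^ 2 → reflEl Q v hv ∈ H)
    (w w' : Fin n → F) (hw : Q w = c') (hw' : Q w' = c')
    (hD : 4 * c' ^ 2 - (QuadraticMap.polar (⇑Q) w w') ^ 2 ≠ 0) :
    reflEl Q w (by rw [hw]; exact hc') * reflEl Q w' (by rw [hw']; exact hc') ∈ H := by
  obtain ⟨α, β, hαβ⟩ := binary_rep Q h2 w w' c' c hw hw' hc' hc hD
  have hx : Q (α • w + β • w') ≠ 0 := by rw [hαβ]; exact hc
  have hQy : Q (yvec Q α β w w') = c * c' ^ 2 := by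
    rw [Q_yvec, hαβ, hw, hw']
    ring
  have hy : Q (yvec Q α β w w') ≠ 0 := by
    rw [hQy]
    exact mul_ne_zero hc (pow_ne_zero 2 hc')
  rw [← three_refl Q α β w w' _ _ hx hy]
  exact H.mul_mem (hH _ 1 hx one_ne_zero (by rw [hαβ]; ring)) (hH _ c' hy hc' hQy)

theorem Q_sub_smul (x u : Fin n → F) (t : F) :
    Q (x - t • u) = Q x + t * t * Q u - t * QuadraticMap.polar (⇑Q) x u := by
  rw [sub_eq_add_neg, ← neg_smul, Cfsg.Agent.Lib.H4.Q_add_smul]
  ring

/-- construction (A): large fields -/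
theorem exists_e_A (hQ : (QuadraticMap.polarBilin Q).Nondegenerate) (h2 : (2 : F) ≠ 0)
    (hq : 5 ≤ Fintype.card F) (c' : F) (hc' : c' ≠ 0) (w u : Fin n → F) (hw : Q w = c')
    (hu : Q u = 0) (hwu : QuadraticMap.polar (⇑Q) w u = 0) (hu0 : u ≠ 0) :
    ∃ e : Fin n → F, Q e = c' ∧ QuadraticMap.polar (⇑Q) w e = 0 ∧
      (QuadraticMap.polar (⇑Q) u e) ^ 2 ≠ 4 * c' ^ 2 := by
  classical
  -- a vector not orthogonal to `u`
  obtain ⟨x₀, hx₀⟩ : ∃ x₀, QuadraticMap.polar (⇑Q) u x₀ ≠ 0 := by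
    by_contra h
    push Not at h
    exact hu0 (hQ.1 u h)
  set κ := QuadraticMap.polar (⇑Q) u x₀ with hκ
  have huw : QuadraticMap.polar (⇑Q) u w = 0 := by rw [QuadraticMap.polar_comm]; exact hwu
  have huu : QuadraticMap.polar (⇑Q) u u = 0 := by rw [Cfsg.Agent.Lib.H4.polar_self, hu, mul_zero]
  have hww : QuadraticMap.polar (⇑Q) w w = 2 * c' := by rw [Cfsg.Agent.Lib.H4.polar_self, hw]
  set x' := x₀ - (QuadraticMap.polar (⇑Q) w x₀ / (2 * c')) • w with hx'
  have h1 : QuadraticMap.polar (⇑Q) w x' = 0 := by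
    rw [hx', QuadraticMap.polar_sub_right, QuadraticMap.polar_smul_right, hww, smul_eq_mul]
    field_simp
    ring
  have h3 : QuadraticMap.polar (⇑Q) u x' = κ := by
    rw [hx', QuadraticMap.polar_sub_right, QuadraticMap.polar_smul_right, huw, smul_eq_mul,
      mul_zero, sub_zero]
  set u' := x' - (Q x' / κ) • u with hu'
  have h4 : Q u' = 0 := by
    rw [hu', Q_sub_smul, hu, QuadraticMap.polar_comm (⇑Q) x' u, h3]
    field_simp
    ring
  have h5 : QuadraticMap.polar (⇑Q) w u' = 0 := by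
    rw [hu', QuadraticMap.polar_sub_right, QuadraticMap.polar_smul_right, h1, hwu, smul_eq_mul,
      mul_zero, sub_zero]
  have h6 : QuadraticMap.polar (⇑Q) u u' = κ := by
    rw [hu', QuadraticMap.polar_sub_right, QuadraticMap.polar_smul_right, h3, huu, smul_eq_mul,
      mul_zero, sub_zero]
  -- choose β
  obtain ⟨β, -, hβ⟩ := Finset.exists_mem_notMem_of_card_lt_card
    (s := ({0, 2 * c', -(2 * c')} : Finset F)) (t := Finset.univ) (by
      rw [Finset.card_univ]
      exact lt_of_le_of_lt Finset.card_le_three (by omega))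
  simp only [Finset.mem_insert, Finset.mem_singleton, not_or] at hβ
  obtain ⟨hβ0, hβ1, hβ2⟩ := hβ
  refine ⟨(c' / β) • u + (β / κ) • u', ?_, ?_, ?_⟩
  · rw [Q_lin, hu, h4, h6]
    field_simp
    ring
  · rw [QuadraticMap.polar_add_right, QuadraticMap.polar_smul_right,
      QuadraticMap.polar_smul_right, hwu, h5, smul_eq_mul, smul_eq_mul, mul_zero, mul_zero,
      add_zero]
  · rw [QuadraticMap.polar_add_right, QuadraticMap.polar_smul_right,
      QuadraticMap.polar_smul_right, huu, h6, smul_eq_mul, smul_eq_mul, mul_zero, zero_add,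
      div_mul_cancel₀ _ hx₀]
    intro h
    have : (β - 2 * c') * (β + 2 * c') = 0 := by linear_combination h
    rcases mul_eq_zero.1 this with h' | h'
    · exact hβ1 (by linear_combination h')
    · exact hβ2 (by linear_combination h')

theorem li_pair (w u : Fin n → F) (hw : Q w ≠ 0) (h2 : (2 : F) ≠ 0)
    (hwu : QuadraticMap.polar (⇑Q) w u = 0) (hu0 : u ≠ 0) : LinearIndependent F ![w, u] := by
  rw [LinearIndependent.pair_iff]
  intro s t hst
  have h1 := congrArg (fun x => QuadraticMap.polar (⇑Q) w x) hst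
  simp only [QuadraticMap.polar_add_right, QuadraticMap.polar_smul_right, hwu,
    Cfsg.Agent.Lib.H4.polar_self, smul_eq_mul, mul_zero, add_zero] at h1
  have h0 : QuadraticMap.polar (⇑Q) w 0 = 0 := by
    simp [QuadraticMap.polar]
  rw [h0] at h1
  have hs : s = 0 := by
    rcases mul_eq_zero.1 h1 with h | h
    · exact h
    · exact absurd h (mul_ne_zero h2 hw)
  rw [hs, zero_smul, zero_add] at hst
  exact ⟨hs, (smul_eq_zero.1 hst).resolve_right hu0⟩

/-- a normalised orthogonal basis -/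
theorem exists_good_basis {n' : ℕ} (Q : QuadraticForm F (Fin (n' + 1) → F))
    (hQ : (QuadraticMap.polarBilin Q).Nondegenerate) (h2 : (2 : F) ≠ 0) :
    ∃ b : Module.Basis (Fin (n' + 1)) F (Fin (n' + 1) → F),
      (∀ i j, i ≠ j → QuadraticMap.polar (⇑Q) (b i) (b j) = 0) ∧
      (∀ i, i ≠ Fin.last n' → 2 * Q (b i) = 1) := by
  have hchar : ringChar F ≠ 2 := by
    intro h
    apply h2
    have := CharP.cast_eq_zero F (ringChar F)
    rw [h] at this
    exact_mod_cast this
  obtain ⟨ν, hν⟩ := FiniteField.exists_nonsquare hchar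
  have hS : LinearMap.BilinForm.IsSymm (QuadraticMap.polarBilin Q) := ⟨fun x y => by
    simp only [QuadraticMap.polarBilin_apply_apply]
    rw [QuadraticMap.polar_comm]⟩
  obtain ⟨b, hortho, hone, -⟩ := Cfsg.Agent.S0756.result h2 (QuadraticMap.polarBilin Q) hS hQ
    (by rw [Module.finrank_fin_fun]) ν hν
  refine ⟨b, fun i j h => hortho i j h, ?_⟩
  intro i h
  have := hone i h
  rw [QuadraticMap.polarBilin_apply_apply, Cfsg.Agent.Lib.H4.polar_self] at this
  exact this

/-- construction (B): large dimension, via Witt's theorem -/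
theorem exists_e_B (hQ : (QuadraticMap.polarBilin Q).Nondegenerate) (h2 : (2 : F) ≠ 0)
    (hn : 6 ≤ n) (c' : F) (hc' : c' ≠ 0) (w u : Fin n → F) (hw : Q w = c')
    (hu : Q u = 0) (hwu : QuadraticMap.polar (⇑Q) w u = 0) (hu0 : u ≠ 0) :
    ∃ e : Fin n → F, Q e = c' ∧ QuadraticMap.polar (⇑Q) w e = 0 ∧
      QuadraticMap.polar (⇑Q) u e = 0 := by
  obtain ⟨n', rfl⟩ : ∃ n', n = n' + 1 := ⟨n - 1, by omega⟩
  obtain ⟨b, hpol, hQb⟩ := exists_good_basis Q hQ h2
  let idx : Fin 5 → Fin (n' + 1) := fun k => ⟨k.1, by omega⟩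
  have hidx_inj : ∀ k k', k ≠ k' → idx k ≠ idx k' := by
    intro k k' h h'
    apply h
    have := congrArg Fin.val h'
    exact Fin.ext this
  have hidx_last : ∀ k, idx k ≠ Fin.last n' := by
    intro k h
    have := congrArg Fin.val h
    simp only [idx, Fin.val_last] at this
    omega
  have hp : ∀ k k', k ≠ k' → QuadraticMap.polar (⇑Q) (b (idx k)) (b (idx k')) = 0 :=
    fun k k' h => hpol _ _ (hidx_inj k k' h)
  have hq : ∀ k, 2 * Q (b (idx k)) = 1 := fun k => hQb _ (hidx_last k)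
  have hpp : ∀ k, QuadraticMap.polar (⇑Q) (b (idx k)) (b (idx k)) = 1 := by
    intro k
    rw [Cfsg.Agent.Lib.H4.polar_self, hq]
  have hk : (2 * c')⁻¹ ≠ 0 := inv_ne_zero (mul_ne_zero h2 hc')
  obtain ⟨x, y, hxy⟩ := Cfsg.Agent.S0756.diag_universal h2 (2 * c')⁻¹ (2 * c')⁻¹ hk hk
  have hx : x ^ 2 + y ^ 2 = 2 * c' := by
    field_simp at hxy
    linear_combination hxy
  obtain ⟨α, β, hαβ⟩ := Cfsg.Agent.S0756.diag_universal h2 (-1) (-1)
    (neg_ne_zero.2 one_ne_zero) (neg_ne_zero.2 one_ne_zero)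
  set w₀ := x • b (idx 0) + y • b (idx 1) with hw₀
  set e₀ := y • b (idx 0) + (-x) • b (idx 1) with he₀
  set u₁ := α • b (idx 2) + β • b (idx 3) with hu₁
  set u₀ := u₁ + b (idx 4) with hu₀
  have hQw₀ : Q w₀ = c' := by
    rw [hw₀, Q_lin, hp 0 1 (by decide)]
    apply mul_left_cancel₀ h2
    linear_combination x * x * hq 0 + y * y * hq 1 + hx
  have hQe₀ : Q e₀ = c' := by
    rw [he₀, Q_lin, hp 0 1 (by decide)]
    apply mul_left_cancel₀ h2
    linear_combination y * y * hq 0 + x * x * hq 1 + hx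
  have hwe₀ : QuadraticMap.polar (⇑Q) w₀ e₀ = 0 := by
    rw [hw₀, he₀]
    simp only [QuadraticMap.polar_add_left, QuadraticMap.polar_add_right,
      QuadraticMap.polar_smul_left, QuadraticMap.polar_smul_right, hp 0 1 (by decide),
      hp 1 0 (by decide), hpp, smul_eq_mul]
    ring
  have hu₁4 : QuadraticMap.polar (⇑Q) u₁ (b (idx 4)) = 0 := by
    rw [hu₁]
    simp only [QuadraticMap.polar_add_left, QuadraticMap.polar_smul_left, hp 2 4 (by decide),
      hp 3 4 (by decide), smul_eq_mul, mul_zero, add_zero]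
  have hQu₀ : Q u₀ = 0 := by
    rw [hu₀, QuadraticMap.map_add (⇑Q), hu₁4, hu₁, Q_lin, hp 2 3 (by decide)]
    apply mul_left_cancel₀ h2
    linear_combination α * α * hq 2 + β * β * hq 3 + hq 4 - hαβ
  have hwu₀ : QuadraticMap.polar (⇑Q) w₀ u₀ = 0 := by
    rw [hw₀, hu₀, hu₁]
    simp only [QuadraticMap.polar_add_left, QuadraticMap.polar_add_right,
      QuadraticMap.polar_smul_left, QuadraticMap.polar_smul_right, hp 0 2 (by decide),
      hp 0 3 (by decide), hp 0 4 (by decide), hp 1 2 (by decide), hp 1 3 (by decide),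
      hp 1 4 (by decide), smul_eq_mul, mul_zero, add_zero]
  have heu₀ : QuadraticMap.polar (⇑Q) u₀ e₀ = 0 := by
    rw [he₀, hu₀, hu₁]
    simp only [QuadraticMap.polar_add_left, QuadraticMap.polar_add_right,
      QuadraticMap.polar_smul_left, QuadraticMap.polar_smul_right, hp 2 0 (by decide),
      hp 3 0 (by decide), hp 4 0 (by decide), hp 2 1 (by decide), hp 3 1 (by decide),
      hp 4 1 (by decide), smul_eq_mul, mul_zero, add_zero]
  have hu₀0 : u₀ ≠ 0 := by
    intro h
    have h1 : QuadraticMap.polar (⇑Q) u₀ (b (idx 4)) = 1 := by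
      rw [hu₀, QuadraticMap.polar_add_left, hu₁4, hpp, zero_add]
    rw [h] at h1
    simp [QuadraticMap.polar] at h1
  have hw0 : Q w ≠ 0 := by rw [hw]; exact hc'
  have hw₀0 : Q w₀ ≠ 0 := by rw [hQw₀]; exact hc'
  obtain ⟨g, hg, hgxy⟩ := Cfsg.Agent.S0750.witt_family Q hQ 2 ![w₀, u₀] ![w, u]
    (li_pair Q w₀ u₀ hw₀0 h2 hwu₀ hu₀0) (li_pair Q w u hw0 h2 hwu hu0)
    (by
      intro i
      fin_cases i
      · show Q w = Q w₀
        rw [hw, hQw₀]
      · show Q u = Q u₀
        rw [hu, hQu₀])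
    (by
      intro i j
      fin_cases i <;> fin_cases j
      · show QuadraticMap.polar (⇑Q) w w = QuadraticMap.polar (⇑Q) w₀ w₀
        rw [Cfsg.Agent.Lib.H4.polar_self, Cfsg.Agent.Lib.H4.polar_self, hw, hQw₀]
      · show QuadraticMap.polar (⇑Q) w u = QuadraticMap.polar (⇑Q) w₀ u₀
        rw [hwu, hwu₀]
      · show QuadraticMap.polar (⇑Q) u w = QuadraticMap.polar (⇑Q) u₀ w₀
        rw [QuadraticMap.polar_comm (⇑Q) u w, QuadraticMap.polar_comm (⇑Q) u₀ w₀, hwu, hwu₀]
      · show QuadraticMap.polar (⇑Q) u u = QuadraticMap.polar (⇑Q) u₀ u₀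
        rw [Cfsg.Agent.Lib.H4.polar_self, Cfsg.Agent.Lib.H4.polar_self, hu, hQu₀])
  have hgpol : ∀ a b', QuadraticMap.polar (⇑Q) (g a) (g b') = QuadraticMap.polar (⇑Q) a b' := by
    intro a b'
    simp only [QuadraticMap.polar, ← map_add, hg]
  have hgw : g w₀ = w := hgxy 0
  have hgu : g u₀ = u := hgxy 1
  refine ⟨g e₀, ?_, ?_, ?_⟩
  · rw [hg, hQe₀]
  · rw [← hgw, hgpol, hwe₀]
  · rw [← hgu, hgpol, heu₀]

/-- (C): in dimension 2 a nonsingular vector has no nonzero singular vector orthogonal to it -/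
theorem eq_zero_of_dim_two (Q : QuadraticForm F (Fin 2 → F))
    (hQ : (QuadraticMap.polarBilin Q).Nondegenerate) (h2 : (2 : F) ≠ 0) (w u : Fin 2 → F)
    (hw : Q w ≠ 0) (hu : Q u = 0) (hwu : QuadraticMap.polar (⇑Q) w u = 0) : u = 0 := by
  by_contra hu0
  have hli := li_pair Q w u hw h2 hwu hu0
  let b := basisOfLinearIndependentOfCardEqFinrank hli
    (by rw [Module.finrank_fin_fun, Fintype.card_fin])
  have hb : ⇑b = ![w, u] := coe_basisOfLinearIndependentOfCardEqFinrank hli _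
  apply hu0
  apply hQ.1 u
  intro x
  have hx := b.sum_repr x
  rw [Fin.sum_univ_two, hb] at hx
  simp only [Matrix.cons_val_zero, Matrix.cons_val_one] at hx
  rw [QuadraticMap.polarBilin_apply_apply, ← hx, QuadraticMap.polar_add_right,
    QuadraticMap.polar_smul_right, QuadraticMap.polar_smul_right,
    QuadraticMap.polar_comm (⇑Q) u w, hwu, Cfsg.Agent.Lib.H4.polar_self, hu]
  simp

theorem exists_e (hQ : (QuadraticMap.polarBilin Q).Nondegenerate) (h2 : (2 : F) ≠ 0)
    (hn : 2 ≤ n) (heven : Even n) (h43 : ¬ (n = 4 ∧ Fintype.card F = 3))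
    (c' : F) (hc' : c' ≠ 0) (w u : Fin n → F) (hw : Q w = c')
    (hu : Q u = 0) (hwu : QuadraticMap.polar (⇑Q) w u = 0) (hu0 : u ≠ 0) :
    ∃ e : Fin n → F, Q e = c' ∧ QuadraticMap.polar (⇑Q) w e = 0 ∧
      (QuadraticMap.polar (⇑Q) u e) ^ 2 ≠ 4 * c' ^ 2 := by
  by_cases hq : 5 ≤ Fintype.card F
  · exact exists_e_A Q hQ h2 hq c' hc' w u hw hu hwu hu0
  · have h1 := Cfsg.Agent.S0756.card_odd_of_two_ne_zero h2
    have h3 : 1 < Fintype.card F := Fintype.one_lt_card
    have hq3 : Fintype.card F = 3 := by omega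
    have hn4 : n ≠ 4 := fun h => h43 ⟨h, hq3⟩
    obtain ⟨k, hk⟩ := heven
    have hcases : n = 2 ∨ 6 ≤ n := by omega
    rcases hcases with rfl | h6
    · exfalso
      exact hu0 (eq_zero_of_dim_two Q hQ h2 w u (by rw [hw]; exact hc') hu hwu)
    · obtain ⟨e, he1, he2, he3⟩ := exists_e_B Q hQ h2 h6 c' hc' w u hw hu hwu hu0
      refine ⟨e, he1, he2, ?_⟩
      rw [he3]
      have h4 : (4 : F) ≠ 0 := by
        have : (4 : F) = 2 * 2 := by norm_num
        rw [this]
        exact mul_ne_zero h2 h2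
      have := mul_ne_zero h4 (pow_ne_zero 2 hc')
      intro h
      apply this
      rw [← h]
      ring

theorem reflEl_neg (v : Fin n → F) (hv : Q v ≠ 0) (hnv : Q (-v) ≠ 0) :
    reflEl Q (-v) hnv = reflEl Q v hv := by
  have h1 : Q ((-1 : F) • v) ≠ 0 := by rw [neg_one_smul]; exact hnv
  rw [← reflEl_smul Q v hv (-1) (neg_ne_zero.2 one_ne_zero) h1]
  exact reflEl_congr Q _ _ _ _ (neg_one_smul F v).symm

/-- degenerate plane, `B(w, w') = 2 c'` -/
theorem pair_mem_deg (hQ : (QuadraticMap.polarBilin Q).Nondegenerate) (h2 : (2 : F) ≠ 0)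
    (hn : 2 ≤ n) (heven : Even n) (h43 : ¬ (n = 4 ∧ Fintype.card F = 3))
    (c c' : F) (hc : c ≠ 0) (hc' : c' ≠ 0)
    (H : Subgroup ↥(Cfsg.isometryGroup F ⇑Q))
    (hH : ∀ (v : Fin n → F) (t : F) (hv : Q v ≠ 0), t ≠ 0 → Q v = c * t ^ 2 → reflEl Q v hv ∈ H)
    (w w' : Fin n → F) (hw : Q w = c') (hw' : Q w' = c')
    (hb : QuadraticMap.polar (⇑Q) w w' = 2 * c') :
    reflEl Q w (by rw [hw]; exact hc') * reflEl Q w' (by rw [hw']; exact hc') ∈ H := by
  have h4 : (4 : F) ≠ 0 := by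
    have : (4 : F) = 2 * 2 := by norm_num
    rw [this]
    exact mul_ne_zero h2 h2
  have hu : Q (w - w') = 0 := by
    rw [Q_sub, hw, hw', hb]
    ring
  have hwu : QuadraticMap.polar (⇑Q) w (w - w') = 0 := by
    rw [QuadraticMap.polar_sub_right, Cfsg.Agent.Lib.H4.polar_self, hw, hb, sub_self]
  by_cases hu0 : w - w' = 0
  · have hww' : w = w' := sub_eq_zero.1 hu0
    subst hww'
    rw [reflEl_mul_self]
    exact H.one_mem
  · obtain ⟨e, he, hwe, hue⟩ := exists_e Q hQ h2 hn heven h43 c' hc' w (w - w') hw hu hwu hu0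
    have hD1 : 4 * c' ^ 2 - (QuadraticMap.polar (⇑Q) w e) ^ 2 ≠ 0 := by
      rw [hwe]
      have := mul_ne_zero h4 (pow_ne_zero 2 hc')
      intro h
      apply this
      rw [← h]
      ring
    have hew' : QuadraticMap.polar (⇑Q) e w' = -QuadraticMap.polar (⇑Q) (w - w') e := by
      rw [QuadraticMap.polar_sub_left, hwe, QuadraticMap.polar_comm (⇑Q) w' e]
      ring
    have hD2 : 4 * c' ^ 2 - (QuadraticMap.polar (⇑Q) e w') ^ 2 ≠ 0 := by
      rw [hew']
      intro h
      apply hue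
      linear_combination -h
    have m1 := pair_mem_A Q h2 c c' hc hc' H hH w e hw he hD1
    have m2 := pair_mem_A Q h2 c c' hc hc' H hH e w' he hw' hD2
    have := H.mul_mem m1 m2
    rw [mul_assoc, ← mul_assoc (reflEl Q e _), reflEl_mul_self, one_mul] at this
    exact this

theorem pair_mem (hQ : (QuadraticMap.polarBilin Q).Nondegenerate) (h2 : (2 : F) ≠ 0)
    (hn : 2 ≤ n) (heven : Even n) (h43 : ¬ (n = 4 ∧ Fintype.card F = 3))
    (c c' : F) (hc : c ≠ 0) (hc' : c' ≠ 0)
    (H : Subgroup ↥(Cfsg.isometryGroup F ⇑Q))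
    (hH : ∀ (v : Fin n → F) (t : F) (hv : Q v ≠ 0), t ≠ 0 → Q v = c * t ^ 2 → reflEl Q v hv ∈ H)
    (w w' : Fin n → F) (hw : Q w = c') (hw' : Q w' = c') :
    reflEl Q w (by rw [hw]; exact hc') * reflEl Q w' (by rw [hw']; exact hc') ∈ H := by
  by_cases hD : 4 * c' ^ 2 - (QuadraticMap.polar (⇑Q) w w') ^ 2 ≠ 0
  · exact pair_mem_A Q h2 c c' hc hc' H hH w w' hw hw' hD
  · rw [not_not] at hD
    have : (QuadraticMap.polar (⇑Q) w w' - 2 * c') * (QuadraticMap.polar (⇑Q) w w' + 2 * c') = 0 := by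
      linear_combination -hD
    rcases mul_eq_zero.1 this with h | h
    · exact pair_mem_deg Q hQ h2 hn heven h43 c c' hc hc' H hH w w' hw hw'
        (by linear_combination h)
    · have hnw' : Q (-w') = c' := by rw [QuadraticMap.map_neg, hw']
      have := pair_mem_deg Q hQ h2 hn heven h43 c c' hc hc' H hH w (-w') hw hnw'
        (by rw [QuadraticMap.polar_neg_right]; linear_combination -h)
      rw [reflEl_neg Q w' (by rw [hw']; exact hc')] at this
      exact this

theorem aux1 {G : Type*} [Group G] (x y r : G) (hr : r * r = 1) :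
    x * y * r = (x * r) * (r * y * r) := by
  have : r * (r * (y * r)) = y * r := by rw [← mul_assoc, hr, one_mul]
  simp only [mul_assoc, this]

theorem aux2 {G : Type*} [Group G] (x y r : G) (hr : r * r = 1) :
    x * y = (x * r) * (r * y) := by
  have : r * (r * y) = y := by rw [← mul_assoc, hr, one_mul]
  simp only [mul_assoc, this]

theorem aux3 {G : Type*} [Group G] (y r : G) (hr : r * r = 1) :
    r * (y * r) * r = r * y := by
  rw [mul_assoc r, mul_assoc y, hr, mul_one]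

theorem aux4 {G : Type*} [Group G] (x r : G) (hr : r * r = 1) :
    r * (x * r)⁻¹ * r = x⁻¹ * r := by
  have hinv : r⁻¹ = r := inv_eq_of_mul_eq_one_left hr
  rw [_root_.mul_inv_rev, hinv, ← mul_assoc, hr, one_mul]

/-- the generating set of the statement -/
def gensC (c : F) : Set ↥(Cfsg.isometryGroup F ⇑Q) :=
  {g | ∃ (v : Fin n → F) (t : F), t ≠ 0 ∧ Q v = c * t ^ 2 ∧
    ((g : GL (Fin n) F) : Matrix (Fin n) (Fin n) F) = Cfsg.reflectionMatrix ⇑Q v}

theorem conj_mem_gensC (c : F) (hc : c ≠ 0) (g s : ↥(Cfsg.isometryGroup F ⇑Q))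
    (hs : s ∈ gensC Q c) : g * s * g⁻¹ ∈ gensC Q c := by
  obtain ⟨v, t, ht, hv, hs⟩ := hs
  have hv0 : Q v ≠ 0 := by
    rw [hv]
    exact mul_ne_zero hc (pow_ne_zero 2 ht)
  have hsv : s = reflEl Q v hv0 := Subtype.ext (Units.ext hs)
  have hgv : Q (act Q g v) ≠ 0 := by rw [Q_act]; exact hv0
  refine ⟨act Q g v, t, ht, by rw [Q_act, hv], ?_⟩
  rw [hsv, reflEl_conj Q g v hv0 hgv]
  rfl

theorem closure_normal (c : F) (hc : c ≠ 0) : (Subgroup.closure (gensC Q c)).Normal := by
  constructor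
  intro h hh g
  induction hh using Subgroup.closure_induction with
  | mem s hs => exact Subgroup.subset_closure (conj_mem_gensC Q c hc g s hs)
  | one => simp
  | mul x y _ _ hx hy =>
    have : g * (x * y) * g⁻¹ = (g * x * g⁻¹) * (g * y * g⁻¹) := by group
    rw [this]
    exact mul_mem hx hy
  | inv x _ hx =>
    have : g * x⁻¹ * g⁻¹ = (g * x * g⁻¹)⁻¹ := by group
    rw [this]
    exact inv_mem hx

open scoped Classical in
/-- reflections in vectors of one square class generate a subgroup of index 2 -/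
theorem index_two (hQ : (QuadraticMap.polarBilin Q).Nondegenerate) (h2 : (2 : F) ≠ 0)
    (hn : 2 ≤ n) (heven : Even n) (h43 : ¬ (n = 4 ∧ Fintype.card F = 3))
    (c : F) (hc : c ≠ 0) : (Subgroup.closure (gensC Q c)).index = 2 := by
  set H := Subgroup.closure (gensC Q c) with hHdef
  have hHn : H.Normal := closure_normal Q c hc
  have hH : ∀ (v : Fin n → F) (t : F) (hv : Q v ≠ 0), t ≠ 0 → Q v = c * t ^ 2 →
      reflEl Q v hv ∈ H := by
    intro v t hv ht hvt
    exact Subgroup.subset_closure ⟨v, t, ht, hvt, rfl⟩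
  have hchar : ringChar F ≠ 2 := by
    intro h
    apply h2
    have := CharP.cast_eq_zero F (ringChar F)
    rw [h] at this
    exact_mod_cast this
  obtain ⟨ν, hν⟩ := FiniteField.exists_nonsquare hchar
  have hν0 : ν ≠ 0 := by
    rintro rfl
    exact hν ⟨0, by simp⟩
  have hc' : ν * c ≠ 0 := mul_ne_zero hν0 hc
  obtain ⟨w₀, hw₀⟩ := exists_Q_eq Q hQ h2 hn (ν * c) hc'
  have hw₀0 : Q w₀ ≠ 0 := by rw [hw₀]; exact hc'
  set r₀ := reflEl Q w₀ hw₀0 with hr₀
  have hr₀r₀ : r₀ * r₀ = 1 := reflEl_mul_self Q w₀ hw₀0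
  have hr₀inv : r₀⁻¹ = r₀ := inv_eq_of_mul_eq_one_left hr₀r₀
  -- H is contained in the kernel of the sign character
  have hker : H ≤ (chi Q (ν * c)).ker := by
    rw [hHdef, Subgroup.closure_le]
    rintro s ⟨v, t, ht, hv, hs⟩
    have hv0 : Q v ≠ 0 := by
      rw [hv]
      exact mul_ne_zero hc (pow_ne_zero 2 ht)
    have hsv : s = reflEl Q v hv0 := Subtype.ext (Units.ext hs)
    rw [SetLike.mem_coe, MonoidHom.mem_ker, hsv, chi_reflEl Q h2 v hv0 (ν * c) hc', if_neg]
    rintro ⟨x, hx⟩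
    rw [hv] at hx
    apply hν
    refine ⟨t * x, ?_⟩
    apply mul_left_cancel₀ hc
    linear_combination -hx
  have hr₀ker : r₀ ∉ H := by
    intro h
    have := hker h
    rw [MonoidHom.mem_ker, hr₀, chi_reflEl Q h2 w₀ hw₀0 (ν * c) hc',
      if_pos ⟨1, by rw [hw₀]; ring⟩] at this
    exact absurd this (by decide)
  -- every element lies in `H` or in `H r₀`
  have hclaim : ∀ g : ↥(Cfsg.isometryGroup F ⇑Q), g ∈ H ∨ g * r₀ ∈ H := by
    intro g
    have hg := cartan_dieudonne Q hQ h2 g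
    induction hg using Subgroup.closure_induction with
    | mem r hr =>
      obtain ⟨u, hu, hr⟩ := hr
      have hru : r = reflEl Q u hu := Subtype.ext (Units.ext hr)
      obtain ⟨l, hl, hl'⟩ := Cfsg.Agent.S0756.square_class h2 ν hν (Q u / c) (div_ne_zero hu hc)
      rcases hl' with hl' | hl'
      · left
        rw [hru]
        apply hH u l hu hl
        field_simp at hl'
        linear_combination hl'
      · right
        have hQu : Q u = ν * c * (l * l) := by
          field_simp at hl'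
          linear_combination hl'
        have hlu : Q (l⁻¹ • u) = ν * c := by
          rw [QuadraticMap.map_smul, hQu, smul_eq_mul]
          field_simp
        have hlu0 : Q (l⁻¹ • u) ≠ 0 := by rw [hlu]; exact hc'
        have := pair_mem Q hQ h2 hn heven h43 c (ν * c) hc hc' H hH (l⁻¹ • u) w₀ hlu hw₀
        rw [reflEl_smul Q u hu l⁻¹ (inv_ne_zero hl) hlu0] at this
        rw [hru]
        exact this
    | one => left; exact H.one_mem
    | mul x y _ _ hx hy =>
      rcases hx with hx | hx <;> rcases hy with hy | hy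
      · left; exact H.mul_mem hx hy
      · right
        rw [mul_assoc]
        exact H.mul_mem hx hy
      · right
        have h1 := hHn.conj_mem y hy r₀
        rw [hr₀inv] at h1
        have h3 : x * y * r₀ = (x * r₀) * (r₀ * y * r₀) := aux1 x y r₀ hr₀r₀
        rw [h3]
        exact H.mul_mem hx h1
      · left
        have h1 := hHn.conj_mem (y * r₀) hy r₀
        rw [hr₀inv, aux3 y r₀ hr₀r₀] at h1
        have h3 : x * y = (x * r₀) * (r₀ * y) := aux2 x y r₀ hr₀r₀
        rw [h3]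
        exact H.mul_mem hx h1
    | inv x _ hx =>
      rcases hx with hx | hx
      · left; exact H.inv_mem hx
      · right
        have h1 := hHn.conj_mem _ (H.inv_mem hx) r₀
        rw [hr₀inv, aux4 x r₀ hr₀r₀] at h1
        exact h1
  rw [Subgroup.index_eq_two_iff]
  refine ⟨r₀, fun b => ?_⟩
  rcases hclaim b with hb | hb
  · refine Or.inr ⟨hb, fun hbr => ?_⟩
    apply hr₀ker
    have := H.mul_mem (H.inv_mem hb) hbr
    rw [inv_mul_cancel_left] at this
    exact this
  · refine Or.inl ⟨hb, fun hb' => ?_⟩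
    apply hr₀ker
    have := H.mul_mem (H.inv_mem hb') hb
    rw [inv_mul_cancel_left] at this
    exact this

end finite

end Cfsg.Agent.Lib.H11.ReflClass
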