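/-
S2524 (architect helper19, route U), GROUP SIDE part 1: fact (g1) of tools/blueprints/S2524_U.md.
`S` commutes with `K1`, `T1`, `m1`; `Q'', GL'' ≤ S`; `S` is generated by the `S`-conjugates of `Q''`.
-/
import Mathlib
import Cfsg.Agent.Lib.H11.S2524G0
import Cfsg.Agent.Lib.H2.SpPerfect

set_option autoImplicit false
set_option linter.unusedSimpArgs false

namespace Cfsg.Agent.Lib.H11.SpU

open Matrix Cfsg.Agent.Lib.H12.LS2 Cfsg.Agent.Lib.H5.LS2 Cfsg.Agent.Lib.H2.Sp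

variable {F : Type*} [Field F] {n m : ℕ}

/-! ### the action on vectors -/

theorem tEl_mulVec (X : Symm n F) (u : Fin n ⊕ Fin n → F) :
    ((tEl X : Sp n F) : Matrix (Fin n ⊕ Fin n) (Fin n ⊕ Fin n) F) *ᵥ u =
      Sum.elim (u ∘ Sum.inl + (X : Matrix (Fin n) (Fin n) F) *ᵥ (u ∘ Sum.inr)) (u ∘ Sum.inr) := by
  rw [tEl_val, Matrix.fromBlocks_mulVec]
  simp

theorem tmEl_mulVec (X : Symm n F) (u : Fin n ⊕ Fin n → F) :
    ((tmEl X : Sp n F) : Matrix (Fin n ⊕ Fin n) (Fin n ⊕ Fin n) F) *ᵥ u =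
      Sum.elim (u ∘ Sum.inl) ((X : Matrix (Fin n) (Fin n) F) *ᵥ (u ∘ Sum.inl) + u ∘ Sum.inr) := by
  rw [tmEl_val, Matrix.fromBlocks_mulVec]
  simp

theorem lEl_mulVec (g : GL (Fin n) F) (u : Fin n ⊕ Fin n → F) :
    ((lEl g : Sp n F) : Matrix (Fin n ⊕ Fin n) (Fin n ⊕ Fin n) F) *ᵥ u =
      Sum.elim (g.1 *ᵥ (u ∘ Sum.inl)) (((g⁻¹ : GL (Fin n) F).1)ᵀ *ᵥ (u ∘ Sum.inr)) := by
  rw [lEl_val, Matrix.fromBlocks_mulVec]
  simp

theorem blk_mulVec_castSucc (g : Matrix (Fin m) (Fin m) F) (s : F) (p : Fin (m + 1) → F)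
    (i : Fin m) : (blk g s *ᵥ p) (Fin.castSucc i) = (g *ᵥ (p ∘ Fin.castSucc)) i := by
  simp [Matrix.mulVec, dotProduct, Fin.sum_univ_castSucc]

theorem blk_mulVec_last (g : Matrix (Fin m) (Fin m) F) (s : F) (p : Fin (m + 1) → F) :
    (blk g s *ᵥ p) (Fin.last m) = s * p (Fin.last m) := by
  simp [Matrix.mulVec, dotProduct, Fin.sum_univ_castSucc]

theorem emb_inl (i : Fin m) : (emb (Sum.inl i) : K (m + 1)) = Sum.inl (Fin.castSucc i) := rfl

theorem emb_inr (i : Fin m) : (emb (Sum.inr i) : K (m + 1)) = Sum.inr (Fin.castSucc i) := rfl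

theorem ia_eq : (ia : K (m + 1)) = Sum.inl (Fin.last m) := rfl

theorem ib_eq : (ib : K (m + 1)) = Sum.inr (Fin.last m) := rfl

theorem psi_mulVec (B : Sp m F) (u : K (m + 1) → F) :
    ((psi B : Sp (m + 1) F) : Matrix (K (m + 1)) (K (m + 1)) F) *ᵥ u = L B.1 u := by
  rw [psi_val, ext_mulVec]

/-- an element acting only on the coordinates `e_*`, `f_*` commutes with `S` -/
theorem psi_comm_of_local (M : Sp (m + 1) F) (a b c d : F)
    (h1 : ∀ u i, (M.1 *ᵥ u) (emb i) = u (emb i))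
    (h2 : ∀ u, (M.1 *ᵥ u) ia = a * u ia + b * u ib)
    (h3 : ∀ u, (M.1 *ᵥ u) ib = c * u ia + d * u ib) (B : Sp m F) :
    psi B * M = M * psi B := by
  apply Subtype.ext
  rw [Submonoid.coe_mul, Submonoid.coe_mul, Matrix.ext_iff_mulVec]
  intro u
  rw [← Matrix.mulVec_mulVec, ← Matrix.mulVec_mulVec, psi_mulVec, psi_mulVec]
  have h1' : ∀ u, (M.1 *ᵥ u) ∘ emb = u ∘ emb := fun u => funext (h1 u)
  apply vec_ext
  · intro i
    rw [L_emb, h1, L_emb, h1']
  · rw [L_ia, h2, h2, L_ia, L_ib]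
  · rw [L_ib, h3, h3, L_ia, L_ib]

theorem single_last_mulVec_castSucc (c : F) (q : Fin (m + 1) → F) (i : Fin m) :
    (Matrix.single (Fin.last m) (Fin.last m) c *ᵥ q) (Fin.castSucc i) = 0 := by
  rw [Matrix.single_mulVec, Function.update_of_ne (Fin.castSucc_ne_last i)]
  rfl

theorem single_last_mulVec_last (c : F) (q : Fin (m + 1) → F) :
    (Matrix.single (Fin.last m) (Fin.last m) c *ᵥ q) (Fin.last m) = c * q (Fin.last m) := by
  rw [Matrix.single_mulVec, Function.update_self]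

theorem psi_comm_u1 (B : Sp m F) (c : F) :
    psi B * tEl (symE (Fin.last m) c) = tEl (symE (Fin.last m) c) * psi B := by
  apply psi_comm_of_local _ 1 c 0 1
  · intro u i
    rw [tEl_mulVec, symE_val]
    rcases i with i | i
    · rw [emb_inl, Sum.elim_inl, Pi.add_apply, single_last_mulVec_castSucc, add_zero]; rfl
    · rw [emb_inr, Sum.elim_inr]; rfl
  · intro u
    rw [tEl_mulVec, symE_val, ia_eq, Sum.elim_inl, Pi.add_apply, single_last_mulVec_last, one_mul]
    rfl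
  · intro u
    rw [tEl_mulVec, ib_eq, Sum.elim_inr, zero_mul, one_mul, zero_add]; rfl

theorem psi_comm_u1m (B : Sp m F) (c : F) :
    psi B * tmEl (symE (Fin.last m) c) = tmEl (symE (Fin.last m) c) * psi B := by
  apply psi_comm_of_local _ 1 0 c 1
  · intro u i
    rw [tmEl_mulVec, symE_val]
    rcases i with i | i
    · rw [emb_inl, Sum.elim_inl]; rfl
    · rw [emb_inr, Sum.elim_inr, Pi.add_apply, single_last_mulVec_castSucc, zero_add]; rfl
  · intro u
    rw [tmEl_mulVec, ia_eq, Sum.elim_inl, zero_mul, one_mul, add_zero]; rfl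
  · intro u
    rw [tmEl_mulVec, symE_val, ib_eq, Sum.elim_inr, Pi.add_apply, single_last_mulVec_last, one_mul]
    rfl

theorem glT1_inv_val_transpose (s : Fˣ) :
    (((glT1 (m := m) s)⁻¹ : GL (Fin (m + 1)) F).1)ᵀ = blk (1 : Matrix (Fin m) (Fin m) F) (s⁻¹ : Fˣ).1 := by
  rw [← map_inv, glT1_val, blk_transpose, Matrix.transpose_one]

theorem psi_comm_t1 (B : Sp m F) (s : Fˣ) :
    psi B * lEl (glT1 (m := m) s) = lEl (glT1 (m := m) s) * psi B := by
  apply psi_comm_of_local _ s.1 0 0 (s⁻¹ : Fˣ).1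
  · intro u i
    rw [lEl_mulVec, glT1_inv_val_transpose, glT1_val]
    rcases i with i | i
    · rw [emb_inl, Sum.elim_inl, blk_mulVec_castSucc, Matrix.one_mulVec]; rfl
    · rw [emb_inr, Sum.elim_inr, blk_mulVec_castSucc, Matrix.one_mulVec]; rfl
  · intro u
    rw [lEl_mulVec, glT1_val, ia_eq, Sum.elim_inl, blk_mulVec_last, zero_mul, add_zero]; rfl
  · intro u
    rw [lEl_mulVec, glT1_inv_val_transpose, ib_eq, Sum.elim_inr, blk_mulVec_last, zero_mul,
      zero_add]; rfl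

/-- **(g1)** `S` commutes with `K1` -/
theorem Ss_comm_K1 {s k : Sp (m + 1) F} (hs : s ∈ Ss m F) (hk : k ∈ K1 m F) : s * k = k * s := by
  obtain ⟨B, rfl⟩ := hs
  have h : K1 m F ≤ Subgroup.centralizer {psi B} := by
    rw [K1, sup_le_iff]
    constructor
    · intro k hk
      obtain ⟨c, rfl⟩ := mem_U1.1 hk
      rw [Subgroup.mem_centralizer_iff]
      intro h hh
      rw [Set.mem_singleton_iff] at hh
      rw [hh]
      exact psi_comm_u1 B c
    · intro k hk
      obtain ⟨c, rfl⟩ := mem_U1m.1 hk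
      rw [Subgroup.mem_centralizer_iff]
      intro h hh
      rw [Set.mem_singleton_iff] at hh
      rw [hh]
      exact psi_comm_u1m B c
  have := h hk
  rw [Subgroup.mem_centralizer_iff] at this
  exact this _ rfl

/-- **(g1)** `S` commutes with `T1` -/
theorem Ss_comm_T1 {s k : Sp (m + 1) F} (hs : s ∈ Ss m F) (hk : k ∈ T1 m F) : s * k = k * s := by
  obtain ⟨B, rfl⟩ := hs
  obtain ⟨t, rfl⟩ := mem_T1.1 hk
  exact psi_comm_t1 B t

/-- **(g1)** `S` commutes with `m1` -/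
theorem Ss_comm_m1 {s : Sp (m + 1) F} (hs : s ∈ Ss m F) : s * m1 m F = m1 m F * s :=
  Ss_comm_T1 hs m1_mem_T1


/-! ### `Q''` and `GL''` lie in `S` -/

/-- the symmetric matrix `X'' ⊕ 0` -/
def symExt (X : Symm m F) : Symm (m + 1) F :=
  ⟨blk (X : Matrix (Fin m) (Fin m) F) 0, by
    rw [mem_Symm, blk_transpose, (mem_Symm _ _).1 X.2]⟩

@[simp] theorem symExt_val (X : Symm m F) :
    ((symExt X : Symm (m + 1) F) : Matrix (Fin (m + 1)) (Fin (m + 1)) F) =
      blk (X : Matrix (Fin m) (Fin m) F) 0 := rfl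

theorem symExt_mem_symPP (X : Symm m F) : symExt X ∈ symPP m F := by
  intro i
  rw [symExt_val]
  refine Fin.lastCases ?_ (fun i' => ?_) i <;> simp

/-- the upper left `m × m` block of a symmetric matrix -/
def symRes (X : Symm (m + 1) F) : Symm m F :=
  ⟨(X : Matrix (Fin (m + 1)) (Fin (m + 1)) F).submatrix Fin.castSucc Fin.castSucc, by
    rw [mem_Symm, Matrix.transpose_submatrix, (mem_Symm _ _).1 X.2]⟩

theorem symExt_symRes {X : Symm (m + 1) F} (hX : X ∈ symPP m F) : symExt (symRes X) = X := by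
  apply Subtype.ext
  rw [symExt_val]
  ext i j
  refine Fin.lastCases ?_ (fun i' => ?_) i <;> refine Fin.lastCases ?_ (fun j' => ?_) j
  · rw [blk_ll, hX (Fin.last m)]
  · rw [blk_lc, symPP_row hX]
  · rw [blk_cl, hX]
  · rw [blk_cc]; rfl

theorem psi_tEl (X : Symm m F) : psi (tEl X) = (tEl (symExt X) : Sp (m + 1) F) := by
  apply Subtype.ext
  rw [Matrix.ext_iff_mulVec]
  intro u
  rw [psi_mulVec, tEl_mulVec, symExt_val]
  apply vec_ext
  · intro i
    rw [L_emb, tEl_mulVec]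
    rcases i with i | i
    · rw [emb_inl, Sum.elim_inl, Sum.elim_inl, Pi.add_apply, Pi.add_apply, blk_mulVec_castSucc]
      rfl
    · rw [emb_inr, Sum.elim_inr, Sum.elim_inr]; rfl
  · rw [L_ia, ia_eq, Sum.elim_inl, Pi.add_apply, blk_mulVec_last, zero_mul, add_zero]; rfl
  · rw [L_ib, ib_eq, Sum.elim_inr]; rfl

theorem psi_lEl (g : GL (Fin m) F) : psi (lEl g) = (lEl (glPP g) : Sp (m + 1) F) := by
  apply Subtype.ext
  rw [Matrix.ext_iff_mulVec]
  intro u
  have hinv : (((glPP g)⁻¹ : GL (Fin (m + 1)) F).1)ᵀ = blk ((g⁻¹ : GL (Fin m) F).1)ᵀ 1 := by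
    rw [← map_inv, glPP_val, blk_transpose]
  rw [psi_mulVec, lEl_mulVec, hinv, glPP_val]
  apply vec_ext
  · intro i
    rw [L_emb, lEl_mulVec]
    rcases i with i | i
    · rw [emb_inl, Sum.elim_inl, Sum.elim_inl, blk_mulVec_castSucc]; rfl
    · rw [emb_inr, Sum.elim_inr, Sum.elim_inr, blk_mulVec_castSucc]; rfl
  · rw [L_ia, ia_eq, Sum.elim_inl, blk_mulVec_last, one_mul]; rfl
  · rw [L_ib, ib_eq, Sum.elim_inr, blk_mulVec_last, one_mul]; rfl

/-- **(g1)** `Q'' ≤ S` -/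
theorem Qpp_le_Ss : Qpp m F ≤ Ss m F := by
  intro g hg
  obtain ⟨X, hX, rfl⟩ := mem_Qpp.1 hg
  exact ⟨tEl (symRes X), by rw [psi_tEl, symExt_symRes hX]⟩

/-- `Q''` is the image of the Siegel radical of `Sp_2m` under `psi` -/
theorem mem_Qpp_iff_psi {g : Sp (m + 1) F} : g ∈ Qpp m F ↔ ∃ X : Symm m F, psi (tEl X) = g := by
  constructor
  · intro hg
    obtain ⟨X, hX, rfl⟩ := mem_Qpp.1 hg
    exact ⟨symRes X, by rw [psi_tEl, symExt_symRes hX]⟩
  · rintro ⟨X, rfl⟩
    rw [psi_tEl]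
    exact mem_Qpp.2 ⟨_, symExt_mem_symPP X, rfl⟩

/-- **(g1)** `GL'' ≤ S` -/
theorem GLpp_le_Ss : GLpp m F ≤ Ss m F := by
  intro g hg
  obtain ⟨h, rfl⟩ := mem_GLpp.1 hg
  exact ⟨lEl h, psi_lEl h⟩

/-! ### `S` is generated by the `S`-conjugates of `Q''` -/

theorem sympForm_single_inl (x : K n → F) (i : Fin n) :
    Cfsg.sympForm n F x (Pi.single (Sum.inl i) 1) = x (Sum.inr i) := by
  rw [sympForm_eq]
  rw [Finset.sum_eq_single i]
  · simp
  · intro j _ hj
    simp [hj]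
  · intro h
    exact absurd (Finset.mem_univ i) h

theorem tv_single_inl (i : Fin n) (c : F) :
    tv n (Pi.single (Sum.inl i) 1) c = (tEl (symE i c) : Sp n F) := by
  apply Subtype.ext
  rw [Matrix.ext_iff_mulVec]
  intro x
  rw [tv_mulVec, tEl_mulVec, sympForm_single_inl, symE_val, Matrix.single_mulVec]
  funext k
  rcases k with k | k
  · rw [Sum.elim_inl, Pi.add_apply, Pi.add_apply, Pi.smul_apply, smul_eq_mul]
    by_cases hk : k = i
    · subst hk
      rw [Pi.single_eq_same, Function.update_self, mul_one]; rfl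
    · rw [Pi.single_eq_of_ne (by simpa using hk), Function.update_of_ne hk, mul_zero]; rfl
  · rw [Sum.elim_inr, Pi.add_apply, Pi.smul_apply, smul_eq_mul,
      Pi.single_eq_of_ne (by simp), mul_zero, add_zero]; rfl

theorem tv_zero_left (c : F) : tv n (0 : K n → F) c = 1 := by
  apply Subtype.ext
  rw [Matrix.ext_iff_mulVec]
  intro x
  rw [tv_mulVec, smul_zero, add_zero]
  simp

/-- **(g1)** `S` is generated by the `S`-conjugates of `Q''` -/
theorem Ss_eq_closure_conj_Qpp :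
    Ss m F = Subgroup.closure {g | ∃ s ∈ Ss m F, ∃ q ∈ Qpp m F, g = s * q * s⁻¹} := by
  apply le_antisymm
  · rintro g ⟨B, rfl⟩
    have hB : B ∈ TS F m := by rw [TS_eq_top]; exact Subgroup.mem_top _
    have hmap : (TS F m).map psi ≤
        Subgroup.closure {g | ∃ s ∈ Ss m F, ∃ q ∈ Qpp m F, g = s * q * s⁻¹} := by
      unfold TS
      rw [MonoidHom.map_closure, Subgroup.closure_le]
      rintro _ ⟨g, ⟨v, c, rfl⟩, rfl⟩
      by_cases hv : v = 0
      · rw [hv, tv_zero_left, map_one]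
        exact Subgroup.one_mem _
      · have hex : ∃ k, v k ≠ 0 := by
          by_contra hcon
          simp only [not_exists, not_not] at hcon
          exact hv (funext hcon)
        obtain ⟨k, -⟩ := hex
        have i0 : Fin m := by
          rcases k with k | k <;> exact k
        have he : (Pi.single (Sum.inl i0) 1 : K m → F) ≠ 0 := by
          intro h
          have := congrFun h (Sum.inl i0)
          simp at this
        obtain ⟨g, -, hg⟩ := TS_transitive m _ v he hv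
        apply Subgroup.subset_closure
        refine ⟨psi g, ⟨g, rfl⟩, psi (tEl (symE i0 c)), mem_Qpp_iff_psi.2 ⟨_, rfl⟩, ?_⟩
        rw [← hg, ← conj_tv, tv_single_inl, map_mul, map_mul, map_inv]
    exact hmap ⟨B, hB, rfl⟩
  · rw [Subgroup.closure_le]
    rintro _ ⟨s, hs, q, hq, rfl⟩
    exact mul_mem (mul_mem hs (Qpp_le_Ss hq)) (inv_mem hs)

end Cfsg.Agent.Lib.H11.SpU
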