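/-
S2524 (architect helper19, route U), GROUP SIDE part 1b: fact (g1), second half.
`R1 = psi(J) A' psi(J)⁻¹`, `Hs ≤ closure of the S-conjugates of As`, the intrinsic description of the Heisenberg group
`Hs = {g : g e_* = e_*, g x - x ∈ F e_* for x ⊥ e_*}`, `S` and `T1` normalise `Hs`, `Hs = As · R1`.
-/
import Mathlib
import Cfsg.Agent.Lib.H11.S2524G1

set_option autoImplicit false
set_option linter.unusedSimpArgs false

namespace Cfsg.Agent.Lib.H11.SpU

open Matrix Cfsg.Agent.Lib.H12.LS2 Cfsg.Agent.Lib.H5.LS2 Cfsg.Agent.Lib.H2.Sp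

variable {F : Type*} [Field F] {n m : ℕ}

/-! ### coordinates -/

omit [Field F] in
theorem vec_ext4 (u v : K (m + 1) → F)
    (h1 : ∀ i : Fin m, u (Sum.inl (Fin.castSucc i)) = v (Sum.inl (Fin.castSucc i)))
    (h2 : u (Sum.inl (Fin.last m)) = v (Sum.inl (Fin.last m)))
    (h3 : ∀ i : Fin m, u (Sum.inr (Fin.castSucc i)) = v (Sum.inr (Fin.castSucc i)))
    (h4 : u (Sum.inr (Fin.last m)) = v (Sum.inr (Fin.last m))) : u = v := by
  funext k
  rcases k with k | k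
  · refine Fin.lastCases h2 (fun i => h1 i) k
  · refine Fin.lastCases h4 (fun i => h3 i) k

theorem vecMulVec_mulVec' (a b w : Fin n → F) : vecMulVec a b *ᵥ w = (b ⬝ᵥ w) • a := by
  rw [Matrix.vecMulVec_mulVec]
  funext i
  simp [mul_comm]

theorem estar_dotProduct (p : Fin (m + 1) → F) : estar m F ⬝ᵥ p = p (Fin.last m) := by
  simp [estar]

theorem ext0_dotProduct (u : Fin m → F) (p : Fin (m + 1) → F) :
    ext0 u ⬝ᵥ p = ∑ j : Fin m, u j * p (Fin.castSucc j) := by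
  simp [dotProduct, Fin.sum_univ_castSucc]

/-! #### `r1El` -/

theorem r1El_mulVec (u : Fin m → F) (w : K (m + 1) → F) :
    ((r1El u : Sp (m + 1) F) : Matrix (K (m + 1)) (K (m + 1)) F) *ᵥ w =
      Sum.elim (w ∘ Sum.inl + (ext0 u ⬝ᵥ (w ∘ Sum.inl)) • estar m F)
        (w ∘ Sum.inr - (w (Sum.inr (Fin.last m))) • ext0 u) := by
  rw [r1El, lEl_mulVec, glTv_inv_val, glTv_val, Matrix.transpose_sub, Matrix.transpose_one,
    Matrix.transpose_vecMulVec, Matrix.add_mulVec, Matrix.one_mulVec, Matrix.sub_mulVec,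
    Matrix.one_mulVec, vecMulVec_mulVec', vecMulVec_mulVec', estar_dotProduct]
  rfl

@[simp] theorem r1El_apply_inl_cs (u : Fin m → F) (w : K (m + 1) → F) (i : Fin m) :
    (((r1El u : Sp (m + 1) F) : Matrix (K (m + 1)) (K (m + 1)) F) *ᵥ w) (Sum.inl (Fin.castSucc i)) =
      w (Sum.inl (Fin.castSucc i)) := by
  rw [r1El_mulVec]; simp

@[simp] theorem r1El_apply_inl_last (u : Fin m → F) (w : K (m + 1) → F) :
    (((r1El u : Sp (m + 1) F) : Matrix (K (m + 1)) (K (m + 1)) F) *ᵥ w) (Sum.inl (Fin.last m)) =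
      w (Sum.inl (Fin.last m)) + ∑ j : Fin m, u j * w (Sum.inl (Fin.castSucc j)) := by
  rw [r1El_mulVec, ext0_dotProduct]; simp

@[simp] theorem r1El_apply_inr_cs (u : Fin m → F) (w : K (m + 1) → F) (i : Fin m) :
    (((r1El u : Sp (m + 1) F) : Matrix (K (m + 1)) (K (m + 1)) F) *ᵥ w) (Sum.inr (Fin.castSucc i)) =
      w (Sum.inr (Fin.castSucc i)) - w (Sum.inr (Fin.last m)) * u i := by
  rw [r1El_mulVec]; simp

@[simp] theorem r1El_apply_inr_last (u : Fin m → F) (w : K (m + 1) → F) :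
    (((r1El u : Sp (m + 1) F) : Matrix (K (m + 1)) (K (m + 1)) F) *ᵥ w) (Sum.inr (Fin.last m)) =
      w (Sum.inr (Fin.last m)) := by
  rw [r1El_mulVec]; simp

/-! #### `rmEl` -/

theorem rmEl_mulVec (u : Fin m → F) (w : K (m + 1) → F) :
    ((rmEl u : Sp (m + 1) F) : Matrix (K (m + 1)) (K (m + 1)) F) *ᵥ w =
      Sum.elim (w ∘ Sum.inl + (w (Sum.inl (Fin.last m))) • ext0 u)
        (w ∘ Sum.inr - (ext0 u ⬝ᵥ (w ∘ Sum.inr)) • estar m F) := by
  rw [rmEl, lEl_mulVec, glTv_inv_val, glTv_val, Matrix.transpose_sub, Matrix.transpose_one,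
    Matrix.transpose_vecMulVec, Matrix.add_mulVec, Matrix.one_mulVec, Matrix.sub_mulVec,
    Matrix.one_mulVec, vecMulVec_mulVec', vecMulVec_mulVec', estar_dotProduct]
  rfl

@[simp] theorem rmEl_apply_inl_cs (u : Fin m → F) (w : K (m + 1) → F) (i : Fin m) :
    (((rmEl u : Sp (m + 1) F) : Matrix (K (m + 1)) (K (m + 1)) F) *ᵥ w) (Sum.inl (Fin.castSucc i)) =
      w (Sum.inl (Fin.castSucc i)) + w (Sum.inl (Fin.last m)) * u i := by
  rw [rmEl_mulVec]; simp

@[simp] theorem rmEl_apply_inl_last (u : Fin m → F) (w : K (m + 1) → F) :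
    (((rmEl u : Sp (m + 1) F) : Matrix (K (m + 1)) (K (m + 1)) F) *ᵥ w) (Sum.inl (Fin.last m)) =
      w (Sum.inl (Fin.last m)) := by
  rw [rmEl_mulVec]; simp

@[simp] theorem rmEl_apply_inr_cs (u : Fin m → F) (w : K (m + 1) → F) (i : Fin m) :
    (((rmEl u : Sp (m + 1) F) : Matrix (K (m + 1)) (K (m + 1)) F) *ᵥ w) (Sum.inr (Fin.castSucc i)) =
      w (Sum.inr (Fin.castSucc i)) := by
  rw [rmEl_mulVec]; simp

@[simp] theorem rmEl_apply_inr_last (u : Fin m → F) (w : K (m + 1) → F) :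
    (((rmEl u : Sp (m + 1) F) : Matrix (K (m + 1)) (K (m + 1)) F) *ᵥ w) (Sum.inr (Fin.last m)) =
      w (Sum.inr (Fin.last m)) - ∑ j : Fin m, u j * w (Sum.inr (Fin.castSucc j)) := by
  rw [rmEl_mulVec, ext0_dotProduct]; simp

/-! #### `A' = {t(e_* xᵀ + x e_*ᵀ)}` -/

theorem symX_mulVec (x : Fin m → F) (q : Fin (m + 1) → F) :
    ((symX (Fin.last m) (ext0 x) : Symm (m + 1) F) : Matrix (Fin (m + 1)) (Fin (m + 1)) F) *ᵥ q =
      (ext0 x ⬝ᵥ q) • estar m F + (q (Fin.last m)) • ext0 x := by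
  rw [symX_val, Matrix.add_mulVec, vecMulVec_mulVec', vecMulVec_mulVec']
  have he : (Pi.single (Fin.last m) (1 : F) : Fin (m + 1) → F) = estar m F := rfl
  rw [he, estar_dotProduct]

@[simp] theorem tEl_symX_apply_inl_cs (x : Fin m → F) (w : K (m + 1) → F) (i : Fin m) :
    (((tEl (symX (Fin.last m) (ext0 x)) : Sp (m + 1) F) : Matrix (K (m + 1)) (K (m + 1)) F) *ᵥ w)
      (Sum.inl (Fin.castSucc i)) = w (Sum.inl (Fin.castSucc i)) + w (Sum.inr (Fin.last m)) * x i := by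
  rw [tEl_mulVec, symX_mulVec]; simp

@[simp] theorem tEl_symX_apply_inl_last (x : Fin m → F) (w : K (m + 1) → F) :
    (((tEl (symX (Fin.last m) (ext0 x)) : Sp (m + 1) F) : Matrix (K (m + 1)) (K (m + 1)) F) *ᵥ w)
      (Sum.inl (Fin.last m)) =
        w (Sum.inl (Fin.last m)) + ∑ j : Fin m, x j * w (Sum.inr (Fin.castSucc j)) := by
  rw [tEl_mulVec, symX_mulVec, ext0_dotProduct]; simp

@[simp] theorem tEl_apply_inr (X : Symm n F) (w : K n → F) (i : Fin n) :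
    (((tEl X : Sp n F) : Matrix (K n) (K n) F) *ᵥ w) (Sum.inr i) = w (Sum.inr i) := by
  rw [tEl_mulVec]; simp

/-! #### `psi B` and `J` -/

@[simp] theorem psi_apply_inl_last (B : Sp m F) (w : K (m + 1) → F) :
    (((psi B : Sp (m + 1) F) : Matrix (K (m + 1)) (K (m + 1)) F) *ᵥ w) (Sum.inl (Fin.last m)) =
      w (Sum.inl (Fin.last m)) := by
  rw [psi_mulVec, ← ia_eq, L_ia]

@[simp] theorem psi_apply_inr_last (B : Sp m F) (w : K (m + 1) → F) :
    (((psi B : Sp (m + 1) F) : Matrix (K (m + 1)) (K (m + 1)) F) *ᵥ w) (Sum.inr (Fin.last m)) =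
      w (Sum.inr (Fin.last m)) := by
  rw [psi_mulVec, ← ib_eq, L_ib]

theorem psi_apply_inl_cs (B : Sp m F) (w : K (m + 1) → F) (i : Fin m) :
    (((psi B : Sp (m + 1) F) : Matrix (K (m + 1)) (K (m + 1)) F) *ᵥ w) (Sum.inl (Fin.castSucc i)) =
      (B.1 *ᵥ (w ∘ emb)) (Sum.inl i) := by
  rw [psi_mulVec, ← emb_inl, L_emb]

theorem psi_apply_inr_cs (B : Sp m F) (w : K (m + 1) → F) (i : Fin m) :
    (((psi B : Sp (m + 1) F) : Matrix (K (m + 1)) (K (m + 1)) F) *ᵥ w) (Sum.inr (Fin.castSucc i)) =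
      (B.1 *ᵥ (w ∘ emb)) (Sum.inr i) := by
  rw [psi_mulVec, ← emb_inr, L_emb]

/-- the standard `J` of `Sp_2m` -/
noncomputable def Jm (m : ℕ) (F : Type*) [Field F] : Sp m F := SymplecticGroup.symJ (Fin m) F

theorem Jm_mulVec (w : K m → F) :
    ((Jm m F : Sp m F) : Matrix (K m) (K m) F) *ᵥ w = Sum.elim (- (w ∘ Sum.inr)) (w ∘ Sum.inl) := by
  show Matrix.J (Fin m) F *ᵥ w = _
  rw [Matrix.J, Matrix.fromBlocks_mulVec]
  simp [Matrix.neg_mulVec]

@[simp] theorem psi_Jm_apply_inl_cs (w : K (m + 1) → F) (i : Fin m) :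
    (((psi (Jm m F) : Sp (m + 1) F) : Matrix (K (m + 1)) (K (m + 1)) F) *ᵥ w)
      (Sum.inl (Fin.castSucc i)) = - w (Sum.inr (Fin.castSucc i)) := by
  rw [psi_apply_inl_cs, Jm_mulVec]; rfl

@[simp] theorem psi_Jm_apply_inr_cs (w : K (m + 1) → F) (i : Fin m) :
    (((psi (Jm m F) : Sp (m + 1) F) : Matrix (K (m + 1)) (K (m + 1)) F) *ᵥ w)
      (Sum.inr (Fin.castSucc i)) = w (Sum.inl (Fin.castSucc i)) := by
  rw [psi_apply_inr_cs, Jm_mulVec]; rfl

/-- `psi(J) · t(e_* xᵀ + x e_*ᵀ) · psi(J)⁻¹ = l(1 + e_* (-x)ᵀ)` -/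
theorem psi_Jm_conj (x : Fin m → F) :
    psi (Jm m F) * tEl (symX (Fin.last m) (ext0 x)) * (psi (Jm m F))⁻¹ = r1El (-x) := by
  rw [mul_inv_eq_iff_eq_mul]
  apply Subtype.ext
  rw [Submonoid.coe_mul, Submonoid.coe_mul, Matrix.ext_iff_mulVec]
  intro u
  rw [← Matrix.mulVec_mulVec, ← Matrix.mulVec_mulVec]
  apply vec_ext4
  · intro i; simp
  · simp [Finset.sum_neg_distrib]
  · intro i; simp [sub_eq_add_neg]
  · simp

/-! ### `Hs` is generated by `S`-conjugates of `As` -/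

/-- **(g1)** `Hs ≤ ⟨s As s⁻¹ : s ∈ S⟩` (in fact `s ∈ {1, psi J}` suffice) -/
theorem Hs_le_closure_conj_As :
    Hs m F ≤ Subgroup.closure {g | ∃ s ∈ Ss m F, ∃ a ∈ As m F, g = s * a * s⁻¹} := by
  rw [Hs, sup_le_iff]
  constructor
  · intro a ha
    apply Subgroup.subset_closure
    exact ⟨1, Subgroup.one_mem _, a, ha, by simp⟩
  · intro g hg
    obtain ⟨u, rfl⟩ := mem_R1.1 hg
    apply Subgroup.subset_closure
    refine ⟨psi (Jm m F), ⟨_, rfl⟩, tEl (symX (Fin.last m) (ext0 (-u))),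
      As'_le_As (mem_As'.2 ⟨-u, rfl⟩), ?_⟩
    rw [psi_Jm_conj, neg_neg]

/-! ### the intrinsic Heisenberg group -/

/-- the basis vector `e_*` of `F^(2m+2)` -/
def eia (m : ℕ) (F : Type*) [Field F] : K (m + 1) → F := Pi.single (Sum.inl (Fin.last m)) 1

@[simp] theorem eia_inl_last : eia m F (Sum.inl (Fin.last m)) = 1 := by simp [eia]

@[simp] theorem eia_inl_cs (i : Fin m) : eia m F (Sum.inl (Fin.castSucc i)) = 0 := by
  simp [eia, Fin.castSucc_ne_last]

@[simp] theorem eia_inr (i : Fin (m + 1)) : eia m F (Sum.inr i) = 0 := by simp [eia]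

/-- `{g : g e_* = e_*, g x - x ∈ F e_* for all x ⊥ e_*}` -/
def Hint (m : ℕ) (F : Type*) [Field F] : Subgroup (Sp (m + 1) F) where
  carrier := {g | g.1 *ᵥ eia m F = eia m F ∧
    ∀ x : K (m + 1) → F, x (Sum.inr (Fin.last m)) = 0 → ∃ c : F, g.1 *ᵥ x = x + c • eia m F}
  one_mem' := by
    refine ⟨by simp, fun x _ => ⟨0, by simp⟩⟩
  mul_mem' := by
    rintro g h ⟨hg1, hg2⟩ ⟨hh1, hh2⟩
    refine ⟨?_, ?_⟩
    · rw [Submonoid.coe_mul, ← Matrix.mulVec_mulVec, hh1, hg1]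
    · intro x hx
      obtain ⟨c, hc⟩ := hh2 x hx
      have hx' : (x + c • eia m F) (Sum.inr (Fin.last m)) = 0 := by simp [hx]
      obtain ⟨d, hd⟩ := hg2 _ hx'
      refine ⟨c + d, ?_⟩
      rw [Submonoid.coe_mul, ← Matrix.mulVec_mulVec, hc, hd, add_smul, add_assoc]
  inv_mem' := by
    rintro g ⟨hg1, hg2⟩
    have hinv : ∀ v : K (m + 1) → F, (g⁻¹ : Sp (m + 1) F).1 *ᵥ (g.1 *ᵥ v) = v := by
      intro v
      rw [Matrix.mulVec_mulVec, ← Submonoid.coe_mul, inv_mul_cancel]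
      simp
    have h1 : (g⁻¹ : Sp (m + 1) F).1 *ᵥ eia m F = eia m F := by
      conv_lhs => rw [← hg1]
      exact hinv _
    refine ⟨h1, ?_⟩
    intro x hx
    obtain ⟨c, hc⟩ := hg2 x hx
    refine ⟨-c, ?_⟩
    have h2 := hinv x
    rw [hc, Matrix.mulVec_add, Matrix.mulVec_smul, h1] at h2
    rw [neg_smul]
    exact eq_add_neg_of_add_eq h2

theorem mem_Hint {g : Sp (m + 1) F} : g ∈ Hint m F ↔ g.1 *ᵥ eia m F = eia m F ∧
    ∀ x : K (m + 1) → F, x (Sum.inr (Fin.last m)) = 0 → ∃ c : F, g.1 *ᵥ x = x + c • eia m F :=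
  Iff.rfl

/-- `S` normalises the intrinsic Heisenberg group -/
theorem Ss_normalizes_Hint {s h : Sp (m + 1) F} (hs : s ∈ Ss m F) (hh : h ∈ Hint m F) :
    s * h * s⁻¹ ∈ Hint m F := by
  obtain ⟨B, rfl⟩ := hs
  obtain ⟨h1, h2⟩ := hh
  have hfix : ∀ B : Sp m F, (psi B : Sp (m + 1) F).1 *ᵥ eia m F = eia m F := by
    intro B
    apply vec_ext4
    · intro i
      rw [psi_apply_inl_cs]
      have : eia m F ∘ emb = 0 := by
        funext k
        rcases k with k | k <;> simp [emb_inl, emb_inr]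
      rw [this, Matrix.mulVec_zero]; simp
    · simp
    · intro i
      rw [psi_apply_inr_cs]
      have : eia m F ∘ emb = 0 := by
        funext k
        rcases k with k | k <;> simp [emb_inl, emb_inr]
      rw [this, Matrix.mulVec_zero]; simp
    · simp
  have hinv : (psi B : Sp (m + 1) F)⁻¹ = psi B⁻¹ := (map_inv psi B).symm
  refine ⟨?_, ?_⟩
  · rw [Submonoid.coe_mul, Submonoid.coe_mul, ← Matrix.mulVec_mulVec, ← Matrix.mulVec_mulVec, hinv,
      hfix, h1, hfix]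
  · intro x hx
    have hx' : ((psi B⁻¹ : Sp (m + 1) F).1 *ᵥ x) (Sum.inr (Fin.last m)) = 0 := by
      rw [psi_apply_inr_last, hx]
    obtain ⟨c, hc⟩ := h2 _ hx'
    refine ⟨c, ?_⟩
    rw [Submonoid.coe_mul, Submonoid.coe_mul, ← Matrix.mulVec_mulVec, ← Matrix.mulVec_mulVec, hinv,
      hc, Matrix.mulVec_add, Matrix.mulVec_smul, hfix, Matrix.mulVec_mulVec, ← Submonoid.coe_mul,
      ← map_mul, mul_inv_cancel, map_one]
    simp

/-! ### `Hs = Hint` -/

@[simp] theorem tEl_symE_apply_inl_cs (c : F) (w : K (m + 1) → F) (i : Fin m) :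
    (((tEl (symE (Fin.last m) c) : Sp (m + 1) F) : Matrix (K (m + 1)) (K (m + 1)) F) *ᵥ w)
      (Sum.inl (Fin.castSucc i)) = w (Sum.inl (Fin.castSucc i)) := by
  rw [tEl_mulVec, symE_val, Sum.elim_inl, Pi.add_apply, single_last_mulVec_castSucc, add_zero]
  rfl

@[simp] theorem tEl_symE_apply_inl_last (c : F) (w : K (m + 1) → F) :
    (((tEl (symE (Fin.last m) c) : Sp (m + 1) F) : Matrix (K (m + 1)) (K (m + 1)) F) *ᵥ w)
      (Sum.inl (Fin.last m)) = w (Sum.inl (Fin.last m)) + c * w (Sum.inr (Fin.last m)) := by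
  rw [tEl_mulVec, symE_val, Sum.elim_inl, Pi.add_apply, single_last_mulVec_last]
  rfl

theorem As_le_Hint : As m F ≤ Hint m F := by
  intro a ha
  obtain ⟨X, hX, rfl⟩ := mem_As.1 ha
  refine ⟨?_, ?_⟩
  · rw [tEl_mulVec]
    have h0 : eia m F ∘ Sum.inr = (0 : Fin (m + 1) → F) := by
      funext i; simp
    rw [h0, Matrix.mulVec_zero, add_zero]
    funext k
    rcases k with k | k <;> simp
  · intro x hx
    refine ⟨((X : Matrix (Fin (m + 1)) (Fin (m + 1)) F) *ᵥ (x ∘ Sum.inr)) (Fin.last m), ?_⟩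
    rw [tEl_mulVec]
    apply vec_ext4
    · intro i
      rw [Sum.elim_inl, Pi.add_apply, Pi.add_apply, Pi.smul_apply, eia_inl_cs, smul_zero, add_zero,
        Function.comp_apply]
      have : ((X : Matrix (Fin (m + 1)) (Fin (m + 1)) F) *ᵥ (x ∘ Sum.inr)) (Fin.castSucc i) = 0 := by
        rw [Matrix.mulVec, dotProduct, Fin.sum_univ_castSucc]
        simp only [Function.comp_apply, hx, mul_zero, add_zero]
        apply Finset.sum_eq_zero
        intro j _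
        rw [hX i j, zero_mul]
      rw [this, add_zero]
    · rw [Sum.elim_inl, Pi.add_apply, Pi.add_apply, Pi.smul_apply, eia_inl_last, smul_eq_mul,
        mul_one, Function.comp_apply]
    · intro i
      rw [Sum.elim_inr, Pi.add_apply, Pi.smul_apply, eia_inr, smul_zero, add_zero,
        Function.comp_apply]
    · rw [Sum.elim_inr, Pi.add_apply, Pi.smul_apply, eia_inr, smul_zero, add_zero,
        Function.comp_apply]

theorem R1_le_Hint : R1 m F ≤ Hint m F := by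
  intro r hr
  obtain ⟨u, rfl⟩ := mem_R1.1 hr
  refine ⟨?_, ?_⟩
  · apply vec_ext4
    · intro i; simp
    · simp
    · intro i; simp
    · simp
  · intro x hx
    refine ⟨∑ j : Fin m, u j * x (Sum.inl (Fin.castSucc j)), ?_⟩
    apply vec_ext4
    · intro i; simp
    · simp
    · intro i; simp [hx]
    · simp

theorem Hs_le_Hint : Hs m F ≤ Hint m F := by
  rw [Hs, sup_le_iff]
  exact ⟨As_le_Hint, R1_le_Hint⟩

theorem sympForm_single_inr (x : K n → F) (i : Fin n) :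
    Cfsg.sympForm n F x (Pi.single (Sum.inr i) 1) = - x (Sum.inl i) := by
  rw [sympForm_eq]
  rw [Finset.sum_eq_single i]
  · simp
  · intro j _ hj
    simp [hj]
  · intro h
    exact absurd (Finset.mem_univ i) h

/-- a symplectic transformation fixing the hyperplane `e_*^⊥` pointwise lies in `U1` -/
theorem mem_U1_of_fix (k : Sp (m + 1) F)
    (hk : ∀ x : K (m + 1) → F, x (Sum.inr (Fin.last m)) = 0 → k.1 *ᵥ x = x) : k ∈ U1 m F := by
  set f : K (m + 1) → F := Pi.single (Sum.inr (Fin.last m)) 1 with hf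
  set w : K (m + 1) → F := k.1 *ᵥ f with hw
  have hform : ∀ x : K (m + 1) → F, x (Sum.inr (Fin.last m)) = 0 →
      Cfsg.sympForm (m + 1) F w x = Cfsg.sympForm (m + 1) F f x := by
    intro x hx
    have h := (Cfsg.Agent.Lib.H4.mem_symplecticGroup_iff_sympForm (m + 1) k.1).1 k.2 f x
    rw [hk x hx] at h
    exact h
  have hw_inr : ∀ i, w (Sum.inr i) = f (Sum.inr i) := by
    intro i
    have h := hform (Pi.single (Sum.inl i) 1) (by simp)
    rwa [sympForm_single_inl, sympForm_single_inl] at h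
  have hw_inl : ∀ j : Fin m, w (Sum.inl (Fin.castSucc j)) = 0 := by
    intro j
    have h := hform (Pi.single (Sum.inr (Fin.castSucc j)) 1)
      (by simp [Fin.castSucc_ne_last, (Fin.castSucc_ne_last j).symm])
    rw [sympForm_single_inr, sympForm_single_inr] at h
    have h2 : f (Sum.inl (Fin.castSucc j)) = 0 := by simp [hf]
    rw [h2, neg_zero, neg_eq_zero] at h
    exact h
  refine mem_U1.2 ⟨w (Sum.inl (Fin.last m)), ?_⟩
  apply Subtype.ext
  rw [Matrix.ext_iff_mulVec]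
  intro u
  -- decompose `u = u' + u_ib • f`
  have hu : u = (u - u (Sum.inr (Fin.last m)) • f) + u (Sum.inr (Fin.last m)) • f := by abel
  have hu' : (u - u (Sum.inr (Fin.last m)) • f) (Sum.inr (Fin.last m)) = 0 := by
    simp [hf]
  have hku : k.1 *ᵥ u = (u - u (Sum.inr (Fin.last m)) • f) + u (Sum.inr (Fin.last m)) • w := by
    conv_lhs => rw [hu]
    rw [Matrix.mulVec_add, Matrix.mulVec_smul, hk _ hu']
  rw [hku]
  apply vec_ext4
  · intro i
    rw [tEl_symE_apply_inl_cs]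
    simp [hf, hw_inl i]
  · rw [tEl_symE_apply_inl_last]
    simp [hf]
    ring
  · intro i
    rw [tEl_apply_inr]
    simp [hw_inr]
  · rw [tEl_apply_inr]
    simp [hw_inr]

theorem u1_comm_r1 (c0 : F) (c : Fin m → F) :
    (tEl (symE (Fin.last m) c0) : Sp (m + 1) F) * r1El c = r1El c * tEl (symE (Fin.last m) c0) := by
  apply Subtype.ext
  rw [Submonoid.coe_mul, Submonoid.coe_mul, Matrix.ext_iff_mulVec]
  intro u
  rw [← Matrix.mulVec_mulVec, ← Matrix.mulVec_mulVec]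
  apply vec_ext4
  · intro i; simp
  · simp; ring
  · intro i; simp
  · simp

/-- every element of the intrinsic Heisenberg group is a product `a * r`, `a ∈ As`, `r ∈ R1` -/
theorem Hint_exists_mul {g : Sp (m + 1) F} (hg : g ∈ Hint m F) :
    ∃ a ∈ As m F, ∃ r ∈ R1 m F, g = a * r := by
  obtain ⟨hg1, hg2⟩ := hg
  set c : Fin m → F := fun j => g.1 (Sum.inl (Fin.last m)) (Sum.inl (Fin.castSucc j)) with hc
  set d : Fin m → F := fun j => g.1 (Sum.inl (Fin.last m)) (Sum.inr (Fin.castSucc j)) with hd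
  set h : Sp (m + 1) F := tEl (symX (Fin.last m) (ext0 d)) * r1El c with hh
  have hhH : h ∈ Hs m F :=
    mul_mem (As_le_Hs (As'_le_As (mem_As'.2 ⟨d, rfl⟩))) (R1_le_Hs (mem_R1.2 ⟨c, rfl⟩))
  have hgaa : g.1 (Sum.inl (Fin.last m)) (Sum.inl (Fin.last m)) = 1 := by
    have h := congrFun hg1 (Sum.inl (Fin.last m))
    rw [eia, Matrix.mulVec_single_one] at h
    simpa using h
  -- `g` and `h` agree on the hyperplane
  have hagree : ∀ x : K (m + 1) → F, x (Sum.inr (Fin.last m)) = 0 → g.1 *ᵥ x = h.1 *ᵥ x := by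
    intro x hx
    obtain ⟨l, hl⟩ := hg2 x hx
    have hlval : l = ∑ j : Fin m, c j * x (Sum.inl (Fin.castSucc j)) +
        ∑ j : Fin m, d j * x (Sum.inr (Fin.castSucc j)) := by
      have h1 := congrFun hl (Sum.inl (Fin.last m))
      rw [Pi.add_apply, Pi.smul_apply, eia_inl_last, smul_eq_mul, mul_one] at h1
      have h2 : (g.1 *ᵥ x) (Sum.inl (Fin.last m)) =
          ∑ j : Fin m, c j * x (Sum.inl (Fin.castSucc j)) + x (Sum.inl (Fin.last m)) +
            ∑ j : Fin m, d j * x (Sum.inr (Fin.castSucc j)) := by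
        rw [Matrix.mulVec, dotProduct, Fintype.sum_sum_type, Fin.sum_univ_castSucc,
          Fin.sum_univ_castSucc, hx, mul_zero, add_zero, hgaa, one_mul]
      rw [h2] at h1
      linear_combination (-1 : F) * h1
    rw [hl, hlval, hh, Submonoid.coe_mul, ← Matrix.mulVec_mulVec]
    apply vec_ext4
    · intro i; simp [hx]
    · simp [hx]
      ring
    · intro i; simp [hx]
    · simp
  -- `h⁻¹ g ∈ U1`
  have hk : h⁻¹ * g ∈ U1 m F := by
    apply mem_U1_of_fix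
    intro x hx
    rw [Submonoid.coe_mul, ← Matrix.mulVec_mulVec, hagree x hx, Matrix.mulVec_mulVec,
      ← Submonoid.coe_mul, inv_mul_cancel]
    simp
  obtain ⟨c0, hc0⟩ := mem_U1.1 hk
  refine ⟨tEl (symX (Fin.last m) (ext0 d)) * tEl (symE (Fin.last m) c0),
    mul_mem (As'_le_As (mem_As'.2 ⟨d, rfl⟩)) (U1_le_As (mem_U1.2 ⟨c0, rfl⟩)),
    r1El c, mem_R1.2 ⟨c, rfl⟩, ?_⟩
  have : g = h * (h⁻¹ * g) := by group
  rw [this, ← hc0, hh, mul_assoc, mul_assoc, u1_comm_r1]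

theorem Hint_le_Hs : Hint m F ≤ Hs m F := by
  intro g hg
  obtain ⟨a, ha, r, hr, rfl⟩ := Hint_exists_mul hg
  exact mul_mem (As_le_Hs ha) (R1_le_Hs hr)


/-- the Heisenberg group `Hs = As ⊔ R1` is `{g : g e_* = e_*, g x - x ∈ F e_* for all x ⊥ e_*}` -/
theorem Hs_eq_Hint : Hs m F = Hint m F := le_antisymm Hs_le_Hint Hint_le_Hs

/-- **(g1)** `S` normalises `Hs` -/
theorem Ss_normalizes_Hs {s h : Sp (m + 1) F} (hs : s ∈ Ss m F) (hh : h ∈ Hs m F) :
    s * h * s⁻¹ ∈ Hs m F := by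
  rw [Hs_eq_Hint] at hh ⊢
  exact Ss_normalizes_Hint hs hh

/-- **(g1)** `Hs = ⟨s As s⁻¹ : s ∈ S⟩` -/
theorem Hs_eq_closure_conj_As :
    Hs m F = Subgroup.closure {g | ∃ s ∈ Ss m F, ∃ a ∈ As m F, g = s * a * s⁻¹} := by
  apply le_antisymm Hs_le_closure_conj_As
  rw [Subgroup.closure_le]
  rintro _ ⟨s, hs, a, ha, rfl⟩
  exact Ss_normalizes_Hs hs (As_le_Hs ha)

/-- `Hs = As · R1` as a set -/
theorem mem_Hs_iff_mul {g : Sp (m + 1) F} :
    g ∈ Hs m F ↔ ∃ a ∈ As m F, ∃ r ∈ R1 m F, g = a * r := by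
  constructor
  · intro hg
    rw [Hs_eq_Hint] at hg
    exact Hint_exists_mul hg
  · rintro ⟨a, ha, r, hr, rfl⟩
    exact mul_mem (As_le_Hs ha) (R1_le_Hs hr)

/-! ### `T1` normalises `Hs` -/

theorem lEl_mul' (g h : GL (Fin n) F) : (lEl (g * h) : Sp n F) = lEl g * lEl h := by
  rw [← lHom_apply, ← lHom_apply, ← lHom_apply, map_mul]

theorem lEl_one' : (lEl (1 : GL (Fin n) F) : Sp n F) = 1 := by
  rw [← lHom_apply, map_one]


@[simp] theorem t1_apply_inl_cs (s : Fˣ) (w : K (m + 1) → F) (i : Fin m) :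
    (((lEl (glT1 (m := m) s) : Sp (m + 1) F) : Matrix (K (m + 1)) (K (m + 1)) F) *ᵥ w)
      (Sum.inl (Fin.castSucc i)) = w (Sum.inl (Fin.castSucc i)) := by
  rw [lEl_mulVec, glT1_val, Sum.elim_inl, blk_mulVec_castSucc, Matrix.one_mulVec]; rfl

@[simp] theorem t1_apply_inl_last (s : Fˣ) (w : K (m + 1) → F) :
    (((lEl (glT1 (m := m) s) : Sp (m + 1) F) : Matrix (K (m + 1)) (K (m + 1)) F) *ᵥ w)
      (Sum.inl (Fin.last m)) = s.1 * w (Sum.inl (Fin.last m)) := by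
  rw [lEl_mulVec, glT1_val, Sum.elim_inl, blk_mulVec_last]; rfl

@[simp] theorem t1_apply_inr_cs (s : Fˣ) (w : K (m + 1) → F) (i : Fin m) :
    (((lEl (glT1 (m := m) s) : Sp (m + 1) F) : Matrix (K (m + 1)) (K (m + 1)) F) *ᵥ w)
      (Sum.inr (Fin.castSucc i)) = w (Sum.inr (Fin.castSucc i)) := by
  rw [lEl_mulVec, glT1_inv_val_transpose, Sum.elim_inr, blk_mulVec_castSucc, Matrix.one_mulVec]; rfl

@[simp] theorem t1_apply_inr_last (s : Fˣ) (w : K (m + 1) → F) :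
    (((lEl (glT1 (m := m) s) : Sp (m + 1) F) : Matrix (K (m + 1)) (K (m + 1)) F) *ᵥ w)
      (Sum.inr (Fin.last m)) = (s⁻¹ : Fˣ).1 * w (Sum.inr (Fin.last m)) := by
  rw [lEl_mulVec, glT1_inv_val_transpose, Sum.elim_inr, blk_mulVec_last]; rfl

theorem t1_mulVec_eia (s : Fˣ) :
    ((lEl (glT1 (m := m) s) : Sp (m + 1) F) : Matrix (K (m + 1)) (K (m + 1)) F) *ᵥ eia m F =
      s.1 • eia m F := by
  apply vec_ext4
  · intro i; simp
  · simp
  · intro i; simp
  · simp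

/-- **(g1)** `T1` normalises `Hs` -/
theorem T1_normalizes_Hs {t h : Sp (m + 1) F} (ht : t ∈ T1 m F) (hh : h ∈ Hs m F) :
    t * h * t⁻¹ ∈ Hs m F := by
  rw [Hs_eq_Hint] at hh ⊢
  obtain ⟨s, rfl⟩ := mem_T1.1 ht
  obtain ⟨h1, h2⟩ := hh
  have hinv : (lEl (glT1 (m := m) s) : Sp (m + 1) F)⁻¹ = lEl (glT1 (m := m) s⁻¹) := by
    rw [← lHom_apply, ← lHom_apply, ← map_inv, ← map_inv]
  have hss : (s⁻¹ : Fˣ).1 * s.1 = 1 := by rw [← Units.val_mul, inv_mul_cancel, Units.val_one]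
  have hss' : s.1 * (s⁻¹ : Fˣ).1 = 1 := by rw [← Units.val_mul, mul_inv_cancel, Units.val_one]
  refine ⟨?_, ?_⟩
  · rw [Submonoid.coe_mul, Submonoid.coe_mul, ← Matrix.mulVec_mulVec, ← Matrix.mulVec_mulVec, hinv,
      t1_mulVec_eia, Matrix.mulVec_smul, h1, Matrix.mulVec_smul, t1_mulVec_eia, smul_smul, hss,
      one_smul]
  · intro x hx
    have hx' : ((lEl (glT1 (m := m) s⁻¹) : Sp (m + 1) F).1 *ᵥ x) (Sum.inr (Fin.last m)) = 0 := by
      rw [t1_apply_inr_last, hx, mul_zero]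
    obtain ⟨c, hc⟩ := h2 _ hx'
    refine ⟨c * s.1, ?_⟩
    rw [Submonoid.coe_mul, Submonoid.coe_mul, ← Matrix.mulVec_mulVec, ← Matrix.mulVec_mulVec, hinv,
      hc, Matrix.mulVec_add, Matrix.mulVec_smul, t1_mulVec_eia, Matrix.mulVec_mulVec,
      ← Submonoid.coe_mul, ← lEl_mul', ← map_mul, mul_inv_cancel, map_one, lEl_one', smul_smul]
    simp

end Cfsg.Agent.Lib.H11.SpU
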