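/-
S2524 (architect helper19, route U), GROUP SIDE part 5: fact (g5) of tools/blueprints/S2524_U.md.
The action `Y ↦ g⁻ᵀ Y g⁻¹` of `GL_n` on symmetric matrices (= characters of `Q`):
stabiliser of `Y0 = a E_**`, simple transitivity of `R1` on `{Y : Y_** = a, rank ≤ 1}`, `T1` on the values `Y_**`,
`GL''` on `{Y'' ⊕ 0}` inside one `GL_n`-orbit.
-/
import Mathlib
import Cfsg.Agent.Lib.H11.S2524G0

set_option autoImplicit false
set_option linter.unusedSimpArgs false

namespace Cfsg.Agent.Lib.H11.SpU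

open Matrix Cfsg.Agent.Lib.H12.LS2 Cfsg.Agent.Lib.H5.LS2

variable {F : Type*} [Field F] {n m : ℕ}

/-- the action of `GL_n` on symmetric matrices (characters of `Q`): `Y ↦ g⁻ᵀ Y g⁻¹` -/
def symAct (g : GL (Fin n) F) (Y : Symm n F) : Symm n F :=
  ⟨((g⁻¹ : GL (Fin n) F).1)ᵀ * (Y : Matrix (Fin n) (Fin n) F) * (g⁻¹ : GL (Fin n) F).1, by
    have h := mul_mul_transpose_mem ((g⁻¹ : GL (Fin n) F).1)ᵀ Y.2
    rwa [Matrix.transpose_transpose] at h⟩

@[simp] theorem symAct_val (g : GL (Fin n) F) (Y : Symm n F) :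
    ((symAct g Y : Symm n F) : Matrix (Fin n) (Fin n) F) =
      ((g⁻¹ : GL (Fin n) F).1)ᵀ * (Y : Matrix (Fin n) (Fin n) F) * (g⁻¹ : GL (Fin n) F).1 := rfl

theorem symAct_one (Y : Symm n F) : symAct (1 : GL (Fin n) F) Y = Y := by
  apply Subtype.ext
  simp

theorem symAct_mul (g h : GL (Fin n) F) (Y : Symm n F) :
    symAct (g * h) Y = symAct g (symAct h Y) := by
  apply Subtype.ext
  rw [symAct_val, symAct_val, symAct_val, _root_.mul_inv_rev, Units.val_mul, Matrix.transpose_mul]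
  simp only [Matrix.mul_assoc]

theorem symAct_inv_symAct (g : GL (Fin n) F) (Y : Symm n F) : symAct g⁻¹ (symAct g Y) = Y := by
  rw [← symAct_mul, inv_mul_cancel, symAct_one]

/-- the stabiliser condition in the form `gᵀ Y g = Y` -/
theorem symAct_eq_iff (g : GL (Fin n) F) (Y Y' : Symm n F) :
    symAct g Y = Y' ↔
      (Y : Matrix (Fin n) (Fin n) F) = g.1ᵀ * (Y' : Matrix (Fin n) (Fin n) F) * g.1 := by
  have h1 : (g⁻¹ : GL (Fin n) F).1 * g.1 = 1 := by
    rw [← Units.val_mul, inv_mul_cancel, Units.val_one]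
  have h2 : g.1 * (g⁻¹ : GL (Fin n) F).1 = 1 := by
    rw [← Units.val_mul, mul_inv_cancel, Units.val_one]
  have h1t : g.1ᵀ * ((g⁻¹ : GL (Fin n) F).1)ᵀ = 1 := by
    rw [← Matrix.transpose_mul, h1, Matrix.transpose_one]
  have h2t : ((g⁻¹ : GL (Fin n) F).1)ᵀ * g.1ᵀ = 1 := by
    rw [← Matrix.transpose_mul, h2, Matrix.transpose_one]
  constructor
  · intro h
    rw [← h, symAct_val]
    calc (Y : Matrix (Fin n) (Fin n) F) = 1 * (Y : Matrix (Fin n) (Fin n) F) * 1 := by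
          rw [Matrix.one_mul, Matrix.mul_one]
      _ = (g.1ᵀ * ((g⁻¹ : GL (Fin n) F).1)ᵀ) * (Y : Matrix (Fin n) (Fin n) F) *
            ((g⁻¹ : GL (Fin n) F).1 * g.1) := by rw [h1t, h1]
      _ = _ := by simp only [Matrix.mul_assoc]
  · intro h
    apply Subtype.ext
    rw [symAct_val, h]
    calc ((g⁻¹ : GL (Fin n) F).1)ᵀ * (g.1ᵀ * (Y' : Matrix (Fin n) (Fin n) F) * g.1) *
          (g⁻¹ : GL (Fin n) F).1
        = (((g⁻¹ : GL (Fin n) F).1)ᵀ * g.1ᵀ) * (Y' : Matrix (Fin n) (Fin n) F) *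
            (g.1 * (g⁻¹ : GL (Fin n) F).1) := by simp only [Matrix.mul_assoc]
      _ = _ := by rw [h2t, h2, Matrix.one_mul, Matrix.mul_one]

theorem conj_single_apply (G : Matrix (Fin n) (Fin n) F) (k : Fin n) (a : F) (i j : Fin n) :
    (Gᵀ * Matrix.single k k a * G) i j = a * G k i * G k j := by
  rw [Matrix.mul_apply]
  have h : ∀ p, (Gᵀ * Matrix.single k k a) i p = if p = k then G k i * a else 0 := by
    intro p
    rw [Matrix.mul_apply]
    by_cases hp : p = k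
    · subst hp
      rw [if_pos rfl, Finset.sum_eq_single p]
      · rw [Matrix.transpose_apply, Matrix.single_apply_same]
      · intro q _ hq
        have h0 : Matrix.single p p a q p = 0 := Matrix.single_apply_of_ne _ _ _ _ _ (fun h => hq h.1.symm)
        rw [h0, mul_zero]
      · intro h; exact absurd (Finset.mem_univ _) h
    · rw [if_neg hp]
      apply Finset.sum_eq_zero
      intro q _
      have h0 : Matrix.single k k a q p = 0 := Matrix.single_apply_of_ne _ _ _ _ _ (fun h => hp h.2.symm)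
      rw [h0, mul_zero]
  simp only [h]
  rw [Finset.sum_eq_single k]
  · rw [if_pos rfl]; ring
  · intro p _ hp
    rw [if_neg hp, zero_mul]
  · intro h; exact absurd (Finset.mem_univ _) h


/-! ### (g5a): the stabiliser of `Y0 = a E_**` -/

/-- if `Gᵀ (a E_**) G = a E_**` (`a ≠ 0`) then the last row of `G` is `± e_*ᵀ` -/
theorem last_row_of_stab {a : F} (ha : a ≠ 0) (G : Matrix (Fin (m + 1)) (Fin (m + 1)) F)
    (hG : Matrix.single (Fin.last m) (Fin.last m) a = Gᵀ * Matrix.single (Fin.last m) (Fin.last m) a * G) :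
    (∀ i : Fin m, G (Fin.last m) (Fin.castSucc i) = 0) ∧
      (G (Fin.last m) (Fin.last m) = 1 ∨ G (Fin.last m) (Fin.last m) = -1) := by
  have h : ∀ i j, Matrix.single (Fin.last m) (Fin.last m) a i j =
      a * G (Fin.last m) i * G (Fin.last m) j := by
    intro i j
    rw [← conj_single_apply, ← hG]
  constructor
  · intro i
    have h1 := h (Fin.castSucc i) (Fin.castSucc i)
    rw [Matrix.single_apply_of_ne _ _ _ _ _ (fun h => Fin.castSucc_ne_last i h.1.symm)] at h1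
    have h2 : G (Fin.last m) (Fin.castSucc i) * G (Fin.last m) (Fin.castSucc i) = 0 := by
      have : a * (G (Fin.last m) (Fin.castSucc i) * G (Fin.last m) (Fin.castSucc i)) = 0 := by
        rw [← mul_assoc, ← h1]
      exact (mul_eq_zero.1 this).resolve_left ha
    exact mul_self_eq_zero.1 h2
  · have h1 := h (Fin.last m) (Fin.last m)
    rw [Matrix.single_apply_same] at h1
    have h2 : G (Fin.last m) (Fin.last m) * G (Fin.last m) (Fin.last m) = 1 := by
      have : a * (G (Fin.last m) (Fin.last m) * G (Fin.last m) (Fin.last m)) = a * 1 := by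
        rw [← mul_assoc, ← h1, mul_one]
      exact mul_left_cancel₀ ha this
    exact mul_self_eq_one_iff.1 h2

/-- **(g5a)** the stabiliser of `Y0 = a E_**` (`a ≠ 0`) in `GL_(m+1)` is `⟨m1⟩ R⁻ GL''`:
`g = diag(1,…,1,s) · (1 + u e_*ᵀ) · diag(h, 1)` with `s = ± 1` -/
theorem stab_Y0 {a : F} (ha : a ≠ 0) (g : GL (Fin (m + 1)) F)
    (hg : symAct g (symE (Fin.last m) a) = symE (Fin.last m) a) :
    ∃ (s : Fˣ) (u : Fin m → F) (h : GL (Fin m) F), (s = 1 ∨ s = -1) ∧
      g = glT1 s * glTv (ext0 u) (estar m F) (estar_dot_ext0 u) * glPP h := by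
  -- the last rows of `g` and `g⁻¹`
  have hG := (symAct_eq_iff g _ _).1 hg
  rw [symE_val] at hG
  have hg' : symAct g⁻¹ (symE (Fin.last m) a) = symE (Fin.last m) a := by
    conv_lhs => rw [← hg]
    exact symAct_inv_symAct g _
  have hK := (symAct_eq_iff g⁻¹ _ _).1 hg'
  rw [symE_val] at hK
  obtain ⟨hG0, hGs⟩ := last_row_of_stab ha g.1 hG
  obtain ⟨hK0, -⟩ := last_row_of_stab ha (g⁻¹ : GL (Fin (m + 1)) F).1 hK
  have h1 : g.1 * (g⁻¹ : GL (Fin (m + 1)) F).1 = 1 := by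
    rw [← Units.val_mul, mul_inv_cancel, Units.val_one]
  have h2 : (g⁻¹ : GL (Fin (m + 1)) F).1 * g.1 = 1 := by
    rw [← Units.val_mul, inv_mul_cancel, Units.val_one]
  -- the upper left blocks are inverse to each other
  have hblock : ∀ (A B : Matrix (Fin (m + 1)) (Fin (m + 1)) F),
      (∀ i : Fin m, B (Fin.last m) (Fin.castSucc i) = 0) → A * B = 1 →
      A.submatrix Fin.castSucc Fin.castSucc * B.submatrix Fin.castSucc Fin.castSucc = 1 := by
    intro A B hB hAB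
    ext i j
    have := congrFun (congrFun hAB (Fin.castSucc i)) (Fin.castSucc j)
    rw [Matrix.mul_apply, Fin.sum_univ_castSucc, hB j, mul_zero, add_zero] at this
    rw [Matrix.mul_apply]
    simp only [Matrix.submatrix_apply]
    rw [this, Matrix.one_apply, Matrix.one_apply]
    simp [Fin.castSucc_inj]
  let h : GL (Fin m) F := ⟨g.1.submatrix Fin.castSucc Fin.castSucc,
    (g⁻¹ : GL (Fin (m + 1)) F).1.submatrix Fin.castSucc Fin.castSucc,
    hblock _ _ hK0 h1, hblock _ _ hG0 h2⟩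
  have hs0 : g.1 (Fin.last m) (Fin.last m) ≠ 0 := by
    rcases hGs with h | h <;> rw [h] <;> simp
  refine ⟨Units.mk0 _ hs0, fun i => g.1 (Fin.castSucc i) (Fin.last m), h, ?_, ?_⟩
  · rcases hGs with h | h
    · left; apply Units.ext; exact h
    · right; apply Units.ext; rw [Units.val_mk0, h]; simp
  · apply Units.ext
    rw [Units.val_mul, Units.val_mul, glT1_val, glTv_val, glPP_val, Units.val_mk0]
    ext i j
    refine Fin.lastCases ?_ (fun i' => ?_) i <;> refine Fin.lastCases ?_ (fun j' => ?_) j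
    · simp [Matrix.mul_apply, Fin.sum_univ_castSucc, Matrix.add_apply, Matrix.vecMulVec_apply,
        Matrix.one_apply, Fin.castSucc_ne_last, (Fin.castSucc_ne_last _).symm]
    · simp [Matrix.mul_apply, Fin.sum_univ_castSucc, Matrix.add_apply, Matrix.vecMulVec_apply,
        Matrix.one_apply, Fin.castSucc_ne_last, (Fin.castSucc_ne_last _).symm, hG0 j']
    · simp [Matrix.mul_apply, Fin.sum_univ_castSucc, Matrix.add_apply, Matrix.vecMulVec_apply,
        Matrix.one_apply, Fin.castSucc_ne_last, (Fin.castSucc_ne_last _).symm, Fin.castSucc_inj]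
    · simp [Matrix.mul_apply, Fin.sum_univ_castSucc, Matrix.add_apply, Matrix.vecMulVec_apply,
        Matrix.one_apply, Fin.castSucc_ne_last, (Fin.castSucc_ne_last _).symm, Fin.castSucc_inj, h]


theorem lEl_mul (g h : GL (Fin n) F) : (lEl (g * h) : Sp n F) = lEl g * lEl h := by
  rw [← lHom_apply, ← lHom_apply, ← lHom_apply, map_mul]

theorem lEl_one : (lEl (1 : GL (Fin n) F) : Sp n F) = 1 := by
  rw [← lHom_apply, map_one]

/-- **(g5a)**, in `Sp`: `Stab_L(a E_**) = ⟨m1⟩ R⁻ GL''` -/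
theorem lEl_stab_Y0 {a : F} (ha : a ≠ 0) (g : GL (Fin (m + 1)) F)
    (hg : symAct g (symE (Fin.last m) a) = symE (Fin.last m) a) :
    ∃ (u : Fin m → F) (h : GL (Fin m) F),
      (lEl g : Sp (m + 1) F) = rmEl u * lEl (glPP h) ∨
      (lEl g : Sp (m + 1) F) = m1 m F * rmEl u * lEl (glPP h) := by
  obtain ⟨s, u, h, hs, rfl⟩ := stab_Y0 ha g hg
  refine ⟨u, h, ?_⟩
  rcases hs with rfl | rfl
  · left
    rw [lEl_mul, lEl_mul, map_one, lEl_one, one_mul]; rfl
  · right
    rw [lEl_mul, lEl_mul]; rfl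

/-! ### (g5b): `R1` is simply transitive on `{Y : Y_** = a, rank ≤ 1}` -/

theorem single_eq_smul_vecMulVec (k : Fin n) (a : F) :
    Matrix.single k k a = a • vecMulVec (Pi.single k (1 : F)) (Pi.single k (1 : F)) := by
  ext i j
  rw [Matrix.smul_apply, Matrix.vecMulVec_apply, smul_eq_mul]
  by_cases hi : i = k
  · by_cases hj : j = k
    · subst hi; subst hj; simp
    · rw [Matrix.single_apply_of_ne _ _ _ _ _ (fun h => hj h.2.symm),
        Pi.single_eq_of_ne hj, mul_zero, mul_zero]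
  · rw [Matrix.single_apply_of_ne _ _ _ _ _ (fun h => hi h.1.symm),
      Pi.single_eq_of_ne hi, zero_mul, mul_zero]

theorem estar_dot_estar : estar m F ⬝ᵥ estar m F = 1 := by
  simp [estar]

/-- the `R1`-conjugates of `a E_**`: `r = 1 + e_* uᵀ` sends it to `a (e_* - u)(e_* - u)ᵀ` -/
theorem symAct_r1 (u : Fin m → F) (a : F) :
    ((symAct (glTv (estar m F) (ext0 u) (ext0_dot_estar u)) (symE (Fin.last m) a) :
        Symm (m + 1) F) : Matrix (Fin (m + 1)) (Fin (m + 1)) F) =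
      a • vecMulVec (estar m F - ext0 u) (estar m F - ext0 u) := by
  rw [symAct_val, glTv_inv_val, symE_val, single_eq_smul_vecMulVec]
  have he : (Pi.single (Fin.last m) (1 : F) : Fin (m + 1) → F) = estar m F := rfl
  rw [he, Matrix.transpose_sub, Matrix.transpose_one, Matrix.transpose_vecMulVec,
    Matrix.mul_smul, Matrix.smul_mul]
  congr 1
  rw [Matrix.sub_mul, Matrix.one_mul, Matrix.vecMulVec_mul_vecMulVec, estar_dot_estar, one_smul,
    ← Matrix.sub_vecMulVec, Matrix.mul_sub, Matrix.mul_one, Matrix.vecMulVec_mul_vecMulVec,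
    estar_dot_estar, one_smul, ← Matrix.vecMulVec_sub]

/-- **(g5b)** `R1` acts simply transitively on `{Y : Y_** = a, rank Y ≤ 1}` (`a ≠ 0`) -/
theorem existsUnique_r1 {a : F} (ha : a ≠ 0) (Y : Symm (m + 1) F)
    (hY : (Y : Matrix (Fin (m + 1)) (Fin (m + 1)) F) (Fin.last m) (Fin.last m) = a)
    (hrk : ∀ i j k l, (Y : Matrix (Fin (m + 1)) (Fin (m + 1)) F) i j * Y.1 k l = Y.1 i l * Y.1 k j) :
    ∃! u : Fin m → F,
      symAct (glTv (estar m F) (ext0 u) (ext0_dot_estar u)) (symE (Fin.last m) a) = Y := by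
  have hsym : ∀ i j, Y.1 i j = Y.1 j i := by
    intro i j
    have h1 : (Y : Matrix (Fin (m + 1)) (Fin (m + 1)) F)ᵀ = Y := (mem_Symm _ _).1 Y.2
    have h2 := congrFun (congrFun h1 j) i
    rw [Matrix.transpose_apply] at h2
    exact h2
  refine ⟨fun i => - Y.1 (Fin.castSucc i) (Fin.last m) / a, ?_, ?_⟩
  · apply Subtype.ext
    rw [symAct_r1]
    ext i j
    rw [Matrix.smul_apply, Matrix.vecMulVec_apply, smul_eq_mul, Pi.sub_apply, Pi.sub_apply]
    refine Fin.lastCases ?_ (fun i' => ?_) i <;> refine Fin.lastCases ?_ (fun j' => ?_) j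
    · rw [estar_last, ext0_last, hY]; ring
    · rw [estar_last, ext0_last, estar_castSucc, ext0_castSucc, hsym]
      field_simp
      ring
    · rw [estar_last, ext0_last, estar_castSucc, ext0_castSucc]
      field_simp
      ring
    · rw [estar_castSucc, ext0_castSucc, estar_castSucc, ext0_castSucc]
      have h := hrk (Fin.castSucc i') (Fin.castSucc j') (Fin.last m) (Fin.last m)
      rw [hY, hsym (Fin.last m)] at h
      field_simp
      linear_combination (-1 : F) * h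
  · intro u hu
    funext i
    have h1 : (symAct (glTv (estar m F) (ext0 u) (ext0_dot_estar u)) (symE (Fin.last m) a)).1
        (Fin.castSucc i) (Fin.last m) = Y.1 (Fin.castSucc i) (Fin.last m) := by rw [hu]
    rw [symAct_r1, Matrix.smul_apply, Matrix.vecMulVec_apply, smul_eq_mul, Pi.sub_apply,
      Pi.sub_apply, estar_last, ext0_last, estar_castSucc, ext0_castSucc] at h1
    rw [← h1]
    field_simp
    ring


/-! ### (g5c): `T1` on the values `Y_**` -/

theorem glT1_inv_val_transpose' (s : Fˣ) :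
    (((glT1 (m := m) s)⁻¹ : GL (Fin (m + 1)) F).1)ᵀ = blk (1 : Matrix (Fin m) (Fin m) F) (s⁻¹ : Fˣ).1 := by
  rw [← map_inv, glT1_val, blk_transpose, Matrix.transpose_one]

/-- **(g5c)** `T1` acts on `a E_**` by `a ↦ a s⁻²` -/
theorem symAct_glT1 (s : Fˣ) (a : F) :
    symAct (glT1 (m := m) s) (symE (Fin.last m) a) =
      symE (Fin.last m) ((s⁻¹ : Fˣ).1 * a * (s⁻¹ : Fˣ).1) := by
  apply Subtype.ext
  rw [symAct_val, glT1_inv_val_transpose', symE_val, symE_val, ← map_inv, glT1_val]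
  ext i j
  refine Fin.lastCases ?_ (fun i' => ?_) i <;> refine Fin.lastCases ?_ (fun j' => ?_) j <;>
    simp [Matrix.mul_apply, Fin.sum_univ_castSucc, Matrix.single_apply, Fin.castSucc_ne_last,
      (Fin.castSucc_ne_last _).symm]

/-- **(g5c)** the `**`-entry under `T1` -/
theorem symAct_glT1_last (s : Fˣ) (Y : Symm (m + 1) F) :
    (symAct (glT1 (m := m) s) Y).1 (Fin.last m) (Fin.last m) =
      (s⁻¹ : Fˣ).1 * Y.1 (Fin.last m) (Fin.last m) * (s⁻¹ : Fˣ).1 := by
  rw [symAct_val, glT1_inv_val_transpose', ← map_inv, glT1_val]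
  simp [Matrix.mul_apply, Fin.sum_univ_castSucc]

/-! ### (g5d): `GL''` on `{Y'' ⊕ 0}` inside one `GL`-orbit -/

/-- `1 + a bᵀ` with `1 + b ⬝ᵥ a ≠ 0`, as an element of `GL_n` -/
noncomputable def glTv2 (a b : Fin n → F) (h : 1 + b ⬝ᵥ a ≠ 0) : GL (Fin n) F :=
  ⟨1 + vecMulVec a b, 1 - (1 + b ⬝ᵥ a)⁻¹ • vecMulVec a b, by
    have h2 : vecMulVec a b * vecMulVec a b = (b ⬝ᵥ a) • vecMulVec a b := by
      rw [Matrix.vecMulVec_mul_vecMulVec, Matrix.vecMulVec_smul]
    rw [Matrix.add_mul, Matrix.one_mul, Matrix.mul_sub, Matrix.mul_one, Matrix.mul_smul, h2]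
    have : (1 : F) - (1 + b ⬝ᵥ a)⁻¹ - (1 + b ⬝ᵥ a)⁻¹ * (b ⬝ᵥ a) = 0 := by
      field_simp
      ring
    calc 1 - (1 + b ⬝ᵥ a)⁻¹ • vecMulVec a b +
          (vecMulVec a b - (1 + b ⬝ᵥ a)⁻¹ • (b ⬝ᵥ a) • vecMulVec a b)
        = 1 + ((1 : F) - (1 + b ⬝ᵥ a)⁻¹ - (1 + b ⬝ᵥ a)⁻¹ * (b ⬝ᵥ a)) • vecMulVec a b := by
          rw [sub_smul, sub_smul, one_smul, mul_smul]; abel
      _ = 1 := by rw [this, zero_smul, add_zero], by
    have h2 : vecMulVec a b * vecMulVec a b = (b ⬝ᵥ a) • vecMulVec a b := by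
      rw [Matrix.vecMulVec_mul_vecMulVec, Matrix.vecMulVec_smul]
    rw [Matrix.sub_mul, Matrix.one_mul, Matrix.mul_add, Matrix.mul_one, Matrix.smul_mul, h2]
    have : (1 : F) - (1 + b ⬝ᵥ a)⁻¹ - (1 + b ⬝ᵥ a)⁻¹ * (b ⬝ᵥ a) = 0 := by
      field_simp
      ring
    calc 1 + vecMulVec a b -
          ((1 + b ⬝ᵥ a)⁻¹ • vecMulVec a b + (1 + b ⬝ᵥ a)⁻¹ • (b ⬝ᵥ a) • vecMulVec a b)
        = 1 + ((1 : F) - (1 + b ⬝ᵥ a)⁻¹ - (1 + b ⬝ᵥ a)⁻¹ * (b ⬝ᵥ a)) • vecMulVec a b := by
          rw [sub_smul, sub_smul, one_smul, mul_smul]; abel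
      _ = 1 := by rw [this, zero_smul, add_zero]⟩

theorem glTv2_val (a b : Fin n → F) (h : 1 + b ⬝ᵥ a ≠ 0) :
    ((glTv2 a b h : GL (Fin n) F) : Matrix (Fin n) (Fin n) F) = 1 + vecMulVec a b := rfl

/-- `GL_n` is transitive on non-zero vectors -/
theorem exists_gl_mulVec_eq (y z : Fin n → F) (hy : y ≠ 0) (hz : z ≠ 0) :
    ∃ M : GL (Fin n) F, M.1 *ᵥ y = z := by
  -- a functional `φ` with `φ y ≠ 0`, `φ z ≠ 0`
  have hφ : ∃ φ : Fin n → F, φ ⬝ᵥ y ≠ 0 ∧ φ ⬝ᵥ z ≠ 0 := by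
    have hy' : ∃ i, y i ≠ 0 := by
      by_contra h
      simp only [not_exists, not_not] at h
      exact hy (funext h)
    have hz' : ∃ j, z j ≠ 0 := by
      by_contra h
      simp only [not_exists, not_not] at h
      exact hz (funext h)
    obtain ⟨i, hi⟩ := hy'
    obtain ⟨j, hj⟩ := hz'
    by_cases h1 : z i = 0
    · by_cases h2 : y j = 0
      · have hij : i ≠ j := by
          intro h
          rw [h] at hi
          exact hi h2
        refine ⟨Pi.single i 1 + Pi.single j 1, ?_, ?_⟩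
        · rw [add_dotProduct, single_dotProduct, single_dotProduct, h2]
          simpa using hi
        · rw [add_dotProduct, single_dotProduct, single_dotProduct, h1]
          simpa using hj
      · exact ⟨Pi.single j 1, by rw [single_dotProduct]; simpa using h2,
          by rw [single_dotProduct]; simpa using hj⟩
    · exact ⟨Pi.single i 1, by rw [single_dotProduct]; simpa using hi,
        by rw [single_dotProduct]; simpa using h1⟩
  obtain ⟨φ, hφy, hφz⟩ := hφ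
  have hinv : 1 + ((φ ⬝ᵥ y)⁻¹ • φ) ⬝ᵥ (z - y) ≠ 0 := by
    rw [smul_dotProduct, dotProduct_sub, smul_eq_mul]
    have : 1 + (φ ⬝ᵥ y)⁻¹ * (φ ⬝ᵥ z - φ ⬝ᵥ y) = (φ ⬝ᵥ y)⁻¹ * (φ ⬝ᵥ z) := by
      field_simp
      ring
    rw [this]
    exact mul_ne_zero (inv_ne_zero hφy) hφz
  refine ⟨glTv2 (z - y) ((φ ⬝ᵥ y)⁻¹ • φ) hinv, ?_⟩
  rw [glTv2_val, Matrix.add_mulVec, Matrix.one_mulVec, Matrix.vecMulVec_mulVec,
    smul_dotProduct, smul_eq_mul, inv_mul_cancel₀ hφy]
  simp

/-- a non-zero symmetric matrix of rank `≤ 1` is `c⁻¹ y yᵀ` with `y` its `j0`-th column, `c = Y_{j0 j0} ≠ 0` -/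
theorem exists_rank_one_form (Y : Symm n F) (hne : Y ≠ 0)
    (hrk : ∀ i j k l, (Y : Matrix (Fin n) (Fin n) F) i j * Y.1 k l = Y.1 i l * Y.1 k j) :
    ∃ j0 : Fin n, Y.1 j0 j0 ≠ 0 ∧
      (Y : Matrix (Fin n) (Fin n) F) =
        (Y.1 j0 j0)⁻¹ • vecMulVec (fun i => Y.1 i j0) (fun i => Y.1 i j0) := by
  have hsym : ∀ i j, Y.1 i j = Y.1 j i := by
    intro i j
    have h1 : (Y : Matrix (Fin n) (Fin n) F)ᵀ = Y := (mem_Symm _ _).1 Y.2
    have h2 := congrFun (congrFun h1 j) i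
    rw [Matrix.transpose_apply] at h2
    exact h2
  have hex : ∃ i j, Y.1 i j ≠ 0 := by
    by_contra h
    simp only [not_exists, not_not] at h
    apply hne
    apply Subtype.ext
    ext i j
    exact h i j
  obtain ⟨i, j, hij⟩ := hex
  have hii : Y.1 i i ≠ 0 := by
    intro h0
    have h := hrk i j j i
    rw [h0, zero_mul, ← hsym i j] at h
    exact hij (mul_self_eq_zero.1 h)
  refine ⟨i, hii, ?_⟩
  ext k l
  rw [Matrix.smul_apply, Matrix.vecMulVec_apply, smul_eq_mul]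
  have h := hrk k l i i
  rw [hsym i l] at h
  field_simp
  linear_combination h

/-- **(g5d)** two matrices `Y = Y2 ⊕ 0`, `Y' = Y3 ⊕ 0` of rank `≤ 1`, `Y ≠ 0`, in one `GL_(m+1)`-orbit
are conjugate under `GL''` -/
theorem exists_glPP_of_symAct (Y Y' : Symm (m + 1) F) (hY : Y ∈ symPP m F) (hY' : Y' ∈ symPP m F)
    (hne : Y ≠ 0)
    (hrk : ∀ i j k l, (Y : Matrix (Fin (m + 1)) (Fin (m + 1)) F) i j * Y.1 k l = Y.1 i l * Y.1 k j)
    (g : GL (Fin (m + 1)) F) (hg : symAct g Y = Y') :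
    ∃ h : GL (Fin m) F, symAct (glPP h) Y = Y' := by
  obtain ⟨j0, hc, hform⟩ := exists_rank_one_form Y hne hrk
  set c : F := Y.1 j0 j0 with hcdef
  set y : Fin (m + 1) → F := fun i => Y.1 i j0 with hydef
  -- `y_* = 0`
  have hylast : y (Fin.last m) = 0 := symPP_row hY j0
  have hyj0 : y j0 = c := rfl
  -- `Y' = c⁻¹ z zᵀ`, `z = Kᵀ y`
  set K : Matrix (Fin (m + 1)) (Fin (m + 1)) F := (g⁻¹ : GL (Fin (m + 1)) F).1 with hK
  set z : Fin (m + 1) → F := Kᵀ *ᵥ y with hz
  have hY'form : (Y' : Matrix (Fin (m + 1)) (Fin (m + 1)) F) = c⁻¹ • vecMulVec z z := by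
    rw [← hg, symAct_val, hform, Matrix.mul_smul, Matrix.smul_mul, Matrix.mul_vecMulVec,
      Matrix.vecMulVec_mul, ← Matrix.mulVec_transpose]
  -- `z_* = 0`
  have hzlast : z (Fin.last m) = 0 := by
    have h := hY' (Fin.last m)
    rw [hY'form, Matrix.smul_apply, Matrix.vecMulVec_apply, smul_eq_mul] at h
    have h2 : z (Fin.last m) * z (Fin.last m) = 0 :=
      (mul_eq_zero.1 h).resolve_left (inv_ne_zero hc)
    exact mul_self_eq_zero.1 h2
  -- `z ≠ 0`
  have hKG : g.1ᵀ * Kᵀ = 1 := by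
    rw [← Matrix.transpose_mul, hK, ← Units.val_mul, inv_mul_cancel, Units.val_one,
      Matrix.transpose_one]
  have hz0 : z ≠ 0 := by
    intro h0
    have : g.1ᵀ *ᵥ z = y := by
      rw [hz, Matrix.mulVec_mulVec, hKG, Matrix.one_mulVec]
    rw [h0, Matrix.mulVec_zero] at this
    have h1 := congrFun this j0
    rw [hyj0] at h1
    exact hc h1.symm
  -- restrict to `Fin m`
  have hy'' : y ∘ Fin.castSucc ≠ 0 := by
    intro h0
    have hj0 : j0 ≠ Fin.last m := by
      intro h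
      rw [h] at hyj0
      rw [hyj0] at hylast
      exact hc hylast
    obtain ⟨j1, rfl⟩ := Fin.exists_castSucc_eq.2 hj0
    have := congrFun h0 j1
    exact hc this
  have hz'' : z ∘ Fin.castSucc ≠ 0 := by
    intro h0
    apply hz0
    funext i
    refine Fin.lastCases ?_ (fun i' => ?_) i
    · exact hzlast
    · exact congrFun h0 i'
  obtain ⟨M, hM⟩ := exists_gl_mulVec_eq _ _ hy'' hz''
  -- `h = M⁻ᵀ`
  have hM1 : M.1 * (M⁻¹ : GL (Fin m) F).1 = 1 := by
    rw [← Units.val_mul, mul_inv_cancel, Units.val_one]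
  have hM2 : (M⁻¹ : GL (Fin m) F).1 * M.1 = 1 := by
    rw [← Units.val_mul, inv_mul_cancel, Units.val_one]
  let h : GL (Fin m) F := ⟨((M⁻¹ : GL (Fin m) F).1)ᵀ, M.1ᵀ, by
    rw [← Matrix.transpose_mul, hM1, Matrix.transpose_one], by
    rw [← Matrix.transpose_mul, hM2, Matrix.transpose_one]⟩
  have hhinv : (h⁻¹ : GL (Fin m) F).1 = M.1ᵀ := rfl
  refine ⟨h, ?_⟩
  apply Subtype.ext
  have hinvT : (((glPP h)⁻¹ : GL (Fin (m + 1)) F).1)ᵀ = blk M.1 1 := by
    rw [← map_inv, glPP_val, blk_transpose, hhinv, Matrix.transpose_transpose]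
  have hinv' : ((glPP h)⁻¹ : GL (Fin (m + 1)) F).1 = (blk M.1 1)ᵀ := by
    rw [← hinvT, Matrix.transpose_transpose]
  rw [symAct_val, hinvT, hinv', hform, hY'form, Matrix.mul_smul, Matrix.smul_mul,
    Matrix.mul_vecMulVec, Matrix.vecMulVec_mul, Matrix.vecMul_transpose]
  have hzz : blk M.1 1 *ᵥ y = z := by
    funext i
    refine Fin.lastCases ?_ (fun i' => ?_) i
    · rw [hzlast]
      simp [Matrix.mulVec, dotProduct, Fin.sum_univ_castSucc, hylast]
    · have := congrFun hM i'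
      rw [Function.comp_apply] at this
      rw [← this]
      simp [Matrix.mulVec, dotProduct, Fin.sum_univ_castSucc, hylast]
  rw [hzz]


/-! ### the pairing `tr (X Y)` and the two actions -/

/-- `tr (X · (g⁻ᵀ Y g⁻¹)) = tr ((g⁻¹ X g⁻ᵀ) · Y)`: hence `l(g) V_Y = V_{symAct g Y}` for the `Q`-eigenspaces
`V_Y = {v : t(X) v = χ₀(tr (X Y)) v}` (use `lEl_conj_tEl'` with `g⁻¹`) -/
theorem trace_mul_symAct (g : GL (Fin n) F) (X Y : Symm n F) :
    Matrix.trace ((X : Matrix (Fin n) (Fin n) F) * (symAct g Y : Symm n F).1) =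
      Matrix.trace ((symConj g⁻¹ X : Symm n F).1 * (Y : Matrix (Fin n) (Fin n) F)) := by
  rw [symAct_val, symConj_val]
  rw [← Matrix.mul_assoc, ← Matrix.mul_assoc, Matrix.trace_mul_comm]
  simp only [Matrix.mul_assoc]

end Cfsg.Agent.Lib.H11.SpU
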