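import Cfsg.Prelude.Def_PLocal
import Cfsg.Prelude.Def_CaseTheorems
import Mathlib.GroupTheory.SpecificGroups.Dihedral
import Mathlib.GroupTheory.Sylow

set_option autoImplicit false

/-!
# S2772 piece (Q2) (helper11): `G / O₂(G)` cannot be the dihedral group of order 4
-/

namespace Cfsg.Agent.Lib.H11.S2772

open Cfsg

/-- (Q2) `q = 2`: `G / O₂(G)` of order 4 is a 2-group, so `G` is a 2-group, `O₂(G) = ⊤`, quotient trivial. -/
theorem q_eq_two {H : Type*} [Group H] [Finite H] (G : Subgroup H)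
    (hD : Nonempty (↥G ⧸ Cfsg.pCore 2 ↥G ≃* DihedralGroup 2)) : False := by
  classical
  obtain ⟨e⟩ := hD
  have : Fact (Nat.Prime 2) := ⟨Nat.prime_two⟩
  -- the quotient has order 4
  have hq : Nat.card (↥G ⧸ Cfsg.pCore 2 ↥G) = 4 := by
    rw [Nat.card_congr e.toEquiv, DihedralGroup.nat_card]
  -- `O₂(G)` is a 2-group
  have hN : IsPGroup 2 (Cfsg.pCore 2 ↥G) :=
    Sylow.sSup_of_normal _ (fun _ h => h.2) (fun _ h => h.1)
  obtain ⟨k, hk⟩ := IsPGroup.iff_card.mp hN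
  -- so `G` is a 2-group
  have hG : Nat.card ↥G = 2 ^ (k + 2) := by
    rw [Subgroup.card_eq_card_quotient_mul_card_subgroup (Cfsg.pCore 2 ↥G), hq, hk]
    ring
  have hGp : IsPGroup 2 ↥G := IsPGroup.of_card hG
  have htop : IsPGroup 2 ↥(⊤ : Subgroup ↥G) :=
    hGp.of_injective (⊤ : Subgroup ↥G).subtype Subtype.coe_injective
  have hle : (⊤ : Subgroup ↥G) ≤ Cfsg.pCore 2 ↥G :=
    le_sSup (a := (⊤ : Subgroup ↥G)) ⟨inferInstance, htop⟩
  have heq : Cfsg.pCore 2 ↥G = ⊤ := top_le_iff.mp hle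
  -- the quotient is trivial
  have h1 : Nat.card (↥G ⧸ Cfsg.pCore 2 ↥G) = 1 := by
    have : (Cfsg.pCore 2 ↥G).index = 1 := by rw [heq]; exact Subgroup.index_top
    rwa [Subgroup.index_eq_card] at this
  omega

end Cfsg.Agent.Lib.H11.S2772
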