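import Mathlib
import Cfsg.Agent.Lib.H9.S3571Defs

/-!
# S3571, GROUP block, piece (C1b) (helper11): an even permutation of prime order `r`
fixing no `k`-subset, where `r` is the largest prime divisor of `C(m,k)`.
-/

set_option autoImplicit false

namespace Cfsg.Agent.Lib.H11.S3571C1b

open Cfsg.Agent.Lib.H9.S3571 Equiv

/-! ### Lucas for a prime exceeding `k` -/

theorem choose_modEq_of_lt {n k p : ℕ} (hp : p.Prime) (hkp : k < p) :
    n.choose k ≡ (n % p).choose k [MOD p] := by
  have : Fact p.Prime := ⟨hp⟩
  have h := Choose.choose_modEq_choose_mod_mul_choose_div_nat (n := n) (k := k) (p := p)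
  rw [Nat.mod_eq_of_lt hkp, Nat.div_eq_of_lt hkp, Nat.choose_zero_right, mul_one] at h
  exact h

theorem mod_lt_of_dvd_choose {m k r : ℕ} (hr : r.Prime) (hkr : k < r) (hd : r ∣ m.choose k) :
    m % r < k := by
  have hmod := choose_modEq_of_lt (n := m) hr hkr
  by_contra hlt'
  have hge : k ≤ m % r := Nat.le_of_not_lt hlt'
  have h1 : r ∣ (m % r).choose k :=
    Nat.modEq_zero_iff_dvd.mp (hmod.symm.trans (Nat.modEq_zero_iff_dvd.mpr hd))
  have h2 : (m % r).choose k ∣ (m % r).factorial := by
    have := Nat.choose_mul_factorial_mul_factorial hge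
    exact ⟨k.factorial * (m % r - k).factorial, by rw [← this]; ring⟩
  have h3 : r ≤ m % r := (Nat.Prime.dvd_factorial hr).mp (h1.trans h2)
  have h4 : m % r < r := Nat.mod_lt m hr.pos
  omega

/-! ### invariant sets of a permutation of prime order -/

/-- a set invariant under `σ` of prime order `r` with fewer than `r` elements is fixed pointwise -/
theorem fixed_of_invariant {α : Type*} [DecidableEq α] {σ : Perm α} {r : ℕ} (hr : r.Prime)
    (ho : orderOf σ = r) {S : Finset α} (hS : S.image σ = S) (hcard : S.card < r) :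
    ∀ x ∈ S, σ x = x := by
  intro x hx
  by_contra hne
  have hmem : ∀ y ∈ S, σ y ∈ S := by
    intro y hy
    have : σ y ∈ S.image σ := Finset.mem_image_of_mem σ hy
    rwa [hS] at this
  have hpow : ∀ i : ℕ, (σ ^ i) x ∈ S := by
    intro i
    induction i with
    | zero => simpa using hx
    | succ i ih =>
      rw [pow_succ', Perm.mul_apply]
      exact hmem _ ih
  have hinj : Set.InjOn (fun i : ℕ => (σ ^ i) x) (Finset.range r : Set ℕ) := by
    have key : ∀ i j : ℕ, i < j → j < r → (σ ^ i) x = (σ ^ j) x → False := by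
      intro i j hij hjr h
      have hd : (σ ^ (j - i)) x = x := by
        have h1 : σ ^ j = σ ^ i * σ ^ (j - i) := by rw [← pow_add]; congr 1; omega
        rw [h1, Perm.mul_apply] at h
        exact ((σ ^ i).injective h).symm
      have hcop : Nat.Coprime (j - i) (orderOf σ) := by
        rw [ho]
        exact (Nat.coprime_of_lt_prime (by omega) (by omega) hr).symm
      obtain ⟨s, hs⟩ := exists_pow_eq_self_of_coprime hcop
      have hfix : ∀ n : ℕ, ((σ ^ (j - i)) ^ n) x = x := by
        intro n
        induction n with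
        | zero => simp
        | succ n ih => rw [pow_succ, Perm.mul_apply, hd, ih]
      apply hne
      have := hfix s
      rwa [hs] at this
    intro i hi j hj h
    simp only [Finset.coe_range, Set.mem_Iio] at hi hj
    rcases lt_trichotomy i j with hlt | heq | hgt
    · exact (key i j hlt hj h).elim
    · exact heq
    · exact (key j i hgt hi h.symm).elim
  have hle : (Finset.range r).card ≤ S.card :=
    Finset.card_le_card_of_injOn (fun i : ℕ => (σ ^ i) x) (fun i _ => hpow i) hinj
  rw [Finset.card_range] at hle
  omega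

/-! ### the piece -/

theorem c1b : C1bStmt := by
  intro m k r hm hk hkm hr hrd hrmax hSS
  obtain ⟨p, hp, hkp, hpd⟩ := hSS m k hk hkm
  have hkr : k < r := lt_of_lt_of_le hkp (hrmax p hp hpd)
  have hmod : m % r < k := mod_lt_of_dvd_choose hr hkr hrd
  have hrm : r ≤ m := by
    by_contra h
    have : m % r = m := Nat.mod_eq_of_lt (not_le.1 h)
    omega
  have hq : 1 ≤ m / r := Nat.div_pos hrm hr.pos
  have hqr : m / r * r + m % r = m := Nat.div_add_mod' m r
  -- the permutation
  obtain ⟨σ, hσ⟩ := (Equiv.Perm.exists_with_cycleType_iff (Fin m)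
      (m := Multiset.replicate (m / r) r)).2
    ⟨by
      rw [Multiset.sum_replicate, smul_eq_mul, Fintype.card_fin]
      omega,
     fun a ha => by
      rw [Multiset.eq_of_mem_replicate ha]
      exact hr.two_le⟩
  have hmemr : r ∈ Multiset.replicate (m / r) r :=
    Multiset.mem_replicate.2 ⟨by omega, rfl⟩
  have hord : orderOf σ = r := by
    rw [← Equiv.Perm.lcm_cycleType, hσ]
    apply Nat.dvd_antisymm
    · apply Multiset.lcm_dvd.2
      intro b hb
      rw [Multiset.eq_of_mem_replicate hb]
    · exact Multiset.dvd_lcm hmemr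
  have hsupp : σ.support.card = m / r * r := by
    rw [← Equiv.Perm.sum_cycleType, hσ, Multiset.sum_replicate, smul_eq_mul]
  refine ⟨σ, ?_, hord, ?_⟩
  · -- even
    rw [Equiv.Perm.mem_alternatingGroup, Equiv.Perm.sign_of_cycleType, hσ, Multiset.sum_replicate,
      Multiset.card_replicate, smul_eq_mul]
    apply Even.neg_one_pow
    rcases hr.eq_two_or_odd' with h2 | hodd
    · -- `r = 2`, `k = 1`, `m` a power of `2`, `m ≥ 8`
      subst h2
      have hk1 : k = 1 := by omega
      subst hk1
      rw [Nat.choose_one_right] at hrmax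
      have hpow : m = 2 ^ m.primeFactorsList.length := by
        apply Nat.eq_prime_pow_of_unique_prime_dvd (by omega)
        intro d hd hdm
        have h1 := hrmax d hd hdm
        have h2 := hd.two_le
        omega
      obtain ⟨a, ha⟩ : ∃ a, m.primeFactorsList.length = a := ⟨_, rfl⟩
      rw [ha] at hpow
      have ha3 : 3 ≤ a := by
        by_contra hlt
        have : a ≤ 2 := by omega
        have h4 : 2 ^ a ≤ 2 ^ 2 := Nat.pow_le_pow_right (by norm_num) this
        omega
      obtain ⟨c, rfl⟩ : ∃ c, a = c + 3 := ⟨a - 3, by omega⟩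
      have hm8 : m = 8 * 2 ^ c := by rw [hpow, pow_add]; ring
      have hdiv : m / 2 = 4 * 2 ^ c := by omega
      rw [hdiv]
      exact ⟨6 * 2 ^ c, by ring⟩
    · -- `r` odd
      obtain ⟨j, hj⟩ := hodd
      exact ⟨m / r * (j + 1), by rw [hj]; ring⟩
  · -- no invariant `k`-set
    intro S hScard hSinv
    have hfix := fixed_of_invariant hr hord hSinv (by omega)
    have hsub : S ⊆ σ.supportᶜ := by
      intro x hx
      rw [Finset.mem_compl, Equiv.Perm.mem_support, not_not]
      exact hfix x hx
    have h1 := Finset.card_le_card hsub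
    rw [Finset.card_compl, Fintype.card_fin, hsupp, hScard] at h1
    omega

end Cfsg.Agent.Lib.H11.S3571C1b
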