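import Mathlib
import Cfsg.Agent.Lib.H8.S3571SSDefs

/-!
# S3571, block NT (helper11, twin): the three-level upper bounds (SS4) and (SS5)

`C(n,k) ≤ 4^(m + √n) * n^t` whenever all prime factors of `C(n,k)` are `≤ m` and `n < (t+1)^3`.
-/

set_option autoImplicit false

namespace Cfsg.Agent.Lib.H11.S3571SS45

open Cfsg.Agent.Lib.H8.S3571SS

/-- the three-level bound -/
theorem choose_le_three_level (n k m t : ℕ) (hkn : k ≤ n) (hn : 0 < n)
    (hm : ∀ p : ℕ, p.Prime → p ∣ n.choose k → p ≤ m) (ht : n < (t + 1) ^ 3) :
    n.choose k ≤ 4 ^ (m + Nat.sqrt n) * n ^ t := by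
  classical
  have hc0 : n.choose k ≠ 0 := (Nat.choose_pos hkn).ne'
  have hprod := Nat.prod_pow_factorization_choose n k hkn
  -- the three comparison functions
  have hpt : ∀ p ∈ Finset.range (n + 1), p ^ (n.choose k).factorization p ≤
      (if p.Prime ∧ p ≤ t then n else 1) * ((if p.Prime ∧ p ≤ Nat.sqrt n then p else 1) *
        (if p.Prime ∧ p ≤ m then p else 1)) := by
    intro p _
    by_cases hp : p.Prime
    · have hp1 : 1 ≤ p := hp.one_lt.le
      have hG1 : 1 ≤ (if p.Prime ∧ p ≤ t then n else 1) := by
        split_ifs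
        · exact hn
        · exact le_refl 1
      have hG2 : 1 ≤ (if p.Prime ∧ p ≤ Nat.sqrt n then p else 1) := by
        split_ifs
        · exact hp1
        · exact le_refl 1
      have hG3 : 1 ≤ (if p.Prime ∧ p ≤ m then p else 1) := by
        split_ifs
        · exact hp1
        · exact le_refl 1
      by_cases hdvd : p ∣ n.choose k
      · have hpm : p ≤ m := hm p hp hdvd
        have e3 : (if p.Prime ∧ p ≤ m then p else 1) = p := if_pos ⟨hp, hpm⟩
        by_cases hpt' : p ≤ t
        · have e1 : (if p.Prime ∧ p ≤ t then n else 1) = n := if_pos ⟨hp, hpt'⟩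
          rw [e1]
          calc p ^ (n.choose k).factorization p ≤ n := Nat.pow_factorization_choose_le hn
            _ = n * 1 := (mul_one n).symm
            _ ≤ n * _ := Nat.mul_le_mul_left n (one_le_mul hG2 hG3)
        · have e1 : (if p.Prime ∧ p ≤ t then n else 1) = 1 := if_neg (fun h => hpt' h.2)
          rw [e1, one_mul, e3]
          have hp3 : n < p ^ 3 := lt_of_lt_of_le ht (Nat.pow_le_pow_left (by omega) 3)
          by_cases hps : p ≤ Nat.sqrt n
          · have e2 : (if p.Prime ∧ p ≤ Nat.sqrt n then p else 1) = p := if_pos ⟨hp, hps⟩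
            rw [e2]
            have hle : (n.choose k).factorization p ≤ 2 := by
              have h1 : (n.choose k).factorization p ≤ Nat.log p n :=
                Nat.factorization_choose_le_log
              have h2 : Nat.log p n < 3 := Nat.log_lt_of_lt_pow hn.ne' hp3
              omega
            calc p ^ (n.choose k).factorization p ≤ p ^ 2 := Nat.pow_le_pow_right hp1 hle
              _ = p * p := sq p
          · have e2 : (if p.Prime ∧ p ≤ Nat.sqrt n then p else 1) = 1 :=
              if_neg (fun h => hps h.2)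
            rw [e2, one_mul]
            have hlt : n < p ^ 2 := Nat.sqrt_lt'.1 (not_le.1 hps)
            have hle : (n.choose k).factorization p ≤ 1 := Nat.factorization_choose_le_one hlt
            calc p ^ (n.choose k).factorization p ≤ p ^ 1 := Nat.pow_le_pow_right hp1 hle
              _ = p := pow_one p
      · have h0 : (n.choose k).factorization p = 0 :=
          Nat.factorization_eq_zero_of_not_dvd hdvd
        rw [h0, pow_zero]
        exact one_le_mul hG1 (one_le_mul hG2 hG3)
    · rw [Nat.factorization_eq_zero_of_not_prime _ hp, pow_zero]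
      rw [if_neg (fun h => hp h.1), if_neg (fun h => hp h.1), if_neg (fun h => hp h.1)]
      exact le_of_eq (by norm_num)
  have hle : n.choose k ≤ ∏ p ∈ Finset.range (n + 1),
      ((if p.Prime ∧ p ≤ t then n else 1) * ((if p.Prime ∧ p ≤ Nat.sqrt n then p else 1) *
        (if p.Prime ∧ p ≤ m then p else 1))) := by
    rw [← hprod]
    exact Finset.prod_le_prod' hpt
  rw [Finset.prod_mul_distrib, Finset.prod_mul_distrib] at hle
  -- first factor
  have h1 : ∏ p ∈ Finset.range (n + 1), (if p.Prime ∧ p ≤ t then n else 1) ≤ n ^ t := by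
    rw [Finset.prod_ite, Finset.prod_const_one, mul_one, Finset.prod_const]
    apply Nat.pow_le_pow_right hn
    have hsub : (Finset.range (n + 1)).filter (fun p => p.Prime ∧ p ≤ t) ⊆ Finset.Icc 1 t := by
      intro p hp
      obtain ⟨_, h2, h3⟩ := Finset.mem_filter.1 hp
      exact Finset.mem_Icc.2 ⟨h2.one_lt.le, h3⟩
    calc _ ≤ (Finset.Icc 1 t).card := Finset.card_le_card hsub
      _ = t := by rw [Nat.card_Icc, Nat.add_sub_cancel]
  -- a general primorial bound
  have hprim : ∀ a : ℕ, ∏ p ∈ Finset.range (n + 1), (if p.Prime ∧ p ≤ a then p else 1) ≤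
      4 ^ a := by
    intro a
    refine le_trans ?_ (primorial_le_four_pow a)
    rw [Finset.prod_ite, Finset.prod_const_one, mul_one]
    unfold primorial
    apply Finset.prod_le_prod_of_subset_of_one_le'
    · intro p hp
      obtain ⟨_, h2, h3⟩ := Finset.mem_filter.1 hp
      exact Finset.mem_filter.2 ⟨Finset.mem_range.2 (by omega), h2⟩
    · intro p hp _
      exact (Finset.mem_filter.1 hp).2.one_lt.le
  calc n.choose k ≤ _ := hle
    _ ≤ n ^ t * (4 ^ Nat.sqrt n * 4 ^ m) :=
        Nat.mul_le_mul h1 (Nat.mul_le_mul (hprim (Nat.sqrt n)) (hprim m))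
    _ = 4 ^ (m + Nat.sqrt n) * n ^ t := by rw [pow_add]; ring

/-- (SS4) for `0 < n` (the shape `SS4Stmt` of the cut is false at `n = 0`, `k = 0`, `t = 1`) -/
theorem ss4_pos : ∀ n k t : ℕ, 0 < n → 2 * k ≤ n → Smooth n k → n < (t + 1) ^ 3 →
    n.choose k ≤ 4 ^ (k + Nat.sqrt n) * n ^ t := by
  intro n k t hn hnk hsm ht
  exact choose_le_three_level n k k t (by omega) hn hsm ht

/-- (SS5) -/
theorem ss5 : SS5Stmt := by
  intro n k t hn6 hnk hsm ht
  apply choose_le_three_level n k (n / 3) t (by omega) (by omega) _ ht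
  intro p hp hdvd
  by_contra hlt
  have hlt' : n / 3 < p := not_le.1 hlt
  have hn3 : n < 3 * p := by omega
  have hpk : p ≤ k := hsm p hp hdvd
  have hp2 : p ≠ 2 := by omega
  have h0 : (n.choose k).factorization p = 0 :=
    Nat.factorization_choose_of_lt_three_mul hp2 hpk (by omega) hn3
  have hpos : 0 < (n.choose k).factorization p :=
    hp.factorization_pos_of_dvd (Nat.choose_pos (by omega)).ne' hdvd
  omega

end Cfsg.Agent.Lib.H11.S3571SS45
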