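import Mathlib

/-!
# S3776, brick CONJ (STEP 2 of LEMMA E): two injective coefficient maps force `mu = lam ^ (2 ^ s)`

`F` a finite field of characteristic 2 with `2 ^ n` elements, `T` an additive group with an additive
endomorphism `θ`, `f g : T →+ F` with `f (θ t) = lam * f t`, `g (θ t) = mu * g t`, `f` injective and
`g ≠ 0`.  Then `mu` is a Frobenius conjugate of `lam`.
-/

set_option autoImplicit false

namespace Cfsg.Agent.Lib.H11.S3776Conj

open Polynomial

variable {F : Type*} [Field F] [Finite F] [CharP F 2]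

/-- the conjugate polynomial `∏_{s<n} (X - lam^(2^s))` -/
noncomputable def conjPoly (n : ℕ) (lam : F) : F[X] :=
  ∏ s ∈ Finset.range n, (X - C (lam ^ (2 ^ s)))

omit [CharP F 2] in
theorem pow_card_eq {n : ℕ} (hn : Nat.card F = 2 ^ n) (x : F) : x ^ (2 ^ n) = x := by
  have := Fintype.ofFinite F
  rw [← hn, Nat.card_eq_fintype_card]
  exact FiniteField.pow_card x

omit [CharP F 2] [Finite F] in
theorem n_pos {n : ℕ} (hn : Nat.card F = 2 ^ n) : 0 < n := by
  rcases Nat.eq_zero_or_pos n with h | h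
  · exfalso
    rw [h, pow_zero] at hn
    have : Subsingleton F := (Nat.card_eq_one_iff_unique.mp hn).1
    exact zero_ne_one (Subsingleton.elim (0 : F) 1)
  · exact h

theorem conjPoly_map_frobenius {n : ℕ} (hn : Nat.card F = 2 ^ n) (lam : F) :
    (conjPoly n lam).map (frobenius F 2) = conjPoly n lam := by
  have hpos := n_pos hn
  obtain ⟨k, rfl⟩ : ∃ k, n = k + 1 := ⟨n - 1, by omega⟩
  unfold conjPoly
  rw [Polynomial.map_prod]
  have h1 : ∀ s ∈ Finset.range (k + 1),
      (X - C (lam ^ (2 ^ s))).map (frobenius F 2) = X - C (lam ^ (2 ^ (s + 1))) := by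
    intro s _
    rw [Polynomial.map_sub, Polynomial.map_X, Polynomial.map_C, frobenius_def, ← pow_mul,
      ← pow_succ]
  rw [Finset.prod_congr rfl h1]
  rw [Finset.prod_range_succ (fun s => X - C (lam ^ (2 ^ (s + 1)))) k]
  rw [Finset.prod_range_succ' (fun s => X - C (lam ^ (2 ^ s))) k]
  rw [pow_card_eq hn lam, pow_zero, pow_one]

theorem conjPoly_coeff {n : ℕ} (hn : Nat.card F = 2 ^ n) (lam : F) (r : ℕ) :
    (conjPoly n lam).coeff r = 0 ∨ (conjPoly n lam).coeff r = 1 := by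
  have h := congrArg (fun p : F[X] => p.coeff r) (conjPoly_map_frobenius hn lam)
  simp only [Polynomial.coeff_map, frobenius_def] at h
  have h2 : (conjPoly n lam).coeff r * ((conjPoly n lam).coeff r - 1) = 0 := by
    rw [mul_sub, mul_one, ← pow_two, h, sub_self]
  rcases mul_eq_zero.mp h2 with h3 | h3
  · exact Or.inl h3
  · exact Or.inr (sub_eq_zero.mp h3)

omit [Finite F] [CharP F 2] in
theorem conjPoly_eval_self {n : ℕ} (hpos : 0 < n) (lam : F) : (conjPoly n lam).eval lam = 0 := by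
  unfold conjPoly
  rw [Polynomial.eval_prod]
  apply Finset.prod_eq_zero (Finset.mem_range.mpr hpos)
  simp

omit [Finite F] [CharP F 2] in
theorem conjPoly_root {n : ℕ} (lam mu : F) (h : (conjPoly n lam).eval mu = 0) :
    ∃ s : Fin n, mu = lam ^ (2 ^ (s : ℕ)) := by
  unfold conjPoly at h
  rw [Polynomial.eval_prod, Finset.prod_eq_zero_iff] at h
  obtain ⟨s, hs, h1⟩ := h
  refine ⟨⟨s, Finset.mem_range.mp hs⟩, ?_⟩
  simpa [sub_eq_zero] using h1

omit [Finite F] [CharP F 2] in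
theorem iterate_apply {T : Type*} [AddCommGroup T] (θ : T →+ T) (f : T →+ F) (lam : F)
    (hfl : ∀ t, f (θ t) = lam * f t) (r : ℕ) (t : T) : f (θ^[r] t) = lam ^ r * f t := by
  induction r with
  | zero => simp
  | succ r ih =>
    rw [Function.iterate_succ_apply', hfl, ih, pow_succ]
    ring

omit [Finite F] [CharP F 2] in
/-- evaluation of a `{0,1}`-polynomial through an intertwiner -/
theorem eval_through [DecidableEq F] {T : Type*} [AddCommGroup T] (P : F[X])
    (hP : ∀ r, P.coeff r = 0 ∨ P.coeff r = 1) (θ : T →+ T) (f : T →+ F) (lam : F)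
    (hfl : ∀ t, f (θ t) = lam * f t) (t : T) :
    f (∑ r ∈ Finset.range (P.natDegree + 1),
      (if P.coeff r = 1 then θ^[r] t else 0)) = P.eval lam * f t := by
  classical
  rw [map_sum, Polynomial.eval_eq_sum_range, Finset.sum_mul]
  apply Finset.sum_congr rfl
  intro r _
  rcases hP r with h | h
  · have h01 : ¬ (P.coeff r = 1) := by rw [h]; exact zero_ne_one
    rw [if_neg h01, map_zero, h, zero_mul, zero_mul]
  · rw [if_pos h, iterate_apply θ f lam hfl, h, one_mul]

/-- **CONJ**: two intertwiners with eigenvalues `lam`, `mu`, the first injective, the second nonzero: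
`mu` is a Frobenius conjugate of `lam`. -/
theorem conj_of_intertwine {n : ℕ} (hn : Nat.card F = 2 ^ n) {T : Type*} [AddCommGroup T]
    (θ : T →+ T) (f g : T →+ F) (hf : Function.Injective f) (lam mu : F)
    (hfl : ∀ t, f (θ t) = lam * f t) (hgm : ∀ t, g (θ t) = mu * g t) (hg : ∃ t, g t ≠ 0) :
    ∃ s : Fin n, mu = lam ^ (2 ^ (s : ℕ)) := by
  classical
  obtain ⟨t, ht⟩ := hg
  set P := conjPoly n lam with hPdef
  have hP : ∀ r, P.coeff r = 0 ∨ P.coeff r = 1 := conjPoly_coeff hn lam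
  have h1 := eval_through P hP θ f lam hfl t
  rw [conjPoly_eval_self (n_pos hn) lam, zero_mul] at h1
  have h2 : (∑ r ∈ Finset.range (P.natDegree + 1), (if P.coeff r = 1 then θ^[r] t else 0)) = 0 :=
    hf (by rw [h1, map_zero])
  have h3 := eval_through P hP θ g mu hgm t
  rw [h2, map_zero] at h3
  have h4 : P.eval mu = 0 := by
    rcases mul_eq_zero.mp h3.symm with h | h
    · exact h
    · exact absurd h ht
  exact conjPoly_root lam mu h4

omit [Finite F] [CharP F 2] in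
/-- the congruence fed to the number-theoretic lemma `nc` -/
theorem modEq_of_conj {ζ : F} (hζ : ζ ≠ 0) {m i j s : ℕ} (hm : orderOf ζ = m)
    (h : ζ * (ζ ^ (2 ^ j))⁻¹ = (ζ * (ζ ^ (2 ^ i))⁻¹) ^ (2 ^ s)) :
    2 ^ (i + s) + 1 ≡ 2 ^ j + 2 ^ s [MOD m] := by
  have hj : ζ ^ (2 ^ j) ≠ 0 := pow_ne_zero _ hζ
  have hi : ζ ^ (2 ^ i) ≠ 0 := pow_ne_zero _ hζ
  rw [mul_pow, inv_pow, ← pow_mul, ← pow_add] at h
  have his : ζ ^ (2 ^ (i + s)) ≠ 0 := pow_ne_zero _ hζ
  have h2 : ζ * ζ ^ (2 ^ (i + s)) = ζ ^ (2 ^ s) * ζ ^ (2 ^ j) := by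
    field_simp at h
    linear_combination h
  have h3 : ζ ^ (2 ^ (i + s) + 1) = ζ ^ (2 ^ j + 2 ^ s) := by
    calc ζ ^ (2 ^ (i + s) + 1) = ζ * ζ ^ (2 ^ (i + s)) := by rw [pow_succ, mul_comm]
      _ = ζ ^ (2 ^ s) * ζ ^ (2 ^ j) := h2
      _ = ζ ^ (2 ^ j + 2 ^ s) := by rw [pow_add (a := ζ) (2 ^ j) (2 ^ s), mul_comm]
  have h4 : (Units.mk0 ζ hζ) ^ (2 ^ (i + s) + 1) = (Units.mk0 ζ hζ) ^ (2 ^ j + 2 ^ s) := by
    apply Units.ext
    rw [Units.val_pow_eq_pow_val, Units.val_pow_eq_pow_val, Units.val_mk0]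
    exact h3
  have h5 : orderOf (Units.mk0 ζ hζ) = m := by
    rw [← hm, ← orderOf_units, Units.val_mk0]
  rw [← h5]
  exact pow_eq_pow_iff_modEq.mp h4

end Cfsg.Agent.Lib.H11.S3776Conj
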