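import Cfsg.Agent.Lib.H9.S3776Defs

/-!
# S3776, piece (8) S1C: step (1c) of helper9's proof (uses LEMMA E, multiplicative form)
-/

set_option autoImplicit false

namespace Cfsg.Agent.Lib.H11.S3776S1C

universe u

open Cfsg.Agent.Lib.H9.S3776

section Basic

variable {G : Type u} [Group G]

/-- the commutator `a b a⁻¹ b⁻¹` -/
def cm (a b : G) : G := a * b * a⁻¹ * b⁻¹

theorem comm_of_cm {a b : G} (h : cm a b = 1) : a * b = b * a := by
  unfold cm at h
  have h1 : a * b * a⁻¹ = b := mul_inv_eq_one.mp h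
  exact mul_inv_eq_iff_eq_mul.mp h1

theorem cm_self (a : G) : cm a a = 1 := by unfold cm; group

variable (V : Subgroup G) (hmem : ∀ x : G, x ∈ V ↔ x ^ 2 = 1)
  (hcen : ∀ v ∈ V, ∀ g : G, g * v = v * g) (h3 : ∀ x y : G, x * y * x⁻¹ * y⁻¹ ∈ V)

include hcen h3 in
theorem cm_mul_left (a b g : G) : cm (a * b) g = cm a g * cm b g := by
  have hk : ∀ y : G, y * cm b g = cm b g * y := fun y => hcen _ (h3 b g) y
  calc cm (a * b) g = a * cm b g * (g * a⁻¹ * g⁻¹) := by unfold cm; group
    _ = cm b g * a * (g * a⁻¹ * g⁻¹) := by rw [hk a]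
    _ = cm b g * cm a g := by unfold cm; group
    _ = cm a g * cm b g := (hk (cm a g)).symm

include hcen h3 in
theorem cm_mul_right (a g h : G) : cm a (g * h) = cm a g * cm a h := by
  have hk : ∀ y : G, y * cm a h = cm a h * y := fun y => hcen _ (h3 a h) y
  calc cm a (g * h) = a * g * a⁻¹ * (cm a h * g⁻¹) := by unfold cm; group
    _ = a * g * a⁻¹ * (g⁻¹ * cm a h) := by rw [hk g⁻¹]
    _ = cm a g * cm a h := by unfold cm; group

include hmem hcen h3 in
theorem sq_comm (x g : G) : x ^ 2 * g = g * x ^ 2 := by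
  apply comm_of_cm
  have e : x ^ 2 = x * x := pow_two x
  rw [e, cm_mul_left V hcen h3]
  have h1 : cm x g ^ 2 = 1 := (hmem _).mp (h3 x g)
  rw [← pow_two, h1]

theorem cm_of_central_left (z g : G) (hz : ∀ y : G, z * y = y * z) : cm z g = 1 := by
  unfold cm; rw [hz g]; group

theorem cm_of_central_right (a z : G) (hz : ∀ y : G, z * y = y * z) : cm a z = 1 := by
  unfold cm; rw [mul_assoc a z, hz a⁻¹]; group

include hcen h3 in
theorem cm_central_left (a g z : G) (hz : ∀ y : G, z * y = y * z) : cm (a * z) g = cm a g := by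
  rw [cm_mul_left V hcen h3, cm_of_central_left z g hz, mul_one]

include hcen h3 in
theorem cm_central_right (a g z : G) (hz : ∀ y : G, z * y = y * z) : cm a (g * z) = cm a g := by
  rw [cm_mul_right V hcen h3, cm_of_central_right a z hz, mul_one]

include hmem hcen h3 in
theorem sq_central (x : G) : ∀ y : G, x ^ 2 * y = y * x ^ 2 := fun y => sq_comm V hmem hcen h3 x y

include hcen h3 in
theorem sq_mul (a b : G) : (a * b) ^ 2 = cm b a * (a ^ 2 * b ^ 2) := by
  have hk : ∀ y : G, y * cm b a = cm b a * y := fun y => hcen _ (h3 b a) y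
  calc (a * b) ^ 2 = a * cm b a * (a * b * b) := by rw [pow_two]; unfold cm; group
    _ = cm b a * a * (a * b * b) := by rw [hk a]
    _ = cm b a * (a ^ 2 * b ^ 2) := by rw [pow_two, pow_two]; group

include hmem hcen h3 in
theorem pow4_mul (a b : G) : (a * b) ^ 4 = a ^ 4 * b ^ 4 := by
  have h4 : ∀ x : G, x ^ 4 = (x ^ 2) ^ 2 := fun x => by rw [← pow_mul]
  have hk : Commute (cm b a) (a ^ 2 * b ^ 2) := (hcen _ (h3 b a) _).symm
  have hab : Commute (a ^ 2) (b ^ 2) := sq_comm V hmem hcen h3 a (b ^ 2)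
  have hk2 : cm b a ^ 2 = 1 := (hmem _).mp (h3 b a)
  rw [h4 (a * b), sq_mul V hcen h3, hk.mul_pow, hk2, one_mul, hab.mul_pow, ← h4, ← h4]

include hmem hcen h3 in
theorem powr_mul (s : ℕ) (a b : G) :
    (a * b) ^ (2 ^ (s + 2)) = a ^ (2 ^ (s + 2)) * b ^ (2 ^ (s + 2)) := by
  have h4 : ∀ x : G, x ^ (2 ^ (s + 2)) = (x ^ 4) ^ (2 ^ s) := fun x => by
    rw [← pow_mul]; congr 1; rw [pow_add]; ring
  have hc : Commute (a ^ 4) (b ^ 4) := by
    have e : a ^ 4 = (a ^ 2) ^ 2 := by rw [← pow_mul]
    rw [e]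
    exact sq_comm V hmem hcen h3 (a ^ 2) (b ^ 4)
  rw [h4 (a * b), pow4_mul V hmem hcen h3, hc.mul_pow, ← h4, ← h4]

variable (h2 : ∀ x : G, x ^ 2 ∈ V → x ∈ Subgroup.center G)

include hmem h2 in
/-- base of the structure induction -/
theorem root_base (s : ℕ) (hπ : ∀ v ∈ V, ∃ x : G, x ^ (2 ^ (s + 2)) = v) (g : G) (hg : g ^ 2 ∈ V) :
    ∃ x : G, ∃ v ∈ V, g = v * x ^ (2 ^ (s + 1)) := by
  obtain ⟨x, hx⟩ := hπ _ hg
  set y := x ^ (2 ^ (s + 1)) with hy
  have hy2 : y ^ 2 = g ^ 2 := by
    rw [hy, ← pow_mul, ← pow_succ]; exact hx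
  have hyc : y ∈ Subgroup.center G := h2 y (by rw [hy2]; exact hg)
  have hcomm : Commute g y⁻¹ := by
    have := (Subgroup.mem_center_iff.mp (Subgroup.inv_mem _ hyc)) g
    exact this
  refine ⟨x, g * y⁻¹, ?_, ?_⟩
  · rw [hmem, hcomm.mul_pow, inv_pow, hy2, mul_inv_cancel]
  · rw [inv_mul_cancel_right]

include hmem hcen h3 h2 in
/-- the structure induction: `g^(2^j) ∈ V` forces `g ∈ V * G^(2^i)`, `i + j = r` -/
theorem root_step (s : ℕ) (hπ : ∀ v ∈ V, ∃ x : G, x ^ (2 ^ (s + 2)) = v) :
    ∀ j : ℕ, 1 ≤ j → ∀ i : ℕ, 1 ≤ i → i + j = s + 2 → ∀ g : G, g ^ (2 ^ j) ∈ V →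
      ∃ x : G, ∃ v ∈ V, g = v * x ^ (2 ^ i) := by
  intro j hj
  induction j, hj using Nat.le_induction with
  | base =>
    intro i _ hij g hg
    have hi : i = s + 1 := by omega
    subst hi
    exact root_base V hmem h2 s hπ g (by simpa using hg)
  | succ j hj ih =>
    intro i hi hij g hg
    have hg2 : (g ^ 2) ^ (2 ^ j) ∈ V := by
      rw [← pow_mul, ← pow_succ']; exact hg
    obtain ⟨x, v, hv, hgx⟩ := ih (i + 1) (by omega) (by omega) (g ^ 2) hg2
    obtain ⟨i', rfl⟩ : ∃ i', i = i' + 1 := ⟨i - 1, by omega⟩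
    obtain ⟨j', rfl⟩ : ∃ j', j = j' + 1 := ⟨j - 1, by omega⟩
    set y := x ^ (2 ^ (i' + 1)) with hy
    have hy2 : y ^ 2 = x ^ (2 ^ (i' + 1 + 1)) := by
      rw [hy, ← pow_mul, ← pow_succ]
    have hycen : ∀ z : G, y * z = z * y := by
      have e : y = (x ^ (2 ^ i')) ^ 2 := by rw [hy, ← pow_mul, ← pow_succ]
      rw [e]
      exact sq_central V hmem hcen h3 _
    have hcomm : Commute g y⁻¹ := by
      have h1 : Commute y g := hycen g
      exact h1.symm.inv_right
    have hu : (g * y⁻¹) ^ 2 ∈ V := by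
      rw [hcomm.mul_pow, inv_pow, hy2, hgx, mul_inv_cancel_right]
      exact hv
    obtain ⟨w, v', hv', hw⟩ := root_base V hmem h2 s hπ (g * y⁻¹) hu
    set a := w ^ (2 ^ (j' + 1)) with ha
    have hacen : ∀ z : G, a * z = z * a := by
      have e : a = (w ^ (2 ^ j')) ^ 2 := by rw [ha, ← pow_mul, ← pow_succ]
      rw [e]
      exact sq_central V hmem hcen h3 _
    have hax : Commute a x := hacen x
    have hs : s + 1 = (j' + 1) + (i' + 1) := by omega
    have hwa : w ^ (2 ^ (s + 1)) = a ^ (2 ^ (i' + 1)) := by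
      rw [ha, ← pow_mul, hs, pow_add]
    refine ⟨a * x, v', hv', ?_⟩
    rw [hax.mul_pow, ← hwa, ← mul_assoc, ← hw, ← hy, inv_mul_cancel_right]

end Basic

theorem aut_center {G : Type u} [Group G] (f : MulAut G) {z : G} (hz : z ∈ Subgroup.center G) :
    f z ∈ Subgroup.center G := by
  rw [Subgroup.mem_center_iff] at hz ⊢
  intro y
  have h1 := hz (f.symm y)
  have h2 := congrArg f h1
  rw [map_mul, map_mul, MulEquiv.apply_symm_apply] at h2
  exact h2

set_option maxHeartbeats 1600000 in
/-- **(S1C)** -/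
theorem s1c : S1CStmt.{u} := by
  intro G E _ _ _ _ φ V hLE hH hF h1 h2 h3
  classical
  by_contra hna
  have hmem := hF.mem
  have hcen := hF.cen
  have hVc : ∀ v ∈ V, v ∈ Subgroup.center G := fun v hv =>
    Subgroup.mem_center_iff.mpr (fun g => hcen v hv g)
  have hab_of : (∀ g : G, g ∈ Subgroup.center G) → False := by
    intro h
    apply hna
    intro a b
    exact (Subgroup.mem_center_iff.mp (h b) a)
  -- Step A: the exponent
  have hex : ∃ k : ℕ, ∀ g : G, g ^ (2 ^ k) ∈ V := by
    obtain ⟨n, hn⟩ := (IsPGroup.iff_card (p := 2) (G := G)).mp hH.pG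
    refine ⟨n, fun g => ?_⟩
    rw [← hn, pow_card_eq_one']
    exact V.one_mem
  set r := Nat.find hex with hr
  have hrP : ∀ g : G, g ^ (2 ^ r) ∈ V := Nat.find_spec hex
  have hr2 : 2 ≤ r := by
    by_contra hlt
    apply hab_of
    intro g
    apply h2
    have hr01 : r = 0 ∨ r = 1 := by omega
    rcases hr01 with h0 | h0
    · have := hrP g
      rw [h0, pow_zero, pow_one] at this
      exact V.pow_mem this 2
    · have := hrP g
      rw [h0, pow_one] at this
      exact this
  obtain ⟨s, hs⟩ : ∃ s, r = s + 2 := ⟨r - 2, by omega⟩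
  have hrP' : ∀ g : G, g ^ (2 ^ (s + 2)) ∈ V := by rw [← hs]; exact hrP
  have hmin : ¬ ∀ g : G, g ^ (2 ^ (s + 1)) ∈ V := by
    have := Nat.find_min hex (m := s + 1) (by omega)
    exact this
  push Not at hmin
  obtain ⟨g0, hg0⟩ := hmin
  -- the power homomorphism
  let pw : G →* G :=
    { toFun := fun g => g ^ (2 ^ (s + 2))
      map_one' := one_pow _
      map_mul' := fun a b => powr_mul V hmem hcen h3 s a b }
  have hpw : ∀ g, pw g = g ^ (2 ^ (s + 2)) := fun _ => rfl
  have hpwφ : ∀ e g, pw (φ e g) = φ e (pw g) := fun e g => by rw [hpw, hpw, map_pow]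
  -- Step B: `pw` is onto `V`
  have hπ : ∀ v ∈ V, ∃ x : G, x ^ (2 ^ (s + 2)) = v := by
    have hW : pw.range ≤ V := by
      rintro _ ⟨g, rfl⟩
      exact hrP' g
    have hWinv : Inv φ pw.range := by
      rintro e _ ⟨g, rfl⟩
      exact ⟨φ e g, hpwφ e g⟩
    rcases hF.irr _ hW hWinv with hbot | htop
    · exfalso
      have h0 : pw g0 ∈ pw.range := ⟨g0, rfl⟩
      rw [hbot, Subgroup.mem_bot, hpw, pow_succ 2 (s + 1), pow_mul] at h0
      exact hg0 ((hmem _).mpr h0)
    · intro v hv
      rw [← htop] at hv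
      obtain ⟨x, hx⟩ := hv
      exact ⟨x, hx⟩
  -- Step C: the kernel of `pw` is central
  have hN : ∀ g : G, g ^ (2 ^ (s + 2)) = 1 → g ∈ Subgroup.center G := by
    intro g hg
    have hgV : g ^ (2 ^ (s + 1)) ∈ V := by
      rw [hmem, ← pow_mul, ← pow_succ]; exact hg
    obtain ⟨x, v, hv, hgx⟩ := root_step V hmem hcen h3 h2 s hπ (s + 1) (by omega) 1 le_rfl
      (by omega) g hgV
    rw [hgx]
    apply Subgroup.mul_mem _ (hVc v hv)
    rw [pow_one]
    exact Subgroup.mem_center_iff.mpr (fun y => (sq_central V hmem hcen h3 x y).symm)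
  -- Step D: the centre lies in the kernel of `pw`
  have hZ : ∀ z ∈ Subgroup.center G, z ^ (2 ^ (s + 2)) = 1 := by
    have hW : (Subgroup.center G).map pw ≤ V := by
      rintro _ ⟨g, _, rfl⟩
      exact hrP' g
    have hWinv : Inv φ ((Subgroup.center G).map pw) := by
      rintro e _ ⟨g, hg, rfl⟩
      exact ⟨φ e g, aut_center (φ e) hg, hpwφ e g⟩
    rcases hF.irr _ hW hWinv with hbot | htop
    · intro z hz
      have h0 : pw z ∈ (Subgroup.center G).map pw := ⟨z, hz, rfl⟩
      rw [hbot, Subgroup.mem_bot] at h0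
      exact h0
    · exfalso
      apply hab_of
      intro g
      have hgV : pw g ∈ (Subgroup.center G).map pw := by rw [htop]; exact hrP' g
      obtain ⟨z, hz, hzg⟩ := hgV
      have h0 : pw (g * z⁻¹) = 1 := by rw [map_mul, map_inv, hzg, mul_inv_cancel]
      have h4 := hN _ h0
      have := Subgroup.mul_mem _ h4 hz
      rwa [inv_mul_cancel_right] at this
  -- Step E: LEMMA E
  have hcc : ∀ z : G, z ∈ Subgroup.center G → ∀ y : G, z * y = y * z := fun z hz y =>
    (Subgroup.mem_center_iff.mp hz y).symm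
  let aV : E → ↥V → ↥V := fun e v => ⟨φ e v, hF.inv e v v.2⟩
  have hchar : ∀ e : E, Subgroup.center G ≤ (Subgroup.center G).comap (φ e).toMonoidHom :=
    fun e z hz => aut_center (φ e) hz
  let aT : E → (G ⧸ Subgroup.center G) → (G ⧸ Subgroup.center G) := fun e =>
    QuotientGroup.map (Subgroup.center G) (Subgroup.center G) (φ e).toMonoidHom (hchar e)
  have haT : ∀ e g, aT e (QuotientGroup.mk g) = QuotientGroup.mk (φ e g) := fun e g => rfl
  let hh : ↥V → G := fun v => Classical.choose (hπ v v.2)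
  have hh_spec : ∀ v : ↥V, (hh v) ^ (2 ^ (s + 2)) = v := fun v => Classical.choose_spec (hπ v v.2)
  let b : (G ⧸ Subgroup.center G) → ↥V → ↥V := fun t v => ⟨cm (hh v) t.out, h3 _ _⟩
  have b_eq : ∀ (g h : G) (v : ↥V), h ^ (2 ^ (s + 2)) = v →
      ((b (QuotientGroup.mk g) v : ↥V) : G) = cm h g := by
    intro g h v hv
    obtain ⟨z, hz⟩ := QuotientGroup.mk_out_eq_mul (Subgroup.center G) g
    have hn : h⁻¹ * hh v ∈ Subgroup.center G := by
      apply hN
      have : pw (h⁻¹ * hh v) = 1 := by
        rw [map_mul, map_inv, hpw, hpw, hv, hh_spec, inv_mul_cancel]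
      exact this
    have e1 : hh v = h * (h⁻¹ * hh v) := by group
    show cm (hh v) (QuotientGroup.mk g : G ⧸ Subgroup.center G).out = cm h g
    rw [hz, e1, cm_central_left V hcen h3 _ _ _ (hcc _ hn),
      cm_central_right V hcen h3 _ _ _ (hcc _ z.2)]
  have hconcl := hLE E ↥V (G ⧸ Subgroup.center G) aV aT b hH.solv
    (by
      intro v
      apply Subtype.ext
      have := (hmem v).mp v.2
      rw [pow_two] at this
      exact this)
    (by
      intro t
      induction t using QuotientGroup.induction_on with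
      | H g =>
        rw [← QuotientGroup.mk_mul, QuotientGroup.eq_one_iff, ← pow_two]
        exact Subgroup.mem_center_iff.mpr (fun y => (sq_central V hmem hcen h3 g y).symm))
    (by
      intro e v w
      apply Subtype.ext
      show φ e ((v * w : ↥V) : G) = φ e v * φ e w
      rw [Subgroup.coe_mul, map_mul])
    (by
      intro e f v
      apply Subtype.ext
      show φ (e * f) v = φ e (φ f v)
      rw [map_mul]; rfl)
    (by
      intro v
      apply Subtype.ext
      show φ 1 v = v
      rw [map_one]; rfl)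
    (by
      intro e t s
      exact map_mul _ t s)
    (by
      intro e f t
      induction t using QuotientGroup.induction_on with
      | H g =>
        rw [haT, haT, haT, map_mul]; rfl)
    (by
      intro t
      induction t using QuotientGroup.induction_on with
      | H g =>
        rw [haT, map_one]; rfl)
    (by
      obtain ⟨x, y, hx, hy, hxy, hx1, hy1⟩ := hF.two
      refine ⟨⟨x, hx⟩, ⟨y, hy⟩, ?_, ?_, ?_⟩
      · intro h; exact hx1 (congrArg Subtype.val h)
      · intro h; exact hy1 (congrArg Subtype.val h)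
      · intro h; exact hxy (congrArg Subtype.val h))
    (by
      intro v w hv hw
      obtain ⟨e, he⟩ := hF.trans v w v.2 w.2
        (fun h => hv (Subtype.ext h)) (fun h => hw (Subtype.ext h))
      exact ⟨e, Subtype.ext he⟩)
    (by
      intro S hS
      -- the image of the preimage of `S` under `pw`
      let W : Subgroup G := (S.comap (QuotientGroup.mk' (Subgroup.center G))).map pw
      have hW : W ≤ V := by
        rintro _ ⟨g, _, rfl⟩
        exact hrP' g
      have hWinv : Inv φ W := by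
        rintro e _ ⟨g, hg, rfl⟩
        refine ⟨φ e g, ?_, hpwφ e g⟩
        show (QuotientGroup.mk (φ e g) : G ⧸ Subgroup.center G) ∈ S
        rw [← haT]
        exact hS e _ hg
      rcases hF.irr W hW hWinv with hbot | htop
      · left
        rw [eq_bot_iff]
        intro t ht
        induction t using QuotientGroup.induction_on with
        | H g =>
          have h0 : pw g ∈ W := ⟨g, ht, rfl⟩
          rw [hbot, Subgroup.mem_bot] at h0
          rw [Subgroup.mem_bot, QuotientGroup.eq_one_iff]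
          exact hN g h0
      · right
        rw [eq_top_iff]
        intro t _
        induction t using QuotientGroup.induction_on with
        | H g =>
          have hgW : pw g ∈ W := by rw [htop]; exact hrP' g
          obtain ⟨g', hg', hgg'⟩ := hgW
          have h0 : pw (g'⁻¹ * g) = 1 := by rw [map_mul, map_inv, hgg', inv_mul_cancel]
          have h4 : g'⁻¹ * g ∈ Subgroup.center G := hN _ h0
          have h5 : (QuotientGroup.mk g' : G ⧸ Subgroup.center G) = QuotientGroup.mk g :=
            QuotientGroup.eq.mpr h4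
          rw [← h5]
          exact hg')
    (by
      intro t s v
      induction t using QuotientGroup.induction_on with
      | H g =>
        induction s using QuotientGroup.induction_on with
        | H g' =>
          apply Subtype.ext
          rw [← QuotientGroup.mk_mul, Subgroup.coe_mul, b_eq _ _ _ (hh_spec v),
            b_eq _ _ _ (hh_spec v), b_eq _ _ _ (hh_spec v), cm_mul_right V hcen h3])
    (by
      intro t v w
      induction t using QuotientGroup.induction_on with
      | H g =>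
        apply Subtype.ext
        have hvw : (hh v * hh w) ^ (2 ^ (s + 2)) = ((v * w : ↥V) : G) := by
          rw [powr_mul V hmem hcen h3, hh_spec, hh_spec, Subgroup.coe_mul]
        rw [Subgroup.coe_mul, b_eq _ _ _ hvw, b_eq _ _ _ (hh_spec v), b_eq _ _ _ (hh_spec w),
          cm_mul_left V hcen h3])
    (by
      intro e t v
      induction t using QuotientGroup.induction_on with
      | H g =>
        apply Subtype.ext
        have hev : (φ e (hh v)) ^ (2 ^ (s + 2)) = ((aV e v : ↥V) : G) := by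
          rw [← map_pow, hh_spec]
        rw [haT, b_eq _ _ _ hev]
        show cm (φ e (hh v)) (φ e g) = φ e ((b (QuotientGroup.mk g) v : ↥V) : G)
        rw [b_eq _ _ _ (hh_spec v)]
        unfold cm
        rw [map_mul, map_mul, map_mul, map_inv, map_inv])
    (by
      by_contra hall
      push Not at hall
      apply hna
      intro x y
      apply comm_of_cm
      have := hall (QuotientGroup.mk y) ⟨x ^ (2 ^ (s + 2)), hrP' x⟩
      have h5 := congrArg Subtype.val this
      rw [b_eq y x _ rfl] at h5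
      exact h5)
  -- the contradiction
  obtain ⟨g, hg⟩ : ∃ g : G, g ∉ Subgroup.center G := by
    by_contra hall
    push Not at hall
    exact hab_of hall
  have ht : (QuotientGroup.mk g : G ⧸ Subgroup.center G) ≠ 1 := by
    intro h
    exact hg ((QuotientGroup.eq_one_iff g).mp h)
  have hv : (⟨g ^ (2 ^ (s + 2)), hrP' g⟩ : ↥V) ≠ 1 := by
    intro h
    have := congrArg Subtype.val h
    exact hg (hN g this)
  apply hconcl _ _ ht hv
  apply Subtype.ext
  rw [b_eq g g _ rfl, cm_self]
  rfl

example : S1CStmt.{0} := s1c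

end Cfsg.Agent.Lib.H11.S3776S1C
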