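import Mathlib

/-!
# Module lemma (group form) for S3777

`A ⊴ G`, `A' ≤ B ≤ A`.  One step: adjoining the commutators `⁅a, y⁆` (`a ∈ A`) to `B`
multiplies the order by at most `|A : C_A(y)|`.  Iterating over a list of generators of
`G` modulo `A` bounds `|⁅A, G⁆|`.
-/

set_option autoImplicit false

namespace Cfsg.Agent.H11.S3777ML

open scoped commutatorElement Pointwise

variable {G : Type*} [Group G]

/-- `⁅a * a', y⁆ = (a * ⁅a', y⁆ * a⁻¹) * ⁅a, y⁆`. -/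
theorem comm_mul_left (a a' y : G) : ⁅a * a', y⁆ = (a * ⁅a', y⁆ * a⁻¹) * ⁅a, y⁆ := by
  simp only [commutatorElement_def]; group

/-- `⁅a, y * z⁆ = ⁅a, y⁆ * (y * ⁅a, z⁆ * y⁻¹)`. -/
theorem comm_mul_right (a y z : G) : ⁅a, y * z⁆ = ⁅a, y⁆ * (y * ⁅a, z⁆ * y⁻¹) := by
  simp only [commutatorElement_def]; group

theorem conj_eq_comm_mul (x g : G) : g * x * g⁻¹ = ⁅g, x⁆ * x := by
  simp only [commutatorElement_def]; group

/-- A subgroup between `A'` and `A` is normalised by `A`. -/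
theorem conj_mem_of_comm_le {A B : Subgroup G} (hBA : B ≤ A) (hAB : ⁅A, A⁆ ≤ B)
    {a b : G} (ha : a ∈ A) (hb : b ∈ B) : a * b * a⁻¹ ∈ B := by
  rw [conj_eq_comm_mul]
  exact B.mul_mem (hAB (Subgroup.commutator_mem_commutator ha (hBA hb))) hb

theorem comm_mem_of_normal {A : Subgroup G} [A.Normal] {a : G} (ha : a ∈ A) (y : G) :
    ⁅a, y⁆ ∈ A := by
  rw [commutatorElement_def]
  have : y * a⁻¹ * y⁻¹ ∈ A := Subgroup.Normal.conj_mem inferInstance _ (A.inv_mem ha) y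
  have h2 := A.mul_mem ha this
  convert h2 using 1; group

theorem comm_le_self (A : Subgroup G) : ⁅A, A⁆ ≤ A :=
  Subgroup.commutator_le.mpr fun g₁ h₁ g₂ h₂ => by
    rw [commutatorElement_def]
    exact A.mul_mem (A.mul_mem (A.mul_mem h₁ h₂) (A.inv_mem h₁)) (A.inv_mem h₂)

/-- The subgroup `S_y * B`, `S_y = {⁅a, y⁆ : a ∈ A}`. -/
def stepSubgroup (A B : Subgroup G) [A.Normal] (hBA : B ≤ A) (hAB : ⁅A, A⁆ ≤ B) (y : G) :
    Subgroup G where
  carrier := {g | ∃ a ∈ A, ∃ b ∈ B, g = ⁅a, y⁆ * b}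
  one_mem' := ⟨1, A.one_mem, 1, B.one_mem, by simp⟩
  mul_mem' := by
    rintro g g' ⟨a, ha, b, hb, rfl⟩ ⟨a', ha', b', hb', rfl⟩
    refine ⟨a * a', A.mul_mem ha ha', ⁅a * a', y⁆⁻¹ * (⁅a, y⁆ * b * (⁅a', y⁆ * b')), ?_, by group⟩
    have hc : ⁅a, y⁆ ∈ A := comm_mem_of_normal ha y
    have hc' : ⁅a', y⁆ ∈ A := comm_mem_of_normal ha' y
    set c := ⁅a, y⁆ with hcdef
    set c' := ⁅a', y⁆ with hc'def
    have h1 : ⁅a * a', y⁆ = (a * c' * a⁻¹) * c := comm_mul_left a a' y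
    have hβ : c⁻¹ * (a * c'⁻¹ * a⁻¹) * c * c' ∈ ⁅A, A⁆ := by
      have e : c⁻¹ * (a * c'⁻¹ * a⁻¹) * c * c' =
          (c⁻¹ * ⁅a, c'⁻¹⁆ * c⁻¹⁻¹) * ⁅c⁻¹, c'⁻¹⁆ := by
        simp only [commutatorElement_def]; group
      rw [e]
      refine Subgroup.mul_mem _ ?_
        (Subgroup.commutator_mem_commutator (A.inv_mem hc) (A.inv_mem hc'))
      exact conj_mem_of_comm_le (comm_le_self A) le_rfl (A.inv_mem hc)
        (Subgroup.commutator_mem_commutator ha (A.inv_mem hc'))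
    have hconj : c'⁻¹ * b * c'⁻¹⁻¹ ∈ B := conj_mem_of_comm_le hBA hAB (A.inv_mem hc') hb
    have e2 : ⁅a * a', y⁆⁻¹ * (c * b * (c' * b')) =
        (c⁻¹ * (a * c'⁻¹ * a⁻¹) * c * c') * (c'⁻¹ * b * c'⁻¹⁻¹) * b' := by
      rw [h1]; group
    rw [e2]
    exact B.mul_mem (B.mul_mem (hAB hβ) hconj) hb'
  inv_mem' := by
    rintro g ⟨a, ha, b, hb, rfl⟩
    refine ⟨a⁻¹, A.inv_mem ha, ⁅a⁻¹, y⁆⁻¹ * (⁅a, y⁆ * b)⁻¹, ?_, by group⟩
    have hc : ⁅a, y⁆ ∈ A := comm_mem_of_normal ha y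
    have he : ⁅a⁻¹, y⁆ ∈ A := comm_mem_of_normal (A.inv_mem ha) y
    set c := ⁅a, y⁆ with hcdef
    set e := ⁅a⁻¹, y⁆ with hedef
    have h1 : (1 : G) = (a * e * a⁻¹) * c := by
      have := comm_mul_left a a⁻¹ y
      rw [mul_inv_cancel, commutatorElement_one_left] at this
      exact this
    have hc2 : c = a * e⁻¹ * a⁻¹ := by
      have : c = (a * e * a⁻¹)⁻¹ := by
        rw [eq_comm, inv_eq_iff_mul_eq_one]; exact h1.symm
      rw [this]; group
    have hce : c * e ∈ ⁅A, A⁆ := by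
      have : c * e = ⁅a, e⁻¹⁆ := by rw [hc2, commutatorElement_def]; group
      rw [this]
      exact Subgroup.commutator_mem_commutator ha (A.inv_mem he)
    have hconj : c * b⁻¹ * c⁻¹ ∈ B := conj_mem_of_comm_le hBA hAB hc (B.inv_mem hb)
    have e2 : e⁻¹ * (c * b)⁻¹ = (c * e)⁻¹ * (c * b⁻¹ * c⁻¹) := by group
    rw [e2]
    exact B.mul_mem (B.inv_mem (hAB hce)) hconj

theorem mem_stepSubgroup {A B : Subgroup G} [A.Normal] (hBA : B ≤ A) (hAB : ⁅A, A⁆ ≤ B) (y : G)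
    (g : G) : g ∈ stepSubgroup A B hBA hAB y ↔ ∃ a ∈ A, ∃ b ∈ B, g = ⁅a, y⁆ * b := Iff.rfl

theorem le_stepSubgroup {A B : Subgroup G} [A.Normal] (hBA : B ≤ A) (hAB : ⁅A, A⁆ ≤ B) (y : G) :
    B ≤ stepSubgroup A B hBA hAB y := fun b hb => ⟨1, A.one_mem, b, hb, by simp⟩

theorem stepSubgroup_le {A B : Subgroup G} [A.Normal] (hBA : B ≤ A) (hAB : ⁅A, A⁆ ≤ B) (y : G) :
    stepSubgroup A B hBA hAB y ≤ A := by
  rintro g ⟨a, ha, b, hb, rfl⟩
  exact A.mul_mem (comm_mem_of_normal ha y) (hBA hb)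

theorem comm_mem_stepSubgroup {A B : Subgroup G} [A.Normal] (hBA : B ≤ A) (hAB : ⁅A, A⁆ ≤ B)
    (y : G) {a : G} (ha : a ∈ A) : ⁅a, y⁆ ∈ stepSubgroup A B hBA hAB y :=
  ⟨a, ha, 1, B.one_mem, by simp⟩

/-- The commutator map `a ↦ ⁅a, y⁆` on the left cosets of `C_A(y)` in `A`. -/
noncomputable def commQ (A : Subgroup G) (y : G) :
    (A ⧸ (Subgroup.centralizer ({y} : Set G)).subgroupOf A) → G :=
  Quotient.lift (fun a : A => ⁅(a : G), y⁆) (by
    intro a a' h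
    have h' : (a : A)⁻¹ * a' ∈ (Subgroup.centralizer ({y} : Set G)).subgroupOf A :=
      QuotientGroup.leftRel_apply.mp h
    rw [Subgroup.mem_subgroupOf, Subgroup.mem_centralizer_iff] at h'
    have h2 := h' y (Set.mem_singleton y)
    simp only [Subgroup.coe_mul, Subgroup.coe_inv] at h2
    -- h2 : y * (a⁻¹ * a') = a⁻¹ * a' * y
    simp only [commutatorElement_def]
    have h3 : (a' : G) = a * ((a : G)⁻¹ * a') := by group
    have h4 : ((a : G)⁻¹ * a') * y * ((a : G)⁻¹ * a')⁻¹ = y := by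
      rw [← h2]; group
    calc (a : G) * y * (a : G)⁻¹ * y⁻¹
        = (a : G) * (((a : G)⁻¹ * a') * y * ((a : G)⁻¹ * a')⁻¹) * (a : G)⁻¹ * y⁻¹ := by rw [h4]
      _ = (a' : G) * y * (a' : G)⁻¹ * y⁻¹ := by group)

theorem commQ_mk (A : Subgroup G) (y : G) (a : A) :
    commQ A y (QuotientGroup.mk a) = ⁅(a : G), y⁆ := rfl

theorem card_stepSubgroup_le [Finite G] {A B : Subgroup G} [A.Normal] (hBA : B ≤ A)
    (hAB : ⁅A, A⁆ ≤ B) (y : G) :
    Nat.card (stepSubgroup A B hBA hAB y) ≤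
      (Subgroup.centralizer ({y} : Set G)).relIndex A * Nat.card B := by
  have hsub : ((stepSubgroup A B hBA hAB y : Subgroup G) : Set G) ⊆
      Set.range (commQ A y) * (B : Set G) := by
    rintro g ⟨a, ha, b, hb, rfl⟩
    exact Set.mul_mem_mul ⟨QuotientGroup.mk ⟨a, ha⟩, rfl⟩ hb
  calc Nat.card (stepSubgroup A B hBA hAB y)
      = Nat.card ((stepSubgroup A B hBA hAB y : Subgroup G) : Set G) := rfl
    _ ≤ Nat.card (Set.range (commQ A y) * (B : Set G) : Set G) :=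
        Nat.card_mono (Set.toFinite _) hsub
    _ ≤ Nat.card (Set.range (commQ A y)) * Nat.card (B : Set G) := Set.natCard_mul_le
    _ ≤ (Subgroup.centralizer ({y} : Set G)).relIndex A * Nat.card B := by
        refine Nat.mul_le_mul ?_ le_rfl
        exact Finite.card_range_le _

/-- The elements `g` with `⁅A, g⁆ ⊆ B` form a subgroup (`A' ≤ B ≤ A ⊴ G`). -/
def commSet (A B : Subgroup G) [A.Normal] (hBA : B ≤ A) (_hAB : ⁅A, A⁆ ≤ B) : Subgroup G where
  carrier := {g | ∀ a ∈ A, ⁅a, g⁆ ∈ B}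
  one_mem' := fun a _ => by rw [commutatorElement_one_right]; exact B.one_mem
  mul_mem' := by
    intro g h hg hh a ha
    rw [comm_mul_right]
    refine B.mul_mem (hg a ha) ?_
    have hx : ⁅a, h⁆ ∈ B := hh a ha
    have e : g * ⁅a, h⁆ * g⁻¹ = (⁅⁅a, h⁆, g⁆)⁻¹ * ⁅a, h⁆ := by
      simp only [commutatorElement_def]; group
    rw [e]
    exact B.mul_mem (B.inv_mem (hg _ (hBA hx))) hx
  inv_mem' := by
    intro g hg a ha
    have e : ⁅a, g⁻¹⁆ = (⁅g⁻¹ * a * g⁻¹⁻¹, g⁆)⁻¹ := by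
      simp only [commutatorElement_def]; group
    rw [e]
    exact B.inv_mem (hg _ (Subgroup.Normal.conj_mem inferInstance a ha g⁻¹))

theorem mem_commSet {A B : Subgroup G} [A.Normal] (hBA : B ≤ A) (hAB : ⁅A, A⁆ ≤ B) (g : G) :
    g ∈ commSet A B hBA hAB ↔ ∀ a ∈ A, ⁅a, g⁆ ∈ B := Iff.rfl

/-- Iterating `stepSubgroup` along a list. -/
theorem exists_chain [Finite G] (A : Subgroup G) [A.Normal] (n : ℕ) (ys : List G)
    (hn : ∀ y ∈ ys, (Subgroup.centralizer ({y} : Set G)).relIndex A ≤ n) :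
    ∀ (B₀ : Subgroup G), B₀ ≤ A → ⁅A, A⁆ ≤ B₀ →
      ∃ B : Subgroup G, B₀ ≤ B ∧ B ≤ A ∧ (∀ y ∈ ys, ∀ a ∈ A, ⁅a, y⁆ ∈ B) ∧
        Nat.card B ≤ Nat.card B₀ * n ^ ys.length := by
  induction ys with
  | nil =>
    intro B₀ hBA _
    exact ⟨B₀, le_rfl, hBA, by simp, by simp⟩
  | cons y ys ih =>
    intro B₀ hBA hAB
    have hn' : ∀ z ∈ ys, (Subgroup.centralizer ({z} : Set G)).relIndex A ≤ n :=
      fun z hz => hn z (List.mem_cons_of_mem _ hz)
    obtain ⟨B, h1, h2, h3, h4⟩ := ih hn' (stepSubgroup A B₀ hBA hAB y)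
      (stepSubgroup_le hBA hAB y) (hAB.trans (le_stepSubgroup hBA hAB y))
    refine ⟨B, (le_stepSubgroup hBA hAB y).trans h1, h2, ?_, ?_⟩
    · intro z hz a ha
      rcases List.mem_cons.mp hz with rfl | hz
      · exact h1 (comm_mem_stepSubgroup hBA hAB z ha)
      · exact h3 z hz a ha
    · have h5 := card_stepSubgroup_le hBA hAB y
      have h6 : (Subgroup.centralizer ({y} : Set G)).relIndex A ≤ n :=
        hn y (List.mem_cons_self ..)
      calc Nat.card B ≤ Nat.card (stepSubgroup A B₀ hBA hAB y) * n ^ ys.length := h4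
        _ ≤ (n * Nat.card B₀) * n ^ ys.length :=
            Nat.mul_le_mul (h5.trans (Nat.mul_le_mul h6 le_rfl)) le_rfl
        _ = Nat.card B₀ * n ^ (y :: ys).length := by
            rw [List.length_cons, pow_succ]; ring

/-- **Module lemma, group form.**  `A ⊴ G`, `A' ≤ B₀ ≤ A`, `G = ⟨A, S₀, ys⟩`, every `y ∈ S₀` has
`⁅A, y⁆ ⊆ B₀`, every `y ∈ ys` has `|A : C_A(y)| ≤ n`.  Then `|⁅A, G⁆| ≤ |B₀| * n ^ |ys|`. -/
theorem card_comm_top_le [Finite G] (A : Subgroup G) [A.Normal] (B₀ : Subgroup G)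
    (hBA : B₀ ≤ A) (hAB : ⁅A, A⁆ ≤ B₀) (S₀ : Set G)
    (hS₀ : ∀ y ∈ S₀, ∀ a ∈ A, ⁅a, y⁆ ∈ B₀) (ys : List G)
    (hgen : A ⊔ Subgroup.closure (S₀ ∪ {y | y ∈ ys}) = ⊤) (n : ℕ)
    (hn : ∀ y ∈ ys, (Subgroup.centralizer ({y} : Set G)).relIndex A ≤ n) :
    Nat.card (⁅A, (⊤ : Subgroup G)⁆ : Subgroup G) ≤ Nat.card B₀ * n ^ ys.length := by
  obtain ⟨B, h1, h2, h3, h4⟩ := exists_chain A n ys hn B₀ hBA hAB
  have hAB' : ⁅A, A⁆ ≤ B := hAB.trans h1
  have htop : commSet A B h2 hAB' = ⊤ := by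
    rw [eq_top_iff, ← hgen]
    refine sup_le ?_ ((Subgroup.closure_le _).mpr ?_)
    · intro a' ha' a ha
      exact hAB' (Subgroup.commutator_mem_commutator ha ha')
    · rintro y (hy | hy)
      · exact fun a ha => h1 (hS₀ y hy a ha)
      · exact fun a ha => h3 y hy a ha
  have hle : ⁅A, (⊤ : Subgroup G)⁆ ≤ B := by
    refine Subgroup.commutator_le.mpr fun a ha g _ => ?_
    have : g ∈ commSet A B h2 hAB' := by rw [htop]; trivial
    exact this a ha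
  exact (Subgroup.card_le_of_le hle).trans h4

/-- Product version of `exists_chain`. -/
theorem exists_chain_prod [Finite G] (A : Subgroup G) [A.Normal] (ys : List G) :
    ∀ (B₀ : Subgroup G), B₀ ≤ A → ⁅A, A⁆ ≤ B₀ →
      ∃ B : Subgroup G, B₀ ≤ B ∧ B ≤ A ∧ (∀ y ∈ ys, ∀ a ∈ A, ⁅a, y⁆ ∈ B) ∧
        Nat.card B ≤ Nat.card B₀ *
          (ys.map fun y => (Subgroup.centralizer ({y} : Set G)).relIndex A).prod := by
  induction ys with
  | nil =>
    intro B₀ hBA _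
    exact ⟨B₀, le_rfl, hBA, by simp, by simp⟩
  | cons y ys ih =>
    intro B₀ hBA hAB
    obtain ⟨B, h1, h2, h3, h4⟩ := ih (stepSubgroup A B₀ hBA hAB y)
      (stepSubgroup_le hBA hAB y) (hAB.trans (le_stepSubgroup hBA hAB y))
    refine ⟨B, (le_stepSubgroup hBA hAB y).trans h1, h2, ?_, ?_⟩
    · intro z hz a ha
      rcases List.mem_cons.mp hz with rfl | hz
      · exact h1 (comm_mem_stepSubgroup hBA hAB z ha)
      · exact h3 z hz a ha
    · have h5 := card_stepSubgroup_le hBA hAB y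
      calc Nat.card B ≤ Nat.card (stepSubgroup A B₀ hBA hAB y) *
              (ys.map fun y => (Subgroup.centralizer ({y} : Set G)).relIndex A).prod := h4
        _ ≤ ((Subgroup.centralizer ({y} : Set G)).relIndex A * Nat.card B₀) *
              (ys.map fun y => (Subgroup.centralizer ({y} : Set G)).relIndex A).prod :=
            Nat.mul_le_mul h5 le_rfl
        _ = Nat.card B₀ * ((y :: ys).map fun y =>
              (Subgroup.centralizer ({y} : Set G)).relIndex A).prod := by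
            rw [List.map_cons, List.prod_cons]; ring

/-- Module lemma, group form, product version. -/
theorem card_comm_top_le_prod [Finite G] (A : Subgroup G) [A.Normal] (B₀ : Subgroup G)
    (hBA : B₀ ≤ A) (hAB : ⁅A, A⁆ ≤ B₀) (S₀ : Set G)
    (hS₀ : ∀ y ∈ S₀, ∀ a ∈ A, ⁅a, y⁆ ∈ B₀) (ys : List G)
    (hgen : A ⊔ Subgroup.closure (S₀ ∪ {y | y ∈ ys}) = ⊤) :
    Nat.card (⁅A, (⊤ : Subgroup G)⁆ : Subgroup G) ≤ Nat.card B₀ *
      (ys.map fun y => (Subgroup.centralizer ({y} : Set G)).relIndex A).prod := by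
  obtain ⟨B, h1, h2, h3, h4⟩ := exists_chain_prod A ys B₀ hBA hAB
  have hAB' : ⁅A, A⁆ ≤ B := hAB.trans h1
  have htop : commSet A B h2 hAB' = ⊤ := by
    rw [eq_top_iff, ← hgen]
    refine sup_le ?_ ((Subgroup.closure_le _).mpr ?_)
    · intro a' ha' a ha
      exact hAB' (Subgroup.commutator_mem_commutator ha ha')
    · rintro y (hy | hy)
      · exact fun a ha => h1 (hS₀ y hy a ha)
      · exact fun a ha => h3 y hy a ha
  have hle : ⁅A, (⊤ : Subgroup G)⁆ ≤ B := by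
    refine Subgroup.commutator_le.mpr fun a ha g _ => ?_
    have : g ∈ commSet A B h2 hAB' := by rw [htop]; trivial
    exact this a ha
  exact (Subgroup.card_le_of_le hle).trans h4

/-- `K₀ = A ⊔ ⟨y₀⟩` has `K₀' ≤ A` (`K₀ / A` is cyclic). -/
theorem comm_sup_zpowers_le (A : Subgroup G) [A.Normal] (y₀ : G) :
    ⁅A ⊔ Subgroup.zpowers y₀, A ⊔ Subgroup.zpowers y₀⁆ ≤ A := by
  have hK : A ⊔ Subgroup.zpowers y₀ ≤
      (Subgroup.zpowers (QuotientGroup.mk' A y₀)).comap (QuotientGroup.mk' A) := by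
    refine sup_le ?_ ?_
    · intro a ha
      rw [Subgroup.mem_comap]
      have : QuotientGroup.mk' A a = 1 := (QuotientGroup.eq_one_iff a).mpr ha
      rw [this]; exact Subgroup.one_mem _
    · rw [Subgroup.zpowers_le]
      exact Subgroup.mem_zpowers _
  refine Subgroup.commutator_le.mpr fun g₁ h₁ g₂ h₂ => ?_
  obtain ⟨i, hi⟩ := Subgroup.mem_zpowers_iff.mp (Subgroup.mem_comap.mp (hK h₁))
  obtain ⟨j, hj⟩ := Subgroup.mem_zpowers_iff.mp (Subgroup.mem_comap.mp (hK h₂))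
  have : QuotientGroup.mk' A ⁅g₁, g₂⁆ = 1 := by
    rw [map_commutatorElement, ← hi, ← hj, commutatorElement_eq_one_iff_commute]
    exact (Commute.refl _).zpow_zpow i j
  exact (QuotientGroup.eq_one_iff _).mp this

/-- **Concrete module lemma** in the shape of helper18's claim #9495:
`|⁅A, G⁆| ≤ |K₀'| * ∏_{s ∈ S} |A : C_A(s)|` when `G = ⟨A, y₀, S⟩`, `K₀ = A ⊔ ⟨y₀⟩`. -/
theorem card_comm_top_le_finset [Finite G] (A : Subgroup G) [A.Normal] (y₀ : G) (S : Finset G)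
    (hgen : A ⊔ Subgroup.closure (insert y₀ (S : Set G)) = ⊤) :
    Nat.card (⁅A, (⊤ : Subgroup G)⁆ : Subgroup G) ≤
      Nat.card (⁅A ⊔ Subgroup.zpowers y₀, A ⊔ Subgroup.zpowers y₀⁆ : Subgroup G) *
        ∏ s ∈ S, (A ⊓ Subgroup.centralizer ({s} : Set G)).relIndex A := by
  have h := card_comm_top_le_prod A ⁅A ⊔ Subgroup.zpowers y₀, A ⊔ Subgroup.zpowers y₀⁆
    (comm_sup_zpowers_le A y₀) (Subgroup.commutator_mono le_sup_left le_sup_left) {y₀}
    (by
      intro y hy a ha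
      rw [Set.mem_singleton_iff] at hy
      subst hy
      exact Subgroup.commutator_mem_commutator (le_sup_left (a := A) ha)
        (le_sup_right (a := A) (Subgroup.mem_zpowers y))) S.toList
    (by
      rw [← hgen]
      congr 2
      ext x
      simp [Set.mem_insert_iff])
  refine h.trans (le_of_eq ?_)
  congr 1
  rw [Finset.prod_map_toList]
  refine Finset.prod_congr rfl fun s _ => ?_
  rw [inf_comm, Subgroup.inf_relIndex_right]

end Cfsg.Agent.H11.S3777ML
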