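import Cfsg.Agent.Lib.H5.S3777P1Defs
import Cfsg.Agent.Lib.H11.S3777ML

/-!
# S3777: pieces `S3` (module lemma with generators outside `M`) and `S6` of helper5's P1 sub-cut
-/

set_option autoImplicit false

namespace Cfsg.Agent.H11.S3777S3

open scoped commutatorElement
open Cfsg.Agent.Lib.H5.S3777 Cfsg.Agent.H11.S3777ML

universe u

variable {G : Type*} [Group G]

/-- A subgroup containing the complement of a proper subgroup is everything. -/
theorem eq_top_of_compl_le {M C : Subgroup G} (hM : M ≠ ⊤) (h : ∀ y : G, y ∉ M → y ∈ C) :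
    C = ⊤ := by
  obtain ⟨y₀, hy₀⟩ : ∃ y₀ : G, y₀ ∉ M := by
    by_contra hcon
    push_neg at hcon
    exact hM (eq_top_iff.mpr fun g _ => hcon g)
  rw [eq_top_iff]
  intro g _
  by_cases hg : g ∈ M
  · have h1 : g * y₀ ∉ M := fun hc => hy₀ (by
      have := M.mul_mem (M.inv_mem hg) hc
      simpa using this)
    have h2 := C.mul_mem (h _ h1) (C.inv_mem (h _ hy₀))
    simpa using h2
  · exact h g hg

theorem ne_top_of_index_prime {p : ℕ} [Fact p.Prime] {M : Subgroup G} (hM : M.index = p) :
    M ≠ ⊤ := by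
  intro h
  rw [h, Subgroup.index_top] at hM
  exact (Fact.out : p.Prime).one_lt.ne hM

/-- (S6) -/
theorem s6 : S6Stmt.{u} := by
  intro p _ G _ _ M A hM hA h
  have := hA
  have hC : commSet A ⁅A, A⁆ (comm_le_self A) le_rfl = ⊤ :=
    eq_top_of_compl_le (ne_top_of_index_prime hM) fun y hy a ha =>
      h y hy (Subgroup.commutator_mem_commutator ha (Subgroup.mem_zpowers y))
  refine Subgroup.commutator_le.mpr fun a ha g _ => ?_
  have : g ∈ commSet A ⁅A, A⁆ (comm_le_self A) le_rfl := by rw [hC]; trivial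
  exact this a ha

/-- In a finite `p`-group a strictly larger subgroup has index smaller by a factor `p`. -/
theorem index_mul_le_of_lt [Finite G] {p : ℕ} [Fact p.Prime] (hG : IsPGroup p G)
    {H H' : Subgroup G} (hle : H ≤ H') (hne : ¬ H' ≤ H) : H'.index * p ≤ H.index := by
  have h1 : H.relIndex H' * H'.index = H.index := Subgroup.relIndex_mul_index hle
  obtain ⟨k, hk⟩ := hG.index H
  have hdvd : H.relIndex H' ∣ p ^ k := hk ▸ Dvd.intro _ h1
  obtain ⟨j, -, hj⟩ := (Nat.dvd_prime_pow (Fact.out : p.Prime)).mp hdvd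
  have hj0 : j ≠ 0 := by
    rintro rfl
    rw [pow_zero] at hj
    exact hne (Subgroup.relIndex_eq_one.mp hj)
  have hp : p ≤ H.relIndex H' := by
    rw [hj]
    calc p = p ^ 1 := (pow_one p).symm
      _ ≤ p ^ j := Nat.pow_le_pow_right (Fact.out : p.Prime).pos (Nat.one_le_iff_ne_zero.mpr hj0)
  calc H'.index * p ≤ H'.index * H.relIndex H' := Nat.mul_le_mul le_rfl hp
    _ = H.index := by rw [mul_comm]; exact h1

/-- Generator chain: a subgroup `H ≰ M` of index `≤ p ^ n` is completed to `G` by at most `n`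
elements outside `M`. -/
theorem gen_chain [Finite G] {p : ℕ} [Fact p.Prime] (hG : IsPGroup p G) (M : Subgroup G) :
    ∀ (n : ℕ) (H : Subgroup G), ¬ H ≤ M → H.index ≤ p ^ n →
      ∃ ys : List G, (∀ y ∈ ys, y ∉ M) ∧ ys.length ≤ n ∧
        H ⊔ Subgroup.closure {y | y ∈ ys} = ⊤ := by
  intro n
  induction n with
  | zero =>
    intro H _ hidx
    refine ⟨[], by simp, by simp, ?_⟩
    have h1 : H.index = 1 := by
      have hpos : H.index ≠ 0 := Subgroup.index_ne_zero_of_finite
      rw [pow_zero] at hidx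
      omega
    have : H = ⊤ := Subgroup.index_eq_one.mp h1
    simp [this]
  | succ n ih =>
    intro H hHM hidx
    by_cases hH : H = ⊤
    · exact ⟨[], by simp, by simp, by simp [hH]⟩
    · obtain ⟨h, hhH, hhM⟩ : ∃ h : G, h ∈ H ∧ h ∉ M := by
        by_contra hcon
        push_neg at hcon
        exact hHM fun x hx => hcon x hx
      obtain ⟨g, hgH⟩ : ∃ g : G, g ∉ H := by
        by_contra hcon
        push_neg at hcon
        exact hH (eq_top_iff.mpr fun x _ => hcon x)
      obtain ⟨y, hyM, hyH⟩ : ∃ y : G, y ∉ M ∧ y ∉ H := by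
        by_cases hgM : g ∈ M
        · refine ⟨g * h, fun hc => hhM ?_, fun hc => hgH ?_⟩
          · have := M.mul_mem (M.inv_mem hgM) hc
            simpa using this
          · have := H.mul_mem hc (H.inv_mem hhH)
            simpa using this
        · exact ⟨g, hgM, hgH⟩
      have hle : H ≤ H ⊔ Subgroup.zpowers y := le_sup_left
      have hne : ¬ H ⊔ Subgroup.zpowers y ≤ H := fun hc =>
        hyH (hc (le_sup_right (a := H) (Subgroup.mem_zpowers y)))
      have h2 := index_mul_le_of_lt hG hle hne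
      have h3 : (H ⊔ Subgroup.zpowers y).index ≤ p ^ n := by
        have hp : 0 < p := (Fact.out : p.Prime).pos
        have : (H ⊔ Subgroup.zpowers y).index * p ≤ p ^ n * p := by
          rw [← pow_succ]; exact h2.trans hidx
        exact Nat.le_of_mul_le_mul_right this hp
      obtain ⟨ys, hys, hlen, hgen⟩ := ih (H ⊔ Subgroup.zpowers y)
        (fun hc => hHM (hle.trans hc)) h3
      refine ⟨y :: ys, ?_, by simp [hlen], ?_⟩
      · intro z hz
        rcases List.mem_cons.mp hz with rfl | hz
        · exact hyM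
        · exact hys z hz
      · rw [← hgen]
        have : {z | z ∈ y :: ys} = ({y} : Set G) ∪ {z | z ∈ ys} := by
          ext z; simp [List.mem_cons]
        rw [this, Subgroup.closure_union, ← Subgroup.zpowers_eq_closure, sup_assoc]

/-- (S3) -/
theorem s3 : S3Stmt.{u} := by
  intro p _ G _ _ hG M A lam Delta hM hA hAM hrel hD y0 hy0
  have := hA
  -- index of `H₀ = A ⊔ ⟨y0⟩`
  have hAidx : A.index = p ^ (lam + 1) := by
    rw [← Subgroup.relIndex_mul_index hAM, hrel, hM, pow_succ]
  have hle : A ≤ A ⊔ Subgroup.zpowers y0 := le_sup_left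
  have hne : ¬ A ⊔ Subgroup.zpowers y0 ≤ A := fun hc =>
    hy0 (hAM (hc (le_sup_right (a := A) (Subgroup.mem_zpowers y0))))
  have hH0 : (A ⊔ Subgroup.zpowers y0).index ≤ p ^ lam := by
    have h2 := index_mul_le_of_lt hG hle hne
    rw [hAidx, pow_succ] at h2
    exact Nat.le_of_mul_le_mul_right h2 (Fact.out : p.Prime).pos
  have hH0M : ¬ A ⊔ Subgroup.zpowers y0 ≤ M := fun hc =>
    hy0 (hc (le_sup_right (a := A) (Subgroup.mem_zpowers y0)))
  obtain ⟨ys, hys, hlen, hgen⟩ := gen_chain hG M lam _ hH0M hH0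
  have hgen' : A ⊔ Subgroup.closure (({y0} : Set G) ∪ {y | y ∈ ys}) = ⊤ := by
    rw [← hgen, Subgroup.closure_union, ← Subgroup.zpowers_eq_closure, sup_assoc]
  have key := card_comm_top_le A ⁅A, A ⊔ Subgroup.zpowers y0⁆
    (Subgroup.commutator_le_left _ _) (Subgroup.commutator_mono le_rfl le_sup_left) {y0}
    (by
      intro y hy a ha
      rw [Set.mem_singleton_iff] at hy
      subst hy
      exact Subgroup.commutator_mem_commutator ha
        (le_sup_right (a := A) (Subgroup.mem_zpowers y))) ys hgen' (p ^ Delta)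
    (fun y hy => hD y (hys y hy))
  refine key.trans (Nat.mul_le_mul le_rfl ?_)
  rw [← pow_mul, mul_comm]
  exact Nat.pow_le_pow_right (Fact.out : p.Prime).pos (Nat.mul_le_mul hlen le_rfl)

end Cfsg.Agent.H11.S3777S3
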