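import Mathlib

/-!
# S3797, piece (E): an abelian 2-group whose automorphisms are transitive on involutions
is homocyclic
-/

set_option autoImplicit false

namespace Cfsg.Agent.H11.S3797Homo

/-- reindexing a power -/
def reindex {ι κ M : Type*} [Mul M] (σ : ι ≃ κ) : (ι → M) ≃* (κ → M) :=
  { toEquiv := σ.arrowCongr (Equiv.refl M)
    map_mul' := fun _ _ => rfl }

theorem zmod_pow_smul_eq_zero {a b : ℕ} (h : a ≤ b) (x : ZMod (2 ^ a)) :
    (2 ^ b : ℕ) • x = 0 := by
  have h1 : ((2 ^ b : ℕ) : ZMod (2 ^ a)) = 0 := by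
    rw [ZMod.natCast_eq_zero_iff]
    exact pow_dvd_pow 2 h
  rw [nsmul_eq_mul, h1, zero_mul]

/-- The product version: all exponents are equal. -/
theorem exps_eq {ι : Type} [Fintype ι] [DecidableEq ι] (e : ι → ℕ) (he : ∀ i, 1 ≤ e i)
    (h : ∀ x y : ((i : ι) → Multiplicative (ZMod (2 ^ e i))), x ≠ 1 → x ^ 2 = 1 → y ≠ 1 →
      y ^ 2 = 1 → ∃ f : ((i : ι) → Multiplicative (ZMod (2 ^ e i))) ≃*
        ((i : ι) → Multiplicative (ZMod (2 ^ e i))), f x = y) (i j : ι) : e j = e i := by
  -- it suffices to show `e i ≤ e j` for all i j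
  suffices H : ∀ i j : ι, e i ≤ e j from le_antisymm (H j i) (H i j)
  intro i j
  by_contra hlt
  push_neg at hlt
  -- e j < e i =: m
  set m := e i with hm
  have hm1 : 1 ≤ m := he i
  let x : ((k : ι) → Multiplicative (ZMod (2 ^ e k))) :=
    Pi.mulSingle i (Multiplicative.ofAdd (1 : ZMod (2 ^ e i)))
  let t0 := x ^ (2 ^ (m - 1))
  let tj : ((k : ι) → Multiplicative (ZMod (2 ^ e k))) :=
    Pi.mulSingle j (Multiplicative.ofAdd ((2 ^ (e j - 1) : ℕ) : ZMod (2 ^ e j)))
  have hx_i : ∀ n : ℕ, (x ^ n) i = Multiplicative.ofAdd ((n : ℕ) : ZMod (2 ^ e i)) := by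
    intro n
    simp only [x, Pi.pow_apply, Pi.mulSingle_eq_same, ← ofAdd_nsmul, nsmul_eq_mul, mul_one]
  -- t0 is an involution
  have ht0_ne : t0 ≠ 1 := by
    intro hc
    have h1 := congrFun hc i
    simp only [t0, hx_i, Pi.one_apply] at h1
    have h2 : ((2 ^ (m - 1) : ℕ) : ZMod (2 ^ e i)) = 0 := by
      simpa using h1
    rw [ZMod.natCast_eq_zero_iff] at h2
    have h3 : 2 ^ e i ≤ 2 ^ (m - 1) := Nat.le_of_dvd (by positivity) h2
    have h4 : e i ≤ m - 1 := (Nat.pow_le_pow_iff_right (by norm_num)).mp h3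
    omega
  have ht0_sq : t0 ^ 2 = 1 := by
    have : t0 ^ 2 = x ^ (2 ^ m) := by
      simp only [t0, ← pow_mul]
      congr 1
      rw [← pow_succ]
      congr 1
      omega
    rw [this]
    funext k
    by_cases hk : k = i
    · subst hk
      rw [hx_i, Pi.one_apply]
      have : ((2 ^ m : ℕ) : ZMod (2 ^ e k)) = 0 := by
        rw [ZMod.natCast_eq_zero_iff]
      rw [this]; rfl
    · simp only [x, Pi.pow_apply, Pi.mulSingle_eq_of_ne hk, one_pow, Pi.one_apply]
  -- tj is an involution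
  have hej : 1 ≤ e j := he j
  have htj_ne : tj ≠ 1 := by
    intro hc
    have h1 := congrFun hc j
    simp only [tj, Pi.mulSingle_eq_same, Pi.one_apply] at h1
    have h2 : ((2 ^ (e j - 1) : ℕ) : ZMod (2 ^ e j)) = 0 := by
      simpa using h1
    rw [ZMod.natCast_eq_zero_iff] at h2
    have h3 : 2 ^ e j ≤ 2 ^ (e j - 1) := Nat.le_of_dvd (by positivity) h2
    have h4 : e j ≤ e j - 1 := (Nat.pow_le_pow_iff_right (by norm_num)).mp h3
    omega
  have htj_sq : tj ^ 2 = 1 := by
    funext k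
    by_cases hk : k = j
    · subst hk
      simp only [tj, Pi.pow_apply, Pi.mulSingle_eq_same, Pi.one_apply, ← ofAdd_nsmul]
      have : (2 : ℕ) • ((2 ^ (e k - 1) : ℕ) : ZMod (2 ^ e k)) = 0 := by
        rw [nsmul_eq_mul, ← Nat.cast_mul, ZMod.natCast_eq_zero_iff, ← pow_succ']
        have : e k - 1 + 1 = e k := by omega
        rw [this]
      rw [this]; rfl
    · simp only [tj, Pi.pow_apply, Pi.mulSingle_eq_of_ne hk, one_pow, Pi.one_apply]
  obtain ⟨f, hf⟩ := h t0 tj ht0_ne ht0_sq htj_ne htj_sq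
  -- tj = (f x) ^ (2 ^ (m-1))
  have h5 : tj = (f x) ^ (2 ^ (m - 1)) := by
    rw [← hf]; simp only [t0, map_pow]
  have h6 := congrFun h5 j
  simp only [tj, Pi.mulSingle_eq_same, Pi.pow_apply] at h6
  -- the j-th component of any element to the power 2^(m-1) is 1
  have h7 : ((f x) j) ^ (2 ^ (m - 1)) = 1 := by
    have hle : e j ≤ m - 1 := by omega
    have := zmod_pow_smul_eq_zero hle (Multiplicative.toAdd ((f x) j))
    rw [← ofAdd_toAdd ((f x) j), ← ofAdd_nsmul, this]; rfl
  rw [h7] at h6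
  have h8 : ((2 ^ (e j - 1) : ℕ) : ZMod (2 ^ e j)) = 0 := by
    have := congrArg Multiplicative.toAdd h6
    simpa using this
  rw [ZMod.natCast_eq_zero_iff] at h8
  have h3 : 2 ^ e j ≤ 2 ^ (e j - 1) := Nat.le_of_dvd (by positivity) h8
  have h4 : e j ≤ e j - 1 := (Nat.pow_le_pow_iff_right (by norm_num)).mp h3
  omega

/-- **(E)** A finite abelian 2-group whose automorphism group is transitive on involutions is
homocyclic. -/
theorem homocyclic_of_transitive {A : Type*} [Group A] [Finite A]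
    (hcomm : ∀ a b : A, a * b = b * a) (hA : IsPGroup 2 A)
    (h : ∀ x y : A, x ≠ 1 → x ^ 2 = 1 → y ≠ 1 → y ^ 2 = 1 → ∃ f : A ≃* A, f x = y) :
    ∃ m r : ℕ, Nonempty (A ≃* (Fin r → Multiplicative (ZMod (2 ^ m)))) := by
  classical
  letI : CommGroup A := { (inferInstance : Group A) with mul_comm := hcomm }
  obtain ⟨ι, _, n, hn, ⟨φ⟩⟩ := CommGroup.equiv_prod_multiplicative_zmod_of_finite A
  -- every `n i` is a power of 2
  have hpow : ∀ i, ∃ e : ℕ, n i = 2 ^ e := by
    intro i
    obtain ⟨k, hk⟩ := hA (φ.symm (Pi.mulSingle i (Multiplicative.ofAdd (1 : ZMod (n i)))))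
    have h1 := congrArg φ hk
    rw [map_pow, MulEquiv.apply_symm_apply, map_one φ] at h1
    have h2 := congrFun h1 i
    simp only [Pi.pow_apply, Pi.mulSingle_eq_same, Pi.one_apply, ← ofAdd_nsmul, nsmul_eq_mul,
      mul_one] at h2
    have h3 : ((2 ^ k : ℕ) : ZMod (n i)) = 0 := by
      have := congrArg Multiplicative.toAdd h2
      simpa using this
    rw [ZMod.natCast_eq_zero_iff] at h3
    obtain ⟨e, -, he⟩ := (Nat.dvd_prime_pow Nat.prime_two).mp h3
    exact ⟨e, he⟩
  choose e he using hpow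
  have hn' : n = fun i => 2 ^ e i := funext he
  subst hn'
  have he1 : ∀ i, 1 ≤ e i := by
    intro i
    have := hn i
    by_contra hc
    have h0 : e i = 0 := by omega
    simp only [h0, pow_zero, lt_self_iff_false] at this
  -- transfer transitivity
  have h' : ∀ x y : ((i : ι) → Multiplicative (ZMod (2 ^ e i))), x ≠ 1 → x ^ 2 = 1 → y ≠ 1 →
      y ^ 2 = 1 → ∃ f : ((i : ι) → Multiplicative (ZMod (2 ^ e i))) ≃*
        ((i : ι) → Multiplicative (ZMod (2 ^ e i))), f x = y := by
    intro x y hx hx2 hy hy2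
    obtain ⟨f, hf⟩ := h (φ.symm x) (φ.symm y)
      (fun hc => hx (by simpa using congrArg φ hc))
      (by rw [← map_pow, hx2, map_one])
      (fun hc => hy (by simpa using congrArg φ hc))
      (by rw [← map_pow, hy2, map_one])
    refine ⟨(φ.symm.trans f).trans φ, ?_⟩
    simp [hf]
  have hall := exps_eq e he1 h'
  rcases isEmpty_or_nonempty ι with hι | ⟨⟨i0⟩⟩
  · refine ⟨0, Fintype.card ι, ⟨φ.trans ?_⟩⟩
    exact
      { toFun := fun _ k => (hι.false ((Fintype.equivFin ι).symm k)).elim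
        invFun := fun _ i => (hι.false i).elim
        left_inv := fun _ => funext fun i => (hι.false i).elim
        right_inv := fun _ => funext fun k => (hι.false ((Fintype.equivFin ι).symm k)).elim
        map_mul' := fun _ _ => funext fun k => (hι.false ((Fintype.equivFin ι).symm k)).elim }
  · have he' : e = fun _ => e i0 := funext fun i => hall i0 i
    refine ⟨e i0, Fintype.card ι, ⟨?_⟩⟩
    rw [he'] at φ
    exact φ.trans (reindex (Fintype.equivFin ι))

end Cfsg.Agent.H11.S3797Homo
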