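import Cfsg.Agent.Lib.H19.S3797Defs
import Cfsg.Agent.Lib.H11.S3797Homo

/-!
# S3797: `homo : HomoStmt` in the exact shape of helper19's cut
-/

set_option autoImplicit false

namespace Cfsg.Agent.H11.S3797HomoW

universe u

open Cfsg.Agent.Lib.H19.S3797

theorem homo : HomoStmt.{u} := by
  intro A _ _ hA hcomm hY
  obtain ⟨Y, hY⟩ := hY
  refine Cfsg.Agent.H11.S3797Homo.homocyclic_of_transitive hcomm hA ?_
  intro x y hx hx2 hy hy2
  obtain ⟨a, _, ha⟩ := hY x y hx hx2 hy hy2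
  exact ⟨a, ha⟩

end Cfsg.Agent.H11.S3797HomoW
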