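import Mathlib

/-!
# S3797 / IDX2, generic part: automorphisms of a finite field commute; a hom to a commutative group
with range of even order gives a normal subgroup of index 2
-/

set_option autoImplicit false

namespace Cfsg.Agent.H11.S3797Idx2A

/-- Ring automorphisms of a finite field commute (each one is a power map on the units). -/
theorem ringAut_comm {F : Type*} [Field F] [Finite F] (s t : F ≃+* F) (x : F) :
    s (t x) = t (s x) := by
  classical
  by_cases hx : x = 0
  · subst hx; simp
  obtain ⟨ζ, hζ⟩ := IsCyclic.exists_generator (α := Fˣ)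
  -- `s` and `t` are power maps on units
  have hpow : ∀ r : F ≃+* F, ∃ k : ℤ, ∀ u : Fˣ, r (u : F) = ((u ^ k : Fˣ) : F) := by
    intro r
    obtain ⟨k, hk⟩ := Subgroup.mem_zpowers_iff.mp (hζ (Units.map (r : F →* F) ζ))
    refine ⟨k, fun u => ?_⟩
    obtain ⟨j, rfl⟩ := Subgroup.mem_zpowers_iff.mp (hζ u)
    have h1 : Units.map (r : F →* F) (ζ ^ j) = (ζ ^ j) ^ k := by
      rw [map_zpow, ← hk, ← zpow_mul, ← zpow_mul, mul_comm]
    have h2 := congrArg (fun w : Fˣ => (w : F)) h1
    simpa using h2
  obtain ⟨k, hk⟩ := hpow s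
  obtain ⟨l, hl⟩ := hpow t
  set u : Fˣ := Units.mk0 x hx with hu
  have hxu : x = (u : F) := rfl
  rw [hxu, hl u, hk (u ^ l), hk u, hl (u ^ k), ← zpow_mul, ← zpow_mul, mul_comm]

/-- A finite commutative group of even order has a subgroup of index 2. -/
theorem exists_index_two_of_even {A : Type*} [CommGroup A] [Finite A]
    (h : Even (Nat.card A)) : ∃ K : Subgroup A, K.index = 2 := by
  classical
  have : Fact (Nat.Prime 2) := ⟨Nat.prime_two⟩
  let sq : A →* A := powMonoidHom 2
  -- `sq` is not surjective
  have hR : sq.range ≠ ⊤ := by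
    intro htop
    have hsurj : Function.Surjective sq := MonoidHom.range_eq_top.mp htop
    have hinj : Function.Injective sq := Finite.injective_iff_surjective.mpr hsurj
    obtain ⟨x, hx⟩ := exists_prime_orderOf_dvd_card' (G := A) 2 h.two_dvd
    have h1 : sq x = sq 1 := by
      simp only [sq, powMonoidHom_apply, one_pow]
      rw [← hx]; exact pow_orderOf_eq_one x
    have h2 : x = 1 := hinj h1
    rw [h2, orderOf_one] at hx
    norm_num at hx
  -- the quotient is a nontrivial 2-group
  have hQ : IsPGroup 2 (A ⧸ sq.range) := by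
    intro q
    refine ⟨1, ?_⟩
    induction q using QuotientGroup.induction_on with
    | H a =>
      rw [pow_one, ← QuotientGroup.mk_pow, QuotientGroup.eq_one_iff]
      exact ⟨a, rfl⟩
  obtain ⟨n, hn⟩ := IsPGroup.iff_card.mp hQ
  have hn0 : n ≠ 0 := by
    rintro rfl
    rw [pow_zero] at hn
    have : sq.range.index = 1 := hn
    exact hR (Subgroup.index_eq_one.mp this)
  obtain ⟨K, hK⟩ := Sylow.exists_subgroup_card_pow_prime (G := A ⧸ sq.range) 2
    (n := n - 1) (by rw [hn]; exact pow_dvd_pow 2 (by omega))
  refine ⟨K.comap (QuotientGroup.mk' sq.range), ?_⟩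
  rw [Subgroup.index_comap_of_surjective K (QuotientGroup.mk'_surjective _)]
  have h1 := K.card_mul_index
  rw [hK, hn] at h1
  have h2 : (2 : ℕ) ^ n = 2 ^ (n - 1) * 2 := by
    rw [← pow_succ]; congr 1; omega
  rw [h2] at h1
  exact Nat.eq_of_mul_eq_mul_left (by positivity) h1

/-- A hom to a commutative group whose range has even order gives a normal subgroup of index 2. -/
theorem exists_normal_index_two {G B : Type*} [Group G] [Finite G] [CommGroup B] (ψ : G →* B)
    (h : Even (Nat.card ψ.range)) : ∃ G1 : Subgroup G, G1.Normal ∧ G1.index = 2 := by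
  have : Finite ψ.range := Finite.of_surjective ψ.rangeRestrict ψ.rangeRestrict_surjective
  obtain ⟨K, hK⟩ := exists_index_two_of_even (A := ψ.range) h
  refine ⟨K.comap ψ.rangeRestrict, inferInstance, ?_⟩
  rw [Subgroup.index_comap_of_surjective K ψ.rangeRestrict_surjective, hK]

end Cfsg.Agent.H11.S3797Idx2A
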