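import Cfsg.Agent.Lib.H19.S3797Defs
import Cfsg.Agent.Lib.H23.EOCHUP
import Cfsg.Agent.Lib.H11.S3797Idx2A

/-!
# S3797: piece IDX2 of helper19's cut (Huppert step: `|G : C_G(V)|` even gives index 2)
-/

set_option autoImplicit false

namespace Cfsg.Agent.H11.S3797Idx2

universe u

open Cfsg.Agent.Lib.H19.S3797 Cfsg.Agent.H11.S3797Idx2A

variable {G : Type u} [Group G]

theorem V_comm {Q V : Subgroup G} (hF : Frame Q V) : ∀ a ∈ V, ∀ b ∈ V, a * b = b * a := by
  intro a ha b hb
  have ha2 : a ^ 2 = 1 := (hF.Vmem a).mp ha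
  have hb2 : b ^ 2 = 1 := (hF.Vmem b).mp hb
  have hab2 : (a * b) ^ 2 = 1 := (hF.Vmem _).mp (V.mul_mem ha hb)
  have h1 : a⁻¹ = a := by rw [inv_eq_iff_mul_eq_one, ← pow_two, ha2]
  have h2 : b⁻¹ = b := by rw [inv_eq_iff_mul_eq_one, ← pow_two, hb2]
  have h3 : (a * b)⁻¹ = a * b := by rw [inv_eq_iff_mul_eq_one, ← pow_two, hab2]
  calc a * b = (a * b)⁻¹ := h3.symm
    _ = b⁻¹ * a⁻¹ := mul_inv_rev a b
    _ = b * a := by rw [h1, h2]

theorem V_ne_bot {Q V : Subgroup G} (hF : Frame Q V) : V ≠ ⊥ := by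
  obtain ⟨x, y, -, hx1, hx2, -, -⟩ := hF.four
  intro h
  have : x ∈ V := (hF.Vmem x).mpr hx2
  rw [h, Subgroup.mem_bot] at this
  exact hx1 this

/-- a subgroup of order 2 inside `V` is `zpowers v` for an involution `v`. -/
theorem eq_zpowers_of_card_two (A : Subgroup G) (hA : Nat.card A = 2) :
    ∃ v : G, v ≠ 1 ∧ v ^ 2 = 1 ∧ A = Subgroup.zpowers v := by
  have : Fact (Nat.Prime 2) := ⟨Nat.prime_two⟩
  have hfin : Finite A := Nat.finite_of_card_ne_zero (by rw [hA]; norm_num)
  obtain ⟨x, hx⟩ := exists_prime_orderOf_dvd_card' (G := A) 2 (by rw [hA])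
  have hx1 : (x : G) ≠ 1 := by
    intro h
    have : x = 1 := Subtype.ext h
    rw [this, orderOf_one] at hx
    norm_num at hx
  have hx2 : (x : G) ^ 2 = 1 := by
    have := pow_orderOf_eq_one x
    rw [hx] at this
    exact congrArg Subtype.val this
  refine ⟨x, hx1, hx2, ?_⟩
  have hle : Subgroup.zpowers (x : G) ≤ A := by
    rw [Subgroup.zpowers_le]; exact x.2
  have hcard : Nat.card (Subgroup.zpowers (x : G)) = 2 := by
    rw [Nat.card_zpowers, Subgroup.orderOf_coe, hx]
  exact (Subgroup.eq_of_le_of_card_ge hle (by rw [hA, hcard])).symm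

/-- the field case -/
theorem field_case [Finite G] (V : Subgroup G) [V.Normal] (hVexp : ∀ a ∈ V, a ^ 2 = 1)
    {F : Type} [Field F] [Fintype F] (ε : ↥V ≃ F) (hadd : ∀ x y : ↥V, ε (x * y) = ε x + ε y)
    (hact : ∀ g : G, ∃ (a : F) (σ : F ≃+* F), ∀ x : ↥V,
      ε (MulAut.conjNormal g x) = a * σ (ε x))
    (heven : Even (Subgroup.centralizer (V : Set G)).index) :
    ∃ G1 : Subgroup G, G1.Normal ∧ G1.index = 2 := by
  classical
  have hprime : Fact (Nat.Prime 2) := ⟨Nat.prime_two⟩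
  have h0 : ε 1 = 0 := by
    have := hadd 1 1
    rw [mul_one] at this
    exact left_eq_add.mp this
  set x1 : ↥V := ε.symm 1 with hx1
  have hεx1 : ε x1 = 1 := ε.apply_symm_apply 1
  have hx1ne : x1 ≠ 1 := by
    intro h
    rw [h, h0] at hεx1
    exact zero_ne_one hεx1
  -- uniqueness of `(a, σ)`
  have huniq : ∀ (g : G) (a a' : F) (σ σ' : F ≃+* F),
      (∀ x : ↥V, ε (MulAut.conjNormal g x) = a * σ (ε x)) →
      (∀ x : ↥V, ε (MulAut.conjNormal g x) = a' * σ' (ε x)) → a = a' ∧ σ = σ' := by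
    intro g a a' σ σ' h1 h2
    have ha : a = ε (MulAut.conjNormal g x1) := by rw [h1 x1, hεx1, map_one, mul_one]
    have ha' : a' = ε (MulAut.conjNormal g x1) := by rw [h2 x1, hεx1, map_one, mul_one]
    have haa : a = a' := ha.trans ha'.symm
    have hane : a ≠ 0 := by
      intro hz
      rw [hz] at ha
      have h3 : ε (MulAut.conjNormal g x1) = ε 1 := by rw [← ha, h0]
      have h4 : MulAut.conjNormal g x1 = 1 := ε.injective h3
      exact hx1ne ((map_eq_one_iff _ (MulEquiv.injective _)).mp h4)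
    refine ⟨haa, RingEquiv.ext fun y => ?_⟩
    have h5 := h1 (ε.symm y)
    rw [h2 (ε.symm y), ε.apply_symm_apply, ← haa] at h5
    exact (mul_left_cancel₀ hane h5).symm
  choose a σ hσ using hact
  have hmul : ∀ g h : G, σ (g * h) = σ g * σ h := by
    intro g h
    refine (huniq (g * h) (a (g * h)) (a g * σ g (a h)) (σ (g * h)) (σ g * σ h) (hσ (g * h)) ?_).2
    intro x
    rw [map_mul, MulAut.mul_apply, hσ g, hσ h, map_mul, RingAut.mul_apply, mul_assoc]
  letI : CommGroup (F ≃+* F) :=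
    { (inferInstance : Group (F ≃+* F)) with
      mul_comm := fun s t => RingEquiv.ext fun x => by
        rw [RingAut.mul_apply, RingAut.mul_apply]; exact ringAut_comm s t x }
  let ψ : G →* (F ≃+* F) := MonoidHom.mk' σ hmul
  apply exists_normal_index_two ψ
  by_contra hodd
  rw [Nat.not_even_iff_odd] at hodd
  -- card of F
  have hV2 : IsPGroup 2 V := fun x => ⟨1, by
    rw [pow_one]; exact Subtype.ext (hVexp x.1 x.2)⟩
  obtain ⟨n, hn⟩ := IsPGroup.iff_card.mp hV2
  have hcF : Fintype.card F = 2 ^ n := by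
    rw [← Nat.card_eq_fintype_card, ← hn]
    exact Nat.card_congr ε.symm
  have hn0 : n ≠ 0 := by
    rintro rfl
    rw [pow_zero] at hcF
    have := Fintype.one_lt_card (α := F)
    omega
  have hoddF : Odd (Fintype.card F - 1) := by
    rw [hcF]
    obtain ⟨m, rfl⟩ : ∃ m, n = m + 1 := ⟨n - 1, by omega⟩
    rw [pow_succ]
    exact ⟨2 ^ m - 1, by have := Nat.one_le_two_pow (n := m); omega⟩
  -- every 2-element centralises V
  have h2elt : ∀ (x : G) (k : ℕ), x ^ 2 ^ k = 1 → x ∈ Subgroup.centralizer (V : Set G) := by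
    intro x k hxk
    -- ψ x = 1
    have hfin : Finite ψ.range :=
      Finite.of_surjective ψ.rangeRestrict ψ.rangeRestrict_surjective
    have hψ1 : ψ x = 1 := by
      have e1 : (ψ.rangeRestrict x) ^ 2 ^ k = 1 := by rw [← map_pow, hxk, map_one]
      have e2 : (ψ.rangeRestrict x) ^ Nat.card ψ.range = 1 := pow_card_eq_one'
      have e3 := pow_gcd_eq_one.mpr ⟨e1, e2⟩
      have e4 : Nat.gcd (2 ^ k) (Nat.card ψ.range) = 1 :=
        Nat.Coprime.pow_left k (Nat.coprime_two_left.mpr hodd)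
      rw [e4, pow_one] at e3
      exact congrArg Subtype.val e3
    have hσ1 : σ x = 1 := hψ1
    -- conjugation by powers of x
    have hpow : ∀ j : ℕ, ∀ v : ↥V, ε (MulAut.conjNormal (x ^ j) v) = (a x) ^ j * ε v := by
      intro j
      induction j with
      | zero => intro v; simp
      | succ j ih =>
        intro v
        rw [pow_succ', map_mul, MulAut.mul_apply, hσ x, hσ1, RingAut.one_apply, ih, pow_succ']
        ring
    have ha1 : (a x) ^ 2 ^ k = 1 := by
      have := hpow (2 ^ k) x1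
      rw [hxk, map_one, MulAut.one_apply, hεx1, mul_one] at this
      exact this.symm
    have hax0 : a x ≠ 0 := by
      intro hz
      rw [hz, zero_pow (by positivity)] at ha1
      exact zero_ne_one ha1
    have ha2 : (a x) ^ (Fintype.card F - 1) = 1 := FiniteField.pow_card_sub_one_eq_one _ hax0
    have ha3 := pow_gcd_eq_one.mpr ⟨ha1, ha2⟩
    have ha4 : Nat.gcd (2 ^ k) (Fintype.card F - 1) = 1 :=
      Nat.Coprime.pow_left k (Nat.coprime_two_left.mpr hoddF)
    rw [ha4, pow_one] at ha3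
    -- so x centralises V
    rw [Subgroup.mem_centralizer_iff]
    intro v hv
    have h6 := hσ x ⟨v, hv⟩
    rw [hσ1, RingAut.one_apply, ha3, one_mul] at h6
    have h7 : MulAut.conjNormal x (⟨v, hv⟩ : ↥V) = ⟨v, hv⟩ := ε.injective h6
    have h8 := congrArg Subtype.val h7
    rw [MulAut.conjNormal_apply] at h8
    -- h8 : x * v * x⁻¹ = v
    calc v * x = (x * v * x⁻¹) * x := by rw [h8]
      _ = x * v := by group
  -- a Sylow 2-subgroup lies in the centraliser
  obtain ⟨P⟩ : Nonempty (Sylow 2 G) := inferInstance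
  have hPC : (P : Subgroup G) ≤ Subgroup.centralizer (V : Set G) := by
    intro x hx
    obtain ⟨k, hk⟩ := P.isPGroup' ⟨x, hx⟩
    exact h2elt x k (congrArg Subtype.val hk)
  have hdvd : (Subgroup.centralizer (V : Set G)).index ∣ (P : Subgroup G).index :=
    Subgroup.index_dvd_of_le hPC
  exact P.not_dvd_index (heven.two_dvd.trans hdvd)

/-- **(IDX2)** -/
theorem idx2 : Idx2Stmt.{u} := by
  intro G _ _ hsol Q V hF heven
  classical
  have hVn : V.Normal := hF.Vn
  have hprime : Fact (Nat.Prime 2) := ⟨Nat.prime_two⟩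
  have hVexp : ∀ a ∈ V, a ^ 2 = 1 := fun a ha => (hF.Vmem a).mp ha
  have hsolq : Group.IsSolvable (G ⧸ (⊥ : Subgroup G)) := inferInstance
  have htr : ∀ A B : Subgroup G, A ≤ V → B ≤ V → Nat.card A = 2 → Nat.card B = 2 →
      ∃ g : G, B = A.map (MulAut.conj g).toMonoidHom := by
    intro A B _ _ hcA hcB
    obtain ⟨v, hv1, hv2, rfl⟩ := eq_zpowers_of_card_two A hcA
    obtain ⟨w, hw1, hw2, rfl⟩ := eq_zpowers_of_card_two B hcB
    obtain ⟨g, hg⟩ := hF.trans v w ((hF.Vmem v).mpr hv2) ((hF.Vmem w).mpr hw2) hv1 hw1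
    refine ⟨g, ?_⟩
    rw [MonoidHom.map_zpowers]
    congr 1
    simp [MulAut.conj_apply, hg]
  rcases Cfsg.Agent.Lib.H23.EOC.hup (p := 2) V (V_ne_bot hF) (V_comm hF) hVexp ⊥
    (by
      intro k hk a _
      rw [Subgroup.mem_bot] at hk
      subst hk
      simp) hsolq htr with ⟨F, fF, ftF, ε, hadd, hact⟩ | hcard
  · exact field_case V hVexp ε hadd hact heven
  · exfalso
    have hV2 : IsPGroup 2 V := fun x => ⟨1, by
      rw [pow_one]; exact Subtype.ext (hVexp x.1 x.2)⟩
    obtain ⟨n, hn⟩ := IsPGroup.iff_card.mp hV2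
    have hn0 : n ≠ 0 := by
      rintro rfl
      rw [pow_zero] at hn
      exact V_ne_bot hF (Subgroup.card_eq_one.mp hn)
    have h2 : 2 ∣ Nat.card V := by
      rw [hn]; exact dvd_pow_self 2 hn0
    simp only [Set.mem_insert_iff, Set.mem_singleton_iff] at hcard
    omega

end Cfsg.Agent.H11.S3797Idx2
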