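import Cfsg.Agent.Lib.H11.S3814C1Gen

/-!
# S3814, Case 1 block: piece (11) A0UNIQ (A3c)

`A0 = C_X(M)` is a `q`-group (A3b), so it has a central element `y0` of order `q`; if `A0`
had two subgroups of order `q`, one of them would give with `⟨y0⟩` a `C_q × C_q` centralising
the good element of `M`, against (F4).
-/

set_option autoImplicit false

namespace Cfsg.Agent.Lib.H11.S3814C1A0Uniq

universe u

open Cfsg.Agent.H7.S3814Defs Cfsg.Agent.H27.S3814C1 Cfsg.Agent.Lib.H11.S3814C1Gen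

/-- two cyclic groups of the same prime order, one inside the other, are equal -/
theorem zpowers_eq_of_mem {G : Type u} [Group G] [Finite G] {a b : G}
    (hab : a ∈ Subgroup.zpowers b) (ho : orderOf a = orderOf b) :
    Subgroup.zpowers a = Subgroup.zpowers b := by
  have hle : Subgroup.zpowers a ≤ Subgroup.zpowers b := by
    rw [Subgroup.zpowers_le]; exact hab
  apply Subgroup.eq_of_le_of_card_ge hle
  rw [Nat.card_zpowers, Nat.card_zpowers, ho]

/-- **PIECE A0UNIQ (A3c)** -/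
theorem a0uniq : A0UniqStmt.{u} := by
  intro G _ σ p V K c M X t t' h hP y hy z hz hcy hcz hyo hzo
  have := h.c0.cex.fin
  by_contra hzy
  have hqf : Fact (orderOf y).Prime := ⟨hyo⟩
  -- the subgroup `A0`
  let A0 : Subgroup G := X ⊓ Subgroup.centralizer (M : Set G)
  have memA0 : ∀ g : G, g ∈ A0 ↔ g ∈ X ∧ Cent g M := by
    intro g
    rw [Subgroup.mem_inf, Subgroup.mem_centralizer_iff]
    constructor
    · rintro ⟨h1, h2⟩; exact ⟨h1, fun m hm => (h2 m hm).symm⟩
    · rintro ⟨h1, h2⟩; exact ⟨h1, fun m hm => (h2 m hm).symm⟩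
  have hyA : y ∈ A0 := (memA0 y).mpr ⟨hy, hcy⟩
  have hzA : z ∈ A0 := (memA0 z).mpr ⟨hz, hcz⟩
  -- `A0` is a `q`-group
  have hpg : IsPGroup (orderOf y) A0 := by
    have hcard : Nat.card A0 ≠ 0 := Nat.card_pos.ne'
    have hpow := Nat.eq_prime_pow_of_unique_prime_dvd (p := orderOf y) hcard (by
      intro d hd hdvd
      haveI : Fact d.Prime := ⟨hd⟩
      obtain ⟨g, hg⟩ := exists_prime_orderOf_dvd_card' d hdvd
      have hgA := (memA0 (g : G)).mp g.2
      have hgo : orderOf (g : G) = d := by rw [Subgroup.orderOf_coe]; exact hg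
      have := hP (g : G) hgA.1 y hy hgA.2 hcy (hgo ▸ hd) hyo
      rw [← hgo]; exact this)
    exact IsPGroup.of_card hpow
  have hy1 : y ≠ 1 := by
    intro h1
    rw [h1, orderOf_one] at hyo
    exact Nat.not_prime_one hyo
  haveI : Nontrivial A0 := ⟨⟨⟨y, hyA⟩, 1, by
    intro h1
    exact hy1 (congrArg Subtype.val h1)⟩⟩
  have hcn : Nontrivial (Subgroup.center A0) := hpg.center_nontrivial
  have hpz : IsPGroup (orderOf y) (Subgroup.center A0) := hpg.to_subgroup _
  have hdvd : orderOf y ∣ Nat.card (Subgroup.center A0) := by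
    rcases hpz.card_eq_or_dvd with h1 | h1
    · exfalso
      have := Finite.one_lt_card (α := Subgroup.center A0)
      omega
    · exact h1
  obtain ⟨y0, hy0⟩ := exists_prime_orderOf_dvd_card' (orderOf y) hdvd
  have hy0A : ((y0 : A0) : G) ∈ A0 := (y0 : A0).2
  have hy0o : orderOf ((y0 : A0) : G) = orderOf y := by
    rw [Subgroup.orderOf_coe, Subgroup.orderOf_coe]; exact hy0
  have hy0c : ∀ a ∈ A0, ((y0 : A0) : G) * a = a * ((y0 : A0) : G) := by
    intro a ha
    have h1 := Subgroup.mem_center_iff.mp y0.2 ⟨a, ha⟩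
    have h2 := congrArg Subtype.val h1
    simpa using h2.symm
  -- the independent element `w`
  obtain ⟨w, hwA, hwo, hwi⟩ : ∃ w ∈ A0, orderOf w = orderOf y ∧
      w ∉ Subgroup.zpowers ((y0 : A0) : G) := by
    by_cases hyy0 : y ∈ Subgroup.zpowers ((y0 : A0) : G)
    · refine ⟨z, hzA, hzo, ?_⟩
      rw [← zpowers_eq_of_mem hyy0 hy0o.symm]
      exact hzy
    · exact ⟨y, hyA, rfl, hyy0⟩
  -- the good element of `M` and (F4)
  obtain ⟨x, hxM, hxo, hxg⟩ := h.good
  apply hxg
  have hw := (memA0 w).mp hwA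
  have hy0' := (memA0 ((y0 : A0) : G)).mp hy0A
  have hcq : c ≠ orderOf y := by
    intro hcq
    have h1 : orderOf y ∣ Nat.card X := Subgroup.orderOf_dvd_natCard X hy
    have h2 := h.compl.cop
    rw [hcq] at h2
    exact hyo.one_lt.ne' (Nat.Coprime.eq_one_of_dvd h2.symm h1)
  exact f4 G σ h.c0.cex p V K h.c0.shape h.c0.kf x (h.c0.hMK hxM) ((y0 : A0) : G)
    (h.compl.le hy0'.1) w (h.compl.le hw.1) (hxo ▸ h.c0.hc) (hy0o ▸ hyo) (hwo.trans hy0o.symm)
    (by rw [hxo, hy0o]; exact hcq) (hy0c w hwA) hwi (hy0'.2 x hxM).symm (hw.2 x hxM).symm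

example : A0UniqStmt.{0} := a0uniq

end Cfsg.Agent.Lib.H11.S3814C1A0Uniq
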