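import Cfsg.Agent.Lib.H27.S3814C1Defs
import Cfsg.Agent.Lib.H4.S3814NSyl

/-!
# S3814, Case 1 block: pieces (7) F4 and (3) GOOD (coprime generation on a subgroup of `V`)
-/

set_option autoImplicit false

namespace Cfsg.Agent.Lib.H11.S3814C1Gen

universe u

open Cfsg.Agent.H7.S3814Defs Cfsg.Agent.H27.S3814C1

section Tools

variable {G : Type u} [Group G]

/-- `C_V(y)` as a subgroup -/
def cv (V : Subgroup G) (y : G) : Subgroup G := V ⊓ Subgroup.centralizer ({y} : Set G)

theorem mem_cv {V : Subgroup G} {y v : G} : v ∈ cv V y ↔ v ∈ V ∧ y * v = v * y := by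
  unfold cv
  rw [Subgroup.mem_inf, Subgroup.mem_centralizer_iff]
  constructor
  · rintro ⟨h1, h2⟩
    exact ⟨h1, h2 y (Set.mem_singleton y)⟩
  · rintro ⟨h1, h2⟩
    refine ⟨h1, fun g hg => ?_⟩
    rw [Set.mem_singleton_iff.mp hg]; exact h2

theorem conj_mem_cv {V : Subgroup G} (hV : V.Normal) {y e v : G} (hye : y * e = e * y)
    (hv : v ∈ cv V y) : e * v * e⁻¹ ∈ cv V y := by
  rw [mem_cv] at hv ⊢
  refine ⟨hV.conj_mem v hv.1 e, ?_⟩
  have h1 : y * e⁻¹ = e⁻¹ * y := by
    have : e⁻¹ * (y * e) * e⁻¹ = e⁻¹ * (e * y) * e⁻¹ := by rw [hye]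
    calc y * e⁻¹ = e⁻¹ * (e * y) * e⁻¹ := by group
      _ = e⁻¹ * (y * e) * e⁻¹ := by rw [hye]
      _ = e⁻¹ * y := by group
  calc y * (e * v * e⁻¹) = (y * e) * v * e⁻¹ := by group
    _ = e * (y * v) * e⁻¹ := by rw [hye]; group
    _ = e * (v * y) * e⁻¹ := by rw [hv.2]
    _ = e * v * (y * e⁻¹) := by group
    _ = e * v * (e⁻¹ * y) := by rw [h1]
    _ = e * v * e⁻¹ * y := by group

theorem mem_normalizer_cv {V : Subgroup G} (hV : V.Normal) {y e : G} (hye : y * e = e * y) :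
    e ∈ Subgroup.normalizer ((cv V y : Subgroup G) : Set G) := by
  rw [Subgroup.mem_normalizer_iff]
  intro v
  constructor
  · intro hv; exact conj_mem_cv hV hye hv
  · intro hv
    have h1 : y * e⁻¹ = e⁻¹ * y := by
      calc y * e⁻¹ = e⁻¹ * (e * y) * e⁻¹ := by group
        _ = e⁻¹ * (y * e) * e⁻¹ := by rw [hye]
        _ = e⁻¹ * y := by group
    have := conj_mem_cv hV h1 hv
    have e2 : e⁻¹ * (e * v * e⁻¹) * e⁻¹⁻¹ = v := by group
    rwa [e2] at this

theorem mem_normalizer_of_normal {V : Subgroup G} (hV : V.Normal) (e : G) :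
    e ∈ Subgroup.normalizer ((V : Subgroup G) : Set G) := by
  rw [Subgroup.mem_normalizer_iff]
  intro v
  constructor
  · intro hv; exact hV.conj_mem v hv e
  · intro hv
    have := hV.conj_mem _ hv e⁻¹
    have e2 : e⁻¹ * (e * v * e⁻¹) * e⁻¹⁻¹ = v := by group
    rwa [e2] at this

/-- the order of `V` is a power of `p` -/
theorem card_V_pow [Finite G] {p : ℕ} (hp : p.Prime) {V : Subgroup G} (hV : ElemAb p V) :
    ∃ k : ℕ, Nat.card V = p ^ k := by
  have : Fact p.Prime := ⟨hp⟩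
  have hpg : IsPGroup p V := by
    intro v
    refine ⟨1, ?_⟩
    apply Subtype.ext
    rw [pow_one, Subgroup.coe_pow, hV.2 v v.2]
    rfl
  exact (IsPGroup.iff_card).mp hpg

theorem coprime_of_le_V [Finite G] {p s : ℕ} (hp : p.Prime) (hs : s.Prime) (hsp : s ≠ p)
    {V U : Subgroup G} (hV : ElemAb p V) (hUV : U ≤ V) : (Nat.card U).Coprime s := by
  obtain ⟨k, hk⟩ := card_V_pow hp hV
  have hdvd : Nat.card U ∣ p ^ k := by rw [← hk]; exact Subgroup.card_dvd_of_le hUV
  have h1 : (p ^ k).Coprime s := Nat.Coprime.pow_left k ((Nat.coprime_primes hp hs).mpr hsp.symm)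
  exact Nat.Coprime.coprime_dvd_left hdvd h1

end Tools

/-- **PIECE F4** -/
theorem f4 : F4Stmt.{u} := by
  intro G _ σ hcex p V K hI hKF y hy e₁ he₁ e₂ he₂ hyo he₁o he₂o hne hcomm hind hy1 hy2
  have := hcex.fin
  by_contra hfpf
  have hU : cv V y ≠ ⊥ := by
    intro hbot
    apply hfpf
    intro v hv hyv
    have : v ∈ cv V y := mem_cv.mpr ⟨hv, hyv⟩
    rw [hbot, Subgroup.mem_bot] at this
    exact this
  have hpp : p.Prime := hcex.prime p hI.hp
  have hsσ := hKF.primes (orderOf e₁) he₁o (Subgroup.orderOf_dvd_natCard K he₁)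
  have hqσ := hKF.primes (orderOf y) hyo (Subgroup.orderOf_dvd_natCard K hy)
  have hcop : (Nat.card (cv V y)).Coprime (orderOf e₁) :=
    coprime_of_le_V hpp he₁o hsσ.2 hI.elem inf_le_left
  obtain ⟨x, hxA, hxo, n, hn, hn1, hnx⟩ := Cfsg.Agent.Lib.H4.S3814NSyl.rank2_fixed he₁o (cv V y) hU
    hcop e₁ e₂ rfl he₂o hcomm hind (mem_normalizer_cv hI.normal hy1)
    (mem_normalizer_cv hI.normal hy2)
  have hxK : x ∈ K := by
    refine (Subgroup.closure_le K).mpr ?_ hxA
    intro z hz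
    rcases hz with rfl | hz
    · exact he₂
    · rw [Set.mem_singleton_iff.mp hz]; exact he₁
  have hxy : y * x = x * y := by
    have hle : Subgroup.closure ({e₂, e₁} : Set G) ≤ Subgroup.centralizer ({y} : Set G) := by
      rw [Subgroup.closure_le]
      intro z hz
      rw [SetLike.mem_coe, Subgroup.mem_centralizer_iff]
      intro g hg
      rw [Set.mem_singleton_iff.mp hg]
      rcases hz with rfl | hz
      · exact hy2
      · rw [Set.mem_singleton_iff.mp hz]; exact hy1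
    exact Subgroup.mem_centralizer_iff.mp (hle hxA) y (Set.mem_singleton y)
  have hord : orderOf (y * x) = orderOf y * orderOf e₁ := by
    have hco : (orderOf y).Coprime (orderOf x) := by
      rw [hxo]; exact (Nat.coprime_primes hyo he₁o).mpr hne
    rw [(show Commute y x from hxy).orderOf_mul_eq_mul_orderOf_of_coprime hco, hxo]
  have hf := hKF.n1 (y * x) (K.mul_mem hy hxK) (orderOf y) hqσ.1 (orderOf e₁) hsσ.1 hqσ.2 hsσ.2 hne
    (by rw [hord])
  have hnV := (mem_cv.mp hn)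
  apply hn1
  apply hf n hnV.1
  calc y * x * n = y * (n * x) := by rw [mul_assoc, hnx]
    _ = (y * n) * x := by rw [mul_assoc]
    _ = n * y * x := by rw [hnV.2]
    _ = n * (y * x) := by rw [mul_assoc]

example : F4Stmt.{0} := f4

/-- **PIECE GOOD (A1)** -/
theorem goodInM : GoodInMStmt.{u} := by
  intro G _ σ p V K c M h0 hr2
  have := h0.cex.fin
  obtain ⟨e₁, he₁, e₂, he₂, h1o, h2o, hcomm, hind⟩ := hr2
  have hpp : p.Prime := h0.cex.prime p h0.shape.hp
  have hcp : c ≠ p := by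
    intro hcp
    have h1 : c ∣ Nat.card K := by
      have : orderOf e₁ ∣ Nat.card K := Subgroup.orderOf_dvd_natCard K (h0.hMK he₁)
      rwa [h1o] at this
    have h2 := h0.shape.coprime
    rw [← hcp] at h2
    exact h0.hc.one_lt.ne' (Nat.Coprime.eq_one_of_dvd h2.symm h1)
  have hcop : (Nat.card V).Coprime c := coprime_of_le_V hpp h0.hc hcp h0.shape.elem le_rfl
  obtain ⟨x, hxA, hxo, n, hn, hn1, hnx⟩ := Cfsg.Agent.Lib.H4.S3814NSyl.rank2_fixed h0.hc V
    h0.shape.ne_bot hcop e₁ e₂ h1o h2o hcomm hind (mem_normalizer_of_normal h0.shape.normal e₁)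
    (mem_normalizer_of_normal h0.shape.normal e₂)
  have hxM : x ∈ M := by
    refine (Subgroup.closure_le M).mpr ?_ hxA
    intro z hz
    rcases hz with rfl | hz
    · exact he₂
    · rw [Set.mem_singleton_iff.mp hz]; exact he₁
  refine ⟨x, hxM, hxo, ?_⟩
  intro hf
  exact hn1 (hf n hn hnx.symm)

example : GoodInMStmt.{0} := goodInM

end Cfsg.Agent.Lib.H11.S3814C1Gen
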