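import Cfsg.Agent.Lib.H8.S3814MPDefs

/-!
# S3814, (MP) block, piece (14) ENDCORE: the endgame for labelled Fitting data
-/

set_option autoImplicit false

namespace Cfsg.Agent.Lib.H11.S3814MPEnd

universe u

open Cfsg.Agent.H7.S3814Defs Cfsg.Agent.Lib.H8.S3814MP

section Tools

variable {G : Type u} [Group G]

/-- conjugation by `x^i` of `y`, when `x y x⁻¹ = y c` and `x` commutes with `c` -/
theorem conj_pow_eq {x y c : G} (hy : x * y * x⁻¹ = y * c) (hc : x * c = c * x) (i : ℕ) :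
    x ^ i * y * (x ^ i)⁻¹ = y * c ^ i := by
  induction i with
  | zero => simp
  | succ i ih =>
    have hci : x * c ^ i * x⁻¹ = c ^ i := by
      have h1 : Commute x (c ^ i) := (show Commute x c from hc).pow_right i
      rw [h1.eq, mul_inv_cancel_right]
    calc x ^ (i + 1) * y * (x ^ (i + 1))⁻¹
        = x * (x ^ i * y * (x ^ i)⁻¹) * x⁻¹ := by rw [pow_succ']; group
      _ = x * (y * c ^ i) * x⁻¹ := by rw [ih]
      _ = (x * y * x⁻¹) * (x * c ^ i * x⁻¹) := by group
      _ = y * c * c ^ i := by rw [hy, hci]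
      _ = y * c ^ (i + 1) := by rw [pow_succ', mul_assoc]

/-- an element of prime order `r` normalising `⟨z⟩`, `z` of order `r`... : a `r`-element `d`
normalising `⟨z⟩` of prime order `r` centralises `z`. -/
theorem comm_of_normalizes {r : ℕ} [Fact r.Prime] {z d : G} (hz : orderOf z = r)
    (hd : ∃ n : ℕ, d ^ (r ^ n) = 1) (hn : d * z * d⁻¹ ∈ Subgroup.zpowers z) : d * z = z * d := by
  have hr : r.Prime := Fact.out
  have hzfin : IsOfFinOrder z := by
    rw [← orderOf_pos_iff, hz]; exact hr.pos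
  rw [← hzfin.mem_powers_iff_mem_zpowers] at hn
  obtain ⟨k, hk⟩ := hn
  -- `d z d⁻¹ = z ^ k`
  obtain ⟨n, hdn⟩ := hd
  have key : ∀ i : ℕ, d ^ i * z * (d ^ i)⁻¹ = z ^ (k ^ i) := by
    intro i
    induction i with
    | zero => simp
    | succ i ih =>
      calc d ^ (i + 1) * z * (d ^ (i + 1))⁻¹
          = d * (d ^ i * z * (d ^ i)⁻¹) * d⁻¹ := by rw [pow_succ']; group
        _ = d * z ^ (k ^ i) * d⁻¹ := by rw [ih]
        _ = (d * z * d⁻¹) ^ (k ^ i) := by rw [conj_pow]
        _ = (z ^ k) ^ (k ^ i) := by rw [← hk]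
        _ = z ^ (k ^ (i + 1)) := by rw [← pow_mul, pow_succ']
  have h1 := key (r ^ n)
  rw [hdn, one_mul, inv_one, mul_one] at h1
  -- `z = z ^ (k ^ (r ^ n))`
  have h2 : z ^ 1 = z ^ (k ^ (r ^ n)) := by rw [pow_one]; exact h1
  have h3 : 1 ≡ k ^ (r ^ n) [MOD r] := by
    have := (pow_inj_mod (x := z) (n := 1) (m := k ^ (r ^ n))).mp h2
    rw [hz] at this
    exact this
  have h4 : ((k : ZMod r)) = 1 := by
    have h5 : ((1 : ℕ) : ZMod r) = ((k ^ (r ^ n) : ℕ) : ZMod r) :=
      (ZMod.natCast_eq_natCast_iff _ _ _).mpr h3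
    rw [Nat.cast_one, Nat.cast_pow, ZMod.pow_card_pow] at h5
    exact h5.symm
  have h6 : k ≡ 1 [MOD r] := by
    have : ((k : ℕ) : ZMod r) = ((1 : ℕ) : ZMod r) := by rw [h4, Nat.cast_one]
    exact (ZMod.natCast_eq_natCast_iff _ _ _).mp this
  have h7 : z ^ k = z ^ 1 := by
    rw [pow_inj_mod, hz]; exact h6
  rw [pow_one] at h7
  have h8 : d * z * d⁻¹ = z := by rw [← hk]; exact h7
  calc d * z = (d * z * d⁻¹) * d := by group
    _ = z * d := by rw [h8]

end Tools

set_option maxHeartbeats 1600000 in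
/-- **(ENDCORE)** -/
theorem endcore : EndCoreStmt.{u} := by
  intro hU hQ hC G _ _ r s V W X h R₀ S₀ hg
  classical
  have hr := h.hr
  have hs := h.hs
  have : Fact r.Prime := ⟨hr⟩
  have : Fact s.Prime := ⟨hs⟩
  obtain ⟨a, haX, b', hbX, hao, hbo, hab, hbna⟩ := h.rk_r
  have ord_conj : ∀ x y : G, orderOf (x * y * x⁻¹) = orderOf y := fun x y => by
    have := (MulAut.conj x).orderOf_eq y
    rwa [MulAut.conj_apply] at this
  -- Step 1: elements of order `r` centralise `S₀`
  have step1 : ∀ x ∈ X, orderOf x = r → ∀ y ∈ S₀, x * y = y * x := by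
    intro x hx hxr
    by_cases hS : S₀ = ⊥
    · intro y hy
      rw [hS, Subgroup.mem_bot] at hy
      rw [hy, mul_one, one_mul]
    have hcard : s ∣ Nat.card ↥S₀ := by
      rcases hg.pS.card_eq_or_dvd with h1 | h1
      · exfalso; exact hS (Subgroup.card_eq_one.mp h1)
      · exact h1
    obtain ⟨b0, hb0⟩ := exists_prime_orderOf_dvd_card' (G := ↥S₀) s hcard
    have hbS : (b0 : G) ∈ S₀ := b0.2
    have hbs : orderOf (b0 : G) = s := by rw [Subgroup.orderOf_coe]; exact hb0
    obtain ⟨huniq, hbV, hbW⟩ := hU h.swapRS S₀ hg.hS hg.nS hg.pS (b0 : G) hbS hbs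
    have hbn : ∀ x ∈ X, x * (b0 : G) * x⁻¹ ∈ Subgroup.zpowers (b0 : G) := fun x hx =>
      huniq _ (hg.nS x hx _ hbS) (by rw [ord_conj, hbs])
    have hxb : x * (b0 : G) = (b0 : G) * x := hC h (b0 : G) (hg.hS hbS) hbs hbn hbV hbW x hx hxr
    have hScomm : ∀ y1 ∈ S₀, ∀ y2 ∈ S₀, y1 * y2 = y2 * y1 := by
      intro y1 h1 y2 h2
      have := hg.cycS
      obtain ⟨g, hgen⟩ := IsCyclic.exists_generator (α := ↥S₀)
      obtain ⟨i, hi⟩ := Subgroup.mem_zpowers_iff.mp (hgen ⟨y1, h1⟩)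
      obtain ⟨j, hj⟩ := Subgroup.mem_zpowers_iff.mp (hgen ⟨y2, h2⟩)
      have e1 : y1 = ((g ^ i : ↥S₀) : G) := by rw [hi]
      have e2 : y2 = ((g ^ j : ↥S₀) : G) := by rw [hj]
      rw [e1, e2, ← Subgroup.coe_mul, ← Subgroup.coe_mul, zpow_mul_comm]
    have main : ∀ j : ℕ, ∀ y ∈ S₀, y ^ (s ^ j) = 1 → x * y * x⁻¹ = y := by
      intro j
      induction j with
      | zero =>
        intro y _ hy1
        rw [pow_zero, pow_one] at hy1
        rw [hy1]; group
      | succ j ih =>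
        intro y hy hy1
        have hys : (y ^ s) ^ (s ^ j) = 1 := by rw [← pow_mul, ← pow_succ']; exact hy1
        have ih' := ih (y ^ s) (S₀.pow_mem hy s) hys
        have hxy : x * y * x⁻¹ ∈ S₀ := hg.nS x hx y hy
        obtain ⟨c, hcdef⟩ : ∃ c, c = y⁻¹ * (x * y * x⁻¹) := ⟨_, rfl⟩
        have hcS : c ∈ S₀ := by rw [hcdef]; exact S₀.mul_mem (S₀.inv_mem hy) hxy
        have hyc : x * y * x⁻¹ = y * c := by rw [hcdef, mul_inv_cancel_left]
        have hcs : c ^ s = 1 := by
          have hcm : Commute y⁻¹ (x * y * x⁻¹) := hScomm _ (S₀.inv_mem hy) _ hxy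
          rw [hcdef, hcm.mul_pow, inv_pow, conj_pow, ih', inv_mul_cancel]
        have hxc : x * c = c * x := by
          by_cases hc1 : c = 1
          · rw [hc1, mul_one, one_mul]
          · have hco : orderOf c = s := by
              have := orderOf_dvd_of_pow_eq_one hcs
              rcases (Nat.dvd_prime hs).mp this with h1 | h1
              · exact absurd (orderOf_eq_one_iff.mp h1) hc1
              · exact h1
            obtain ⟨k, hk⟩ := Subgroup.mem_zpowers_iff.mp (huniq c hcS hco)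
            rw [← hk]
            exact ((show Commute x (b0 : G) from hxb).zpow_right k).eq
        have hk := conj_pow_eq hyc hxc r
        have hxr1 : x ^ r = 1 := by rw [← hxr]; exact pow_orderOf_eq_one x
        rw [hxr1, one_mul, inv_one, mul_one] at hk
        have hcr : c ^ r = 1 := left_eq_mul.mp hk
        have hc1 : c = 1 := by
          have h1 := orderOf_dvd_of_pow_eq_one hcs
          have h2 := orderOf_dvd_of_pow_eq_one hcr
          have h3 : orderOf c ∣ Nat.gcd s r := Nat.dvd_gcd h1 h2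
          have h4 : Nat.gcd s r = 1 := (Nat.coprime_primes hs hr).mpr h.hrs.symm
          rw [h4, Nat.dvd_one] at h3
          exact orderOf_eq_one_iff.mp h3
        rw [hyc, hc1, mul_one]
    intro y hy
    obtain ⟨j, hj⟩ := hg.pS ⟨y, hy⟩
    have hj' : y ^ (s ^ j) = 1 := by
      have := congrArg Subtype.val hj
      simpa using this
    have := main j y hy hj'
    calc x * y = (x * y * x⁻¹) * x := by group
      _ = y * x := by rw [this]
  -- the element `z`
  obtain ⟨z, hzR, hz⟩ : ∃ z ∈ R₀, orderOf z = r := by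
    have hcard : r ∣ Nat.card ↥R₀ := by
      rcases hg.pR.card_eq_or_dvd with h1 | h1
      · exfalso; exact hg.neR (Subgroup.card_eq_one.mp h1)
      · exact h1
    obtain ⟨z0, hz0⟩ := exists_prime_orderOf_dvd_card' (G := ↥R₀) r hcard
    exact ⟨(z0 : G), z0.2, by rw [Subgroup.orderOf_coe]; exact hz0⟩
  obtain ⟨hzuniq, hzV, hzW⟩ := hU h R₀ hg.hR hg.nR hg.pR z hzR hz
  -- the `r`-group `D`
  have hPa : IsPGroup r (Subgroup.zpowers a) :=
    IsPGroup.of_card (n := 1) (by rw [Nat.card_zpowers, hao, pow_one])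
  have hPb : IsPGroup r (Subgroup.zpowers b') :=
    IsPGroup.of_card (n := 1) (by rw [Nat.card_zpowers, hbo, pow_one])
  have hcomm_ab : ∀ y ∈ Subgroup.zpowers b', a * y = y * a := by
    intro y hy
    obtain ⟨k, hk⟩ := Subgroup.mem_zpowers_iff.mp hy
    rw [← hk]
    exact ((show Commute a b' from hab).zpow_right k).eq
  have hPp : IsPGroup r (Subgroup.zpowers a ⊔ Subgroup.zpowers b' : Subgroup G) := by
    apply IsPGroup.to_sup_of_normal_right' hPa hPb
    rw [Subgroup.zpowers_le, Subgroup.mem_normalizer_iff]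
    intro y
    constructor
    · intro hy
      rw [hcomm_ab y hy, mul_inv_cancel_right]
      exact hy
    · intro hy
      have h1 := hcomm_ab _ hy
      have e : y = a * y * a⁻¹ := by
        calc y = a⁻¹ * ((a * y * a⁻¹) * a) := by group
          _ = a⁻¹ * (a * (a * y * a⁻¹)) := by rw [h1]
          _ = a * y * a⁻¹ := by group
      rw [e]; exact hy
  have hPX : (Subgroup.zpowers a ⊔ Subgroup.zpowers b' : Subgroup G) ≤ X :=
    sup_le (Subgroup.zpowers_le.mpr haX) (Subgroup.zpowers_le.mpr hbX)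
  obtain ⟨D, hDdef⟩ : ∃ D : Subgroup G, D = (Subgroup.zpowers a ⊔ Subgroup.zpowers b') ⊔ R₀ :=
    ⟨_, rfl⟩
  have hDX : D ≤ X := by rw [hDdef]; exact sup_le hPX hg.hR
  have hDp : IsPGroup r D := by
    rw [hDdef]
    apply IsPGroup.to_sup_of_normal_right' hPp hg.pR
    intro x hx
    rw [Subgroup.mem_normalizer_iff]
    intro y
    constructor
    · intro hy; exact hg.nR x (hPX hx) y hy
    · intro hy
      have := hg.nR x⁻¹ (X.inv_mem (hPX hx)) _ hy
      have e : x⁻¹ * (x * y * x⁻¹) * x⁻¹⁻¹ = y := by group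
      rwa [e] at this
  have hR₀D : R₀ ≤ D := by rw [hDdef]; exact le_sup_right
  have haD : a ∈ D := by
    rw [hDdef]
    exact le_sup_left (a := Subgroup.zpowers a ⊔ Subgroup.zpowers b')
      ((le_sup_left : Subgroup.zpowers a ≤ _) (Subgroup.mem_zpowers a))
  have hbD : b' ∈ D := by
    rw [hDdef]
    exact le_sup_left (a := Subgroup.zpowers a ⊔ Subgroup.zpowers b')
      ((le_sup_right : Subgroup.zpowers b' ≤ _) (Subgroup.mem_zpowers b'))
  have hzD : z ∈ D := hR₀D hzR
  have hzc : ∀ d ∈ D, d * z = z * d := by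
    intro d hd
    apply comm_of_normalizes hz
    · obtain ⟨n, hn⟩ := hDp ⟨d, hd⟩
      exact ⟨n, by simpa using congrArg Subtype.val hn⟩
    · exact hzuniq _ (hg.nR d (hDX hd) z hzR) (by rw [ord_conj, hz])
  have hac := hQ h D hDX hDp z hzD hz hzc hzV hzW a haD hao
  have hbc := hQ h D hDX hDp z hzD hz hzc hzV hzW b' hbD hbo
  -- `a, b'` lie in the centre of `M = R₀ ⊔ S₀`
  obtain ⟨M, hMdef⟩ : ∃ M : Subgroup G, M = R₀ ⊔ S₀ := ⟨_, rfl⟩
  have hR₀M : R₀ ≤ M := by rw [hMdef]; exact le_sup_left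
  have hS₀M : S₀ ≤ M := by rw [hMdef]; exact le_sup_right
  have hMX : M ≤ X := by rw [hMdef]; exact sup_le hg.hR hg.hS
  have haR : ∀ y ∈ R₀, a * y = y * a := fun y hy => (hac y (hR₀D hy)).symm
  have hbR : ∀ y ∈ R₀, b' * y = y * b' := fun y hy => (hbc y (hR₀D hy)).symm
  have haS : ∀ y ∈ S₀, a * y = y * a := step1 a haX hao
  have hbS : ∀ y ∈ S₀, b' * y = y * b' := step1 b' hbX hbo
  have haM : a ∈ M := by rw [hMdef]; exact hg.selfc a haX haR haS
  have hbM : b' ∈ M := by rw [hMdef]; exact hg.selfc b' hbX hbR hbS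
  have central : ∀ t : G, (∀ y ∈ R₀, t * y = y * t) → (∀ y ∈ S₀, t * y = y * t) →
      ∀ m ∈ M, t * m = m * t := by
    intro t h1 h2 m hm
    have hle : M ≤ Subgroup.centralizer {t} := by
      rw [hMdef]
      apply sup_le
      · intro y hy
        rw [Subgroup.mem_centralizer_iff]
        intro g hg'
        rw [Set.mem_singleton_iff] at hg'
        rw [hg']; exact h1 y hy
      · intro y hy
        rw [Subgroup.mem_centralizer_iff]
        intro g hg'
        rw [Set.mem_singleton_iff] at hg'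
        rw [hg']; exact h2 y hy
    exact Subgroup.mem_centralizer_iff.mp (hle hm) t (Set.mem_singleton t)
  have hMn : ∀ x ∈ X, ∀ m ∈ M, x * m * x⁻¹ ∈ M := by
    intro x hx
    have hle : M ≤ M.comap (MulAut.conj x).toMonoidHom := by
      conv_lhs => rw [hMdef]
      apply sup_le
      · intro y hy
        rw [Subgroup.mem_comap]
        show MulAut.conj x y ∈ M
        rw [MulAut.conj_apply]
        exact hR₀M (hg.nR x hx y hy)
      · intro y hy
        rw [Subgroup.mem_comap]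
        show MulAut.conj x y ∈ M
        rw [MulAut.conj_apply]
        exact hS₀M (hg.nS x hx y hy)
    intro m hm
    have := hle hm
    rw [Subgroup.mem_comap] at this
    have h2 : MulAut.conj x m ∈ M := this
    rwa [MulAut.conj_apply] at h2
  -- the central `r`-part `D₂` of `M`
  let D₂ : Subgroup G :=
    { carrier := {x | x ∈ M ∧ (∀ m ∈ M, x * m = m * x) ∧ ∃ k : ℕ, x ^ (r ^ k) = 1}
      mul_mem' := by
        rintro x y ⟨hx, hxc, kx, hkx⟩ ⟨hy, hyc, ky, hky⟩
        refine ⟨M.mul_mem hx hy, ?_, kx + ky, ?_⟩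
        · intro m hm
          rw [mul_assoc, hyc m hm, ← mul_assoc, hxc m hm, mul_assoc]
        · have hcm : Commute x y := hxc y hy
          have e1 : x ^ (r ^ (kx + ky)) = 1 := by rw [pow_add, pow_mul, hkx, one_pow]
          have e2 : y ^ (r ^ (kx + ky)) = 1 := by rw [pow_add, mul_comm, pow_mul, hky, one_pow]
          rw [hcm.mul_pow, e1, e2, mul_one]
      one_mem' := ⟨M.one_mem, fun m _ => by rw [one_mul, mul_one], 0, by simp⟩
      inv_mem' := by
        rintro x ⟨hx, hxc, k, hk⟩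
        refine ⟨M.inv_mem hx, ?_, k, by rw [inv_pow, hk, inv_one]⟩
        intro m hm
        have := hxc m hm
        calc x⁻¹ * m = x⁻¹ * (m * x) * x⁻¹ := by group
          _ = x⁻¹ * (x * m) * x⁻¹ := by rw [this]
          _ = m * x⁻¹ := by group }
  have hD₂mem : ∀ x : G, x ∈ D₂ ↔ x ∈ M ∧ (∀ m ∈ M, x * m = m * x) ∧ ∃ k : ℕ, x ^ (r ^ k) = 1 :=
    fun x => Iff.rfl
  have hD₂X : D₂ ≤ X := fun x hx => hMX ((hD₂mem x).mp hx).1
  have hD₂n : ∀ x ∈ X, ∀ d ∈ D₂, x * d * x⁻¹ ∈ D₂ := by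
    intro x hx d hd
    obtain ⟨hdM, hdc, k, hk⟩ := (hD₂mem d).mp hd
    rw [hD₂mem]
    refine ⟨hMn x hx d hdM, ?_, k, by rw [conj_pow, hk, mul_one, mul_inv_cancel]⟩
    intro m hm
    have hm' : x⁻¹ * m * x ∈ M := by
      have := hMn x⁻¹ (X.inv_mem hx) m hm
      rwa [inv_inv] at this
    have := hdc _ hm'
    calc x * d * x⁻¹ * m = x * (d * (x⁻¹ * m * x)) * x⁻¹ := by group
      _ = x * ((x⁻¹ * m * x) * d) * x⁻¹ := by rw [this]
      _ = m * (x * d * x⁻¹) := by group
  have hD₂p : IsPGroup r ↥D₂ := by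
    rintro ⟨d, hd⟩
    obtain ⟨_, _, k, hk⟩ := (hD₂mem d).mp hd
    exact ⟨k, Subtype.ext (by simpa using hk)⟩
  have haD₂ : a ∈ D₂ := by
    rw [hD₂mem]
    exact ⟨haM, central a haR haS, 1, by rw [pow_one, ← hao]; exact pow_orderOf_eq_one a⟩
  have hbD₂ : b' ∈ D₂ := by
    rw [hD₂mem]
    exact ⟨hbM, central b' hbR hbS, 1, by rw [pow_one, ← hbo]; exact pow_orderOf_eq_one b'⟩
  exact hbna ((hU h D₂ hD₂X hD₂n hD₂p a haD₂ hao).1 b' hbD₂ hbo)

example : EndCoreStmt.{0} := endcore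

end Cfsg.Agent.Lib.H11.S3814MPEnd
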