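import Cfsg.Agent.Lib.H22.S3901Defs
import Cfsg.Agent.Lib.H6.FrobActG
import Cfsg.Agent.Lib.H1.CoprimeAction

/-!
# S3901, piece (1) LL: the local lemma (twin)
-/

set_option autoImplicit false

namespace Cfsg.Agent.Lib.H11.S3901LL

universe u

open Cfsg.Agent.Lib.H22.S3901Defs

section Tools

variable {T : Type u} [Group T] [Finite T]

/-- coprimality of the orders of a `p`-element and an `s`-element -/
theorem cop_of_pows {x c : T} {p s k l : ℕ} (hp : p.Prime) (hs : s.Prime) (hne : p ≠ s)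
    (hx : x ^ (p ^ k) = 1) (hc : c ^ (s ^ l) = 1) : (orderOf x).Coprime (orderOf c) := by
  have h1 : orderOf x ∣ p ^ k := orderOf_dvd_of_pow_eq_one hx
  have h2 : orderOf c ∣ s ^ l := orderOf_dvd_of_pow_eq_one hc
  have h3 : (p ^ k).Coprime (s ^ l) :=
    Nat.Coprime.pow k l ((Nat.coprime_primes hp hs).mpr hne)
  exact Nat.Coprime.coprime_dvd_left h1 (Nat.Coprime.coprime_dvd_right h2 h3)

/-- FACT 0: a commuting pair of coprime nontrivial orders, the first outside `L`, is bad. -/
theorem bad (L : Subgroup T) (h : ∀ x : T, x ∉ L → IsPrimePow (orderOf x)) {x c : T}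
    (hx : x ∉ L) (hcomm : Commute x c) (hcop : (orderOf x).Coprime (orderOf c))
    (hx1 : x ≠ 1) (hc1 : c ≠ 1) : False := by
  have hxc : x * c ∉ L := by
    intro hmem
    have h1 : (x * c) ^ orderOf c ∈ L := L.pow_mem hmem _
    rw [hcomm.mul_pow, pow_orderOf_eq_one, mul_one] at h1
    obtain ⟨m, hm⟩ := exists_pow_eq_self_of_coprime (x := x) hcop.symm
    apply hx
    rw [← hm]
    exact L.pow_mem h1 m
  have hpp := h (x * c) hxc
  rw [hcomm.orderOf_mul_eq_mul_orderOf_of_coprime hcop] at hpp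
  have hox : orderOf x ≠ 1 := fun h1 => hx1 (orderOf_eq_one_iff.mp h1)
  have hoc : orderOf c ≠ 1 := fun h1 => hc1 (orderOf_eq_one_iff.mp h1)
  have hxpos : 0 < orderOf x := orderOf_pos x
  have hcpos : 0 < orderOf c := orderOf_pos c
  rcases (hcop.isPrimePow_dvd_mul hpp).mp dvd_rfl with h1 | h1
  · have := Nat.le_of_dvd hxpos h1
    have h2 : orderOf x * orderOf c ≥ orderOf x * 2 := by
      apply Nat.mul_le_mul_left; omega
    omega
  · have := Nat.le_of_dvd hcpos h1
    have h2 : orderOf x * orderOf c ≥ 2 * orderOf c := by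
      apply Nat.mul_le_mul_right; omega
    omega

end Tools

/-- **PIECE LL** -/
theorem ll : LLStmt.{u} := by
  intro T _ _ L M V _ _ _ p q r hp hq hr hpq hpr hqr hLM hMq hMp hML hpp hVL hVne hVc hVr
  haveI : Fact p.Prime := ⟨hp⟩
  -- (1) a `p`-element `m ∈ M \ L`
  obtain ⟨m, hmM, hmL⟩ := hML
  obtain ⟨s, j, hs, hj, hsj⟩ := (isPrimePow_nat_iff _).mp (hpp m hmL)
  have hsp : s = p := by
    by_contra hne
    obtain ⟨k, hk⟩ := hMp m hmM
    have hco : (p ^ k).Coprime (orderOf m) := by
      rw [← hsj]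
      exact Nat.Coprime.pow k j ((Nat.coprime_primes hp hs).mpr (Ne.symm hne))
    obtain ⟨i, hi⟩ := exists_pow_eq_self_of_coprime hco
    apply hmL
    rw [← hi]
    exact L.pow_mem hk i
  subst hsp
  have hmpow : m ^ (s ^ j) = 1 := by rw [hsj]; exact pow_orderOf_eq_one m
  have hm1 : m ≠ 1 := fun h1 => hmL (h1 ▸ L.one_mem)
  -- the Sylow subgroup
  have hzp : IsPGroup s (Subgroup.zpowers (⟨m, hmM⟩ : M)) := by
    apply IsPGroup.of_card (n := j)
    rw [Nat.card_zpowers, Subgroup.orderOf_mk, hsj]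
  obtain ⟨P', hP'⟩ := hzp.exists_le_sylow
  set P0 : Subgroup T := (P' : Subgroup M).map M.subtype with hP0
  have hmP0 : m ∈ P0 := ⟨⟨m, hmM⟩, hP' (Subgroup.mem_zpowers _), rfl⟩
  have hP0p : IsPGroup s P0 := P'.2.map M.subtype
  obtain ⟨a, ha⟩ := (IsPGroup.iff_card).mp hP0p
  have hP0pow : ∀ x ∈ P0, x ^ (s ^ a) = 1 := by
    intro x hx
    have h1 : (⟨x, hx⟩ : P0) ^ Nat.card P0 = 1 := pow_card_eq_one'
    rw [ha] at h1
    exact congrArg Subtype.val h1
  have hfrat := Sylow.normalizer_sup_eq_top P'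
  rw [← hP0] at hfrat
  -- (2) no element of prime order `≠ p` in `L ∩ N(P0)`
  have step2 : ∀ c ∈ L, c ∈ Subgroup.normalizer (P0 : Set T) → ∀ t : ℕ, t.Prime → t ≠ s →
      orderOf c = t → False := by
    intro c hcL hcN t ht hts hct
    have hc1 : c ≠ 1 := by
      intro h1; rw [h1, orderOf_one] at hct; exact ht.one_lt.ne hct
    have hcpow : c ^ (t ^ 1) = 1 := by rw [pow_one, ← hct]; exact pow_orderOf_eq_one c
    have hact : Cfsg.Agent.Lib.H1.CoprimeAction (Subgroup.zpowers c) (P0 ⊓ L) := by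
      refine ⟨?_, ?_, Or.inl inferInstance⟩
      · rw [Subgroup.zpowers_le]
        rw [Subgroup.mem_normalizer_iff]
        intro g
        rw [Subgroup.mem_inf, Subgroup.mem_inf]
        constructor
        · rintro ⟨h1, h2⟩
          exact ⟨(Subgroup.mem_normalizer_iff.mp hcN g).mp h1,
            (inferInstance : L.Normal).conj_mem g h2 c⟩
        · rintro ⟨h1, h2⟩
          refine ⟨(Subgroup.mem_normalizer_iff.mp hcN g).mpr h1, ?_⟩
          have := (inferInstance : L.Normal).conj_mem _ h2 c⁻¹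
          have e : c⁻¹ * (c * g * c⁻¹) * c⁻¹⁻¹ = g := by group
          rwa [e] at this
      · rw [Nat.card_zpowers, hct]
        have hdvd : Nat.card (P0 ⊓ L : Subgroup T) ∣ s ^ a := by
          rw [← ha]; exact Subgroup.card_dvd_of_le inf_le_left
        exact Nat.Coprime.coprime_dvd_right hdvd
          (Nat.Coprime.pow_right a ((Nat.coprime_primes ht hp).mpr hts))
    have hinv : ∀ z ∈ Subgroup.zpowers c, m⁻¹ * z * m * z⁻¹ ∈ P0 ⊓ L := by
      intro z hz
      have hzL : z ∈ L := (Subgroup.zpowers_le.mpr hcL) hz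
      have hzN : z ∈ Subgroup.normalizer (P0 : Set T) := (Subgroup.zpowers_le.mpr hcN) hz
      refine ⟨?_, ?_⟩
      · have h1 : z * m * z⁻¹ ∈ P0 := (Subgroup.mem_normalizer_iff.mp hzN m).mp hmP0
        have e : m⁻¹ * z * m * z⁻¹ = m⁻¹ * (z * m * z⁻¹) := by group
        rw [e]
        exact P0.mul_mem (P0.inv_mem hmP0) h1
      · have h1 : m⁻¹ * z * m⁻¹⁻¹ ∈ L := (inferInstance : L.Normal).conj_mem z hzL m⁻¹
        have e : m⁻¹ * z * m * z⁻¹ = (m⁻¹ * z * m⁻¹⁻¹) * z⁻¹ := by group
        rw [e]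
        exact L.mul_mem h1 (L.inv_mem hzL)
    obtain ⟨d, hd, hcen⟩ := Cfsg.Agent.Lib.H1.coprime_coset_fixed hact m hinv
    have hxP : m * d ∈ P0 := P0.mul_mem hmP0 hd.1
    have hxL : m * d ∉ L := by
      intro hmem
      apply hmL
      have := L.mul_mem hmem (L.inv_mem hd.2)
      rwa [mul_assoc, mul_inv_cancel, mul_one] at this
    have hx1 : m * d ≠ 1 := fun h1 => hxL (h1 ▸ L.one_mem)
    have hcomm : Commute (m * d) c := by
      have := Subgroup.mem_centralizer_iff.mp hcen c (Subgroup.mem_zpowers c)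
      exact this.symm
    exact bad L hpp hxL hcomm (cop_of_pows hp ht (Ne.symm hts) (hP0pow _ hxP) hcpow) hx1 hc1
  -- (3) an element `y` of order `q` normalising `P0`
  obtain ⟨y, hyN, hyo⟩ : ∃ y ∈ Subgroup.normalizer (P0 : Set T), orderOf y = q := by
    have hMne : ∃ g : T, g ∉ M := by
      by_contra hcon
      push Not at hcon
      have : M = ⊤ := by rw [eq_top_iff]; intro g _; exact hcon g
      rw [this, Subgroup.index_top] at hMq
      exact hq.one_lt.ne hMq
    obtain ⟨g, hg⟩ := hMne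
    have hgtop : g ∈ (Subgroup.normalizer (P0 : Set T) ⊔ M : Subgroup T) := by
      rw [hfrat]; exact Subgroup.mem_top g
    rw [← SetLike.mem_coe, Subgroup.mul_normal] at hgtop
    obtain ⟨n, hn, m', hm', rfl⟩ := hgtop
    have hnM : n ∉ M := fun h1 => hg (M.mul_mem h1 hm')
    have hdvd : q ∣ orderOf n := by
      by_contra hnd
      have hco : q.Coprime (orderOf n) := (Nat.Prime.coprime_iff_not_dvd hq).mpr hnd
      obtain ⟨i, hi⟩ := exists_pow_eq_self_of_coprime hco
      apply hnM
      rw [← hi]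
      have := Subgroup.pow_index_mem M n
      rw [hMq] at this
      exact M.pow_mem this i
    refine ⟨n ^ (orderOf n / q), Subgroup.pow_mem _ hn _, ?_⟩
    exact orderOf_pow_orderOf_div (orderOf_pos n).ne' hdvd
  have hy1 : y ≠ 1 := by
    intro h1; rw [h1, orderOf_one] at hyo; exact hq.one_lt.ne hyo
  have hypow : y ^ (q ^ 1) = 1 := by rw [pow_one, ← hyo]; exact pow_orderOf_eq_one y
  have hyL : y ∉ L := fun h1 => step2 y h1 hyN q hq (Ne.symm hpq) hyo
  -- the `r`-elements
  have hVpow : ∀ v ∈ V, v ≠ 1 → ∃ k : ℕ, v ^ (r ^ k) = 1 := fun v hv _ => hVr v hv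
  -- (4), (5), (6)
  have hcen := Cfsg.Agent.Lib.H6.FrobActG.t1_group P0 V y hq hyo
    (fun k hk => (Subgroup.mem_normalizer_iff.mp hyN k).mp hk)
    (fun v hv => (inferInstance : V.Normal).conj_mem v hv y)
    (fun k _ v hv => (inferInstance : V.Normal).conj_mem v hv k)
    hVc
    (by
      intro k hk hfix
      by_contra hk1
      have hcomm : Commute y k := by
        have : y * k = k * y := by
          calc y * k = (y * k * y⁻¹) * y := by group
            _ = k * y := by rw [hfix]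
        exact this
      exact bad L hpp hyL hcomm (cop_of_pows hq hp (Ne.symm hpq) hypow (hP0pow k hk)) hy1 hk1)
    (by
      intro v hv hvc
      by_contra hv1
      obtain ⟨k, hk⟩ := hVr v hv
      rw [ha] at hvc
      have h1 : orderOf v ∣ s ^ a := orderOf_dvd_of_pow_eq_one hvc
      have h2 : orderOf v ∣ r ^ k := orderOf_dvd_of_pow_eq_one hk
      have h3 : (s ^ a).Coprime (r ^ k) :=
        Nat.Coprime.pow a k ((Nat.coprime_primes hp hr).mpr hpr)
      have h4 : orderOf v = 1 := Nat.eq_one_of_dvd_coprimes h3 h1 h2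
      exact hv1 (orderOf_eq_one_iff.mp h4))
    (by
      intro v hv hfix
      by_contra hv1
      obtain ⟨k, hk⟩ := hVr v hv
      have hcomm : Commute y v := by
        have : y * v = v * y := by
          calc y * v = (y * v * y⁻¹) * y := by group
            _ = v * y := by rw [hfix]
        exact this
      exact bad L hpp hyL hcomm (cop_of_pows hq hr hqr hypow hk) hy1 hv1)
  -- (7)
  obtain ⟨v, hv, hv1⟩ : ∃ v ∈ V, v ≠ 1 := by
    by_contra hcon
    push Not at hcon
    apply hVne
    rw [eq_bot_iff]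
    intro v hv
    rw [Subgroup.mem_bot]
    exact hcon v hv
  obtain ⟨k, hk⟩ := hVr v hv
  have hcomm : Commute m v := by
    have h1 := hcen m hmP0 v hv
    have : m * v = v * m := by
      calc m * v = (m * v * m⁻¹) * m := by group
        _ = v * m := by rw [h1]
    exact this
  exact bad L hpp hmL hcomm (cop_of_pows hp hr hpr hmpow hk) hm1 hv1

example : LLStmt.{0} := ll

end Cfsg.Agent.Lib.H11.S3901LL
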