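import Cfsg.Agent.Lib.H10.S4415Defs

/-!
# S4415, BAD layer, step (4) (helper11): a normal subgroup of odd order of `R<b>` inside `R` is trivial

In helper10's `LinCtx` / `QData` frame.  Everything is elementwise: no ranks, no `|GL₂(3)|`, no
Clifford theory.

* `QData.rot`   : the data rotated `x₁ → x₂ → x₃`, `e₁ → e₂ → e₃` is again `QData`.
* `two_dim`     : an `m` inverted by an involution `x` and preserving `span{u, v}` (`x u = u`,
  `x v = -v`) satisfies `ρ(m)^12 = 1` there.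
* `key`         : `m ∈ R` of odd order, centralised by `x₁` and inverted by `x₂`, is `1`.
* `abelian_case`, `odd_normal_trivial`.
-/

set_option autoImplicit false

namespace Cfsg.Agent.Lib.H11.S4415O

open Cfsg Cfsg.Agent.Lib.H10.S4415

section basics

variable {V : Type*} [AddCommGroup V] [Module (ZMod 3) V]

theorem eq_zero_of_add_self {v : V} (h : v + v = 0) : v = 0 := by
  have h3 : (3 : ZMod 3) • v = 0 := by
    have : (3 : ZMod 3) = 0 := by decide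
    rw [this, zero_smul]
  have h4 : (3 : ZMod 3) • v = v + v + v := by
    have : (3 : ZMod 3) = 1 + 1 + 1 := by decide
    rw [this, add_smul, add_smul, one_smul]
  rw [h4, h, zero_add] at h3
  exact h3

theorem add_self_eq_neg (v : V) : v + v = -v := by
  have h3 : (3 : ZMod 3) • v = 0 := by
    have : (3 : ZMod 3) = 0 := by decide
    rw [this, zero_smul]
  have h4 : (3 : ZMod 3) • v = v + v + v := by
    have : (3 : ZMod 3) = 1 + 1 + 1 := by decide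
    rw [this, add_smul, add_smul, one_smul]
  rw [h4] at h3
  exact eq_neg_of_add_eq_zero_left h3

theorem eq_zero_of_eq_neg {v : V} (h : v = -v) : v = 0 := by
  apply eq_zero_of_add_self
  nth_rewrite 1 [h]
  exact neg_add_cancel v

theorem smul_eq_zero_zmod {c : ZMod 3} {v : V} (hv : v ≠ 0) (h : c • v = 0) : c = 0 := by
  rcases smul_eq_zero.1 h with h1 | h1
  · exact h1
  · exact absurd h1 hv

/-- the scalar computation behind `two_dim` -/
theorem scalar12 : ∀ α β γ δ : ZMod 3, α * α - β * γ = 1 → α * β - β * δ = 0 →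
    δ * γ - γ * α = 0 → δ * δ - γ * β = 1 →
    ((fun p : ZMod 3 × ZMod 3 => (α * p.1 + γ * p.2, β * p.1 + δ * p.2))^[12] (1, 0) = (1, 0) ∧
     (fun p : ZMod 3 × ZMod 3 => (α * p.1 + γ * p.2, β * p.1 + δ * p.2))^[12] (0, 1) = (0, 1)) := by
  decide

/-- `u, v` eigenvectors of the involution `X` for `1, -1` are independent -/
theorem indep_of_eigen (X : V →ₗ[ZMod 3] V) {u v : V} (hu : u ≠ 0) (hv : v ≠ 0)
    (hXu : X u = u) (hXv : X v = -v) {c d : ZMod 3} (h : c • u + d • v = 0) : c = 0 ∧ d = 0 := by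
  have h1 : c • u - d • v = 0 := by
    have := congrArg X h
    rw [map_add, map_smul, map_smul, hXu, hXv, map_zero, smul_neg] at this
    rw [sub_eq_add_neg]
    exact this
  have h2 : c • u + c • u = 0 := by
    have : (c • u + d • v) + (c • u - d • v) = 0 := by rw [h, h1, add_zero]
    rw [← this]
    abel
  have h3 : c • u = 0 := eq_zero_of_add_self h2
  have hc : c = 0 := smul_eq_zero_zmod hu h3
  rw [hc, zero_smul, zero_add] at h
  exact ⟨hc, smul_eq_zero_zmod hv h⟩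

/-- **2-dimensional lemma**: `F` with inverse `G = X F X` (`X` an involution with `X u = u`,
`X v = -v`) preserving `span{u, v}` satisfies `F^12 = 1` on `u` and `v`. -/
theorem two_dim (F G X : V →ₗ[ZMod 3] V) {u v : V} (hu : u ≠ 0) (hv : v ≠ 0)
    (hFG : ∀ p, F (G p) = p) (hXu : X u = u) (hXv : X v = -v)
    (hconj : ∀ p, X (F (X p)) = G p)
    {α β γ δ : ZMod 3} (hFu : F u = α • u + β • v) (hFv : F v = γ • u + δ • v) :
    (⇑F)^[12] u = u ∧ (⇑F)^[12] v = v := by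
  -- `G` in coordinates
  have hGu : G u = α • u - β • v := by
    rw [← hconj, hXu, hFu, map_add, map_smul, map_smul, hXu, hXv, smul_neg, sub_eq_add_neg]
  have hGv : G v = -(γ • u) + δ • v := by
    rw [← hconj, hXv, map_neg, hFv, map_neg, map_add, map_smul, map_smul, hXu, hXv, smul_neg,
      neg_add, neg_neg]
  -- the four equations
  have e1 : (α * α - β * γ - 1) • u + (α * β - β * δ) • v = 0 := by
    have h := hFG u
    rw [hGu, map_sub, map_smul, map_smul, hFu, hFv] at h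
    have h2 : (α * α - β * γ - 1) • u + (α * β - β * δ) • v =
        α • (α • u + β • v) - β • (γ • u + δ • v) - u := by
      simp only [smul_add, smul_smul, sub_smul, one_smul]
      abel
    rw [h2, h, sub_self]
  have e2 : (δ * γ - γ * α) • u + (δ * δ - γ * β - 1) • v = 0 := by
    have h := hFG v
    rw [hGv, map_add, map_neg, map_smul, map_smul, hFu, hFv] at h
    have h2 : (δ * γ - γ * α) • u + (δ * δ - γ * β - 1) • v =
        -(γ • (α • u + β • v)) + δ • (γ • u + δ • v) - v := by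
      simp only [smul_add, smul_smul, sub_smul, one_smul]
      abel
    rw [h2, h, sub_self]
  obtain ⟨h1, h2⟩ := indep_of_eigen X hu hv hXu hXv e1
  obtain ⟨h3, h4⟩ := indep_of_eigen X hu hv hXu hXv e2
  have key := scalar12 α β γ δ (sub_eq_zero.1 h1) h2 h3 (sub_eq_zero.1 h4)
  -- iterates in coordinates
  have hiter : ∀ (n : ℕ) (p : ZMod 3 × ZMod 3),
      (⇑F)^[n] (p.1 • u + p.2 • v) =
        ((fun p : ZMod 3 × ZMod 3 => (α * p.1 + γ * p.2, β * p.1 + δ * p.2))^[n] p).1 • u +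
        ((fun p : ZMod 3 × ZMod 3 => (α * p.1 + γ * p.2, β * p.1 + δ * p.2))^[n] p).2 • v := by
    intro n
    induction n with
    | zero => intro p; rfl
    | succ n ih =>
      intro p
      rw [Function.iterate_succ_apply, Function.iterate_succ_apply]
      have hstep : F (p.1 • u + p.2 • v) =
          (α * p.1 + γ * p.2) • u + (β * p.1 + δ * p.2) • v := by
        rw [map_add, map_smul, map_smul, hFu, hFv]
        simp only [smul_add, smul_smul, add_smul]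
        rw [mul_comm p.1 α, mul_comm p.1 β, mul_comm p.2 γ, mul_comm p.2 δ]
        abel
      rw [hstep]
      exact ih (α * p.1 + γ * p.2, β * p.1 + δ * p.2)
  constructor
  · have h := hiter 12 (1, 0)
    rw [key.1] at h
    simpa using h
  · have h := hiter 12 (0, 1)
    rw [key.2] at h
    simpa using h

end basics

section frame

variable {S E : Type*} [Group S] [AddCommGroup E] [Module (ZMod 3) E]
variable {ρ : Representation (ZMod 3) S E} {R : Subgroup S} {b : S} {W : Submodule (ZMod 3) E}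
variable {x₁ x₂ x₃ : S} {e₁ e₂ e₃ : E}

theorem rho_mul_apply (g h : S) (v : E) : ρ (g * h) v = ρ g (ρ h v) := by
  rw [map_mul, Module.End.mul_apply]

theorem rho_inv_apply (g : S) (v : E) : ρ g⁻¹ (ρ g v) = v := by
  rw [← rho_mul_apply, inv_mul_cancel, map_one, Module.End.one_apply]

theorem rho_apply_inv (g : S) (v : E) : ρ g (ρ g⁻¹ v) = v := by
  rw [← rho_mul_apply, mul_inv_cancel, map_one, Module.End.one_apply]

/-- the stabiliser of a vector -/
def fixer (ρ : Representation (ZMod 3) S E) (p : E) : Subgroup S where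
  carrier := {g | ρ g p = p}
  mul_mem' := by
    intro a c ha hc
    simp only [Set.mem_ofPred_eq] at *
    rw [rho_mul_apply, hc, ha]
  one_mem' := by simp
  inv_mem' := by
    intro a ha
    simp only [Set.mem_ofPred_eq] at *
    have h := rho_inv_apply (ρ := ρ) a p
    rw [ha] at h
    exact h

theorem mem_fixer {p : E} {g : S} : g ∈ fixer ρ p ↔ ρ g p = p := Iff.rfl

/-- if a power `m ^ n` with `n` prime to the order of `m` fixes `p`, so does `m` -/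
theorem fix_of_pow_fix {m : S} {n : ℕ} (hn : n.Coprime (orderOf m)) {p : E}
    (h : ρ (m ^ n) p = p) : ρ m p = p := by
  obtain ⟨j, hj⟩ := exists_pow_eq_self_of_coprime hn
  have h1 : (m ^ n) ^ j ∈ fixer ρ p := Subgroup.pow_mem _ (mem_fixer.2 h) j
  rw [hj] at h1
  exact h1

theorem rho_pow_apply (m : S) (n : ℕ) (p : E) : ρ (m ^ n) p = (⇑(ρ m))^[n] p := by
  rw [map_pow, Module.End.pow_apply]

theorem mem_RB_of_mem {g : S} (hg : g ∈ R) : g ∈ RB R b :=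
  (le_sup_left : R ≤ R ⊔ Subgroup.zpowers b) hg

theorem b_mem_RB : b ∈ RB R b :=
  (le_sup_right : Subgroup.zpowers b ≤ R ⊔ Subgroup.zpowers b) (Subgroup.mem_zpowers b)

/-- rotation of the data -/
theorem rot (h : QData ρ R b W x₁ x₂ x₃ e₁ e₂ e₃) : QData ρ R b W x₂ x₃ x₁ e₂ e₃ e₁ := by
  have h23 : x₂ * x₃ = x₁ := by
    rw [← h.x₁x₂, ← mul_assoc, h.x₂x₁, ← h.x₁x₂, mul_assoc, h.x₂sq, mul_one]
  have h32 : x₃ * x₂ = x₁ := by
    rw [← h.x₁x₂, mul_assoc, h.x₂sq, mul_one]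
  have he₂ : e₂ ≠ 0 := by
    intro h0
    apply h.e₁ne
    rw [← h.be₃, ← h.be₂, h0, map_zero, map_zero]
  refine
    { x₁R := h.x₂R, x₂R := h.x₃R, x₃R := h.x₁R, x₁sq := h.x₂sq, x₂sq := h.x₃sq, x₃sq := h.x₁sq,
      x₁x₂ := h23, x₂x₁ := h32, bx₁ := h.bx₂, bx₂ := h.bx₃, bx₃ := h.bx₁,
      e₁W := h.e₂W, e₂W := h.e₃W, e₃W := h.e₁W, e₁ne := he₂,
      be₁ := h.be₂, be₂ := h.be₃, be₃ := h.be₁,
      x₁e₁ := h.x₂e₂, x₁e₂ := h.x₂e₃, x₁e₃ := h.x₂e₁,
      x₂e₁ := h.x₃e₂, x₂e₂ := h.x₃e₃, x₂e₃ := h.x₃e₁,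
      x₃e₁ := h.x₁e₂, x₃e₂ := h.x₁e₃, x₃e₃ := h.x₁e₁,
      decomp := ?_ }
  intro w hw
  obtain ⟨w₀, hw₀, c₁, c₂, c₃, hdec, f1, f2, f3, fb⟩ := h.decomp w hw
  refine ⟨w₀, hw₀, c₂, c₃, c₁, ?_, f2, f3, f1, fb⟩
  rw [hdec]
  abel

theorem e₂ne (h : QData ρ R b W x₁ x₂ x₃ e₁ e₂ e₃) : e₂ ≠ 0 := (rot h).e₁ne

theorem e₃ne (h : QData ρ R b W x₁ x₂ x₃ e₁ e₂ e₃) : e₃ ≠ 0 := (rot (rot h)).e₁ne

/-- a vector of `W` with `x₁ w = -w` lies in `span{e₂, e₃}` -/
theorem neg_eigen (h : QData ρ R b W x₁ x₂ x₃ e₁ e₂ e₃) {w : E} (hw : w ∈ W)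
    (hx : ρ x₁ w = -w) : ∃ c₂ c₃ : ZMod 3, w = c₂ • e₂ + c₃ • e₃ := by
  obtain ⟨w₀, _, c₁, c₂, c₃, hdec, f1, _, _, _⟩ := h.decomp w hw
  refine ⟨c₂, c₃, ?_⟩
  have h1 : ρ x₁ w = w₀ + c₁ • e₁ - c₂ • e₂ - c₃ • e₃ := by
    rw [hdec, map_add, map_add, map_add, map_smul, map_smul, map_smul, f1, h.x₁e₁, h.x₁e₂,
      h.x₁e₃, smul_neg, smul_neg]
    abel
  have h2 : (w₀ + c₁ • e₁) + (w₀ + c₁ • e₁) = 0 := by
    have h3 : ρ x₁ w + w = 0 := by rw [hx, neg_add_cancel]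
    rw [h1] at h3
    rw [hdec] at h3
    rw [← h3]
    abel
  have h4 := eq_zero_of_add_self h2
  rw [hdec, h4, zero_add]

/-- a vector of `W` with `x₁ w = w` is `w₀ + c • e₁` with `w₀` fixed by `Q` and `b` -/
theorem pos_eigen (h : QData ρ R b W x₁ x₂ x₃ e₁ e₂ e₃) {w : E} (hw : w ∈ W)
    (hx : ρ x₁ w = w) : ∃ w₀ ∈ W, ∃ c : ZMod 3, w = w₀ + c • e₁ ∧ ρ x₁ w₀ = w₀ ∧ ρ x₂ w₀ = w₀ ∧
      ρ x₃ w₀ = w₀ := by
  obtain ⟨w₀, hw₀, c₁, c₂, c₃, hdec, f1, f2, f3, _⟩ := h.decomp w hw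
  refine ⟨w₀, hw₀, c₁, ?_, f1, f2, f3⟩
  have h1 : ρ x₁ w = w₀ + c₁ • e₁ - c₂ • e₂ - c₃ • e₃ := by
    rw [hdec, map_add, map_add, map_add, map_smul, map_smul, map_smul, f1, h.x₁e₁, h.x₁e₂,
      h.x₁e₃, smul_neg, smul_neg]
    abel
  have h2 : (c₂ • e₂ + c₃ • e₃) + (c₂ • e₂ + c₃ • e₃) = 0 := by
    have h3 : w - ρ x₁ w = 0 := by rw [hx, sub_self]
    rw [h1] at h3
    rw [hdec] at h3
    rw [← h3]
    abel
  have h4 := eq_zero_of_add_self h2
  rw [hdec, add_assoc (w₀ + c₁ • e₁), h4, add_zero]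

/-- a vector of `W` with `x₁ w = w`, `x₂ w = -w` is a multiple of `e₁` -/
theorem weight_e₁ (h : QData ρ R b W x₁ x₂ x₃ e₁ e₂ e₃) {w : E} (hw : w ∈ W)
    (hx1 : ρ x₁ w = w) (hx2 : ρ x₂ w = -w) : ∃ c : ZMod 3, w = c • e₁ := by
  obtain ⟨w₀, _, c, hdec, _, f2, _⟩ := pos_eigen h hw hx1
  refine ⟨c, ?_⟩
  have h1 : ρ x₂ w = w₀ - c • e₁ := by
    rw [hdec, map_add, map_smul, f2, h.x₂e₁, smul_neg, sub_eq_add_neg]
  have h2 : w₀ + w₀ = 0 := by
    have h3 : ρ x₂ w + w = 0 := by rw [hx2, neg_add_cancel]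
    rw [h1] at h3
    rw [hdec] at h3
    rw [← h3]
    abel
  rw [hdec, eq_zero_of_add_self h2, zero_add]

/-- a vector of `W` fixed by `x₁` and `x₂` has no `e`-components -/
theorem weight_zero (h : QData ρ R b W x₁ x₂ x₃ e₁ e₂ e₃) {w : E}
    (hx1 : ρ x₁ w = w) (hx2 : ρ x₂ w = w) : ρ x₃ w = w := by
  rw [← h.x₁x₂, rho_mul_apply, hx2, hx1]

end frame

section key

variable {S E : Type*} [Group S] [AddCommGroup E] [Module (ZMod 3) E]
variable {ρ : Representation (ZMod 3) S E} {R : Subgroup S} {b : S} {W : Submodule (ZMod 3) E}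
variable {x₁ x₂ x₃ : S} {e₁ e₂ e₃ : E}

/-- **(K)**: an element of `R` of odd order centralised by `x₁` and inverted by `x₂` is trivial. -/
theorem key (hL : LinCtx ρ R b W) (hQ : QData ρ R b W x₁ x₂ x₃ e₁ e₂ e₃) {m : S} (hm : m ∈ R)
    (hodd : Odd (orderOf m)) (hc : x₁ * m * x₁⁻¹ = m) (hi : x₂ * m * x₂⁻¹ = m⁻¹) : m = 1 := by
  have hk3 : (orderOf m).Coprime 3 :=
    Nat.Coprime.coprime_dvd_left (Subgroup.orderOf_dvd_natCard R hm) hL.R_coprime
  have hk2 : Nat.Coprime 2 (orderOf m) := Nat.coprime_two_left.2 hodd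
  have hk12 : Nat.Coprime 12 (orderOf m) := by
    have : (12 : ℕ) = 2 * 2 * 3 := by norm_num
    rw [this]
    exact (hk2.mul_left hk2).mul_left hk3.symm
  have hmW : ∀ w ∈ W, ρ m w ∈ W := hL.W_inv m (mem_RB_of_mem hm)
  have hmiW : ∀ w ∈ W, ρ m⁻¹ w ∈ W := hL.W_inv m⁻¹ (mem_RB_of_mem (R.inv_mem hm))
  have hFG : ∀ p, ρ m (ρ m⁻¹ p) = p := rho_apply_inv m
  -- commutation relations
  have c1 : x₁ * m = m * x₁ := by
    have h := congrArg (· * x₁) hc
    simpa [mul_assoc] using h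
  have c1' : x₁ * m⁻¹ = m⁻¹ * x₁ := by
    have h : m⁻¹ * (x₁ * m) * m⁻¹ = m⁻¹ * (m * x₁) * m⁻¹ := by rw [c1]
    simpa [mul_assoc] using h.symm
  have c2 : x₂ * m = m⁻¹ * x₂ := by
    have h := congrArg (· * x₂) hi
    simpa [mul_assoc] using h
  have c2' : x₂ * m⁻¹ = m * x₂ := by
    have h : m * (x₂ * m) * m⁻¹ = m * (m⁻¹ * x₂) * m⁻¹ := by rw [c2]
    simpa [mul_assoc] using h.symm
  have hX1F : ∀ p, ρ x₁ (ρ m p) = ρ m (ρ x₁ p) := fun p => by
    rw [← rho_mul_apply, ← rho_mul_apply, c1]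
  have hX1G : ∀ p, ρ x₁ (ρ m⁻¹ p) = ρ m⁻¹ (ρ x₁ p) := fun p => by
    rw [← rho_mul_apply, ← rho_mul_apply, c1']
  have hX2F : ∀ p, ρ x₂ (ρ m p) = ρ m⁻¹ (ρ x₂ p) := fun p => by
    rw [← rho_mul_apply, ← rho_mul_apply, c2]
  have hX2G : ∀ p, ρ x₂ (ρ m⁻¹ p) = ρ m (ρ x₂ p) := fun p => by
    rw [← rho_mul_apply, ← rho_mul_apply, c2']
  have hX2X2 : ∀ p, ρ x₂ (ρ x₂ p) = p := fun p => by
    rw [← rho_mul_apply, hQ.x₂sq, map_one, Module.End.one_apply]
  have hconj2 : ∀ p, ρ x₂ (ρ m (ρ x₂ p)) = ρ m⁻¹ p := fun p => by rw [hX2F, hX2X2]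
  -- (i) `e₂, e₃`
  obtain ⟨α, β, hα⟩ := neg_eigen hQ (hmW _ hQ.e₂W) (by rw [hX1F, hQ.x₁e₂, map_neg])
  obtain ⟨γ, δ, hγ⟩ := neg_eigen hQ (hmW _ hQ.e₃W) (by rw [hX1F, hQ.x₁e₃, map_neg])
  have h12 := two_dim (ρ m) (ρ m⁻¹) (ρ x₂) (e₂ne hQ) (e₃ne hQ) hFG hQ.x₂e₂ hQ.x₂e₃ hconj2 hα hγ
  have hme₂ : ρ m e₂ = e₂ := fix_of_pow_fix hk12 (by rw [rho_pow_apply]; exact h12.1)
  have hme₃ : ρ m e₃ = e₃ := fix_of_pow_fix hk12 (by rw [rho_pow_apply]; exact h12.2)
  -- (ii) `e₁`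
  have hme₁ : ρ m e₁ = e₁ := by
    obtain ⟨w₁, hw₁⟩ : ∃ w₁, w₁ = ρ m e₁ - ρ m⁻¹ e₁ := ⟨_, rfl⟩
    have hw₁W : w₁ ∈ W := by
      rw [hw₁]
      exact W.sub_mem (hmW _ hQ.e₁W) (hmiW _ hQ.e₁W)
    have hw₁x1 : ρ x₁ w₁ = w₁ := by rw [hw₁, map_sub, hX1F, hX1G, hQ.x₁e₁]
    have hw₁x2 : ρ x₂ w₁ = w₁ := by
      rw [hw₁, map_sub, hX2F, hX2G, hQ.x₂e₁, map_neg, map_neg]
      abel
    obtain ⟨a, ha⟩ := weight_e₁ hQ (W.add_mem (hmW _ hQ.e₁W) (hmiW _ hQ.e₁W))
      (by rw [map_add, hX1F, hX1G, hQ.x₁e₁])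
      (by rw [map_add, hX2F, hX2G, hQ.x₂e₁, map_neg, map_neg]; abel)
    by_cases h0 : w₁ = 0
    · have h1 : ρ m e₁ = ρ m⁻¹ e₁ := by
        rw [hw₁] at h0
        exact sub_eq_zero.1 h0
      have h2 : ρ (m ^ 2) e₁ = e₁ := by rw [pow_two, rho_mul_apply, h1, hFG]
      exact fix_of_pow_fix hk2 h2
    · have hFe₁ : ρ m e₁ = (-1 : ZMod 3) • w₁ + (-a) • e₁ := by
        have h1 : ρ m e₁ + ρ m e₁ = a • e₁ + w₁ := by
          rw [← ha, hw₁]
          abel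
        rw [add_self_eq_neg] at h1
        rw [neg_smul, neg_smul, one_smul, ← neg_add, add_comm w₁, ← h1, neg_neg]
      have htw : ρ m w₁ + ρ m⁻¹ w₁ = a • w₁ := by
        have h1 : a • w₁ = ρ m (a • e₁) - ρ m⁻¹ (a • e₁) := by
          rw [map_smul, map_smul, ← smul_sub, ← hw₁]
        rw [h1, ← ha, hw₁, map_add, map_add, map_sub, map_sub, hFG, rho_inv_apply]
        abel
      obtain ⟨c, hcc⟩ := weight_e₁ hQ (W.sub_mem (hmW _ hw₁W) (hmiW _ hw₁W))
        (by rw [map_sub, hX1F, hX1G, hw₁x1])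
        (by rw [map_sub, hX2F, hX2G, hw₁x2]; abel)
      have hFw₁ : ρ m w₁ = (-a) • w₁ + (-c) • e₁ := by
        have h1 : ρ m w₁ + ρ m w₁ = a • w₁ + c • e₁ := by
          rw [← htw, ← hcc]
          abel
        rw [add_self_eq_neg] at h1
        rw [neg_smul, neg_smul, ← neg_add, ← h1, neg_neg]
      have h12' := two_dim (ρ m) (ρ m⁻¹) (ρ x₂) h0 hQ.e₁ne hFG hw₁x2 hQ.x₂e₁ hconj2 hFw₁ hFe₁
      exact fix_of_pow_fix hk12 (by rw [rho_pow_apply]; exact h12'.2)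
  -- (iii) the `Q`-fixed part
  have hfix0 : ∀ w₀ ∈ W, ρ x₁ w₀ = w₀ → ρ x₂ w₀ = w₀ → ρ m w₀ = w₀ := by
    intro w₀ hw₀ f1 f2
    obtain ⟨w₀', _, lam, hdec, _, g2, _⟩ := pos_eigen hQ (hmW _ hw₀) (by rw [hX1F, f1])
    have hG : ρ m⁻¹ w₀ = w₀' - lam • e₁ := by
      rw [← hconj2, f2, hdec, map_add, map_smul, g2, hQ.x₂e₁, smul_neg, sub_eq_add_neg]
    have hF' : ρ m w₀' = w₀ + lam • e₁ := by
      have h1 := hFG w₀
      rw [hG, map_sub, map_smul, hme₁] at h1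
      rw [← h1]
      abel
    have hd : ρ m (w₀ - w₀') = -(w₀ - w₀') := by
      rw [map_sub, hdec, hF']
      abel
    have hdk : ∀ n : ℕ, (⇑(ρ m))^[n] (w₀ - w₀') = ((-1 : ZMod 3) ^ n) • (w₀ - w₀') := by
      intro n
      induction n with
      | zero => simp
      | succ n ih =>
        rw [Function.iterate_succ_apply', ih, map_smul, hd, pow_succ, smul_neg, mul_neg_one,
          neg_smul]
    have hd0 : w₀ - w₀' = 0 := by
      have h1 := hdk (orderOf m)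
      rw [← rho_pow_apply, pow_orderOf_eq_one, map_one, Module.End.one_apply, hodd.neg_one_pow,
        neg_one_smul] at h1
      exact eq_zero_of_eq_neg h1
    have hw' : w₀' = w₀ := (sub_eq_zero.1 hd0).symm
    rw [hw'] at hdec
    have hiter : ∀ n : ℕ, (⇑(ρ m))^[n] w₀ = w₀ + ((n : ZMod 3) * lam) • e₁ := by
      intro n
      induction n with
      | zero => simp
      | succ n ih =>
        rw [Function.iterate_succ_apply', ih, map_add, map_smul, hdec, hme₁, Nat.cast_succ,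
          add_mul, one_mul, add_smul]
        abel
    have h1 := hiter (orderOf m)
    rw [← rho_pow_apply, pow_orderOf_eq_one, map_one, Module.End.one_apply] at h1
    have h2 : ((orderOf m : ZMod 3) * lam) • e₁ = 0 := by
      have h3 : w₀ + ((orderOf m : ZMod 3) * lam) • e₁ = w₀ + 0 := by rw [add_zero]; exact h1.symm
      exact add_left_cancel h3
    have h3 := smul_eq_zero_zmod hQ.e₁ne h2
    have hk0 : (orderOf m : ZMod 3) ≠ 0 := by
      intro h4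
      rw [ZMod.natCast_eq_zero_iff] at h4
      have h5 : (3 : ℕ) ∣ 1 := by
        have := Nat.dvd_gcd h4 (dvd_refl 3)
        rwa [hk3] at this
      omega
    have hlam : lam = 0 := (mul_eq_zero.1 h3).resolve_left hk0
    rw [hdec, hlam, zero_smul, add_zero]
  -- (iv) conclusion
  apply hL.faithful m (mem_RB_of_mem hm)
  intro w hw
  obtain ⟨w₀, hw₀, c₁, c₂, c₃, hdec, f1, f2, _, _⟩ := hQ.decomp w hw
  rw [hdec, map_add, map_add, map_add, map_smul, map_smul, map_smul, hfix0 w₀ hw₀ f1 f2, hme₁,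
    hme₂, hme₃]

end key

section abelian

variable {S E : Type*} [Group S] [AddCommGroup E] [Module (ZMod 3) E]
variable {ρ : Representation (ZMod 3) S E} {R : Subgroup S} {b : S} {W : Submodule (ZMod 3) E}
variable {x₁ x₂ x₃ : S} {e₁ e₂ e₃ : E}

theorem conj_mul' (x m n : S) : x * (m * n) * x⁻¹ = (x * m * x⁻¹) * (x * n * x⁻¹) := by group

theorem conj_inv' (x m : S) : x * m⁻¹ * x⁻¹ = (x * m * x⁻¹)⁻¹ := by group

theorem conj_conj' (x y m : S) : x * (y * m * y⁻¹) * x⁻¹ = (x * y) * m * (x * y)⁻¹ := by group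

theorem conj_one_left (m : S) : (1 : S) * m * (1 : S)⁻¹ = m := by group

/-- (d1) an element of an abelian odd `R<b>`-normal `M ≤ R` inverted by `x₁` is trivial -/
theorem inv_triv (hL : LinCtx ρ R b W) (hQ : QData ρ R b W x₁ x₂ x₃ e₁ e₂ e₃)
    (M : Subgroup S) (hMR : M ≤ R) (hMn : NormBy (RB R b) M)
    (hoddel : ∀ m ∈ M, Odd (orderOf m)) (hab : ∀ a ∈ M, ∀ c ∈ M, a * c = c * a)
    {a : S} (ha : a ∈ M) (hinv : x₁ * a * x₁⁻¹ = a⁻¹) : a = 1 := by
  obtain ⟨q, hq⟩ : ∃ q, q = x₂ * a * x₂⁻¹ := ⟨_, rfl⟩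
  have hqM : q ∈ M := by
    rw [hq]
    exact hMn x₂ (mem_RB_of_mem hQ.x₂R) a ha
  have hqiM : q⁻¹ ∈ M := M.inv_mem hqM
  have haiM : a⁻¹ ∈ M := M.inv_mem ha
  -- the action of `x₁, x₂, x₃` on `a` and `q`
  have c2a : x₂ * a * x₂⁻¹ = q := hq.symm
  have c3a : x₃ * a * x₃⁻¹ = q⁻¹ := by
    rw [← hQ.x₂x₁, ← conj_conj', hinv, conj_inv', c2a]
  have c1q : x₁ * q * x₁⁻¹ = q⁻¹ := by
    rw [hq, conj_conj', hQ.x₁x₂, c3a, ← hq]
  have c2q : x₂ * q * x₂⁻¹ = a := by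
    rw [hq, conj_conj', hQ.x₂sq, conj_one_left]
  have c3q : x₃ * q * x₃⁻¹ = a⁻¹ := by
    rw [← hQ.x₁x₂, ← conj_conj', c2q, hinv]
  -- `a * q`
  have hp : a * q = 1 := by
    apply key hL (rot hQ) (hMR (M.mul_mem ha hqM)) (hoddel _ (M.mul_mem ha hqM))
    · rw [conj_mul', c2a, c2q]
      exact hab q hqM a ha
    · rw [conj_mul', c3a, c3q, mul_inv_rev]
  -- `a * q⁻¹`
  have hm : a * q⁻¹ = 1 := by
    apply key hL (rot (rot hQ)) (hMR (M.mul_mem ha hqiM)) (hoddel _ (M.mul_mem ha hqiM))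
    · rw [conj_mul', conj_inv', c3a, c3q, inv_inv]
      exact hab q⁻¹ hqiM a ha
    · rw [conj_mul', conj_inv', hinv, c1q, inv_inv, mul_inv_rev, inv_inv]
      exact hab a⁻¹ haiM q hqM
  have haq : a = q := mul_inv_eq_one.1 hm
  rw [← haq] at hp
  have h2 : orderOf a ∣ 2 := orderOf_dvd_of_pow_eq_one (by rw [pow_two]; exact hp)
  have h1 : orderOf a = 1 := by
    have hle : orderOf a ≤ 2 := Nat.le_of_dvd (by norm_num) h2
    have hpos : 0 < orderOf a := Nat.pos_of_dvd_of_pos h2 (by norm_num)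
    obtain ⟨k, hk⟩ := hoddel a ha
    omega
  exact orderOf_eq_one_iff.1 h1

/-- (d2) `x₁` centralises an abelian odd `R<b>`-normal `M ≤ R` -/
theorem cent_x₁ (hL : LinCtx ρ R b W) (hQ : QData ρ R b W x₁ x₂ x₃ e₁ e₂ e₃)
    (M : Subgroup S) (hMR : M ≤ R) (hMn : NormBy (RB R b) M)
    (hoddel : ∀ m ∈ M, Odd (orderOf m)) (hab : ∀ a ∈ M, ∀ c ∈ M, a * c = c * a)
    {m : S} (hm : m ∈ M) : x₁ * m * x₁⁻¹ = m := by
  have hcm : x₁ * m * x₁⁻¹ ∈ M := hMn x₁ (mem_RB_of_mem hQ.x₁R) m hm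
  have ha : m * (x₁ * m * x₁⁻¹)⁻¹ ∈ M := M.mul_mem hm (M.inv_mem hcm)
  have h1 : x₁ * (m * (x₁ * m * x₁⁻¹)⁻¹) * x₁⁻¹ = (m * (x₁ * m * x₁⁻¹)⁻¹)⁻¹ := by
    rw [conj_mul', conj_inv', conj_conj', hQ.x₁sq, conj_one_left, mul_inv_rev, inv_inv]
  have h2 := inv_triv hL hQ M hMR hMn hoddel hab ha h1
  exact (mul_inv_eq_one.1 h2).symm

theorem zmod3_cases (c : ZMod 3) : c = 0 ∨ c = 1 ∨ c = -1 := by
  revert c
  decide

/-- (d3) every element of `M` fixes `e₁` -/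
theorem fix_e₁ (hL : LinCtx ρ R b W) (hQ : QData ρ R b W x₁ x₂ x₃ e₁ e₂ e₃)
    (M : Subgroup S) (hMR : M ≤ R) (hMn : NormBy (RB R b) M)
    (hoddel : ∀ m ∈ M, Odd (orderOf m)) (hab : ∀ a ∈ M, ∀ c ∈ M, a * c = c * a)
    {m : S} (hm : m ∈ M) : ρ m e₁ = e₁ := by
  have c1 := cent_x₁ hL hQ M hMR hMn hoddel hab hm
  have c2 := cent_x₁ hL (rot hQ) M hMR hMn hoddel hab hm
  have c1' : x₁ * m = m * x₁ := by
    have h := congrArg (· * x₁) c1
    simpa [mul_assoc] using h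
  have c2' : x₂ * m = m * x₂ := by
    have h := congrArg (· * x₂) c2
    simpa [mul_assoc] using h
  have hmW : ρ m e₁ ∈ W := hL.W_inv m (mem_RB_of_mem (hMR hm)) e₁ hQ.e₁W
  obtain ⟨c, hc⟩ := weight_e₁ hQ hmW
    (by rw [← rho_mul_apply, c1', rho_mul_apply, hQ.x₁e₁])
    (by rw [← rho_mul_apply, c2', rho_mul_apply, hQ.x₂e₁, map_neg])
  have hiter : ∀ n : ℕ, (⇑(ρ m))^[n] e₁ = (c ^ n) • e₁ := by
    intro n
    induction n with
    | zero => simp
    | succ n ih =>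
      rw [Function.iterate_succ_apply', ih, map_smul, hc, smul_smul, pow_succ]
  have h1 := hiter (orderOf m)
  rw [← rho_pow_apply, pow_orderOf_eq_one, map_one, Module.End.one_apply] at h1
  have hodd := hoddel m hm
  have h2 : (c ^ orderOf m - 1) • e₁ = 0 := by rw [sub_smul, one_smul, ← h1, sub_self]
  have h3 : c ^ orderOf m = 1 := sub_eq_zero.1 (smul_eq_zero_zmod hQ.e₁ne h2)
  have hc1 : c = 1 := by
    rcases zmod3_cases c with h | h | h
    · exfalso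
      rw [h, zero_pow (Nat.pos_of_ne_zero (fun h0 => by rw [h0] at hodd; exact absurd hodd (by decide))).ne'] at h3
      exact absurd h3 (by decide)
    · exact h
    · exfalso
      rw [h, hodd.neg_one_pow] at h3
      exact absurd h3 (by decide)
  rw [hc, hc1, one_smul]

/-- the common fixed points in `W` of a subgroup `M` -/
def fixW (ρ : Representation (ZMod 3) S E) (W : Submodule (ZMod 3) E) (M : Subgroup S) :
    Submodule (ZMod 3) E where
  carrier := {w | w ∈ W ∧ ∀ m ∈ M, ρ m w = w}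
  add_mem' := by
    rintro u v ⟨hu, hu'⟩ ⟨hv, hv'⟩
    exact ⟨W.add_mem hu hv, fun m hm => by rw [map_add, hu' m hm, hv' m hm]⟩
  zero_mem' := ⟨W.zero_mem, fun m _ => map_zero _⟩
  smul_mem' := by
    rintro c u ⟨hu, hu'⟩
    exact ⟨W.smul_mem c hu, fun m hm => by rw [map_smul, hu' m hm]⟩

theorem mem_fixW {M : Subgroup S} {w : E} :
    w ∈ fixW ρ W M ↔ w ∈ W ∧ ∀ m ∈ M, ρ m w = w := Iff.rfl

/-- (d) the abelian case -/
theorem abelian_case (hL : LinCtx ρ R b W) (hQ : QData ρ R b W x₁ x₂ x₃ e₁ e₂ e₃)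
    (M : Subgroup S) (hMR : M ≤ R) (hMn : NormBy (RB R b) M)
    (hoddel : ∀ m ∈ M, Odd (orderOf m)) (hab : ∀ a ∈ M, ∀ c ∈ M, a * c = c * a) : M = ⊥ := by
  have hCW : fixW ρ W M ≤ W := fun w hw => (mem_fixW.1 hw).1
  have hCinv : InvBy ρ (RB R b) (fixW ρ W M) := by
    intro g hg w hw
    rw [mem_fixW] at hw ⊢
    refine ⟨hL.W_inv g hg w hw.1, fun m hm => ?_⟩
    have h1 : g⁻¹ * m * g⁻¹⁻¹ ∈ M := hMn g⁻¹ ((RB R b).inv_mem hg) m hm
    have h2 := hw.2 _ h1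
    have h3 : m * g = g * (g⁻¹ * m * g⁻¹⁻¹) := by group
    rw [← rho_mul_apply, h3, rho_mul_apply, h2]
  rcases hL.irred (fixW ρ W M) hCW hCinv with h | h
  · exfalso
    have h1 : e₁ ∈ fixW ρ W M :=
      mem_fixW.2 ⟨hQ.e₁W, fun m hm => fix_e₁ hL hQ M hMR hMn hoddel hab hm⟩
    rw [h] at h1
    exact hQ.e₁ne ((Submodule.mem_bot _).1 h1)
  · rw [eq_bot_iff]
    intro m hm
    rw [Subgroup.mem_bot]
    apply hL.faithful m (mem_RB_of_mem (hMR hm))
    intro w hw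
    have h1 : w ∈ fixW ρ W M := by rw [h]; exact hw
    exact (mem_fixW.1 h1).2 m hm

end abelian

section main

open scoped commutatorElement

variable {S E : Type*} [Group S] [AddCommGroup E] [Module (ZMod 3) E]
variable {ρ : Representation (ZMod 3) S E} {R : Subgroup S} {b : S} {W : Submodule (ZMod 3) E}
variable {x₁ x₂ x₃ : S} {e₁ e₂ e₃ : E}

/-- a perfect solvable subgroup is trivial -/
theorem bot_of_perfect_solv (M : Subgroup S) [Group.IsSolvable ↥M] (hperf : ⁅M, M⁆ = M) :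
    M = ⊥ := by
  by_contra hne
  have : Nontrivial ↥M := (Subgroup.nontrivial_iff_ne_bot M).2 hne
  have hlt := Group.IsSolvable.commutator_lt_top_of_nontrivial ↥M
  have hc : _root_.commutator ↥M = ⊤ := by
    apply Subgroup.map_injective M.subtype_injective
    rw [Subgroup.map_subtype_commutator, hperf, ← MonoidHom.range_eq_map, Subgroup.range_subtype]
  exact (ne_of_lt hlt) hc

theorem odd_normal_trivial_aux [Finite S] (hL : LinCtx ρ R b W)
    (hQ : QData ρ R b W x₁ x₂ x₃ e₁ e₂ e₃) :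
    ∀ n : ℕ, ∀ M : Subgroup S, Nat.card M = n → M ≤ R → NormBy (RB R b) M →
      Odd (Nat.card M) → M = ⊥ := by
  intro n
  induction n using Nat.strong_induction_on with
  | _ n ih =>
    intro M hcard hMR hMn hodd
    have hoddel : ∀ m ∈ M, Odd (orderOf m) := fun m hm =>
      Odd.of_dvd_nat hodd (Subgroup.orderOf_dvd_natCard M hm)
    have hDM : ⁅M, M⁆ ≤ M := by
      rw [Subgroup.commutator_le]
      intro g₁ h₁ g₂ h₂
      rw [commutatorElement_def]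
      exact M.mul_mem (M.mul_mem (M.mul_mem h₁ h₂) (M.inv_mem h₁)) (M.inv_mem h₂)
    have hDn : NormBy (RB R b) ⁅M, M⁆ := by
      intro g hg d hd
      have hmap : Subgroup.map (MulAut.conj g).toMonoidHom M ≤ M := by
        rintro _ ⟨m, hm, rfl⟩
        exact hMn g hg m hm
      have h1 : Subgroup.map (MulAut.conj g).toMonoidHom ⁅M, M⁆ ≤ ⁅M, M⁆ := by
        rw [Subgroup.map_commutator]
        exact Subgroup.commutator_mono hmap hmap
      exact h1 ⟨d, hd, rfl⟩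
    have hDodd : Odd (Nat.card ↥⁅M, M⁆) := Odd.of_dvd_nat hodd (Subgroup.card_dvd_of_le hDM)
    by_cases hD : ⁅M, M⁆ = M
    · have : Group.IsSolvable ↥R := hL.R_solv
      have : Group.IsSolvable ↥M :=
        Group.isSolvable_of_isSolvable_injective (Subgroup.inclusion_injective hMR)
      exact bot_of_perfect_solv M hD
    · have hlt : Nat.card ↥⁅M, M⁆ < n := by
        rw [← hcard]
        by_contra hge
        exact hD (Subgroup.eq_of_le_of_card_ge hDM (not_lt.1 hge))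
      have hDbot : ⁅M, M⁆ = ⊥ := ih _ hlt ⁅M, M⁆ rfl (hDM.trans hMR) hDn hDodd
      have hab : ∀ a ∈ M, ∀ c ∈ M, a * c = c * a := by
        intro a ha c hc
        have h1 : ⁅a, c⁆ ∈ ⁅M, M⁆ := Subgroup.commutator_mem_commutator ha hc
        rw [hDbot, Subgroup.mem_bot, commutatorElement_eq_one_iff_mul_comm] at h1
        exact h1
      exact abelian_case hL hQ M hMR hMn hoddel hab

/-- **step (4)**: an `R<b>`-normal subgroup of odd order of `R` is trivial -/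
theorem odd_normal_trivial [Finite S] [Finite E] (hL : LinCtx ρ R b W)
    (hQ : QData ρ R b W x₁ x₂ x₃ e₁ e₂ e₃) (M : Subgroup S) (hMR : M ≤ R)
    (hMn : NormBy (RB R b) M) (hodd : Odd (Nat.card M)) : M = ⊥ :=
  odd_normal_trivial_aux hL hQ (Nat.card M) M rfl hMR hMn hodd

end main

end Cfsg.Agent.Lib.H11.S4415O
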