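import Cfsg.Agent.Lib.H11.S4415O
import Cfsg.Agent.Lib.H10.S4415BadDefs

/-!
# S4415, BAD layer: `odd : OddStmt` (helper11) — the exact shape of helper10's sub-cut,
a wrapper around `Cfsg.Agent.Lib.H11.S4415O.odd_normal_trivial`.
-/

set_option autoImplicit false

namespace Cfsg.Agent.Lib.H11.S4415Odd

open Cfsg Cfsg.Agent.Lib.H10.S4415

theorem odd : OddStmt :=
  fun _ _ _ _ _ _ _ _ _ _ hL hQ M hMR hMn hodd =>
    Cfsg.Agent.Lib.H11.S4415O.odd_normal_trivial hL hQ M hMR hMn hodd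

end Cfsg.Agent.Lib.H11.S4415Odd
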