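import Mathlib
import Cfsg.Prelude.Def_Classical
import Cfsg.Prelude.Def_ClassicalGeometry
import Cfsg.Agent.Lib.H4.Symp
import Cfsg.Agent.Lib.H13.StdForm
import Cfsg.Agent.Lib.H2.SpExt
import Cfsg.Agent.Lib.H11.IsoReindex
import Cfsg.Agent.S0246

/-!
# S3589, part 1: in characteristic two the orthogonal group of `quadFormMinus k F a b` embeds in `Sp_{2k+2}(F)`
-/

set_option autoImplicit false

namespace Cfsg.Agent.Lib.H11.S8O

open Matrix

section general

variable {F : Type*} [Field F] {ι : Type} [Fintype ι] [DecidableEq ι]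

/-- a linear isomorphism carrying the polar form of `Q` to the standard alternating form gives an injective
homomorphism `O(Q) → Sp` -/
theorem exists_hom_sp (m : ℕ) (Q : (ι → F) → F) (Ψ : (ι → F) ≃ₗ[F] (Fin m ⊕ Fin m → F))
    (hΨ : ∀ u v, QuadraticMap.polar Q u v = Cfsg.sympForm m F (Ψ u) (Ψ v)) :
    ∃ φ : ↥(Cfsg.isometryGroup F Q) →* ↥(Matrix.symplecticGroup (Fin m) F), Function.Injective φ := by
  classical
  let M : ↥(Cfsg.isometryGroup F Q) →* Matrix (Fin m ⊕ Fin m) (Fin m ⊕ Fin m) F :=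
    { toFun := fun g => LinearMap.toMatrix' ((Ψ : (ι → F) →ₗ[F] (Fin m ⊕ Fin m → F)) ∘ₗ
        Matrix.toLin' ((g : GL ι F) : Matrix ι ι F) ∘ₗ (Ψ.symm : (Fin m ⊕ Fin m → F) →ₗ[F] (ι → F)))
      map_one' := by
        have : (Ψ : (ι → F) →ₗ[F] (Fin m ⊕ Fin m → F)) ∘ₗ
            Matrix.toLin' (((1 : ↥(Cfsg.isometryGroup F Q)) : GL ι F) : Matrix ι ι F) ∘ₗ
            (Ψ.symm : (Fin m ⊕ Fin m → F) →ₗ[F] (ι → F)) = LinearMap.id := by
          apply LinearMap.ext
          intro v
          simp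
        rw [this, LinearMap.toMatrix'_id]
      map_mul' := by
        intro x y
        rw [← LinearMap.toMatrix'_comp]
        congr 1
        apply LinearMap.ext
        intro v
        simp [Matrix.toLin'_mul] }
  have hM : ∀ g v, (M g) *ᵥ (Ψ v) = Ψ (((g : GL ι F) : Matrix ι ι F) *ᵥ v) := by
    intro g v
    show (LinearMap.toMatrix' ((Ψ : (ι → F) →ₗ[F] (Fin m ⊕ Fin m → F)) ∘ₗ
        Matrix.toLin' ((g : GL ι F) : Matrix ι ι F) ∘ₗ
        (Ψ.symm : (Fin m ⊕ Fin m → F) →ₗ[F] (ι → F)))) *ᵥ (Ψ v) = _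
    rw [LinearMap.toMatrix'_mulVec]
    simp
  have hmem : ∀ g, M g ∈ Matrix.symplecticGroup (Fin m) F := by
    intro g
    rw [Cfsg.Agent.Lib.H4.mem_symplecticGroup_iff_sympForm]
    intro u v
    obtain ⟨u', rfl⟩ := Ψ.surjective u
    obtain ⟨v', rfl⟩ := Ψ.surjective v
    rw [hM, hM, ← hΨ, ← hΨ]
    have hg := (Cfsg.Agent.Lib.H11.IsoReindex.mem_iso_iff' Q (g : GL ι F)).mp g.2
    unfold QuadraticMap.polar
    rw [← Matrix.mulVec_add, hg, hg, hg]
  refine ⟨M.codRestrict (Matrix.symplecticGroup (Fin m) F) hmem, ?_⟩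
  intro g g' h
  have h1 : M g = M g' := congrArg Subtype.val h
  apply Subtype.ext
  apply Units.ext
  apply Matrix.toLin'.injective
  apply LinearMap.ext
  intro v
  rw [Matrix.toLin'_apply, Matrix.toLin'_apply]
  apply Ψ.injective
  rw [← hM, ← hM, h1]

end general

section psi

variable {F : Type*} [Field F]

/-- coordinates adapted to the polar form of `quadFormMinus k F a b` -/
def psiFun (k : ℕ) (a : F) (v : (Fin k ⊕ Fin k) ⊕ Fin 2 → F) : Fin (k + 1) ⊕ Fin (k + 1) → F :=
  Sum.elim (Fin.lastCases (v (.inr 0)) (fun j => v (.inl (.inl j))))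
    (Fin.lastCases (a * v (.inr 1)) (fun j => v (.inl (.inr j))))

/-- the inverse change of coordinates -/
def psiInv (k : ℕ) (a : F) (w : Fin (k + 1) ⊕ Fin (k + 1) → F) : (Fin k ⊕ Fin k) ⊕ Fin 2 → F :=
  Sum.elim (Sum.elim (fun j => w (.inl j.castSucc)) (fun j => w (.inr j.castSucc)))
    ![w (.inl (Fin.last k)), a⁻¹ * w (.inr (Fin.last k))]

theorem psiFun_inl_castSucc (k : ℕ) (a : F) (v : (Fin k ⊕ Fin k) ⊕ Fin 2 → F) (j : Fin k) :
    psiFun k a v (.inl j.castSucc) = v (.inl (.inl j)) := by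
  simp [psiFun]

theorem psiFun_inr_castSucc (k : ℕ) (a : F) (v : (Fin k ⊕ Fin k) ⊕ Fin 2 → F) (j : Fin k) :
    psiFun k a v (.inr j.castSucc) = v (.inl (.inr j)) := by
  simp [psiFun]

theorem psiFun_inl_last (k : ℕ) (a : F) (v : (Fin k ⊕ Fin k) ⊕ Fin 2 → F) :
    psiFun k a v (.inl (Fin.last k)) = v (.inr 0) := by
  simp [psiFun]

theorem psiFun_inr_last (k : ℕ) (a : F) (v : (Fin k ⊕ Fin k) ⊕ Fin 2 → F) :
    psiFun k a v (.inr (Fin.last k)) = a * v (.inr 1) := by
  simp [psiFun]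

/-- the change of coordinates as a linear equivalence -/
def psi (k : ℕ) (a : F) (ha : a ≠ 0) :
    ((Fin k ⊕ Fin k) ⊕ Fin 2 → F) ≃ₗ[F] (Fin (k + 1) ⊕ Fin (k + 1) → F) where
  toFun := psiFun k a
  invFun := psiInv k a
  map_add' u v := by
    funext i
    rcases i with i | i
    · refine Fin.lastCases ?_ (fun j => ?_) i
      · simp [psiFun]
      · simp [psiFun]
    · refine Fin.lastCases ?_ (fun j => ?_) i
      · simp [psiFun, mul_add]
      · simp [psiFun]
  map_smul' c v := by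
    funext i
    rcases i with i | i
    · refine Fin.lastCases ?_ (fun j => ?_) i
      · simp [psiFun]
      · simp [psiFun]
    · refine Fin.lastCases ?_ (fun j => ?_) i
      · simp [psiFun, mul_left_comm]
      · simp [psiFun]
  left_inv v := by
    funext i
    rcases i with (i | i) | i
    · simp [psiInv, psiFun]
    · simp [psiInv, psiFun]
    · fin_cases i
      · simp [psiInv, psiFun]
      · simp [psiInv, psiFun, ha]
  right_inv w := by
    funext i
    rcases i with i | i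
    · refine Fin.lastCases ?_ (fun j => ?_) i
      · simp [psiInv, psiFun]
      · simp [psiInv, psiFun]
    · refine Fin.lastCases ?_ (fun j => ?_) i
      · simp [psiInv, psiFun, ha]
      · simp [psiInv, psiFun]

theorem psi_apply (k : ℕ) (a : F) (ha : a ≠ 0) (v : (Fin k ⊕ Fin k) ⊕ Fin 2 → F) :
    psi k a ha v = psiFun k a v := rfl

theorem polar_eq_symp [CharP F 2] (k : ℕ) (a b : F) (ha : a ≠ 0)
    (u v : (Fin k ⊕ Fin k) ⊕ Fin 2 → F) :
    QuadraticMap.polar (Cfsg.quadFormMinus k F a b) u v =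
      Cfsg.sympForm (k + 1) F (psi k a ha u) (psi k a ha v) := by
  have h2 : (2 : F) = 0 := CharTwo.two_eq_zero
  rw [Cfsg.Agent.Lib.H13.polar_quadFormMinus_formula, Cfsg.Agent.Lib.H2.Sp.sympForm_eq,
    Fin.sum_univ_castSucc, psi_apply, psi_apply]
  simp only [psiFun_inl_castSucc, psiFun_inr_castSucc, psiFun_inl_last, psiFun_inr_last]
  have e : ∀ i : Fin k, u (.inl (.inr i)) * v (.inl (.inl i)) - u (.inl (.inl i)) * v (.inl (.inr i)) =
      (u (.inl (.inl i)) * v (.inl (.inr i)) + v (.inl (.inl i)) * u (.inl (.inr i))) -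
        2 * (u (.inl (.inl i)) * v (.inl (.inr i))) := by
    intro i; ring
  rw [Finset.sum_congr rfl (fun i _ => e i), Finset.sum_sub_distrib, ← Finset.mul_sum]
  linear_combination (u (.inr 0) * v (.inr 0) + b * u (.inr 1) * v (.inr 1) +
    a * u (.inr 0) * v (.inr 1) +
    ∑ i : Fin k, u (.inl (.inl i)) * v (.inl (.inr i))) * h2

end psi

section main

variable {F : Type*} [Field F] [Fintype F] [CharP F 2]

/-- every element order of `O(quadFormMinus k F a b)` (char 2, `a ≠ 0`) is an element order of `PSp_{2k+2}(F)` -/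
theorem exists_psp_orderOf (k : ℕ) (a b : F) (ha : a ≠ 0)
    (h : ↥(Cfsg.isometryGroup F (Cfsg.quadFormMinus k F a b))) :
    ∃ g : Cfsg.PSp (k + 1) F, orderOf g = orderOf h := by
  obtain ⟨φ, hφ⟩ := exists_hom_sp (k + 1) (Cfsg.quadFormMinus k F a b) (psi k a ha)
    (polar_eq_symp k a b ha)
  have hcard : Nat.card (Subgroup.center (Matrix.symplecticGroup (Fin (k + 1)) F)) = 1 := by
    rw [Cfsg.Agent.S0246.result (F := F) rfl (k + 1) (by omega)]
    obtain ⟨n, -, hn⟩ := FiniteField.card F 2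
    have h2 : 2 ∣ Fintype.card F := by
      rw [hn]; exact dvd_pow_self 2 n.ne_zero
    have hpos : 0 < Fintype.card F := Fintype.card_pos
    have : Nat.Coprime 2 (Fintype.card F - 1) := by
      rw [Nat.coprime_two_left]
      obtain ⟨t, ht⟩ := h2
      rw [ht]
      exact ⟨t - 1, by omega⟩
    exact this
  have hbot : Subgroup.center (Matrix.symplecticGroup (Fin (k + 1)) F) = ⊥ :=
    Subgroup.eq_bot_of_card_eq _ hcard
  have hinj : Function.Injective
      (QuotientGroup.mk' (Subgroup.center (Matrix.symplecticGroup (Fin (k + 1)) F))) := by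
    rw [← MonoidHom.ker_eq_bot_iff, QuotientGroup.ker_mk', hbot]
  refine ⟨QuotientGroup.mk' _ (φ h), ?_⟩
  rw [orderOf_injective _ hinj, orderOf_injective φ hφ]

end main

end Cfsg.Agent.Lib.H11.S8O
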