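import Mathlib
import Cfsg.Agent.Lib.H11.EOB1

/-!
# S3589, part 2: arithmetic of the upper bound for element orders of `Sp_8(q)`, `q` even
-/

set_option autoImplicit false

namespace Cfsg.Agent.Lib.H11.S8O

open Cfsg.Agent.Lib.H11.EOB

theorem bL_dvd_of_forall {q n : ℕ} {l : List (Bool × ℕ)} (h : ∀ x ∈ l, bn q x ∣ n) : bL q l ∣ n := by
  induction l with
  | nil => simp
  | cons y l ih =>
    rw [bL_cons]
    exact Nat.lcm_dvd (h y (List.mem_cons_self ..)) (ih fun x hx => h x (List.mem_cons_of_mem _ hx))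

theorem le_bw {l : List (Bool × ℕ)} {x : Bool × ℕ} (hx : x ∈ l) : x.2 ≤ bw l := by
  induction l with
  | nil => simp at hx
  | cons a l ih =>
    rw [bw_cons]
    rcases List.mem_cons.mp hx with rfl | h
    · omega
    · have := ih h
      omega

theorem add_le_bw {l : List (Bool × ℕ)} {x y : Bool × ℕ} (hx : x ∈ l) (hy : y ∈ l) (hne : x ≠ y) :
    x.2 + y.2 ≤ bw l := by
  induction l with
  | nil => simp at hx
  | cons a l ih =>
    rw [bw_cons]
    by_cases hxa : x = a
    · have hy' : y ∈ l := by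
        rcases List.mem_cons.mp hy with h | h
        · exact absurd (hxa.trans h.symm) hne
        · exact h
      have := le_bw hy'
      rw [← hxa]
      omega
    · have hx' : x ∈ l := by
        rcases List.mem_cons.mp hx with h | h
        · exact absurd h hxa
        · exact h
      by_cases hya : y = a
      · have := le_bw hx'
        rw [← hya]
        omega
      · have hy' : y ∈ l := by
          rcases List.mem_cons.mp hy with h | h
          · exact absurd h hya
          · exact h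
        have := ih hx' hy'
        omega

theorem add_add_le_bw {l : List (Bool × ℕ)} {x y z : Bool × ℕ} (hx : x ∈ l) (hy : y ∈ l) (hz : z ∈ l)
    (hxy : x ≠ y) (hxz : x ≠ z) (hyz : y ≠ z) : x.2 + y.2 + z.2 ≤ bw l := by
  induction l with
  | nil => simp at hx
  | cons a l ih =>
    rw [bw_cons]
    have mem_of_ne : ∀ w : Bool × ℕ, w ∈ a :: l → w ≠ a → w ∈ l := by
      intro w hw hwa
      rcases List.mem_cons.mp hw with h | h
      · exact absurd h hwa
      · exact h
    by_cases hxa : x = a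
    · have hy' : y ∈ l := mem_of_ne y hy (fun h => hxy (hxa.trans h.symm))
      have hz' : z ∈ l := mem_of_ne z hz (fun h => hxz (hxa.trans h.symm))
      have := add_le_bw hy' hz' hyz
      rw [← hxa]
      omega
    · have hx' := mem_of_ne x hx hxa
      by_cases hya : y = a
      · have hz' : z ∈ l := mem_of_ne z hz (fun h => hyz (hya.trans h.symm))
        have := add_le_bw hx' hz' hxz
        rw [← hya]
        omega
      · have hy' := mem_of_ne y hy hya
        by_cases hza : z = a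
        · have := add_le_bw hx' hy' hxy
          rw [← hza]
          omega
        · have hz' := mem_of_ne z hz hza
          have := ih hx' hy' hz'
          omega

theorem eq_nil_of_bw {l : List (Bool × ℕ)} (hl : ∀ x ∈ l, 1 ≤ x.2) (h : bw l = 0) : l = [] := by
  cases l with
  | nil => rfl
  | cons a l =>
    exfalso
    have := hl a (List.mem_cons_self ..)
    rw [bw_cons] at h
    omega

/-! ### divisibility facts -/

theorem d_add_cube (q : ℕ) : q + 1 ∣ q ^ 3 + 1 := ⟨q ^ 2 - q + 1, by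
  have : q ≤ q ^ 2 := by nlinarith
  zify [this]; ring⟩

theorem d_sub_cube (q : ℕ) : q - 1 ∣ q ^ 3 - 1 := by
  simpa using Nat.sub_dvd_pow_sub_pow q 1 3

theorem d_sub_sq (q : ℕ) : q - 1 ∣ q ^ 2 - 1 := by
  simpa using Nat.sub_dvd_pow_sub_pow q 1 2

theorem d_add_sq (q : ℕ) (hq : 1 ≤ q) : q + 1 ∣ q ^ 2 - 1 := ⟨q - 1, by
  have : 1 ≤ q ^ 2 := Nat.one_le_pow _ _ hq
  zify [this, hq]; ring⟩

theorem d_sq_four (q : ℕ) (hq : 1 ≤ q) : q ^ 2 - 1 ∣ q ^ 4 - 1 := ⟨q ^ 2 + 1, by
  have h1 : 1 ≤ q ^ 2 := Nat.one_le_pow _ _ hq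
  have h2 : 1 ≤ q ^ 4 := Nat.one_le_pow _ _ hq
  zify [h1, h2]; ring⟩

theorem d_sq_four' (q : ℕ) (hq : 1 ≤ q) : q ^ 2 + 1 ∣ q ^ 4 - 1 := ⟨q ^ 2 - 1, by
  have h1 : 1 ≤ q ^ 2 := Nat.one_le_pow _ _ hq
  have h2 : 1 ≤ q ^ 4 := Nat.one_le_pow _ _ hq
  zify [h1, h2]; ring⟩

/-! ### the four weight classes -/

theorem t3 (q : ℕ) (l : List (Bool × ℕ)) (hl : ∀ x ∈ l, 1 ≤ x.2) (hw : bw l ≤ 1) :
    bL q l ∣ q - 1 ∨ bL q l ∣ q + 1 := by
  by_cases h : ((true, 1) : Bool × ℕ) ∈ l
  · left
    apply bL_dvd_of_forall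
    intro x hx
    by_cases hx1 : x = (true, 1)
    · rw [hx1]; simp [bn]
    · have := add_le_bw hx h hx1
      have := hl x hx
      simp only at *
      omega
  · right
    apply bL_dvd_of_forall
    rintro ⟨s, c⟩ hx
    have h1 := hl _ hx
    have h2 := le_bw hx
    simp only at h1 h2
    have hc : c = 1 := by omega
    subst hc
    cases s
    · simp [bn]
    · exact absurd hx h

theorem t2 (q : ℕ) (hq : 1 ≤ q) (l : List (Bool × ℕ)) (hl : ∀ x ∈ l, 1 ≤ x.2) (hw : bw l ≤ 2) :
    bL q l ∣ q ^ 2 + 1 ∨ bL q l ∣ q ^ 2 - 1 := by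
  by_cases h : ((false, 2) : Bool × ℕ) ∈ l
  · left
    apply bL_dvd_of_forall
    intro x hx
    by_cases hx1 : x = (false, 2)
    · rw [hx1]; simp [bn]
    · have := add_le_bw hx h hx1
      have := hl x hx
      simp only at *
      omega
  · right
    apply bL_dvd_of_forall
    rintro ⟨s, c⟩ hx
    have h1 := hl _ hx
    have h2 := le_bw hx
    simp only at h1 h2
    have hc : c = 1 ∨ c = 2 := by omega
    rcases hc with rfl | rfl
    · cases s
      · simpa [bn] using d_add_sq q hq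
      · simpa [bn] using d_sub_sq q
    · cases s
      · exact absurd hx h
      · simp [bn]

theorem t1 (q : ℕ) (hq : 1 ≤ q) (l : List (Bool × ℕ)) (hl : ∀ x ∈ l, 1 ≤ x.2) (hw : bw l ≤ 3) :
    bL q l ∣ q ^ 3 + 1 ∨ bL q l ∣ q ^ 3 - 1 ∨ bL q l ∣ (q ^ 2 + 1) * (q - 1) ∨
      bL q l ∣ (q ^ 2 + 1) * (q + 1) ∨ bL q l ∣ q ^ 2 - 1 := by
  by_cases h3 : ((false, 3) : Bool × ℕ) ∈ l
  · left
    apply bL_dvd_of_forall
    intro x hx
    by_cases hx1 : x = (false, 3)
    · rw [hx1]; simp [bn]
    · have := add_le_bw hx h3 hx1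
      have := hl x hx
      simp only at *
      omega
  by_cases h3' : ((true, 3) : Bool × ℕ) ∈ l
  · right; left
    apply bL_dvd_of_forall
    intro x hx
    by_cases hx1 : x = (true, 3)
    · rw [hx1]; simp [bn]
    · have := add_le_bw hx h3' hx1
      have := hl x hx
      simp only at *
      omega
  by_cases h2 : ((false, 2) : Bool × ℕ) ∈ l
  · by_cases h1 : ((true, 1) : Bool × ℕ) ∈ l
    · right; right; left
      apply bL_dvd_of_forall
      rintro ⟨s, c⟩ hx
      by_cases hx2 : ((s, c) : Bool × ℕ) = (false, 2)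
      · rw [hx2]
        simpa [bn] using Dvd.intro _ rfl
      by_cases hx1 : ((s, c) : Bool × ℕ) = (true, 1)
      · rw [hx1]
        simpa [bn] using Dvd.intro_left _ rfl
      exfalso
      have := add_add_le_bw hx h2 h1 hx2 hx1 (by simp)
      have := hl _ hx
      simp only at *
      omega
    · right; right; right; left
      apply bL_dvd_of_forall
      rintro ⟨s, c⟩ hx
      by_cases hx2 : ((s, c) : Bool × ℕ) = (false, 2)
      · rw [hx2]
        simpa [bn] using Dvd.intro _ rfl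
      have h4 := add_le_bw hx h2 hx2
      have h5 := hl _ hx
      simp only at h4 h5
      have hc : c = 1 := by omega
      subst hc
      cases s
      · simpa [bn] using Dvd.intro_left _ rfl
      · exact absurd hx h1
  · right; right; right; right
    apply bL_dvd_of_forall
    rintro ⟨s, c⟩ hx
    have h4 := hl _ hx
    have h5 := le_bw hx
    simp only at h4 h5
    have hc : c = 1 ∨ c = 2 ∨ c = 3 := by omega
    rcases hc with rfl | rfl | rfl
    · cases s
      · simpa [bn] using d_add_sq q hq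
      · simpa [bn] using d_sub_sq q
    · cases s
      · exact absurd hx h2
      · simp [bn]
    · cases s
      · exact absurd hx h3
      · exact absurd hx h3'

theorem t0 (q : ℕ) (hq : 1 ≤ q) (l : List (Bool × ℕ)) (hl : ∀ x ∈ l, 1 ≤ x.2) (hw : bw l ≤ 4) :
    bL q l ∣ q ^ 4 + 1 ∨ bL q l ∣ q ^ 4 - 1 ∨ bL q l ∣ (q ^ 3 + 1) * (q - 1) ∨
      bL q l ∣ (q ^ 3 - 1) * (q + 1) := by
  by_cases h4 : ((false, 4) : Bool × ℕ) ∈ l
  · left
    apply bL_dvd_of_forall
    intro x hx
    by_cases hx1 : x = (false, 4)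
    · rw [hx1]; simp [bn]
    · have := add_le_bw hx h4 hx1
      have := hl x hx
      simp only at *
      omega
  by_cases h3 : ((false, 3) : Bool × ℕ) ∈ l
  · right; right; left
    apply bL_dvd_of_forall
    rintro ⟨s, c⟩ hx
    by_cases hx2 : ((s, c) : Bool × ℕ) = (false, 3)
    · rw [hx2]
      simpa [bn] using Dvd.intro _ rfl
    have h5 := add_le_bw hx h3 hx2
    have h6 := hl _ hx
    simp only at h5 h6
    have hc : c = 1 := by omega
    subst hc
    cases s
    · simpa [bn] using (d_add_cube q).trans (Dvd.intro _ rfl)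
    · simpa [bn] using Dvd.intro_left _ rfl
  by_cases h3' : ((true, 3) : Bool × ℕ) ∈ l
  · right; right; right
    apply bL_dvd_of_forall
    rintro ⟨s, c⟩ hx
    by_cases hx2 : ((s, c) : Bool × ℕ) = (true, 3)
    · rw [hx2]
      simpa [bn] using Dvd.intro _ rfl
    have h5 := add_le_bw hx h3' hx2
    have h6 := hl _ hx
    simp only at h5 h6
    have hc : c = 1 := by omega
    subst hc
    cases s
    · simpa [bn] using Dvd.intro_left _ rfl
    · simpa [bn] using (d_sub_cube q).trans (Dvd.intro _ rfl)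
  · right; left
    apply bL_dvd_of_forall
    rintro ⟨s, c⟩ hx
    have h5 := hl _ hx
    have h6 := le_bw hx
    simp only at h5 h6
    have hc : c = 1 ∨ c = 2 ∨ c = 3 ∨ c = 4 := by omega
    rcases hc with rfl | rfl | rfl | rfl
    · cases s
      · simpa [bn] using (d_add_sq q hq).trans (d_sq_four q hq)
      · simpa [bn] using (d_sub_sq q).trans (d_sq_four q hq)
    · cases s
      · simpa [bn] using d_sq_four' q hq
      · simpa [bn] using d_sq_four q hq
    · cases s
      · exact absurd hx h3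
      · exact absurd hx h3'
    · cases s
      · exact absurd hx h4
      · simp [bn]

/-- the twelve maximal element orders -/
def specL (q : ℕ) : List ℕ :=
  [q ^ 4 + 1, q ^ 4 - 1, (q ^ 3 + 1) * (q - 1), (q ^ 3 - 1) * (q + 1),
   (q ^ 3 + 1) * 2, (q ^ 3 - 1) * 2, (q ^ 2 + 1) * (q - 1) * 2, (q ^ 2 + 1) * (q + 1) * 2,
   (q ^ 2 - 1) * 4, (q ^ 2 + 1) * 4, (q - 1) * 8, (q + 1) * 8]

theorem arith_main (q : ℕ) (hq : 1 ≤ q) (l : List (Bool × ℕ)) (hl : ∀ x ∈ l, 1 ≤ x.2) (E e₁ : ℕ)
    (h : 2 * (bw l + E) + e₁ ≤ 8) (h0 : l = [] → E = 0) :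
    ∃ T N, E + 1 ≤ 2 ^ T ∧ e₁ ≤ 2 ^ T ∧ N ∈ specL q ∧ bL q l * 2 ^ T ∣ N := by
  by_cases c0 : E = 0 ∧ e₁ ≤ 1
  · obtain ⟨hE, he⟩ := c0
    have hw : bw l ≤ 4 := by omega
    rcases t0 q hq l hl hw with h1 | h1 | h1 | h1
    · exact ⟨0, q ^ 4 + 1, by omega, by omega, by simp [specL], by simpa using h1⟩
    · exact ⟨0, q ^ 4 - 1, by omega, by omega, by simp [specL], by simpa using h1⟩
    · exact ⟨0, (q ^ 3 + 1) * (q - 1), by omega, by omega, by simp [specL], by simpa using h1⟩
    · exact ⟨0, (q ^ 3 - 1) * (q + 1), by omega, by omega, by simp [specL], by simpa using h1⟩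
  by_cases c1 : E ≤ 1 ∧ e₁ ≤ 2
  · obtain ⟨hE, he⟩ := c1
    have hw : bw l ≤ 3 := by omega
    rcases t1 q hq l hl hw with h1 | h1 | h1 | h1 | h1
    · exact ⟨1, (q ^ 3 + 1) * 2, by omega, by omega, by simp [specL],
        Nat.mul_dvd_mul h1 (by norm_num)⟩
    · exact ⟨1, (q ^ 3 - 1) * 2, by omega, by omega, by simp [specL],
        Nat.mul_dvd_mul h1 (by norm_num)⟩
    · exact ⟨1, (q ^ 2 + 1) * (q - 1) * 2, by omega, by omega, by simp [specL],
        Nat.mul_dvd_mul h1 (by norm_num)⟩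
    · exact ⟨1, (q ^ 2 + 1) * (q + 1) * 2, by omega, by omega, by simp [specL],
        Nat.mul_dvd_mul h1 (by norm_num)⟩
    · exact ⟨1, (q ^ 2 - 1) * 4, by omega, by omega, by simp [specL],
        Nat.mul_dvd_mul h1 (by norm_num)⟩
  by_cases c2 : E ≤ 3 ∧ e₁ ≤ 4
  · obtain ⟨hE, he⟩ := c2
    have hw : bw l ≤ 2 := by omega
    rcases t2 q hq l hl hw with h1 | h1
    · exact ⟨2, (q ^ 2 + 1) * 4, by omega, by omega, by simp [specL],
        Nat.mul_dvd_mul h1 (by norm_num)⟩
    · exact ⟨2, (q ^ 2 - 1) * 4, by omega, by omega, by simp [specL],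
        Nat.mul_dvd_mul h1 (by norm_num)⟩
  · have hE4 : E < 4 := by
      by_contra hE
      have hw : bw l = 0 := by omega
      have := h0 (eq_nil_of_bw hl hw)
      omega
    have hw : bw l ≤ 1 := by omega
    rcases t3 q l hl hw with h1 | h1
    · exact ⟨3, (q - 1) * 8, by omega, by omega, by simp [specL],
        Nat.mul_dvd_mul h1 (by norm_num)⟩
    · exact ⟨3, (q + 1) * 8, by omega, by omega, by simp [specL],
        Nat.mul_dvd_mul h1 (by norm_num)⟩

end Cfsg.Agent.Lib.H11.S8O
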