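import Mathlib
import Cfsg.Agent.Lib.H11.EOB5
import Cfsg.Agent.Lib.H11.APM2
import Cfsg.Agent.Lib.H11.S8O2

/-!
# S3589, part 3: every element order of `Sp_8(q)`, `q` even, divides one of twelve numbers
-/

set_option autoImplicit false

namespace Cfsg.Agent.Lib.H11.S8O

open Polynomial Matrix Cfsg.Agent.Lib.H11.EOB

variable {F : Type*} [Field F] [Fintype F]

theorem sp8_orderOf_dvd [CharP F 2] (g : Matrix.symplecticGroup (Fin 4) F) :
    ∃ N ∈ specL (Fintype.card F), orderOf g ∣ N := by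
  classical
  haveI : Fact (Nat.Prime 2) := ⟨Nat.prime_two⟩
  obtain ⟨A, hA⟩ : ∃ A : Matrix (Fin 4 ⊕ Fin 4) (Fin 4 ⊕ Fin 4) F, A = g.1 := ⟨_, rfl⟩
  have hAmem : A ∈ Matrix.symplecticGroup (Fin 4) F := by rw [hA]; exact g.2
  have hJ : IsUnit (Matrix.J (Fin 4) F) :=
    (Matrix.isUnit_iff_isUnit_det _).mpr (Matrix.isUnit_det_J (Fin 4) F)
  have hSR : SR A.charpoly := charpoly_SR A (Matrix.J (Fin 4) F) hJ
    (SymplecticGroup.mem_iff'.mp hAmem)
  have hdeg : A.charpoly.natDegree = 8 := by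
    rw [Matrix.charpoly_natDegree_eq_dim]
    simp
  obtain ⟨l, E, e₁, e₂, hl, hle, h0, he2, hT⟩ := Cfsg.Agent.Lib.H11.APM.polyS 2 hSR
  have he2' : e₂ = 0 := he2 rfl
  subst he2'
  rw [hdeg] at hle
  obtain ⟨T, N, hE, he, hN, hdiv⟩ := arith_main (Fintype.card F) Fintype.card_pos l hl E e₁
    (by omega) h0
  refine ⟨N, hN, ?_⟩
  have hchi := hT T hE he (Nat.zero_le _)
  rw [if_pos rfl, Nat.lcm_one_right] at hchi
  have hpow : A ^ (bL (Fintype.card F) l * 2 ^ T) = 1 := by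
    obtain ⟨k, hk⟩ := hchi
    have h1 := congrArg (aeval A) hk
    rw [map_mul, Matrix.aeval_self_charpoly, zero_mul, map_sub, map_pow, aeval_X, map_one] at h1
    exact sub_eq_zero.mp h1
  have hg : g ^ (bL (Fintype.card F) l * 2 ^ T) = 1 := by
    apply Subtype.ext
    rw [SubmonoidClass.coe_pow, ← hA, hpow]
    rfl
  exact (orderOf_dvd_of_pow_eq_one hg).trans hdiv

end Cfsg.Agent.Lib.H11.S8O
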