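import Mathlib
import Cfsg.Agent.Lib.H11.S8O2

/-!
# S3589, part 4: lcm computations for even `q`
-/

set_option autoImplicit false

namespace Cfsg.Agent.Lib.H11.S8O

theorem cop_pm (X B : ℕ) (hX : Even X) (hX1 : 1 ≤ X) (hB : B ∣ X - 1) : Nat.Coprime (X + 1) B := by
  apply Nat.Coprime.coprime_dvd_right hB
  have hodd : Odd (X + 1) := hX.add_one
  have hg2 : Nat.gcd (X + 1) (X - 1) ∣ 2 := by
    have h1 : Nat.gcd (X + 1) (X - 1) ∣ X + 1 := Nat.gcd_dvd_left _ _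
    have h2 : Nat.gcd (X + 1) (X - 1) ∣ X - 1 := Nat.gcd_dvd_right _ _
    have h3 := Nat.dvd_sub h1 h2
    have : X + 1 - (X - 1) = 2 := by omega
    rwa [this] at h3
  have hle : Nat.gcd (X + 1) (X - 1) ≤ 2 := Nat.le_of_dvd (by norm_num) hg2
  have hne2 : Nat.gcd (X + 1) (X - 1) ≠ 2 := by
    intro h
    have h1 : 2 ∣ X + 1 := by rw [← h]; exact Nat.gcd_dvd_left _ _
    obtain ⟨k, hk⟩ := hodd
    omega
  have hpos : 0 < Nat.gcd (X + 1) (X - 1) := Nat.gcd_pos_of_pos_left _ (by omega)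
  show Nat.gcd (X + 1) (X - 1) = 1
  omega

theorem cop_mp (X B : ℕ) (hX : Even X) (hX1 : 1 ≤ X) (hB : B ∣ X + 1) : Nat.Coprime (X - 1) B := by
  apply Nat.Coprime.coprime_dvd_right hB
  exact (cop_pm X (X - 1) hX hX1 dvd_rfl).symm

theorem even_pow' {q : ℕ} (hq : Even q) (n : ℕ) (hn : n ≠ 0) : Even (q ^ n) :=
  Nat.even_pow.mpr ⟨hq, hn⟩

theorem odd_add {q : ℕ} (hq : Even q) (n : ℕ) (hn : n ≠ 0) : Odd (q ^ n + 1) :=
  (even_pow' hq n hn).add_one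

theorem odd_sub {q : ℕ} (hq : Even q) (hq1 : 1 ≤ q) (n : ℕ) (hn : n ≠ 0) : Odd (q ^ n - 1) := by
  have h1 : 1 ≤ q ^ n := Nat.one_le_pow _ _ hq1
  obtain ⟨k, hk⟩ := even_pow' hq n hn
  exact ⟨k - 1, by omega⟩

section lcms

variable {q : ℕ} (hq : Even q) (hq1 : 1 ≤ q)
include hq hq1

theorem lcm1 : Nat.lcm (q ^ 2 + 1) (q ^ 2 - 1) = q ^ 4 - 1 := by
  rw [(cop_pm (q ^ 2) (q ^ 2 - 1) (even_pow' hq _ (by norm_num)) (Nat.one_le_pow _ _ hq1) dvd_rfl).lcm_eq_mul]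
  have h1 : 1 ≤ q ^ 2 := Nat.one_le_pow _ _ hq1
  have h2 : 1 ≤ q ^ 4 := Nat.one_le_pow _ _ hq1
  zify [h1, h2]; ring

theorem lcm2 : Nat.lcm (q ^ 3 + 1) (q ^ 1 - 1) = (q ^ 3 + 1) * (q - 1) := by
  rw [pow_one]
  exact (cop_pm (q ^ 3) (q - 1) (even_pow' hq _ (by norm_num)) (Nat.one_le_pow _ _ hq1)
    (d_sub_cube q)).lcm_eq_mul

theorem lcm3 : Nat.lcm (q ^ 1 + 1) (q ^ 3 - 1) = (q ^ 3 - 1) * (q + 1) := by
  rw [pow_one, Nat.lcm_comm]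
  exact (cop_mp (q ^ 3) (q + 1) (even_pow' hq _ (by norm_num)) (Nat.one_le_pow _ _ hq1)
    (d_add_cube q)).lcm_eq_mul

theorem lcm4 : Nat.lcm (q ^ 3 + 1) 2 = (q ^ 3 + 1) * 2 :=
  (Nat.coprime_two_right.mpr (odd_add hq 3 (by norm_num))).lcm_eq_mul

theorem lcm5 : Nat.lcm 2 (q ^ 3 - 1) = (q ^ 3 - 1) * 2 := by
  rw [Nat.lcm_comm]
  exact (Nat.coprime_two_right.mpr (odd_sub hq hq1 3 (by norm_num))).lcm_eq_mul

theorem lcm6 : Nat.lcm (q ^ 2 + 1) (Nat.lcm (q ^ 1 - 1) 2) = (q ^ 2 + 1) * (q - 1) * 2 := by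
  have h1 : Nat.lcm (q ^ 1 - 1) 2 = (q - 1) * 2 := by
    rw [pow_one]
    have := odd_sub hq hq1 1 (by norm_num)
    rw [pow_one] at this
    exact (Nat.coprime_two_right.mpr this).lcm_eq_mul
  rw [h1]
  have h2 : Nat.Coprime (q ^ 2 + 1) ((q - 1) * 2) :=
    Nat.Coprime.mul_right
      (cop_pm (q ^ 2) (q - 1) (even_pow' hq _ (by norm_num)) (Nat.one_le_pow _ _ hq1) (d_sub_sq q))
      (Nat.coprime_two_right.mpr (odd_add hq 2 (by norm_num)))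
  rw [h2.lcm_eq_mul, mul_assoc]

theorem lcm7 : Nat.lcm (q ^ 2 + 1) (2 * (q + 1)) = (q ^ 2 + 1) * (q + 1) * 2 := by
  have h2 : Nat.Coprime (q ^ 2 + 1) (2 * (q + 1)) :=
    Nat.Coprime.mul_right
      (Nat.coprime_two_right.mpr (odd_add hq 2 (by norm_num)))
      (cop_pm (q ^ 2) (q + 1) (even_pow' hq _ (by norm_num)) (Nat.one_le_pow _ _ hq1) (d_add_sq q hq1))
  rw [h2.lcm_eq_mul]; ring

theorem lcm8 : Nat.lcm 4 (q ^ 2 - 1) = (q ^ 2 - 1) * 4 := by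
  rw [Nat.lcm_comm]
  have : Nat.Coprime (q ^ 2 - 1) (2 ^ 2) :=
    Nat.Coprime.pow_right 2 (Nat.coprime_two_right.mpr (odd_sub hq hq1 2 (by norm_num)))
  exact this.lcm_eq_mul

theorem lcm9 : Nat.lcm (q ^ 2 + 1) 4 = (q ^ 2 + 1) * 4 := by
  have : Nat.Coprime (q ^ 2 + 1) (2 ^ 2) :=
    Nat.Coprime.pow_right 2 (Nat.coprime_two_right.mpr (odd_add hq 2 (by norm_num)))
  exact this.lcm_eq_mul

theorem lcm10 : Nat.lcm 8 (q ^ 1 - 1) = (q - 1) * 8 := by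
  rw [Nat.lcm_comm, pow_one]
  have h := odd_sub hq hq1 1 (by norm_num)
  rw [pow_one] at h
  have : Nat.Coprime (q - 1) (2 ^ 3) :=
    Nat.Coprime.pow_right 3 (Nat.coprime_two_right.mpr h)
  exact this.lcm_eq_mul

theorem lcm11 : Nat.lcm (q ^ 1 + 1) 8 = (q + 1) * 8 := by
  rw [pow_one]
  have h := odd_add hq 1 (by norm_num)
  rw [pow_one] at h
  have : Nat.Coprime (q + 1) (2 ^ 3) :=
    Nat.Coprime.pow_right 3 (Nat.coprime_two_right.mpr h)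
  exact this.lcm_eq_mul

end lcms

end Cfsg.Agent.Lib.H11.S8O
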