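import Mathlib
import Cfsg.Agent.Lib.H11.S8O4
import Cfsg.Agent.Lib.H15.S8OUnipC
import Cfsg.Agent.Lib.H15.S8OSum
import Cfsg.Agent.Lib.H15.S8OUnipA
import Cfsg.Agent.Lib.H4.S8OPlusSinger
import Cfsg.Agent.Lib.H2.S8OT5
import Cfsg.Agent.Lib.H16.S8OMinusSinger
import Cfsg.Agent.Lib.H4.S8OPlusOfMinus
import Cfsg.Agent.Lib.H13.Char2Gen

/-!
# S3589, part 5: the twelve maximal orders are element orders of `O_8^-(q)`, `q` even
-/

set_option autoImplicit false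

namespace Cfsg.Agent.Lib.H11.S8O

variable {F : Type*} [Field F] [Fintype F] [CharP F 2]

theorem a_ne_zero (a b : F)
    (hab : ∀ z₁ z₂ : F, z₁ ^ 2 + a * z₁ * z₂ + b * z₂ ^ 2 = 0 → z₁ = 0 ∧ z₂ = 0) : a ≠ 0 := by
  rintro rfl
  have h2 : (2 : F) = 0 := CharTwo.two_eq_zero
  obtain ⟨s, hs⟩ := Cfsg.Agent.Lib.H13.Char2Gen.exists_sqrt (F := F) b
  have := (hab s 1 (by rw [← hs]; linear_combination (s * s) * h2)).2
  exact one_ne_zero this

theorem even_card : Even (Fintype.card F) := by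
  obtain ⟨n, -, hn⟩ := FiniteField.card F 2
  rw [hn]
  exact Nat.even_pow.mpr ⟨even_two, n.ne_zero⟩

theorem exists_unip_plus1 :
    ∃ u ∈ Cfsg.isometryGroup F (Cfsg.quadFormPlus 1 F), orderOf u = 2 :=
  Cfsg.Agent.Lib.H4.S8O.plus_of_minus_one_zero 1 le_rfl 2 (Cfsg.Agent.Lib.H15.S8O.exists_unip_minus0 1 0 one_ne_zero)

theorem exists_unip_plus2 :
    ∃ u ∈ Cfsg.isometryGroup F (Cfsg.quadFormPlus 2 F), orderOf u = 4 :=
  Cfsg.Agent.Lib.H4.S8O.plus_of_minus_one_zero 2 (by norm_num) 4 (Cfsg.Agent.Lib.H15.S8O.exists_unip_minus1 1 0 one_ne_zero)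

theorem exists_unip_plus3 :
    ∃ u ∈ Cfsg.isometryGroup F (Cfsg.quadFormPlus 3 F), orderOf u = 8 :=
  Cfsg.Agent.Lib.H4.S8O.plus_of_minus_one_zero 3 (by norm_num) 8 (Cfsg.Agent.Lib.H15.S8O.exists_unip_minus2 1 0 one_ne_zero)

theorem realize (a b : F)
    (hab : ∀ z₁ z₂ : F, z₁ ^ 2 + a * z₁ * z₂ + b * z₂ ^ 2 = 0 → z₁ = 0 ∧ z₂ = 0)
    (N : ℕ) (hN : N ∈ specL (Fintype.card F)) :
    ∃ h ∈ Cfsg.isometryGroup F (Cfsg.quadFormMinus 3 F a b), orderOf h = N := by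
  have hq : Even (Fintype.card F) := even_card
  have hq1 : 1 ≤ Fintype.card F := Fintype.card_pos
  have ha : a ≠ 0 := a_ne_zero a b hab
  simp only [specL, List.mem_cons, List.not_mem_nil, or_false] at hN
  rcases hN with rfl | rfl | rfl | rfl | rfl | rfl | rfl | rfl | rfl | rfl | rfl | rfl
  · exact Cfsg.Agent.Lib.H16.S8O.exists_minus_singer 4 (by norm_num) a b hab
  · have := Cfsg.Agent.Lib.H15.S8O.sum_minus_plus 1 2 a b _ _ (Cfsg.Agent.Lib.H16.S8O.exists_minus_singer 2 (by norm_num) a b hab)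
      (Cfsg.Agent.Lib.H4.S8O.exists_plus_singer (F := F) 2 (by norm_num))
    rw [lcm1 hq hq1] at this
    exact this
  · have := Cfsg.Agent.Lib.H15.S8O.sum_minus_plus 2 1 a b _ _ (Cfsg.Agent.Lib.H16.S8O.exists_minus_singer 3 (by norm_num) a b hab)
      (Cfsg.Agent.Lib.H4.S8O.exists_plus_singer (F := F) 1 (by norm_num))
    rw [lcm2 hq hq1] at this
    exact this
  · have := Cfsg.Agent.Lib.H15.S8O.sum_minus_plus 0 3 a b _ _ (Cfsg.Agent.Lib.H16.S8O.exists_minus_singer 1 (by norm_num) a b hab)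
      (Cfsg.Agent.Lib.H4.S8O.exists_plus_singer (F := F) 3 (by norm_num))
    rw [lcm3 hq hq1] at this
    exact this
  · have := Cfsg.Agent.Lib.H15.S8O.sum_minus_plus 2 1 a b _ _ (Cfsg.Agent.Lib.H16.S8O.exists_minus_singer 3 (by norm_num) a b hab)
      (exists_unip_plus1 (F := F))
    rw [lcm4 hq hq1] at this
    exact this
  · have := Cfsg.Agent.Lib.H15.S8O.sum_minus_plus 0 3 a b _ _ (Cfsg.Agent.Lib.H15.S8O.exists_unip_minus0 a b ha)
      (Cfsg.Agent.Lib.H4.S8O.exists_plus_singer (F := F) 3 (by norm_num))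
    rw [lcm5 hq hq1] at this
    exact this
  · have := Cfsg.Agent.Lib.H15.S8O.sum_minus_plus 1 2 a b _ _ (Cfsg.Agent.Lib.H16.S8O.exists_minus_singer 2 (by norm_num) a b hab)
      (Cfsg.Agent.Lib.H15.S8O.sum_plus_plus 1 1 _ _ (Cfsg.Agent.Lib.H4.S8O.exists_plus_singer (F := F) 1 (by norm_num)) (exists_unip_plus1 (F := F)))
    rw [lcm6 hq hq1] at this
    exact this
  · have := Cfsg.Agent.Lib.H15.S8O.sum_minus_plus 1 2 a b _ _ (Cfsg.Agent.Lib.H16.S8O.exists_minus_singer 2 (by norm_num) a b hab)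
      (Cfsg.Agent.Lib.H2.S8O.exists_two_mul_succ (F := F))
    rw [lcm7 hq hq1] at this
    exact this
  · have := Cfsg.Agent.Lib.H15.S8O.sum_minus_plus 1 2 a b _ _ (Cfsg.Agent.Lib.H15.S8O.exists_unip_minus1 a b ha)
      (Cfsg.Agent.Lib.H4.S8O.exists_plus_singer (F := F) 2 (by norm_num))
    rw [lcm8 hq hq1] at this
    exact this
  · have := Cfsg.Agent.Lib.H15.S8O.sum_minus_plus 1 2 a b _ _ (Cfsg.Agent.Lib.H16.S8O.exists_minus_singer 2 (by norm_num) a b hab)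
      (exists_unip_plus2 (F := F))
    rw [lcm9 hq hq1] at this
    exact this
  · have := Cfsg.Agent.Lib.H15.S8O.sum_minus_plus 2 1 a b _ _ (Cfsg.Agent.Lib.H15.S8O.exists_unip_minus2 a b ha)
      (Cfsg.Agent.Lib.H4.S8O.exists_plus_singer (F := F) 1 (by norm_num))
    rw [lcm10 hq hq1] at this
    exact this
  · have := Cfsg.Agent.Lib.H15.S8O.sum_minus_plus 0 3 a b _ _ (Cfsg.Agent.Lib.H16.S8O.exists_minus_singer 1 (by norm_num) a b hab)
      (exists_unip_plus3 (F := F))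
    rw [lcm11 hq hq1] at this
    exact this

end Cfsg.Agent.Lib.H11.S8O
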