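import Mathlib

/-!
# S3590: basic definition `gsum A n = 1 + A + ... + A^(n-1)` (helper11)
-/

set_option autoImplicit false

namespace Cfsg.Agent.Lib.H11.S8V

/-- the geometric sum `1 + A + ... + A ^ (n - 1)` of a square matrix -/
def gsum {ι : Type*} [Fintype ι] [DecidableEq ι] {R : Type*} [CommRing R] (A : Matrix ι ι R) (n : ℕ) :
    Matrix ι ι R :=
  ∑ i ∈ Finset.range n, A ^ i

theorem gsum_def {ι : Type*} [Fintype ι] [DecidableEq ι] {R : Type*} [CommRing R] (A : Matrix ι ι R)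
    (n : ℕ) : gsum A n = ∑ i ∈ Finset.range n, A ^ i := rfl

end Cfsg.Agent.Lib.H11.S8V
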