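import Mathlib
import Cfsg.Agent.Lib.H11.EOB4

/-!
# S3590, part 1: refined polynomial theorem in characteristic two (exports the `(X - 1)`-part)
-/

set_option autoImplicit false

namespace Cfsg.Agent.Lib.H11.S8V

open Polynomial Cfsg.Agent.Lib.H11.EOB

variable {F : Type*} [Field F] [Fintype F]

theorem polyS2 [CharP F 2] {χ : F[X]} (hχ : SR χ) :
    ∃ (l : List (Bool × ℕ)) (E e₁ : ℕ) (χ₁ : F[X]), (∀ x ∈ l, 1 ≤ x.2) ∧
      2 * (bw l + E) + e₁ ≤ χ.natDegree ∧ (l = [] → E = 0) ∧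
      χ = (X - C (1 : F)) ^ e₁ * χ₁ ∧ χ₁.eval 1 ≠ 0 ∧
      ∀ T, E + 1 ≤ 2 ^ T → e₁ ≤ 2 ^ T →
        χ ∣ X ^ (bL (Fintype.card F) l * 2 ^ T) - 1 := by
  classical
  haveI : Fact (Nat.Prime 2) := ⟨Nat.prime_two⟩
  set q := Fintype.card F with hq
  obtain ⟨e₁, χ₁, hχ₁, hχ₁1, hSR₁, -⟩ := strip (1 : F) (by ring) hχ
  have h11 : (-1 : F) = 1 := by
    have h2' : (2 : F) = 0 := CharTwo.two_eq_zero
    linear_combination (-1 : F) * h2'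
  have hχ₁2 : χ₁.eval (-1) ≠ 0 := by rw [h11]; exact hχ₁1
  have hf1 : (X - C (1 : F) : F[X]) ≠ 0 := X_sub_C_ne_zero 1
  have hχ₁0 : χ₁ ≠ 0 := hSR₁.ne_zero
  have hdeg : χ.natDegree = e₁ + χ₁.natDegree := by
    rw [hχ₁, natDegree_mul (pow_ne_zero _ hf1) hχ₁0, natDegree_pow, natDegree_X_sub_C, mul_one]
  have hcop1 : IsCoprime ((X - C (1 : F)) ^ e₁) χ₁ :=
    ((irreducible_X_sub_C (1 : F)).coprime_iff_not_dvd.mpr
      (fun h => hχ₁1 (dvd_iff_isRoot.mp h))).pow_left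
  obtain ⟨l, E, hl, hw, hne, hdiv⟩ := struct 2 χ₁.natDegree χ₁ rfl hSR₁ hχ₁1 hχ₁2
  refine ⟨l, E, e₁, χ₁, hl, by omega, ?_, hχ₁, hχ₁1, ?_⟩
  · intro hlnil
    have hνdeg : χ₁.natDegree = 0 := by
      by_contra h
      exact hne h hlnil
    omega
  · intro T hT0 hT1
    have hgoal : (X : F[X]) ^ (bL q l * 2 ^ T) - 1 = (X ^ (bL q l) - 1) ^ (2 ^ T) := by
      rw [sub_pow_char_pow, one_pow, pow_mul]
    rw [hgoal]
    nth_rewrite 1 [hχ₁]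
    apply IsCoprime.mul_dvd hcop1
    · calc (X - C (1 : F)) ^ e₁ ∣ (X - C (1 : F)) ^ (2 ^ T) := pow_dvd_pow _ hT1
        _ ∣ (X ^ (bL q l) - 1) ^ (2 ^ T) := by
            apply pow_dvd_pow_of_dvd
            have := X_pow_sub_one_dvd_of_dvd (F := F) (one_dvd (bL q l))
            rwa [pow_one, ← C_1] at this
    · exact hdiv T hT0

end Cfsg.Agent.Lib.H11.S8V
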