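import Mathlib
import Cfsg.Agent.Lib.H11.EOB5
import Cfsg.Agent.Lib.H11.S8O2
import Cfsg.Agent.Lib.H11.S8V0
import Cfsg.Agent.Lib.H11.S8V1
import Cfsg.Agent.Lib.H8.S8VU2
import Cfsg.Agent.Lib.H24.S8VU3

/-!
# S3590, part 2: the upper bound.  An isometry `A` (of a nondegenerate alternating form on `F^8`, char 2) of order
`n` with `gsum A n ≠ 0` and `rank (A - 1)` even satisfies `2 n ∣ N` for one of the twelve maximal orders `N`.
-/

set_option autoImplicit false

namespace Cfsg.Agent.Lib.H11.S8V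

open Polynomial Matrix Cfsg.Agent.Lib.H11.EOB Cfsg.Agent.Lib.H11.S8O

variable {F : Type*} [Field F] [Fintype F]

theorem upper_core [CharP F 2] {ι : Type*} [Fintype ι] [DecidableEq ι] (hι : Fintype.card ι = 8)
    (A M : Matrix ι ι F) (hM : IsUnit M) (h : Aᵀ * M * A = M) (n : ℕ) (hn : 0 < n) (hAn : A ^ n = 1)
    (hmin : ∀ k, A ^ k = 1 → n ∣ k) (hS : gsum A n ≠ 0) (hev : Even (A - 1).rank) :
    ∃ N ∈ specL (Fintype.card F), 2 * n ∣ N := by
  classical
  have hq : 1 ≤ Fintype.card F := Fintype.card_pos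
  have hSR : SR A.charpoly := charpoly_SR A M hM h
  have hdeg : A.charpoly.natDegree = 8 := by
    rw [Matrix.charpoly_natDegree_eq_dim, hι]
  obtain ⟨l, E, e₁, χ₁, hl, hle, h0, hχ, hχ₁, hT⟩ := polyS2 hSR
  rw [hdeg] at hle
  obtain ⟨t, m, hm, rfl⟩ := Nat.exists_eq_two_pow_mul_odd hn.ne'
  -- the multiplicity of `X - 1`
  have hf1 : (X - C (1 : F) : F[X]) ≠ 0 := X_sub_C_ne_zero 1
  have he₁ : 2 ^ t ≤ e₁ := by
    by_contra hlt
    have hlt' : e₁ + 1 ≤ 2 ^ t := by omega
    have h1 := Cfsg.Agent.Lib.H8.S8V.pow_dvd_charpoly A t m hm hAn hS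
    have h2 : (X - C (1 : F)) ^ (e₁ + 1) ∣ (X - C (1 : F)) ^ e₁ * χ₁ := by
      rw [← hχ]
      exact (pow_dvd_pow _ hlt').trans h1
    rw [pow_succ] at h2
    have h3 : (X - C (1 : F)) ∣ χ₁ :=
      (mul_dvd_mul_iff_left (pow_ne_zero _ hf1)).mp h2
    exact hχ₁ (dvd_iff_isRoot.mp h3)
  -- the odd part divides `bL`
  have hmb : m ∣ bL (Fintype.card F) l := by
    have hchi := hT 3 (by omega) (by omega)
    have hpow : A ^ (bL (Fintype.card F) l * 2 ^ 3) = 1 := by
      obtain ⟨k, hk⟩ := hchi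
      have h1 := congrArg (aeval A) hk
      rw [map_mul, Matrix.aeval_self_charpoly, zero_mul, map_sub, map_pow, aeval_X, map_one] at h1
      exact sub_eq_zero.mp h1
    have h1 := hmin _ hpow
    have h2 : m ∣ bL (Fintype.card F) l * 2 ^ 3 := (Dvd.intro_left _ rfl).trans h1
    have hcop : Nat.Coprime m (2 ^ 3) :=
      Nat.Coprime.pow_right 3 (Nat.coprime_two_right.mpr hm)
    exact hcop.dvd_of_dvd_mul_right h2
  have ht3 : t ≤ 3 := by
    by_contra hlt
    have : 2 ^ 4 ≤ 2 ^ t := Nat.pow_le_pow_right (by norm_num) (by omega)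
    omega
  have hodd7 : ¬ Even 7 := by decide
  have contra : ∀ (hte : e₁ = 2 ^ t), False := by
    intro hte
    have h1 := Cfsg.Agent.Lib.H24.S8V.rank_sub_one A t m hm hAn hS χ₁ (by rw [← hte]; exact hχ) hχ₁
    rw [hι] at h1
    have h2 : (A - 1).rank = 7 := by omega
    rw [h2] at hev
    exact hodd7 hev
  interval_cases t
  · -- `t = 0`
    have hw : bw l ≤ 3 := by
      simp only [pow_zero] at he₁
      omega
    rcases t1 (Fintype.card F) hq l hl hw with h1 | h1 | h1 | h1 | h1
    · exact ⟨(Fintype.card F ^ 3 + 1) * 2, by simp [specL], by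
        simp only [pow_zero, one_mul]
        rw [mul_comm 2 m]
        exact Nat.mul_dvd_mul (hmb.trans h1) dvd_rfl⟩
    · exact ⟨(Fintype.card F ^ 3 - 1) * 2, by simp [specL], by
        simp only [pow_zero, one_mul]
        rw [mul_comm 2 m]
        exact Nat.mul_dvd_mul (hmb.trans h1) dvd_rfl⟩
    · exact ⟨(Fintype.card F ^ 2 + 1) * (Fintype.card F - 1) * 2, by simp [specL], by
        simp only [pow_zero, one_mul]
        rw [mul_comm 2 m]
        exact Nat.mul_dvd_mul (hmb.trans h1) dvd_rfl⟩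
    · exact ⟨(Fintype.card F ^ 2 + 1) * (Fintype.card F + 1) * 2, by simp [specL], by
        simp only [pow_zero, one_mul]
        rw [mul_comm 2 m]
        exact Nat.mul_dvd_mul (hmb.trans h1) dvd_rfl⟩
    · exact ⟨(Fintype.card F ^ 2 - 1) * 4, by simp [specL], by
        simp only [pow_zero, one_mul]
        rw [mul_comm 2 m]
        exact Nat.mul_dvd_mul (hmb.trans h1) (by norm_num)⟩
  · -- `t = 1`
    simp only [pow_one] at he₁
    by_cases hw : bw l ≤ 2
    · rcases t2 (Fintype.card F) hq l hl hw with h1 | h1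
      · exact ⟨(Fintype.card F ^ 2 + 1) * 4, by simp [specL], by
          have : 2 * (2 ^ 1 * m) = m * 4 := by ring
          rw [this]
          exact Nat.mul_dvd_mul (hmb.trans h1) dvd_rfl⟩
      · exact ⟨(Fintype.card F ^ 2 - 1) * 4, by simp [specL], by
          have : 2 * (2 ^ 1 * m) = m * 4 := by ring
          rw [this]
          exact Nat.mul_dvd_mul (hmb.trans h1) dvd_rfl⟩
    · exfalso
      exact contra (by omega)
  · -- `t = 2`
    have he₁' : 4 ≤ e₁ := by simpa using he₁
    by_cases hw : bw l ≤ 1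
    · rcases t3 (Fintype.card F) l hl hw with h1 | h1
      · exact ⟨(Fintype.card F - 1) * 8, by simp [specL], by
          have : 2 * (2 ^ 2 * m) = m * 8 := by ring
          rw [this]
          exact Nat.mul_dvd_mul (hmb.trans h1) dvd_rfl⟩
      · exact ⟨(Fintype.card F + 1) * 8, by simp [specL], by
          have : 2 * (2 ^ 2 * m) = m * 8 := by ring
          rw [this]
          exact Nat.mul_dvd_mul (hmb.trans h1) dvd_rfl⟩
    · exfalso
      exact contra (by norm_num; omega)
  · -- `t = 3`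
    exfalso
    have he₁' : 8 ≤ e₁ := by simpa using he₁
    exact contra (by norm_num; omega)

end Cfsg.Agent.Lib.H11.S8V
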