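import Mathlib
import Cfsg.Prelude.Def_Classical
import Cfsg.Agent.Lib.H11.S8V0
import Cfsg.Agent.Lib.H11.IsoReindex
import Cfsg.Agent.Lib.H13.OrthSum
import Cfsg.Agent.Lib.H15.S8OSum

/-!
# S3590, part 3: geometric sums and the orthogonal-sum homomorphism
-/

set_option autoImplicit false

namespace Cfsg.Agent.Lib.H11.S8V

open Matrix
open scoped MatrixGroups

section gsum

variable {ι : Type*} [Fintype ι] [DecidableEq ι] {R : Type*} [CommRing R]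

theorem gsum_mul (A : Matrix ι ι R) (n k : ℕ) (hA : A ^ n = 1) :
    gsum A (k * n) = k • gsum A n := by
  induction k with
  | zero => simp [gsum]
  | succ k ih =>
    rw [gsum_def, Nat.succ_mul, Finset.sum_range_add, ← gsum_def, ih, succ_nsmul]
    congr 1
    rw [gsum_def]
    apply Finset.sum_congr rfl
    intro i _
    rw [pow_add, pow_mul', hA, one_pow, one_mul]

theorem gsum_one_left (n : ℕ) : gsum (1 : Matrix ι ι R) n = n • (1 : Matrix ι ι R) := by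
  simp [gsum]

theorem gsum_four (A : Matrix ι ι R) : gsum A 4 = (1 + A) * gsum (A ^ 2) 2 := by
  simp only [gsum, Finset.sum_range_succ, Finset.sum_range_zero, zero_add, pow_zero, pow_one]
  noncomm_ring

end gsum

section char2

variable {ι : Type*} [Fintype ι] [DecidableEq ι] {F : Type*} [Field F] [CharP F 2]

theorem odd_nsmul (k : ℕ) (hk : Odd k) (X : Matrix ι ι F) : k • X = X := by
  obtain ⟨j, rfl⟩ := hk
  have h2 : (2 : F) = 0 := CharTwo.two_eq_zero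
  have : (2 : ℕ) • X = 0 := by
    ext a b
    simp only [Matrix.smul_apply, Matrix.zero_apply, nsmul_eq_mul]
    push_cast
    rw [h2, zero_mul]
  rw [add_nsmul, mul_nsmul, this, nsmul_zero, zero_add, one_nsmul]

theorem gsum_mul_odd (A : Matrix ι ι F) (n k : ℕ) (hk : Odd k) (hA : A ^ n = 1) :
    gsum A (k * n) = gsum A n := by
  rw [gsum_mul A n k hA, odd_nsmul k hk]

theorem gsum_one_odd [Nonempty ι] (n : ℕ) (hn : Odd n) : gsum (1 : Matrix ι ι F) n ≠ 0 := by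
  rw [gsum_one_left, odd_nsmul n hn]
  exact one_ne_zero

end char2

section sum

variable {F : Type*} [Field F] {ι₁ ι₂ κ : Type} [Fintype ι₁] [DecidableEq ι₁] [Fintype ι₂]
  [DecidableEq ι₂] [Fintype κ] [DecidableEq κ]

/-- the matrix of an orthogonal sum -/
noncomputable def sumMat (e : ι₁ ⊕ ι₂ ≃ κ) (A : Matrix ι₁ ι₁ F) (D : Matrix ι₂ ι₂ F) : Matrix κ κ F :=
  Matrix.reindexAlgEquiv F F e (Matrix.fromBlocks A 0 0 D)

theorem fromBlocks_diag_pow (A : Matrix ι₁ ι₁ F) (D : Matrix ι₂ ι₂ F) (i : ℕ) :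
    (Matrix.fromBlocks A 0 0 D) ^ i = Matrix.fromBlocks (A ^ i) 0 0 (D ^ i) := by
  induction i with
  | zero => simp [Matrix.fromBlocks_one]
  | succ i ih => rw [pow_succ, ih, Matrix.fromBlocks_multiply, pow_succ, pow_succ]; simp

theorem sumMat_pow (e : ι₁ ⊕ ι₂ ≃ κ) (A : Matrix ι₁ ι₁ F) (D : Matrix ι₂ ι₂ F) (i : ℕ) :
    sumMat e A D ^ i = sumMat e (A ^ i) (D ^ i) := by
  unfold sumMat
  rw [← map_pow, fromBlocks_diag_pow]

theorem sumMat_add (e : ι₁ ⊕ ι₂ ≃ κ) (A A' : Matrix ι₁ ι₁ F) (D D' : Matrix ι₂ ι₂ F) :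
    sumMat e A D + sumMat e A' D' = sumMat e (A + A') (D + D') := by
  unfold sumMat
  rw [← map_add, Matrix.fromBlocks_add]
  simp

theorem sumMat_zero (e : ι₁ ⊕ ι₂ ≃ κ) : sumMat e (0 : Matrix ι₁ ι₁ F) (0 : Matrix ι₂ ι₂ F) = 0 := by
  unfold sumMat
  rw [Matrix.fromBlocks_zero, map_zero]

theorem sumMat_eq_zero_iff (e : ι₁ ⊕ ι₂ ≃ κ) (A : Matrix ι₁ ι₁ F) (D : Matrix ι₂ ι₂ F) :
    sumMat e A D = 0 ↔ A = 0 ∧ D = 0 := by
  constructor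
  · intro h
    have h1 : Matrix.fromBlocks A 0 0 D = 0 := by
      apply (Matrix.reindexAlgEquiv F F e).injective
      rw [map_zero]
      exact h
    rw [← Matrix.fromBlocks_zero, Matrix.fromBlocks_inj] at h1
    exact ⟨h1.1, h1.2.2.2⟩
  · rintro ⟨rfl, rfl⟩
    exact sumMat_zero e

theorem gsum_sumMat (e : ι₁ ⊕ ι₂ ≃ κ) (A : Matrix ι₁ ι₁ F) (D : Matrix ι₂ ι₂ F) (n : ℕ) :
    gsum (sumMat e A D) n = sumMat e (gsum A n) (gsum D n) := by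
  induction n with
  | zero => simp [gsum, sumMat_zero]
  | succ n ih =>
    rw [gsum_def, Finset.sum_range_succ, ← gsum_def, ih, sumMat_pow, sumMat_add]
    rw [gsum_def A (n + 1), gsum_def D (n + 1), Finset.sum_range_succ, Finset.sum_range_succ]
    rfl

variable (e : ι₁ ⊕ ι₂ ≃ κ) (Q₁ : (ι₁ → F) → F) (Q₂ : (ι₂ → F) → F) (Q : (κ → F) → F)

/-- the orthogonal-sum homomorphism on `GL` -/
noncomputable def sumGL : GL ι₁ F × GL ι₂ F →* GL κ F :=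
  (Cfsg.Agent.Lib.H11.IsoReindex.glReindex e).toMonoidHom.comp
    (Cfsg.Agent.Lib.H13.OrthSum.blkGL ι₁ ι₂ F)

theorem sumGL_val (p : GL ι₁ F × GL ι₂ F) :
    ((sumGL e p : GL κ F) : Matrix κ κ F) =
      sumMat e (p.1 : Matrix ι₁ ι₁ F) (p.2 : Matrix ι₂ ι₂ F) := rfl

theorem sumGL_injective : Function.Injective (sumGL (F := F) e) := by
  intro p q h
  apply Cfsg.Agent.Lib.H15.S8O.blkGL_injective ι₁ ι₂
  exact (Cfsg.Agent.Lib.H11.IsoReindex.glReindex e).injective h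

theorem sumGL_mem
    (hQ : ∀ v : κ → F, Q v = Q₁ (fun i => v (e (Sum.inl i))) + Q₂ (fun i => v (e (Sum.inr i))))
    (g₁ : GL ι₁ F) (hg₁ : g₁ ∈ Cfsg.isometryGroup F Q₁) (g₂ : GL ι₂ F)
    (hg₂ : g₂ ∈ Cfsg.isometryGroup F Q₂) : sumGL e (g₁, g₂) ∈ Cfsg.isometryGroup F Q := by
  rw [Cfsg.Agent.Lib.H11.IsoReindex.mem_iso_iff']
  intro x
  show Q ((Cfsg.Agent.Lib.H11.IsoReindex.glReindex e
    (Cfsg.Agent.Lib.H13.OrthSum.blkGL ι₁ ι₂ F (g₁, g₂))).1 *ᵥ x) = Q x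
  rw [Cfsg.Agent.Lib.H11.IsoReindex.glReindex_mulVec, hQ, hQ x,
    Cfsg.Agent.Lib.H13.OrthSum.blkGL_coe, Cfsg.Agent.Lib.H13.OrthSum.fromBlocks_diag_mulVec]
  have e1 : (fun i : ι₁ => ((Sum.elim ((g₁ : Matrix ι₁ ι₁ F) *ᵥ ((x ∘ e) ∘ Sum.inl))
      ((g₂ : Matrix ι₂ ι₂ F) *ᵥ ((x ∘ e) ∘ Sum.inr))) ∘ e.symm) (e (Sum.inl i)))
      = (g₁ : Matrix ι₁ ι₁ F) *ᵥ (fun i => x (e (Sum.inl i))) := by
    funext i
    simp only [Function.comp_apply, Equiv.symm_apply_apply, Sum.elim_inl]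
    rfl
  have e2 : (fun i : ι₂ => ((Sum.elim ((g₁ : Matrix ι₁ ι₁ F) *ᵥ ((x ∘ e) ∘ Sum.inl))
      ((g₂ : Matrix ι₂ ι₂ F) *ᵥ ((x ∘ e) ∘ Sum.inr))) ∘ e.symm) (e (Sum.inr i)))
      = (g₂ : Matrix ι₂ ι₂ F) *ᵥ (fun i => x (e (Sum.inr i))) := by
    funext i
    simp only [Function.comp_apply, Equiv.symm_apply_apply, Sum.elim_inr]
    rfl
  rw [e1, e2, (Cfsg.Agent.Lib.H11.IsoReindex.mem_iso_iff' _ _).mp hg₁,
    (Cfsg.Agent.Lib.H11.IsoReindex.mem_iso_iff' _ _).mp hg₂]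

/-- the orthogonal-sum homomorphism `O(Q₁) × O(Q₂) → O(Q)` -/
noncomputable def sumHom
    (hQ : ∀ v : κ → F, Q v = Q₁ (fun i => v (e (Sum.inl i))) + Q₂ (fun i => v (e (Sum.inr i)))) :
    ↥(Cfsg.isometryGroup F Q₁) × ↥(Cfsg.isometryGroup F Q₂) →* ↥(Cfsg.isometryGroup F Q) :=
  MonoidHom.codRestrict ((sumGL e).comp
    (MonoidHom.prodMap (Cfsg.isometryGroup F Q₁).subtype (Cfsg.isometryGroup F Q₂).subtype))
    (Cfsg.isometryGroup F Q) (fun p => sumGL_mem e Q₁ Q₂ Q hQ p.1.1 p.1.2 p.2.1 p.2.2)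

theorem sumHom_val
    (hQ : ∀ v : κ → F, Q v = Q₁ (fun i => v (e (Sum.inl i))) + Q₂ (fun i => v (e (Sum.inr i))))
    (p : ↥(Cfsg.isometryGroup F Q₁) × ↥(Cfsg.isometryGroup F Q₂)) :
    (((sumHom e Q₁ Q₂ Q hQ p : ↥(Cfsg.isometryGroup F Q)) : GL κ F) : Matrix κ κ F) =
      sumMat e ((p.1 : GL ι₁ F) : Matrix ι₁ ι₁ F) ((p.2 : GL ι₂ F) : Matrix ι₂ ι₂ F) := rfl

theorem sumHom_injective
    (hQ : ∀ v : κ → F, Q v = Q₁ (fun i => v (e (Sum.inl i))) + Q₂ (fun i => v (e (Sum.inr i)))) :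
    Function.Injective (sumHom e Q₁ Q₂ Q hQ) := by
  intro p q h
  have h1 : sumGL e ((p.1 : GL ι₁ F), (p.2 : GL ι₂ F)) = sumGL e ((q.1 : GL ι₁ F), (q.2 : GL ι₂ F)) :=
    congrArg Subtype.val h
  have h2 := sumGL_injective e h1
  exact Prod.ext (Subtype.ext (congrArg Prod.fst h2)) (Subtype.ext (congrArg Prod.snd h2))

theorem orderOf_sumHom
    (hQ : ∀ v : κ → F, Q v = Q₁ (fun i => v (e (Sum.inl i))) + Q₂ (fun i => v (e (Sum.inr i))))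
    (p : ↥(Cfsg.isometryGroup F Q₁) × ↥(Cfsg.isometryGroup F Q₂)) :
    orderOf (sumHom e Q₁ Q₂ Q hQ p) = Nat.lcm (orderOf p.1) (orderOf p.2) := by
  rw [orderOf_injective _ (sumHom_injective e Q₁ Q₂ Q hQ), Prod.orderOf]

theorem gsum_sumHom
    (hQ : ∀ v : κ → F, Q v = Q₁ (fun i => v (e (Sum.inl i))) + Q₂ (fun i => v (e (Sum.inr i))))
    (p : ↥(Cfsg.isometryGroup F Q₁) × ↥(Cfsg.isometryGroup F Q₂)) (n : ℕ) :
    gsum (((sumHom e Q₁ Q₂ Q hQ p : ↥(Cfsg.isometryGroup F Q)) : GL κ F) : Matrix κ κ F) n = 0 ↔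
      gsum ((p.1 : GL ι₁ F) : Matrix ι₁ ι₁ F) n = 0 ∧ gsum ((p.2 : GL ι₂ F) : Matrix ι₂ ι₂ F) n = 0 := by
  rw [sumHom_val, gsum_sumMat, sumMat_eq_zero_iff]

end sum

end Cfsg.Agent.Lib.H11.S8V
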