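import Mathlib
import Cfsg.Agent.Lib.H11.S8V3
import Cfsg.Agent.Lib.H13.Char2Omega
import Cfsg.Agent.Lib.H13.OmegaSum
import Cfsg.Agent.S0288

/-!
# S3590, part 4: the standard orthogonal sums, and facts on `Ω` of the 8-dimensional minus form
-/

set_option autoImplicit false

namespace Cfsg.Agent.Lib.H11.S8V

open Matrix
open scoped MatrixGroups
open Cfsg.Agent.Lib.H15.S8O

/-- index type of the minus form -/
abbrev IM (k : ℕ) : Type := (Fin k ⊕ Fin k) ⊕ Fin 2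

/-- index type of the plus form -/
abbrev IP (k : ℕ) : Type := Fin k ⊕ Fin k

section std

variable {F : Type*} [Field F]

theorem hQ_minus (k₁ k₂ : ℕ) (a b : F) (v : (Fin (k₁ + k₂) ⊕ Fin (k₁ + k₂)) ⊕ Fin 2 → F) :
    Cfsg.quadFormMinus (k₁ + k₂) F a b v =
      Cfsg.quadFormMinus k₁ F a b (fun i => v (eMinus k₁ k₂ (Sum.inl i))) +
        Cfsg.quadFormPlus k₂ F (fun i => v (eMinus k₁ k₂ (Sum.inr i))) := by
  unfold Cfsg.quadFormMinus Cfsg.quadFormPlus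
  rw [Fin.sum_univ_add]
  simp only [eMinus, Equiv.coe_fn_mk]
  ring

theorem hQ_plus (k₁ k₂ : ℕ) (v : Fin (k₁ + k₂) ⊕ Fin (k₁ + k₂) → F) :
    Cfsg.quadFormPlus (k₁ + k₂) F v =
      Cfsg.quadFormPlus k₁ F (fun i => v (ePlus k₁ k₂ (Sum.inl i))) +
        Cfsg.quadFormPlus k₂ F (fun i => v (ePlus k₁ k₂ (Sum.inr i))) := by
  unfold Cfsg.quadFormPlus
  rw [Fin.sum_univ_add]
  simp only [ePlus, Equiv.coe_fn_mk]

/-- `O(minus k₁) × O(plus k₂) → O(minus (k₁ + k₂))` -/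
noncomputable def sMP (k₁ k₂ : ℕ) (a b : F) :
    ↥(Cfsg.isometryGroup F (Cfsg.quadFormMinus k₁ F a b)) ×
      ↥(Cfsg.isometryGroup F (Cfsg.quadFormPlus k₂ F)) →*
      ↥(Cfsg.isometryGroup F (Cfsg.quadFormMinus (k₁ + k₂) F a b)) :=
  sumHom (eMinus k₁ k₂) _ _ _ (hQ_minus k₁ k₂ a b)

/-- `O(plus k₁) × O(plus k₂) → O(plus (k₁ + k₂))` -/
noncomputable def sPP (k₁ k₂ : ℕ) :
    ↥(Cfsg.isometryGroup F (Cfsg.quadFormPlus k₁ F)) ×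
      ↥(Cfsg.isometryGroup F (Cfsg.quadFormPlus k₂ F)) →*
      ↥(Cfsg.isometryGroup F (Cfsg.quadFormPlus (k₁ + k₂) F)) :=
  sumHom (ePlus k₁ k₂) _ _ _ (hQ_plus k₁ k₂)

theorem orderOf_sMP (k₁ k₂ : ℕ) (a b : F)
    (p : ↥(Cfsg.isometryGroup F (Cfsg.quadFormMinus k₁ F a b)) ×
      ↥(Cfsg.isometryGroup F (Cfsg.quadFormPlus k₂ F))) :
    orderOf (sMP k₁ k₂ a b p) = Nat.lcm (orderOf p.1) (orderOf p.2) :=
  orderOf_sumHom _ _ _ _ _ p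

theorem orderOf_sPP (k₁ k₂ : ℕ)
    (p : ↥(Cfsg.isometryGroup F (Cfsg.quadFormPlus k₁ F)) ×
      ↥(Cfsg.isometryGroup F (Cfsg.quadFormPlus k₂ F))) :
    orderOf (sPP k₁ k₂ p) = Nat.lcm (orderOf p.1) (orderOf p.2) :=
  orderOf_sumHom _ _ _ _ _ p

theorem gsum_sMP (k₁ k₂ : ℕ) (a b : F)
    (p : ↥(Cfsg.isometryGroup F (Cfsg.quadFormMinus k₁ F a b)) ×
      ↥(Cfsg.isometryGroup F (Cfsg.quadFormPlus k₂ F))) (n : ℕ) :
    gsum (((sMP k₁ k₂ a b p : ↥(Cfsg.isometryGroup F (Cfsg.quadFormMinus (k₁ + k₂) F a b))) :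
      GL (IM (k₁ + k₂)) F) : Matrix (IM (k₁ + k₂)) (IM (k₁ + k₂)) F) n = 0 ↔
      gsum ((p.1 : GL (IM k₁) F) : Matrix (IM k₁) (IM k₁) F) n = 0 ∧
        gsum ((p.2 : GL (IP k₂) F) : Matrix (IP k₂) (IP k₂) F) n = 0 :=
  gsum_sumHom _ _ _ _ _ p n

theorem gsum_sPP (k₁ k₂ : ℕ)
    (p : ↥(Cfsg.isometryGroup F (Cfsg.quadFormPlus k₁ F)) ×
      ↥(Cfsg.isometryGroup F (Cfsg.quadFormPlus k₂ F))) (n : ℕ) :
    gsum (((sPP k₁ k₂ p : ↥(Cfsg.isometryGroup F (Cfsg.quadFormPlus (k₁ + k₂) F))) :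
      GL (IP (k₁ + k₂)) F) : Matrix (IP (k₁ + k₂)) (IP (k₁ + k₂)) F) n = 0 ↔
      gsum ((p.1 : GL (IP k₁) F) : Matrix (IP k₁) (IP k₁) F) n = 0 ∧
        gsum ((p.2 : GL (IP k₂) F) : Matrix (IP k₂) (IP k₂) F) n = 0 :=
  gsum_sumHom _ _ _ _ _ p n

end std

section omega

variable {F : Type*} [Field F] [Fintype F] [CharP F 2]

theorem indexK (k : ℕ) (hk : k ≠ 1) (a b : F)
    (hab : ∀ z₁ z₂ : F, z₁ ^ 2 + a * z₁ * z₂ + b * z₂ ^ 2 = 0 → z₁ = 0 ∧ z₂ = 0) :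
    (Cfsg.Omega F (Cfsg.quadFormMinus k F a b)).index = 2 := by
  have h := Cfsg.Agent.Lib.H13.Char2Omega.index_Omega (Cfsg.Agent.Lib.H13.minusQF F k a b)
    (Cfsg.Agent.S0288.nondeg a b hab k) (Or.inr (by
      simp only [Fintype.card_sum, Fintype.card_fin]
      omega))
  rw [Cfsg.Agent.S0288.coe_minusQF] at h
  exact h

theorem sq_memK (k : ℕ) (hk : k ≠ 1) (a b : F)
    (hab : ∀ z₁ z₂ : F, z₁ ^ 2 + a * z₁ * z₂ + b * z₂ ^ 2 = 0 → z₁ = 0 ∧ z₂ = 0)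
    (g : ↥(Cfsg.isometryGroup F (Cfsg.quadFormMinus k F a b))) :
    g ^ 2 ∈ Cfsg.Omega F (Cfsg.quadFormMinus k F a b) := by
  have h := Subgroup.pow_index_mem (Cfsg.Omega F (Cfsg.quadFormMinus k F a b)) g
  rwa [indexK k hk a b hab] at h

theorem odd_memK (k : ℕ) (hk : k ≠ 1) (a b : F)
    (hab : ∀ z₁ z₂ : F, z₁ ^ 2 + a * z₁ * z₂ + b * z₂ ^ 2 = 0 → z₁ = 0 ∧ z₂ = 0)
    (g : ↥(Cfsg.isometryGroup F (Cfsg.quadFormMinus k F a b))) (hg : Odd (orderOf g)) :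
    g ∈ Cfsg.Omega F (Cfsg.quadFormMinus k F a b) := by
  obtain ⟨j, hj⟩ := hg
  have h1 : g = (g ^ 2) ^ (j + 1) := by
    rw [← pow_mul]
    have : 2 * (j + 1) = orderOf g + 1 := by omega
    rw [this, pow_succ, pow_orderOf_eq_one, one_mul]
  rw [h1]
  exact Subgroup.pow_mem _ (sq_memK k hk a b hab g) _

end omega

end Cfsg.Agent.Lib.H11.S8V
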