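import Mathlib
import Cfsg.Agent.Lib.H11.S8V4
import Cfsg.Agent.Lib.H11.S8O5
import Cfsg.Agent.Lib.H8.S8VU4
import Cfsg.Agent.Lib.H2.S8VU6
import Cfsg.Agent.Lib.H12.S8VU7
import Cfsg.Agent.Lib.H4.S8VU5

/-!
# S3590, part 5: the twelve maximal orders are realised in `V ⋊ Ω`
-/

set_option autoImplicit false

namespace Cfsg.Agent.Lib.H11.S8V

open Matrix Cfsg.Agent.Lib.H11.S8O
open scoped MatrixGroups

section mat

variable {F : Type*} [Field F] {ι : Type} [Fintype ι] [DecidableEq ι] {Q : (ι → F) → F}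

/-- the matrix of an isometry -/
def mat (h : ↥(Cfsg.isometryGroup F Q)) : Matrix ι ι F := ((h : GL ι F) : Matrix ι ι F)

theorem mat_pow (h : ↥(Cfsg.isometryGroup F Q)) (k : ℕ) : mat (h ^ k) = mat h ^ k := by
  unfold mat
  rw [SubgroupClass.coe_pow, Units.val_pow_eq_pow_val]

theorem mat_one : mat (1 : ↥(Cfsg.isometryGroup F Q)) = 1 := rfl

theorem mat_pow_orderOf (h : ↥(Cfsg.isometryGroup F Q)) : mat h ^ orderOf h = 1 := by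
  rw [← mat_pow, pow_orderOf_eq_one, mat_one]

theorem mat_pow_of_dvd (h : ↥(Cfsg.isometryGroup F Q)) (n : ℕ) (hn : orderOf h ∣ n) :
    mat h ^ n = 1 := by
  rw [← mat_pow, orderOf_dvd_iff_pow_eq_one.mp hn, mat_one]

theorem gsum_mat_of_dvd [CharP F 2] (h : ↥(Cfsg.isometryGroup F Q)) (n₀ n : ℕ)
    (h₀ : mat h ^ n₀ = 1) (hdvd : n₀ ∣ n) (hodd : Odd (n / n₀)) :
    gsum (mat h) n = gsum (mat h) n₀ := by
  obtain ⟨k, rfl⟩ := hdvd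
  rcases Nat.eq_zero_or_pos n₀ with h0 | h0
  · subst h0
    simp
  · rw [Nat.mul_div_cancel_left _ h0] at hodd
    rw [mul_comm]
    exact gsum_mul_odd _ _ _ hodd h₀

end mat

section items

variable {F : Type*} [Field F] [Fintype F] [CharP F 2]

theorem odd_div_of_odd {n d : ℕ} (hn : Odd n) (hd : d ∣ n) : Odd (n / d) := by
  obtain ⟨k, rfl⟩ := hd
  rcases Nat.eq_zero_or_pos d with h0 | h0
  · subst h0
    simp at hn
  · rw [Nat.mul_div_cancel_left _ h0]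
    exact (Nat.odd_mul.mp hn).2

theorem lcm12 {q : ℕ} (hq : Even q) (hq1 : 1 ≤ q) : Nat.lcm (q ^ 2 + 1) (q + 1) = (q ^ 2 + 1) * (q + 1) :=
  (cop_pm (q ^ 2) (q + 1) (even_pow' hq _ (by norm_num)) (Nat.one_le_pow _ _ hq1)
    (d_add_sq q hq1)).lcm_eq_mul

theorem lcm13 {q : ℕ} (hq : Even q) (hq1 : 1 ≤ q) : Nat.lcm (q ^ 2 + 1) (q - 1) = (q ^ 2 + 1) * (q - 1) :=
  (cop_pm (q ^ 2) (q - 1) (even_pow' hq _ (by norm_num)) (Nat.one_le_pow _ _ hq1)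
    (d_sub_sq q)).lcm_eq_mul

theorem lcm14 {q : ℕ} (hq : Even q) (hq1 : 1 ≤ q) : Nat.lcm 4 (q - 1) = (q - 1) * 4 := by
  rw [Nat.lcm_comm]
  have h := odd_sub hq hq1 1 (by norm_num)
  rw [pow_one] at h
  have : Nat.Coprime (q - 1) (2 ^ 2) := Nat.Coprime.pow_right 2 (Nat.coprime_two_right.mpr h)
  exact this.lcm_eq_mul

theorem lcm15 {q : ℕ} (hq : Even q) : Nat.lcm (q + 1) 4 = (q + 1) * 4 := by
  have h := odd_add hq 1 (by norm_num)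
  rw [pow_one] at h
  have : Nat.Coprime (q + 1) (2 ^ 2) := Nat.Coprime.pow_right 2 (Nat.coprime_two_right.mpr h)
  exact this.lcm_eq_mul

/-- the conclusion for one maximal order -/
def RealK (k : ℕ) (a b : F) (N : ℕ) : Prop :=
  ∃ g : ↥(Cfsg.isometryGroup F (Cfsg.quadFormMinus k F a b)),
    g ∈ Cfsg.Omega F (Cfsg.quadFormMinus k F a b) ∧
    (orderOf g = N ∨ (2 * orderOf g = N ∧ gsum (mat g) (orderOf g) ≠ 0))

theorem lcm_four_odd {m : ℕ} (hm : Odd m) : Nat.lcm 4 m = m * 4 := by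
  rw [Nat.lcm_comm]
  have : Nat.Coprime m (2 ^ 2) := Nat.Coprime.pow_right 2 (Nat.coprime_two_right.mpr hm)
  exact this.lcm_eq_mul

theorem lcm_odd_four {m : ℕ} (hm : Odd m) : Nat.lcm m 4 = m * 4 := by
  rw [Nat.lcm_comm]; exact lcm_four_odd hm

theorem gsum_sq_ne {ι : Type} [Fintype ι] [DecidableEq ι] (A : Matrix ι ι F) (hA : A ^ 4 = 1)
    (hg : gsum A 4 ≠ 0) (m : ℕ) (hm : Odd m) : gsum (A ^ 2) (m * 2) ≠ 0 := by
  have h1 : (A ^ 2) ^ 2 = 1 := by rw [← pow_mul]; exact hA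
  rw [gsum_mul_odd (A ^ 2) 2 m hm h1]
  intro h0
  apply hg
  rw [gsum_four, h0, mul_zero]

variable (a b : F)
  (hab : ∀ z₁ z₂ : F, z₁ ^ 2 + a * z₁ * z₂ + b * z₂ ^ 2 = 0 → z₁ = 0 ∧ z₂ = 0)
include hab

theorem real_odd (N : ℕ) (hN : N ∈ specL (Fintype.card F)) (hodd : Odd N) : RealK 3 a b N := by
  obtain ⟨h, hh, ho⟩ := realize a b hab N hN
  refine ⟨⟨h, hh⟩, odd_memK 3 (by norm_num) a b hab _ ?_, Or.inl ?_⟩
  · rw [Subgroup.orderOf_mk, ho]; exact hodd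
  · rw [Subgroup.orderOf_mk, ho]

/-- odd order `n`, good on the second summand -/
theorem real_fix_right (k₁ k₂ : ℕ) (hk : k₁ + k₂ ≠ 1)
    (h₁ : ↥(Cfsg.isometryGroup F (Cfsg.quadFormMinus k₁ F a b)))
    (h₂ : ↥(Cfsg.isometryGroup F (Cfsg.quadFormPlus k₂ F)))
    (hg₂ : gsum (mat h₂) (orderOf h₂) ≠ 0) (n : ℕ) (hn : Nat.lcm (orderOf h₁) (orderOf h₂) = n)
    (hodd : Odd n) : RealK (k₁ + k₂) a b (n * 2) := by
  refine ⟨sMP k₁ k₂ a b (h₁, h₂), odd_memK _ hk a b hab _ ?_, Or.inr ⟨?_, ?_⟩⟩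
  · rw [orderOf_sMP, hn]; exact hodd
  · rw [orderOf_sMP, hn, mul_comm]
  · rw [orderOf_sMP, hn]
    intro h0
    have h1 := ((gsum_sMP k₁ k₂ a b (h₁, h₂) n).mp h0).2
    apply hg₂
    rw [← gsum_mat_of_dvd h₂ (orderOf h₂) n (mat_pow_orderOf h₂) (hn ▸ Nat.dvd_lcm_right _ _)
      (odd_div_of_odd hodd (hn ▸ Nat.dvd_lcm_right _ _))]
    exact h1

/-- odd order `n`, good on the first summand -/
theorem real_fix_left (k₁ k₂ : ℕ) (hk : k₁ + k₂ ≠ 1)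
    (h₁ : ↥(Cfsg.isometryGroup F (Cfsg.quadFormMinus k₁ F a b)))
    (h₂ : ↥(Cfsg.isometryGroup F (Cfsg.quadFormPlus k₂ F)))
    (hg₁ : gsum (mat h₁) (orderOf h₁) ≠ 0) (n : ℕ) (hn : Nat.lcm (orderOf h₁) (orderOf h₂) = n)
    (hodd : Odd n) : RealK (k₁ + k₂) a b (n * 2) := by
  refine ⟨sMP k₁ k₂ a b (h₁, h₂), odd_memK _ hk a b hab _ ?_, Or.inr ⟨?_, ?_⟩⟩
  · rw [orderOf_sMP, hn]; exact hodd
  · rw [orderOf_sMP, hn, mul_comm]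
  · rw [orderOf_sMP, hn]
    intro h0
    have h1 := ((gsum_sMP k₁ k₂ a b (h₁, h₂) n).mp h0).1
    apply hg₁
    rw [← gsum_mat_of_dvd h₁ (orderOf h₁) n (mat_pow_orderOf h₁) (hn ▸ Nat.dvd_lcm_left _ _)
      (odd_div_of_odd hodd (hn ▸ Nat.dvd_lcm_left _ _))]
    exact h1

/-- the square of (order 4, good) ⊥ (odd order `m`) -/
theorem real_sq_left (k₁ k₂ : ℕ) (hk : k₁ + k₂ ≠ 1)
    (h₁ : ↥(Cfsg.isometryGroup F (Cfsg.quadFormMinus k₁ F a b)))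
    (h₂ : ↥(Cfsg.isometryGroup F (Cfsg.quadFormPlus k₂ F)))
    (ho₁ : orderOf h₁ = 4) (hg₁ : gsum (mat h₁) 4 ≠ 0) (m : ℕ) (ho₂ : orderOf h₂ = m) (hm : Odd m) :
    RealK (k₁ + k₂) a b (m * 4) := by
  have hord : orderOf (sMP k₁ k₂ a b (h₁, h₂)) = m * 4 := by
    rw [orderOf_sMP, ho₁, ho₂, lcm_four_odd hm]
  have hord2 : orderOf (sMP k₁ k₂ a b (h₁, h₂) ^ 2) = m * 2 := by
    rw [orderOf_pow_of_dvd (by norm_num) (by rw [hord]; exact ⟨m * 2, by ring⟩), hord]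
    omega
  refine ⟨sMP k₁ k₂ a b (h₁, h₂) ^ 2, sq_memK _ hk a b hab _, Or.inr ⟨?_, ?_⟩⟩
  · rw [hord2]; ring
  · rw [hord2, ← map_pow]
    intro h0
    have h1 := ((gsum_sMP k₁ k₂ a b ((h₁, h₂) ^ 2) (m * 2)).mp h0).1
    have h2 : mat ((h₁, h₂) ^ 2).1 = mat h₁ ^ 2 := by
      rw [Prod.pow_fst, mat_pow]
    have h4 : mat h₁ ^ 4 = 1 := by rw [← ho₁]; exact mat_pow_orderOf h₁
    exact gsum_sq_ne (mat h₁) h4 hg₁ m hm (h2 ▸ h1)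

/-- the square of (odd order `m`) ⊥ (order 4, good) -/
theorem real_sq_right (k₁ k₂ : ℕ) (hk : k₁ + k₂ ≠ 1)
    (h₁ : ↥(Cfsg.isometryGroup F (Cfsg.quadFormMinus k₁ F a b)))
    (h₂ : ↥(Cfsg.isometryGroup F (Cfsg.quadFormPlus k₂ F)))
    (ho₂ : orderOf h₂ = 4) (hg₂ : gsum (mat h₂) 4 ≠ 0) (m : ℕ) (ho₁ : orderOf h₁ = m) (hm : Odd m) :
    RealK (k₁ + k₂) a b (m * 4) := by
  have hord : orderOf (sMP k₁ k₂ a b (h₁, h₂)) = m * 4 := by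
    rw [orderOf_sMP, ho₁, ho₂, lcm_odd_four hm]
  have hord2 : orderOf (sMP k₁ k₂ a b (h₁, h₂) ^ 2) = m * 2 := by
    rw [orderOf_pow_of_dvd (by norm_num) (by rw [hord]; exact ⟨m * 2, by ring⟩), hord]
    omega
  refine ⟨sMP k₁ k₂ a b (h₁, h₂) ^ 2, sq_memK _ hk a b hab _, Or.inr ⟨?_, ?_⟩⟩
  · rw [hord2]; ring
  · rw [hord2, ← map_pow]
    intro h0
    have h1 := ((gsum_sMP k₁ k₂ a b ((h₁, h₂) ^ 2) (m * 2)).mp h0).2
    have h2 : mat ((h₁, h₂) ^ 2).2 = mat h₂ ^ 2 := by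
      rw [Prod.pow_snd, mat_pow]
    have h4 : mat h₂ ^ 4 = 1 := by rw [← ho₂]; exact mat_pow_orderOf h₂
    exact gsum_sq_ne (mat h₂) h4 hg₂ m hm (h2 ▸ h1)

/-- (order 4, good, in `Ω`) ⊥ (odd order `m`) -/
theorem real_om_left (k₁ k₂ : ℕ) (hk : k₁ + k₂ ≠ 1)
    (h₁ : ↥(Cfsg.isometryGroup F (Cfsg.quadFormMinus k₁ F a b)))
    (h₂ : ↥(Cfsg.isometryGroup F (Cfsg.quadFormPlus k₂ F)))
    (hΩ : h₁ ∈ Cfsg.Omega F (Cfsg.quadFormMinus k₁ F a b))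
    (ho₁ : orderOf h₁ = 4) (hg₁ : gsum (mat h₁) 4 ≠ 0) (m : ℕ) (ho₂ : orderOf h₂ = m) (hm : Odd m) :
    RealK (k₁ + k₂) a b (m * 8) := by
  have hord : orderOf (sMP k₁ k₂ a b (h₁, h₂)) = m * 4 := by
    rw [orderOf_sMP, ho₁, ho₂, lcm_four_odd hm]
  refine ⟨sMP k₁ k₂ a b (h₁, h₂), ?_, Or.inr ⟨?_, ?_⟩⟩
  · have hsplit : ((h₁, h₂) : ↥(Cfsg.isometryGroup F (Cfsg.quadFormMinus k₁ F a b)) ×
        ↥(Cfsg.isometryGroup F (Cfsg.quadFormPlus k₂ F))) = (h₁, 1) * (1, h₂) := by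
      rw [Prod.mk_mul_mk, mul_one, one_mul]
    rw [hsplit, map_mul]
    apply Subgroup.mul_mem
    · exact Cfsg.Agent.Lib.H13.OmegaSum.map_comm' ((sMP k₁ k₂ a b).comp (MonoidHom.inl _ _)) hΩ
    · apply odd_memK _ hk a b hab
      rw [orderOf_sMP, orderOf_one, ho₂, Nat.lcm_one_left]
      exact hm
  · rw [hord]; ring
  · rw [hord]
    intro h0
    have h1 := ((gsum_sMP k₁ k₂ a b (h₁, h₂) (m * 4)).mp h0).1
    apply hg₁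
    have h4 : mat h₁ ^ 4 = 1 := by rw [← ho₁]; exact mat_pow_orderOf h₁
    rw [← gsum_mul_odd (mat h₁) 4 m hm h4]
    exact h1

/-- (odd order `m`) ⊥ (order 4, good, in `Ω`) -/
theorem real_om_right (k₁ k₂ : ℕ) (hk : k₁ + k₂ ≠ 1)
    (h₁ : ↥(Cfsg.isometryGroup F (Cfsg.quadFormMinus k₁ F a b)))
    (h₂ : ↥(Cfsg.isometryGroup F (Cfsg.quadFormPlus k₂ F)))
    (hΩ : h₂ ∈ Cfsg.Omega F (Cfsg.quadFormPlus k₂ F))
    (ho₂ : orderOf h₂ = 4) (hg₂ : gsum (mat h₂) 4 ≠ 0) (m : ℕ) (ho₁ : orderOf h₁ = m) (hm : Odd m) :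
    RealK (k₁ + k₂) a b (m * 8) := by
  have hord : orderOf (sMP k₁ k₂ a b (h₁, h₂)) = m * 4 := by
    rw [orderOf_sMP, ho₁, ho₂, lcm_odd_four hm]
  refine ⟨sMP k₁ k₂ a b (h₁, h₂), ?_, Or.inr ⟨?_, ?_⟩⟩
  · have hsplit : ((h₁, h₂) : ↥(Cfsg.isometryGroup F (Cfsg.quadFormMinus k₁ F a b)) ×
        ↥(Cfsg.isometryGroup F (Cfsg.quadFormPlus k₂ F))) = (h₁, 1) * (1, h₂) := by
      rw [Prod.mk_mul_mk, mul_one, one_mul]
    rw [hsplit, map_mul]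
    apply Subgroup.mul_mem
    · apply odd_memK _ hk a b hab
      rw [orderOf_sMP, orderOf_one, ho₁, Nat.lcm_one_right]
      exact hm
    · exact Cfsg.Agent.Lib.H13.OmegaSum.map_comm' ((sMP k₁ k₂ a b).comp (MonoidHom.inr _ _)) hΩ
  · rw [hord]; ring
  · rw [hord]
    intro h0
    have h1 := ((gsum_sMP k₁ k₂ a b (h₁, h₂) (m * 4)).mp h0).2
    apply hg₂
    have h4 : mat h₂ ^ 4 = 1 := by rw [← ho₂]; exact mat_pow_orderOf h₂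
    rw [← gsum_mul_odd (mat h₂) 4 m hm h4]
    exact h1

end items

end Cfsg.Agent.Lib.H11.S8V
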