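import Mathlib
import Cfsg.Agent.Lib.H11.S8V5

/-!
# S3590, part 6: all twelve maximal orders are realised in `V ⋊ Ω`
-/

set_option autoImplicit false

namespace Cfsg.Agent.Lib.H11.S8V

open Matrix Cfsg.Agent.Lib.H11.S8O
open scoped MatrixGroups

variable {F : Type*} [Field F] [Fintype F] [CharP F 2]

theorem realizeΩ (a b : F)
    (hab : ∀ z₁ z₂ : F, z₁ ^ 2 + a * z₁ * z₂ + b * z₂ ^ 2 = 0 → z₁ = 0 ∧ z₂ = 0)
    (N : ℕ) (hN : N ∈ specL (Fintype.card F)) : RealK 3 a b N := by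
  have hq : Even (Fintype.card F) := even_card
  have hq1 : 1 ≤ Fintype.card F := Fintype.card_pos
  have ha : a ≠ 0 := a_ne_zero a b hab
  have hN' := hN
  simp only [specL, List.mem_cons, List.not_mem_nil, or_false] at hN'
  -- the pieces
  obtain ⟨pm1, hpm1, opm1⟩ := Cfsg.Agent.Lib.H16.S8O.exists_minus_singer 1 (by norm_num) a b hab
  obtain ⟨pm2, hpm2, opm2⟩ := Cfsg.Agent.Lib.H16.S8O.exists_minus_singer 2 (by norm_num) a b hab
  obtain ⟨pm3, hpm3, opm3⟩ := Cfsg.Agent.Lib.H16.S8O.exists_minus_singer 3 (by norm_num) a b hab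
  obtain ⟨pp1, hpp1, opp1⟩ := Cfsg.Agent.Lib.H4.S8O.exists_plus_singer (F := F) 1 (by norm_num)
  obtain ⟨pp2, hpp2, opp2⟩ := Cfsg.Agent.Lib.H4.S8O.exists_plus_singer (F := F) 2 (by norm_num)
  obtain ⟨pp3, hpp3, opp3⟩ := Cfsg.Agent.Lib.H4.S8O.exists_plus_singer (F := F) 3 (by norm_num)
  rw [pow_one] at opm1 opp1
  have hodd_q1 : Odd (Fintype.card F - 1) := by
    have := odd_sub hq hq1 1 (by norm_num); rwa [pow_one] at this
  have hodd_q1' : Odd (Fintype.card F + 1) := by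
    have := odd_add hq 1 (by norm_num); rwa [pow_one] at this
  rcases hN' with rfl | rfl | rfl | rfl | rfl | rfl | rfl | rfl | rfl | rfl | rfl | rfl
  · exact real_odd a b hab _ hN (odd_add hq 4 (by norm_num))
  · exact real_odd a b hab _ hN (odd_sub hq hq1 4 (by norm_num))
  · exact real_odd a b hab _ hN ((odd_add hq 3 (by norm_num)).mul hodd_q1)
  · exact real_odd a b hab _ hN ((odd_sub hq hq1 3 (by norm_num)).mul hodd_q1')
  · -- `(q^3+1) * 2`
    exact real_fix_right a b hab 2 1 (by norm_num) ⟨pm3, hpm3⟩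
      (1 : ↥(Cfsg.isometryGroup F (Cfsg.quadFormPlus 1 F)))
      (by rw [orderOf_one, mat_one]; exact gsum_one_odd 1 odd_one) (Fintype.card F ^ 3 + 1)
      (by rw [orderOf_one, Subgroup.orderOf_mk, opm3, Nat.lcm_one_right])
      (odd_add hq 3 (by norm_num))
  · -- `(q^3-1) * 2`
    exact real_fix_left a b hab 0 3 (by norm_num)
      (1 : ↥(Cfsg.isometryGroup F (Cfsg.quadFormMinus 0 F a b))) ⟨pp3, hpp3⟩
      (by rw [orderOf_one, mat_one]; exact gsum_one_odd 1 odd_one) (Fintype.card F ^ 3 - 1)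
      (by rw [orderOf_one, Subgroup.orderOf_mk, opp3, Nat.lcm_one_left])
      (odd_sub hq hq1 3 (by norm_num))
  · -- `(q^2+1) * (q-1) * 2`
    have ho : orderOf (sPP 1 1 ((⟨pp1, hpp1⟩ : ↥(Cfsg.isometryGroup F (Cfsg.quadFormPlus 1 F))), 1)) =
        Fintype.card F - 1 := by
      rw [orderOf_sPP, Subgroup.orderOf_mk, opp1, orderOf_one, Nat.lcm_one_right]
    exact real_fix_right a b hab 1 2 (by norm_num) ⟨pm2, hpm2⟩
      (sPP 1 1 ((⟨pp1, hpp1⟩ : ↥(Cfsg.isometryGroup F (Cfsg.quadFormPlus 1 F))), 1))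
      (by
        rw [ho]
        intro h0
        have h1 := ((gsum_sPP 1 1 ((⟨pp1, hpp1⟩ : ↥(Cfsg.isometryGroup F (Cfsg.quadFormPlus 1 F))), 1)
          (Fintype.card F - 1)).mp h0).2
        exact gsum_one_odd (ι := IP 1) (F := F) _ hodd_q1 h1)
      ((Fintype.card F ^ 2 + 1) * (Fintype.card F - 1))
      (by rw [Subgroup.orderOf_mk, opm2, ho, lcm13 hq hq1])
      ((odd_add hq 2 (by norm_num)).mul hodd_q1)
  · -- `(q^2+1) * (q+1) * 2`
    obtain ⟨cj, hcj, ocj, gcj⟩ := Cfsg.Agent.Lib.H2.S8V.exists_succ_fixed (F := F)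
    exact real_fix_right a b hab 1 2 (by norm_num) ⟨pm2, hpm2⟩ ⟨cj, hcj⟩
      (by rw [Subgroup.orderOf_mk, ocj]; exact gcj)
      ((Fintype.card F ^ 2 + 1) * (Fintype.card F + 1))
      (by rw [Subgroup.orderOf_mk, Subgroup.orderOf_mk, opm2, ocj, lcm12 hq hq1])
      ((odd_add hq 2 (by norm_num)).mul hodd_q1')
  · -- `(q^2-1) * 4`
    obtain ⟨u, hu, ou, gu⟩ := Cfsg.Agent.Lib.H8.S8V.exists_u4_minus a b ha
    exact real_sq_left a b hab 1 2 (by norm_num) ⟨u, hu⟩ ⟨pp2, hpp2⟩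
      (by rw [Subgroup.orderOf_mk, ou]) gu (Fintype.card F ^ 2 - 1)
      (by rw [Subgroup.orderOf_mk, opp2]) (odd_sub hq hq1 2 (by norm_num))
  · -- `(q^2+1) * 4`
    obtain ⟨u, hu, ou, gu⟩ := Cfsg.Agent.Lib.H12.S8V.exists_u4_plus (F := F)
    exact real_sq_right a b hab 1 2 (by norm_num) ⟨pm2, hpm2⟩ ⟨u, hu⟩
      (by rw [Subgroup.orderOf_mk, ou]) gu (Fintype.card F ^ 2 + 1)
      (by rw [Subgroup.orderOf_mk, opm2]) (odd_add hq 2 (by norm_num))
  · -- `(q-1) * 8`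
    obtain ⟨u, hΩ, ou, gu⟩ := Cfsg.Agent.Lib.H4.S8V.exists_u6_minus a b hab
    exact real_om_left a b hab 2 1 (by norm_num) u ⟨pp1, hpp1⟩ hΩ ou gu (Fintype.card F - 1)
      (by rw [Subgroup.orderOf_mk, opp1]) hodd_q1
  · -- `(q+1) * 8`
    obtain ⟨u, hΩ, ou, gu⟩ := Cfsg.Agent.Lib.H4.S8V.exists_u6_plus (F := F)
    exact real_om_right a b hab 0 3 (by norm_num) ⟨pm1, hpm1⟩ u hΩ ou gu (Fintype.card F + 1)
      (by rw [Subgroup.orderOf_mk, opm1]) hodd_q1'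

end Cfsg.Agent.Lib.H11.S8V
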