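import Mathlib
import Cfsg.Agent.Lib.H11.S8V0
import Cfsg.Agent.Lib.H8.S8VU1

/-!
# S3590, part 7: the natural module as a multiplicative group, and orders in `V ⋊ Γ`
-/

set_option autoImplicit false

namespace Cfsg.Agent.Lib.H11.S8V

open Matrix
open scoped MatrixGroups

section act

variable {F : Type*} [Field F] {ι : Type} [Fintype ι] [DecidableEq ι]

/-- the additive automorphism of the column space given by an invertible matrix -/
noncomputable def actAdd (A : GL ι F) : (ι → F) ≃+ (ι → F) where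
  toFun v := (A : Matrix ι ι F) *ᵥ v
  invFun v := ((A⁻¹ : GL ι F) : Matrix ι ι F) *ᵥ v
  left_inv v := by
    show ((A⁻¹ : GL ι F) : Matrix ι ι F) *ᵥ ((A : Matrix ι ι F) *ᵥ v) = v
    rw [Matrix.mulVec_mulVec, ← Units.val_mul, inv_mul_cancel, Units.val_one, Matrix.one_mulVec]
  right_inv v := by
    show (A : Matrix ι ι F) *ᵥ (((A⁻¹ : GL ι F) : Matrix ι ι F) *ᵥ v) = v
    rw [Matrix.mulVec_mulVec, ← Units.val_mul, mul_inv_cancel, Units.val_one, Matrix.one_mulVec]
  map_add' := Matrix.mulVec_add _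

/-- the natural action of `GL` on the multiplicative copy of the column space -/
noncomputable def act : GL ι F →* MulAut (Multiplicative (ι → F)) where
  toFun A := AddEquiv.toMultiplicative (actAdd A)
  map_one' := by
    apply MulEquiv.ext
    intro v
    show Multiplicative.ofAdd (((1 : GL ι F) : Matrix ι ι F) *ᵥ Multiplicative.toAdd v) = v
    rw [Units.val_one, Matrix.one_mulVec]
    rfl
  map_mul' A B := by
    apply MulEquiv.ext
    intro v
    show Multiplicative.ofAdd (((A * B : GL ι F) : Matrix ι ι F) *ᵥ Multiplicative.toAdd v) =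
      Multiplicative.ofAdd ((A : Matrix ι ι F) *ᵥ ((B : Matrix ι ι F) *ᵥ Multiplicative.toAdd v))
    rw [Units.val_mul, Matrix.mulVec_mulVec]

theorem act_apply (A : GL ι F) (v : ι → F) :
    act A (Multiplicative.ofAdd v) = Multiplicative.ofAdd ((A : Matrix ι ι F) *ᵥ v) := rfl

theorem act_pow_apply (A : GL ι F) (i : ℕ) (v : ι → F) :
    (act A ^ i) (Multiplicative.ofAdd v) = Multiplicative.ofAdd ((A : Matrix ι ι F) ^ i *ᵥ v) := by
  rw [← map_pow, act_apply, Units.val_pow_eq_pow_val]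

theorem prod_act (A : GL ι F) (n : ℕ) (v : ι → F) :
    ∏ i ∈ Finset.range n, (act A ^ i) (Multiplicative.ofAdd v) =
      Multiplicative.ofAdd (gsum (A : Matrix ι ι F) n *ᵥ v) := by
  simp_rw [act_pow_apply]
  rw [← ofAdd_sum, gsum_def, Matrix.sum_mulVec]

theorem mul_self_mult [CharP F 2] (x : Multiplicative (ι → F)) : x * x = 1 := by
  show Multiplicative.ofAdd (Multiplicative.toAdd x + Multiplicative.toAdd x) = Multiplicative.ofAdd 0
  congr 1
  funext i
  exact CharTwo.add_self_eq_zero _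

variable [CharP F 2] {Γ : Type*} [Group Γ] (ρ : Γ →* GL ι F)

/-- orders in `V ⋊ Γ` -/
theorem sd_orderOf_act (v : ι → F) (g : Γ) (hg : 0 < orderOf g) :
    (gsum ((ρ g : GL ι F) : Matrix ι ι F) (orderOf g) *ᵥ v = 0 →
      orderOf (⟨Multiplicative.ofAdd v, g⟩ : Multiplicative (ι → F) ⋊[act.comp ρ] Γ) = orderOf g) ∧
    (gsum ((ρ g : GL ι F) : Matrix ι ι F) (orderOf g) *ᵥ v ≠ 0 →
      orderOf (⟨Multiplicative.ofAdd v, g⟩ : Multiplicative (ι → F) ⋊[act.comp ρ] Γ) =
        2 * orderOf g) := by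
  have h := Cfsg.Agent.Lib.H8.S8V.sd_orderOf (N := Multiplicative (ι → F)) mul_self_mult
    (act.comp ρ) (Multiplicative.ofAdd v) g hg
  have hP : (∏ i ∈ Finset.range (orderOf g), (((act.comp ρ) g) ^ i) (Multiplicative.ofAdd v)) =
      Multiplicative.ofAdd (gsum ((ρ g : GL ι F) : Matrix ι ι F) (orderOf g) *ᵥ v) :=
    prod_act (ρ g) (orderOf g) v
  rw [hP] at h
  refine ⟨fun h0 => h.1 ?_, fun h0 => h.2 ?_⟩
  · rw [h0]; rfl
  · intro h1
    exact h0 (Multiplicative.ofAdd.injective h1)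

theorem exists_mulVec_ne {M : Matrix ι ι F} (hM : M ≠ 0) : ∃ v : ι → F, M *ᵥ v ≠ 0 := by
  by_contra hcon
  push Not at hcon
  apply hM
  apply Matrix.mulVec_injective
  funext v
  rw [hcon v, Matrix.zero_mulVec]

end act

end Cfsg.Agent.Lib.H11.S8V
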