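import Mathlib
import Cfsg.Agent.Lib.H11.S8V7
import Cfsg.Agent.Lib.H11.S8V6
import Cfsg.Agent.Lib.H11.S8V2
import Cfsg.Agent.Lib.H11.S8O1
import Cfsg.Agent.Lib.H11.S8O3
import Cfsg.Agent.Lib.H11.EOB6
import Cfsg.Agent.Lib.H13.RankParity
import Cfsg.Agent.Lib.H13.Disc

/-!
# S3590, part 8: `V ⋊ Ω₈⁻(q)` and `Sp₈(q)` have the same element orders, `q` even
-/

set_option autoImplicit false

namespace Cfsg.Agent.Lib.H11.S8V

open Matrix Cfsg.Agent.Lib.H11.S8O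
open scoped MatrixGroups

theorem exists_orderOf_of_dvd {G : Type*} [Group G] (x : G) (d : ℕ) (hd : d ∣ orderOf x)
    (hpos : 0 < orderOf x) : ∃ y : G, orderOf y = d := by
  have hdpos : 0 < d := Nat.pos_of_dvd_of_pos hd hpos
  refine ⟨x ^ (orderOf x / d), ?_⟩
  rw [orderOf_pow_of_dvd (Nat.div_pos (Nat.le_of_dvd hpos hd) hdpos).ne'
    (Nat.div_dvd_of_dvd hd), Nat.div_div_self hd hpos.ne']

section rank

variable {F : Type*} [Field F] [Fintype F] [CharP F 2] {ι : Type} [Fintype ι] [DecidableEq ι]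

theorem even_rank_of_mem (Qf : QuadraticForm F (ι → F)) (Q' : (ι → F) → F) (hQ' : ⇑Qf = Q')
    (hnd : (QuadraticMap.polarBilin Qf).Nondegenerate)
    (h : Nat.card F ≠ 2 ∨ Fintype.card ι ≠ 4) (g : ↥(Cfsg.isometryGroup F Q'))
    (hg : g ∈ Cfsg.Omega F Q') : Even (mat g - 1).rank := by
  subst hQ'
  exact (Cfsg.Agent.Lib.H13.RankParity.mem_Omega_iff_even_rank Qf hnd h g).mp hg

end rank

section main

variable {F : Type*} [Field F] [Fintype F] [CharP F 2] (a b : F)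
  (hab : ∀ z₁ z₂ : F, z₁ ^ 2 + a * z₁ * z₂ + b * z₂ ^ 2 = 0 → z₁ = 0 ∧ z₂ = 0)

/-- `Ω₈⁻(q) → GL₈(q)` -/
noncomputable def rhoΩ : ↥(Cfsg.Omega F (Cfsg.quadFormMinus 3 F a b)) →* GL (IM 3) F :=
  (Cfsg.isometryGroup F (Cfsg.quadFormMinus 3 F a b)).subtype.comp
    (Cfsg.Omega F (Cfsg.quadFormMinus 3 F a b)).subtype

/-- the group `V ⋊ Ω₈⁻(q)` -/
abbrev G1 : Type _ :=
  Multiplicative (IM 3 → F) ⋊[(act (F := F) (ι := IM 3)).comp (rhoΩ a b)]
    ↥(Cfsg.Omega F (Cfsg.quadFormMinus 3 F a b))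

include hab

theorem upper_Ω (g : ↥(Cfsg.isometryGroup F (Cfsg.quadFormMinus 3 F a b)))
    (hg : g ∈ Cfsg.Omega F (Cfsg.quadFormMinus 3 F a b))
    (hS : gsum (mat g) (orderOf g) ≠ 0) :
    ∃ N ∈ specL (Fintype.card F), 2 * orderOf g ∣ N := by
  have hcard : Fintype.card (IM 3) = 8 := by
    simp only [IM, Fintype.card_sum, Fintype.card_fin]
  refine upper_core hcard (mat g) (Cfsg.Agent.Lib.H13.gramMinus 3 F a b)
    (Cfsg.Agent.Lib.H11.EOB.isUnit_gramMinus 3 a b hab)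
    (Cfsg.Agent.Lib.H11.EOB.isometry_form _ _ (Cfsg.Agent.Lib.H13.polar_quadFormMinus 3 a b) g.1 g.2)
    (orderOf g) (orderOf_pos g) (mat_pow_orderOf g) ?_ hS ?_
  · intro k hk
    apply orderOf_dvd_of_pow_eq_one
    apply Subtype.ext
    apply Units.ext
    rw [← mat_pow] at hk
    exact hk
  · refine even_rank_of_mem (Cfsg.Agent.Lib.H13.minusQF F 3 a b) _
      (Cfsg.Agent.S0288.coe_minusQF 3 a b) (Cfsg.Agent.S0288.nondeg a b hab 3) (Or.inr ?_) g hg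
    rw [hcard]
    norm_num

theorem spec_G1 :
    Set.range (orderOf : G1 a b → ℕ) = Set.range (orderOf : Cfsg.PSp 4 F → ℕ) := by
  classical
  have ha : a ≠ 0 := a_ne_zero a b hab
  apply Set.eq_of_subset_of_subset
  · rintro n ⟨⟨x, g⟩, rfl⟩
    obtain ⟨v, rfl⟩ : ∃ v : IM 3 → F, Multiplicative.ofAdd v = x := ⟨Multiplicative.toAdd x, rfl⟩
    have hgpos : 0 < orderOf g := orderOf_pos g
    have hsd := sd_orderOf_act (rhoΩ a b) v g hgpos
    have hog : orderOf g = orderOf g.1 := (Subgroup.orderOf_coe g).symm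
    by_cases h0 : gsum ((rhoΩ a b g : GL (IM 3) F) : Matrix (IM 3) (IM 3) F) (orderOf g) *ᵥ v = 0
    · obtain ⟨p, hp⟩ := exists_psp_orderOf 3 a b ha g.1
      refine ⟨p, ?_⟩
      show orderOf p = orderOf (⟨Multiplicative.ofAdd v, g⟩ : G1 a b)
      rw [hsd.1 h0, hp, hog]
    · have hS : gsum (mat g.1) (orderOf g.1) ≠ 0 := by
        intro hz
        apply h0
        rw [hog]
        show gsum (mat g.1) (orderOf g.1) *ᵥ v = 0
        rw [hz, Matrix.zero_mulVec]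
      obtain ⟨N, hN, hdvd⟩ := upper_Ω a b hab g.1 g.2 hS
      obtain ⟨h, hh, hord⟩ := realize a b hab N hN
      have hx : orderOf (⟨h, hh⟩ : ↥(Cfsg.isometryGroup F (Cfsg.quadFormMinus 3 F a b))) = N := by
        rw [Subgroup.orderOf_mk, hord]
      have hNpos : 0 < N := by rw [← hord]; exact orderOf_pos h
      obtain ⟨y, hy⟩ := exists_orderOf_of_dvd
        (⟨h, hh⟩ : ↥(Cfsg.isometryGroup F (Cfsg.quadFormMinus 3 F a b))) (2 * orderOf g.1)
        (by rw [hx]; exact hdvd) (by rw [hx]; exact hNpos)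
      obtain ⟨p, hp⟩ := exists_psp_orderOf 3 a b ha y
      refine ⟨p, ?_⟩
      show orderOf p = orderOf (⟨Multiplicative.ofAdd v, g⟩ : G1 a b)
      rw [hsd.2 h0, hp, hy, hog]
  · rintro n ⟨g, rfl⟩
    obtain ⟨g', rfl⟩ := QuotientGroup.mk_surjective g
    obtain ⟨N, hN, hdvd⟩ := sp8_orderOf_dvd g'
    have hd : orderOf (QuotientGroup.mk g' : Cfsg.PSp 4 F) ∣ N :=
      (orderOf_map_dvd (QuotientGroup.mk' (Subgroup.center (Matrix.symplecticGroup (Fin 4) F))) g').trans hdvd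
    obtain ⟨g₀, hΩ, hcase⟩ := realizeΩ a b hab N hN
    have hg₀pos : 0 < orderOf g₀ := orderOf_pos g₀
    have hog : orderOf (⟨g₀, hΩ⟩ : ↥(Cfsg.Omega F (Cfsg.quadFormMinus 3 F a b))) = orderOf g₀ :=
      Subgroup.orderOf_mk _ _
    have key : ∃ z : G1 a b, orderOf z = N := by
      rcases hcase with h1 | ⟨h1, h2⟩
      · have hsd := sd_orderOf_act (rhoΩ a b) (0 : IM 3 → F)
          (⟨g₀, hΩ⟩ : ↥(Cfsg.Omega F (Cfsg.quadFormMinus 3 F a b))) (by rw [hog]; exact hg₀pos)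
        refine ⟨⟨Multiplicative.ofAdd 0, ⟨g₀, hΩ⟩⟩, ?_⟩
        rw [hsd.1 (Matrix.mulVec_zero _), hog, h1]
      · obtain ⟨v, hv⟩ := exists_mulVec_ne h2
        have hsd := sd_orderOf_act (rhoΩ a b) v
          (⟨g₀, hΩ⟩ : ↥(Cfsg.Omega F (Cfsg.quadFormMinus 3 F a b))) (by rw [hog]; exact hg₀pos)
        refine ⟨⟨Multiplicative.ofAdd v, ⟨g₀, hΩ⟩⟩, ?_⟩
        rw [hsd.2 (by rw [hog]; exact hv), hog, h1]
    obtain ⟨z, hz⟩ := key
    have hNpos : 0 < N := Nat.pos_of_ne_zero (by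
      rintro rfl
      rcases hcase with h1 | ⟨h1, _⟩
      · omega
      · omega)
    obtain ⟨y, hy⟩ := exists_orderOf_of_dvd z (orderOf (QuotientGroup.mk g' : Cfsg.PSp 4 F))
      (by rw [hz]; exact hd) (by rw [hz]; exact hNpos)
    exact ⟨y, hy⟩

end main

end Cfsg.Agent.Lib.H11.S8V
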