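import Mathlib
import Cfsg.Agent.Lib.H11.S8V8
import Cfsg.Agent.Lib.H13.MinusFix
import Cfsg.Agent.Lib.H17.LargeIsospectral

/-!
# S3590, part 9: arbitrarily large groups isospectral to `Sp₈(q)`, `q` even
-/

set_option autoImplicit false

namespace Cfsg.Agent.Lib.H11.S8V

open Matrix
open scoped MatrixGroups

variable {F : Type*} [Field F] [Fintype F] [CharP F 2]

theorem large_isospectral (M : ℕ) :
    ∃ (H : Type) (_ : Group H) (_ : Fintype H), M < Fintype.card H ∧
      Set.range (orderOf : H → ℕ) = Set.range (orderOf : Cfsg.PSp 4 F → ℕ) := by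
  classical
  obtain ⟨ζ, hζ⟩ := Cfsg.Agent.Lib.H13.MinusFix.exists_irred F
  have hab := Cfsg.Agent.Lib.H13.MinusFix.aniso_of_irred ζ hζ
  rw [← spec_G1 1 ζ hab]
  haveI hfin : Finite (G1 (1 : F) ζ) :=
    Finite.of_equiv _ (SemidirectProduct.equivProd (N := Multiplicative (IM 3 → F))
      (G := ↥(Cfsg.Omega F (Cfsg.quadFormMinus 3 F 1 ζ)))
      (φ := (act (F := F) (ι := IM 3)).comp (rhoΩ 1 ζ))).symm
  haveI hnorm : ((SemidirectProduct.inl : Multiplicative (IM 3 → F) →* G1 (1 : F) ζ).range).Normal := by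
    rw [SemidirectProduct.range_inl_eq_ker_rightHom]
    infer_instance
  refine Cfsg.Agent.Lib.H17.exists_large_isospectral_of_elemAb
    ((SemidirectProduct.inl : Multiplicative (IM 3 → F) →* G1 (1 : F) ζ).range) ?_ 2 Nat.prime_two
    ?_ ?_ M
  · intro hbot
    have hmem : (SemidirectProduct.inl (Multiplicative.ofAdd (fun _ => (1 : F)) :
        Multiplicative (IM 3 → F)) : G1 (1 : F) ζ) ∈
        (SemidirectProduct.inl : Multiplicative (IM 3 → F) →* G1 (1 : F) ζ).range := ⟨_, rfl⟩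
    rw [hbot, Subgroup.mem_bot] at hmem
    have h1 : (Multiplicative.ofAdd (fun _ => (1 : F)) : Multiplicative (IM 3 → F)) = 1 := by
      apply SemidirectProduct.inl_injective (φ := (act (F := F) (ι := IM 3)).comp (rhoΩ 1 ζ))
        (G := ↥(Cfsg.Omega F (Cfsg.quadFormMinus 3 F 1 ζ)))
      rw [hmem, map_one]
    have h2 : (fun _ : IM 3 => (1 : F)) = 0 := Multiplicative.ofAdd.injective h1
    have h3 := congrFun h2 (Sum.inr 0)
    exact one_ne_zero h3
  · rintro ⟨x, ⟨u, rfl⟩⟩ ⟨y, ⟨w, rfl⟩⟩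
    apply Subtype.ext
    show SemidirectProduct.inl u * SemidirectProduct.inl w =
      SemidirectProduct.inl w * SemidirectProduct.inl u
    rw [← map_mul, ← map_mul, mul_comm]
  · rintro ⟨x, ⟨u, rfl⟩⟩
    apply Subtype.ext
    show (SemidirectProduct.inl u) ^ 2 = 1
    rw [← map_pow, pow_two, mul_self_mult, map_one]

end Cfsg.Agent.Lib.H11.S8V
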