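/-
S4625 (architect helper6), piece OPLUS: `Ω⁺_{2m}(F)`, `m ≥ 3`, characteristic 2: the Sylow 2-subgroups have
elementary abelian abelianisation.  (`U = Uo` of S2548, generated by the UPPER short root elements, which are
involutions in characteristic 2.)
-/
import Cfsg.Agent.Lib.H25.DBNFinal
import Cfsg.Agent.Lib.H6.SEADefs
import Cfsg.Agent.Lib.H6.SEARoot

set_option autoImplicit false
set_option linter.unusedSimpArgs false
set_option linter.unusedVariables false
set_option linter.unusedSectionVars false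

namespace Cfsg.Agent.Lib.H11.SEA

open Matrix Cfsg.Agent.Lib.H12.DCos Cfsg.Agent.Lib.H8.FBN Cfsg.Agent.Lib.H8.SpBN Cfsg.Agent.Lib.H8.BNRoot
  Cfsg.Agent.Lib.H8.BNRes Cfsg.Agent.Lib.H8.BNSteinberg Cfsg.Agent.Lib.H25.SubBN
open Cfsg.Agent.Lib.H6.FBN (Us_isPGroup card_Ts_coprime)
open Cfsg.Agent.Lib.H25.DBNP
open Cfsg.Agent.Lib.H25.DBN
open Cfsg.Agent.Lib.H25.FBN (xSm_isUp)
open Cfsg Cfsg.Agent.Lib.H6.SEA

variable {F : Type*} [Field F] {n : ℕ}

/-- the UPPER short root elements -/
def upSet (hn : n % 2 = 0) : Set (GA F n) :=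
  {g | ∃ (a b : Fin n) (hab : a < b) (_ : a ≠ b.rev) (c : F), g = xS hn a b (ne_of_lt hab) c}

theorem upSet_subset_Uo (hn : n % 2 = 0) : upSet (F := F) hn ⊆ ((Uo : Subgroup (GA F n)) : Set (GA F n)) := by
  rintro _ ⟨a, b, hab, hab', c, rfl⟩
  exact xS_mem_Uo hn a b hab hab' c

/-- clearing row `k` between the columns `k` and `rev k` -/
theorem clear_row_up (hn : n % 2 = 0) (k : ℕ) (hk : k < n / 2) :
    ∀ (d l : ℕ), k < l → l + d = n - 1 - k → ∀ u : GA F n, u ∈ Uo →
      URows k (u.1 : Matrix (Fin n) (Fin n) F) →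
      (∀ i c : Fin n, (i : ℕ) = k → k < (c : ℕ) → (c : ℕ) < l → (u.1 : Matrix (Fin n) (Fin n) F) i c = 0) →
      ∃ x ∈ Subgroup.closure (upSet (F := F) hn), x ∈ Uo ∧
        URows k ((u * x).1 : Matrix (Fin n) (Fin n) F) ∧
        ∀ i c : Fin n, (i : ℕ) = k → k < (c : ℕ) → (c : ℕ) < n - 1 - k →
          ((u * x).1 : Matrix (Fin n) (Fin n) F) i c = 0 := by
  intro d
  induction d with
  | zero =>
    intro l hkl hl u hu hR hz
    refine ⟨1, Subgroup.one_mem _, Subgroup.one_mem _, by rwa [mul_one], ?_⟩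
    intro i c hi hc1 hc2
    rw [mul_one]
    exact hz i c hi hc1 (by omega)
  | succ d ih =>
    intro l hkl hl u hu hR hz
    set kk : Fin n := ⟨k, by omega⟩ with hkkdef
    set cl : Fin n := ⟨l, by omega⟩ with hcldef
    have hkkv : (kk : ℕ) = k := rfl
    have hclv : (cl : ℕ) = l := rfl
    have hlt : kk < cl := by rw [Fin.lt_def, hkkv, hclv]; exact hkl
    have hne' : kk ≠ cl.rev := by
      intro h; have := congrArg Fin.val h; rw [Fin.val_rev, hkkv, hclv] at this; omega
    set e : F := -((u.1 : Matrix (Fin n) (Fin n) F) kk cl) with he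
    set x : GA F n := xS hn kk cl (ne_of_lt hlt) e with hx
    have hxU : x ∈ Uo := xS_mem_Uo hn kk cl hlt hne' e
    have hxK : x ∈ Subgroup.closure (upSet (F := F) hn) :=
      Subgroup.subset_closure ⟨kk, cl, hlt, hne', e, rfl⟩
    have hxv : (x.1 : Matrix (Fin n) (Fin n) F) = xSm (RingHom.id F) kk cl e := rfl
    have huxU : u * x ∈ Uo := Uo.mul_mem hu hxU
    have hR' : URows k ((u * x).1 : Matrix (Fin n) (Fin n) F) := by
      intro i c hi
      have hi2 := i.2
      have hc2 := c.2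
      rw [val_mul, hxv, mul_xSm_apply, hR i c hi, hR i kk hi, hR i cl.rev hi,
        Matrix.one_apply_ne (show i ≠ kk from fun h => by have := congrArg Fin.val h; rw [hkkv] at this; omega),
        Matrix.one_apply_ne (show i ≠ cl.rev from fun h => by
          have := congrArg Fin.val h; rw [Fin.val_rev, hclv] at this; omega)]
      simp
    have hz' : ∀ i c : Fin n, (i : ℕ) = k → k < (c : ℕ) → (c : ℕ) < l + 1 →
        ((u * x).1 : Matrix (Fin n) (Fin n) F) i c = 0 := by
      intro i c hi hc1 hc2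
      have hik : i = kk := Fin.ext (by rw [hi])
      subst hik
      have hc3 := c.2
      rw [val_mul, hxv, mul_xSm_apply]
      have hcr : c ≠ kk.rev := by
        intro h; have := congrArg Fin.val h; rw [Fin.val_rev, hkkv] at this; omega
      rw [if_neg hcr, sub_zero]
      by_cases hcl : c = cl
      · subst hcl
        rw [if_pos rfl, hu.1.2 kk, he]
        ring
      · rw [if_neg hcl, add_zero]
        apply hz kk c hkkv hc1
        have : (c : ℕ) ≠ l := fun h => hcl (Fin.ext h)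
        omega
    obtain ⟨y, hyK, hyU, hyR, hyz⟩ := ih (l + 1) (by omega) (by omega) (u * x) huxU hR' hz'
    refine ⟨x * y, Subgroup.mul_mem _ hxK hyK, Uo.mul_mem hxU hyU, ?_, ?_⟩
    · rw [← mul_assoc]; exact hyR
    · rw [← mul_assoc]; exact hyz


/-- one more unit row -/
theorem step_row_up (hn : n % 2 = 0) (k : ℕ) (hk : k < n / 2) (u : GA F n) (hu : u ∈ Uo)
    (hR : URows k (u.1 : Matrix (Fin n) (Fin n) F)) :
    ∃ x ∈ Subgroup.closure (upSet (F := F) hn), x ∈ Uo ∧ URows (k + 1) ((u * x).1 : Matrix (Fin n) (Fin n) F) := by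
  obtain ⟨x, hxK, hxU, hxR, hxz⟩ := clear_row_up hn k hk (n - 1 - k - (k + 1)) (k + 1) (by omega) (by omega) u hu hR
    (by intro i c _ h1 h2; omega)
  refine ⟨x, hxK, hxU, ?_⟩
  set v : GA F n := u * x with hv
  have hvU : v ∈ Uo := Uo.mul_mem hu hxU
  set kk : Fin n := ⟨k, by omega⟩ with hkkdef
  have hkkv : (kk : ℕ) = k := rfl
  have hkr : (kk.rev : ℕ) = n - 1 - k := by rw [Fin.val_rev, hkkv]; omega
  -- the entry at `(k, rev k)` vanishes
  have hmid : (v.1 : Matrix (Fin n) (Fin n) F) kk kk.rev = 0 := by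
    have hs : (∑ t : Fin n, if t < t.rev then (v.1 : Matrix (Fin n) (Fin n) F) kk t.rev *
        (v.1 : Matrix (Fin n) (Fin n) F) kk t.rev.rev else 0) = 0 := Qf_row_of_mem_GO v hvU.2 kk
    rw [Finset.sum_eq_single kk] at hs
    · rw [if_pos (by rw [Fin.lt_def, hkr, hkkv]; omega), Fin.rev_rev, hvU.1.2 kk, mul_one] at hs
      exact hs
    · intro t _ htk
      by_cases ht : t < t.rev
      · rw [if_pos ht, Fin.rev_rev]
        have ht2 := t.2
        have h1 := Fin.lt_def.mp ht
        rw [Fin.val_rev] at h1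
        have h2 : (t : ℕ) ≠ k := fun h => htk (Fin.ext h)
        rcases Nat.lt_or_ge (t : ℕ) k with h3 | h3
        · -- column `rev t > rev k`
          rw [col_of_URows k v hxR kk t.rev (by rw [Fin.val_rev]; omega), Matrix.one_apply_ne, zero_mul]
          intro h; have := congrArg Fin.val h; rw [Fin.val_rev, hkkv] at this; omega
        · rw [hxz kk t hkkv (by omega) (by omega), mul_zero]
      · rw [if_neg ht]
    · intro h'; exact absurd (Finset.mem_univ _) h'
  intro i c hi
  rcases Nat.lt_succ_iff_lt_or_eq.mp hi with hi' | hi'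
  · exact hxR i c hi'
  · have hik : i = kk := Fin.ext (by rw [hi'])
    subst hik
    have hc2 := c.2
    rcases lt_trichotomy (c : ℕ) k with h | h | h
    · rw [hvU.1.1 kk c (by rw [Fin.lt_def, hkkv]; exact h), Matrix.one_apply_ne]
      intro h'; have := congrArg Fin.val h'; rw [hkkv] at this; omega
    · have : c = kk := Fin.ext (by rw [h])
      subst this
      rw [hvU.1.2 kk, Matrix.one_apply_eq]
    · rw [Matrix.one_apply_ne (show kk ≠ c from fun h' => by have := congrArg Fin.val h'; rw [hkkv] at this; omega)]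
      rcases lt_trichotomy (c : ℕ) (n - 1 - k) with h1 | h1 | h1
      · exact hxz kk c hkkv h h1
      · have : c = kk.rev := Fin.ext (by rw [hkr, h1])
        rw [this]
        exact hmid
      · rw [col_of_URows k v hxR kk c h1, Matrix.one_apply_ne]
        intro h'; have := congrArg Fin.val h'; rw [hkkv] at this; omega

theorem mem_closure_of_URows_up (hn : n % 2 = 0) :
    ∀ (d k : ℕ), k + d = n / 2 → ∀ u : GA F n, u ∈ Uo → URows k (u.1 : Matrix (Fin n) (Fin n) F) →
      u ∈ Subgroup.closure (upSet (F := F) hn) := by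
  intro d
  induction d with
  | zero =>
    intro k hk u hu hR
    rw [add_zero] at hk
    rw [hk] at hR
    rw [eq_one_of_URows hn u hu hR]
    exact Subgroup.one_mem _
  | succ d ih =>
    intro k hk u hu hR
    obtain ⟨x, hxK, hxU, hxR⟩ := step_row_up hn k (by omega) u hu hR
    have h1 := ih (k + 1) (by omega) (u * x) (Uo.mul_mem hu hxU) hxR
    have e : u = (u * x) * x⁻¹ := by group
    rw [e]
    exact Subgroup.mul_mem _ h1 (Subgroup.inv_mem _ hxK)


theorem Uo_le_closure_up (hn : n % 2 = 0) :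
    (Uo : Subgroup (GA F n)) ≤ Subgroup.closure (upSet (F := F) hn) := by
  intro u hu
  apply mem_closure_of_URows_up hn (n / 2) 0 (by omega) u hu
  intro i l hi
  exact absurd hi (Nat.not_lt_zero _)

/-! ### the upper short root elements are involutions in characteristic two -/

theorem xS_mul_self [CharP F 2] (hn : n % 2 = 0) (a b : Fin n) (hab : a ≠ b) (c : F) :
    xS hn a b hab c * xS hn a b hab c = 1 := by
  apply ext_val
  rw [val_mul, val_one, xS_val]
  unfold xSm
  rw [RingHom.id_apply]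
  have hra : a.rev ≠ a := fun h => ne_rev hn a h.symm
  have hrb : b ≠ b.rev := ne_rev hn b
  have hrab : a.rev ≠ b.rev := fun h => hab (Fin.rev_injective h)
  have h11 : Matrix.single a b c * Matrix.single a b c = 0 :=
    Matrix.single_mul_single_of_ne _ _ _ _ (Ne.symm hab) _
  have h12 : Matrix.single a b c * Matrix.single b.rev a.rev c = 0 :=
    Matrix.single_mul_single_of_ne _ _ _ _ hrb _
  have h21 : Matrix.single b.rev a.rev c * Matrix.single a b c = 0 :=
    Matrix.single_mul_single_of_ne _ _ _ _ hra _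
  have h22 : Matrix.single b.rev a.rev c * Matrix.single b.rev a.rev c = 0 :=
    Matrix.single_mul_single_of_ne _ _ _ _ hrab _
  have hcc : c + c = 0 := CharTwo.add_self_eq_zero c
  have e1 : Matrix.single a b c + Matrix.single a b c = (0 : Matrix (Fin n) (Fin n) F) := by
    rw [← Matrix.single_add, hcc, Matrix.single_zero]
  have e2 : Matrix.single b.rev a.rev c + Matrix.single b.rev a.rev c = (0 : Matrix (Fin n) (Fin n) F) := by
    rw [← Matrix.single_add, hcc, Matrix.single_zero]
  have key : (1 + Matrix.single a b c - Matrix.single b.rev a.rev c) *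
      (1 + Matrix.single a b c - Matrix.single b.rev a.rev c) =
      1 + (Matrix.single a b c + Matrix.single a b c) - (Matrix.single b.rev a.rev c + Matrix.single b.rev a.rev c)
        + Matrix.single a b c * Matrix.single a b c - Matrix.single a b c * Matrix.single b.rev a.rev c
        - Matrix.single b.rev a.rev c * Matrix.single a b c
        + Matrix.single b.rev a.rev c * Matrix.single b.rev a.rev c := by
    noncomm_ring
  rw [key, h11, h12, h21, h22, e1, e2]
  simp

theorem xS_sq [CharP F 2] (hn : n % 2 = 0) (a b : Fin n) (hab : a ≠ b) (c : F) :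
    (xS hn a b hab c) ^ 2 = 1 := by
  rw [pow_two]; exact xS_mul_self hn a b hab c

/-- pulling a closure back along an injective hom -/
theorem mem_closure_preimage_of_injective {A B : Type*} [Group A] [Group B] (f : A →* B)
    (hf : Function.Injective f) (S : Set B) (hS : S ⊆ Set.range f) (x : A)
    (hx : f x ∈ Subgroup.closure S) : x ∈ Subgroup.closure (f ⁻¹' S) := by
  have h1 : Subgroup.closure S = (Subgroup.closure (f ⁻¹' S)).map f := by
    rw [MonoidHom.map_closure, Set.image_preimage_eq_of_subset hS]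
  rw [h1] at hx
  obtain ⟨y, hy, hyx⟩ := hx
  rw [← hf hyx]
  exact hy

variable [Fintype F]

theorem sylEA_OmA [CharP F 2] (hn : n % 2 = 0) (h6 : 6 ≤ n) :
    SylEA ↥(OmA : Subgroup (GA F n)) := by
  classical
  have : Fact (Nat.Prime 2) := ⟨Nat.prime_two⟩
  have h4 : 4 ≤ n := by omega
  let PA := ambBN (F := F) hn h4
  let DA := ambRoot (F := F) hn h4
  let P := PA.toBN
  let D := DA.toRootData
  have hGd : PA.G = Hd := rfl
  let G' : Subgroup ↥PA.G := (OmA : Subgroup (GA F n)).subgroupOf PA.G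
  have hcovA : ∀ h : ↥PA.G, ∃ t : ↥PA.G, (t : GA F n) ∈ Ts (RingHom.id F) ∧ h * t ∈ G' := by
    intro h
    obtain ⟨t, ht, h1⟩ := covers_D hn h6 (h : GA F n) h.2
    exact ⟨⟨t, PA.B_le (Ts_le_Bo hn ht)⟩, ht, Subgroup.mem_subgroupOf.mpr h1⟩
  have hTBN : ∀ t : ↥PA.G, (t : GA F n) ∈ Ts (RingHom.id F) → t ∈ P.B ⊓ P.N := by
    intro t ht
    exact ⟨(AmbBN.mem_toBN_B PA t).mpr (Ts_le_Bo hn ht), (AmbBN.mem_toBN_N PA t).mpr (Ts_le_Nd ht)⟩
  have hcov : Covers P G' := by
    intro h
    obtain ⟨t, ht, h'⟩ := hcovA h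
    exact ⟨t, hTBN t ht, h'⟩
  choose τ hτ1 hτ2 using hcovA
  have hτ : ∀ s ∈ P.S, τ s ∈ P.B ⊓ P.N := fun s _ => hTBN _ (hτ1 s)
  have hτG : ∀ s ∈ P.S, s * τ s ∈ G' := fun s _ => hτ2 s
  have hτT : ∀ i, τ (D.e i) ∈ D.T := fun i => Subgroup.mem_subgroupOf.mpr (hτ1 _)
  have hUG : D.U ≤ G' := by
    intro u hu
    have hu' : (u : GA F n) ∈ Uo := Subgroup.mem_subgroupOf.mp hu
    exact Subgroup.mem_subgroupOf.mpr (Uo_le_OmA hn h6 hu')
  have hXG : ∀ i, D.X i ⊆ ((G' : Subgroup ↥PA.G) : Set ↥PA.G) := by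
    intro i x hx
    exact Subgroup.mem_subgroupOf.mpr (XD_subset_OmA hn h6 i _ hx)
  have hYG : ∀ i, D.Y i ⊆ ((G' : Subgroup ↥PA.G) : Set ↥PA.G) := by
    intro i y hy
    exact Subgroup.mem_subgroupOf.mpr (YD_subset_OmA hn h6 i _ hy)
  let D' := D.restrict G' hcov τ hτ hτG hτT hXG hYG hUG
  -- injections into `Us`, `Ts`
  let fU : ↥D'.U →* ↥(Us (n := n) (RingHom.id F)) :=
    { toFun := fun x => ⟨(((x : ↥G') : ↥PA.G) : GA F n), by
        have h1 : ((x : ↥G') : ↥PA.G) ∈ D.U := Subgroup.mem_subgroupOf.mp x.2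
        have h2 : (((x : ↥G') : ↥PA.G) : GA F n) ∈ Uo := Subgroup.mem_subgroupOf.mp h1
        exact h2.1⟩
      map_one' := rfl
      map_mul' := fun _ _ => rfl }
  have hfU : Function.Injective fU := by
    intro x y h
    apply Subtype.ext
    apply Subtype.ext
    apply Subtype.ext
    exact congrArg (fun z : ↥(Us (n := n) (RingHom.id F)) => (z : GA F n)) h
  let fT : ↥D'.T →* ↥(Ts (n := n) (RingHom.id F)) :=
    { toFun := fun x => ⟨(((x : ↥G') : ↥PA.G) : GA F n), by
        have h1 : ((x : ↥G') : ↥PA.G) ∈ D.T := Subgroup.mem_subgroupOf.mp x.2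
        exact Subgroup.mem_subgroupOf.mp h1⟩
      map_one' := rfl
      map_mul' := fun _ _ => rfl }
  have hfT : Function.Injective fT := by
    intro x y h
    apply Subtype.ext
    apply Subtype.ext
    apply Subtype.ext
    exact congrArg (fun z : ↥(Ts (n := n) (RingHom.id F)) => (z : GA F n)) h
  have hU' : IsPGroup 2 ↥D'.U := (Us_isPGroup (n := n) (RingHom.id F) 2).of_injective fU hfU
  have hT' : (Nat.card ↥D'.T).Coprime 2 :=
    Nat.Coprime.coprime_dvd_left (Subgroup.card_dvd_of_injective fT hfT) (card_Ts_coprime (n := n) (RingHom.id F) 2)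
  -- the generators
  let ι : ↥G' →* GA F n := (PA.G.subtype).comp G'.subtype
  have hι : Function.Injective ι := by
    intro x y h
    apply Subtype.ext
    apply Subtype.ext
    exact h
  let S' : Set ↥G' := ι ⁻¹' (upSet (F := F) hn)
  have hSU : S' ⊆ ((D'.U : Subgroup ↥G') : Set ↥G') := by
    intro s hs
    have h1 : ι s ∈ Uo := upSet_subset_Uo hn hs
    exact Subgroup.mem_subgroupOf.mpr (Subgroup.mem_subgroupOf.mpr h1)
  have hrange : upSet (F := F) hn ⊆ Set.range ι := by
    intro g hg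
    have hgU : g ∈ Uo := upSet_subset_Uo hn hg
    have hgO : g ∈ OmA := Uo_le_OmA hn h6 hgU
    have hgG : g ∈ PA.G := OmA_le_Hd hn h4 hgO
    exact ⟨⟨⟨g, hgG⟩, Subgroup.mem_subgroupOf.mpr hgO⟩, rfl⟩
  have hgen : D'.U ≤ Subgroup.closure S' := by
    intro u hu
    have h1 : ((u : ↥G') : ↥PA.G) ∈ D.U := Subgroup.mem_subgroupOf.mp hu
    have h2 : ι u ∈ Uo := Subgroup.mem_subgroupOf.mp h1
    exact mem_closure_preimage_of_injective ι hι _ hrange u (Uo_le_closure_up hn h2)
  have hsq : ∀ s ∈ S', s ^ 2 = 1 := by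
    intro s hs
    obtain ⟨a, b, hab, hab', c, hc⟩ := hs
    apply hι
    rw [map_pow, hc, map_one]
    exact xS_sq hn a b (ne_of_lt hab) c
  have key : SylEA ↥G' :=
    sylEA_of_rootData D' hU' hT' S' hSU hgen (fun s hs => by rw [hsq s hs]; exact Subgroup.one_mem _)
  have hle : (OmA : Subgroup (GA F n)) ≤ PA.G := OmA_le_Hd hn h4
  exact SylEA.of_equiv (Subgroup.subgroupOfEquivOfLe hle).symm key

/-- **S4625, piece OPLUS** -/
theorem sylEA_OmegaPlus (F : Type*) [Field F] [Fintype F] [CharP F 2] (m : ℕ) (hm : 3 ≤ m) :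
    SylEA (Omega F (quadFormPlus m F)) := by
  obtain ⟨ψ⟩ := nonempty_iso_plus (F := F) m
  have h1 : SylEA ↥(OmA : Subgroup (GA F (2 * m))) := sylEA_OmA (F := F) (n := 2 * m) (by omega) (by omega)
  have e : ↥(OmA : Subgroup (GA F (2 * m))) ≃* Omega F (quadFormPlus m F) :=
    OmAEquiv.trans (Cfsg.Agent.Lib.H11.OmegaSimple.commutatorCongr ψ)
  exact SylEA.of_equiv e.symm h1

end Cfsg.Agent.Lib.H11.SEA
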