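/-
S4625 (architect helper6), tower-free algebra for piece TF4 (`²F₄(q)`, helper12): the Suzuki-type class groups
`A = {c t u}`, `c t u * c t' u' = c (t+t') (u+u'+θ t * t')`, `θ = (·)^(2^m)`, `|K| = 2^(2m+1)`, `m ≥ 1`:
every `c 0 x` is a commutator `⁅c t 0, c s 0⁆`, hence every square `(c t u)^2 = c 0 (θ t * t)` is a commutator.
-/
import Mathlib

set_option autoImplicit false

namespace Cfsg.Agent.Lib.H11.SEA

open scoped commutatorElement

/-- `gcd(2^m + 1, 2^(2m+1) - 1) = 1` -/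
theorem coprime_two_pow_succ (m : ℕ) : Nat.Coprime (2 ^ (2 * m + 1) - 1) (2 ^ m + 1) := by
  have hapos : 1 ≤ 2 ^ m := Nat.one_le_two_pow
  obtain ⟨b, hb⟩ : ∃ b, 2 ^ m = b + 1 := ⟨2 ^ m - 1, by omega⟩
  have e : 2 ^ (2 * m + 1) = 2 * (b + 1) * (b + 1) := by
    rw [← hb]; ring
  rw [e, hb]
  -- `2a² - 1 = (a+1)(2a-2) + 1`
  have h1 : 2 * (b + 1) * (b + 1) - 1 = (b + 1 + 1) * (2 * b) + 1 := by
    have : 2 * (b + 1) * (b + 1) = (b + 1 + 1) * (2 * b) + 1 + 1 := by ring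
    rw [this]
    rfl
  rw [h1, Nat.coprime_comm, Nat.coprime_mul_left_add_right]
  exact Nat.coprime_one_right _

variable {K : Type*} [Field K] [Fintype K]

/-- `t ↦ t^(2^m+1)` is surjective on a field with `2^(2m+1)` elements -/
theorem pow_two_pow_succ_surjective (m : ℕ) (hK : Fintype.card K = 2 ^ (2 * m + 1)) (x : K) :
    ∃ t : K, t ^ (2 ^ m + 1) = x := by
  classical
  by_cases hx : x = 0
  · exact ⟨0, by rw [hx, zero_pow (by positivity)]⟩
  · have hcard : Nat.card Kˣ = 2 ^ (2 * m + 1) - 1 := by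
      rw [Nat.card_eq_fintype_card, Fintype.card_units, hK]
    have hcop : (Nat.card Kˣ).Coprime (2 ^ m + 1) := by
      rw [hcard]; exact coprime_two_pow_succ m
    obtain ⟨y, hy⟩ := (powCoprime hcop).surjective (Units.mk0 x hx)
    refine ⟨(y : K), ?_⟩
    have := congrArg (fun u : Kˣ => (u : K)) hy
    simpa using this

/-- the twist `x ↦ x^(2^m)` is not the identity when `m ≥ 1` -/
theorem exists_pow_two_pow_ne (m : ℕ) (hm : 1 ≤ m) (hK : Fintype.card K = 2 ^ (2 * m + 1)) :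
    ∃ s : K, s ^ 2 ^ m ≠ s := by
  classical
  by_contra hcon
  have hcon' : ∀ s : K, s ^ 2 ^ m = s := by
    intro s
    by_contra h
    exact hcon ⟨s, h⟩
  obtain ⟨g, hg⟩ := IsCyclic.exists_generator (α := Kˣ)
  have h1 : g ^ (2 ^ m - 1) = 1 := by
    have h2 : (g : K) ^ 2 ^ m = g := hcon' g
    have h3 : (g : K) ^ (2 ^ m - 1) * g = 1 * g := by
      rw [← pow_succ, Nat.sub_add_cancel Nat.one_le_two_pow, one_mul]; exact h2
    have h4 : (g : K) ^ (2 ^ m - 1) = 1 := mul_right_cancel₀ g.ne_zero h3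
    exact Units.ext (by simpa using h4)
  have hord : orderOf g = 2 ^ (2 * m + 1) - 1 := by
    rw [orderOf_eq_card_of_forall_mem_zpowers hg, Nat.card_eq_fintype_card, Fintype.card_units, hK]
  have hdvd : 2 ^ (2 * m + 1) - 1 ∣ 2 ^ m - 1 := by
    rw [← hord]; exact orderOf_dvd_of_pow_eq_one h1
  have hpos : 0 < 2 ^ m - 1 := by
    have : 2 ^ 1 ≤ 2 ^ m := Nat.pow_le_pow_right (by norm_num) hm
    omega
  have hle := Nat.le_of_dvd hpos hdvd
  have hlt : 2 ^ m < 2 ^ (2 * m + 1) := Nat.pow_lt_pow_right (by norm_num) (by omega)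
  omega

/-- **the Suzuki-type commutator parameters fill the field**: every `x` is `t^θ s + s^θ t`, `θ = (·)^(2^m)` -/
theorem exists_suzuki_comm_param [CharP K 2] (m : ℕ) (hm : 1 ≤ m) (hK : Fintype.card K = 2 ^ (2 * m + 1)) (x : K) :
    ∃ t s : K, t ^ 2 ^ m * s + s ^ 2 ^ m * t = x := by
  obtain ⟨s0, hs0⟩ := exists_pow_two_pow_ne (K := K) m hm hK
  have hne : s0 + s0 ^ 2 ^ m ≠ 0 := by
    intro h
    apply hs0
    have := CharTwo.add_eq_zero.mp h
    exact this.symm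
  obtain ⟨t, ht⟩ := pow_two_pow_succ_surjective (K := K) m hK (x / (s0 + s0 ^ 2 ^ m))
  refine ⟨t, s0 * t, ?_⟩
  have e : t ^ 2 ^ m * (s0 * t) + (s0 * t) ^ 2 ^ m * t = t ^ (2 ^ m + 1) * (s0 + s0 ^ 2 ^ m) := by
    rw [mul_pow, pow_succ]; ring
  rw [e, ht, div_mul_cancel₀ _ hne]

/-- **abstract Suzuki-type law**: if `c t u * c t' u' = c (t + t') (u + u' + θ t * t')` with `θ x = x^(2^m)` on a field
of `2^(2m+1)` elements, `m ≥ 1`, then every `c 0 x` is a commutator of two elements `c t 0`, `c s 0` -/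
theorem suzuki_center_eq_comm [CharP K 2] {G : Type*} [Group G] (m : ℕ) (hm : 1 ≤ m)
    (hK : Fintype.card K = 2 ^ (2 * m + 1)) (θ : K → K) (hθ : ∀ x, θ x = x ^ 2 ^ m) (c : K → K → G)
    (hmul : ∀ t u t' u' : K, c t u * c t' u' = c (t + t') (u + u' + θ t * t')) (x : K) :
    ∃ t s : K, c 0 x = ⁅c t 0, c s 0⁆ := by
  obtain ⟨t, s, hts⟩ := exists_suzuki_comm_param (K := K) m hm hK x
  refine ⟨t, s, ?_⟩
  have hθ0 : θ 0 = 0 := by rw [hθ, zero_pow (by positivity)]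
  have key : c t 0 * c s 0 = c 0 x * (c s 0 * c t 0) := by
    rw [hmul, hmul, hmul, hθ0, hθ, hθ, ← hts]
    congr 1
    · ring
    · have h2 : s ^ 2 ^ m * t + s ^ 2 ^ m * t = 0 := CharTwo.add_self_eq_zero _
      calc 0 + 0 + t ^ 2 ^ m * s = t ^ 2 ^ m * s + (s ^ 2 ^ m * t + s ^ 2 ^ m * t) := by rw [h2]; ring
        _ = t ^ 2 ^ m * s + s ^ 2 ^ m * t + (0 + 0 + s ^ 2 ^ m * t) + 0 * (s + t) := by ring
  rw [commutatorElement_def, key]
  group

/-- the squares of the elements of a Suzuki-type family lie in the derived subgroup of any subgroup containing the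
family -/
theorem suzuki_sq_mem_commutator [CharP K 2] {G : Type*} [Group G] (m : ℕ) (hm : 1 ≤ m)
    (hK : Fintype.card K = 2 ^ (2 * m + 1)) (θ : K → K) (hθ : ∀ x, θ x = x ^ 2 ^ m) (c : K → K → G)
    (hmul : ∀ t u t' u' : K, c t u * c t' u' = c (t + t') (u + u' + θ t * t')) (U : Subgroup G)
    (hU : ∀ t u : K, c t u ∈ U) (t u : K) : (c t u) ^ 2 ∈ ⁅U, U⁆ := by
  have e : (c t u) ^ 2 = c 0 (θ t * t) := by
    rw [pow_two, hmul, CharTwo.add_self_eq_zero, CharTwo.add_self_eq_zero, zero_add]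
  obtain ⟨t1, s1, h1⟩ := suzuki_center_eq_comm (K := K) m hm hK θ hθ c hmul (θ t * t)
  rw [e, h1]
  exact Subgroup.commutator_mem_commutator (hU t1 0) (hU s1 0)

end Cfsg.Agent.Lib.H11.SEA
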