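import Mathlib
import Cfsg.Prelude.Def_Local
import Cfsg.Agent.Lib.H7.PComponent2
import Cfsg.Agent.Lib.H7.Quasisimple

/-!
# S2924, piece KEY1 (helper9's signature, #8715): `component_of_central_ext` (helper11)

`A ⊴ H`, `A ≤ L ≤ C_H(A)`, `L` subnormal in `H` and `L/A` quasisimple: then `⁅L, L⁆` is a
component of `H`.
-/

set_option autoImplicit false

namespace Cfsg.Agent.Lib.H11.SG

open Cfsg
open scoped commutatorElement

theorem component_of_central_ext {H : Type*} [Group H] [Finite H] (A L : Subgroup H) [A.Normal]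
    (hAL : A ≤ L) (hcent : L ≤ Subgroup.centralizer (A : Set H)) (hLs : L.IsSubnormal)
    (hq : Cfsg.IsQuasisimple ↥(L.map (QuotientGroup.mk' A))) : Cfsg.IsComponent ⁅L, L⁆ := by
  classical
  set π : H →* H ⧸ A := QuotientGroup.mk' A with hπ
  set K : Subgroup (H ⧸ A) := L.map π with hK
  set D : Subgroup H := ⁅L, L⁆ with hD
  have hDL : D ≤ L := Subgroup.commutator_le_self L
  have hkerπ : π.ker = A := QuotientGroup.ker_mk' A
  -- `A` is central in `L`
  have hAc : ∀ a ∈ A, ∀ l ∈ L, a * l = l * a := by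
    intro a ha l hl
    have := (Subgroup.mem_centralizer_iff.1 (hcent hl)) a ha
    exact this
  -- `K` is perfect
  obtain ⟨hKperf, hKsimple⟩ := hq
  have hKK : ⁅K, K⁆ = K := (Subgroup.isPerfect_iff).1 hKperf
  have hπD : D.map π = K := by
    rw [hD, Subgroup.map_commutator, hKK]
  -- every element of `L` is `d * a`
  have hdecomp : ∀ x ∈ L, ∃ d ∈ D, ∃ a ∈ A, x = d * a := by
    intro x hx
    have hx' : π x ∈ D.map π := by
      rw [hπD]; exact Subgroup.mem_map_of_mem π hx
    obtain ⟨d, hd, hdx⟩ := Subgroup.mem_map.1 hx'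
    refine ⟨d, hd, d⁻¹ * x, ?_, by group⟩
    rw [← hkerπ, MonoidHom.mem_ker, map_mul, map_inv, hdx, inv_mul_cancel]
  -- commutators only see the `D`-parts
  have hcomm_eq : ∀ d ∈ L, ∀ a ∈ A, ∀ e ∈ L, ∀ b ∈ A, ⁅d * a, e * b⁆ = ⁅d, e⁆ := by
    intro d hd a ha e he b hb
    have h1 : a * e = e * a := hAc a ha e he
    have h2 : a * d = d * a := hAc a ha d hd
    have h3 : b * d = d * b := hAc b hb d hd
    have h4 : b * e = e * b := hAc b hb e he
    have h5 : a * b = b * a := hAc a ha b (hAL hb)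
    rw [commutatorElement_def, commutatorElement_def]
    have e1 : (d * a)⁻¹ = a⁻¹ * d⁻¹ := mul_inv_rev d a
    have e2 : (e * b)⁻¹ = b⁻¹ * e⁻¹ := mul_inv_rev e b
    rw [e1, e2]
    -- move `a`, `b` through
    have h1' : a * e = e * a := h1
    calc d * a * (e * b) * (a⁻¹ * d⁻¹) * (b⁻¹ * e⁻¹)
        = d * (a * e) * b * a⁻¹ * d⁻¹ * b⁻¹ * e⁻¹ := by group
      _ = d * (e * a) * b * a⁻¹ * d⁻¹ * b⁻¹ * e⁻¹ := by rw [h1]
      _ = d * e * (a * b) * a⁻¹ * d⁻¹ * b⁻¹ * e⁻¹ := by group
      _ = d * e * (b * a) * a⁻¹ * d⁻¹ * b⁻¹ * e⁻¹ := by rw [h5]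
      _ = d * e * (b * d⁻¹) * b⁻¹ * e⁻¹ := by group
      _ = d * e * (d⁻¹ * b) * b⁻¹ * e⁻¹ := by
          have : b * d⁻¹ = d⁻¹ * b := by
            have := h3
            calc b * d⁻¹ = d⁻¹ * (d * b) * d⁻¹ := by group
              _ = d⁻¹ * (b * d) * d⁻¹ := by rw [h3]
              _ = d⁻¹ * b := by group
          rw [this]
      _ = d * e * d⁻¹ * e⁻¹ := by group
  -- `D` is perfect
  have hDD : ⁅D, D⁆ = D := by
    apply le_antisymm (Subgroup.commutator_le_self D)
    change ⁅L, L⁆ ≤ ⁅D, D⁆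
    rw [Subgroup.commutator_le]
    intro x hx y hy
    obtain ⟨d, hd, a, ha, rfl⟩ := hdecomp x hx
    obtain ⟨e, he, b, hb, rfl⟩ := hdecomp y hy
    rw [hcomm_eq d (hDL hd) a ha e (hDL he) b hb]
    exact Subgroup.commutator_mem_commutator hd he
  -- `K` is nontrivial
  have hKnt : K ≠ ⊥ := by
    intro hbot
    have : Nontrivial (↥K ⧸ Subgroup.center ↥K) := hKsimple.toNontrivial
    have hsub : Subsingleton ↥K := by
      rw [hbot]; infer_instance
    have : Subsingleton (↥K ⧸ Subgroup.center ↥K) :=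
      (QuotientGroup.mk'_surjective (Subgroup.center ↥K)).subsingleton
    exact not_subsingleton (↥K ⧸ Subgroup.center ↥K) this
  have hDnt : D ≠ ⊥ := by
    intro hbot
    apply hKnt
    rw [← hπD, hbot, Subgroup.map_bot]
  -- `A ≤ C_H(L)`
  have hAcentL : A ≤ Subgroup.centralizer (L : Set H) := by
    intro a ha
    rw [Subgroup.mem_centralizer_iff]
    intro l hl
    exact (hAc a ha l hl).symm
  have hAcentD : A ≤ Subgroup.centralizer (D : Set H) :=
    hAcentL.trans (Subgroup.centralizer_le hDL)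
  refine ⟨?_, ?_⟩
  · -- subnormal
    refine Subgroup.IsSubnormal.step D L hDL hLs ?_
    exact (Subgroup.normal_subgroupOf_iff_le_normalizer hDL).2
      (Subgroup.normalizer_commutator_ge_left L L)
  · -- quasisimple
    have hperf : Group.IsPerfect ↥D := (Subgroup.isPerfect_iff).2 hDD
    have hnt : Nontrivial ↥D := (Subgroup.nontrivial_iff_ne_bot D).2 hDnt
    refine Cfsg.Agent.Lib.H7.isQuasisimple_of_forall_normal hperf hnt ?_
    intro N hN
    -- `N'` = image of `N` in `H`
    set N' : Subgroup H := N.map D.subtype with hN'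
    have hN'D : N' ≤ D := by
      rw [hN']; exact Subgroup.map_subtype_le N
    have hDnorm : D ≤ Subgroup.normalizer (N' : Set H) := by
      intro d hd
      rw [Subgroup.mem_normalizer_iff]
      intro x
      constructor
      · intro hx
        obtain ⟨n, hn, rfl⟩ := Subgroup.mem_map.1 hx
        have := hN.conj_mem n hn ⟨d, hd⟩
        exact Subgroup.mem_map.2 ⟨_, this, rfl⟩
      · intro hx
        obtain ⟨n, hn, hnx⟩ := Subgroup.mem_map.1 hx
        have := hN.conj_mem n hn (⟨d, hd⟩⁻¹)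
        refine Subgroup.mem_map.2 ⟨_, this, ?_⟩
        have h1 : (D.subtype n) = d * x * d⁻¹ := hnx
        simp only [Subgroup.subtype_apply] at h1
        simp only [Subgroup.subtype_apply, Subgroup.coe_mul, Subgroup.coe_inv, inv_inv, h1]
        group
    -- the image of `N'` in `K` is a normal subgroup of `K`
    have hKnorm : ((N'.map π).subgroupOf K).Normal := by
      have hle : N'.map π ≤ K := by
        rw [← hπD]; exact Subgroup.map_mono hN'D
      rw [Subgroup.normal_subgroupOf_iff_le_normalizer hle, ← hπD]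
      exact (Subgroup.map_mono hDnorm).trans (Subgroup.le_normalizer_map π)
    have hK' : Cfsg.IsQuasisimple ↥K := ⟨hKperf, hKsimple⟩
    rcases Cfsg.Agent.Lib.H7.quasisimple_normal hK' ((N'.map π).subgroupOf K) with htop | hcen
    · -- `π N' = K`
      left
      have hle : N'.map π ≤ K := by
        rw [← hπD]; exact Subgroup.map_mono hN'D
      have hπN : N'.map π = K := by
        apply le_antisymm hle
        intro x hx
        have : (⟨x, hx⟩ : ↥K) ∈ (N'.map π).subgroupOf K := by rw [htop]; trivial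
        exact Subgroup.mem_subgroupOf.1 this
      -- every element of `D` is `n * a`
      have hdec2 : ∀ x ∈ D, ∃ n ∈ N', ∃ a ∈ A, x = n * a := by
        intro x hx
        have hx' : π x ∈ N'.map π := by
          rw [hπN, ← hπD]; exact Subgroup.mem_map_of_mem π hx
        obtain ⟨n, hn, hnx⟩ := Subgroup.mem_map.1 hx'
        refine ⟨n, hn, n⁻¹ * x, ?_, by group⟩
        rw [← hkerπ, MonoidHom.mem_ker, map_mul, map_inv, hnx, inv_mul_cancel]
      have hDN : D ≤ N' := by
        rw [← hDD, Subgroup.commutator_le]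
        intro x hx y hy
        obtain ⟨n, hn, a, ha, rfl⟩ := hdec2 x hx
        obtain ⟨m, hm, b, hb, rfl⟩ := hdec2 y hy
        rw [hcomm_eq n (hDL (hN'D hn)) a ha m (hDL (hN'D hm)) b hb]
        exact Subgroup.commutator_le_self N' (Subgroup.commutator_mem_commutator hn hm)
      rw [eq_top_iff]
      intro d _
      obtain ⟨n, hn, hnd⟩ := Subgroup.mem_map.1 (hDN d.2)
      have : n = d := Subtype.ext hnd
      rwa [← this]
    · -- `π N'` central in `K`
      right
      have hcomm : ∀ n ∈ N', ∀ d ∈ D, ⁅n, d⁆ ∈ A := by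
        intro n hn d hd
        rw [← hkerπ, MonoidHom.mem_ker, map_commutatorElement, commutatorElement_eq_one_iff_mul_comm]
        have hπnK : π n ∈ K := by
          rw [← hπD]; exact Subgroup.mem_map_of_mem π (hN'D hn)
        have hπdK : π d ∈ K := by
          rw [← hπD]; exact Subgroup.mem_map_of_mem π hd
        have hmem : (⟨π n, hπnK⟩ : ↥K) ∈ (N'.map π).subgroupOf K :=
          Subgroup.mem_subgroupOf.2 (Subgroup.mem_map_of_mem π hn)
        have hc := Subgroup.mem_center_iff.1 (hcen hmem) ⟨π d, hπdK⟩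
        have := congrArg Subtype.val hc
        simpa using this.symm
      have hND : ⁅N', D⁆ ≤ A := (Subgroup.commutator_le).2 hcomm
      have h1 : ⁅⁅N', D⁆, D⁆ = ⊥ := by
        rw [Subgroup.commutator_eq_bot_iff_le_centralizer]
        exact hND.trans hAcentD
      have h2 : ⁅⁅D, N'⁆, D⁆ = ⊥ := by
        rw [Subgroup.commutator_comm D N']; exact h1
      have h3 : ⁅⁅D, D⁆, N'⁆ = ⊥ :=
        Subgroup.commutator_commutator_eq_bot_of_rotate h2 h1
      rw [hDD, Subgroup.commutator_eq_bot_iff_le_centralizer] at h3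
      intro n hn
      rw [Subgroup.mem_center_iff]
      intro d
      have hn' : (n : H) ∈ N' := Subgroup.mem_map.2 ⟨n, hn, rfl⟩
      have := (Subgroup.mem_centralizer_iff.1 (h3 d.2)) (n : H) hn'
      exact Subtype.ext this.symm

end Cfsg.Agent.Lib.H11.SG
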