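import Cfsg.Agent.Lib.H11.SHCSG2
import Cfsg.Agent.Lib.H12.SHGLUEA

/-!
# S3017 (Shult): CASE B in the exact shape of helper7's MIN assembly (helper11)

`caseB M hM H hH2 hHab hloc hncl htr hnc : False` — wrapper of `H11.SH.caseB` (file `SHCSG2`).
-/

set_option autoImplicit false

namespace Cfsg.Agent.Lib.H11.SHB

open Cfsg

variable {G : Type*} [Group G]

/-- **CASE B** (`N_G(H)` transitive on `H \ {1}`, not centralizing `H`) is impossible. -/
theorem caseB [Finite G] (M : Ideal AlgInt) (hM : IsPModular 2 M) (H : Subgroup G)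
    (hH2 : IsPGroup 2 H) (hHab : ∀ a ∈ H, ∀ b ∈ H, a * b = b * a)
    (hloc : Cfsg.Agent.Lib.H11.SH.LocData 2 H (principalBlock M G))
    (hncl : Subgroup.normalClosure (H : Set G) = ⊤)
    (htr : Cfsg.Agent.Lib.H12.SH.TransN H)
    (hnc : ¬ (∀ n ∈ Subgroup.normalizer (H : Set G), ∀ a ∈ H, n * a * n⁻¹ = a)) : False := by
  classical
  push Not at hnc
  obtain ⟨n, hn, a', ha', hne⟩ := hnc
  have ha'1 : a' ≠ 1 := by
    rintro rfl
    apply hne
    rw [mul_one, mul_inv_cancel]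
  have hH : H ≠ ⊥ := by
    intro h
    rw [h, Subgroup.mem_bot] at ha'
    exact ha'1 ha'
  -- `|H| ≥ 4`
  have hb' : n * a' * n⁻¹ ∈ H := Cfsg.Agent.Lib.H11.SH.conj_mem_of_mem_normalizer hn ha'
  have hb'1 : n * a' * n⁻¹ ≠ 1 := by
    intro h
    apply ha'1
    have : a' = n⁻¹ * (n * a' * n⁻¹) * n := by group
    rw [this, h]
    group
  have hq : 4 ≤ Nat.card ↥H := by
    obtain ⟨k, hk⟩ := (IsPGroup.iff_card).mp hH2
    have h3 : 2 < Nat.card ↥H := by
      letI : Fintype ↥H := Fintype.ofFinite _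
      rw [Nat.card_eq_fintype_card, Fintype.two_lt_card_iff]
      refine ⟨1, ⟨a', ha'⟩, ⟨n * a' * n⁻¹, hb'⟩, ?_, ?_, ?_⟩
      · intro h
        exact ha'1 (congrArg Subtype.val h).symm
      · intro h
        exact hb'1 (congrArg Subtype.val h).symm
      · intro h
        exact hne (congrArg Subtype.val h).symm
    rw [hk] at h3 ⊢
    rcases k with _ | _ | k
    · simp at h3
    · simp at h3
    · rw [pow_succ, pow_succ]
      have : 1 ≤ 2 ^ k := Nat.one_le_two_pow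
      omega
  -- an involution
  obtain ⟨a, ha, hao⟩ := Cfsg.Agent.Lib.H12.SH.exists_involution hH2 hH
  have ha1 : a ≠ 1 := by
    rintro rfl
    rw [orderOf_one] at hao
    omega
  have haa : a * a = 1 := by
    rw [← sq, ← hao]
    exact pow_orderOf_eq_one a
  have htr' : ∀ b ∈ H, b ≠ 1 → ∃ n ∈ Subgroup.normalizer (H : Set G), n * a * n⁻¹ = b :=
    fun b hb hb1 => htr b hb a ha hb1 ha1
  refine Cfsg.Agent.Lib.H11.SH.caseB M hM hloc hq a ha ha1 haa htr' ?_
  intro χ _ hχa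
  refine Cfsg.Agent.Lib.H12.SH.ker χ.2 H hncl ?_
  intro b hb
  by_cases hb1 : b = 1
  · rw [hb1]
  · obtain ⟨m, _, rfl⟩ := htr' b hb hb1
    rw [Cfsg.Agent.Lib.H24.isClassFunction_irr χ a m, hχa]

end Cfsg.Agent.Lib.H11.SHB
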