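import Mathlib
import Cfsg.Agent.S0925
import Cfsg.Agent.S0942
import Cfsg.Agent.Lib.H24.CharSchur
import Cfsg.Agent.Lib.H23.PPart2

/-!
# S3017 (Shult), piece CSG (helper11): the class-sum glue between LOC and the pure endings

`H ≤ G`, `N = N_G(H)`, `B` a set of irreducible characters (the principal block).
`LocData p H B` is the LOC output in character form: for every `g` there is `ν ∈ N` such that for
all `a b ∈ H`: if `a * ν b ν⁻¹ ≠ 1` then `χ (a * g b g⁻¹) = χ (a * ν b ν⁻¹)` for all `χ ∈ B`, and if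
`a * ν b ν⁻¹ = 1` then `a * g b g⁻¹` is `p`-regular.

* `cs_avg`   : `|N| |G| χ(a) χ(b) / χ(1) = ∑_g ∑_{n ∈ N} χ (a * g (n b n⁻¹) g⁻¹)`.
* `cs_master`: the class sum split into the good pairs (values on `H`) and the bad (`p`-regular) pairs.
* `cs_good`  : if `a * n b n⁻¹ ≠ 1` for all `n ∈ N` then `χ(a) χ(b) / χ(1)` is the `N`-average of
  `χ (a * n b n⁻¹)`.
* `orth`     : `|N| ∑_{B₀} χ(a) χ(b) χ(c⁻¹) / χ(1) = ∑_{n ∈ N} ∑_{B₀} χ (a * n b n⁻¹) χ(c⁻¹)` for a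
  nontrivial `p`-element `c`.
No canonical `φ_g` is needed: `∑_g F g = |N|⁻¹ ∑_g ∑_{n ∈ N} F (g n)` and left multiplication by `ν_g`
permutes `N`.
-/

set_option autoImplicit false

namespace Cfsg.Agent.Lib.H11.SH

open Cfsg

variable {G : Type*} [Group G]

/-- the LOC output in character form -/
def LocData (p : ℕ) (H : Subgroup G) (B : Set (IrrCharacter G)) : Prop :=
  ∀ g : G, ∃ ν ∈ Subgroup.normalizer (H : Set G), ∀ a ∈ H, ∀ b ∈ H,
    (a * (ν * b * ν⁻¹) ≠ 1 → ∀ χ ∈ B,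
      (χ : G → ℂ) (a * (g * b * g⁻¹)) = (χ : G → ℂ) (a * (ν * b * ν⁻¹))) ∧
    (a * (ν * b * ν⁻¹) = 1 → ¬ p ∣ orderOf (a * (g * b * g⁻¹)))

theorem conj_mem_of_mem_normalizer {H : Subgroup G} {n b : G}
    (hn : n ∈ Subgroup.normalizer (H : Set G)) (hb : b ∈ H) : n * b * n⁻¹ ∈ H :=
  (Subgroup.mem_normalizer_iff.1 hn b).1 hb

/-- `χ (x * y) = χ (y * x)` -/
theorem irr_mul_comm (χ : IrrCharacter G) (x y : G) :
    (χ : G → ℂ) (x * y) = (χ : G → ℂ) (y * x) := by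
  have hcf := Cfsg.Agent.Lib.H24.isClassFunction_irr χ
  have h := hcf (x * y) x⁻¹
  rw [← h]
  congr 1
  group

/-- the class sum averaged over a subgroup `N` -/
theorem cs_avg [Fintype G] (χ : IrrCharacter G) (N : Subgroup G) [Fintype ↥N] (a b : G) :
    (Nat.card ↥N : ℂ) * ((Nat.card G : ℂ) * (χ : G → ℂ) a * (χ : G → ℂ) b / (χ : G → ℂ) 1) =
      ∑ g : G, ∑ n : ↥N, (χ : G → ℂ) (a * (g * ((n : G) * b * (n : G)⁻¹) * g⁻¹)) := by
  rw [Finset.sum_comm]
  have hcf := Cfsg.Agent.Lib.H24.isClassFunction_irr χ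
  have h1 : ∀ n : ↥N, ∑ g : G, (χ : G → ℂ) (a * (g * ((n : G) * b * (n : G)⁻¹) * g⁻¹)) =
      (Nat.card G : ℂ) * (χ : G → ℂ) a * (χ : G → ℂ) b / (χ : G → ℂ) 1 := by
    intro n
    have h2 := Cfsg.Agent.Lib.H24.irr_sum_conj_mul χ ((n : G) * b * (n : G)⁻¹) a
    have h3 : ∀ g : G, (χ : G → ℂ) (a * (g * ((n : G) * b * (n : G)⁻¹) * g⁻¹)) =
        (χ : G → ℂ) (g * ((n : G) * b * (n : G)⁻¹) * g⁻¹ * a) := fun g => irr_mul_comm χ _ _
    simp only [h3]
    rw [h2, hcf b (n : G)]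
    ring
  rw [Finset.sum_congr rfl (fun n _ => h1 n), Finset.sum_const, Finset.card_univ, nsmul_eq_mul,
    Nat.card_eq_fintype_card]

/-- the key splitting for one `g`: good pairs are re-indexed by `n ↦ ν n` -/
theorem sum_split [DecidableEq G] {H : Subgroup G} [Fintype ↥(Subgroup.normalizer (H : Set G))]
    (Φ : G → ℂ) (a b g ν : G) (hν : ν ∈ Subgroup.normalizer (H : Set G))
    (hgood : ∀ n : ↥(Subgroup.normalizer (H : Set G)),
      a * (ν * ((n : G) * b * (n : G)⁻¹) * ν⁻¹) ≠ 1 →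
      Φ (a * (g * ((n : G) * b * (n : G)⁻¹) * g⁻¹)) = Φ (a * (ν * ((n : G) * b * (n : G)⁻¹) * ν⁻¹))) :
    ∑ n : ↥(Subgroup.normalizer (H : Set G)), Φ (a * (g * ((n : G) * b * (n : G)⁻¹) * g⁻¹)) =
      ∑ n : ↥(Subgroup.normalizer (H : Set G)),
        (if a * ((n : G) * b * (n : G)⁻¹) ≠ 1 then Φ (a * ((n : G) * b * (n : G)⁻¹)) else 0) +
      ∑ n : ↥(Subgroup.normalizer (H : Set G)),
        (if a * (ν * ((n : G) * b * (n : G)⁻¹) * ν⁻¹) = 1 then
          Φ (a * (g * ((n : G) * b * (n : G)⁻¹) * g⁻¹)) else 0) := by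
  -- re-index the good sum
  have h1 : ∑ n : ↥(Subgroup.normalizer (H : Set G)),
      (if a * ((n : G) * b * (n : G)⁻¹) ≠ 1 then Φ (a * ((n : G) * b * (n : G)⁻¹)) else 0) =
      ∑ n : ↥(Subgroup.normalizer (H : Set G)), (if a * (ν * ((n : G) * b * (n : G)⁻¹) * ν⁻¹) ≠ 1 then
        Φ (a * (ν * ((n : G) * b * (n : G)⁻¹) * ν⁻¹)) else 0) := by
    symm
    refine Fintype.sum_equiv (Equiv.mulLeft (⟨ν, hν⟩ : ↥(Subgroup.normalizer (H : Set G)))) _ _ ?_
    intro n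
    have : (((Equiv.mulLeft (⟨ν, hν⟩ : ↥(Subgroup.normalizer (H : Set G)))) n : ↥(Subgroup.normalizer (H : Set G))) : G) = ν * (n : G) := rfl
    rw [this]
    have h2 : ν * (n : G) * b * (ν * (n : G))⁻¹ = ν * ((n : G) * b * (n : G)⁻¹) * ν⁻¹ := by group
    rw [h2]
  have h2 : ∑ n : ↥(Subgroup.normalizer (H : Set G)), Φ (a * (g * ((n : G) * b * (n : G)⁻¹) * g⁻¹)) =
      ∑ n : ↥(Subgroup.normalizer (H : Set G)), (if a * (ν * ((n : G) * b * (n : G)⁻¹) * ν⁻¹) ≠ 1 then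
        Φ (a * (ν * ((n : G) * b * (n : G)⁻¹) * ν⁻¹)) else 0) +
      ∑ n : ↥(Subgroup.normalizer (H : Set G)), (if a * (ν * ((n : G) * b * (n : G)⁻¹) * ν⁻¹) = 1 then
          Φ (a * (g * ((n : G) * b * (n : G)⁻¹) * g⁻¹)) else 0) := by
    rw [← Finset.sum_add_distrib]
    refine Finset.sum_congr rfl (fun n _ => ?_)
    by_cases hP : a * (ν * ((n : G) * b * (n : G)⁻¹) * ν⁻¹) = 1
    · rw [if_neg (not_not.2 hP), if_pos hP, zero_add]
    · rw [if_pos hP, if_neg hP, add_zero]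
      exact hgood n hP
  rw [h2]
  congr 1
  exact h1.symm

/-- the master class-sum identity: good pairs give values on `H`, bad pairs are `p`-regular -/
theorem cs_master [Fintype G] [DecidableEq G] {p : ℕ} {H : Subgroup G}
    [Fintype ↥(Subgroup.normalizer (H : Set G))] {B : Set (IrrCharacter G)}
    (hloc : LocData p H B) :
    ∃ ν : G → G, (∀ g, ν g ∈ Subgroup.normalizer (H : Set G)) ∧
      (∀ g, ∀ a ∈ H, ∀ b ∈ H, a * (ν g * b * (ν g)⁻¹) = 1 →
        ¬ p ∣ orderOf (a * (g * b * g⁻¹))) ∧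
      ∀ χ ∈ B, ∀ a ∈ H, ∀ b ∈ H,
        (Nat.card ↥(Subgroup.normalizer (H : Set G)) : ℂ) *
            ((Nat.card G : ℂ) * (χ : G → ℂ) a * (χ : G → ℂ) b / (χ : G → ℂ) 1) =
          (Nat.card G : ℂ) * ∑ n : ↥(Subgroup.normalizer (H : Set G)),
            (if a * ((n : G) * b * (n : G)⁻¹) ≠ 1 then
              (χ : G → ℂ) (a * ((n : G) * b * (n : G)⁻¹)) else 0) +
          ∑ g : G, ∑ n : ↥(Subgroup.normalizer (H : Set G)),
            (if a * (ν g * ((n : G) * b * (n : G)⁻¹) * (ν g)⁻¹) = 1 then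
              (χ : G → ℂ) (a * (g * ((n : G) * b * (n : G)⁻¹) * g⁻¹)) else 0) := by
  choose ν hν hprop using hloc
  refine ⟨ν, hν, fun g a ha b hb => (hprop g a ha b hb).2, ?_⟩
  intro χ hχ a ha b hb
  rw [cs_avg χ (Subgroup.normalizer (H : Set G)) a b]
  have h1 : ∀ g : G, ∑ n : ↥(Subgroup.normalizer (H : Set G)),
      (χ : G → ℂ) (a * (g * ((n : G) * b * (n : G)⁻¹) * g⁻¹)) =
      ∑ n : ↥(Subgroup.normalizer (H : Set G)),
        (if a * ((n : G) * b * (n : G)⁻¹) ≠ 1 then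
          (χ : G → ℂ) (a * ((n : G) * b * (n : G)⁻¹)) else 0) +
      ∑ n : ↥(Subgroup.normalizer (H : Set G)),
        (if a * (ν g * ((n : G) * b * (n : G)⁻¹) * (ν g)⁻¹) = 1 then
          (χ : G → ℂ) (a * (g * ((n : G) * b * (n : G)⁻¹) * g⁻¹)) else 0) := by
    intro g
    refine sum_split (χ : G → ℂ) a b g (ν g) (hν g) ?_
    intro n hn
    exact (hprop g a ha _ (conj_mem_of_mem_normalizer n.2 hb)).1 hn χ hχ
  rw [Finset.sum_congr rfl (fun g _ => h1 g), Finset.sum_add_distrib, Finset.sum_const,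
    Finset.card_univ, nsmul_eq_mul, Nat.card_eq_fintype_card]

/-- CS when no `N`-conjugate of `b` is `a⁻¹` -/
theorem cs_good [Fintype G] [DecidableEq G] {p : ℕ} {H : Subgroup G}
    [Fintype ↥(Subgroup.normalizer (H : Set G))] {B : Set (IrrCharacter G)}
    (hloc : LocData p H B) (χ : IrrCharacter G) (hχ : χ ∈ B) (a b : G) (ha : a ∈ H) (hb : b ∈ H)
    (hab : ∀ n : ↥(Subgroup.normalizer (H : Set G)), a * ((n : G) * b * (n : G)⁻¹) ≠ 1) :
    (χ : G → ℂ) a * (χ : G → ℂ) b / (χ : G → ℂ) 1 =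
      (∑ n : ↥(Subgroup.normalizer (H : Set G)), (χ : G → ℂ) (a * ((n : G) * b * (n : G)⁻¹))) /
        (Nat.card ↥(Subgroup.normalizer (H : Set G)) : ℂ) := by
  obtain ⟨ν, hν, -, hm⟩ := cs_master hloc
  have h := hm χ hχ a ha b hb
  have h2 : ∑ g : G, ∑ n : ↥(Subgroup.normalizer (H : Set G)),
      (if a * (ν g * ((n : G) * b * (n : G)⁻¹) * (ν g)⁻¹) = 1 then
        (χ : G → ℂ) (a * (g * ((n : G) * b * (n : G)⁻¹) * g⁻¹)) else 0) = 0 := by
    refine Finset.sum_eq_zero (fun g _ => Finset.sum_eq_zero (fun n _ => ?_))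
    rw [if_neg]
    have h3 : ν g * ((n : G) * b * (n : G)⁻¹) * (ν g)⁻¹ =
        (ν g * (n : G)) * b * (ν g * (n : G))⁻¹ := by group
    rw [h3]
    exact hab ⟨ν g * (n : G), Subgroup.mul_mem _ (hν g) n.2⟩
  have h1 : ∑ n : ↥(Subgroup.normalizer (H : Set G)),
      (if a * ((n : G) * b * (n : G)⁻¹) ≠ 1 then
        (χ : G → ℂ) (a * ((n : G) * b * (n : G)⁻¹)) else 0) =
      ∑ n : ↥(Subgroup.normalizer (H : Set G)), (χ : G → ℂ) (a * ((n : G) * b * (n : G)⁻¹)) :=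
    Finset.sum_congr rfl (fun n _ => if_pos (hab n))
  rw [h1, h2, add_zero] at h
  have hG : (Nat.card G : ℂ) ≠ 0 := by
    have : 0 < Nat.card G := Nat.card_pos
    exact_mod_cast this.ne'
  have hN : (Nat.card ↥(Subgroup.normalizer (H : Set G)) : ℂ) ≠ 0 := by
    have : 0 < Nat.card ↥(Subgroup.normalizer (H : Set G)) := Nat.card_pos
    exact_mod_cast this.ne'
  rw [eq_div_iff hN]
  have h4 : (Nat.card G : ℂ) * ((χ : G → ℂ) a * (χ : G → ℂ) b / (χ : G → ℂ) 1 *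
      (Nat.card ↥(Subgroup.normalizer (H : Set G)) : ℂ)) =
      (Nat.card G : ℂ) * ∑ n : ↥(Subgroup.normalizer (H : Set G)),
        (χ : G → ℂ) (a * ((n : G) * b * (n : G)⁻¹)) := by
    rw [← h]
    ring
  exact mul_left_cancel₀ hG h4


section blocks

variable [Finite G] {p : ℕ} [Fact p.Prime]

/-- block orthogonality against a `p`-regular element -/
theorem sum_block_regular (M : Ideal AlgInt) (hM : IsPModular p M) (w c : G)
    (hw : ¬ p ∣ orderOf w) (hc : ∃ k : ℕ, orderOf c = p ^ k) (hc1 : c ≠ 1) :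
    ∑ᶠ χ ∈ principalBlock M G, (χ : G → ℂ) w * (χ : G → ℂ) c⁻¹ = 0 := by
  have hp : p.Prime := Fact.out
  have h1 : IsPPart p w 1 := ⟨w, one_mul w, Commute.one_left w, ⟨0, by simp⟩, hw⟩
  have h2 : IsPPart p c c := by
    refine ⟨1, mul_one c, Commute.one_right c, hc, ?_⟩
    rw [orderOf_one]
    exact hp.one_lt.ne' ∘ Nat.dvd_one.1
  have hB : IsPBlock M (principalBlock M G) :=
    ⟨⟨fun _ => 1, Cfsg.Agent.Lib.H24.isIrrCharacter_one⟩, rfl⟩
  have hnc : ¬ IsConj (1 : G) c := fun h => hc1 (isConj_one_right.1 h)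
  exact (Cfsg.Agent.S0925.result p M hM).2 w c 1 c h1 h2 hnc (principalBlock M G) hB

/-- **ORTH**: the class sums against a nontrivial `p`-element `c`, summed over the principal block -/
theorem orth [DecidableEq G] {H : Subgroup G} [Fintype ↥(Subgroup.normalizer (H : Set G))]
    (M : Ideal AlgInt) (hM : IsPModular p M) (hloc : LocData p H (principalBlock M G))
    (a b : G) (ha : a ∈ H) (hb : b ∈ H) (c : G) (hc : ∃ k : ℕ, orderOf c = p ^ k) (hc1 : c ≠ 1) :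
    (Nat.card ↥(Subgroup.normalizer (H : Set G)) : ℂ) *
        ∑ᶠ χ ∈ principalBlock M G,
          (χ : G → ℂ) a * (χ : G → ℂ) b * (χ : G → ℂ) c⁻¹ / (χ : G → ℂ) 1 =
      ∑ n : ↥(Subgroup.normalizer (H : Set G)), ∑ᶠ χ ∈ principalBlock M G,
        (χ : G → ℂ) (a * ((n : G) * b * (n : G)⁻¹)) * (χ : G → ℂ) c⁻¹ := by
  letI : Fintype G := Fintype.ofFinite G
  obtain ⟨ν, hν, hbad, hm⟩ := cs_master hloc
  set B := principalBlock M G with hB
  have hfin : B.Finite := Set.toFinite B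
  simp only [finsum_mem_eq_finite_toFinset_sum _ hfin]
  have hG : (Nat.card G : ℂ) ≠ 0 := by
    have : 0 < Nat.card G := Nat.card_pos
    exact_mod_cast this.ne'
  apply mul_left_cancel₀ hG
  -- multiply the master identity by `χ c⁻¹` and sum
  have h1 : (Nat.card G : ℂ) * ((Nat.card ↥(Subgroup.normalizer (H : Set G)) : ℂ) *
      ∑ χ ∈ hfin.toFinset,
        (χ : G → ℂ) a * (χ : G → ℂ) b * (χ : G → ℂ) c⁻¹ / (χ : G → ℂ) 1) =
      ∑ χ ∈ hfin.toFinset, ((Nat.card ↥(Subgroup.normalizer (H : Set G)) : ℂ) *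
        ((Nat.card G : ℂ) * (χ : G → ℂ) a * (χ : G → ℂ) b / (χ : G → ℂ) 1)) *
          (χ : G → ℂ) c⁻¹ := by
    rw [Finset.mul_sum, Finset.mul_sum]
    refine Finset.sum_congr rfl (fun χ _ => ?_)
    ring
  rw [h1]
  have h2 : ∀ χ ∈ hfin.toFinset, ((Nat.card ↥(Subgroup.normalizer (H : Set G)) : ℂ) *
        ((Nat.card G : ℂ) * (χ : G → ℂ) a * (χ : G → ℂ) b / (χ : G → ℂ) 1)) *
          (χ : G → ℂ) c⁻¹ =
      (Nat.card G : ℂ) * ∑ n : ↥(Subgroup.normalizer (H : Set G)),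
          ((if a * ((n : G) * b * (n : G)⁻¹) ≠ 1 then
            (χ : G → ℂ) (a * ((n : G) * b * (n : G)⁻¹)) else 0) * (χ : G → ℂ) c⁻¹) +
        ∑ g : G, ∑ n : ↥(Subgroup.normalizer (H : Set G)),
          ((if a * (ν g * ((n : G) * b * (n : G)⁻¹) * (ν g)⁻¹) = 1 then
            (χ : G → ℂ) (a * (g * ((n : G) * b * (n : G)⁻¹) * g⁻¹)) else 0) *
              (χ : G → ℂ) c⁻¹) := by
    intro χ hχ
    rw [hm χ ((Set.Finite.mem_toFinset hfin).1 hχ) a ha b hb, add_mul, mul_assoc, Finset.sum_mul,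
      Finset.sum_mul]
    congr 1
    refine Finset.sum_congr rfl (fun g _ => ?_)
    rw [Finset.sum_mul]
  rw [Finset.sum_congr rfl h2, Finset.sum_add_distrib]
  -- the bad part vanishes
  have h3 : ∑ χ ∈ hfin.toFinset, ∑ g : G, ∑ n : ↥(Subgroup.normalizer (H : Set G)),
      ((if a * (ν g * ((n : G) * b * (n : G)⁻¹) * (ν g)⁻¹) = 1 then
        (χ : G → ℂ) (a * (g * ((n : G) * b * (n : G)⁻¹) * g⁻¹)) else 0) *
          (χ : G → ℂ) c⁻¹) = 0 := by
    rw [Finset.sum_comm]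
    refine Finset.sum_eq_zero (fun g _ => ?_)
    rw [Finset.sum_comm]
    refine Finset.sum_eq_zero (fun n _ => ?_)
    by_cases hP : a * (ν g * ((n : G) * b * (n : G)⁻¹) * (ν g)⁻¹) = 1
    · simp only [if_pos hP]
      have hreg := hbad g a ha _ (conj_mem_of_mem_normalizer n.2 hb) hP
      have := sum_block_regular M hM _ c hreg hc hc1
      rw [finsum_mem_eq_finite_toFinset_sum _ hfin] at this
      exact this
    · simp only [if_neg hP, zero_mul, Finset.sum_const_zero]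
  rw [h3, add_zero]
  -- the good part
  rw [← Finset.mul_sum, Finset.sum_comm]
  congr 1
  refine Finset.sum_congr rfl (fun n _ => ?_)
  by_cases hP : a * ((n : G) * b * (n : G)⁻¹) = 1
  · have h4 : ∀ χ ∈ hfin.toFinset,
        (if a * ((n : G) * b * (n : G)⁻¹) ≠ 1 then
          (χ : G → ℂ) (a * ((n : G) * b * (n : G)⁻¹)) else 0) * (χ : G → ℂ) c⁻¹ = 0 := by
      intro χ _
      rw [if_neg (not_not.2 hP), zero_mul]
    rw [Finset.sum_congr rfl h4, Finset.sum_const_zero]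
    have hreg : ¬ p ∣ orderOf (a * ((n : G) * b * (n : G)⁻¹)) := by
      rw [hP, orderOf_one]
      exact (Fact.out : p.Prime).one_lt.ne' ∘ Nat.dvd_one.1
    have := sum_block_regular M hM _ c hreg hc hc1
    rw [finsum_mem_eq_finite_toFinset_sum _ hfin] at this
    exact this.symm
  · refine Finset.sum_congr rfl (fun χ _ => ?_)
    rw [if_pos hP]

end blocks

end Cfsg.Agent.Lib.H11.SH
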