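import Cfsg.Agent.Lib.H11.SHCSG
import Cfsg.Agent.Lib.H11.AEINT
import Cfsg.Agent.Lib.H17.SHINV2
import Cfsg.Agent.Lib.H25.SHENDB

/-!
# S3017 (Shult), piece CSG part 2 (helper11): CASE B (`N_G(H)` transitive on `H \ {1}`) is impossible

On the LOC output `LocData 2 H B₀` (part 1), helper17's eigenvalue bound INV2 and helper25's pure
arithmetic `endB_arith_finsum`.
-/

set_option autoImplicit false

namespace Cfsg.Agent.Lib.H11.SH

open Cfsg

variable {G : Type*} [Group G]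

section count

variable [DecidableEq G] {H : Subgroup G} [Fintype ↥(Subgroup.normalizer (H : Set G))]

/-- all fibres of `n ↦ n a n⁻¹` over the `N`-orbit of `a` have the same size -/
theorem card_fiber_eq (a : G) (n₀ : ↥(Subgroup.normalizer (H : Set G))) :
    (Finset.univ.filter (fun n : ↥(Subgroup.normalizer (H : Set G)) =>
      (n : G) * a * (n : G)⁻¹ = (n₀ : G) * a * (n₀ : G)⁻¹)).card =
    (Finset.univ.filter (fun n : ↥(Subgroup.normalizer (H : Set G)) =>
      (n : G) * a * (n : G)⁻¹ = a)).card := by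
  refine Finset.card_nbij' (fun n => n₀⁻¹ * n) (fun n => n₀ * n) ?_ ?_ ?_ ?_
  · intro n hn
    simp only [Finset.coe_filter, Finset.mem_univ, true_and, Set.mem_ofPred_eq] at hn ⊢
    have h1 : ((n₀⁻¹ * n : ↥(Subgroup.normalizer (H : Set G))) : G) = (n₀ : G)⁻¹ * (n : G) := rfl
    rw [h1]
    have h2 : (n₀ : G)⁻¹ * (n : G) * a * ((n₀ : G)⁻¹ * (n : G))⁻¹ =
        (n₀ : G)⁻¹ * ((n : G) * a * (n : G)⁻¹) * (n₀ : G) := by group
    rw [h2, hn]
    group
  · intro n hn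
    simp only [Finset.coe_filter, Finset.mem_univ, true_and, Set.mem_ofPred_eq] at hn ⊢
    have h1 : ((n₀ * n : ↥(Subgroup.normalizer (H : Set G))) : G) = (n₀ : G) * (n : G) := rfl
    rw [h1]
    have h2 : (n₀ : G) * (n : G) * a * ((n₀ : G) * (n : G))⁻¹ =
        (n₀ : G) * ((n : G) * a * (n : G)⁻¹) * (n₀ : G)⁻¹ := by group
    rw [h2, hn]
  · intro n _
    simp
  · intro n _
    simp

/-- the bad set of a `g` (with its `ν`) has as many elements as the stabilizer of `a` -/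
theorem card_bad (a ν : G) (hν : ν ∈ Subgroup.normalizer (H : Set G)) (haa : a * a = 1) :
    (Finset.univ.filter (fun n : ↥(Subgroup.normalizer (H : Set G)) =>
      a * (ν * ((n : G) * a * (n : G)⁻¹) * ν⁻¹) = 1)).card =
    (Finset.univ.filter (fun n : ↥(Subgroup.normalizer (H : Set G)) =>
      (n : G) * a * (n : G)⁻¹ = a)).card := by
  have hainv : a⁻¹ = a := inv_eq_of_mul_eq_one_left haa
  have key : ∀ x : G, a * x = 1 ↔ x = a := by
    intro x
    constructor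
    · intro h
      rw [← hainv]
      exact eq_inv_of_mul_eq_one_right h
    · intro h; rw [h, haa]
  refine Finset.card_nbij' (fun n => (⟨ν, hν⟩ : ↥(Subgroup.normalizer (H : Set G))) * n)
    (fun n => (⟨ν, hν⟩ : ↥(Subgroup.normalizer (H : Set G)))⁻¹ * n) ?_ ?_ ?_ ?_
  · intro n hn
    simp only [Finset.coe_filter, Finset.mem_univ, true_and, Set.mem_ofPred_eq] at hn ⊢
    rw [key] at hn
    have h1 : (((⟨ν, hν⟩ : ↥(Subgroup.normalizer (H : Set G))) * n :
        ↥(Subgroup.normalizer (H : Set G))) : G) = ν * (n : G) := rfl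
    have h2 : ν * (n : G) * a * (ν * (n : G))⁻¹ = ν * ((n : G) * a * (n : G)⁻¹) * ν⁻¹ := by group
    rw [h1, h2]
    exact hn
  · intro n hn
    simp only [Finset.coe_filter, Finset.mem_univ, true_and, Set.mem_ofPred_eq] at hn ⊢
    rw [key]
    have h1 : (((⟨ν, hν⟩ : ↥(Subgroup.normalizer (H : Set G)))⁻¹ * n :
        ↥(Subgroup.normalizer (H : Set G))) : G) = ν⁻¹ * (n : G) := rfl
    rw [h1]
    have h2 : ν * (ν⁻¹ * (n : G) * a * (ν⁻¹ * (n : G))⁻¹) * ν⁻¹ = (n : G) * a * (n : G)⁻¹ := by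
      group
    rw [h2, hn]
  · intro n _
    simp
  · intro n _
    simp

/-- `|N| = (|H| - 1) * |C_N(a)|` when `N` is transitive on `H \ {1}` -/
theorem card_normalizer_eq [Fintype G] (a : G) (ha : a ∈ H) (ha1 : a ≠ 1)
    (htr : ∀ b ∈ H, b ≠ 1 → ∃ n ∈ Subgroup.normalizer (H : Set G), n * a * n⁻¹ = b) :
    Nat.card ↥(Subgroup.normalizer (H : Set G)) =
      (Nat.card ↥H - 1) * (Finset.univ.filter (fun n : ↥(Subgroup.normalizer (H : Set G)) =>
        (n : G) * a * (n : G)⁻¹ = a)).card := by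
  classical
  set t : Finset G := Finset.univ.filter (fun x : G => x ∈ H ∧ x ≠ 1) with ht
  have hmaps : ∀ n ∈ (Finset.univ : Finset ↥(Subgroup.normalizer (H : Set G))),
      (n : G) * a * (n : G)⁻¹ ∈ t := by
    intro n _
    rw [ht, Finset.mem_filter]
    refine ⟨Finset.mem_univ _, conj_mem_of_mem_normalizer n.2 ha, ?_⟩
    intro h
    apply ha1
    have : a = (n : G)⁻¹ * ((n : G) * a * (n : G)⁻¹) * (n : G) := by group
    rw [this, h]
    group
  have h1 := Finset.card_eq_sum_card_fiberwise (f := fun n : ↥(Subgroup.normalizer (H : Set G)) =>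
    (n : G) * a * (n : G)⁻¹) hmaps
  have h2 : ∀ b ∈ t, (Finset.univ.filter (fun n : ↥(Subgroup.normalizer (H : Set G)) =>
      (n : G) * a * (n : G)⁻¹ = b)).card =
      (Finset.univ.filter (fun n : ↥(Subgroup.normalizer (H : Set G)) =>
        (n : G) * a * (n : G)⁻¹ = a)).card := by
    intro b hb
    rw [ht, Finset.mem_filter] at hb
    obtain ⟨n₀, hn₀, rfl⟩ := htr b hb.2.1 hb.2.2
    exact card_fiber_eq a ⟨n₀, hn₀⟩
  rw [Finset.sum_congr rfl h2, Finset.sum_const, smul_eq_mul, Finset.card_univ] at h1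
  rw [Nat.card_eq_fintype_card, h1]
  congr 1
  -- `t.card = |H| - 1`
  have h3 : t = (Finset.univ.filter (fun x : G => x ∈ H)).erase 1 := by
    ext x
    simp only [ht, Finset.mem_filter, Finset.mem_univ, true_and, Finset.mem_erase]
    tauto
  rw [h3, Finset.card_erase_of_mem (by simp [H.one_mem]), Nat.card_eq_fintype_card,
    Fintype.card_subtype]

end count

section caseB

variable [Finite G] {H : Subgroup G}

/-- **(OR)**: the averaged block orthogonality identity of CASE B -/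
theorem caseB_OR (M : Ideal AlgInt) (hM : IsPModular 2 M)
    (hloc : LocData 2 H (principalBlock M G))
    (a : G) (ha : a ∈ H) (ha1 : a ≠ 1) (haa : a * a = 1)
    (htr : ∀ b ∈ H, b ≠ 1 → ∃ n ∈ Subgroup.normalizer (H : Set G), n * a * n⁻¹ = b) :
    ∑ᶠ χ ∈ principalBlock M G, (χ : G → ℂ) a *
      (((Nat.card ↥H : ℂ) - 1) * (χ : G → ℂ) a ^ 2 / (χ : G → ℂ) 1 -
        ((Nat.card ↥H : ℂ) - 2) * (χ : G → ℂ) a) = 0 := by
  classical
  haveI : Fact (Nat.Prime 2) := ⟨Nat.prime_two⟩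
  letI : Fintype G := Fintype.ofFinite G
  letI : Fintype ↥(Subgroup.normalizer (H : Set G)) := Fintype.ofFinite _
  have hainv : a⁻¹ = a := inv_eq_of_mul_eq_one_left haa
  have key : ∀ x : G, a * x = 1 ↔ x = a := by
    intro x
    constructor
    · intro h
      rw [← hainv]
      exact eq_inv_of_mul_eq_one_right h
    · intro h; rw [h, haa]
  have hord : ∃ k : ℕ, orderOf a = 2 ^ k :=
    ⟨1, by rw [pow_one]; exact orderOf_eq_prime (by rw [sq]; exact haa) ha1⟩
  set B := principalBlock M G with hB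
  have hfin : B.Finite := Set.toFinite B
  set k := (Finset.univ.filter (fun n : ↥(Subgroup.normalizer (H : Set G)) =>
    (n : G) * a * (n : G)⁻¹ = a)).card with hk
  have hkpos : 0 < k := by
    rw [hk, Finset.card_pos]
    exact ⟨1, by simp⟩
  have hNk := card_normalizer_eq a ha ha1 htr
  rw [← hk] at hNk
  have hq1 : 1 ≤ Nat.card ↥H := Nat.card_pos
  -- all of `H \ {1}` has the value `χ a`
  have hconst : ∀ χ : IrrCharacter G, ∀ b ∈ H, b ≠ 1 → (χ : G → ℂ) b = (χ : G → ℂ) a := by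
    intro χ b hb hb1
    obtain ⟨n, _, rfl⟩ := htr b hb hb1
    exact Cfsg.Agent.Lib.H24.isClassFunction_irr χ a n
  have horth := orth M hM hloc a a ha ha a hord ha1
  rw [← hB] at horth
  -- evaluate the right-hand side
  set γ : ℂ := ∑ᶠ χ ∈ B, (χ : G → ℂ) a * (χ : G → ℂ) a⁻¹ with hγ
  have hterm : ∀ n : ↥(Subgroup.normalizer (H : Set G)),
      ∑ᶠ χ ∈ B, (χ : G → ℂ) (a * ((n : G) * a * (n : G)⁻¹)) * (χ : G → ℂ) a⁻¹ =
        if (n : G) * a * (n : G)⁻¹ = a then 0 else γ := by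
    intro n
    by_cases hn : (n : G) * a * (n : G)⁻¹ = a
    · rw [if_pos hn, hn, haa]
      refine sum_block_regular M hM 1 a ?_ hord ha1
      rw [orderOf_one]
      exact Nat.prime_two.one_lt.ne' ∘ Nat.dvd_one.1
    · rw [if_neg hn, hγ]
      refine finsum_mem_congr rfl (fun χ _ => ?_)
      rw [hconst χ _ (H.mul_mem ha (conj_mem_of_mem_normalizer n.2 ha))
        (fun h => hn ((key _).1 h))]
  rw [Finset.sum_congr rfl (fun n _ => hterm n), Finset.sum_ite, Finset.sum_const_zero, zero_add,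
    Finset.sum_const, nsmul_eq_mul] at horth
  have hcompl : (Finset.univ.filter (fun n : ↥(Subgroup.normalizer (H : Set G)) =>
      ¬ (n : G) * a * (n : G)⁻¹ = a)).card + k =
      Nat.card ↥(Subgroup.normalizer (H : Set G)) := by
    have h := Finset.card_filter_add_card_filter_not
      (s := (Finset.univ : Finset ↥(Subgroup.normalizer (H : Set G))))
      (fun n => (n : G) * a * (n : G)⁻¹ = a)
    rw [hk, Nat.card_eq_fintype_card, ← Finset.card_univ, ← h, add_comm]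
  -- `|N| - k = (q - 2) k`
  set c := (Finset.univ.filter (fun n : ↥(Subgroup.normalizer (H : Set G)) =>
      ¬ (n : G) * a * (n : G)⁻¹ = a)).card with hc
  have hcC : (c : ℂ) = ((Nat.card ↥H : ℂ) - 2) * (k : ℂ) := by
    have h1 : (c : ℂ) + (k : ℂ) = ((Nat.card ↥H : ℂ) - 1) * (k : ℂ) := by
      have h2 : c + k = (Nat.card ↥H - 1) * k := by rw [hcompl, hNk]
      have h3 : ((c + k : ℕ) : ℂ) = (((Nat.card ↥H - 1) * k : ℕ) : ℂ) := by rw [h2]
      rw [Nat.cast_add, Nat.cast_mul, Nat.cast_sub hq1, Nat.cast_one] at h3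
      exact h3
    linear_combination h1
  have hNC : (Nat.card ↥(Subgroup.normalizer (H : Set G)) : ℂ) =
      ((Nat.card ↥H : ℂ) - 1) * (k : ℂ) := by
    rw [hNk, Nat.cast_mul, Nat.cast_sub hq1, Nat.cast_one]
  rw [hcC, hNC] at horth
  have hkC : (k : ℂ) ≠ 0 := by exact_mod_cast hkpos.ne'
  -- now convert the finsums
  simp only [finsum_mem_eq_finite_toFinset_sum _ hfin] at horth ⊢
  simp only [hγ, finsum_mem_eq_finite_toFinset_sum _ hfin, hainv] at horth
  have h5 : ∑ χ ∈ hfin.toFinset, (χ : G → ℂ) a *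
      (((Nat.card ↥H : ℂ) - 1) * (χ : G → ℂ) a ^ 2 / (χ : G → ℂ) 1 -
        ((Nat.card ↥H : ℂ) - 2) * (χ : G → ℂ) a) =
      ((Nat.card ↥H : ℂ) - 1) * ∑ χ ∈ hfin.toFinset,
        (χ : G → ℂ) a * (χ : G → ℂ) a * (χ : G → ℂ) a / (χ : G → ℂ) 1 -
      ((Nat.card ↥H : ℂ) - 2) * ∑ χ ∈ hfin.toFinset, (χ : G → ℂ) a * (χ : G → ℂ) a := by
    rw [Finset.mul_sum, Finset.mul_sum, ← Finset.sum_sub_distrib]
    refine Finset.sum_congr rfl (fun χ _ => ?_)
    ring
  rw [h5]
  have h6 : (k : ℂ) * (((Nat.card ↥H : ℂ) - 1) * ∑ χ ∈ hfin.toFinset,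
        (χ : G → ℂ) a * (χ : G → ℂ) a * (χ : G → ℂ) a / (χ : G → ℂ) 1 -
      ((Nat.card ↥H : ℂ) - 2) * ∑ χ ∈ hfin.toFinset, (χ : G → ℂ) a * (χ : G → ℂ) a) = 0 := by
    linear_combination horth
  rcases mul_eq_zero.1 h6 with h7 | h7
  · exact absurd h7 hkC
  · exact h7

/-- **(EV)**: the eigenvalue inequality of CASE B -/
theorem caseB_EV (M : Ideal AlgInt)
    (hloc : LocData 2 H (principalBlock M G))
    (a : G) (ha : a ∈ H) (ha1 : a ≠ 1) (haa : a * a = 1)
    (htr : ∀ b ∈ H, b ≠ 1 → ∃ n ∈ Subgroup.normalizer (H : Set G), n * a * n⁻¹ = b)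
    (χ : IrrCharacter G) (hχ : χ ∈ principalBlock M G) (d f : ℝ)
    (hd : (χ : G → ℂ) a = (d : ℂ)) (hf : (χ : G → ℂ) 1 = (f : ℂ)) (hfpos : 0 < f) :
    f * (2 * d - f) ≤ ((Nat.card ↥H : ℝ) - 1) * d ^ 2 - ((Nat.card ↥H : ℝ) - 2) * d * f := by
  classical
  letI : Fintype G := Fintype.ofFinite G
  letI : Fintype ↥(Subgroup.normalizer (H : Set G)) := Fintype.ofFinite _
  have hainv : a⁻¹ = a := inv_eq_of_mul_eq_one_left haa
  have key : ∀ x : G, a * x = 1 ↔ x = a := by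
    intro x
    constructor
    · intro h
      rw [← hainv]
      exact eq_inv_of_mul_eq_one_right h
    · intro h; rw [h, haa]
  set k := (Finset.univ.filter (fun n : ↥(Subgroup.normalizer (H : Set G)) =>
    (n : G) * a * (n : G)⁻¹ = a)).card with hk
  have hkpos : 0 < k := by
    rw [hk, Finset.card_pos]
    exact ⟨1, by simp⟩
  have hNk := card_normalizer_eq a ha ha1 htr
  rw [← hk] at hNk
  have hq1 : 1 ≤ Nat.card ↥H := Nat.card_pos
  have hcf := Cfsg.Agent.Lib.H24.isClassFunction_irr χ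
  have hconst : ∀ b ∈ H, b ≠ 1 → (χ : G → ℂ) b = (χ : G → ℂ) a := by
    intro b hb hb1
    obtain ⟨n, _, rfl⟩ := htr b hb hb1
    exact hcf a n
  obtain ⟨ν, hν, -, hm⟩ := cs_master hloc
  have h := hm χ hχ a ha a ha
  set c := (Finset.univ.filter (fun n : ↥(Subgroup.normalizer (H : Set G)) =>
      ¬ (n : G) * a * (n : G)⁻¹ = a)).card with hc
  have hcompl : c + k = Nat.card ↥(Subgroup.normalizer (H : Set G)) := by
    have h' := Finset.card_filter_add_card_filter_not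
      (s := (Finset.univ : Finset ↥(Subgroup.normalizer (H : Set G))))
      (fun n => (n : G) * a * (n : G)⁻¹ = a)
    rw [hk, hc, Nat.card_eq_fintype_card, ← Finset.card_univ, ← h', add_comm]
  -- the good sum
  have hgood : ∑ n : ↥(Subgroup.normalizer (H : Set G)),
      (if a * ((n : G) * a * (n : G)⁻¹) ≠ 1 then
        (χ : G → ℂ) (a * ((n : G) * a * (n : G)⁻¹)) else 0) = (c : ℂ) * (d : ℂ) := by
    have h1 : ∀ n : ↥(Subgroup.normalizer (H : Set G)),
        (if a * ((n : G) * a * (n : G)⁻¹) ≠ 1 then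
          (χ : G → ℂ) (a * ((n : G) * a * (n : G)⁻¹)) else 0) =
        if ¬ (n : G) * a * (n : G)⁻¹ = a then (d : ℂ) else 0 := by
      intro n
      by_cases hn : (n : G) * a * (n : G)⁻¹ = a
      · rw [if_neg (not_not.2 ((key _).2 hn)), if_neg (not_not.2 hn)]
      · rw [if_pos (fun h' => hn ((key _).1 h')), if_pos hn,
          hconst _ (H.mul_mem ha (conj_mem_of_mem_normalizer n.2 ha))
            (fun h' => hn ((key _).1 h')), hd]
    rw [Finset.sum_congr rfl (fun n _ => h1 n), Finset.sum_ite, Finset.sum_const_zero, add_zero,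
      Finset.sum_const, nsmul_eq_mul]
  rw [hgood, hd, hf] at h
  set S : ℂ := ∑ g : G, ∑ n : ↥(Subgroup.normalizer (H : Set G)),
      (if a * (ν g * ((n : G) * a * (n : G)⁻¹) * (ν g)⁻¹) = 1 then
        (χ : G → ℂ) (a * (g * ((n : G) * a * (n : G)⁻¹) * g⁻¹)) else 0) with hS
  -- the real part of `S`
  have hSre : S.re = (Nat.card ↥(Subgroup.normalizer (H : Set G)) : ℝ) *
      ((Nat.card G : ℝ) * d * d / f) - (Nat.card G : ℝ) * ((c : ℝ) * d) := by
    have h2 : S = (((Nat.card ↥(Subgroup.normalizer (H : Set G)) : ℝ) *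
      ((Nat.card G : ℝ) * d * d / f) - (Nat.card G : ℝ) * ((c : ℝ) * d) : ℝ) : ℂ) := by
      push_cast
      linear_combination -h
    rw [h2, Complex.ofReal_re]
  -- the lower bound for the real part of `S`
  have hSlow : (Nat.card G : ℝ) * ((k : ℝ) * (2 * d - f)) ≤ S.re := by
    rw [hS, Complex.re_sum]
    have h3 : ∀ g : G, (k : ℝ) * (2 * d - f) ≤
        (∑ n : ↥(Subgroup.normalizer (H : Set G)),
          (if a * (ν g * ((n : G) * a * (n : G)⁻¹) * (ν g)⁻¹) = 1 then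
            (χ : G → ℂ) (a * (g * ((n : G) * a * (n : G)⁻¹) * g⁻¹)) else 0)).re := by
      intro g
      rw [Complex.re_sum]
      have h4 : ∀ n : ↥(Subgroup.normalizer (H : Set G)),
          (if a * (ν g * ((n : G) * a * (n : G)⁻¹) * (ν g)⁻¹) = 1 then (2 * d - f) else 0) ≤
          (if a * (ν g * ((n : G) * a * (n : G)⁻¹) * (ν g)⁻¹) = 1 then
            (χ : G → ℂ) (a * (g * ((n : G) * a * (n : G)⁻¹) * g⁻¹)) else 0).re := by
        intro n
        by_cases hP : a * (ν g * ((n : G) * a * (n : G)⁻¹) * (ν g)⁻¹) = 1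
        · rw [if_pos hP, if_pos hP]
          have hy : (g * ((n : G) * a * (n : G)⁻¹) * g⁻¹) * (g * ((n : G) * a * (n : G)⁻¹) * g⁻¹)
              = 1 := by
            have : (g * ((n : G) * a * (n : G)⁻¹) * g⁻¹) * (g * ((n : G) * a * (n : G)⁻¹) * g⁻¹)
              = g * ((n : G) * (a * a) * (n : G)⁻¹) * g⁻¹ := by group
            rw [this, haa]
            group
          have hinv2 := Cfsg.Agent.Lib.H17.SH.char_mul_involutions_ge (χ : G → ℂ)
            (Cfsg.Agent.Lib.L0.isCharacter_of_irr χ.2) a _ haa hy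
          rw [hcf _ g, hcf a (n : G), hd, hf, Complex.ofReal_re, Complex.ofReal_re] at hinv2
          linarith
        · rw [if_neg hP, if_neg hP, Complex.zero_re]
      calc (k : ℝ) * (2 * d - f)
          = ∑ n : ↥(Subgroup.normalizer (H : Set G)),
            (if a * (ν g * ((n : G) * a * (n : G)⁻¹) * (ν g)⁻¹) = 1 then (2 * d - f) else 0) := by
            rw [Finset.sum_ite, Finset.sum_const_zero, add_zero, Finset.sum_const, nsmul_eq_mul,
              card_bad a (ν g) (hν g) haa]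
        _ ≤ _ := Finset.sum_le_sum (fun n _ => h4 n)
    calc (Nat.card G : ℝ) * ((k : ℝ) * (2 * d - f))
        = ∑ _g : G, (k : ℝ) * (2 * d - f) := by
          rw [Finset.sum_const, Finset.card_univ, nsmul_eq_mul, Nat.card_eq_fintype_card]
      _ ≤ _ := Finset.sum_le_sum (fun g _ => h3 g)
  rw [hSre] at hSlow
  -- arithmetic
  have hNR : (Nat.card ↥(Subgroup.normalizer (H : Set G)) : ℝ) =
      ((Nat.card ↥H : ℝ) - 1) * (k : ℝ) := by
    rw [hNk, Nat.cast_mul, Nat.cast_sub hq1, Nat.cast_one]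
  have hcR : (c : ℝ) = ((Nat.card ↥H : ℝ) - 2) * (k : ℝ) := by
    have h1 : (c : ℝ) + (k : ℝ) = ((Nat.card ↥H : ℝ) - 1) * (k : ℝ) := by
      rw [← hNR, ← hcompl, Nat.cast_add]
    linarith
  rw [hNR, hcR] at hSlow
  have hGpos : (0 : ℝ) < (Nat.card G : ℝ) := by exact_mod_cast Nat.card_pos
  have hkR : (0 : ℝ) < (k : ℝ) := by exact_mod_cast hkpos
  have h5 : (Nat.card G : ℝ) * (k : ℝ) * (f * (2 * d - f)) ≤ (Nat.card G : ℝ) * (k : ℝ) *
      (((Nat.card ↥H : ℝ) - 1) * d ^ 2 - ((Nat.card ↥H : ℝ) - 2) * d * f) := by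
    have h6 : ((Nat.card ↥H : ℝ) - 1) * (k : ℝ) * ((Nat.card G : ℝ) * d * d / f) * f =
        ((Nat.card ↥H : ℝ) - 1) * (k : ℝ) * ((Nat.card G : ℝ) * d * d) := by
      field_simp
    have h7 := mul_le_mul_of_nonneg_right hSlow hfpos.le
    nlinarith [h6, h7]
  exact le_of_mul_le_mul_left h5 (mul_pos hGpos hkR)

/-- **CASE B is impossible**: `N_G(H)` is not transitive on `H \ {1}` when `|H| ≥ 4`. -/
theorem caseB (M : Ideal AlgInt) (hM : IsPModular 2 M)
    (hloc : LocData 2 H (principalBlock M G)) (hq : 4 ≤ Nat.card ↥H)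
    (a : G) (ha : a ∈ H) (ha1 : a ≠ 1) (haa : a * a = 1)
    (htr : ∀ b ∈ H, b ≠ 1 → ∃ n ∈ Subgroup.normalizer (H : Set G), n * a * n⁻¹ = b)
    (hker : ∀ χ ∈ principalBlock M G, (χ : G → ℂ) a = (χ : G → ℂ) 1 →
      (χ : G → ℂ) = fun _ => 1) : False := by
  classical
  haveI hPr := Cfsg.Agent.Lib.H23.isPrime_of_isPModular hM
  have hHne : H ≠ ⊥ := by
    intro h
    rw [h, Subgroup.mem_bot] at ha
    exact ha1 ha
  have hconj : ∀ x ∈ H, x ≠ 1 → ∃ g : G, g * a * g⁻¹ = x := by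
    intro x hx hx1
    obtain ⟨n, _, hn⟩ := htr x hx hx1
    exact ⟨n, hn⟩
  -- the integer data
  have hex : ∀ χ : IrrCharacter G, ∃ (d : ℤ) (f : ℕ), (χ : G → ℂ) a = (d : ℂ) ∧
      (χ : G → ℂ) 1 = (f : ℂ) ∧ 0 < f ∧ d ≤ (f : ℤ) ∧ ((Nat.card ↥H : ℕ) : ℤ) ∣ (f : ℤ) - d := by
    intro χ
    have hc := Cfsg.Agent.Lib.L0.isCharacter_of_irr χ.2
    obtain ⟨d, hd⟩ := Cfsg.Agent.Lib.H11.AE.exists_int_value hc H hHne a hconj
    obtain ⟨f, hfpos, hf⟩ := Cfsg.Agent.Lib.H24.irr_one_eq χ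
    obtain ⟨m, hm⟩ := Cfsg.Agent.Lib.H11.AE.exists_int_mult' hc H a hconj d hd f hf
    refine ⟨d, f, hd, hf, hfpos, Cfsg.Agent.Lib.H11.AE.int_value_le hc a d hd f hf, ?_⟩
    exact ⟨m, by rw [hm]; ring⟩
  choose d f hd hf hfpos hdle hmult using hex
  set i₀ : IrrCharacter G := ⟨fun _ => 1, Cfsg.Agent.Lib.H24.isIrrCharacter_one⟩ with hi₀
  have hi₀B : i₀ ∈ principalBlock M G := Cfsg.Agent.Lib.H23.sameBlock_refl (M := M) _
  have hd0 : d i₀ = 1 := by
    have h1 := hd i₀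
    have h2 : (i₀ : G → ℂ) a = 1 := rfl
    rw [h2] at h1
    exact_mod_cast h1.symm
  have hf0 : f i₀ = 1 := by
    have h1 := hf i₀
    have h2 : (i₀ : G → ℂ) 1 = 1 := rfl
    rw [h2] at h1
    exact_mod_cast h1.symm
  set q := Nat.card ↥H with hqdef
  set R : IrrCharacter G → ℝ := fun χ =>
    ((q : ℝ) - 1) * (d χ : ℝ) ^ 2 / (f χ : ℝ) - ((q : ℝ) - 2) * (d χ : ℝ) with hR
  have hfR : ∀ χ : IrrCharacter G, (0 : ℝ) < (f χ : ℝ) := fun χ => by exact_mod_cast hfpos χ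
  have hdC : ∀ χ : IrrCharacter G, (χ : G → ℂ) a = ((d χ : ℝ) : ℂ) := fun χ => by
    rw [hd χ]; push_cast; rfl
  have hfC : ∀ χ : IrrCharacter G, (χ : G → ℂ) 1 = ((f χ : ℝ) : ℂ) := fun χ => by
    rw [hf χ]; push_cast; rfl
  refine Cfsg.Agent.Lib.H25.SH.endB_arith_finsum (principalBlock M G) i₀ hi₀B q hq d f R
    (fun χ _ => hfpos χ) hd0 hf0 ?_ (fun χ _ => hdle χ) (fun χ _ => hmult χ) ?_ ?_ ?_
  · -- `d ≠ f` off the trivial character
    intro χ hχ hne hdf
    apply hne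
    have h1 : (χ : G → ℂ) a = (χ : G → ℂ) 1 := by
      rw [hd χ, hf χ, hdf]
      push_cast
      rfl
    exact Subtype.ext (hker χ hχ h1)
  · -- hCS
    intro χ _
    have := (hfR χ).ne'
    simp only [hR]
    field_simp
    ring
  · -- hEV
    intro χ hχ
    have h1 := caseB_EV M hloc a ha ha1 haa htr χ hχ (d χ : ℝ) (f χ : ℝ) (hdC χ) (hfC χ) (hfR χ)
    simp only [hR]
    rw [← hqdef] at h1
    have hfp := hfR χ
    have h2 : 2 * (d χ : ℝ) - (f χ : ℝ) ≤
        (((q : ℝ) - 1) * (d χ : ℝ) ^ 2 - ((q : ℝ) - 2) * (d χ : ℝ) * (f χ : ℝ)) / (f χ : ℝ) := by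
      rw [le_div_iff₀ hfp]
      linarith [h1]
    have h3 : (((q : ℝ) - 1) * (d χ : ℝ) ^ 2 - ((q : ℝ) - 2) * (d χ : ℝ) * (f χ : ℝ)) / (f χ : ℝ) =
        ((q : ℝ) - 1) * (d χ : ℝ) ^ 2 / (f χ : ℝ) - ((q : ℝ) - 2) * (d χ : ℝ) := by
      field_simp
    rw [← h3]
    exact h2
  · -- hORTH
    have h1 := caseB_OR M hM hloc a ha ha1 haa htr
    rw [← hqdef] at h1
    have hfin : (principalBlock M G).Finite := Set.toFinite _
    rw [finsum_mem_eq_finite_toFinset_sum _ hfin] at h1 ⊢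
    have h2 : ∀ χ ∈ hfin.toFinset, (χ : G → ℂ) a *
        (((q : ℂ) - 1) * (χ : G → ℂ) a ^ 2 / (χ : G → ℂ) 1 - ((q : ℂ) - 2) * (χ : G → ℂ) a) =
        (((d χ : ℝ) * R χ : ℝ) : ℂ) := by
      intro χ _
      rw [hdC χ, hfC χ]
      simp only [hR]
      push_cast
      ring
    rw [Finset.sum_congr rfl h2, ← Complex.ofReal_sum] at h1
    exact_mod_cast h1


end caseB

end Cfsg.Agent.Lib.H11.SH
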