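import Cfsg.Agent.Lib.H11.SHCSG
import Cfsg.Agent.Lib.H9.SHLOC
import Cfsg.Agent.Lib.H22.PPrimeCore

/-!
# S3017 (Shult), piece CSG part 3 (helper11): from helper9's LOC to `LocData`, fusion control, `Γ`

* `locData_of_loc`  : the LOC output (conjugate to `(a ν b ν⁻¹) w`, `w ∈ O(C_G(a ν b ν⁻¹))`) + S0942 ⟹
  `LocData 2 H B₀`.
* `locData_of_shult`: the same directly from helper9's `H9.SH.loc_main`.
* `fusion_control`  : `N_G(H)` controls fusion in `H`.
* `gamma_eval`      : `∑_{B₀} χ(h) χ(c⁻¹)` for `2`-elements `h`, `c`.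
* `orth_count`      : ORTH in counting form.
-/

set_option autoImplicit false

namespace Cfsg.Agent.Lib.H11.SH

open Cfsg

variable {G : Type*} [Group G] [Finite G]

/-- the shape of the LOC output (helper9's `loc_main` without `k`) -/
def LocOut (H : Subgroup G) : Prop :=
  ∀ g : G, ∃ ν ∈ Subgroup.normalizer (H : Set G), ∀ a ∈ H, ∀ b ∈ H,
    (a * (ν * b * ν⁻¹) ≠ 1 →
      ∃ x : G, ∃ w ∈ Cfsg.centralizerPPrimeCore 2 (a * (ν * b * ν⁻¹)),
        x * (a * (g * b * g⁻¹)) * x⁻¹ = (a * (ν * b * ν⁻¹)) * w) ∧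
    (a * (ν * b * ν⁻¹) = 1 → Odd (orderOf (a * (g * b * g⁻¹))))

theorem orderOf_pow_two_of_mem {H : Subgroup G} (hH2 : IsPGroup 2 H) {s : G} (hs : s ∈ H) :
    ∃ k : ℕ, orderOf s = 2 ^ k := by
  obtain ⟨k, hk⟩ := hH2 ⟨s, hs⟩
  have h1 : s ^ 2 ^ k = 1 := by
    have := congrArg Subtype.val hk
    simpa using this
  obtain ⟨j, _, hj⟩ := (Nat.dvd_prime_pow Nat.prime_two).1 (orderOf_dvd_of_pow_eq_one h1)
  exact ⟨j, hj⟩

/-- LOC + S0942 give `LocData` -/
theorem locData_of_loc {H : Subgroup G} (hH2 : IsPGroup 2 H) (M : Ideal AlgInt)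
    (hM : IsPModular 2 M) (h : LocOut H) : LocData 2 H (principalBlock M G) := by
  haveI : Fact (Nat.Prime 2) := ⟨Nat.prime_two⟩
  intro g
  obtain ⟨ν, hν, hab⟩ := h g
  refine ⟨ν, hν, fun a ha b hb => ⟨?_, ?_⟩⟩
  · intro hne χ hχ
    obtain ⟨x, w, hw, hx⟩ := (hab a ha b hb).1 hne
    have hs : a * (ν * b * ν⁻¹) ∈ H := H.mul_mem ha (conj_mem_of_mem_normalizer hν hb)
    have h1 := Cfsg.Agent.S0942.result 2 M hM (a * (ν * b * ν⁻¹))
      (orderOf_pow_two_of_mem hH2 hs) w hw χ hχ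
    rw [← h1, ← hx]
    exact (Cfsg.Agent.Lib.H24.isClassFunction_irr χ _ x).symm
  · intro he
    have := (hab a ha b hb).2 he
    rw [← Nat.not_even_iff_odd, even_iff_two_dvd] at this
    exact this

/-- `LocData` directly from helper9's `loc_main` -/
theorem locOut_of_shult {H : Subgroup G} (hH2 : IsPGroup 2 H) (hHab : IsMulCommutative H)
    (hcl : Cfsg.IsExtremelyClosed H)
    (hIH : ∀ h ∈ H, h ≠ 1 → Subgroup.normalizer
        ((H.subgroupOf (Subgroup.centralizer ({h} : Set G)) :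
          Subgroup ↥(Subgroup.centralizer ({h} : Set G))) :
          Set ↥(Subgroup.centralizer ({h} : Set G))) ⊔
        Cfsg.oddCore ↥(Subgroup.centralizer ({h} : Set G)) = ⊤) : LocOut H := by
  intro g
  obtain ⟨k, _, ν, hν, _, hab⟩ := Cfsg.Agent.Lib.H9.SH.loc_main hH2 hHab hcl hIH g
  exact ⟨ν, hν, hab⟩

theorem locData_of_shult {H : Subgroup G} (hH2 : IsPGroup 2 H) (hHab : IsMulCommutative H)
    (hcl : Cfsg.IsExtremelyClosed H)
    (hIH : ∀ h ∈ H, h ≠ 1 → Subgroup.normalizer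
        ((H.subgroupOf (Subgroup.centralizer ({h} : Set G)) :
          Subgroup ↥(Subgroup.centralizer ({h} : Set G))) :
          Set ↥(Subgroup.centralizer ({h} : Set G))) ⊔
        Cfsg.oddCore ↥(Subgroup.centralizer ({h} : Set G)) = ⊤)
    (M : Ideal AlgInt) (hM : IsPModular 2 M) : LocData 2 H (principalBlock M G) :=
  locData_of_loc hH2 M hM (locOut_of_shult hH2 hHab hcl hIH)

/-- elements of `O(C_G(s))` have odd order -/
theorem odd_orderOf_of_mem_core {s w : G} (hw : w ∈ Cfsg.centralizerPPrimeCore 2 s) :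
    Odd (orderOf w) := by
  obtain ⟨y, hy, rfl⟩ := hw
  have h1 : (Nat.card (Cfsg.pPrimeCore 2 ↥(Subgroup.centralizer ({s} : Set G)))).Coprime 2 :=
    Cfsg.Agent.Lib.H22.card_pPrimeCore_coprime 2
  have h2 : orderOf y ∣ Nat.card (Cfsg.pPrimeCore 2 ↥(Subgroup.centralizer ({s} : Set G))) := by
    have := orderOf_dvd_natCard (⟨y, hy⟩ : ↥(Cfsg.pPrimeCore 2 ↥(Subgroup.centralizer ({s} : Set G))))
    rwa [Subgroup.orderOf_mk] at this
  have h3 : orderOf ((Subgroup.centralizer ({s} : Set G)).subtype y) = orderOf y :=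
    Subgroup.orderOf_coe y
  rw [h3]
  exact (Nat.coprime_two_right).1 (Nat.Coprime.coprime_dvd_left h2 h1)

/-- `N_G(H)` controls fusion in `H` -/
theorem fusion_control {H : Subgroup G} (hH2 : IsPGroup 2 H) (h : LocOut H)
    (c : G) (hc : c ∈ H) (g : G) (hg : g * c * g⁻¹ ∈ H) :
    ∃ n ∈ Subgroup.normalizer (H : Set G), n * c * n⁻¹ = g * c * g⁻¹ := by
  obtain ⟨ν, hν, hab⟩ := h g
  refine ⟨ν, hν, ?_⟩
  have ha : (g * c * g⁻¹)⁻¹ ∈ H := H.inv_mem hg
  by_cases he : (g * c * g⁻¹)⁻¹ * (ν * c * ν⁻¹) = 1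
  · exact (inv_mul_eq_one.1 he).symm
  · exfalso
    obtain ⟨x, w, hw, hx⟩ := (hab _ ha c hc).1 he
    rw [inv_mul_cancel, mul_one, mul_inv_cancel] at hx
    set s := (g * c * g⁻¹)⁻¹ * (ν * c * ν⁻¹) with hs
    have hsH : s ∈ H := H.mul_mem ha (conj_mem_of_mem_normalizer hν hc)
    obtain ⟨k, hk⟩ := orderOf_pow_two_of_mem hH2 hsH
    have hodd := odd_orderOf_of_mem_core hw
    have hws : w = s⁻¹ := eq_inv_of_mul_eq_one_right hx.symm
    rw [hws, orderOf_inv, hk] at hodd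
    rcases k with _ | k
    · rw [pow_zero, orderOf_eq_one_iff] at hk
      exact he hk
    · rw [pow_succ] at hodd
      exact (Nat.not_even_iff_odd.2 hodd) (even_two.mul_left _)

/-- block orthogonality for two `p`-elements -/
theorem gamma_eval {p : ℕ} [Fact p.Prime] (M : Ideal AlgInt) (hM : IsPModular p M) (h c : G)
    (hh : ∃ k : ℕ, orderOf h = p ^ k) (hc : ∃ k : ℕ, orderOf c = p ^ k) :
    (¬ IsConj h c → ∑ᶠ χ ∈ principalBlock M G, (χ : G → ℂ) h * (χ : G → ℂ) c⁻¹ = 0) ∧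
    (IsConj h c → ∑ᶠ χ ∈ principalBlock M G, (χ : G → ℂ) h * (χ : G → ℂ) c⁻¹ =
      ∑ᶠ χ ∈ principalBlock M G, (χ : G → ℂ) c * (χ : G → ℂ) c⁻¹) := by
  have hp : p.Prime := Fact.out
  have hself : ∀ x : G, (∃ k : ℕ, orderOf x = p ^ k) → IsPPart p x x := by
    intro x hx
    refine ⟨1, mul_one x, Commute.one_right x, hx, ?_⟩
    rw [orderOf_one]
    exact hp.one_lt.ne' ∘ Nat.dvd_one.1
  constructor
  · intro hnc
    have hB : IsPBlock M (principalBlock M G) :=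
      ⟨⟨fun _ => 1, Cfsg.Agent.Lib.H24.isIrrCharacter_one⟩, rfl⟩
    exact (Cfsg.Agent.S0925.result p M hM).2 h c h c (hself h hh) (hself c hc) hnc
      (principalBlock M G) hB
  · intro hconj
    refine finsum_mem_congr rfl (fun χ _ => ?_)
    obtain ⟨x, hx⟩ := isConj_iff.1 hconj
    rw [← hx, Cfsg.Agent.Lib.H24.isClassFunction_irr χ h x]

/-- **ORTH in counting form** -/
theorem orth_count [DecidableEq G] {H : Subgroup G} [Fintype ↥(Subgroup.normalizer (H : Set G))]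
    (hH2 : IsPGroup 2 H) (M : Ideal AlgInt) (hM : IsPModular 2 M) (hloc : LocOut H)
    (a b c : G) (ha : a ∈ H) (hb : b ∈ H) (hc : c ∈ H) (hc1 : c ≠ 1)
    [DecidablePred (fun n : ↥(Subgroup.normalizer (H : Set G)) =>
      ∃ n' ∈ Subgroup.normalizer (H : Set G), n' * c * n'⁻¹ = a * ((n : G) * b * (n : G)⁻¹))] :
    (Nat.card ↥(Subgroup.normalizer (H : Set G)) : ℂ) *
        ∑ᶠ χ ∈ principalBlock M G,
          (χ : G → ℂ) a * (χ : G → ℂ) b * (χ : G → ℂ) c⁻¹ / (χ : G → ℂ) 1 =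
      (∑ᶠ χ ∈ principalBlock M G, (χ : G → ℂ) c * (χ : G → ℂ) c⁻¹) *
        ((Finset.univ.filter (fun n : ↥(Subgroup.normalizer (H : Set G)) =>
          ∃ n' ∈ Subgroup.normalizer (H : Set G),
            n' * c * n'⁻¹ = a * ((n : G) * b * (n : G)⁻¹))).card : ℂ) := by
  haveI : Fact (Nat.Prime 2) := ⟨Nat.prime_two⟩
  have hcp := orderOf_pow_two_of_mem hH2 hc
  rw [orth M hM (locData_of_loc hH2 M hM hloc) a b ha hb c hcp hc1]
  have hterm : ∀ n : ↥(Subgroup.normalizer (H : Set G)),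
      ∑ᶠ χ ∈ principalBlock M G,
        (χ : G → ℂ) (a * ((n : G) * b * (n : G)⁻¹)) * (χ : G → ℂ) c⁻¹ =
      if (∃ n' ∈ Subgroup.normalizer (H : Set G),
          n' * c * n'⁻¹ = a * ((n : G) * b * (n : G)⁻¹)) then
        ∑ᶠ χ ∈ principalBlock M G, (χ : G → ℂ) c * (χ : G → ℂ) c⁻¹ else 0 := by
    intro n
    have hmem : a * ((n : G) * b * (n : G)⁻¹) ∈ H :=
      H.mul_mem ha (conj_mem_of_mem_normalizer n.2 hb)
    have hev := gamma_eval M hM (a * ((n : G) * b * (n : G)⁻¹)) c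
      (orderOf_pow_two_of_mem hH2 hmem) hcp
    by_cases hP : ∃ n' ∈ Subgroup.normalizer (H : Set G),
        n' * c * n'⁻¹ = a * ((n : G) * b * (n : G)⁻¹)
    · rw [if_pos hP]
      obtain ⟨n', _, hn'⟩ := hP
      exact hev.2 (isConj_iff.2 ⟨n', hn'⟩).symm
    · rw [if_neg hP]
      apply hev.1
      intro hconj
      obtain ⟨x, hx⟩ := isConj_iff.1 hconj.symm
      apply hP
      have hxH : x * c * x⁻¹ ∈ H := by rw [hx]; exact hmem
      obtain ⟨n', hn', hn'c⟩ := fusion_control hH2 hloc c hc x hxH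
      exact ⟨n', hn', by rw [hn'c, hx]⟩
  rw [Finset.sum_congr rfl (fun n _ => hterm n), Finset.sum_ite, Finset.sum_const_zero, add_zero,
    Finset.sum_const, nsmul_eq_mul, mul_comm]

end Cfsg.Agent.Lib.H11.SH
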