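import Cfsg.Agent.Lib.H11.SHCSG2
import Cfsg.Agent.Lib.H12.SHGLUEA
import Cfsg.Agent.Lib.H8.SHENDBq3

/-!
# S3016 (Shult, odd `p`), CASE B at `q = |H| = 3` (helper11): the group side

`N_G(H)` transitive on `H \ {1}` with `|H| = 3` is impossible.  Inputs: the LOC output
`LocData 3 H B₀` (helper11 `SHCSG`), the pointwise bound (Q3-PT, helper26's Lemma Q3 route, taken
as the hypothesis `hpt`), and helper8's pure arithmetic `endb_q3`.

Class sum at the pair `(a, a⁻¹)`: the bad pairs are the `n ∈ C_N(a)` (`k` of them, `|N| = 2 k`),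
the good pairs give `χ (a * a) = χ a⁻¹ = χ a = d`.  So `2 d² / f = d + R` with `R` the average of
`Re χ` over the bad pairs, `R ≥ 2 d - f` by `hpt`; ORTH gives `∑ d R = 0`, block orthogonality of
`a` against `1` gives `∑ d f = 0`.
-/

set_option autoImplicit false

namespace Cfsg.Agent.Lib.H11.SHQ3

open Cfsg Cfsg.Agent.Lib.H11.SH

variable {G : Type*} [Group G]

theorem one_iff (a n : G) : a * (n * a⁻¹ * n⁻¹) = 1 ↔ n * a * n⁻¹ = a := by
  have hX : n * a⁻¹ * n⁻¹ = (n * a * n⁻¹)⁻¹ := by group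
  rw [hX, mul_inv_eq_one, eq_comm]

theorem bad_iff (a ν n : G) :
    a * (ν * (n * a⁻¹ * n⁻¹) * ν⁻¹) = 1 ↔ ν * n * a * (ν * n)⁻¹ = a := by
  have hX : ν * (n * a⁻¹ * n⁻¹) * ν⁻¹ = (ν * n * a * (ν * n)⁻¹)⁻¹ := by group
  rw [hX, mul_inv_eq_one, eq_comm]

section count

variable [DecidableEq G] {H : Subgroup G} [Fintype ↥(Subgroup.normalizer (H : Set G))]

/-- the bad set of a `g` (with its `ν`) for the pair `(a, a⁻¹)` has as many elements as the
stabilizer of `a` -/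
theorem card_bad_inv (a ν : G) (hν : ν ∈ Subgroup.normalizer (H : Set G)) :
    (Finset.univ.filter (fun n : ↥(Subgroup.normalizer (H : Set G)) =>
      a * (ν * ((n : G) * a⁻¹ * (n : G)⁻¹) * ν⁻¹) = 1)).card =
    (Finset.univ.filter (fun n : ↥(Subgroup.normalizer (H : Set G)) =>
      (n : G) * a * (n : G)⁻¹ = a)).card := by
  refine Finset.card_nbij' (fun n => (⟨ν, hν⟩ : ↥(Subgroup.normalizer (H : Set G))) * n)
    (fun n => (⟨ν, hν⟩ : ↥(Subgroup.normalizer (H : Set G)))⁻¹ * n) ?_ ?_ ?_ ?_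
  · intro n hn
    simp only [Finset.coe_filter, Finset.mem_univ, true_and, Set.mem_ofPred_eq] at hn ⊢
    rw [bad_iff] at hn
    exact hn
  · intro n hn
    simp only [Finset.coe_filter, Finset.mem_univ, true_and, Set.mem_ofPred_eq] at hn ⊢
    rw [bad_iff]
    have h1 : (((⟨ν, hν⟩ : ↥(Subgroup.normalizer (H : Set G)))⁻¹ * n :
        ↥(Subgroup.normalizer (H : Set G))) : G) = ν⁻¹ * (n : G) := rfl
    rw [h1]
    have h2 : ν * (ν⁻¹ * (n : G)) = (n : G) := by group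
    rw [h2]
    exact hn
  · intro n _
    simp
  · intro n _
    simp

end count

section caseB

variable [Finite G] {H : Subgroup G}

/-- **(OR)** at `q = 3`: the averaged block orthogonality identity -/
theorem q3_OR (M : Ideal AlgInt) (hM : IsPModular 3 M)
    (hloc : LocData 3 H (principalBlock M G)) (hq : Nat.card ↥H = 3)
    (a : G) (ha : a ∈ H) (ha1 : a ≠ 1) (hord : ∃ k : ℕ, orderOf a = 3 ^ k)
    (htr : ∀ b ∈ H, b ≠ 1 → ∃ n ∈ Subgroup.normalizer (H : Set G), n * a * n⁻¹ = b) :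
    ∑ᶠ χ ∈ principalBlock M G, (χ : G → ℂ) a *
      (2 * (χ : G → ℂ) a ^ 2 / (χ : G → ℂ) 1 - (χ : G → ℂ) a) = 0 := by
  classical
  haveI : Fact (Nat.Prime 3) := ⟨Nat.prime_three⟩
  letI : Fintype G := Fintype.ofFinite G
  letI : Fintype ↥(Subgroup.normalizer (H : Set G)) := Fintype.ofFinite _
  have hainvH : a⁻¹ ∈ H := H.inv_mem ha
  have hainv1 : a⁻¹ ≠ 1 := inv_ne_one.2 ha1
  set B := principalBlock M G with hB
  have hfin : B.Finite := Set.toFinite B
  set k := (Finset.univ.filter (fun n : ↥(Subgroup.normalizer (H : Set G)) =>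
    (n : G) * a * (n : G)⁻¹ = a)).card with hk
  have hkpos : 0 < k := by
    rw [hk, Finset.card_pos]
    exact ⟨1, by simp⟩
  have hNk := card_normalizer_eq a ha ha1 htr
  rw [← hk, hq] at hNk
  -- all of `H \ {1}` has the value `χ a`
  have hconst : ∀ χ : IrrCharacter G, ∀ b ∈ H, b ≠ 1 → (χ : G → ℂ) b = (χ : G → ℂ) a := by
    intro χ b hb hb1
    obtain ⟨n, _, rfl⟩ := htr b hb hb1
    exact Cfsg.Agent.Lib.H24.isClassFunction_irr χ a n
  have hinv : ∀ χ : IrrCharacter G, (χ : G → ℂ) a⁻¹ = (χ : G → ℂ) a :=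
    fun χ => hconst χ _ hainvH hainv1
  have horth := orth M hM hloc a a⁻¹ ha hainvH a hord ha1
  rw [← hB] at horth
  -- evaluate the right-hand side
  set γ : ℂ := ∑ᶠ χ ∈ B, (χ : G → ℂ) a * (χ : G → ℂ) a⁻¹ with hγ
  have hterm : ∀ n : ↥(Subgroup.normalizer (H : Set G)),
      ∑ᶠ χ ∈ B, (χ : G → ℂ) (a * ((n : G) * a⁻¹ * (n : G)⁻¹)) * (χ : G → ℂ) a⁻¹ =
        if (n : G) * a * (n : G)⁻¹ = a then 0 else γ := by
    intro n
    by_cases hn : (n : G) * a * (n : G)⁻¹ = a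
    · rw [if_pos hn, (one_iff a (n : G)).2 hn]
      refine sum_block_regular M hM 1 a ?_ hord ha1
      rw [orderOf_one]
      exact Nat.prime_three.one_lt.ne' ∘ Nat.dvd_one.1
    · rw [if_neg hn, hγ]
      refine finsum_mem_congr rfl (fun χ _ => ?_)
      rw [hconst χ _ (H.mul_mem ha (conj_mem_of_mem_normalizer n.2 hainvH))
        (fun h => hn ((one_iff a (n : G)).1 h))]
  rw [Finset.sum_congr rfl (fun n _ => hterm n), Finset.sum_ite, Finset.sum_const_zero, zero_add,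
    Finset.sum_const, nsmul_eq_mul] at horth
  have hcompl : (Finset.univ.filter (fun n : ↥(Subgroup.normalizer (H : Set G)) =>
      ¬ (n : G) * a * (n : G)⁻¹ = a)).card + k =
      Nat.card ↥(Subgroup.normalizer (H : Set G)) := by
    have h := Finset.card_filter_add_card_filter_not
      (s := (Finset.univ : Finset ↥(Subgroup.normalizer (H : Set G))))
      (fun n => (n : G) * a * (n : G)⁻¹ = a)
    rw [hk, Nat.card_eq_fintype_card, ← Finset.card_univ, ← h, add_comm]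
  set c := (Finset.univ.filter (fun n : ↥(Subgroup.normalizer (H : Set G)) =>
      ¬ (n : G) * a * (n : G)⁻¹ = a)).card with hc
  have hck : c = k := by omega
  have hNC : (Nat.card ↥(Subgroup.normalizer (H : Set G)) : ℂ) = 2 * (k : ℂ) := by
    rw [hNk]
    push_cast
    ring
  rw [hck, hNC] at horth
  have hkC : (k : ℂ) ≠ 0 := by exact_mod_cast hkpos.ne'
  -- now convert the finsums
  simp only [finsum_mem_eq_finite_toFinset_sum _ hfin] at horth ⊢
  simp only [hγ, finsum_mem_eq_finite_toFinset_sum _ hfin, hinv] at horth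
  have h5 : ∑ χ ∈ hfin.toFinset, (χ : G → ℂ) a *
      (2 * (χ : G → ℂ) a ^ 2 / (χ : G → ℂ) 1 - (χ : G → ℂ) a) =
      2 * ∑ χ ∈ hfin.toFinset,
        (χ : G → ℂ) a * (χ : G → ℂ) a * (χ : G → ℂ) a / (χ : G → ℂ) 1 -
      ∑ χ ∈ hfin.toFinset, (χ : G → ℂ) a * (χ : G → ℂ) a := by
    rw [Finset.mul_sum, ← Finset.sum_sub_distrib]
    refine Finset.sum_congr rfl (fun χ _ => ?_)
    ring
  rw [h5]
  have h6 : (k : ℂ) * (2 * ∑ χ ∈ hfin.toFinset,
        (χ : G → ℂ) a * (χ : G → ℂ) a * (χ : G → ℂ) a / (χ : G → ℂ) 1 -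
      ∑ χ ∈ hfin.toFinset, (χ : G → ℂ) a * (χ : G → ℂ) a) = 0 := by
    linear_combination horth
  rcases mul_eq_zero.1 h6 with h7 | h7
  · exact absurd h7 hkC
  · exact h7

/-- **(EV)** at `q = 3`: the inequality from the pointwise bound on the bad pairs -/
theorem q3_EV (M : Ideal AlgInt)
    (hloc : LocData 3 H (principalBlock M G)) (hq : Nat.card ↥H = 3)
    (a : G) (ha : a ∈ H) (ha1 : a ≠ 1)
    (htr : ∀ b ∈ H, b ≠ 1 → ∃ n ∈ Subgroup.normalizer (H : Set G), n * a * n⁻¹ = b)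
    (hpt : ∀ (χ : G → ℂ), IsCharacter G χ → ∀ a b g : G, a ∈ H → a ≠ 1 → b ∈ H →
      ¬ 3 ∣ orderOf (a * (g * b * g⁻¹)) →
      2 * (χ a).re - (χ 1).re ≤ (χ (a * (g * b * g⁻¹))).re)
    (χ : IrrCharacter G) (hχ : χ ∈ principalBlock M G) (d f : ℝ)
    (hd : (χ : G → ℂ) a = (d : ℂ)) (hf : (χ : G → ℂ) 1 = (f : ℂ)) (hfpos : 0 < f) :
    f * (2 * d - f) ≤ 2 * d ^ 2 - d * f := by
  classical
  letI : Fintype G := Fintype.ofFinite G
  letI : Fintype ↥(Subgroup.normalizer (H : Set G)) := Fintype.ofFinite _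
  have hainvH : a⁻¹ ∈ H := H.inv_mem ha
  have hainv1 : a⁻¹ ≠ 1 := inv_ne_one.2 ha1
  set k := (Finset.univ.filter (fun n : ↥(Subgroup.normalizer (H : Set G)) =>
    (n : G) * a * (n : G)⁻¹ = a)).card with hk
  have hkpos : 0 < k := by
    rw [hk, Finset.card_pos]
    exact ⟨1, by simp⟩
  have hNk := card_normalizer_eq a ha ha1 htr
  rw [← hk, hq] at hNk
  have hcf := Cfsg.Agent.Lib.H24.isClassFunction_irr χ
  have hconst : ∀ b ∈ H, b ≠ 1 → (χ : G → ℂ) b = (χ : G → ℂ) a := by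
    intro b hb hb1
    obtain ⟨n, _, rfl⟩ := htr b hb hb1
    exact hcf a n
  have hinv : (χ : G → ℂ) a⁻¹ = (χ : G → ℂ) a := hconst _ hainvH hainv1
  obtain ⟨ν, hν, hbad, hm⟩ := cs_master hloc
  have h := hm χ hχ a ha a⁻¹ hainvH
  set c := (Finset.univ.filter (fun n : ↥(Subgroup.normalizer (H : Set G)) =>
      ¬ (n : G) * a * (n : G)⁻¹ = a)).card with hc
  have hcompl : c + k = Nat.card ↥(Subgroup.normalizer (H : Set G)) := by
    have h' := Finset.card_filter_add_card_filter_not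
      (s := (Finset.univ : Finset ↥(Subgroup.normalizer (H : Set G))))
      (fun n => (n : G) * a * (n : G)⁻¹ = a)
    rw [hk, hc, Nat.card_eq_fintype_card, ← Finset.card_univ, ← h', add_comm]
  have hck : c = k := by omega
  -- the good sum
  have hgood : ∑ n : ↥(Subgroup.normalizer (H : Set G)),
      (if a * ((n : G) * a⁻¹ * (n : G)⁻¹) ≠ 1 then
        (χ : G → ℂ) (a * ((n : G) * a⁻¹ * (n : G)⁻¹)) else 0) = (c : ℂ) * (d : ℂ) := by
    have h1 : ∀ n : ↥(Subgroup.normalizer (H : Set G)),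
        (if a * ((n : G) * a⁻¹ * (n : G)⁻¹) ≠ 1 then
          (χ : G → ℂ) (a * ((n : G) * a⁻¹ * (n : G)⁻¹)) else 0) =
        if ¬ (n : G) * a * (n : G)⁻¹ = a then (d : ℂ) else 0 := by
      intro n
      by_cases hn : (n : G) * a * (n : G)⁻¹ = a
      · rw [if_neg (not_not.2 ((one_iff a (n : G)).2 hn)), if_neg (not_not.2 hn)]
      · rw [if_pos (fun h' => hn ((one_iff a (n : G)).1 h')), if_pos hn,
          hconst _ (H.mul_mem ha (conj_mem_of_mem_normalizer n.2 hainvH))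
            (fun h' => hn ((one_iff a (n : G)).1 h')), hd]
    rw [Finset.sum_congr rfl (fun n _ => h1 n), Finset.sum_ite, Finset.sum_const_zero, add_zero,
      Finset.sum_const, nsmul_eq_mul]
  rw [hgood, hinv, hd, hf] at h
  set S : ℂ := ∑ g : G, ∑ n : ↥(Subgroup.normalizer (H : Set G)),
      (if a * (ν g * ((n : G) * a⁻¹ * (n : G)⁻¹) * (ν g)⁻¹) = 1 then
        (χ : G → ℂ) (a * (g * ((n : G) * a⁻¹ * (n : G)⁻¹) * g⁻¹)) else 0) with hS
  -- the real part of `S`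
  have hSre : S.re = (Nat.card ↥(Subgroup.normalizer (H : Set G)) : ℝ) *
      ((Nat.card G : ℝ) * d * d / f) - (Nat.card G : ℝ) * ((c : ℝ) * d) := by
    have h2 : S = (((Nat.card ↥(Subgroup.normalizer (H : Set G)) : ℝ) *
      ((Nat.card G : ℝ) * d * d / f) - (Nat.card G : ℝ) * ((c : ℝ) * d) : ℝ) : ℂ) := by
      push_cast
      linear_combination -h
    rw [h2, Complex.ofReal_re]
  -- the lower bound for the real part of `S`
  have hSlow : (Nat.card G : ℝ) * ((k : ℝ) * (2 * d - f)) ≤ S.re := by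
    rw [hS, Complex.re_sum]
    have h3 : ∀ g : G, (k : ℝ) * (2 * d - f) ≤
        (∑ n : ↥(Subgroup.normalizer (H : Set G)),
          (if a * (ν g * ((n : G) * a⁻¹ * (n : G)⁻¹) * (ν g)⁻¹) = 1 then
            (χ : G → ℂ) (a * (g * ((n : G) * a⁻¹ * (n : G)⁻¹) * g⁻¹)) else 0)).re := by
      intro g
      rw [Complex.re_sum]
      have h4 : ∀ n : ↥(Subgroup.normalizer (H : Set G)),
          (if a * (ν g * ((n : G) * a⁻¹ * (n : G)⁻¹) * (ν g)⁻¹) = 1 then (2 * d - f) else 0) ≤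
          (if a * (ν g * ((n : G) * a⁻¹ * (n : G)⁻¹) * (ν g)⁻¹) = 1 then
            (χ : G → ℂ) (a * (g * ((n : G) * a⁻¹ * (n : G)⁻¹) * g⁻¹)) else 0).re := by
        intro n
        by_cases hP : a * (ν g * ((n : G) * a⁻¹ * (n : G)⁻¹) * (ν g)⁻¹) = 1
        · rw [if_pos hP, if_pos hP]
          have hbH : (n : G) * a⁻¹ * (n : G)⁻¹ ∈ H := conj_mem_of_mem_normalizer n.2 hainvH
          have hcop := hbad g a ha _ hbH hP
          have hb := hpt (χ : G → ℂ) (Cfsg.Agent.Lib.L0.isCharacter_of_irr χ.2) a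
            ((n : G) * a⁻¹ * (n : G)⁻¹) g ha ha1 hbH hcop
          rw [hd, hf, Complex.ofReal_re, Complex.ofReal_re] at hb
          exact hb
        · rw [if_neg hP, if_neg hP, Complex.zero_re]
      calc (k : ℝ) * (2 * d - f)
          = ∑ n : ↥(Subgroup.normalizer (H : Set G)),
            (if a * (ν g * ((n : G) * a⁻¹ * (n : G)⁻¹) * (ν g)⁻¹) = 1 then (2 * d - f)
              else 0) := by
            rw [Finset.sum_ite, Finset.sum_const_zero, add_zero, Finset.sum_const, nsmul_eq_mul,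
              card_bad_inv a (ν g) (hν g)]
        _ ≤ _ := Finset.sum_le_sum (fun n _ => h4 n)
    calc (Nat.card G : ℝ) * ((k : ℝ) * (2 * d - f))
        = ∑ _g : G, (k : ℝ) * (2 * d - f) := by
          rw [Finset.sum_const, Finset.card_univ, nsmul_eq_mul, Nat.card_eq_fintype_card]
      _ ≤ _ := Finset.sum_le_sum (fun g _ => h3 g)
  rw [hSre] at hSlow
  -- arithmetic
  have hNR : (Nat.card ↥(Subgroup.normalizer (H : Set G)) : ℝ) = 2 * (k : ℝ) := by
    rw [hNk]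
    push_cast
    ring
  rw [hNR, hck] at hSlow
  have hGpos : (0 : ℝ) < (Nat.card G : ℝ) := by exact_mod_cast Nat.card_pos
  have hkR : (0 : ℝ) < (k : ℝ) := by exact_mod_cast hkpos
  have h5 : (Nat.card G : ℝ) * (k : ℝ) * (f * (2 * d - f)) ≤ (Nat.card G : ℝ) * (k : ℝ) *
      (2 * d ^ 2 - d * f) := by
    have h6 : 2 * (k : ℝ) * ((Nat.card G : ℝ) * d * d / f) * f =
        2 * (k : ℝ) * ((Nat.card G : ℝ) * d * d) := by
      field_simp
    have h7 := mul_le_mul_of_nonneg_right hSlow hfpos.le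
    nlinarith [h6, h7]
  exact le_of_mul_le_mul_left h5 (mul_pos hGpos hkR)

/-- **CASE B is impossible at `|H| = 3`**: `N_G(H)` is not transitive on `H \ {1}`, given the
pointwise bound Q3-PT on the `3`-regular products. -/
theorem caseB_q3 (M : Ideal AlgInt) (hM : IsPModular 3 M) (H : Subgroup G)
    (hloc : LocData 3 H (principalBlock M G))
    (hncl : Subgroup.normalClosure (H : Set G) = ⊤)
    (htr : Cfsg.Agent.Lib.H12.SH.TransN H) (hq : Nat.card ↥H = 3)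
    (hpt : ∀ (χ : G → ℂ), IsCharacter G χ → ∀ a b g : G, a ∈ H → a ≠ 1 → b ∈ H →
      ¬ 3 ∣ orderOf (a * (g * b * g⁻¹)) →
      2 * (χ a).re - (χ 1).re ≤ (χ (a * (g * b * g⁻¹))).re) : False := by
  classical
  haveI hPr := Cfsg.Agent.Lib.H23.isPrime_of_isPModular hM
  haveI : Fact (Nat.Prime 3) := ⟨Nat.prime_three⟩
  have hHne : H ≠ ⊥ := by
    intro h
    rw [h, Subgroup.card_bot] at hq
    omega
  obtain ⟨⟨a, ha⟩, ha1'⟩ := (Subgroup.ne_bot_iff_exists_ne_one).1 hHne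
  have ha1 : a ≠ 1 := fun h => ha1' (Subtype.ext h)
  have hord : ∃ k : ℕ, orderOf a = 3 ^ k := by
    have h1 : orderOf (⟨a, ha⟩ : ↥H) ∣ 3 := by
      rw [← hq]
      exact orderOf_dvd_natCard _
    have h2 : orderOf a = orderOf (⟨a, ha⟩ : ↥H) := (Subgroup.orderOf_mk a ha).symm
    rcases (Nat.dvd_prime Nat.prime_three).1 h1 with h3 | h3
    · exact ⟨0, by rw [h2, h3, pow_zero]⟩
    · exact ⟨1, by rw [h2, h3, pow_one]⟩
  have htr' : ∀ b ∈ H, b ≠ 1 → ∃ n ∈ Subgroup.normalizer (H : Set G), n * a * n⁻¹ = b :=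
    fun b hb hb1 => htr b hb a ha hb1 ha1
  have hconj : ∀ x ∈ H, x ≠ 1 → ∃ g : G, g * a * g⁻¹ = x := by
    intro x hx hx1
    obtain ⟨n, _, hn⟩ := htr' x hx hx1
    exact ⟨n, hn⟩
  -- the integer data
  have hex : ∀ χ : IrrCharacter G, ∃ (d : ℤ) (f : ℕ), (χ : G → ℂ) a = (d : ℂ) ∧
      (χ : G → ℂ) 1 = (f : ℂ) ∧ 0 < f ∧ d ≤ (f : ℤ) := by
    intro χ
    have hc := Cfsg.Agent.Lib.L0.isCharacter_of_irr χ.2
    obtain ⟨d, hd⟩ := Cfsg.Agent.Lib.H11.AE.exists_int_value hc H hHne a hconj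
    obtain ⟨f, hfpos, hf⟩ := Cfsg.Agent.Lib.H24.irr_one_eq χ
    exact ⟨d, f, hd, hf, hfpos, Cfsg.Agent.Lib.H11.AE.int_value_le hc a d hd f hf⟩
  choose d f hd hf hfpos hdle using hex
  set i₀ : IrrCharacter G := ⟨fun _ => 1, Cfsg.Agent.Lib.H24.isIrrCharacter_one⟩ with hi₀
  have hi₀B : i₀ ∈ principalBlock M G := Cfsg.Agent.Lib.H23.sameBlock_refl (M := M) _
  have hd0 : d i₀ = 1 := by
    have h1 := hd i₀
    have h2 : (i₀ : G → ℂ) a = 1 := rfl
    rw [h2] at h1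
    exact_mod_cast h1.symm
  have hf0 : f i₀ = 1 := by
    have h1 := hf i₀
    have h2 : (i₀ : G → ℂ) 1 = 1 := rfl
    rw [h2] at h1
    exact_mod_cast h1.symm
  set R : IrrCharacter G → ℝ := fun χ =>
    2 * (d χ : ℝ) ^ 2 / (f χ : ℝ) - (d χ : ℝ) with hR
  have hfR : ∀ χ : IrrCharacter G, (0 : ℝ) < (f χ : ℝ) := fun χ => by exact_mod_cast hfpos χ
  have hdC : ∀ χ : IrrCharacter G, (χ : G → ℂ) a = ((d χ : ℝ) : ℂ) := fun χ => by
    rw [hd χ]; push_cast; rfl
  have hfC : ∀ χ : IrrCharacter G, (χ : G → ℂ) 1 = ((f χ : ℝ) : ℂ) := fun χ => by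
    rw [hf χ]; push_cast; rfl
  have hfin : (principalBlock M G).Finite := Set.toFinite _
  have hconst : ∀ χ : IrrCharacter G, ∀ b ∈ H, b ≠ 1 → (χ : G → ℂ) b = (χ : G → ℂ) a := by
    intro χ b hb hb1
    obtain ⟨n, _, rfl⟩ := htr' b hb hb1
    exact Cfsg.Agent.Lib.H24.isClassFunction_irr χ a n
  refine Cfsg.Agent.Lib.H8.SHp.endb_q3 hfin.toFinset i₀ (hfin.mem_toFinset.2 hi₀B) d
    (fun χ => (f χ : ℤ)) R (fun χ _ => by exact_mod_cast hfpos χ) hd0
    (by simp only [hf0]; rfl) ?_ ?_ ?_ ?_ ?_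
  · -- `d < f` off the trivial character
    intro χ hχ hne
    have hχB : χ ∈ principalBlock M G := hfin.mem_toFinset.1 hχ
    refine lt_of_le_of_ne (hdle χ) ?_
    intro hdf
    apply hne
    have h1 : (χ : G → ℂ) a = (χ : G → ℂ) 1 := by
      rw [hd χ, hf χ, hdf]
      push_cast
      rfl
    have h2 : ∀ b ∈ H, (χ : G → ℂ) b = (χ : G → ℂ) 1 := by
      intro b hb
      by_cases hb1 : b = 1
      · rw [hb1]
      · rw [hconst χ b hb hb1, h1]
    exact Subtype.ext (Cfsg.Agent.Lib.H12.SH.ker χ.2 H hncl h2)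
  · -- hcs
    intro χ _
    have := (hfR χ).ne'
    simp only [hR]
    push_cast
    field_simp
    ring
  · -- hq3
    intro χ hχ
    have hχB : χ ∈ principalBlock M G := hfin.mem_toFinset.1 hχ
    have h1 := q3_EV M hloc hq a ha ha1 htr' hpt χ hχB (d χ : ℝ) (f χ : ℝ) (hdC χ) (hfC χ) (hfR χ)
    simp only [hR]
    push_cast
    have hfp := hfR χ
    have h2 : 2 * (d χ : ℝ) - (f χ : ℝ) ≤
        (2 * (d χ : ℝ) ^ 2 - (d χ : ℝ) * (f χ : ℝ)) / (f χ : ℝ) := by
      rw [le_div_iff₀ hfp]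
      linarith [h1]
    have h3 : (2 * (d χ : ℝ) ^ 2 - (d χ : ℝ) * (f χ : ℝ)) / (f χ : ℝ) =
        2 * (d χ : ℝ) ^ 2 / (f χ : ℝ) - (d χ : ℝ) := by
      field_simp
    rw [← h3]
    exact h2
  · -- hsum (ORTH)
    have h1 := q3_OR M hM hloc hq a ha ha1 hord htr'
    rw [finsum_mem_eq_finite_toFinset_sum _ hfin] at h1
    have h2 : ∀ χ ∈ hfin.toFinset, (χ : G → ℂ) a *
        (2 * (χ : G → ℂ) a ^ 2 / (χ : G → ℂ) 1 - (χ : G → ℂ) a) =
        (((d χ : ℝ) * R χ : ℝ) : ℂ) := by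
      intro χ _
      rw [hdC χ, hfC χ]
      simp only [hR]
      push_cast
      ring
    rw [Finset.sum_congr rfl h2, ← Complex.ofReal_sum] at h1
    exact_mod_cast h1
  · -- hone (block orthogonality of `a` against `1`)
    have h1 := sum_block_regular M hM 1 a
      (by rw [orderOf_one]; exact Nat.prime_three.one_lt.ne' ∘ Nat.dvd_one.1) hord ha1
    rw [finsum_mem_eq_finite_toFinset_sum _ hfin] at h1
    have h2 : ∀ χ ∈ hfin.toFinset, (χ : G → ℂ) 1 * (χ : G → ℂ) a⁻¹ =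
        (((d χ : ℝ) * (((f χ : ℕ) : ℤ) : ℝ) : ℝ) : ℂ) := by
      intro χ _
      rw [hconst χ a⁻¹ (H.inv_mem ha) (inv_ne_one.2 ha1), hdC χ, hfC χ]
      push_cast
      ring
    rw [Finset.sum_congr rfl h2, ← Complex.ofReal_sum] at h1
    exact_mod_cast h1

end caseB

end Cfsg.Agent.Lib.H11.SHQ3
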