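import Cfsg.Agent.Lib.H11.SHQ3B
import Cfsg.Agent.Lib.H23.SHQ3PT
import Cfsg.Agent.Lib.H26.SH16Min

/-!
# S3016 (Shult, odd `p`), CASE B at `|H| = 3`, closed (helper11)

The architect's `CaseB3Stmt` (Lib/H26/SH16Min.lean) with NO hypothesis left: helper11's group side
`caseB_q3` with its pointwise hypothesis discharged by helper23's landed `q3_pointwise'`
(Q3-GLUE on helper9's LOC + helper16's Lemma Q3).
-/

set_option autoImplicit false

namespace Cfsg.Agent.Lib.H11.SHQ3

open Cfsg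

universe u

/-- **CaseB3Stmt**: `N_G(H)` transitive on `H \ {1}` with `|H| = 3` is impossible. -/
theorem caseB3_stmt : Cfsg.Agent.Lib.H26.SH16.CaseB3Stmt.{u} :=
  fun _ _ _ M hM H hH3 hHab hcl hloc hncl htr hq =>
    caseB_q3 M hM H hloc hncl htr hq (Cfsg.Agent.Lib.H23.SHQ3.q3_pointwise' hH3 hHab hcl hq)

end Cfsg.Agent.Lib.H11.SHQ3
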