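import Mathlib

/-!
# The order of the centre of `SL_n(F)`, `F` a finite field (helper11; for S2480)

`Nat.card (Subgroup.center (SL (Fin n) F)) = Nat.gcd n (Fintype.card F - 1)` for `1 ≤ n`.
-/

set_option autoImplicit false

namespace Cfsg.Agent.Lib.H11.SLCenter

universe u
variable {F : Type u} [Field F]

/-- roots of unity as the kernel of the power map -/
theorem rootsOfUnity_eq_ker (k : ℕ) :
    rootsOfUnity k F = (powMonoidHom k : Fˣ →* Fˣ).ker := by
  ext ζ
  rw [mem_rootsOfUnity, MonoidHom.mem_ker, powMonoidHom_apply]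

/-- the number of `k`-th roots of unity in a finite field with `q` elements is `gcd (q - 1) k` -/
theorem card_rootsOfUnity_finite [Fintype F] (k : ℕ) :
    Nat.card (rootsOfUnity k F) = Nat.gcd (Fintype.card F - 1) k := by
  classical
  rw [rootsOfUnity_eq_ker, IsCyclic.card_powMonoidHom_ker, Nat.card_eq_fintype_card,
    Fintype.card_units]

/-- `|Z(SL_n(q))| = gcd(n, q - 1)` -/
theorem card_center_SL [Fintype F] (n : ℕ) (hn : 1 ≤ n) :
    Nat.card (Subgroup.center (Matrix.SpecialLinearGroup (Fin n) F)) =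
      Nat.gcd n (Fintype.card F - 1) := by
  rw [Nat.card_congr (Matrix.SpecialLinearGroup.center_equiv_rootsOfUnity (n := Fin n) (R := F)).toEquiv,
    card_rootsOfUnity_finite, Fintype.card_fin, max_eq_left hn, Nat.gcd_comm]

/-- `|SL_n(q)| = gcd(n, q - 1) * |PSL_n(q)|` -/
theorem card_SL_eq_mul_card_PSL [Fintype F] (n : ℕ) (hn : 1 ≤ n) :
    Nat.card (Matrix.SpecialLinearGroup (Fin n) F) =
      Nat.gcd n (Fintype.card F - 1) *
        Nat.card (Matrix.ProjectiveSpecialLinearGroup (Fin n) F) := by
  rw [← card_center_SL n hn]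
  unfold Matrix.ProjectiveSpecialLinearGroup
  rw [mul_comm]
  exact (Subgroup.card_eq_card_quotient_mul_card_subgroup
    (Subgroup.center (Matrix.SpecialLinearGroup (Fin n) F)))

end Cfsg.Agent.Lib.H11.SLCenter
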