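import Mathlib
import Cfsg.Agent.Lib.H4.SLKDefs
import Cfsg.Agent.Lib.H11.SLKP20

/-!
# S2479 piece P22 (helper11): `sum_idx_sq_le`, version with the input P21 as a hypothesis
-/

set_option autoImplicit false
open Polynomial

namespace Cfsg.Agent.Lib.H11.SLK

open Cfsg.Agent.Lib.H12.Cls Cfsg.Agent.Lib.H4.SLK

universe u
variable {F : Type u} [Field F]

/-- UP3 with `card_dvd_dg_le` (P21) as a hypothesis -/
theorem sum_idx_sq_le_of [Fintype F] (n : ℕ)
    (h21 : ∀ m : ℕ, 1 ≤ m →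
      Nat.card {τ : TSet F n n // m ∣ dg τ.1} ≤ Nat.card (TSet F (n / m) (n / m))) :
    ∑ τ : TSet F n n, idx τ.1 ^ 2 ≤ Rn (Fintype.card F - 1) n := by
  classical
  set Q := Fintype.card F - 1 with hQdef
  have hQ : 1 ≤ Q := by
    have : 1 < Fintype.card F := Fintype.one_lt_card
    omega
  set g0 := Nat.gcd n Q with hg0
  have hg0ne : g0 ≠ 0 := by
    intro h
    have := Nat.eq_zero_of_gcd_eq_zero_right h
    omega
  set D := Nat.divisors g0 with hD
  have hmaps : ∀ τ ∈ (Finset.univ : Finset (TSet F n n)), idx τ.1 ∈ D := by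
    intro τ _
    rw [hD, Nat.mem_divisors]
    exact ⟨idx_dvd τ, hg0ne⟩
  -- the counting function
  set c : ℕ → ℕ := fun m => ((Finset.univ : Finset (TSet F n n)).filter (fun τ => idx τ.1 = m)).card
    with hc
  have h1 : ∑ τ : TSet F n n, idx τ.1 ^ 2 = ∑ m ∈ D, m ^ 2 * c m := by
    rw [← Finset.sum_fiberwise_of_maps_to hmaps]
    refine Finset.sum_congr rfl ?_
    intro m _
    rw [hc]
    simp only
    rw [Finset.card_eq_sum_ones, Finset.mul_sum]
    refine Finset.sum_congr rfl ?_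
    intro τ hτ
    rw [(Finset.mem_filter.mp hτ).2, mul_one]
  have h2 : Fintype.card (TSet F n n) = ∑ m ∈ D, c m := by
    rw [← Finset.card_univ, Finset.card_eq_sum_ones, ← Finset.sum_fiberwise_of_maps_to hmaps]
    refine Finset.sum_congr rfl ?_
    intro m _
    rw [hc]
    simp only
    rw [Finset.card_eq_sum_ones]
  have h3 : ∑ m ∈ D, m ^ 2 * c m = ∑ m ∈ D, c m + ∑ m ∈ D, (m ^ 2 - 1) * c m := by
    rw [← Finset.sum_add_distrib]
    refine Finset.sum_congr rfl ?_
    intro m hm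
    have hm1 : 1 ≤ m := Nat.pos_of_mem_divisors hm
    have : 1 ≤ m ^ 2 := Nat.one_le_pow _ _ hm1
    have e : m ^ 2 = 1 + (m ^ 2 - 1) := by omega
    calc m ^ 2 * c m = (1 + (m ^ 2 - 1)) * c m := by rw [← e]
      _ = c m + (m ^ 2 - 1) * c m := by ring
  have h4 : ∑ m ∈ D, (m ^ 2 - 1) * c m = ∑ m ∈ D.erase 1, (m ^ 2 - 1) * c m := by
    symm
    apply Finset.sum_erase
    simp
  have h5 : ∀ m ∈ D.erase 1, (m ^ 2 - 1) * c m ≤ (m ^ 2 - 1) * tnum Q (n / m) (n / m) := by
    intro m hm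
    have hmD : m ∈ D := Finset.mem_of_mem_erase hm
    have hm1 : 1 ≤ m := Nat.pos_of_mem_divisors hmD
    apply Nat.mul_le_mul_left
    have hle : c m ≤ Nat.card {τ : TSet F n n // m ∣ dg τ.1} := by
      rw [hc]
      simp only
      rw [Nat.card_eq_fintype_card, Fintype.card_subtype]
      apply Finset.card_le_card
      intro τ hτ
      rw [Finset.mem_filter] at hτ ⊢
      refine ⟨hτ.1, ?_⟩
      rw [← hτ.2]
      unfold idx
      exact Nat.gcd_dvd_right _ _
    refine hle.trans ((h21 m hm1).trans ?_)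
    rw [Nat.card_eq_fintype_card, card_TSet]
  rw [h1, h3, h4, ← h2, card_TSet]
  unfold Rn
  exact Nat.add_le_add_left (Finset.sum_le_sum h5) _

end Cfsg.Agent.Lib.H11.SLK
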