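import Mathlib
import Cfsg.Agent.Lib.H4.SLKDefs
import Cfsg.Agent.Lib.H11.SLKP22of
import Cfsg.Agent.Lib.H7.SLKP21

/-!
# S2479 piece P22 (helper11): `sum_idx_sq_le` (UP3), from `idx_dvd` (H11.SLKP20) and helper7's
`card_dvd_dg_le` (H7.SLKP21)
-/

set_option autoImplicit false
open Polynomial

namespace Cfsg.Agent.Lib.H11.SLK

open Cfsg.Agent.Lib.H12.Cls Cfsg.Agent.Lib.H4.SLK

universe u
variable {F : Type u} [Field F]

/-- UP3 -/
theorem sum_idx_sq_le [Fintype F] (n : ℕ) :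
    ∑ τ : TSet F n n, idx τ.1 ^ 2 ≤ Rn (Fintype.card F - 1) n :=
  sum_idx_sq_le_of n (fun m hm => Cfsg.Agent.Lib.H7.SLK.card_dvd_dg_le n m hm)

end Cfsg.Agent.Lib.H11.SLK
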