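import Mathlib
import Cfsg.Agent.Lib.H4.SLKDefs

/-!
# S2479 piece P23 (helper11): `tnum_small`, `Rn_two`, `Rn_three`
-/

set_option autoImplicit false
set_option linter.unusedSimpArgs false
open Polynomial

namespace Cfsg.Agent.Lib.H11.SLK

open Cfsg.Agent.Lib.H12.Cls Cfsg.Agent.Lib.H4.SLK

private theorem t_0_0 (Q : ℕ) : tnum Q 0 0 = 1 := by simp [tnum]

private theorem t_0_1 (Q : ℕ) : tnum Q 0 1 = 0 := by simp [tnum]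

private theorem t_0_2 (Q : ℕ) : tnum Q 0 2 = 0 := by simp [tnum]

private theorem t_0_3 (Q : ℕ) : tnum Q 0 3 = 0 := by simp [tnum]

private theorem t_0_4 (Q : ℕ) : tnum Q 0 4 = 0 := by simp [tnum]

private theorem t_0_5 (Q : ℕ) : tnum Q 0 5 = 0 := by simp [tnum]

private theorem t_0_6 (Q : ℕ) : tnum Q 0 6 = 0 := by simp [tnum]

private theorem t_1_0 (Q : ℕ) : tnum Q 1 0 = 1 := by
  have h : tnum Q 1 0 = tnum Q (0 + 1) 0 := rfl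
  rw [h, tnum_succ]
  unfold unum
  simp [Finset.sum_range_succ, cnum, t_0_0 Q]
  try ring

private theorem t_1_1 (Q : ℕ) : tnum Q 1 1 = Q := by
  have h : tnum Q 1 1 = tnum Q (0 + 1) 1 := rfl
  rw [h, tnum_succ]
  unfold unum
  simp [Finset.sum_range_succ, cnum, t_0_0 Q, t_0_1 Q]
  try ring

private theorem t_1_2 (Q : ℕ) : tnum Q 1 2 = Q ^ 2 + Q := by
  have h : tnum Q 1 2 = tnum Q (0 + 1) 2 := rfl
  rw [h, tnum_succ]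
  unfold unum
  simp [Finset.sum_range_succ, cnum, t_0_0 Q, t_0_1 Q, t_0_2 Q]
  try ring

private theorem t_1_3 (Q : ℕ) : tnum Q 1 3 = Q ^ 3 + 2 * Q ^ 2 + Q := by
  have h : tnum Q 1 3 = tnum Q (0 + 1) 3 := rfl
  rw [h, tnum_succ]
  unfold unum
  simp [Finset.sum_range_succ, cnum, t_0_0 Q, t_0_1 Q, t_0_2 Q, t_0_3 Q]
  try ring

private theorem t_1_4 (Q : ℕ) : tnum Q 1 4 = Q ^ 4 + 3 * Q ^ 3 + 3 * Q ^ 2 + Q := by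
  have h : tnum Q 1 4 = tnum Q (0 + 1) 4 := rfl
  rw [h, tnum_succ]
  unfold unum
  simp [Finset.sum_range_succ, cnum, t_0_0 Q, t_0_1 Q, t_0_2 Q, t_0_3 Q, t_0_4 Q]
  try ring

private theorem t_1_5 (Q : ℕ) : tnum Q 1 5 = Q ^ 5 + 4 * Q ^ 4 + 6 * Q ^ 3 + 4 * Q ^ 2 + Q := by
  have h : tnum Q 1 5 = tnum Q (0 + 1) 5 := rfl
  rw [h, tnum_succ]
  unfold unum
  simp [Finset.sum_range_succ, cnum, t_0_0 Q, t_0_1 Q, t_0_2 Q, t_0_3 Q, t_0_4 Q, t_0_5 Q]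
  try ring

private theorem t_1_6 (Q : ℕ) : tnum Q 1 6 = Q ^ 6 + 5 * Q ^ 5 + 10 * Q ^ 4 + 10 * Q ^ 3 + 5 * Q ^ 2 + Q := by
  have h : tnum Q 1 6 = tnum Q (0 + 1) 6 := rfl
  rw [h, tnum_succ]
  unfold unum
  simp [Finset.sum_range_succ, cnum, t_0_0 Q, t_0_1 Q, t_0_2 Q, t_0_3 Q, t_0_4 Q, t_0_5 Q, t_0_6 Q]
  try ring

private theorem t_2_0 (Q : ℕ) : tnum Q 2 0 = 1 := by
  have h : tnum Q 2 0 = tnum Q (1 + 1) 0 := rfl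
  rw [h, tnum_succ]
  unfold unum
  simp [Finset.sum_range_succ, cnum, t_1_0 Q]
  try ring

private theorem t_2_1 (Q : ℕ) : tnum Q 2 1 = Q := by
  have h : tnum Q 2 1 = tnum Q (1 + 1) 1 := rfl
  rw [h, tnum_succ]
  unfold unum
  simp [Finset.sum_range_succ, cnum, t_1_0 Q, t_1_1 Q]
  try ring

private theorem t_2_2 (Q : ℕ) : tnum Q 2 2 = Q ^ 2 + 2 * Q := by
  have h : tnum Q 2 2 = tnum Q (1 + 1) 2 := rfl
  rw [h, tnum_succ]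
  unfold unum
  simp [Finset.sum_range_succ, cnum, t_1_0 Q, t_1_1 Q, t_1_2 Q]
  try ring

private theorem t_2_3 (Q : ℕ) : tnum Q 2 3 = Q ^ 3 + 3 * Q ^ 2 + Q := by
  have h : tnum Q 2 3 = tnum Q (1 + 1) 3 := rfl
  rw [h, tnum_succ]
  unfold unum
  simp [Finset.sum_range_succ, cnum, t_1_0 Q, t_1_1 Q, t_1_2 Q, t_1_3 Q]
  try ring

private theorem t_2_4 (Q : ℕ) : tnum Q 2 4 = Q ^ 4 + 4 * Q ^ 3 + 5 * Q ^ 2 + 2 * Q := by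
  have h : tnum Q 2 4 = tnum Q (1 + 1) 4 := rfl
  rw [h, tnum_succ]
  unfold unum
  simp [Finset.sum_range_succ, cnum, t_1_0 Q, t_1_1 Q, t_1_2 Q, t_1_3 Q, t_1_4 Q]
  try ring

private theorem t_2_5 (Q : ℕ) : tnum Q 2 5 = Q ^ 5 + 5 * Q ^ 4 + 9 * Q ^ 3 + 6 * Q ^ 2 + Q := by
  have h : tnum Q 2 5 = tnum Q (1 + 1) 5 := rfl
  rw [h, tnum_succ]
  unfold unum
  simp [Finset.sum_range_succ, cnum, t_1_0 Q, t_1_1 Q, t_1_2 Q, t_1_3 Q, t_1_4 Q, t_1_5 Q]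
  try ring

private theorem t_2_6 (Q : ℕ) : tnum Q 2 6 = Q ^ 6 + 6 * Q ^ 5 + 14 * Q ^ 4 + 16 * Q ^ 3 + 9 * Q ^ 2 + 2 * Q := by
  have h : tnum Q 2 6 = tnum Q (1 + 1) 6 := rfl
  rw [h, tnum_succ]
  unfold unum
  simp [Finset.sum_range_succ, cnum, t_1_0 Q, t_1_1 Q, t_1_2 Q, t_1_3 Q, t_1_4 Q, t_1_5 Q, t_1_6 Q]
  try ring

private theorem t_3_0 (Q : ℕ) : tnum Q 3 0 = 1 := by
  have h : tnum Q 3 0 = tnum Q (2 + 1) 0 := rfl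
  rw [h, tnum_succ]
  unfold unum
  simp [Finset.sum_range_succ, cnum, t_2_0 Q]
  try ring

private theorem t_3_1 (Q : ℕ) : tnum Q 3 1 = Q := by
  have h : tnum Q 3 1 = tnum Q (2 + 1) 1 := rfl
  rw [h, tnum_succ]
  unfold unum
  simp [Finset.sum_range_succ, cnum, t_2_0 Q, t_2_1 Q]
  try ring

private theorem t_3_2 (Q : ℕ) : tnum Q 3 2 = Q ^ 2 + 2 * Q := by
  have h : tnum Q 3 2 = tnum Q (2 + 1) 2 := rfl
  rw [h, tnum_succ]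
  unfold unum
  simp [Finset.sum_range_succ, cnum, t_2_0 Q, t_2_1 Q, t_2_2 Q]
  try ring

private theorem t_3_3 (Q : ℕ) : tnum Q 3 3 = Q ^ 3 + 3 * Q ^ 2 + 2 * Q := by
  have h : tnum Q 3 3 = tnum Q (2 + 1) 3 := rfl
  rw [h, tnum_succ]
  unfold unum
  simp [Finset.sum_range_succ, cnum, t_2_0 Q, t_2_1 Q, t_2_2 Q, t_2_3 Q]
  try ring

private theorem t_3_4 (Q : ℕ) : tnum Q 3 4 = Q ^ 4 + 4 * Q ^ 3 + 6 * Q ^ 2 + 2 * Q := by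
  have h : tnum Q 3 4 = tnum Q (2 + 1) 4 := rfl
  rw [h, tnum_succ]
  unfold unum
  simp [Finset.sum_range_succ, cnum, t_2_0 Q, t_2_1 Q, t_2_2 Q, t_2_3 Q, t_2_4 Q]
  try ring

private theorem t_3_5 (Q : ℕ) : tnum Q 3 5 = Q ^ 5 + 5 * Q ^ 4 + 10 * Q ^ 3 + 8 * Q ^ 2 + Q := by
  have h : tnum Q 3 5 = tnum Q (2 + 1) 5 := rfl
  rw [h, tnum_succ]
  unfold unum
  simp [Finset.sum_range_succ, cnum, t_2_0 Q, t_2_1 Q, t_2_2 Q, t_2_3 Q, t_2_4 Q, t_2_5 Q]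
  try ring

private theorem t_3_6 (Q : ℕ) : tnum Q 3 6 = Q ^ 6 + 6 * Q ^ 5 + 15 * Q ^ 4 + 19 * Q ^ 3 + 11 * Q ^ 2 + 3 * Q := by
  have h : tnum Q 3 6 = tnum Q (2 + 1) 6 := rfl
  rw [h, tnum_succ]
  unfold unum
  simp [Finset.sum_range_succ, cnum, t_2_0 Q, t_2_1 Q, t_2_2 Q, t_2_3 Q, t_2_4 Q, t_2_5 Q, t_2_6 Q]
  try ring

private theorem t_4_0 (Q : ℕ) : tnum Q 4 0 = 1 := by
  have h : tnum Q 4 0 = tnum Q (3 + 1) 0 := rfl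
  rw [h, tnum_succ]
  unfold unum
  simp [Finset.sum_range_succ, cnum, t_3_0 Q]
  try ring

private theorem t_4_1 (Q : ℕ) : tnum Q 4 1 = Q := by
  have h : tnum Q 4 1 = tnum Q (3 + 1) 1 := rfl
  rw [h, tnum_succ]
  unfold unum
  simp [Finset.sum_range_succ, cnum, t_3_0 Q, t_3_1 Q]
  try ring

private theorem t_4_2 (Q : ℕ) : tnum Q 4 2 = Q ^ 2 + 2 * Q := by
  have h : tnum Q 4 2 = tnum Q (3 + 1) 2 := rfl
  rw [h, tnum_succ]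
  unfold unum
  simp [Finset.sum_range_succ, cnum, t_3_0 Q, t_3_1 Q, t_3_2 Q]
  try ring

private theorem t_4_3 (Q : ℕ) : tnum Q 4 3 = Q ^ 3 + 3 * Q ^ 2 + 2 * Q := by
  have h : tnum Q 4 3 = tnum Q (3 + 1) 3 := rfl
  rw [h, tnum_succ]
  unfold unum
  simp [Finset.sum_range_succ, cnum, t_3_0 Q, t_3_1 Q, t_3_2 Q, t_3_3 Q]
  try ring

private theorem t_4_4 (Q : ℕ) : tnum Q 4 4 = Q ^ 4 + 4 * Q ^ 3 + 6 * Q ^ 2 + 3 * Q := by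
  have h : tnum Q 4 4 = tnum Q (3 + 1) 4 := rfl
  rw [h, tnum_succ]
  unfold unum
  simp [Finset.sum_range_succ, cnum, t_3_0 Q, t_3_1 Q, t_3_2 Q, t_3_3 Q, t_3_4 Q]
  try ring

private theorem t_4_5 (Q : ℕ) : tnum Q 4 5 = Q ^ 5 + 5 * Q ^ 4 + 10 * Q ^ 3 + 9 * Q ^ 2 + Q := by
  have h : tnum Q 4 5 = tnum Q (3 + 1) 5 := rfl
  rw [h, tnum_succ]
  unfold unum
  simp [Finset.sum_range_succ, cnum, t_3_0 Q, t_3_1 Q, t_3_2 Q, t_3_3 Q, t_3_4 Q, t_3_5 Q]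
  try ring

private theorem t_4_6 (Q : ℕ) : tnum Q 4 6 = Q ^ 6 + 6 * Q ^ 5 + 15 * Q ^ 4 + 20 * Q ^ 3 + 13 * Q ^ 2 + 3 * Q := by
  have h : tnum Q 4 6 = tnum Q (3 + 1) 6 := rfl
  rw [h, tnum_succ]
  unfold unum
  simp [Finset.sum_range_succ, cnum, t_3_0 Q, t_3_1 Q, t_3_2 Q, t_3_3 Q, t_3_4 Q, t_3_5 Q, t_3_6 Q]
  try ring

private theorem t_5_0 (Q : ℕ) : tnum Q 5 0 = 1 := by
  have h : tnum Q 5 0 = tnum Q (4 + 1) 0 := rfl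
  rw [h, tnum_succ]
  unfold unum
  simp [Finset.sum_range_succ, cnum, t_4_0 Q]
  try ring

private theorem t_5_1 (Q : ℕ) : tnum Q 5 1 = Q := by
  have h : tnum Q 5 1 = tnum Q (4 + 1) 1 := rfl
  rw [h, tnum_succ]
  unfold unum
  simp [Finset.sum_range_succ, cnum, t_4_0 Q, t_4_1 Q]
  try ring

private theorem t_5_2 (Q : ℕ) : tnum Q 5 2 = Q ^ 2 + 2 * Q := by
  have h : tnum Q 5 2 = tnum Q (4 + 1) 2 := rfl
  rw [h, tnum_succ]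
  unfold unum
  simp [Finset.sum_range_succ, cnum, t_4_0 Q, t_4_1 Q, t_4_2 Q]
  try ring

private theorem t_5_3 (Q : ℕ) : tnum Q 5 3 = Q ^ 3 + 3 * Q ^ 2 + 2 * Q := by
  have h : tnum Q 5 3 = tnum Q (4 + 1) 3 := rfl
  rw [h, tnum_succ]
  unfold unum
  simp [Finset.sum_range_succ, cnum, t_4_0 Q, t_4_1 Q, t_4_2 Q, t_4_3 Q]
  try ring

private theorem t_5_4 (Q : ℕ) : tnum Q 5 4 = Q ^ 4 + 4 * Q ^ 3 + 6 * Q ^ 2 + 3 * Q := by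
  have h : tnum Q 5 4 = tnum Q (4 + 1) 4 := rfl
  rw [h, tnum_succ]
  unfold unum
  simp [Finset.sum_range_succ, cnum, t_4_0 Q, t_4_1 Q, t_4_2 Q, t_4_3 Q, t_4_4 Q]
  try ring

private theorem t_5_5 (Q : ℕ) : tnum Q 5 5 = Q ^ 5 + 5 * Q ^ 4 + 10 * Q ^ 3 + 9 * Q ^ 2 + 2 * Q := by
  have h : tnum Q 5 5 = tnum Q (4 + 1) 5 := rfl
  rw [h, tnum_succ]
  unfold unum
  simp [Finset.sum_range_succ, cnum, t_4_0 Q, t_4_1 Q, t_4_2 Q, t_4_3 Q, t_4_4 Q, t_4_5 Q]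
  try ring

private theorem t_5_6 (Q : ℕ) : tnum Q 5 6 = Q ^ 6 + 6 * Q ^ 5 + 15 * Q ^ 4 + 20 * Q ^ 3 + 14 * Q ^ 2 + 3 * Q := by
  have h : tnum Q 5 6 = tnum Q (4 + 1) 6 := rfl
  rw [h, tnum_succ]
  unfold unum
  simp [Finset.sum_range_succ, cnum, t_4_0 Q, t_4_1 Q, t_4_2 Q, t_4_3 Q, t_4_4 Q, t_4_5 Q, t_4_6 Q]
  try ring

private theorem t_6_0 (Q : ℕ) : tnum Q 6 0 = 1 := by
  have h : tnum Q 6 0 = tnum Q (5 + 1) 0 := rfl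
  rw [h, tnum_succ]
  unfold unum
  simp [Finset.sum_range_succ, cnum, t_5_0 Q]
  try ring

private theorem t_6_1 (Q : ℕ) : tnum Q 6 1 = Q := by
  have h : tnum Q 6 1 = tnum Q (5 + 1) 1 := rfl
  rw [h, tnum_succ]
  unfold unum
  simp [Finset.sum_range_succ, cnum, t_5_0 Q, t_5_1 Q]
  try ring

private theorem t_6_2 (Q : ℕ) : tnum Q 6 2 = Q ^ 2 + 2 * Q := by
  have h : tnum Q 6 2 = tnum Q (5 + 1) 2 := rfl
  rw [h, tnum_succ]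
  unfold unum
  simp [Finset.sum_range_succ, cnum, t_5_0 Q, t_5_1 Q, t_5_2 Q]
  try ring

private theorem t_6_3 (Q : ℕ) : tnum Q 6 3 = Q ^ 3 + 3 * Q ^ 2 + 2 * Q := by
  have h : tnum Q 6 3 = tnum Q (5 + 1) 3 := rfl
  rw [h, tnum_succ]
  unfold unum
  simp [Finset.sum_range_succ, cnum, t_5_0 Q, t_5_1 Q, t_5_2 Q, t_5_3 Q]
  try ring

private theorem t_6_4 (Q : ℕ) : tnum Q 6 4 = Q ^ 4 + 4 * Q ^ 3 + 6 * Q ^ 2 + 3 * Q := by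
  have h : tnum Q 6 4 = tnum Q (5 + 1) 4 := rfl
  rw [h, tnum_succ]
  unfold unum
  simp [Finset.sum_range_succ, cnum, t_5_0 Q, t_5_1 Q, t_5_2 Q, t_5_3 Q, t_5_4 Q]
  try ring

private theorem t_6_5 (Q : ℕ) : tnum Q 6 5 = Q ^ 5 + 5 * Q ^ 4 + 10 * Q ^ 3 + 9 * Q ^ 2 + 2 * Q := by
  have h : tnum Q 6 5 = tnum Q (5 + 1) 5 := rfl
  rw [h, tnum_succ]
  unfold unum
  simp [Finset.sum_range_succ, cnum, t_5_0 Q, t_5_1 Q, t_5_2 Q, t_5_3 Q, t_5_4 Q, t_5_5 Q]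
  try ring

private theorem t_6_6 (Q : ℕ) : tnum Q 6 6 = Q ^ 6 + 6 * Q ^ 5 + 15 * Q ^ 4 + 20 * Q ^ 3 + 14 * Q ^ 2 + 4 * Q := by
  have h : tnum Q 6 6 = tnum Q (5 + 1) 6 := rfl
  rw [h, tnum_succ]
  unfold unum
  simp [Finset.sum_range_succ, cnum, t_5_0 Q, t_5_1 Q, t_5_2 Q, t_5_3 Q, t_5_4 Q, t_5_5 Q, t_5_6 Q]
  try ring

/-- TN : closed forms of `tnum Q k k` for `k ≤ 6` (= `k(GL_k(q))`, `q = Q + 1`) -/
theorem tnum_small (Q : ℕ) :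
    tnum Q 1 1 = Q ∧ tnum Q 2 2 = Q ^ 2 + 2 * Q ∧ tnum Q 3 3 = Q ^ 3 + 3 * Q ^ 2 + 2 * Q ∧
      tnum Q 4 4 + (Q + 1) = (Q + 1) ^ 4 ∧
      tnum Q 5 5 + (Q + 1) ^ 2 + (Q + 1) = (Q + 1) ^ 5 + 1 ∧
      tnum Q 6 6 + (Q + 1) ^ 2 = (Q + 1) ^ 6 := by
  refine ⟨t_1_1 Q, t_2_2 Q, t_3_3 Q, ?_, ?_, ?_⟩
  · rw [t_4_4]; ring
  · rw [t_5_5]; ring
  · rw [t_6_6]; ring

/-- NUM2 -/
theorem Rn_two (Q : ℕ) (hQ : 1 ≤ Q) : 2 * Rn Q 2 ≤ 5 * ((Q + 1) * Q) := by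
  unfold Rn
  rw [t_2_2]
  rcases (Nat.dvd_prime Nat.prime_two).mp (Nat.gcd_dvd_left 2 Q) with h | h
  · rw [h]
    simp
    nlinarith
  · rw [h]
    have hd : (Nat.divisors 2).erase 1 = {2} := by decide
    rw [hd, Finset.sum_singleton]
    have h2 : 2 ∣ Q := h ▸ Nat.gcd_dvd_right 2 Q
    have hQ2 : 2 ≤ Q := Nat.le_of_dvd hQ h2
    have e : (2 : ℕ) / 2 = 1 := by norm_num
    rw [e, t_1_1]
    norm_num
    nlinarith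

/-- NUM3 -/
theorem Rn_three (Q : ℕ) (hQ : 1 ≤ Q) : Rn Q 3 ≤ Q * ((Q + 1) ^ 2 + 3 * (Q + 1)) := by
  unfold Rn
  rw [t_3_3]
  rcases (Nat.dvd_prime Nat.prime_three).mp (Nat.gcd_dvd_left 3 Q) with h | h
  · rw [h]
    simp
    nlinarith
  · rw [h]
    have hd : (Nat.divisors 3).erase 1 = {3} := by decide
    rw [hd, Finset.sum_singleton]
    have h2 : 3 ∣ Q := h ▸ Nat.gcd_dvd_right 3 Q
    have hQ2 : 3 ≤ Q := Nat.le_of_dvd hQ h2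
    have e : (3 : ℕ) / 3 = 1 := by norm_num
    rw [e, t_1_1]
    norm_num
    nlinarith

end Cfsg.Agent.Lib.H11.SLK
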