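import Mathlib
import Cfsg.Agent.Lib.H4.SLKDefs
import Cfsg.Agent.Lib.H12.SemiF

/-!
# S2479 piece P28 (helper11): `card_conjClasses_SL_gt` (the lower bound `q^(n-1) < k(SL_n(q))`)
-/

set_option autoImplicit false
set_option linter.style.haveILetI false
open Polynomial

namespace Cfsg.Agent.Lib.H11.SLK

open Cfsg.Agent.Lib.H12.Cls Cfsg.Agent.Lib.H4.SLK

universe u
variable {F : Type u} [Field F]

/-- powers of a transvection matrix -/
theorem transvection_pow {n : ℕ} (i j : Fin n) (hij : i ≠ j) (k : ℕ) :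
    (Matrix.transvection i j (1 : F)) ^ k = Matrix.transvection i j (k : F) := by
  induction k with
  | zero => simp
  | succ k ih =>
    rw [pow_succ, ih, Matrix.transvection_mul_transvection_same i j hij]
    push_cast
    rfl

/-- the transvection as an element of `SL_n` -/
noncomputable def tv {n : ℕ} (i j : Fin n) (hij : i ≠ j) : Matrix.SpecialLinearGroup (Fin n) F :=
  ⟨Matrix.transvection i j 1, Matrix.det_transvection_of_ne i j hij 1⟩

theorem tv_ne_one {n : ℕ} (i j : Fin n) (hij : i ≠ j) : (tv i j hij : Matrix.SpecialLinearGroup (Fin n) F) ≠ 1 := by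
  intro h
  have h1 : (tv i j hij : Matrix.SpecialLinearGroup (Fin n) F).1 i j = (1 : Matrix (Fin n) (Fin n) F) i j := by
    rw [h]; rfl
  simp [tv, Matrix.transvection, Matrix.one_apply_ne hij] at h1

theorem tv_pow_char {n : ℕ} (i j : Fin n) (hij : i ≠ j) (p : ℕ) [CharP F p] :
    (tv i j hij : Matrix.SpecialLinearGroup (Fin n) F) ^ p = 1 := by
  apply Subtype.ext
  rw [Matrix.SpecialLinearGroup.coe_pow]
  show (Matrix.transvection i j (1 : F)) ^ p = 1
  rw [transvection_pow i j hij, CharP.cast_eq_zero, Matrix.transvection_zero]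

theorem orderOf_tv {n : ℕ} (i j : Fin n) (hij : i ≠ j) (p : ℕ) [hp : Fact p.Prime] [CharP F p] :
    orderOf (tv i j hij : Matrix.SpecialLinearGroup (Fin n) F) = p :=
  orderOf_eq_prime (tv_pow_char i j hij p) (tv_ne_one i j hij)

/-- LOW -/
theorem card_conjClasses_SL_gt [Fintype F] (n : ℕ) (hn : 2 ≤ n) :
    Fintype.card F ^ (n - 1) < Nat.card (ConjClasses (Matrix.SpecialLinearGroup (Fin n) F)) := by
  classical
  obtain ⟨p, hchar⟩ := CharP.exists F
  haveI := hchar
  haveI : Fact p.Prime := ⟨CharP.char_is_prime F p⟩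
  have hp : p.Prime := Fact.out
  rw [← Cfsg.Agent.Lib.H12.Semi.card_semisimple_classes_SL p n (by omega)]
  set i : Fin n := ⟨0, by omega⟩ with hi
  set j : Fin n := ⟨1, by omega⟩ with hj
  have hij : i ≠ j := by
    intro h
    have := congrArg Fin.val h
    simp [hi, hj] at this
  haveI : Fintype (ConjClasses (Matrix.SpecialLinearGroup (Fin n) F)) := Fintype.ofFinite _
  rw [Nat.card_eq_fintype_card, Nat.card_eq_fintype_card]
  apply Fintype.card_subtype_lt (x := ConjClasses.mk (tv i j hij))
  rintro ⟨g, hg, hcop⟩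
  rw [ConjClasses.mk_eq_mk_iff_isConj] at hg
  obtain ⟨c, hc⟩ := hg
  have hord : orderOf g = p := by
    rw [← orderOf_tv i j hij p (F := F)]
    exact SemiconjBy.orderOf_eq _ hc
  rw [hord] at hcop
  have := (Nat.coprime_self p).mp hcop
  exact hp.one_lt.ne' this

end Cfsg.Agent.Lib.H11.SLK
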