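/-
S2332 (sharp minimal degree of SL_n(q); architect helper12, tools/blueprints/S2332.md), piece **CNT**
(twin by helper11, Route A): the number of transvections of `SL (Fin (m + 1)) F`.

The pairs `(v, w)`, `v ≠ 0`, `w ≠ 0`, `w ⬝ᵥ v = 0`, are `(q^(m+1) - 1)(q^m - 1)` in number; `(v, w) ↦ 1 + v wᵀ`
maps them onto the transvections, and its fibres are the orbits `(c • v, c⁻¹ • w)` of the scalars.
-/
import Mathlib
import Cfsg.Agent.Lib.H12.SLMinDefs
import Cfsg.Agent.Lib.H18.SLMinTRANSV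

set_option autoImplicit false

namespace Cfsg.Agent.Lib.H11.SLMin

open Matrix Cfsg.Agent.Lib.H12.SLMin

section cnt

variable {F : Type*} [Field F] {m : ℕ}

/-- `det (1 + v wᵀ) = 1` when `w ⬝ᵥ v = 0` -/
theorem cnt_det (v w : Fin (m + 1) → F) (h : w ⬝ᵥ v = 0) :
    (1 + vecMulVec v w : Matrix (Fin (m + 1)) (Fin (m + 1)) F).det = 1 := by
  rw [vecMulVec_eq Unit, det_one_add_replicateCol_mul_replicateRow, h, add_zero]

/-- the element `1 + v wᵀ` of `SL` -/
def cntT (v w : Fin (m + 1) → F) (h : w ⬝ᵥ v = 0) : SpecialLinearGroup (Fin (m + 1)) F :=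
  ⟨1 + vecMulVec v w, cnt_det v w h⟩

theorem cnt_bm_eq (a : Fin m → F) :
    bm (1 : F) a 0 1 = 1 + vecMulVec (Fin.cons 1 0 : Fin (m + 1) → F) (Fin.cons 0 a) := by
  apply bm_ext
  · simp [vecMulVec_apply]
  · intro j
    simp [vecMulVec_apply, (Fin.succ_ne_zero j).symm]
  · intro i
    simp [vecMulVec_apply, Fin.succ_ne_zero]
  · intro i j
    simp [vecMulVec_apply, Matrix.one_apply]

theorem cnt_conj (g : SpecialLinearGroup (Fin (m + 1)) F) (a : Fin m → F) :
    ((g * uEl a * g⁻¹ : SpecialLinearGroup (Fin (m + 1)) F) :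
        Matrix (Fin (m + 1)) (Fin (m + 1)) F) =
      1 + vecMulVec ((g : Matrix (Fin (m + 1)) (Fin (m + 1)) F) *ᵥ (Fin.cons 1 0))
        ((Fin.cons 0 a : Fin (m + 1) → F) ᵥ*
          ((g⁻¹ : SpecialLinearGroup (Fin (m + 1)) F) : Matrix (Fin (m + 1)) (Fin (m + 1)) F)) := by
  rw [Matrix.SpecialLinearGroup.coe_mul, Matrix.SpecialLinearGroup.coe_mul, uEl_coe, cnt_bm_eq, Matrix.mul_add,
    Matrix.add_mul, Matrix.mul_one, ← Matrix.SpecialLinearGroup.coe_mul, mul_inv_cancel,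
    Matrix.SpecialLinearGroup.coe_one, mul_vecMulVec, vecMulVec_mul]

theorem cnt_inv_mulVec (g : SpecialLinearGroup (Fin (m + 1)) F) (v : Fin (m + 1) → F) :
    ((g⁻¹ : SpecialLinearGroup (Fin (m + 1)) F) : Matrix (Fin (m + 1)) (Fin (m + 1)) F) *ᵥ
      ((g : Matrix (Fin (m + 1)) (Fin (m + 1)) F) *ᵥ v) = v := by
  rw [mulVec_mulVec, ← Matrix.SpecialLinearGroup.coe_mul, inv_mul_cancel, Matrix.SpecialLinearGroup.coe_one,
    one_mulVec]

theorem cnt_vecMul_inv (g : SpecialLinearGroup (Fin (m + 1)) F) (w : Fin (m + 1) → F) :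
    (w ᵥ* (g : Matrix (Fin (m + 1)) (Fin (m + 1)) F)) ᵥ*
      ((g⁻¹ : SpecialLinearGroup (Fin (m + 1)) F) : Matrix (Fin (m + 1)) (Fin (m + 1)) F) = w := by
  rw [vecMul_vecMul, ← Matrix.SpecialLinearGroup.coe_mul, mul_inv_cancel, Matrix.SpecialLinearGroup.coe_one,
    vecMul_one]

theorem cnt_inv_vecMul (g : SpecialLinearGroup (Fin (m + 1)) F) (w : Fin (m + 1) → F) :
    (w ᵥ* ((g⁻¹ : SpecialLinearGroup (Fin (m + 1)) F) : Matrix (Fin (m + 1)) (Fin (m + 1)) F)) ᵥ*
      (g : Matrix (Fin (m + 1)) (Fin (m + 1)) F) = w := by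
  rw [vecMul_vecMul, ← Matrix.SpecialLinearGroup.coe_mul, inv_mul_cancel, Matrix.SpecialLinearGroup.coe_one,
    vecMul_one]

theorem cnt_e0_ne : (Fin.cons 1 0 : Fin (m + 1) → F) ≠ 0 := by
  intro h
  have := congrFun h 0
  simp at this

theorem cnt_dot_e0 (w : Fin (m + 1) → F) : w ⬝ᵥ (Fin.cons 1 0 : Fin (m + 1) → F) = w 0 := by
  simp [dotProduct, Fin.sum_univ_succ]

/-- every transvection is some `1 + v wᵀ` -/
theorem cnt_exists_pair [Finite F] {x : SpecialLinearGroup (Fin (m + 1)) F} (hx : x ∈ transv m F) :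
    ∃ (v w : Fin (m + 1) → F), v ≠ 0 ∧ w ≠ 0 ∧ w ⬝ᵥ v = 0 ∧
      (x : Matrix (Fin (m + 1)) (Fin (m + 1)) F) = 1 + vecMulVec v w := by
  rw [mem_transv] at hx
  obtain ⟨g, a, ha, rfl⟩ := hx
  refine ⟨(g : Matrix (Fin (m + 1)) (Fin (m + 1)) F) *ᵥ (Fin.cons 1 0),
    (Fin.cons 0 a : Fin (m + 1) → F) ᵥ*
      ((g⁻¹ : SpecialLinearGroup (Fin (m + 1)) F) : Matrix (Fin (m + 1)) (Fin (m + 1)) F),
    ?_, ?_, ?_, cnt_conj g a⟩
  · intro h
    have h1 := cnt_inv_mulVec g (Fin.cons 1 0)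
    rw [h, mulVec_zero] at h1
    exact cnt_e0_ne h1.symm
  · intro h
    have h1 := cnt_inv_vecMul g (Fin.cons 0 a)
    rw [h, zero_vecMul] at h1
    apply ha
    funext j
    have := congrFun h1 j.succ
    simpa using this.symm
  · rw [← dotProduct_mulVec, cnt_inv_mulVec, cnt_dot_e0]
    simp

/-- every `1 + v wᵀ` is a transvection -/
theorem cnt_pair_mem [Finite F] (hm : 1 ≤ m) {v w : Fin (m + 1) → F} (hv : v ≠ 0) (hw : w ≠ 0)
    (h : w ⬝ᵥ v = 0) : cntT v w h ∈ transv m F := by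
  obtain ⟨g0, hdet, hg0⟩ := Cfsg.Agent.Lib.H18.SLMin.trans_SL_vec (F := F) (m := m + 1) (by omega)
    (cnt_e0_ne (F := F) (m := m)) hv
  set g : SpecialLinearGroup (Fin (m + 1)) F := ⟨(g0 : Matrix (Fin (m + 1)) (Fin (m + 1)) F), hdet⟩
    with hg
  have hgc : (g : Matrix (Fin (m + 1)) (Fin (m + 1)) F) = (g0 : Matrix (Fin (m + 1)) (Fin (m + 1)) F) :=
    rfl
  have hw0 : (w ᵥ* (g : Matrix (Fin (m + 1)) (Fin (m + 1)) F)) 0 = 0 := by
    rw [← cnt_dot_e0 (w ᵥ* (g : Matrix (Fin (m + 1)) (Fin (m + 1)) F)), ← dotProduct_mulVec, hgc, hg0, h]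
  have hcons : (Fin.cons 0 (fun j : Fin m => (w ᵥ* (g : Matrix (Fin (m + 1)) (Fin (m + 1)) F)) j.succ) :
      Fin (m + 1) → F) = w ᵥ* (g : Matrix (Fin (m + 1)) (Fin (m + 1)) F) := by
    funext i
    refine Fin.cases ?_ (fun i' => ?_) i
    · rw [Fin.cons_zero, hw0]
    · rw [Fin.cons_succ]
  rw [mem_transv]
  refine ⟨g, fun j : Fin m => (w ᵥ* (g : Matrix (Fin (m + 1)) (Fin (m + 1)) F)) j.succ, ?_, ?_⟩
  · intro ha
    apply hw
    have h1 := cnt_vecMul_inv g w
    rw [← hcons, ha] at h1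
    have h2 : (Fin.cons 0 0 : Fin (m + 1) → F) = 0 := by
      funext i
      refine Fin.cases ?_ (fun i' => ?_) i <;> simp
    rw [h2, zero_vecMul] at h1
    exact h1.symm
  · apply Subtype.ext
    rw [cnt_conj, hcons, cnt_vecMul_inv, hgc, hg0]
    rfl

/-- the fibres of `(v, w) ↦ v wᵀ` on the pairs of non-zero vectors are the orbits of the scalars -/
theorem cnt_fibre {v w v' w' : Fin (m + 1) → F} (hv' : v' ≠ 0) (hw' : w' ≠ 0)
    (h : vecMulVec v' w' = vecMulVec v w) :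
    ∃ c : Fˣ, v' = (c : F) • v ∧ w' = ((c⁻¹ : Fˣ) : F) • w := by
  obtain ⟨i, hi⟩ := Function.ne_iff.1 hv'
  obtain ⟨j, hj⟩ := Function.ne_iff.1 hw'
  have hE : ∀ k l, v' k * w' l = v k * w l := fun k l => by
    have := congrFun (congrFun h k) l
    simpa [vecMulVec_apply] using this
  have hij := hE i j
  have hne : v i * w j ≠ 0 := by
    rw [← hij]
    exact mul_ne_zero hi hj
  have hvi : v i ≠ 0 := left_ne_zero_of_mul hne
  have hwj : w j ≠ 0 := right_ne_zero_of_mul hne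
  have hi' : v' i ≠ 0 := hi
  have hj' : w' j ≠ 0 := hj
  refine ⟨Units.mk0 (v' i / v i) (div_ne_zero hi' hvi), ?_, ?_⟩
  · funext k
    have h1 := hE k j
    rw [Units.val_mk0, Pi.smul_apply, smul_eq_mul]
    field_simp
    have : v' k * w' j * v i = v k * w j * v i := by rw [h1]
    have h2 : w' j * v' i = w j * v i := by rw [mul_comm, hij, mul_comm]
    apply mul_right_cancel₀ hj'
    calc v' k * v i * w' j = v' k * w' j * v i := by ring
      _ = v k * w j * v i := this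
      _ = v k * (w j * v i) := by ring
      _ = v k * (w' j * v' i) := by rw [h2]
      _ = v' i * v k * w' j := by ring
  · funext l
    have h1 := hE i l
    rw [Pi.smul_apply, smul_eq_mul, Units.val_inv_eq_inv_val, Units.val_mk0]
    field_simp
    rw [mul_comm, h1, mul_comm]

end cnt

section count

variable {F : Type*} [Field F] [Fintype F] {m : ℕ}

open Classical in
/-- the number of vectors orthogonal to a non-zero vector -/
theorem cnt_card_perp {v : Fin (m + 1) → F} (hv : v ≠ 0) :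
    (Finset.univ.filter (fun w : Fin (m + 1) → F => w ⬝ᵥ v = 0)).card = Fintype.card F ^ m := by
  let f : (Fin (m + 1) → F) →ₗ[F] F :=
    { toFun := fun w => w ⬝ᵥ v
      map_add' := fun a b => add_dotProduct a b v
      map_smul' := fun c a => smul_dotProduct c a v }
  have hsurj : Function.Surjective f := by
    obtain ⟨i, hi⟩ := Function.ne_iff.1 hv
    intro c
    refine ⟨Pi.single i (c / v i), ?_⟩
    show Pi.single i (c / v i) ⬝ᵥ v = c
    rw [single_dotProduct]
    exact div_mul_cancel₀ c hi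
  have hrank : Module.finrank F (LinearMap.ker f) = m := by
    have h1 := LinearMap.finrank_range_add_finrank_ker f
    rw [LinearMap.range_eq_top.2 hsurj, finrank_top, Module.finrank_self,
      Module.finrank_fin_fun] at h1
    omega
  have hcard : Fintype.card (LinearMap.ker f) = Fintype.card F ^ m := by
    rw [Module.card_eq_pow_finrank (K := F), hrank]
  rw [← hcard]
  symm
  apply Fintype.card_of_subtype
  intro w
  rw [Finset.mem_filter, LinearMap.mem_ker]
  simp [f]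

open Classical in
theorem cnt_card_perp' {v : Fin (m + 1) → F} (hv : v ≠ 0) :
    (Finset.univ.filter (fun w : Fin (m + 1) → F => w ≠ 0 ∧ w ⬝ᵥ v = 0)).card =
      Fintype.card F ^ m - 1 := by
  have h1 : Finset.univ.filter (fun w : Fin (m + 1) → F => w ≠ 0 ∧ w ⬝ᵥ v = 0) =
      (Finset.univ.filter (fun w : Fin (m + 1) → F => w ⬝ᵥ v = 0)).erase 0 := by
    ext w
    simp
  rw [h1, Finset.card_erase_of_mem, cnt_card_perp hv]
  simp

end count

/-- **CNT**: the number of transvections of `SL (Fin (m + 1)) F` -/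
theorem card_transv {F : Type*} [Field F] [Fintype F] {m : ℕ} (hm : 1 ≤ m) :
    (transv m F).card * (Fintype.card F - 1) =
      (Fintype.card F ^ (m + 1) - 1) * (Fintype.card F ^ m - 1) := by
  classical
  set S : Finset (Σ _ : Fin (m + 1) → F, Fin (m + 1) → F) :=
    (Finset.univ.filter (fun v : Fin (m + 1) → F => v ≠ 0)).sigma
      (fun v => Finset.univ.filter (fun w : Fin (m + 1) → F => w ≠ 0 ∧ w ⬝ᵥ v = 0)) with hS
  have hScard : S.card = (Fintype.card F ^ (m + 1) - 1) * (Fintype.card F ^ m - 1) := by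
    rw [hS, Finset.card_sigma,
      Finset.sum_congr rfl (fun v hv => cnt_card_perp' (Finset.mem_filter.1 hv).2),
      Finset.sum_const, smul_eq_mul, Finset.filter_ne', Finset.card_erase_of_mem (Finset.mem_univ _),
      Finset.card_univ, Fintype.card_fun, Fintype.card_fin]
  let f : (Σ _ : Fin (m + 1) → F, Fin (m + 1) → F) → Matrix.SpecialLinearGroup (Fin (m + 1)) F :=
    fun p => if h : p.2 ⬝ᵥ p.1 = 0 then cntT p.1 p.2 h else 1
  have hf : ∀ p ∈ S, f p ∈ transv m F := by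
    intro p hp
    rw [hS, Finset.mem_sigma, Finset.mem_filter, Finset.mem_filter] at hp
    obtain ⟨⟨-, hv⟩, -, hw, h⟩ := hp
    show (if h : p.2 ⬝ᵥ p.1 = 0 then cntT p.1 p.2 h else 1) ∈ transv m F
    rw [dif_pos h]
    exact cnt_pair_mem hm hv hw h
  have hfib : ∀ x ∈ transv m F, (S.filter (fun p => f p = x)).card = Fintype.card F - 1 := by
    intro x hx
    obtain ⟨v, w, hv, hw, h, hxv⟩ := cnt_exists_pair hx
    rw [← Fintype.card_units]
    have himg : S.filter (fun p => f p = x) = Finset.univ.image (fun c : Fˣ =>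
        (⟨(c : F) • v, ((c⁻¹ : Fˣ) : F) • w⟩ : Σ _ : Fin (m + 1) → F, Fin (m + 1) → F)) := by
      ext ⟨v', w'⟩
      rw [Finset.mem_filter, Finset.mem_image, hS, Finset.mem_sigma, Finset.mem_filter,
        Finset.mem_filter]
      constructor
      · rintro ⟨⟨⟨-, hv'⟩, -, hw', h'⟩, hfx⟩
        have hvm : vecMulVec v' w' = vecMulVec v w := by
          have h1 : f ⟨v', w'⟩ = cntT v' w' h' := dif_pos h'
          rw [h1] at hfx
          have h2 := congrArg Subtype.val hfx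
          rw [hxv] at h2
          exact add_left_cancel h2
        obtain ⟨c, hc1, hc2⟩ := cnt_fibre hv' hw' hvm
        have hc1' : v' = (c : F) • v := hc1
        have hc2' : w' = ((c⁻¹ : Fˣ) : F) • w := hc2
        exact ⟨c, Finset.mem_univ _, by rw [hc1', hc2']⟩
      · rintro ⟨c, -, hc⟩
        simp only [Sigma.mk.injEq, heq_eq_eq] at hc
        obtain ⟨rfl, rfl⟩ := hc
        have hc0 : (c : F) ≠ 0 := c.ne_zero
        have hc0' : ((c⁻¹ : Fˣ) : F) ≠ 0 := (c⁻¹).ne_zero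
        have h' : (((c⁻¹ : Fˣ) : F) • w) ⬝ᵥ ((c : F) • v) = 0 := by
          rw [smul_dotProduct, dotProduct_smul, h, smul_zero, smul_zero]
        refine ⟨⟨⟨Finset.mem_univ _, smul_ne_zero hc0 hv⟩, Finset.mem_univ _,
          smul_ne_zero hc0' hw, h'⟩, ?_⟩
        have h1 : f ⟨(c : F) • v, ((c⁻¹ : Fˣ) : F) • w⟩ =
            cntT ((c : F) • v) (((c⁻¹ : Fˣ) : F) • w) h' := dif_pos h'
        rw [h1]
        apply Subtype.ext
        show 1 + vecMulVec ((c : F) • v) (((c⁻¹ : Fˣ) : F) • w) = _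
        rw [hxv, smul_vecMulVec, vecMulVec_smul, smul_smul, ← Units.val_mul, mul_inv_cancel,
          Units.val_one, one_smul]
    rw [himg, Finset.card_image_of_injective, Finset.card_univ]
    intro c c' hcc
    simp only [Sigma.mk.injEq, heq_eq_eq] at hcc
    obtain ⟨i, hi⟩ := Function.ne_iff.1 hv
    have h1 := congrFun hcc.1 i
    simp only [Pi.smul_apply, smul_eq_mul] at h1
    exact Units.ext (mul_right_cancel₀ hi h1)
  rw [← hScard, Finset.card_eq_sum_card_fiberwise hf, Finset.sum_congr rfl hfib, Finset.sum_const,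
    smul_eq_mul]

end Cfsg.Agent.Lib.H11.SLMin
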