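import Mathlib
import Cfsg.Agent.Lib.H12.SLMinDefs

/-!
# S2332 piece CONJ (helper11): `diag (1, 1 + s E₀₁)` is conjugate to `1 + s E₀₁` in `SL (Fin (j + 3)) F`
-/

set_option autoImplicit false

namespace Cfsg.Agent.Lib.H11.SLMin

open Matrix Cfsg.Agent.Lib.H12.SLMin

variable {F : Type*} [Field F]

/-- the index `1` of `Fin (j + 3)` -/
def i1 (j : ℕ) : Fin (j + 3) := (0 : Fin (j + 2)).succ

/-- the index `2` of `Fin (j + 3)` -/
def i2 (j : ℕ) : Fin (j + 3) := ((0 : Fin (j + 1)).succ : Fin (j + 2)).succ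

theorem i1_ne_zero (j : ℕ) : i1 j ≠ 0 := Fin.succ_ne_zero _

theorem i2_ne_zero (j : ℕ) : i2 j ≠ 0 := Fin.succ_ne_zero _

theorem i2_ne_i1 (j : ℕ) : i2 j ≠ i1 j := by
  intro h
  exact Fin.succ_ne_zero (0 : Fin (j + 1)) (Fin.succ_injective _ h)

/-- the permutation `0 ↦ 2 ↦ 1 ↦ 0` -/
def cyc3 (j : ℕ) : Equiv.Perm (Fin (j + 3)) :=
  Equiv.swap (0 : Fin (j + 3)) (i2 j) * Equiv.swap (i2 j) (i1 j)

theorem sign_cyc3 (j : ℕ) : Equiv.Perm.sign (cyc3 j) = 1 := by
  unfold cyc3
  rw [map_mul, Equiv.Perm.sign_swap (i2_ne_zero j).symm, Equiv.Perm.sign_swap (i2_ne_i1 j)]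
  rfl

theorem cyc3_apply_eq_zero (j : ℕ) (a : Fin (j + 3)) : cyc3 j a = 0 ↔ a = i1 j := by
  unfold cyc3
  rw [Equiv.Perm.mul_apply, Equiv.swap_apply_eq_iff, Equiv.swap_apply_left,
    Equiv.swap_apply_eq_iff, Equiv.swap_apply_left]

theorem cyc3_i2 (j : ℕ) : cyc3 j (i2 j) = i1 j := by
  unfold cyc3
  rw [Equiv.Perm.mul_apply, Equiv.swap_apply_left,
    Equiv.swap_apply_of_ne_of_ne (i1_ne_zero j) (i2_ne_i1 j).symm]

/-- the permutation matrix of `cyc3`, in `SL` -/
noncomputable def wEl (j : ℕ) : Matrix.SpecialLinearGroup (Fin (j + 3)) F :=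
  ⟨(cyc3 j).permMatrix F, by rw [Matrix.det_permutation, sign_cyc3]; simp⟩

theorem wEl_apply (j : ℕ) (a b : Fin (j + 3)) :
    (wEl (F := F) j : Matrix (Fin (j + 3)) (Fin (j + 3)) F) a b = if cyc3 j a = b then 1 else 0 := by
  show (cyc3 j).permMatrix F a b = _
  rw [Equiv.Perm.permMatrix, Equiv.toPEquiv, PEquiv.toMatrix_apply]
  simp [eq_comm]

theorem lev_uG_eq (j : ℕ) (s : F) :
    (lev (uG (Pi.single (0 : Fin (j + 1)) s)) : Matrix (Fin (j + 3)) (Fin (j + 3)) F) =
      1 + Matrix.single (i1 j) (i2 j) s := by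
  rw [lev_coe, uG_coe, det_bm, det_one, mul_one, inv_one]
  apply bm_ext
  · rw [bm_zero_zero, Matrix.add_apply, Matrix.one_apply_eq, Matrix.single_apply,
      if_neg (fun h => i1_ne_zero j h.1), add_zero]
  · intro b
    rw [bm_zero_succ, Matrix.add_apply, Matrix.one_apply_ne (Fin.succ_ne_zero b).symm,
      Matrix.single_apply, if_neg (fun h => i1_ne_zero j h.1), add_zero]
    rfl
  · intro a
    rw [bm_succ_zero, Matrix.add_apply, Matrix.one_apply_ne (Fin.succ_ne_zero a),
      Matrix.single_apply, if_neg (fun h => i2_ne_zero j h.2), add_zero]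
    rfl
  · intro a b
    rw [bm_succ_succ, Matrix.add_apply, Matrix.one_apply, Matrix.single_apply]
    refine Fin.cases ?_ (fun a' => ?_) a <;> refine Fin.cases ?_ (fun b' => ?_) b
    · rw [bm_zero_zero, if_pos rfl, if_neg, add_zero]
      intro h
      exact Fin.succ_ne_zero (0 : Fin (j + 1)) (Fin.succ_injective _ h.2)
    · rw [bm_zero_succ, if_neg (fun h => Fin.succ_ne_zero b' (Fin.succ_injective _ h).symm), zero_add,
        Pi.single_apply]
      by_cases hb : b' = 0
      · subst hb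
        rw [if_pos rfl, if_pos ⟨rfl, rfl⟩]
      · rw [if_neg hb, if_neg]
        intro h
        exact hb (Fin.succ_injective _ (Fin.succ_injective _ h.2)).symm
    · rw [bm_succ_zero, if_neg (fun h => Fin.succ_ne_zero a' (Fin.succ_injective _ h)), zero_add,
        if_neg]
      · rfl
      · intro h
        exact Fin.succ_ne_zero a' (Fin.succ_injective _ h.1).symm
    · have hn : ¬ (i1 j = (a'.succ : Fin (j + 2)).succ ∧ i2 j = (b'.succ : Fin (j + 2)).succ) := by
        intro h
        exact Fin.succ_ne_zero a' (Fin.succ_injective _ h.1).symm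
      rw [bm_succ_succ, Matrix.one_apply, if_neg hn, add_zero]
      by_cases hab : a' = b'
      · subst hab
        rw [if_pos rfl, if_pos rfl]
      · rw [if_neg hab, if_neg]
        intro h
        exact hab (Fin.succ_injective _ (Fin.succ_injective _ h))

theorem uEl_eq (j : ℕ) (s : F) :
    (uEl (Pi.single (0 : Fin (j + 2)) s) : Matrix (Fin (j + 3)) (Fin (j + 3)) F) =
      1 + Matrix.single (0 : Fin (j + 3)) (i1 j) s := by
  rw [uEl_coe]
  apply bm_ext
  · rw [bm_zero_zero, Matrix.add_apply, Matrix.one_apply_eq, Matrix.single_apply,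
      if_neg (fun h => i1_ne_zero j h.2), add_zero]
  · intro b
    rw [bm_zero_succ, Matrix.add_apply, Matrix.one_apply_ne (Fin.succ_ne_zero b).symm,
      Matrix.single_apply, zero_add, Pi.single_apply]
    by_cases hb : b = 0
    · subst hb
      rw [if_pos rfl, if_pos ⟨rfl, rfl⟩]
    · rw [if_neg hb, if_neg]
      intro h
      exact hb (Fin.succ_injective _ h.2).symm
  · intro a
    rw [bm_succ_zero, Matrix.add_apply, Matrix.one_apply_ne (Fin.succ_ne_zero a),
      Matrix.single_apply, if_neg (fun h => Fin.succ_ne_zero a h.1.symm), add_zero]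
    rfl
  · intro a b
    rw [bm_succ_succ, Matrix.add_apply, Matrix.single_apply,
      if_neg (fun h => Fin.succ_ne_zero a h.1.symm), add_zero, Matrix.one_apply, Matrix.one_apply]
    by_cases hab : a = b
    · subst hab
      rw [if_pos rfl, if_pos rfl]
    · rw [if_neg hab, if_neg]
      intro h
      exact hab (Fin.succ_injective _ h)

theorem conj0 {F : Type*} [Field F] {j : ℕ} (s : F) :
    ∃ w : Matrix.SpecialLinearGroup (Fin (j + 3)) F,
      lev (uG (Pi.single (0 : Fin (j + 1)) s)) = w * uEl (Pi.single (0 : Fin (j + 2)) s) * w⁻¹ := by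
  refine ⟨wEl j, ?_⟩
  rw [eq_mul_inv_iff_mul_eq]
  apply Subtype.ext
  rw [Matrix.SpecialLinearGroup.coe_mul, Matrix.SpecialLinearGroup.coe_mul, lev_uG_eq, uEl_eq,
    add_mul, mul_add, one_mul, mul_one]
  congr 1
  ext a b
  rw [Matrix.mul_apply, Matrix.mul_apply]
  simp only [Matrix.single_apply, wEl_apply]
  rw [Finset.sum_eq_single (i2 j), Finset.sum_eq_single (0 : Fin (j + 3))]
  · rw [cyc3_i2]
    simp only [cyc3_apply_eq_zero, and_true, true_and]
    by_cases ha : a = i1 j <;> by_cases hb : b = i1 j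
    · subst ha; subst hb; simp
    · subst ha
      have : ¬ (i1 j) = b := fun h => hb h.symm
      simp [this]
    · subst hb
      have : ¬ (i1 j) = a := fun h => ha h.symm
      simp [ha, this]
    · have h1 : ¬ (i1 j) = a := fun h => ha h.symm
      have h2 : ¬ (i1 j) = b := fun h => hb h.symm
      simp [ha, h1, h2]
  · intro c _ hc
    have : ¬ (0 : Fin (j + 3)) = c := fun h => hc h.symm
    simp [this]
  · intro h; exact absurd (Finset.mem_univ _) h
  · intro c _ hc
    have : ¬ (i2 j) = c := fun h => hc h.symm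
    simp [this]
  · intro h; exact absurd (Finset.mem_univ _) h

end Cfsg.Agent.Lib.H11.SLMin
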