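import Mathlib
import Cfsg.Prelude.Def_LieTypeChar
import Cfsg.Agent.Lib.H11.SRFLAG
import Cfsg.Agent.Lib.H13.OddSt

/-!
# S4613 piece OODD (helper11, twin via the generic (B,N) theorem `Lib/H11/SRBN`)

`sylRigid_POmegaOdd`: exact name + statement of `tools/blueprints/S4613_sigs.lean`.
Route: `flagRootData (RingHom.id F)` in dimension `2m+1` restricted to the commutator subgroup as in
`H13.OddSt.hasSteinberg_commutator`, `sylRigid_center_quot_of_rootData` with `dist_of_rootData` + `restrict_hX` +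
`flagRootData_hX`, then the isomorphism of `H29.OddSt.nonempty_iso_odd`.
-/

set_option autoImplicit false
set_option linter.unusedSectionVars false
set_option linter.unusedVariables false

namespace Cfsg.Agent.Lib.H11.SR

open Cfsg Cfsg.Agent.Lib.H19.SR

section

open Matrix Cfsg.Agent.Lib.H12.DCos Cfsg.Agent.Lib.H8.FBN Cfsg.Agent.Lib.H8.BNRoot Cfsg.Agent.Lib.H8.BNRes
  Cfsg.Agent.Lib.H8.BNSteinberg
open Cfsg.Agent.Lib.H28.FBN Cfsg.Agent.Lib.H29.OddSt Cfsg.Agent.Lib.H13.OddSt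

variable {F : Type*} [Field F] [Fintype F]

/-- `SylRigid` for `Ω / Z(Ω)`, `Ω` the commutator subgroup of `O(J) = GS id` (when simple) -/
theorem sylRigid_commutator (hodd : Odd (Fintype.card F)) (m : ℕ) (hm : 1 ≤ m) (p : ℕ) [Fact p.Prime]
    [CharP F p]
    [IsSimpleGroup (↥(commutator ↥(GS (n := 2 * m + 1) (RingHom.id F))) ⧸
      Subgroup.center ↥(commutator ↥(GS (n := 2 * m + 1) (RingHom.id F))))] :
    SylRigid p (↥(commutator ↥(GS (n := 2 * m + 1) (RingHom.id F))) ⧸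
      Subgroup.center ↥(commutator ↥(GS (n := 2 * m + 1) (RingHom.id F)))) := by
  classical
  have h2 : (2 : F) ≠ 0 := two_ne_zero_of_odd hodd
  have hφ2 : ∀ x : F, (RingHom.id F) ((RingHom.id F) x) = x := fun _ => rfl
  have hE : (2 * m + 1) % 2 = 0 → ∃ c : F, c ≠ 0 ∧ c + (RingHom.id F) c = 0 := fun h => absurd h (by omega)
  have hO : (2 * m + 1) % 2 = 1 → ∃ β : F, β + (RingHom.id F) β + 1 = 0 := fun _ =>
    ⟨-(1 / 2), by
      rw [RingHom.id_apply]
      field_simp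
      ring⟩
  let P := flagBN (n := 2 * m + 1) (RingHom.id F) hφ2 hE hO
  let D := flagRootData (n := 2 * m + 1) (RingHom.id F) hφ2 hE hO
  let G' : Subgroup ↥(GS (n := 2 * m + 1) (RingHom.id F)) :=
    commutator ↥(GS (n := 2 * m + 1) (RingHom.id F))
  have covers' : ∀ h : ↥(GS (n := 2 * m + 1) (RingHom.id F)),
      ∃ t ∈ Ts (n := 2 * m + 1) (RingHom.id F), h * t ∈ G' := covers_GS hodd m hm p
  have hcov : Covers P G' := by
    intro h
    obtain ⟨t, ht, h'⟩ := covers' h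
    exact ⟨t, ⟨Ts_le_Bs ht, Ts_le_Ns ht⟩, h'⟩
  choose τ hτ1 hτ2 using covers'
  have hτ : ∀ s ∈ P.S, τ s ∈ P.B ⊓ P.N := fun s _ => ⟨Ts_le_Bs (hτ1 s), Ts_le_Ns (hτ1 s)⟩
  have hτG : ∀ s ∈ P.S, s * τ s ∈ G' := fun s _ => hτ2 s
  have hτT : ∀ i, τ (D.e i) ∈ D.T := fun i => hτ1 _
  have hUG : D.U ≤ G' := Us_le_commutator hodd m hm p
  have hXG : ∀ i, D.X i ⊆ ((G' : Subgroup ↥(GS (n := 2 * m + 1) (RingHom.id F))) :
      Set ↥(GS (n := 2 * m + 1) (RingHom.id F))) :=
    fun i x hx => hUG (X_subset_Us i hx)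
  have hYG : ∀ i, D.Y i ⊆ ((G' : Subgroup ↥(GS (n := 2 * m + 1) (RingHom.id F))) :
      Set ↥(GS (n := 2 * m + 1) (RingHom.id F))) := by
    intro i y hy
    have h1 : sRef (RingHom.id F) i * y * (sRef (RingHom.id F) i)⁻¹ ∈ G' :=
      hUG (X_subset_Us i (sRef_conj_Y (RingHom.id F) i y hy))
    have e : y = (sRef (RingHom.id F) i)⁻¹ * (sRef (RingHom.id F) i * y * (sRef (RingHom.id F) i)⁻¹) *
        ((sRef (RingHom.id F) i)⁻¹)⁻¹ := by group
    rw [e]
    exact (inferInstance : G'.Normal).conj_mem _ h1 _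
  let D' := D.restrict G' hcov τ hτ hτG hτT hXG hYG hUG
  have hU' : IsPGroup p ↥D'.U := by
    have h1 : IsPGroup p ↥(Us (n := 2 * m + 1) (RingHom.id F)) := Us_isPGroup (RingHom.id F) p
    exact h1.of_injective (Subgroup.subgroupOfEquivOfLe hUG).toMonoidHom
      (Subgroup.subgroupOfEquivOfLe hUG).injective
  have hT' : (Nat.card ↥D'.T).Coprime p := by
    have h1 : (Nat.card ↥(Ts (n := 2 * m + 1) (RingHom.id F))).Coprime p := card_Ts_coprime (RingHom.id F) p
    let f : ↥((Ts (n := 2 * m + 1) (RingHom.id F)).subgroupOf G') →* ↥(Ts (n := 2 * m + 1) (RingHom.id F)) :=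
      { toFun := fun x => ⟨(x : ↥G'), Subgroup.mem_subgroupOf.mp x.2⟩
        map_one' := rfl
        map_mul' := fun _ _ => rfl }
    have hf : Function.Injective f := by
      intro x y h
      apply Subtype.ext
      apply Subtype.ext
      exact congrArg (fun z : ↥(Ts (n := 2 * m + 1) (RingHom.id F)) =>
        (z : ↥(GS (n := 2 * m + 1) (RingHom.id F)))) h
    exact Nat.Coprime.coprime_dvd_left (Subgroup.card_dvd_of_injective f hf) h1
  have : Nonempty (Fin ((2 * m + 1) / 2)) := ⟨⟨0, by omega⟩⟩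
  have hdist : (BNU.ofRootData D').Dist :=
    dist_of_rootData D' (restrict_hX D G' hcov τ hτ hτG hτT hXG hYG hUG
      (flagRootData_hX (RingHom.id F) hφ2 hE hO))
  exact sylRigid_center_quot_of_rootData p D' hU' hT' hdist

end

/-- OODD -/
theorem sylRigid_POmegaOdd (F : Type*) [Field F] [Fintype F] (p : ℕ) [Fact p.Prime] [CharP F p] (m : ℕ) (hm : 3 ≤ m)
    (hodd : Odd (Fintype.card F)) (hs : IsSimpleGroup (POmega F (quadFormOdd m F))) :
    SylRigid p (POmega F (quadFormOdd m F)) := by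
  have h2 : (2 : F) ≠ 0 := Cfsg.Agent.Lib.H13.OddSt.two_ne_zero_of_odd hodd
  obtain ⟨ψ, -⟩ := Cfsg.Agent.Lib.H29.OddSt.nonempty_iso_odd h2 m
  let e := Cfsg.Agent.Lib.H8.BNSteinberg.centerQuotientCongr (Cfsg.Agent.Lib.H13.OddSt.commutatorCongr ψ)
  have : IsSimpleGroup (↥(commutator ↥(Cfsg.Agent.Lib.H8.FBN.GS (n := 2 * m + 1) (RingHom.id F))) ⧸
      Subgroup.center ↥(commutator ↥(Cfsg.Agent.Lib.H8.FBN.GS (n := 2 * m + 1) (RingHom.id F)))) :=
    e.isSimpleGroup
  exact SylRigid.of_equiv e.symm (sylRigid_commutator hodd m (by omega) p)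

end Cfsg.Agent.Lib.H11.SR
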