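import Mathlib
import Cfsg.Prelude.Def_LieTypeChar
import Cfsg.Agent.Lib.H11.SRFLAG
import Cfsg.Agent.Lib.H8.FBNUnitary

/-!
# S4613 piece PSU (helper11, twin via the generic (B,N) theorem `Lib/H11/SRBN`)

`sylRigid_PSU`: exact name + statement of `tools/blueprints/S4613_sigs.lean`.
Route: `flagRootData φ` (φ = Frobenius) restricted to `SUs φ` as in `H8.FBN.hasSteinberg_SUs`,
`sylRigid_center_quot_of_rootData` with `dist_of_rootData` + `restrict_hX` + `flagRootData_hX`, then the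
isomorphism `SUs φ ≃* SU n F q` of `H23.FBN.nonempty_iso`.
-/

set_option autoImplicit false
set_option linter.unusedSectionVars false
set_option linter.unusedVariables false

namespace Cfsg.Agent.Lib.H11.SR

open Cfsg Cfsg.Agent.Lib.H19.SR

section

open Matrix Cfsg.Agent.Lib.H12.DCos Cfsg.Agent.Lib.H8.SpBN Cfsg.Agent.Lib.H8.BNRoot Cfsg.Agent.Lib.H8.BNRes
  Cfsg.Agent.Lib.H8.BNSteinberg Cfsg.Agent.Lib.H8.FBN
open Cfsg.Agent.Lib.H4.FBN (det_eq_one_of_mem_Us det_eq_one_of_mem_Y)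
open Cfsg.Agent.Lib.H6.FBN (Us_isPGroup card_Ts_coprime exists_trace_zero exists_trace_neg_one)
open Cfsg.Agent.Lib.H25.FBN (covers)
open Cfsg.Agent.Lib.H23.FBN (nonempty_iso)

variable {F : Type*} [Field F] [Fintype F] {n q : ℕ}

/-- `SylRigid` for `SUs φ / Z` (when simple) -/
theorem sylRigid_SUs (φ : F →+* F) (hF : Fintype.card F = q ^ 2) (hφ : ∀ x, φ x = x ^ q)
    (hφ2 : ∀ x, φ (φ x) = x) (hn : 2 ≤ n) (p : ℕ) [Fact p.Prime] [CharP F p]
    [IsSimpleGroup (↥(SUs (n := n) φ) ⧸ Subgroup.center ↥(SUs (n := n) φ))] :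
    SylRigid p (↥(SUs (n := n) φ) ⧸ Subgroup.center ↥(SUs (n := n) φ)) := by
  classical
  have hE : n % 2 = 0 → ∃ c : F, c ≠ 0 ∧ c + φ c = 0 := fun _ => exists_trace_zero φ hF hφ
  have hO : n % 2 = 1 → ∃ β : F, β + φ β + 1 = 0 := fun _ => exists_trace_neg_one φ hF hφ
  let P := flagBN (n := n) φ hφ2 hE hO
  let D := flagRootData (n := n) φ hφ2 hE hO
  have hcov : Covers P (SUs (n := n) φ) := by
    intro h
    obtain ⟨t, ht, h'⟩ := covers φ hF hφ hn h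
    exact ⟨t, ⟨Ts_le_Bs ht, Ts_le_Ns ht⟩, h'⟩
  choose τ hτ1 hτ2 using covers (n := n) φ hF hφ hn
  have hτ : ∀ s ∈ P.S, τ s ∈ P.B ⊓ P.N := fun s _ => ⟨Ts_le_Bs (hτ1 s), Ts_le_Ns (hτ1 s)⟩
  have hτG : ∀ s ∈ P.S, s * τ s ∈ SUs (n := n) φ := fun s _ => hτ2 s
  have hτT : ∀ i, τ (D.e i) ∈ D.T := fun i => hτ1 _
  have hUG : D.U ≤ SUs (n := n) φ := fun u hu => mem_SUs.mpr (det_eq_one_of_mem_Us φ u hu)
  have hXG : ∀ i, D.X i ⊆ ((SUs (n := n) φ : Subgroup ↥(GS (n := n) φ)) : Set ↥(GS (n := n) φ)) :=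
    fun i x hx => hUG (X_subset_Us i hx)
  have hYG : ∀ i, D.Y i ⊆ ((SUs (n := n) φ : Subgroup ↥(GS (n := n) φ)) : Set ↥(GS (n := n) φ)) :=
    fun i y hy => mem_SUs.mpr (det_eq_one_of_mem_Y φ i y hy)
  let D' := D.restrict (SUs (n := n) φ) hcov τ hτ hτG hτT hXG hYG hUG
  have hU' : IsPGroup p ↥D'.U := by
    have h1 : IsPGroup p ↥(Us (n := n) φ) := Us_isPGroup φ p
    exact h1.of_injective (Subgroup.subgroupOfEquivOfLe hUG).toMonoidHom (Subgroup.subgroupOfEquivOfLe hUG).injective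
  have hT' : (Nat.card ↥D'.T).Coprime p := by
    have h1 : (Nat.card ↥(Ts (n := n) φ)).Coprime p := card_Ts_coprime φ p
    let f : ↥((Ts (n := n) φ).subgroupOf (SUs (n := n) φ)) →* ↥(Ts (n := n) φ) :=
      { toFun := fun x => ⟨(x : ↥(SUs (n := n) φ)), Subgroup.mem_subgroupOf.mp x.2⟩
        map_one' := rfl
        map_mul' := fun _ _ => rfl }
    have hf : Function.Injective f := by
      intro x y h
      apply Subtype.ext
      apply Subtype.ext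
      exact congrArg (fun z : ↥(Ts (n := n) φ) => (z : ↥(GS (n := n) φ))) h
    exact Nat.Coprime.coprime_dvd_left (Subgroup.card_dvd_of_injective f hf) h1
  have : Nonempty (Fin (n / 2)) := ⟨⟨0, by omega⟩⟩
  have hdist : (BNU.ofRootData D').Dist :=
    dist_of_rootData D' (restrict_hX D (SUs (n := n) φ) hcov τ hτ hτG hτT hXG hYG hUG
      (flagRootData_hX φ hφ2 hE hO))
  exact sylRigid_center_quot_of_rootData p D' hU' hT' hdist

end

/-- PSU -/
theorem sylRigid_PSU (F : Type*) [Field F] [Fintype F] (p : ℕ) [Fact p.Prime] [CharP F p] (n q : ℕ)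
    (hF : Fintype.card F = q ^ 2) (hn : 3 ≤ n) (h32 : ¬ (n = 3 ∧ q = 2)) (hs : IsSimpleGroup (PSU n F q)) :
    SylRigid p (PSU n F q) := by
  obtain ⟨φ, hφ, hφ2⟩ := Cfsg.Agent.Lib.H4.exists_frob hF
  obtain ⟨ψ⟩ := Cfsg.Agent.Lib.H23.FBN.nonempty_iso φ hF hφ n
  let e := Cfsg.Agent.Lib.H8.BNSteinberg.centerQuotientCongr ψ
  have : IsSimpleGroup (↥(Cfsg.Agent.Lib.H8.FBN.SUs (n := n) φ) ⧸
      Subgroup.center ↥(Cfsg.Agent.Lib.H8.FBN.SUs (n := n) φ)) := e.isSimpleGroup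
  exact SylRigid.of_equiv e.symm (sylRigid_SUs φ hF hφ hφ2 (by omega) p)

end Cfsg.Agent.Lib.H11.SR
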