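import Mathlib
import Cfsg.Prelude.Def_LieTypeChar
import Cfsg.Agent.Lib.H19.SRDefs
import Cfsg.Agent.S1163

/-!
# S4613 piece SZ (helper11, twin): `sylRigid_Sz` from the landed S1163 (sharp transitivity of a Sylow 2-subgroup on
the other cosets of its normalizer) and helper19's rank one criterion `sylRigid_of_rank_one_simple`.
-/

set_option autoImplicit false

namespace Cfsg.Agent.Lib.H11.SR

open Cfsg Cfsg.Agent.Lib.H19.SR
open scoped Pointwise

/-- rank one criterion in coset form: `U0` transitive on the cosets of `N(U0)` other than the base coset -/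
theorem sylRigid_of_coset_trans {G : Type*} [Group G] [Finite G] [IsSimpleGroup G] (p : ℕ) [Fact p.Prime]
    (U0 : Sylow p G) (hN : Subgroup.normalizer ((U0 : Subgroup G) : Set G) ≠ ⊤)
    (htr : ∀ x y : G ⧸ Subgroup.normalizer ((U0 : Subgroup G) : Set G),
      x ≠ QuotientGroup.mk 1 → y ≠ QuotientGroup.mk 1 → ∃ s ∈ (U0 : Subgroup G), s • x = y) :
    SylRigid p G := by
  apply sylRigid_of_rank_one_simple p U0 _ hN
  intro V W hV hW
  obtain ⟨g, rfl⟩ := MulAction.exists_smul_eq G U0 V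
  obtain ⟨h, rfl⟩ := MulAction.exists_smul_eq G U0 W
  have hmem : ∀ k : G, k ∈ Subgroup.normalizer ((U0 : Subgroup G) : Set G) → k • U0 = U0 := by
    intro k hk
    exact Sylow.smul_eq_iff_mem_normalizer.mpr hk
  have hg : ((g : G) : G ⧸ Subgroup.normalizer ((U0 : Subgroup G) : Set G)) ≠ QuotientGroup.mk 1 := by
    intro e
    apply hV
    have h1 : (1 : G)⁻¹ * g ∈ Subgroup.normalizer ((U0 : Subgroup G) : Set G) := QuotientGroup.eq.mp e.symm
    rw [inv_one, one_mul] at h1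
    exact hmem g h1
  have hh : ((h : G) : G ⧸ Subgroup.normalizer ((U0 : Subgroup G) : Set G)) ≠ QuotientGroup.mk 1 := by
    intro e
    apply hW
    have h1 : (1 : G)⁻¹ * h ∈ Subgroup.normalizer ((U0 : Subgroup G) : Set G) := QuotientGroup.eq.mp e.symm
    rw [inv_one, one_mul] at h1
    exact hmem h h1
  obtain ⟨s, hs, hsx⟩ := htr _ _ hg hh
  refine ⟨s, hs, ?_⟩
  have h1 : (((s * g : G)) : G ⧸ Subgroup.normalizer ((U0 : Subgroup G) : Set G)) = (h : G) := hsx
  have h2 : (s * g)⁻¹ * h ∈ Subgroup.normalizer ((U0 : Subgroup G) : Set G) := QuotientGroup.eq.mp h1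
  have h3 := hmem _ h2
  rw [← mul_smul]
  have h4 : h • U0 = (s * g) • (((s * g)⁻¹ * h) • U0) := by
    rw [← mul_smul, mul_inv_cancel_left]
  rw [h4, h3]

/-- SZ -/
theorem sylRigid_Sz (F : Type*) [Field F] [Fintype F] [Fact (Nat.Prime 2)] (m : ℕ) (hm : 1 ≤ m)
    (hF : Fintype.card F = 2 ^ (2 * m + 1)) (hs : IsSimpleGroup ↥(Lie.Sz F (2 ^ (m + 1)))) :
    SylRigid 2 ↥(Lie.Sz F (2 ^ (m + 1))) := by
  obtain ⟨-, S, -, hidx, -, hsharp⟩ := Cfsg.Agent.S1163.result hm hF
  apply sylRigid_of_coset_trans 2 S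
  · intro htop
    rw [htop, Subgroup.index_top] at hidx
    have : 0 < (2 ^ (2 * m + 1)) ^ 2 := by positivity
    omega
  · intro x y hx hy
    obtain ⟨s, hs1, -⟩ := hsharp x y hx hy
    exact ⟨s, s.2, hs1⟩

end Cfsg.Agent.Lib.H11.SR
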