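import Cfsg.Agent.Lib.H11.SimMax1

set_option autoImplicit false
set_option linter.unusedSimpArgs false
set_option linter.unusedSectionVars false
set_option linter.unusedVariables false

namespace Cfsg.Agent.Lib.H11.SimMax

open Matrix Module
open Cfsg.Agent.Lib.H28 Cfsg.Agent.Lib.H11.SubspMax

variable {ι : Type} [Fintype ι] [DecidableEq ι] {F : Type*} [Field F]
variable {f : (ι → F) → (ι → F) → F}

section symp
variable (hf : Cfsg.Geo.IsSymplecticForm f)
include hf

/-- if `ker (fr u) ≤ ker (fr z)` then `z` is a multiple of `u` -/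
theorem eq_smul_of_ker (u z : ι → F) (hu : u ≠ 0)
    (h : ∀ w, f w u = 0 → f w z = 0) : ∃ c : F, z = c • u := by
  obtain ⟨⟨a, ha⟩, -⟩ := hf.nondegenerate u hu
  refine ⟨f a z / f a u, ?_⟩
  apply fr_injective hf
  apply LinearMap.ext
  intro x
  rw [fr_smul, LinearMap.smul_apply, fr_apply, fr_apply, smul_eq_mul]
  have h1 : f (x - (f x u / f a u) • a) u = 0 := by
    rw [f_sub_left hf.bilinear, hf.bilinear.smul_left]
    field_simp
    ring
  have h2 := h _ h1
  rw [f_sub_left hf.bilinear, hf.bilinear.smul_left, sub_eq_zero] at h2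
  rw [h2]
  field_simp

/-- the pulled back functional `x ↦ f (h⁻¹ x) v` -/
noncomputable def ψ (h : GL ι F) (v : ι → F) : Dual F (ι → F) :=
  (fr hf.bilinear v).comp (Matrix.toLin' ((h⁻¹ : GL ι F) : Matrix ι ι F))

theorem ψ_apply (h : GL ι F) (v x : ι → F) :
    ψ hf h v x = f (((h⁻¹ : GL ι F) : Matrix ι ι F) *ᵥ x) v := by
  unfold ψ
  rw [LinearMap.comp_apply, Matrix.toLin'_apply, fr_apply]

theorem ψ_self (h : GL ι F) (v : ι → F) (c : F) :
    (c • ψ hf h v) ((h : Matrix ι ι F) *ᵥ v) = 0 := by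
  rw [LinearMap.smul_apply, ψ_apply, gl_inv_mulVec, hf.alternating, smul_zero]

/-- conjugating a symplectic transvection -/
theorem conj_τ (h : GL ι F) (v : ι → F) (c : F) :
    h * τ hf v c * h⁻¹ = tvGL (c • ψ hf h v) ((h : Matrix ι ι F) *ᵥ v) (ψ_self hf h v c) := by
  apply gl_ext
  intro x
  rw [gl_mul_mulVec, gl_mul_mulVec, τ_mulVec, tvGL_mulVec, Matrix.mulVec_add, Matrix.mulVec_smul,
    gl_mulVec_inv, LinearMap.smul_apply, ψ_apply, smul_eq_mul]

/-- if all pulled back functionals are proportional to the `fr (h v)`, then `h` is a similarity -/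
theorem mem_sim_of_prop (h : GL ι F)
    (H : ∀ v : ι → F, v ≠ 0 → ∃ c : F, ψ hf h v = c • fr hf.bilinear ((h : Matrix ι ι F) *ᵥ v)) :
    h ∈ Cfsg.Geo.similarityGroup f := by
  classical
  -- rewrite H
  have H' : ∀ v : ι → F, v ≠ 0 → ∃ c : F, ∀ y, f y v =
      c * f ((h : Matrix ι ι F) *ᵥ y) ((h : Matrix ι ι F) *ᵥ v) := by
    intro v hv
    obtain ⟨c, hc⟩ := H v hv
    refine ⟨c, fun y => ?_⟩
    have := LinearMap.congr_fun hc ((h : Matrix ι ι F) *ᵥ y)
    rw [ψ_apply, gl_inv_mulVec, LinearMap.smul_apply, fr_apply, smul_eq_mul] at this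
    exact this
  choose! cf hcf using H'
  -- the constants agree on non-orthogonal pairs
  have hagree : ∀ v y : ι → F, v ≠ 0 → y ≠ 0 → f y v ≠ 0 → cf v = cf y := by
    intro v y hv hy hyv
    have h1 := hcf v hv y
    have h2 := hcf y hy v
    rw [hf.skew v y, hf.skew ((h : Matrix ι ι F) *ᵥ v)] at h2
    have h3 : f ((h : Matrix ι ι F) *ᵥ y) ((h : Matrix ι ι F) *ᵥ v) ≠ 0 := by
      intro h0
      rw [h0, mul_zero] at h1
      exact hyv h1
    have h4 : cf v * f ((h : Matrix ι ι F) *ᵥ y) ((h : Matrix ι ι F) *ᵥ v) =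
        cf y * f ((h : Matrix ι ι F) *ᵥ y) ((h : Matrix ι ι F) *ᵥ v) := by
      rw [← h1]
      have : f y v = cf y * f ((h : Matrix ι ι F) *ᵥ y) ((h : Matrix ι ι F) *ᵥ v) := by
        have := neg_inj.1 (h2.trans (mul_neg _ _))
        exact this
      exact this
    exact mul_right_cancel₀ h3 h4
  have hconst : ∀ v y : ι → F, v ≠ 0 → y ≠ 0 → cf v = cf y := by
    intro v y hv hy
    obtain ⟨z, hz1, hz2⟩ := exists_common hf v y hv hy
    have hz0 : z ≠ 0 := by
      rintro rfl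
      exact hz1 (f_zero_right hf.bilinear v)
    have e1 : cf z = cf v := hagree z v hz0 hv hz1
    have e2 : cf z = cf y := hagree z y hz0 hy hz2
    rw [← e1, e2]
  by_cases hne : ∃ v0 : ι → F, v0 ≠ 0
  · obtain ⟨v0, hv0⟩ := hne
    have hc0 : cf v0 ≠ 0 := by
      intro h0
      obtain ⟨⟨x, hx⟩, -⟩ := hf.nondegenerate v0 hv0
      apply hx
      rw [hcf v0 hv0 x, h0, zero_mul]
    refine ⟨Units.mk0 (cf v0)⁻¹ (inv_ne_zero hc0), fun u v => ?_⟩
    rw [Units.val_mk0]
    by_cases hv : v = 0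
    · subst hv
      rw [Matrix.mulVec_zero, f_zero_right hf.bilinear, f_zero_right hf.bilinear, mul_zero]
    · rw [hcf v hv u, hconst v v0 hv hv0, ← mul_assoc, inv_mul_cancel₀ hc0, one_mul]
  · push Not at hne
    refine ⟨1, fun u v => ?_⟩
    rw [hne u, hne v, Matrix.mulVec_zero, f_zero_right hf.bilinear, mul_zero]

end symp

end Cfsg.Agent.Lib.H11.SimMax
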