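import Cfsg.Agent.Lib.H11.SimMax3

set_option autoImplicit false
set_option linter.unusedSimpArgs false
set_option linter.unusedSectionVars false
set_option linter.unusedVariables false

namespace Cfsg.Agent.Lib.H11.SimMax

open Matrix Module
open Cfsg.Agent.Lib.H28 Cfsg.Agent.Lib.H11.SubspMax

variable {ι : Type} [Fintype ι] [DecidableEq ι] {F : Type*} [Field F]
variable {f : (ι → F) → (ι → F) → F}

section symp
variable (hf : Cfsg.Geo.IsSymplecticForm f)
include hf

/-- a transvection `x ↦ x + f x z • u` that is a similarity has `z ∈ F u` -/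
theorem tv_not_sim (u z : ι → F) (hu : u ≠ 0) (huz : f u z = 0) (h : (fr hf.bilinear z) u = 0)
    (hmem : tvGL (fr hf.bilinear z) u h ∈ Cfsg.Geo.similarityGroup f) : ∃ c : F, z = c • u := by
  obtain ⟨c, hc⟩ := hmem
  obtain ⟨⟨a, ha⟩, -⟩ := hf.nondegenerate u hu
  have hc1 : (c : F) = 1 := by
    have := hc a u
    rw [tvGL_mulVec, tvGL_mulVec, fr_apply, fr_apply, huz, zero_smul, add_zero,
      hf.bilinear.add_left, hf.bilinear.smul_left, hf.alternating, mul_zero, add_zero] at this
    have h2 : (1 - (c : F)) * f a u = 0 := by rw [sub_mul, one_mul, ← this, sub_self]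
    rcases mul_eq_zero.1 h2 with h3 | h3
    · exact (sub_eq_zero.1 h3).symm
    · exact absurd h3 ha
  apply eq_smul_of_ker hf u z hu
  intro w hw
  have := hc w a
  rw [hc1, one_mul, tvGL_mulVec, tvGL_mulVec, fr_apply, fr_apply,
    hf.bilinear.add_left, hf.bilinear.add_right, hf.bilinear.add_right,
    hf.bilinear.smul_left, hf.bilinear.smul_left, hf.bilinear.smul_right, hf.bilinear.smul_right,
    hf.alternating, hw, hf.skew u a] at this
  have h2 : f w z * f a u = 0 := by linear_combination -this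
  rcases mul_eq_zero.1 h2 with h3 | h3
  · exact h3
  · exact absurd h3 ha

/-- in dimension at least three there is a vector orthogonal to `u` outside `F u` -/
theorem exists_perp (hcard : 3 ≤ Fintype.card ι) (u : ι → F) (hu : u ≠ 0) :
    ∃ z : ι → F, f u z = 0 ∧ ∀ c : F, z ≠ c • u := by
  by_contra hcon
  push Not at hcon
  have hle : LinearMap.ker (fr hf.bilinear u) ≤ Submodule.span F {u} := by
    intro z hz
    rw [LinearMap.mem_ker, fr_apply] at hz
    have hz' : f u z = 0 := by rw [hf.skew, hz, neg_zero]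
    obtain ⟨c, hc⟩ := hcon z hz'
    rw [Submodule.mem_span_singleton]
    exact ⟨c, hc.symm⟩
  have h1 := LinearMap.finrank_range_add_finrank_ker (fr hf.bilinear u)
  have h2 : finrank F (LinearMap.range (fr hf.bilinear u)) ≤ 1 := by
    have := Submodule.finrank_le (LinearMap.range (fr hf.bilinear u))
    rwa [finrank_self] at this
  have h3 : finrank F (LinearMap.ker (fr hf.bilinear u)) ≤ 1 := by
    have := Submodule.finrank_mono hle
    rwa [finrank_span_singleton hu] at this
  rw [Module.finrank_fintype_fun_eq_card] at h1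
  omega

/-- the similarity group of a symplectic form meets `SL` in a proper subgroup -/
theorem sim_lt (hcard : 3 ≤ Fintype.card ι) :
    Cfsg.Geo.similarityGroup f ⊓ Cfsg.Geo.specialLinear ι F < Cfsg.Geo.specialLinear ι F := by
  refine lt_of_le_of_ne inf_le_right ?_
  intro heq
  have hne : Nonempty ι := by
    rw [← Fintype.card_pos_iff]; omega
  obtain ⟨i⟩ := hne
  obtain ⟨u, hu⟩ : ∃ u : ι → F, u ≠ 0 := by
    refine ⟨Pi.single i 1, ?_⟩
    intro h0
    have := congrFun h0 i
    simp at this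
  obtain ⟨z, hz1, hz2⟩ := exists_perp hf hcard u hu
  have h : (fr hf.bilinear z) u = 0 := by rw [fr_apply]; exact hz1
  have hmem : tvGL (fr hf.bilinear z) u h ∈
      Cfsg.Geo.similarityGroup f ⊓ Cfsg.Geo.specialLinear ι F := by
    rw [heq]; exact tvGL_mem_specialLinear _ _ _
  obtain ⟨c, hc⟩ := tv_not_sim hf u z hu hz1 h hmem.1
  exact hz2 c hc

theorem sim_maximal (hcard : 3 ≤ Fintype.card ι) :
    Cfsg.Geo.IsMaximalIn (Cfsg.Geo.specialLinear ι F)
      (Cfsg.Geo.similarityGroup f ⊓ Cfsg.Geo.specialLinear ι F) := by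
  have : Nontrivial ι := by
    rw [← Fintype.one_lt_card_iff_nontrivial]; omega
  refine ⟨sim_lt hf hcard, ?_⟩
  intro M hNM hMS
  by_cases hMN : M = Cfsg.Geo.similarityGroup f ⊓ Cfsg.Geo.specialLinear ι F
  · left; exact hMN
  right
  apply le_antisymm hMS
  -- an element of M outside the similarity group
  obtain ⟨h, hhM, hhN⟩ : ∃ h ∈ M, h ∉ Cfsg.Geo.similarityGroup f := by
    by_contra hcon
    push Not at hcon
    apply hMN
    apply le_antisymm _ hNM
    intro g hg
    exact ⟨hcon g hg, hMS hg⟩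
  -- a vector witnessing non-similarity
  obtain ⟨v, hv, hvc⟩ : ∃ v : ι → F, v ≠ 0 ∧
      ∀ c : F, ψ hf h v ≠ c • fr hf.bilinear ((h : Matrix ι ι F) *ᵥ v) := by
    by_contra hcon
    push Not at hcon
    exact hhN (mem_sim_of_prop hf h hcon)
  obtain ⟨u, hu⟩ : ∃ u, u = (h : Matrix ι ι F) *ᵥ v := ⟨_, rfl⟩
  have hu0 : u ≠ 0 := by
    intro h0
    apply hv
    have := gl_inv_mulVec h v
    rw [← hu, h0, Matrix.mulVec_zero] at this
    exact this.symm
  obtain ⟨z, hz⟩ := exists_fr hf (ψ hf h v)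
  have hψu : (ψ hf h v) u = 0 := by
    have := ψ_self hf h v 1
    rwa [one_smul, ← hu] at this
  have hzT : fr hf.bilinear z ∈ Tset M u := by
    rw [← hz]
    refine ⟨hψu, ?_⟩
    have h1 : h * τ hf v 1 * h⁻¹ ∈ M :=
      M.mul_mem (M.mul_mem hhM (hNM (τ_mem hf v 1))) (M.inv_mem hhM)
    rw [conj_τ] at h1
    have h2 : ∀ (φ φ' : Dual F (ι → F)) (u u' : ι → F) (h : φ u = 0) (h' : φ' u' = 0),
        φ = φ' → u = u' → tvGL φ u h = tvGL φ' u' h' := by
      intro φ φ' u u' h h' e1 e2
      subst e1; subst e2; rfl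
    rw [h2 (ψ hf h v) ((1 : F) • ψ hf h v) u ((h : Matrix ι ι F) *ᵥ v) hψu (ψ_self hf h v 1)
      (one_smul _ _).symm hu]
    exact h1
  have hzu : ∀ c : F, z ≠ c • u := by
    intro c hc
    apply hvc c
    rw [hz, hc, fr_smul, hu]
  have hall := Tset_all hf M hNM u z hu0 hzT hzu
  -- all transvections are in M
  apply sl_le_of_tvGL
  intro φ u' hφ
  by_cases hu' : u' = 0
  · subst hu'
    have : tvGL φ 0 hφ = 1 := by
      apply gl_ext
      intro x
      rw [tvGL_mulVec, smul_zero, add_zero, Units.val_one, Matrix.one_mulVec]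
    rw [this]; exact M.one_mem
  · obtain ⟨g, hg, rfl⟩ := move hf u u' hu0 hu'
    obtain ⟨f', h', he⟩ := conj_tvGL g φ u hφ
    rw [he]
    have h3 : tvGL f' u h' ∈ M := by
      obtain ⟨h4, h5⟩ := hall f' h'
      exact h5
    exact M.mul_mem (M.mul_mem (hNM hg) h3) (M.inv_mem (hNM hg))

end symp

end Cfsg.Agent.Lib.H11.SimMax
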