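import Cfsg.Agent.Lib.H11.InvK4

/-!
# Field subalgebras of full degree (Singer type), part 1

`K` a field subalgebra of the `n × n` matrices: non-zero elements act injectively; when `K` has
degree `n`, `F^n = K v₀`; elements of the normaliser of `K` that do not centralise `K` have all
eigenspaces of dimension at most `n / 2`; the centraliser of `K` is `K`.
-/

set_option autoImplicit false
set_option linter.unusedSectionVars false

namespace Cfsg.Agent.Lib.H11.Sing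

open Matrix Module Cfsg.Agent.Lib.H11.InvCls

variable {F : Type*} [Field F] {n r : ℕ} {K : Subalgebra F (Matrix (Fin n) (Fin n) F)}

theorem exists_inv' (hK : Cfsg.Geo.IsFieldSubalgebra r K) {x : Matrix (Fin n) (Fin n) F}
    (hx : x ∈ K) (hx0 : x ≠ 0) : ∃ y ∈ K, x * y = 1 ∧ y * x = 1 := by
  obtain ⟨y, hy, hxy⟩ := hK.inv x hx hx0
  exact ⟨y, hy, hxy, by rw [← hK.comm x hx y hy, hxy]⟩

/-- non-zero elements of `K` act injectively -/
theorem mulVec_eq_zero (hK : Cfsg.Geo.IsFieldSubalgebra r K) {y : Matrix (Fin n) (Fin n) F}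
    (hy : y ∈ K) (hy0 : y ≠ 0) {v : Fin n → F} (h : y *ᵥ v = 0) : v = 0 := by
  obtain ⟨y', -, -, hy'⟩ := exists_inv' hK hy hy0
  have := congrArg (fun w => y' *ᵥ w) h
  simpa [Matrix.mulVec_mulVec, hy'] using this

/-- the orbit map `y ↦ y v₀` -/
def orbitMap (K : Subalgebra F (Matrix (Fin n) (Fin n) F)) (v₀ : Fin n → F) :
    ↥K →ₗ[F] (Fin n → F) where
  toFun y := (y : Matrix (Fin n) (Fin n) F) *ᵥ v₀
  map_add' y y' := by simp [Matrix.add_mulVec]
  map_smul' c y := by simp [Matrix.smul_mulVec]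

theorem orbitMap_apply (v₀ : Fin n → F) (y : ↥K) :
    orbitMap K v₀ y = (y : Matrix (Fin n) (Fin n) F) *ᵥ v₀ := rfl

theorem orbitMap_injective (hK : Cfsg.Geo.IsFieldSubalgebra r K) (v₀ : Fin n → F) (hv₀ : v₀ ≠ 0) :
    Function.Injective (orbitMap K v₀) := by
  rw [← LinearMap.ker_eq_bot, LinearMap.ker_eq_bot']
  intro y hy
  by_contra hy0
  apply hv₀
  exact mulVec_eq_zero hK y.2 (fun h => hy0 (Subtype.ext h)) hy

theorem orbitMap_surjective (hK : Cfsg.Geo.IsFieldSubalgebra n K) (v₀ : Fin n → F)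
    (hv₀ : v₀ ≠ 0) : Function.Surjective (orbitMap K v₀) := by
  have hfin : Module.finrank F ↥K = Module.finrank F (Fin n → F) := by
    rw [hK.finrank_eq, Module.finrank_fintype_fun_eq_card, Fintype.card_fin]
  have : FiniteDimensional F ↥K := by
    apply Module.finite_of_finrank_pos
    rw [hK.finrank_eq]
    rcases Nat.eq_zero_or_pos n with h | h
    · subst h
      exfalso
      apply hv₀
      funext i
      exact i.elim0
    · exact h
  exact (LinearMap.injective_iff_surjective_of_finrank_eq_finrank hfin).1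
    (orbitMap_injective hK v₀ hv₀)

/-- `F^n = K v₀` -/
theorem exists_mem_mulVec_eq (hK : Cfsg.Geo.IsFieldSubalgebra n K) (v₀ : Fin n → F)
    (hv₀ : v₀ ≠ 0) (w : Fin n → F) : ∃ y ∈ K, y *ᵥ v₀ = w := by
  obtain ⟨y, hy⟩ := orbitMap_surjective hK v₀ hv₀ w
  exact ⟨y, y.2, hy⟩

/-- the centraliser of `K` is `K` -/
theorem mem_of_commute (hK : Cfsg.Geo.IsFieldSubalgebra n K) (hn : 0 < n)
    (h : Matrix (Fin n) (Fin n) F) (hc : ∀ y ∈ K, h * y = y * h) : h ∈ K := by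
  let v₀ : Fin n → F := Pi.single ⟨0, hn⟩ 1
  have hv₀ : v₀ ≠ 0 := by
    intro h0
    have := congrFun h0 ⟨0, hn⟩
    simp [v₀] at this
  obtain ⟨y₁, hy₁, hy₁v⟩ := exists_mem_mulVec_eq hK v₀ hv₀ (h *ᵥ v₀)
  have : h = y₁ := by
    apply Cfsg.Agent.Lib.H11.PSLGraph.mat_ext_mulVec
    intro v
    obtain ⟨y, hy, rfl⟩ := exists_mem_mulVec_eq hK v₀ hv₀ v
    calc h *ᵥ (y *ᵥ v₀) = (y * h) *ᵥ v₀ := by rw [Matrix.mulVec_mulVec, hc y hy]
      _ = y *ᵥ (y₁ *ᵥ v₀) := by rw [← Matrix.mulVec_mulVec, hy₁v]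
      _ = (y₁ * y) *ᵥ v₀ := by rw [Matrix.mulVec_mulVec, hK.comm y hy y₁ hy₁]
      _ = y₁ *ᵥ (y *ᵥ v₀) := by rw [Matrix.mulVec_mulVec]
  rw [this]
  exact hy₁

/-- eigenspaces of an element normalising but not centralising `K` are small -/
theorem rank_bound_of_not_commute (hK : Cfsg.Geo.IsFieldSubalgebra r K)
    (h hi : Matrix (Fin n) (Fin n) F) (hhi : hi * h = 1)
    (y₀ : Matrix (Fin n) (Fin n) F) (hy₀ : y₀ ∈ K) (hy₁ : h * y₀ * hi ∈ K)
    (hne : h * y₀ * hi ≠ y₀) (c : F) : n ≤ 2 * (h - c • (1 : Matrix (Fin n) (Fin n) F)).rank := by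
  have hhi' : h * hi = 1 := mul_eq_one_comm.mp hhi
  have hy₀0 : y₀ ≠ 0 := by
    rintro rfl
    apply hne
    rw [Matrix.mul_zero, Matrix.zero_mul]
  obtain ⟨y₀', -, hy₀y₀', hy₀'y₀⟩ := exists_inv' hK hy₀ hy₀0
  set y₁ := h * y₀ * hi with hy₁def
  have hd0 : y₁ - y₀ ≠ 0 := sub_ne_zero.2 hne
  have hdK : y₁ - y₀ ∈ K := K.sub_mem hy₁ hy₀
  set E := LinearMap.ker (Matrix.toLin' (h - c • (1 : Matrix (Fin n) (Fin n) F))) with hE
  have hEmem : ∀ v, v ∈ E ↔ h *ᵥ v = c • v := by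
    intro v
    rw [hE, LinearMap.mem_ker, Matrix.toLin'_apply, Matrix.sub_mulVec, Matrix.smul_mulVec,
      Matrix.one_mulVec, sub_eq_zero]
  let ψ : (Fin n → F) ≃ₗ[F] (Fin n → F) := Matrix.toLin'OfInv hy₀'y₀ hy₀y₀'
  have hψ : ∀ v, ψ v = y₀ *ᵥ v := fun v => by
    simp [ψ, Matrix.toLin'OfInv, Matrix.toLin'_apply]
  have hdisj : E ⊓ E.map (ψ : (Fin n → F) →ₗ[F] (Fin n → F)) = ⊥ := by
    rw [eq_bot_iff]
    rintro w ⟨hw1, hw2⟩
    obtain ⟨v, hv, rfl⟩ := hw2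
    rw [SetLike.mem_coe, hEmem] at hw1 hv
    rw [LinearEquiv.coe_coe, hψ] at hw1 ⊢
    rw [Submodule.mem_bot]
    by_cases hc0 : c = 0
    · -- `h` invertible: `E = 0`
      rw [hc0, zero_smul] at hv
      have : v = 0 := by
        have := congrArg (fun w => hi *ᵥ w) hv
        simpa [Matrix.mulVec_mulVec, hhi] using this
      rw [this, Matrix.mulVec_zero]
    · have h1 : h *ᵥ (y₀ *ᵥ v) = c • (y₁ *ᵥ v) := by
        have : h * y₀ = y₁ * h := by
          rw [hy₁def, Matrix.mul_assoc, hhi, Matrix.mul_one]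
        rw [Matrix.mulVec_mulVec, this, ← Matrix.mulVec_mulVec, hv, Matrix.mulVec_smul]
      rw [h1] at hw1
      have h2 : c • ((y₁ - y₀) *ᵥ v) = 0 := by
        rw [Matrix.sub_mulVec, smul_sub, hw1, sub_self]
      have h3 : (y₁ - y₀) *ᵥ v = 0 := by
        rcases smul_eq_zero.1 h2 with h | h
        · exact absurd h hc0
        · exact h
      rw [mulVec_eq_zero hK hdK hd0 h3, Matrix.mulVec_zero]
  have h1 := Submodule.finrank_sup_add_finrank_inf_eq E
    (E.map (ψ : (Fin n → F) →ₗ[F] (Fin n → F)))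
  rw [hdisj, finrank_bot, add_zero, LinearEquiv.finrank_map_eq] at h1
  have h2 := Submodule.finrank_le (E ⊔ E.map (ψ : (Fin n → F) →ₗ[F] (Fin n → F)))
  rw [Module.finrank_fintype_fun_eq_card, Fintype.card_fin] at h2
  have h3 := finrank_ker_toLin' (h - c • (1 : Matrix (Fin n) (Fin n) F))
  rw [← hE] at h3
  omega

end Cfsg.Agent.Lib.H11.Sing
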