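import Cfsg.Agent.Lib.H11.Sing1

/-!
# Field subalgebras of full degree (Singer type), part 2: the rank bound on the normaliser,
derangement criterion, the Frobenius element
-/

set_option autoImplicit false
set_option linter.unusedSectionVars false
set_option linter.style.haveILetI false

namespace Cfsg.Agent.Lib.H11.Sing

open Matrix Module Cfsg.Agent.Lib.H11.InvCls

variable {F : Type*} [Field F] {n r : ℕ} {K : Subalgebra F (Matrix (Fin n) (Fin n) F)}

/-- non-scalar elements of the normaliser of `K` have eigenspaces of dimension at most `n / 2` -/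
theorem rank_bound_of_mem_normalizer (hK : Cfsg.Geo.IsFieldSubalgebra n K) (hn : 0 < n)
    (g : GL (Fin n) F) (hg : g ∈ Cfsg.Geo.subalgebraNormalizer K)
    (hns : ∀ c : F, (g : Matrix (Fin n) (Fin n) F) ≠ c • (1 : Matrix (Fin n) (Fin n) F)) (c : F) :
    n ≤ 2 * ((g : Matrix (Fin n) (Fin n) F) - c • (1 : Matrix (Fin n) (Fin n) F)).rank := by
  set gm : Matrix (Fin n) (Fin n) F := (g : Matrix (Fin n) (Fin n) F) with hgm
  set gi : Matrix (Fin n) (Fin n) F := ((g⁻¹ : GL (Fin n) F) : Matrix (Fin n) (Fin n) F) with hgi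
  have h1 : gi * gm = 1 := by rw [hgi, hgm, ← Units.val_mul, inv_mul_cancel, Units.val_one]
  have h1' : gm * gi = 1 := by rw [hgi, hgm, ← Units.val_mul, mul_inv_cancel, Units.val_one]
  by_cases hcomm : ∀ y ∈ K, gm * y = y * gm
  · have hgK : gm ∈ K := mem_of_commute hK hn gm hcomm
    have hd : gm - c • (1 : Matrix (Fin n) (Fin n) F) ∈ K := K.sub_mem hgK (smul_one_mem K c)
    have hd0 : gm - c • (1 : Matrix (Fin n) (Fin n) F) ≠ 0 := sub_ne_zero.2 (hns c)
    obtain ⟨y, -, hy, -⟩ := exists_inv' hK hd hd0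
    have hu : IsUnit (gm - c • (1 : Matrix (Fin n) (Fin n) F)) :=
      (Matrix.isUnit_iff_isUnit_det _).2 (Matrix.isUnit_det_of_right_inverse hy)
    rw [Matrix.rank_of_isUnit _ hu, Fintype.card_fin]
    omega
  · push Not at hcomm
    obtain ⟨y₀, hy₀, hne⟩ := hcomm
    apply rank_bound_of_not_commute hK gm gi h1 y₀ hy₀ ((hg y₀).1 hy₀)
    intro h
    apply hne
    calc gm * y₀ = gm * y₀ * (gi * gm) := by rw [h1, Matrix.mul_one]
      _ = (gm * y₀ * gi) * gm := by simp only [Matrix.mul_assoc]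
      _ = y₀ * gm := by rw [h]

/-- the derangement criterion: a non-scalar matrix with a large eigenspace is not conjugate
into the normaliser of `K` -/
theorem not_conj_of_small_rank (hK : Cfsg.Geo.IsFieldSubalgebra n K) (hn : 0 < n)
    (x : Matrix.SpecialLinearGroup (Fin n) F)
    (hns : ∀ c : F, (x : Matrix (Fin n) (Fin n) F) ≠ c • (1 : Matrix (Fin n) (Fin n) F)) (c : F)
    (hr : 2 * ((x : Matrix (Fin n) (Fin n) F) - c • (1 : Matrix (Fin n) (Fin n) F)).rank < n)
    (P : Matrix.SpecialLinearGroup (Fin n) F) :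
    P⁻¹ * x * P ∉ (Cfsg.Geo.subalgebraNormalizer K).comap
      (Matrix.SpecialLinearGroup.toGL : Matrix.SpecialLinearGroup (Fin n) F →* GL (Fin n) F) := by
  intro hmem
  rw [Subgroup.mem_comap] at hmem
  set Pm : Matrix (Fin n) (Fin n) F := (P : Matrix (Fin n) (Fin n) F) with hPm
  set Pi : Matrix (Fin n) (Fin n) F :=
    ((P⁻¹ : Matrix.SpecialLinearGroup (Fin n) F) : Matrix (Fin n) (Fin n) F) with hPi
  have h1 : Pi * Pm = 1 := by
    rw [hPi, hPm, ← Matrix.SpecialLinearGroup.coe_mul, inv_mul_cancel,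
      Matrix.SpecialLinearGroup.coe_one]
  have h1' : Pm * Pi = 1 := mul_eq_one_comm.mp h1
  have hcoe : ((Matrix.SpecialLinearGroup.toGL (P⁻¹ * x * P) : GL (Fin n) F) :
      Matrix (Fin n) (Fin n) F) = Pi * (x : Matrix (Fin n) (Fin n) F) * Pm := by
    rw [Matrix.SpecialLinearGroup.coe_GL_coe_matrix, Matrix.SpecialLinearGroup.coe_mul,
      Matrix.SpecialLinearGroup.coe_mul]
  have hns' : ∀ c' : F, ((Matrix.SpecialLinearGroup.toGL (P⁻¹ * x * P) : GL (Fin n) F) :
      Matrix (Fin n) (Fin n) F) ≠ c' • (1 : Matrix (Fin n) (Fin n) F) := by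
    intro c' h
    rw [hcoe] at h
    apply hns c'
    calc (x : Matrix (Fin n) (Fin n) F)
        = (Pm * Pi) * (x : Matrix (Fin n) (Fin n) F) * (Pm * Pi) := by
          rw [h1', Matrix.one_mul, Matrix.mul_one]
      _ = Pm * (Pi * (x : Matrix (Fin n) (Fin n) F) * Pm) * Pi := by simp only [Matrix.mul_assoc]
      _ = c' • (1 : Matrix (Fin n) (Fin n) F) := by
          rw [h, Matrix.mul_smul, Matrix.smul_mul, Matrix.mul_one, h1']
  have h2 := rank_bound_of_mem_normalizer hK hn _ hmem hns' c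
  rw [hcoe] at h2
  have h3 : Pi * (x : Matrix (Fin n) (Fin n) F) * Pm - c • (1 : Matrix (Fin n) (Fin n) F) =
      Pi * ((x : Matrix (Fin n) (Fin n) F) - c • (1 : Matrix (Fin n) (Fin n) F)) * Pm := by
    rw [Matrix.mul_sub, Matrix.sub_mul, Matrix.mul_smul, Matrix.smul_mul, Matrix.mul_one, h1]
  have hPu : IsUnit Pm.det := Matrix.isUnit_det_of_right_inverse h1'
  have hPiu : IsUnit Pi.det := Matrix.isUnit_det_of_right_inverse h1
  rw [h3, Matrix.rank_mul_eq_left_of_isUnit_det _ _ hPu,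
    Matrix.rank_mul_eq_right_of_isUnit_det _ _ hPiu] at h2
  omega

theorem isField_of (hK : Cfsg.Geo.IsFieldSubalgebra r K) (hn : 0 < n) : IsField ↥K where
  exists_pair_ne := ⟨0, 1, fun h => one_ne_zero_mat (F := F) hn (congrArg Subtype.val h).symm⟩
  mul_comm := fun a b => Subtype.ext (hK.comm a a.2 b b.2)
  mul_inv_cancel := fun {a} ha => by
    obtain ⟨y, hy, h⟩ := hK.inv a a.2 (fun h0 => ha (Subtype.ext h0))
    exact ⟨⟨y, hy⟩, Subtype.ext h⟩

theorem pow_card_pow_eq [Fintype F] (hK : Cfsg.Geo.IsFieldSubalgebra n K) (hn : 0 < n)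
    (y : Matrix (Fin n) (Fin n) F) (hy : y ∈ K) : y ^ (Fintype.card F ^ n) = y := by
  letI : Field ↥K := (isField_of hK hn).toField
  have : Fintype ↥K := Fintype.ofFinite _
  have hcard : Fintype.card ↥K = Fintype.card F ^ n := by
    rw [Module.card_eq_pow_finrank (K := F) (V := ↥K), hK.finrank_eq]
  have h1 := FiniteField.pow_card (⟨y, hy⟩ : ↥K)
  rw [hcard] at h1
  exact congrArg Subtype.val h1

theorem exists_frob_ne [Fintype F] (hK : Cfsg.Geo.IsFieldSubalgebra n K) (hn : 2 ≤ n) :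
    ∃ y ∈ K, y ^ Fintype.card F ≠ y := by
  letI : Field ↥K := (isField_of hK (by omega)).toField
  have : Fintype ↥K := Fintype.ofFinite _
  have hcard : Fintype.card ↥K = Fintype.card F ^ n := by
    rw [Module.card_eq_pow_finrank (K := F) (V := ↥K), hK.finrank_eq]
  by_contra hall
  push Not at hall
  have hq1 : 1 < Fintype.card F := Fintype.one_lt_card
  have hsub : (Finset.univ : Finset ↥K).val ⊆
      (Polynomial.X ^ Fintype.card F - Polynomial.X : Polynomial ↥K).roots := by
    intro y _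
    rw [Polynomial.mem_roots (FiniteField.X_pow_card_sub_X_ne_zero ↥K hq1)]
    simp only [Polynomial.IsRoot, Polynomial.eval_sub, Polynomial.eval_pow, Polynomial.eval_X]
    rw [sub_eq_zero]
    exact Subtype.ext (hall y.1 y.2)
  have h1 := Polynomial.card_le_degree_of_subset_roots hsub
  rw [FiniteField.X_pow_card_sub_X_natDegree_eq ↥K hq1, Finset.card_univ, hcard] at h1
  have : Fintype.card F ^ 2 ≤ Fintype.card F ^ n := Nat.pow_le_pow_right (by omega) hn
  nlinarith

end Cfsg.Agent.Lib.H11.Sing
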