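import Cfsg.Agent.Lib.H11.Sing2

/-!
# Field subalgebras of full degree (Singer type), part 3: the Frobenius element of the normaliser
-/

set_option autoImplicit false
set_option linter.unusedSectionVars false
set_option linter.style.haveILetI false

namespace Cfsg.Agent.Lib.H11.Sing

open Matrix Module Cfsg.Agent.Lib.H11.InvCls

variable {F : Type*} [Field F] [Fintype F] {n : ℕ} {K : Subalgebra F (Matrix (Fin n) (Fin n) F)}

/-- the Frobenius map `y ↦ y ^ q` is additive on `K` -/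
theorem add_pow_card (hK : Cfsg.Geo.IsFieldSubalgebra n K) (hn : 0 < n) {p : ℕ} [Fact p.Prime]
    [CharP F p] (y y' : Matrix (Fin n) (Fin n) F) (hy : y ∈ K) (hy' : y' ∈ K) :
    (y + y') ^ Fintype.card F = y ^ Fintype.card F + y' ^ Fintype.card F := by
  obtain ⟨f, -, hf⟩ := FiniteField.card F p
  haveI : Nonempty (Fin n) := ⟨⟨0, hn⟩⟩
  haveI := Matrix.charP (n := Fin n) (R := F) p
  rw [hf]
  exact add_pow_char_pow_of_commute p f (hK.comm y hy y' hy')

/-- the matrix of the Frobenius semilinear map of `F^n = K v₀` -/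
theorem exists_frobenius_matrix (hK : Cfsg.Geo.IsFieldSubalgebra n K) (hn : 0 < n) {p : ℕ}
    [Fact p.Prime] [CharP F p] :
    ∃ g : Matrix (Fin n) (Fin n) F, (∀ y ∈ K, g * y = y ^ Fintype.card F * g) ∧ g ^ n = 1 := by
  classical
  let frob : ↥K →ₗ[F] ↥K :=
    { toFun := fun y => ⟨(y : Matrix (Fin n) (Fin n) F) ^ Fintype.card F, K.pow_mem y.2 _⟩
      map_add' := fun y y' => Subtype.ext (add_pow_card hK hn y.1 y'.1 y.2 y'.2)
      map_smul' := fun c y => by
        apply Subtype.ext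
        show (c • (y : Matrix (Fin n) (Fin n) F)) ^ Fintype.card F =
          c • (y : Matrix (Fin n) (Fin n) F) ^ Fintype.card F
        rw [smul_pow, FiniteField.pow_card] }
  let v₀ : Fin n → F := Pi.single ⟨0, hn⟩ 1
  have hv₀ : v₀ ≠ 0 := by
    intro h0
    have := congrFun h0 ⟨0, hn⟩
    simp [v₀] at this
  let φ : ↥K ≃ₗ[F] (Fin n → F) := LinearEquiv.ofBijective (orbitMap K v₀)
    ⟨orbitMap_injective hK v₀ hv₀, orbitMap_surjective hK v₀ hv₀⟩
  have hφ : ∀ y : ↥K, φ y = (y : Matrix (Fin n) (Fin n) F) *ᵥ v₀ := fun y => rfl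
  let glin : (Fin n → F) →ₗ[F] (Fin n → F) :=
    (φ : ↥K →ₗ[F] (Fin n → F)) ∘ₗ frob ∘ₗ (φ.symm : (Fin n → F) →ₗ[F] ↥K)
  set g : Matrix (Fin n) (Fin n) F := LinearMap.toMatrix' glin with hg
  have key : ∀ y ∈ K, g *ᵥ (y *ᵥ v₀) = (y ^ Fintype.card F) *ᵥ v₀ := by
    intro y hy
    rw [hg, LinearMap.toMatrix'_mulVec]
    show φ (frob (φ.symm (y *ᵥ v₀))) = _
    have : y *ᵥ v₀ = φ ⟨y, hy⟩ := rfl
    rw [this, LinearEquiv.symm_apply_apply, hφ]
    rfl
  have h1 : ∀ y ∈ K, g * y = y ^ Fintype.card F * g := by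
    intro y hy
    apply Cfsg.Agent.Lib.H11.PSLGraph.mat_ext_mulVec
    intro v
    obtain ⟨y', hy', rfl⟩ := exists_mem_mulVec_eq hK v₀ hv₀ v
    rw [← Matrix.mulVec_mulVec, ← Matrix.mulVec_mulVec, key _ hy']
    have e1 : y *ᵥ (y' *ᵥ v₀) = (y * y') *ᵥ v₀ := by rw [Matrix.mulVec_mulVec]
    have e2 : Commute y y' := hK.comm y hy y' hy'
    rw [e1, key _ (K.mul_mem hy hy'), Matrix.mulVec_mulVec, e2.mul_pow]
  have h2 : ∀ j : ℕ, ∀ y ∈ K, (g ^ j) *ᵥ (y *ᵥ v₀) = (y ^ (Fintype.card F ^ j)) *ᵥ v₀ := by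
    intro j
    induction j with
    | zero => intro y hy; simp
    | succ j ih =>
      intro y hy
      rw [pow_succ, ← Matrix.mulVec_mulVec, key y hy, ih _ (K.pow_mem hy _), ← pow_mul, pow_succ,
        mul_comm]
  refine ⟨g, h1, ?_⟩
  apply Cfsg.Agent.Lib.H11.PSLGraph.mat_ext_mulVec
  intro v
  obtain ⟨y, hy, rfl⟩ := exists_mem_mulVec_eq hK v₀ hv₀ v
  rw [h2 n y hy, pow_card_pow_eq hK hn y hy, Matrix.one_mulVec]

/-- the Frobenius element of the normaliser of `K` -/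
theorem exists_frobenius (hK : Cfsg.Geo.IsFieldSubalgebra n K) (hn : 2 ≤ n) {p : ℕ}
    [Fact p.Prime] [CharP F p] :
    ∃ g : GL (Fin n) F, g ∈ Cfsg.Geo.subalgebraNormalizer K ∧
      (g : Matrix (Fin n) (Fin n) F) ^ n = 1 ∧
      ∀ c : F, (g : Matrix (Fin n) (Fin n) F) ≠ c • (1 : Matrix (Fin n) (Fin n) F) := by
  obtain ⟨g, h1, hgn⟩ := exists_frobenius_matrix (p := p) hK (by omega : 0 < n)
  set gi : Matrix (Fin n) (Fin n) F := g ^ (n - 1) with hgi
  have hggi : g * gi = 1 := by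
    rw [hgi, ← pow_succ', Nat.sub_add_cancel (by omega), hgn]
  have hgig : gi * g = 1 := by
    rw [hgi, ← pow_succ, Nat.sub_add_cancel (by omega), hgn]
  have h1' : ∀ j : ℕ, ∀ y ∈ K, g ^ j * y = y ^ (Fintype.card F ^ j) * g ^ j := by
    intro j
    induction j with
    | zero => intro y hy; simp
    | succ j ih =>
      intro y hy
      rw [pow_succ, Matrix.mul_assoc, h1 y hy, ← Matrix.mul_assoc, ih _ (K.pow_mem hy _),
        Matrix.mul_assoc, ← pow_mul, pow_succ (Fintype.card F) j, mul_comm]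
  obtain ⟨y₀, hy₀, hne⟩ := exists_frob_ne hK hn
  have hnc : g * y₀ ≠ y₀ * g := by
    intro h
    apply hne
    rw [h1 y₀ hy₀] at h
    calc y₀ ^ Fintype.card F = y₀ ^ Fintype.card F * (g * gi) := by rw [hggi, Matrix.mul_one]
      _ = (y₀ ^ Fintype.card F * g) * gi := by rw [Matrix.mul_assoc]
      _ = y₀ := by rw [h, Matrix.mul_assoc, hggi, Matrix.mul_one]
  refine ⟨⟨g, gi, hggi, hgig⟩, ?_, hgn, ?_⟩
  · intro k
    show k ∈ K ↔ g * k * gi ∈ K
    constructor
    · intro hk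
      rw [h1 k hk, Matrix.mul_assoc, hggi, Matrix.mul_one]
      exact K.pow_mem hk _
    · intro hk
      have : k = gi * (g * k * gi) * g := by
        calc k = (gi * g) * k * (gi * g) := by rw [hgig, Matrix.one_mul, Matrix.mul_one]
          _ = _ := by simp only [Matrix.mul_assoc]
      rw [this, hgi, h1' (n - 1) _ hk, Matrix.mul_assoc, ← hgi, hgig, Matrix.mul_one]
      exact K.pow_mem hk _
  · intro c hc
    apply hnc
    show g * y₀ = y₀ * g
    have : g = c • (1 : Matrix (Fin n) (Fin n) F) := hc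
    rw [this, Matrix.smul_mul, Matrix.mul_smul, Matrix.one_mul, Matrix.mul_one]

end Cfsg.Agent.Lib.H11.Sing
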