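import Cfsg.Agent.Lib.H11.Sing3

/-!
# Field subalgebras of full degree (Singer type), part 4: the cycle matrix, cyclic vectors,
and the transfer into the normaliser
-/

set_option autoImplicit false
set_option linter.unusedSectionVars false

namespace Cfsg.Agent.Lib.H11.Sing

open Matrix Module Cfsg.Agent.Lib.H11.InvCls

variable {F : Type*} [Field F] {n : ℕ}

/-- the permutation matrix of an `n`-cycle -/
def cyc (F : Type*) [Field F] (n : ℕ) : Matrix (Fin n) (Fin n) F :=
  (1 : Matrix (Fin n) (Fin n) F).submatrix id (finRotate n)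

theorem mul_cyc (B : Matrix (Fin n) (Fin n) F) : B * cyc F n = B.submatrix id (finRotate n) := by
  unfold cyc
  have := Matrix.mul_submatrix_one (Equiv.refl (Fin n)) (finRotate n) B
  simpa using this

theorem det_cyc (hn : Odd n) : (cyc F n).det = 1 := by
  unfold cyc
  rw [Matrix.det_permute', Matrix.det_one, sign_finRotate, mul_one]
  obtain ⟨k, hk⟩ := hn
  have : n - 1 = 2 * k := by omega
  rw [this, pow_mul]
  simp

/-- the all-ones matrix commutes with the cycle matrix -/
theorem ones_mul_cyc :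
    (Matrix.of fun _ _ => (1 : F) : Matrix (Fin n) (Fin n) F) * cyc F n =
      Matrix.of fun _ _ => (1 : F) := by
  rw [mul_cyc]
  rfl

theorem cyc_mul_ones :
    cyc F n * (Matrix.of fun _ _ => (1 : F) : Matrix (Fin n) (Fin n) F) =
      Matrix.of fun _ _ => (1 : F) := by
  ext a j
  unfold cyc
  rw [Matrix.mul_apply]
  simp only [Matrix.submatrix_apply, Matrix.of_apply, mul_one]
  show ∑ k, (1 : Matrix (Fin n) (Fin n) F) a (finRotate n k) = 1
  rw [Equiv.sum_comp (finRotate n) (fun k => (1 : Matrix (Fin n) (Fin n) F) a k)]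
  simp [Matrix.one_apply]

/-- the centraliser of the cycle matrix realises every determinant -/
theorem exists_centralizer_cyc (hnF : (n : F) ≠ 0) (d : F) :
    ∃ C₀ : Matrix (Fin n) (Fin n) F, C₀ * cyc F n = cyc F n * C₀ ∧ C₀.det = d := by
  set J : Matrix (Fin n) (Fin n) F := Matrix.of fun _ _ => (1 : F) with hJ
  set c : F := (d - 1) / (n : F) with hc
  refine ⟨1 + c • J, ?_, ?_⟩
  · rw [Matrix.add_mul, Matrix.mul_add, Matrix.one_mul, Matrix.mul_one, Matrix.smul_mul,
      Matrix.mul_smul, hJ, ones_mul_cyc, cyc_mul_ones]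
  · have h1 : c • J = Matrix.replicateCol Unit (fun _ : Fin n => c) *
        Matrix.replicateRow Unit (fun _ : Fin n => (1 : F)) := by
      ext a j
      simp [hJ, Matrix.mul_apply]
    rw [h1, Matrix.det_one_add_replicateCol_mul_replicateRow]
    simp only [dotProduct, one_mul, Finset.sum_const, Finset.card_univ, Fintype.card_fin,
      nsmul_eq_mul]
    rw [hc]
    field_simp
    ring

/-- a cyclic vector gives a conjugation to the cycle matrix -/
theorem conj_cyc_of_cyclic (hn : 0 < n) (u : Matrix (Fin n) (Fin n) F) (hun : u ^ n = 1)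
    (v : Fin n → F)
    (hspan : ⊤ ≤ Submodule.span F (Set.range fun j : Fin n => (u ^ (j : ℕ)) *ᵥ v)) :
    ∃ B Bi : Matrix (Fin n) (Fin n) F, B * Bi = 1 ∧ Bi * B = 1 ∧ u * B = B * cyc F n := by
  obtain ⟨m, rfl⟩ : ∃ m, n = m + 1 := ⟨n - 1, by omega⟩
  set b : Fin (m + 1) → (Fin (m + 1) → F) := fun j => (u ^ (j : ℕ)) *ᵥ v with hb
  have hli : LinearIndependent F b := by
    apply linearIndependent_of_top_le_span_of_card_eq_finrank hspan
    rw [Module.finrank_fintype_fun_eq_card]
  set A : Matrix (Fin (m + 1)) (Fin (m + 1)) F := Matrix.of b with hA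
  have hAu : IsUnit A := Matrix.linearIndependent_rows_iff_isUnit.1 hli
  have hBu : IsUnit Aᵀ := (Matrix.isUnit_transpose A).2 hAu
  obtain ⟨⟨B, Bi, h1, h2⟩, hB⟩ := hBu
  have hB' : B = Aᵀ := hB
  refine ⟨B, Bi, h1, h2, ?_⟩
  rw [mul_cyc, hB']
  ext a j
  rw [Matrix.submatrix_apply, id_eq, Matrix.transpose_apply, Matrix.mul_apply]
  have e1 : ∑ k, u a k * Aᵀ k j = (u *ᵥ b j) a := by
    simp [Matrix.mulVec, dotProduct, hA]
  rw [e1, hA, Matrix.of_apply, hb]
  simp only
  rw [Matrix.mulVec_mulVec, ← pow_succ']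
  have h4 : u ^ ((j : ℕ) + 1) = u ^ ((finRotate (m + 1) j : Fin (m + 1)) : ℕ) := by
    by_cases hj : j = Fin.last m
    · have h3 : ((finRotate (m + 1) j : Fin (m + 1)) : ℕ) = 0 := by
        rw [coe_finRotate, if_pos hj]
      rw [h3, hj, Fin.val_last, hun, pow_zero]
    · have h3 : ((finRotate (m + 1) j : Fin (m + 1)) : ℕ) = (j : ℕ) + 1 := by
        rw [coe_finRotate, if_neg hj]
      rw [h3]
  rw [h4]

end Cfsg.Agent.Lib.H11.Sing
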