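import Cfsg.Agent.Lib.H11.Sing4

/-!
# Field subalgebras of full degree (Singer type), part 5: the transfer into the normaliser;
a counting lemma for fixed-point-free actions of prime order
-/

set_option autoImplicit false
set_option linter.unusedSectionVars false

namespace Cfsg.Agent.Lib.H11.Sing

open Matrix Module Cfsg.Agent.Lib.H11.InvCls

variable {F : Type*} [Field F] {n : ℕ} {K : Subalgebra F (Matrix (Fin n) (Fin n) F)}

/-- if both `x = μ u` and an element `g` of the normaliser of `K` are similar to the cycle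
matrix, then `x` is conjugate into the normaliser by a matrix of determinant one -/
theorem conj_of_conj_cyc (hnF : (n : F) ≠ 0) (g : GL (Fin n) F)
    (hg : g ∈ Cfsg.Geo.subalgebraNormalizer K) (Bg Bgi : Matrix (Fin n) (Fin n) F)
    (hBg : Bg * Bgi = 1) (hgB : (g : Matrix (Fin n) (Fin n) F) * Bg = Bg * cyc F n)
    (x : Matrix.SpecialLinearGroup (Fin n) F) (μ : F) (hμ : μ ≠ 0) (u : Matrix (Fin n) (Fin n) F)
    (hxu : (x : Matrix (Fin n) (Fin n) F) = μ • u) (Bu Bui : Matrix (Fin n) (Fin n) F)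
    (hBu : Bu * Bui = 1) (huB : u * Bu = Bu * cyc F n) :
    ∃ P : Matrix.SpecialLinearGroup (Fin n) F, P⁻¹ * x * P ∈
      (Cfsg.Geo.subalgebraNormalizer K).comap
        (Matrix.SpecialLinearGroup.toGL : Matrix.SpecialLinearGroup (Fin n) F →* GL (Fin n) F) := by
  set gm : Matrix (Fin n) (Fin n) F := (g : Matrix (Fin n) (Fin n) F) with hgm
  set gi : Matrix (Fin n) (Fin n) F := ((g⁻¹ : GL (Fin n) F) : Matrix (Fin n) (Fin n) F) with hgi
  have hggi : gm * gi = 1 := by rw [hgi, hgm, ← Units.val_mul, mul_inv_cancel, Units.val_one]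
  have hBui : Bui * Bu = 1 := mul_eq_one_comm.mp hBu
  have hBgi : Bgi * Bg = 1 := mul_eq_one_comm.mp hBg
  have hu1 : Bui * u = cyc F n * Bui := by
    calc Bui * u = Bui * (u * Bu) * Bui := by
          rw [Matrix.mul_assoc, Matrix.mul_assoc, hBu, Matrix.mul_one]
      _ = cyc F n * Bui := by rw [huB, ← Matrix.mul_assoc, hBui, Matrix.one_mul]
  have hu2 : u = Bu * cyc F n * Bui := by
    rw [← huB, Matrix.mul_assoc, hBu, Matrix.mul_one]
  apply exists_conj_mem_normalizer x (μ • gm) (μ⁻¹ • gi) (Bg * Bui) (Bu * Bgi)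
  · calc Bg * Bui * (Bu * Bgi) = Bg * (Bui * Bu) * Bgi := by simp only [Matrix.mul_assoc]
      _ = 1 := by rw [hBui, Matrix.mul_one, hBg]
  · rw [hxu, Matrix.mul_smul, Matrix.smul_mul]
    congr 1
    calc Bg * Bui * u = Bg * (Bui * u) := by rw [Matrix.mul_assoc]
      _ = (Bg * cyc F n) * Bui := by rw [hu1, Matrix.mul_assoc]
      _ = gm * (Bg * Bui) := by rw [← hgB, Matrix.mul_assoc]
  · rw [Matrix.smul_mul, Matrix.mul_smul, smul_smul, mul_inv_cancel₀ hμ, one_smul, hggi]
  · intro k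
    rw [Matrix.smul_mul, Matrix.smul_mul, Matrix.mul_smul, smul_smul, mul_inv_cancel₀ hμ, one_smul]
    exact hg k
  · intro d _
    obtain ⟨C₀, hC₀, hC₀det⟩ := exists_centralizer_cyc (F := F) hnF d
    refine ⟨Bu * C₀ * Bui, ?_, ?_⟩
    · rw [hxu, Matrix.mul_smul, Matrix.smul_mul]
      congr 1
      rw [hu2]
      calc Bu * C₀ * Bui * (Bu * cyc F n * Bui)
          = Bu * (C₀ * (Bui * Bu) * cyc F n) * Bui := by simp only [Matrix.mul_assoc]
        _ = Bu * (cyc F n * (Bui * Bu) * C₀) * Bui := by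
            rw [hBui, Matrix.mul_one, Matrix.mul_one, hC₀]
        _ = _ := by simp only [Matrix.mul_assoc]
    · have : Bu.det * Bui.det = 1 := by rw [← Matrix.det_mul, hBu, Matrix.det_one]
      rw [Matrix.det_mul, Matrix.det_mul, hC₀det, mul_right_comm, this, one_mul]

/-- counting: a matrix of prime order `r` acting without non-zero fixed vectors on an invariant
subspace `W`: the order of `q` modulo `r` divides the dimension of `W` -/
theorem orderOf_dvd_finrank [Fintype F] (r : ℕ) [Fact r.Prime] (u : Matrix (Fin n) (Fin n) F)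
    (hur : u ^ r = 1) (W : Submodule F (Fin n → F)) (hinv : ∀ w ∈ W, u *ᵥ w ∈ W)
    (hfix : ∀ w ∈ W, u *ᵥ w = w → w = 0) :
    orderOf (Fintype.card F : ZMod r) ∣ Module.finrank F W := by
  have hr : r.Prime := Fact.out
  have hr1 : 1 ≤ r := hr.one_le
  have hinv' : ∀ j : ℕ, ∀ w ∈ W, (u ^ j) *ᵥ w ∈ W := by
    intro j
    induction j with
    | zero => intro w hw; simpa using hw
    | succ j ih =>
      intro w hw
      rw [pow_succ, ← Matrix.mulVec_mulVec]
      exact ih _ (hinv w hw)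
  have huu : u * u ^ (r - 1) = 1 := by rw [← pow_succ', Nat.sub_add_cancel hr1, hur]
  have huu' : u ^ (r - 1) * u = 1 := by rw [← pow_succ, Nat.sub_add_cancel hr1, hur]
  let σ : Equiv.Perm ↥W :=
    { toFun := fun w => ⟨u *ᵥ w.1, hinv w.1 w.2⟩
      invFun := fun w => ⟨(u ^ (r - 1)) *ᵥ w.1, hinv' _ w.1 w.2⟩
      left_inv := fun w => by
        apply Subtype.ext
        show (u ^ (r - 1)) *ᵥ (u *ᵥ w.1) = w.1
        rw [Matrix.mulVec_mulVec, huu', Matrix.one_mulVec]
      right_inv := fun w => by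
        apply Subtype.ext
        show u *ᵥ ((u ^ (r - 1)) *ᵥ w.1) = w.1
        rw [Matrix.mulVec_mulVec, huu, Matrix.one_mulVec] }
  have hσpow : ∀ (j : ℕ) (w : ↥W), ((σ ^ j) w : Fin n → F) = (u ^ j) *ᵥ w.1 := by
    intro j
    induction j with
    | zero => intro w; simp
    | succ j ih =>
      intro w
      rw [pow_succ', Equiv.Perm.mul_apply, pow_succ', ← Matrix.mulVec_mulVec, ← ih w]
      rfl
  have hσr : σ ^ r = 1 := by
    ext w
    rw [hσpow, hur, Matrix.one_mulVec]
    rfl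
  have hP : IsPGroup r (Subgroup.zpowers σ) := by
    intro ⟨τ, hτ⟩
    refine ⟨1, ?_⟩
    obtain ⟨k, rfl⟩ := Subgroup.mem_zpowers_iff.1 hτ
    apply Subtype.ext
    show (σ ^ k) ^ r ^ 1 = 1
    rw [pow_one, ← zpow_natCast, ← _root_.zpow_mul, mul_comm, _root_.zpow_mul, zpow_natCast, hσr, _root_.one_zpow]
  have h1 := hP.card_modEq_card_fixedPoints ↥W
  have hfp : Nat.card ↑(MulAction.fixedPoints (Subgroup.zpowers σ) ↥W) = 1 := by
    rw [Nat.card_eq_one_iff_unique]
    constructor
    · constructor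
      rintro ⟨a, ha⟩ ⟨b, hb⟩
      have ha0 : a = 0 := by
        apply Subtype.ext
        apply hfix a.1 a.2
        have := ha ⟨σ, Subgroup.mem_zpowers σ⟩
        exact congrArg Subtype.val this
      have hb0 : b = 0 := by
        apply Subtype.ext
        apply hfix b.1 b.2
        have := hb ⟨σ, Subgroup.mem_zpowers σ⟩
        exact congrArg Subtype.val this
      apply Subtype.ext
      show a = b
      rw [ha0, hb0]
    · refine ⟨⟨0, ?_⟩⟩
      rintro ⟨τ, hτ⟩
      obtain ⟨k, rfl⟩ := Subgroup.mem_zpowers_iff.1 hτ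
      show (σ ^ k) (0 : ↥W) = 0
      have hσ0 : σ 0 = 0 := by
        apply Subtype.ext
        show u *ᵥ (0 : Fin n → F) = 0
        rw [Matrix.mulVec_zero]
      have : ∀ j : ℕ, (σ ^ j) (0 : ↥W) = 0 := by
        intro j
        induction j with
        | zero => rfl
        | succ j ih => rw [pow_succ, Equiv.Perm.mul_apply, hσ0, ih]
      rcases Int.eq_nat_or_neg k with ⟨j, rfl | rfl⟩
      · rw [zpow_natCast]; exact this j
      · rw [_root_.zpow_neg, zpow_natCast, Equiv.Perm.inv_eq_iff_eq, this j]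
  rw [hfp, Module.natCard_eq_pow_finrank (K := F) (V := ↥W), Nat.card_eq_fintype_card] at h1
  apply orderOf_dvd_of_pow_eq_one
  have h2 := (ZMod.natCast_eq_natCast_iff _ _ _).2 h1
  rw [Nat.cast_pow, Nat.cast_one] at h2
  exact h2

end Cfsg.Agent.Lib.H11.Sing
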