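import Cfsg.Agent.Lib.H11.Sing5

/-!
# Field subalgebras of full degree (Singer type), part 6: when `q` is a primitive root modulo
the prime `n`, every matrix of order `n` is similar to the cycle matrix
-/

set_option autoImplicit false
set_option linter.unusedSectionVars false

namespace Cfsg.Agent.Lib.H11.Sing

open Matrix Module Cfsg.Agent.Lib.H11.InvCls

variable {F : Type*} [Field F] {n : ℕ}

theorem sum_mulVec' {ι : Type*} (s : Finset ι) (M : ι → Matrix (Fin n) (Fin n) F)
    (v : Fin n → F) : (∑ j ∈ s, M j) *ᵥ v = ∑ j ∈ s, M j *ᵥ v := by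
  classical
  induction s using Finset.induction_on with
  | empty => simp
  | insert a s ha ih => rw [Finset.sum_insert ha, Finset.sum_insert ha, Matrix.add_mulVec, ih]

theorem pow_mod_of_pow_eq_one (u : Matrix (Fin n) (Fin n) F) (hun : u ^ n = 1) (k : ℕ) :
    u ^ k = u ^ (k % n) := by
  conv_lhs => rw [← Nat.mod_add_div k n]
  rw [pow_add, pow_mul, hun, one_pow, mul_one]

/-- the structure theorem -/
theorem struct_primitive [Fintype F] (hn3 : 3 ≤ n) [Fact n.Prime] (hnF : (n : F) ≠ 0)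
    (hord : orderOf (Fintype.card F : ZMod n) = n - 1) (u : Matrix (Fin n) (Fin n) F)
    (hun : u ^ n = 1) (hu1 : u ≠ 1) :
    ∃ B Bi : Matrix (Fin n) (Fin n) F, B * Bi = 1 ∧ Bi * B = 1 ∧ u * B = B * cyc F n := by
  have hn0 : 0 < n := by omega
  set N : Matrix (Fin n) (Fin n) F := ∑ j ∈ Finset.range n, u ^ j with hN
  have h1 : (u - 1) * N = 0 := by rw [hN, mul_geom_sum, hun, sub_self]
  have h2 : N * (u - 1) = 0 := by rw [hN, geom_sum_mul, hun, sub_self]
  have h1' : u * N = N := by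
    have : u * N - N = 0 := by rw [← h1, Matrix.sub_mul, Matrix.one_mul]
    exact sub_eq_zero.1 this
  have h2' : N * u = N := by
    have : N * u - N = 0 := by rw [← h2, Matrix.mul_sub, Matrix.mul_one]
    exact sub_eq_zero.1 this
  have hfixpow : ∀ x : Fin n → F, u *ᵥ x = x → ∀ j : ℕ, (u ^ j) *ᵥ x = x := by
    intro x hx j
    induction j with
    | zero => simp
    | succ j ih => rw [pow_succ, ← Matrix.mulVec_mulVec, hx, ih]
  have hNfix : ∀ x : Fin n → F, u *ᵥ x = x → N *ᵥ x = (n : F) • x := by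
    intro x hx
    rw [hN, sum_mulVec']
    simp only [hfixpow x hx]
    rw [Finset.sum_const, Finset.card_range, ← Nat.cast_smul_eq_nsmul F]
  set W := LinearMap.ker (Matrix.toLin' N) with hW
  have hWmem : ∀ x, x ∈ W ↔ N *ᵥ x = 0 := by
    intro x
    rw [hW, LinearMap.mem_ker, Matrix.toLin'_apply]
  have hWinv : ∀ w ∈ W, u *ᵥ w ∈ W := by
    intro w hw
    rw [hWmem] at hw ⊢
    rw [Matrix.mulVec_mulVec, h2', hw]
  have hWfix : ∀ w ∈ W, u *ᵥ w = w → w = 0 := by
    intro w hw hfix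
    rw [hWmem, hNfix w hfix] at hw
    rcases smul_eq_zero.1 hw with h | h
    · exact absurd h hnF
    · exact h
  have hdvd := orderOf_dvd_finrank n u hun W hWinv hWfix
  rw [hord] at hdvd
  have hrank := finrank_ker_toLin' N
  rw [← hW] at hrank
  have hWpos : 0 < Module.finrank F W := by
    rw [Nat.pos_iff_ne_zero]
    intro h0
    have hbot : W = ⊥ := Submodule.finrank_eq_zero.1 h0
    apply hu1
    apply Cfsg.Agent.Lib.H11.PSLGraph.mat_ext_mulVec
    intro x
    have : (u - 1) *ᵥ x ∈ W := by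
      rw [hWmem, Matrix.mulVec_mulVec, h2, Matrix.zero_mulVec]
    rw [hbot, Submodule.mem_bot, Matrix.sub_mulVec, sub_eq_zero] at this
    exact this
  have hWdim : Module.finrank F W = n - 1 := by
    obtain ⟨k, hk⟩ := hdvd
    have hk1 : 1 ≤ k := by
      rcases Nat.eq_zero_or_pos k with h | h
      · rw [h, mul_zero] at hk; omega
      · exact h
    have hle : Module.finrank F W ≤ n := by omega
    have hk2 : k < 2 := by
      by_contra h
      push Not at h
      have : (n - 1) * 2 ≤ (n - 1) * k := Nat.mul_le_mul_left _ h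
      omega
    have : k = 1 := by omega
    rw [hk, this, mul_one]
  have hNrank : N.rank = 1 := by omega
  have hN0 : N ≠ 0 := by
    intro h
    rw [h, Matrix.rank_zero] at hNrank
    exact zero_ne_one hNrank
  obtain ⟨vs, hvs⟩ : ∃ vs : Fin n → F, N *ᵥ vs ≠ 0 := by
    by_contra h
    push Not at h
    apply hN0
    apply Cfsg.Agent.Lib.H11.PSLGraph.mat_ext_mulVec
    intro x
    rw [h x, Matrix.zero_mulVec]
  set v₁ := N *ᵥ vs with hv₁
  have hv₁fix : u *ᵥ v₁ = v₁ := by rw [hv₁, Matrix.mulVec_mulVec, h1']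
  obtain ⟨w, hwW, hw0⟩ : ∃ w ∈ W, w ≠ 0 := by
    apply Submodule.exists_mem_ne_zero_of_ne_bot
    intro h
    rw [h, finrank_bot] at hWpos
    exact lt_irrefl _ hWpos
  set v := v₁ + w with hv
  set b : Fin n → (Fin n → F) := fun j => (u ^ (j : ℕ)) *ᵥ v with hb
  set U := Submodule.span F (Set.range b) with hU
  have hbU : ∀ k : ℕ, (u ^ k) *ᵥ v ∈ U := by
    intro k
    rw [pow_mod_of_pow_eq_one u hun k]
    exact Submodule.subset_span ⟨⟨k % n, Nat.mod_lt _ hn0⟩, rfl⟩
  have hUinv : ∀ x ∈ U, u *ᵥ x ∈ U := by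
    intro x hx
    induction hx using Submodule.span_induction with
    | mem y hy =>
      obtain ⟨j, rfl⟩ := hy
      show u *ᵥ ((u ^ (j : ℕ)) *ᵥ v) ∈ U
      rw [Matrix.mulVec_mulVec, ← pow_succ']
      exact hbU _
    | zero => rw [Matrix.mulVec_zero]; exact U.zero_mem
    | add y z _ _ hy hz => rw [Matrix.mulVec_add]; exact U.add_mem hy hz
    | smul c y _ hy => rw [Matrix.mulVec_smul]; exact U.smul_mem c hy
  have hNv : N *ᵥ v = (n : F) • v₁ := by
    rw [hv, Matrix.mulVec_add, hNfix v₁ hv₁fix, (hWmem w).1 hwW, add_zero]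
  have hNvU : N *ᵥ v ∈ U := by
    rw [hN, sum_mulVec']
    exact U.sum_mem fun j _ => hbU j
  have hv₁U : v₁ ∈ U := by
    have : v₁ = (n : F)⁻¹ • (N *ᵥ v) := by
      rw [hNv, smul_smul, inv_mul_cancel₀ hnF, one_smul]
    rw [this]
    exact U.smul_mem _ hNvU
  have hvU : v ∈ U := by
    have := hbU 0
    rwa [pow_zero, Matrix.one_mulVec] at this
  have hwU : w ∈ U := by
    have : w = v - v₁ := by rw [hv]; abel
    rw [this]
    exact U.sub_mem hvU hv₁U
  -- `W ≤ U`
  have hWU : W ≤ U := by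
    have hdvd' := orderOf_dvd_finrank n u hun (U ⊓ W)
      (fun x hx => ⟨hUinv x hx.1, hWinv x hx.2⟩) (fun x hx => hWfix x hx.2)
    rw [hord] at hdvd'
    have hpos' : 0 < Module.finrank F ↥(U ⊓ W) := by
      rw [Nat.pos_iff_ne_zero]
      intro h0
      have hbot : U ⊓ W = ⊥ := Submodule.finrank_eq_zero.1 h0
      have : w ∈ U ⊓ W := ⟨hwU, hwW⟩
      rw [hbot, Submodule.mem_bot] at this
      exact hw0 this
    have hge : n - 1 ≤ Module.finrank F ↥(U ⊓ W) := Nat.le_of_dvd hpos' hdvd'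
    have heq : U ⊓ W = W := Submodule.eq_of_le_of_finrank_le inf_le_right (by rw [hWdim]; exact hge)
    rw [← heq]
    exact inf_le_left
  have hv₁0 : v₁ ≠ 0 := hvs
  have hdisj : W ⊓ Submodule.span F {v₁} = ⊥ := by
    rw [eq_bot_iff]
    rintro x ⟨hx1, hx2⟩
    obtain ⟨c, rfl⟩ := Submodule.mem_span_singleton.1 hx2
    rw [Submodule.mem_bot]
    apply hWfix _ hx1
    rw [Matrix.mulVec_smul, hv₁fix]
  have hT := Submodule.finrank_sup_add_finrank_inf_eq W (Submodule.span F {v₁})
  rw [hdisj, finrank_bot, add_zero, hWdim, finrank_span_singleton hv₁0] at hT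
  have hTle : W ⊔ Submodule.span F {v₁} ≤ U := by
    apply sup_le hWU
    rw [Submodule.span_singleton_le_iff_mem]
    exact hv₁U
  have hTtop : W ⊔ Submodule.span F {v₁} = ⊤ := by
    apply Submodule.eq_top_of_finrank_eq
    rw [hT, Module.finrank_fintype_fun_eq_card, Fintype.card_fin]
    omega
  have hUtop : ⊤ ≤ U := by rw [← hTtop]; exact hTle
  exact conj_cyc_of_cyclic hn0 u hun v hUtop

end Cfsg.Agent.Lib.H11.Sing
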