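import Cfsg.Agent.Lib.H11.Sing6

/-!
# Field subalgebras of full degree (Singer type), part 7: the two directions for a prime
degree `n > 3` (elements of order `n`)
-/

set_option autoImplicit false
set_option linter.unusedSectionVars false

namespace Cfsg.Agent.Lib.H11.Sing

open Matrix Module Cfsg.Agent.Lib.H11.InvCls Cfsg.Agent.Lib.H11.Jordan

variable {F : Type*} [Field F] [Fintype F] {n : ℕ} {K : Subalgebra F (Matrix (Fin n) (Fin n) F)}

theorem natCast_ne_zero_of_ne {p : ℕ} [Fact p.Prime] [CharP F p] [Fact n.Prime] (hnp : n ≠ p) :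
    (n : F) ≠ 0 := by
  intro h
  rw [CharP.cast_eq_zero_iff F p] at h
  exact hnp ((Nat.prime_dvd_prime_iff_eq Fact.out Fact.out).1 h).symm

/-- `q` is a unit modulo `n` -/
theorem card_ne_zero_mod {p : ℕ} [Fact p.Prime] [CharP F p] [Fact n.Prime] (hnp : n ≠ p) :
    (Fintype.card F : ZMod n) ≠ 0 := by
  intro h
  rw [ZMod.natCast_eq_zero_iff] at h
  obtain ⟨f, -, hf⟩ := FiniteField.card F p
  rw [hf] at h
  have := (Fact.out : n.Prime).dvd_of_dvd_pow h
  exact hnp ((Nat.prime_dvd_prime_iff_eq Fact.out Fact.out).1 this)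

/-- sufficiency: `q` a primitive root modulo the prime `n` -/
theorem conj_singer_primitive {p : ℕ} [Fact p.Prime] [CharP F p] [Fact n.Prime] (hn3 : 3 ≤ n)
    (hnp : n ≠ p) (hK : Cfsg.Geo.IsFieldSubalgebra n K)
    (hord : orderOf (Fintype.card F : ZMod n) = n - 1)
    (x : Matrix.SpecialLinearGroup (Fin n) F) (z : F)
    (hx : (x : Matrix (Fin n) (Fin n) F) ^ n = z • (1 : Matrix (Fin n) (Fin n) F))
    (hns : ∀ c : F, (x : Matrix (Fin n) (Fin n) F) ≠ c • (1 : Matrix (Fin n) (Fin n) F)) :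
    ∃ P : Matrix.SpecialLinearGroup (Fin n) F, P⁻¹ * x * P ∈
      (Cfsg.Geo.subalgebraNormalizer K).comap
        (Matrix.SpecialLinearGroup.toGL : Matrix.SpecialLinearGroup (Fin n) F →* GL (Fin n) F) := by
  classical
  have hnF : (n : F) ≠ 0 := natCast_ne_zero_of_ne hnp
  have hne : Nonempty (Fin n) := ⟨⟨0, by omega⟩⟩
  have hz0 : z ≠ 0 := by
    rintro rfl
    have h1 := congrArg Matrix.det hx
    rw [Matrix.det_pow, x.2, zero_smul, Matrix.det_zero, one_pow] at h1
    exact one_ne_zero h1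
  -- `n` is coprime to `q - 1`
  have hcop : (Nat.card Fˣ).Coprime n := by
    rw [Nat.card_eq_fintype_card, Fintype.card_units, Nat.coprime_comm,
      (Fact.out : n.Prime).coprime_iff_not_dvd]
    intro hdvd
    have h1 : (Fintype.card F : ZMod n) = 1 := by
      have hq1 : 1 ≤ Fintype.card F := Fintype.card_pos
      have : Fintype.card F = (Fintype.card F - 1) + 1 := by omega
      rw [this, Nat.cast_add, (ZMod.natCast_eq_zero_iff _ _).2 hdvd, zero_add, Nat.cast_one]
    rw [h1, orderOf_one] at hord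
    omega
  obtain ⟨μu, hμu⟩ := (powCoprime hcop).surjective (Units.mk0 z hz0)
  rw [powCoprime_apply] at hμu
  set μ : F := (μu : F) with hμ
  have hμ0 : μ ≠ 0 := μu.ne_zero
  have hμn : μ ^ n = z := by
    have := congrArg Units.val hμu
    rwa [Units.val_pow_eq_pow_val] at this
  set u : Matrix (Fin n) (Fin n) F := μ⁻¹ • (x : Matrix (Fin n) (Fin n) F) with hu
  have hun : u ^ n = 1 := by
    rw [hu, smul_pow, hx, smul_smul, inv_pow, hμn, inv_mul_cancel₀ hz0, one_smul]
  have hxu : (x : Matrix (Fin n) (Fin n) F) = μ • u := by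
    rw [hu, smul_smul, mul_inv_cancel₀ hμ0, one_smul]
  have hu1 : u ≠ 1 := by
    intro h
    apply hns μ
    rw [hxu, h]
  obtain ⟨Bu, Bui, hBu, -, huB⟩ := struct_primitive hn3 hnF hord u hun hu1
  obtain ⟨g, hg, hgn, hgns⟩ := exists_frobenius (p := p) hK (by omega : 2 ≤ n)
  have hg1 : (g : Matrix (Fin n) (Fin n) F) ≠ 1 := by
    intro h
    apply hgns 1
    rw [h, one_smul]
  obtain ⟨Bg, Bgi, hBg, -, hgB⟩ := struct_primitive hn3 hnF hord _ hgn hg1
  exact conj_of_conj_cyc hnF g hg Bg Bgi hBg hgB x μ hμ0 u hxu Bu Bui hBu huB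

/-- a block matrix with a small non-trivial block of order `n` -/
theorem block_derangement (m : ℕ) (hm : 2 * m < n) (A : Matrix (Fin m) (Fin m) F)
    (hdet : A.det = 1) (hA : A ^ n = 1) (hA1 : A ≠ 1) :
    ∃ x : Matrix.SpecialLinearGroup (Fin n) F, (x : Matrix (Fin n) (Fin n) F) ^ n = 1 ∧
      (∀ c : F, (x : Matrix (Fin n) (Fin n) F) ≠ c • (1 : Matrix (Fin n) (Fin n) F)) ∧
      2 * ((x : Matrix (Fin n) (Fin n) F) - (1 : F) • (1 : Matrix (Fin n) (Fin n) F)).rank < n := by
  set m' := n - m with hm'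
  let e : Fin n ≃ Fin m ⊕ Fin m' :=
    (finCongr (by omega)).trans (finSumFinEquiv (m := m) (n := m')).symm
  set X₀ : Matrix (Fin m ⊕ Fin m') (Fin m ⊕ Fin m') F := Matrix.fromBlocks A 0 0 1 with hX₀
  have hdetX : (X₀.submatrix e e).det = 1 := by
    rw [Matrix.det_submatrix_equiv_self, hX₀, Matrix.det_fromBlocks_zero₂₁, hdet, Matrix.det_one,
      mul_one]
  obtain ⟨x, hxdef⟩ : ∃ x : Matrix.SpecialLinearGroup (Fin n) F,
      (x : Matrix (Fin n) (Fin n) F) = X₀.submatrix e e := ⟨⟨_, hdetX⟩, rfl⟩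
  have hpow : ∀ k : ℕ, (X₀.submatrix e e) ^ k = (X₀ ^ k).submatrix e e := by
    intro k
    induction k with
    | zero => rw [pow_zero, pow_zero, Matrix.submatrix_one_equiv]
    | succ k ih => rw [pow_succ, ih, pow_succ, Matrix.submatrix_mul_equiv]
  have hm'0 : 0 < m' := by omega
  refine ⟨x, ?_, ?_, ?_⟩
  · rw [hxdef, hpow, hX₀, Matrix.fromBlocks_diagonal_pow, hA, one_pow, Matrix.fromBlocks_one,
      Matrix.submatrix_one_equiv]
  · intro c hc
    rw [hxdef] at hc
    have h1 := congrFun (congrFun hc (e.symm (Sum.inr ⟨0, hm'0⟩))) (e.symm (Sum.inr ⟨0, hm'0⟩))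
    simp [hX₀] at h1
    apply hA1
    ext i j
    have h2 := congrFun (congrFun hc (e.symm (Sum.inl i))) (e.symm (Sum.inl j))
    simp [hX₀, ← h1, Matrix.one_apply] at h2
    rw [h2, Matrix.one_apply]
  · rw [hxdef, one_smul]
    have h1 : X₀.submatrix e e - 1 = (Matrix.fromBlocks (A - 1) 0 0 0 :
        Matrix (Fin m ⊕ Fin m') (Fin m ⊕ Fin m') F).submatrix e e := by
      have h0 : X₀ - 1 = Matrix.fromBlocks (A - 1) 0 0 0 := by
        rw [hX₀]
        ext a b
        rcases a with a | a <;> rcases b with b | b <;>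
          simp [Matrix.sub_apply, Matrix.one_apply]
      rw [← h0]
      ext a b
      simp [Matrix.submatrix_apply, Matrix.sub_apply, Matrix.one_apply]
    rw [h1, Matrix.rank_submatrix, rank_fromBlocks_diag, Matrix.rank_zero, add_zero]
    have := Matrix.rank_le_card_width (A - 1)
    rw [Fintype.card_fin] at this
    omega

/-- necessity: if `q` is not a primitive root modulo `n` there is a derangement of order `n` -/
theorem exists_derangement_singer {p : ℕ} [Fact p.Prime] [CharP F p] [Fact n.Prime] (hn5 : 5 ≤ n)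
    (hnp : n ≠ p) (hord : orderOf (Fintype.card F : ZMod n) ≠ n - 1) :
    ∃ x : Matrix.SpecialLinearGroup (Fin n) F, (x : Matrix (Fin n) (Fin n) F) ^ n = 1 ∧
      (∀ c : F, (x : Matrix (Fin n) (Fin n) F) ≠ c • (1 : Matrix (Fin n) (Fin n) F)) ∧
      2 * ((x : Matrix (Fin n) (Fin n) F) - (1 : F) • (1 : Matrix (Fin n) (Fin n) F)).rank < n := by
  classical
  set q := Fintype.card F with hq
  set i := orderOf (q : ZMod n) with hi
  have hq0 : (q : ZMod n) ≠ 0 := card_ne_zero_mod hnp
  have hpow1 : (q : ZMod n) ^ (n - 1) = 1 := ZMod.pow_card_sub_one_eq_one hq0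
  have hidvd : i ∣ n - 1 := orderOf_dvd_of_pow_eq_one hpow1
  have hipos : 0 < i := Nat.pos_of_dvd_of_pos hidvd (by omega)
  have hi2 : 2 * i ≤ n - 1 := by
    obtain ⟨k, hk⟩ := hidvd
    have hk2 : 2 ≤ k := by
      by_contra h
      push Not at h
      interval_cases k
      · omega
      · apply hord; rw [hk, mul_one]
    calc 2 * i ≤ k * i := Nat.mul_le_mul_right _ hk2
      _ = n - 1 := by rw [hk, mul_comm]
  have hqi : n ∣ q ^ i - 1 := by
    have h1 : (q : ZMod n) ^ i = 1 := pow_orderOf_eq_one _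
    have hq1 : 1 ≤ q ^ i := Nat.one_le_pow _ _ Fintype.card_pos
    rw [← ZMod.natCast_eq_zero_iff, Nat.cast_sub hq1, Nat.cast_pow, h1, Nat.cast_one, sub_self]
  by_cases hi1 : i = 1
  · -- `n ∣ q - 1`
    rw [hi1, pow_one] at hqi
    have hcard : n ∣ Nat.card Fˣ := by
      rw [Nat.card_eq_fintype_card, Fintype.card_units]
      exact hqi
    obtain ⟨ω, hω⟩ := exists_prime_orderOf_dvd_card' n hcard
    have hωn : (ω : F) ^ n = 1 := by
      rw [← Units.val_pow_eq_pow_val, ← hω, pow_orderOf_eq_one, Units.val_one]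
    have hω1 : (ω : F) ≠ 1 := by
      intro h
      have : ω = 1 := Units.ext h
      rw [this, orderOf_one] at hω
      omega
    apply block_derangement 2 (by omega) (Matrix.diagonal ![(ω : F), (ω : F)⁻¹])
    · rw [Matrix.det_diagonal, Fin.prod_univ_two]
      simp
    · rw [Matrix.diagonal_pow, ← Matrix.diagonal_one]
      congr 1
      funext k
      fin_cases k
      · simpa using hωn
      · simp [hωn]
    · intro h
      have := congrFun (congrFun h 0) 0
      simp at this
      exact hω1 (congrArg Units.val this)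
  · have hi2' : 2 ≤ i := by omega
    have hcard : n ∣ Nat.card (GL (Fin i) F) := by
      rw [Matrix.card_GL_field]
      apply dvd_trans _ (Finset.dvd_prod_of_mem _ (Finset.mem_univ (⟨0, hipos⟩ : Fin i)))
      simpa using hqi
    obtain ⟨A, hA⟩ := exists_prime_orderOf_dvd_card' n hcard
    have hAn : (A : Matrix (Fin i) (Fin i) F) ^ n = 1 := by
      rw [← Units.val_pow_eq_pow_val, ← hA, pow_orderOf_eq_one, Units.val_one]
    have hA1 : (A : Matrix (Fin i) (Fin i) F) ≠ 1 := by
      intro h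
      have : A = 1 := Units.ext h
      rw [this, orderOf_one] at hA
      omega
    have hdet : (A : Matrix (Fin i) (Fin i) F).det = 1 := by
      set δ := (A : Matrix (Fin i) (Fin i) F).det with hδ
      have hδ0 : δ ≠ 0 := ((Matrix.isUnit_iff_isUnit_det _).1 A.isUnit).ne_zero
      have h1 : δ ^ n = 1 := by rw [hδ, ← Matrix.det_pow, hAn, Matrix.det_one]
      have h2 : δ ^ (q - 1) = 1 := FiniteField.pow_card_sub_one_eq_one δ hδ0
      have hndvd : ¬ n ∣ q - 1 := by
        intro hdvd
        have h3 : (q : ZMod n) ^ 1 = 1 := by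
          have hq1 : 1 ≤ q := Fintype.card_pos
          have : q = (q - 1) + 1 := by omega
          rw [pow_one, this, Nat.cast_add, (ZMod.natCast_eq_zero_iff _ _).2 hdvd, zero_add,
            Nat.cast_one]
        have := orderOf_dvd_of_pow_eq_one h3
        rw [← hi, Nat.dvd_one] at this
        exact hi1 this
      have hg : Nat.gcd n (q - 1) = 1 :=
        ((Fact.out : n.Prime).coprime_iff_not_dvd).2 hndvd
      have := pow_gcd_eq_one.2 ⟨h1, h2⟩
      rwa [hg, pow_one] at this
    exact block_derangement i (by omega) _ hdet hAn hA1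

end Cfsg.Agent.Lib.H11.Sing
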