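import Cfsg.Agent.Lib.H11.Sing7
import Mathlib.LinearAlgebra.Matrix.Charpoly.Coeff
import Mathlib.LinearAlgebra.Eigenspace.Basic

/-!
# Field subalgebras of full degree (Singer type), part 8: degree three
-/

set_option autoImplicit false
set_option linter.unusedSectionVars false

namespace Cfsg.Agent.Lib.H11.Sing

open Matrix Module Cfsg.Agent.Lib.H11.InvCls

variable {F : Type*} [Field F]

/-- Cayley–Hamilton in degree three, with the evaluation of the characteristic polynomial -/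
theorem charpoly_three (x : Matrix (Fin 3) (Fin 3) F) :
    ∃ c₁ c₂ : F, x ^ 3 + c₂ • x ^ 2 + c₁ • x - x.det • (1 : Matrix (Fin 3) (Fin 3) F) = 0 ∧
      ∀ t : F, (t • (1 : Matrix (Fin 3) (Fin 3) F) - x).det =
        t ^ 3 + c₂ * t ^ 2 + c₁ * t - x.det := by
  set P := x.charpoly with hP
  have hdeg : P.natDegree = 3 := by
    rw [hP, Matrix.charpoly_natDegree_eq_dim, Fintype.card_fin]
  have hmonic : P.coeff 3 = 1 := by
    have := (Matrix.charpoly_monic x).coeff_natDegree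
    rwa [← hP, hdeg] at this
  have h0 : P.coeff 0 = - x.det := by
    have := Matrix.det_eq_sign_charpoly_coeff x
    rw [Fintype.card_fin] at this
    rw [this, ← hP]
    ring
  refine ⟨P.coeff 1, P.coeff 2, ?_, ?_⟩
  · have := Matrix.aeval_self_charpoly x
    rw [← hP, Polynomial.aeval_eq_sum_range, hdeg] at this
    simp only [Finset.sum_range_succ, Finset.sum_range_zero, hmonic, h0, zero_add, pow_zero,
      pow_one, one_smul] at this
    rw [← this, neg_smul]
    abel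
  · intro t
    have := Matrix.eval_charpoly x t
    rw [← hP, Polynomial.eval_eq_sum_range, hdeg] at this
    simp only [Finset.sum_range_succ, Finset.sum_range_zero, hmonic, h0, zero_add, pow_zero,
      pow_one, one_mul, mul_one] at this
    have h2 : (Matrix.scalar (Fin 3)) t = t • (1 : Matrix (Fin 3) (Fin 3) F) := by
      rw [Matrix.scalar_apply, Matrix.smul_one_eq_diagonal]
    rw [← h2, ← this]
    ring

/-- a non-scalar `3 × 3` matrix of determinant one with scalar cube `z`: `z` is a cube, and if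
`z = 1` the characteristic polynomial is `t³ - 1` -/
theorem cube_char (x : Matrix (Fin 3) (Fin 3) F) (hdet : x.det = 1) (z : F)
    (hx : x ^ 3 = z • (1 : Matrix (Fin 3) (Fin 3) F))
    (hns : ∀ c : F, x ≠ c • (1 : Matrix (Fin 3) (Fin 3) F)) :
    (∃ a : F, z = a ^ 3) ∧
      (z = 1 → ∀ t : F, (t • (1 : Matrix (Fin 3) (Fin 3) F) - x).det = t ^ 3 - 1) := by
  obtain ⟨c₁, c₂, hCH, hev⟩ := charpoly_three x
  rw [hdet, hx, one_smul] at hCH
  have h10 : (1 : Matrix (Fin 3) (Fin 3) F) ≠ 0 := one_ne_zero_mat (F := F) (by norm_num)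
  have hscal : ∀ a b : F, a • x = b • (1 : Matrix (Fin 3) (Fin 3) F) → a = 0 := by
    intro a b h
    by_contra ha
    apply hns (a⁻¹ * b)
    rw [← smul_smul, ← h, smul_smul, inv_mul_cancel₀ ha, one_smul]
  have hscal0 : ∀ b : F, b • (1 : Matrix (Fin 3) (Fin 3) F) = 0 → b = 0 := by
    intro b h
    rcases smul_eq_zero.1 h with h | h
    · exact h
    · exact absurd h h10
  by_cases hc₂ : c₂ = 0
  · rw [hc₂, zero_smul, add_zero] at hCH
    have h1 : c₁ • x = (1 - z) • (1 : Matrix (Fin 3) (Fin 3) F) := by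
      rw [sub_smul, one_smul]
      rw [← sub_eq_zero, ← hCH]
      abel
    have hc₁ : c₁ = 0 := hscal _ _ h1
    rw [hc₁, zero_smul] at h1
    have hz : z = 1 := by
      have := hscal0 _ h1.symm
      exact (sub_eq_zero.1 this).symm
    refine ⟨⟨1, by rw [hz, one_pow]⟩, fun _ t => ?_⟩
    rw [hev t, hc₂, hc₁, hdet]
    ring
  · -- `x² = a x + b`
    set a : F := - c₁ / c₂ with ha
    set b : F := (1 - z) / c₂ with hb
    have hsq : x ^ 2 = a • x + b • (1 : Matrix (Fin 3) (Fin 3) F) := by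
      have h1 : c₂ • x ^ 2 = (- c₁) • x + (1 - z) • (1 : Matrix (Fin 3) (Fin 3) F) := by
        rw [sub_smul, neg_smul, one_smul]
        rw [← sub_eq_zero, ← hCH]
        abel
      rw [ha, hb, div_eq_inv_mul, div_eq_inv_mul, ← smul_smul, ← smul_smul, ← smul_add, ← h1,
        smul_smul, inv_mul_cancel₀ hc₂, one_smul]
    have hcube : x ^ 3 = (a ^ 2 + b) • x + (a * b) • (1 : Matrix (Fin 3) (Fin 3) F) := by
      rw [pow_succ, hsq, Matrix.add_mul, Matrix.smul_mul, Matrix.smul_mul, Matrix.one_mul,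
        ← pow_two, hsq, smul_add, smul_smul, smul_smul, add_smul, pow_two]
      abel
    rw [hx] at hcube
    have h2 : (a ^ 2 + b) • x = (z - a * b) • (1 : Matrix (Fin 3) (Fin 3) F) := by
      rw [sub_smul, hcube]
      abel
    have h3 : a ^ 2 + b = 0 := hscal _ _ h2
    rw [h3, zero_smul] at h2
    have h4 : z = a * b := sub_eq_zero.1 (hscal0 _ h2.symm)
    have h5 : b = - a ^ 2 := by linear_combination h3
    refine ⟨⟨-a, by rw [h4, h5]; ring⟩, fun hz => ?_⟩
    exfalso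
    have hb0 : b = 0 := by rw [hb, hz, sub_self, zero_div]
    have ha0 : a = 0 := by
      have : a ^ 2 = 0 := by rw [h5] at hb0; linear_combination -hb0
      exact pow_eq_zero_iff (two_ne_zero) |>.1 this
    rw [h4, ha0, zero_mul] at hz
    exact zero_ne_one hz

/-- an eigenvector from a vanishing determinant -/
theorem exists_eigenvector_of_det {n : ℕ} (x : Matrix (Fin n) (Fin n) F) (α : F)
    (h : (α • (1 : Matrix (Fin n) (Fin n) F) - x).det = 0) :
    ∃ v : Fin n → F, v ≠ 0 ∧ x *ᵥ v = α • v := by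
  obtain ⟨v, hv0, hv⟩ := Matrix.exists_mulVec_eq_zero_iff.2 h
  refine ⟨v, hv0, ?_⟩
  rw [Matrix.sub_mulVec, Matrix.smul_mulVec, Matrix.one_mulVec, sub_eq_zero] at hv
  exact hv.symm

/-- a matrix of order three with all three cube roots of unity as eigenvalues is similar to the
cycle matrix -/
theorem struct_split (ω : F) (hω : ω ^ 2 + ω + 1 = 0) (h3 : (3 : F) ≠ 0)
    (u : Matrix (Fin 3) (Fin 3) F) (hu : u ^ 3 = 1) (v₀ v₁ v₂ : Fin 3 → F)
    (h₀ : v₀ ≠ 0) (h₁ : v₁ ≠ 0) (h₂ : v₂ ≠ 0) (e₀ : u *ᵥ v₀ = v₀) (e₁ : u *ᵥ v₁ = ω • v₁)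
    (e₂ : u *ᵥ v₂ = ω ^ 2 • v₂) :
    ∃ B Bi : Matrix (Fin 3) (Fin 3) F, B * Bi = 1 ∧ Bi * B = 1 ∧ u * B = B * cyc F 3 := by
  have hω3 : ω ^ 3 = 1 := by linear_combination (ω - 1) * hω
  have hω1 : ω ≠ 1 := by
    intro h
    rw [h] at hω
    apply h3
    linear_combination hω
  have hω21 : ω ^ 2 ≠ 1 := by
    intro h
    apply hω1
    have : ω ^ 3 = ω := by rw [pow_succ, h, one_mul]
    rw [← this, hω3]
  have hω2ω : ω ^ 2 ≠ ω := by
    intro h
    apply hω1
    have : ω ^ 3 = ω := by rw [pow_succ, h, ← pow_two, h]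
    exact this.symm.trans hω3
  set v := v₀ + v₁ + v₂ with hv
  have huv : u *ᵥ v = v₀ + ω • v₁ + ω ^ 2 • v₂ := by
    rw [hv, Matrix.mulVec_add, Matrix.mulVec_add, e₀, e₁, e₂]
  have hu2v : (u ^ 2) *ᵥ v = v₀ + ω ^ 2 • v₁ + ω • v₂ := by
    rw [pow_two, ← Matrix.mulVec_mulVec, huv, Matrix.mulVec_add, Matrix.mulVec_add,
      Matrix.mulVec_smul, Matrix.mulVec_smul, e₀, e₁, e₂, smul_smul, smul_smul, ← pow_two]
    have : ω ^ 2 * ω ^ 2 = ω := by
      calc ω ^ 2 * ω ^ 2 = ω ^ 3 * ω := by ring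
        _ = ω := by rw [hω3, one_mul]
    rw [this]
  set U := Submodule.span F (Set.range fun j : Fin 3 => (u ^ (j : ℕ)) *ᵥ v) with hU
  have hb0 : v ∈ U := by
    have : (u ^ ((0 : Fin 3) : ℕ)) *ᵥ v ∈ U := Submodule.subset_span ⟨0, rfl⟩
    simpa using this
  have hb1 : u *ᵥ v ∈ U := by
    have : (u ^ ((1 : Fin 3) : ℕ)) *ᵥ v ∈ U := Submodule.subset_span ⟨1, rfl⟩
    simpa using this
  have hb2 : (u ^ 2) *ᵥ v ∈ U := by
    have : (u ^ ((2 : Fin 3) : ℕ)) *ᵥ v ∈ U := Submodule.subset_span ⟨2, rfl⟩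
    simpa using this
  have hv₀U : v₀ ∈ U := by
    have h : (3 : F) • v₀ = v + u *ᵥ v + (u ^ 2) *ᵥ v := by
      rw [huv, hu2v, hv]
      ext i
      simp only [Pi.add_apply, Pi.smul_apply, smul_eq_mul]
      linear_combination (-(v₁ i) - v₂ i) * hω
    have : v₀ = (3 : F)⁻¹ • (v + u *ᵥ v + (u ^ 2) *ᵥ v) := by
      rw [← h, smul_smul, inv_mul_cancel₀ h3, one_smul]
    rw [this]
    exact U.smul_mem _ (U.add_mem (U.add_mem hb0 hb1) hb2)
  have hv₁U : v₁ ∈ U := by
    have h : (3 : F) • v₁ = v + ω ^ 2 • (u *ᵥ v) + ω • ((u ^ 2) *ᵥ v) := by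
      rw [huv, hu2v, hv]
      ext i
      simp only [Pi.add_apply, Pi.smul_apply, smul_eq_mul]
      linear_combination (-(v₀ i) - 2 * (ω - 1) * v₁ i - (ω ^ 2 - ω + 1) * v₂ i) * hω
    have : v₁ = (3 : F)⁻¹ • (v + ω ^ 2 • (u *ᵥ v) + ω • ((u ^ 2) *ᵥ v)) := by
      rw [← h, smul_smul, inv_mul_cancel₀ h3, one_smul]
    rw [this]
    exact U.smul_mem _ (U.add_mem (U.add_mem hb0 (U.smul_mem _ hb1)) (U.smul_mem _ hb2))
  have hv₂U : v₂ ∈ U := by
    have h : (3 : F) • v₂ = v + ω • (u *ᵥ v) + ω ^ 2 • ((u ^ 2) *ᵥ v) := by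
      rw [huv, hu2v, hv]
      ext i
      simp only [Pi.add_apply, Pi.smul_apply, smul_eq_mul]
      linear_combination (-(v₀ i) - (ω ^ 2 - ω + 1) * v₁ i - 2 * (ω - 1) * v₂ i) * hω
    have : v₂ = (3 : F)⁻¹ • (v + ω • (u *ᵥ v) + ω ^ 2 • ((u ^ 2) *ᵥ v)) := by
      rw [← h, smul_smul, inv_mul_cancel₀ h3, one_smul]
    rw [this]
    exact U.smul_mem _ (U.add_mem (U.add_mem hb0 (U.smul_mem _ hb1)) (U.smul_mem _ hb2))
  -- independence of the eigenvectors
  have hli : LinearIndependent F ![v₀, v₁, v₂] := by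
    apply Module.End.eigenvectors_linearIndependent' (Matrix.toLin' u) ![1, ω, ω ^ 2]
    · intro i j hij
      fin_cases i <;> fin_cases j
      · rfl
      · exact absurd (show (1 : F) = ω from hij).symm hω1
      · exact absurd (show (1 : F) = ω ^ 2 from hij).symm hω21
      · exact absurd (show ω = 1 from hij) hω1
      · rfl
      · exact absurd (show ω = ω ^ 2 from hij).symm hω2ω
      · exact absurd (show ω ^ 2 = 1 from hij) hω21
      · exact absurd (show ω ^ 2 = ω from hij) hω2ω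
      · rfl
    · intro i
      rw [Module.End.hasEigenvector_iff, Module.End.mem_eigenspace_iff, Matrix.toLin'_apply]
      fin_cases i
      · simpa using ⟨e₀, h₀⟩
      · simpa using ⟨e₁, h₁⟩
      · simpa using ⟨e₂, h₂⟩
  have htop : Submodule.span F (Set.range ![v₀, v₁, v₂]) = ⊤ := by
    apply hli.span_eq_top_of_card_eq_finrank'
    rw [Module.finrank_fintype_fun_eq_card]
  have hUtop : ⊤ ≤ U := by
    rw [← htop, Submodule.span_le]
    rintro _ ⟨i, rfl⟩
    fin_cases i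
    · exact hv₀U
    · exact hv₁U
    · exact hv₂U
  exact conj_cyc_of_cyclic (by norm_num) u hu v hUtop

/-- an element of order three all of whose translates by scalars have rank at least two has every
cube root of unity as an eigenvalue -/
theorem exists_eigenvector_of_rank (ω : F) (hω : ω ^ 2 + ω + 1 = 0)
    (u : Matrix (Fin 3) (Fin 3) F) (hu : u ^ 3 = 1)
    (hr : ∀ c : F, 3 ≤ 2 * (u - c • (1 : Matrix (Fin 3) (Fin 3) F)).rank) (α : F)
    (hα : α ^ 3 = 1) : ∃ v : Fin 3 → F, v ≠ 0 ∧ u *ᵥ v = α • v := by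
  set e : Matrix (Fin 3) (Fin 3) F := 1 + α ^ 2 • u + α • u ^ 2 with he
  have hue : u * e = α • e := by
    have e1 : α * α ^ 2 = 1 := by rw [← pow_succ', hα]
    have e2 : α * α = α ^ 2 := (pow_two α).symm
    rw [he, Matrix.mul_add, Matrix.mul_add, Matrix.mul_one, Matrix.mul_smul, Matrix.mul_smul,
      ← pow_two, ← pow_succ', hu, smul_add, smul_add, smul_smul, smul_smul, e1, e2, one_smul]
    abel
  by_cases he0 : e = 0
  · exfalso
    have hprod : (u - (α * ω) • (1 : Matrix (Fin 3) (Fin 3) F)) *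
        (u - (α * ω ^ 2) • (1 : Matrix (Fin 3) (Fin 3) F)) = 0 := by
      have h1 : (u - (α * ω) • (1 : Matrix (Fin 3) (Fin 3) F)) *
          (u - (α * ω ^ 2) • (1 : Matrix (Fin 3) (Fin 3) F)) = α ^ 2 • e := by
        rw [he, Matrix.sub_mul, Matrix.mul_sub, Matrix.mul_sub, Matrix.smul_mul, Matrix.smul_mul,
          Matrix.mul_smul, Matrix.mul_smul, Matrix.one_mul, Matrix.mul_one, Matrix.mul_one,
          smul_smul, ← pow_two, smul_add, smul_add, smul_smul, smul_smul]
        have e1 : α ^ 2 * α ^ 2 = α := by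
          calc α ^ 2 * α ^ 2 = α ^ 3 * α := by ring
            _ = α := by rw [hα, one_mul]
        have e2 : α ^ 2 * α = 1 := by rw [← pow_succ, hα]
        have e3 : α * ω * (α * ω ^ 2) = α ^ 2 := by
          have hω3 : ω ^ 3 = 1 := by linear_combination (ω - 1) * hω
          calc α * ω * (α * ω ^ 2) = α ^ 2 * ω ^ 3 := by ring
            _ = α ^ 2 := by rw [hω3, mul_one]
        have e4 : α * ω ^ 2 + α * ω = - α := by linear_combination α * hω
        rw [e1, e2, e3, one_smul]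
        have : u ^ 2 - (α * ω ^ 2) • u - ((α * ω) • u - α ^ 2 • (1 : Matrix (Fin 3) (Fin 3) F)) =
            u ^ 2 - (α * ω ^ 2 + α * ω) • u + α ^ 2 • (1 : Matrix (Fin 3) (Fin 3) F) := by
          rw [add_smul]
          abel
        rw [this, e4, neg_smul]
        abel
      rw [h1, he0, smul_zero]
    have h2 := Matrix.rank_add_rank_le_card_of_mul_eq_zero hprod
    rw [Fintype.card_fin] at h2
    have h3 := hr (α * ω)
    have h4 := hr (α * ω ^ 2)
    omega
  · obtain ⟨vs, hvs⟩ : ∃ vs : Fin 3 → F, e *ᵥ vs ≠ 0 := by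
      by_contra h
      push Not at h
      apply he0
      apply Cfsg.Agent.Lib.H11.PSLGraph.mat_ext_mulVec
      intro x
      rw [h x, Matrix.zero_mulVec]
    refine ⟨e *ᵥ vs, hvs, ?_⟩
    rw [Matrix.mulVec_mulVec, hue, Matrix.smul_mulVec]

end Cfsg.Agent.Lib.H11.Sing
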