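import Cfsg.Agent.Lib.H11.Sing8
import Cfsg.Agent.Lib.H12.CardSL

/-!
# Field subalgebras of full degree (Singer type), part 9: degree three, the case analysis
-/

set_option autoImplicit false
set_option linter.unusedSectionVars false

namespace Cfsg.Agent.Lib.H11.Sing

open Matrix Module Cfsg.Agent.Lib.H11.InvCls

variable {F : Type*} [Field F]

/-- a transvection is a derangement of order three in characteristic three -/
theorem exists_derangement_char_three [CharP F 3] :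
    ∃ x : Matrix.SpecialLinearGroup (Fin 3) F, (x : Matrix (Fin 3) (Fin 3) F) ^ 3 = 1 ∧
      (∀ c : F, (x : Matrix (Fin 3) (Fin 3) F) ≠ c • (1 : Matrix (Fin 3) (Fin 3) F)) ∧
      2 * ((x : Matrix (Fin 3) (Fin 3) F) - (1 : F) • (1 : Matrix (Fin 3) (Fin 3) F)).rank < 3 := by
  set N : Matrix (Fin 3) (Fin 3) F := Matrix.vecMulVec ![1, 0, 0] ![0, 1, 0] with hN
  have hNN : N * N = 0 := by
    ext i j
    fin_cases i <;> fin_cases j <;>
      simp [hN, Matrix.mul_apply, Fin.sum_univ_three]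
  have hdet : (1 + N).det = 1 := by
    rw [Matrix.det_fin_three]
    simp [hN]
  obtain ⟨x, hxdef⟩ : ∃ x : Matrix.SpecialLinearGroup (Fin 3) F,
      (x : Matrix (Fin 3) (Fin 3) F) = 1 + N := ⟨⟨_, hdet⟩, rfl⟩
  refine ⟨x, ?_, ?_, ?_⟩
  · rw [hxdef]
    have h1 : (1 + N) ^ 3 = 1 + (N + N + N) := by
      rw [pow_succ, pow_two]
      have h2 : (1 + N) * (1 + N) = 1 + (N + N) := by
        rw [Matrix.add_mul, Matrix.mul_add, Matrix.mul_add, hNN, Matrix.one_mul, Matrix.one_mul,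
          Matrix.mul_one, add_zero]
        abel
      have hN2 : (N + N) * N = 0 := by rw [Matrix.add_mul, hNN, add_zero]
      rw [h2, Matrix.add_mul, Matrix.one_mul, Matrix.mul_add, Matrix.mul_one, hN2, add_zero]
      abel
    have h3 : N + N + N = 0 := by
      have : N + N + N = (3 : F) • N := by
        rw [show (3 : F) = 1 + 1 + 1 by norm_num, add_smul, add_smul, one_smul]
      rw [this]
      have h30 : (3 : F) = 0 := by
        have := CharP.cast_eq_zero F 3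
        exact_mod_cast this
      rw [h30, zero_smul]
    rw [h1, h3, add_zero]
  · intro c hc
    rw [hxdef] at hc
    have := congrFun (congrFun hc 0) 1
    simp [hN] at this
  · rw [hxdef, one_smul, add_sub_cancel_left]
    have := Matrix.rank_vecMulVec_le (R := F) ![(1 : F), 0, 0] ![(0 : F), 1, 0]
    rw [← hN] at this
    omega

/-- a derangement of order three when `F` has an element of order nine -/
theorem exists_derangement_nine (s : F) (hs9 : s ^ 9 = 1) (hs3 : s ^ 3 ≠ 1) :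
    ∃ x : Matrix.SpecialLinearGroup (Fin 3) F,
      (∃ z : F, (x : Matrix (Fin 3) (Fin 3) F) ^ 3 = z • (1 : Matrix (Fin 3) (Fin 3) F)) ∧
      (∀ c : F, (x : Matrix (Fin 3) (Fin 3) F) ≠ c • (1 : Matrix (Fin 3) (Fin 3) F)) ∧
      2 * ((x : Matrix (Fin 3) (Fin 3) F) - (s⁻¹ : F) • (1 : Matrix (Fin 3) (Fin 3) F)).rank < 3 := by
  have hs0 : s ≠ 0 := by
    rintro rfl
    rw [zero_pow (by norm_num)] at hs9
    exact zero_ne_one hs9
  have hdet : (Matrix.diagonal ![s⁻¹, s⁻¹, s ^ 2] : Matrix (Fin 3) (Fin 3) F).det = 1 := by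
    rw [Matrix.det_diagonal, Fin.prod_univ_three]
    simp only [Matrix.cons_val_zero, Matrix.cons_val_one, Matrix.cons_val]
    field_simp
  obtain ⟨x, hxdef⟩ : ∃ x : Matrix.SpecialLinearGroup (Fin 3) F,
      (x : Matrix (Fin 3) (Fin 3) F) = Matrix.diagonal ![s⁻¹, s⁻¹, s ^ 2] := ⟨⟨_, hdet⟩, rfl⟩
  have h6 : (s ^ 2) ^ 3 = (s⁻¹) ^ 3 := by
    have : s ^ 3 * (s ^ 2) ^ 3 = 1 := by rw [← hs9]; ring
    rw [inv_pow]
    exact eq_inv_of_mul_eq_one_right this
  refine ⟨x, ⟨(s⁻¹) ^ 3, ?_⟩, ?_, ?_⟩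
  · rw [hxdef, Matrix.diagonal_pow, Matrix.smul_one_eq_diagonal]
    congr 1
    funext i
    fin_cases i
    · simp
    · simp
    · simpa using h6
  · intro c hc
    rw [hxdef] at hc
    have h0 := congrFun (congrFun hc 0) 0
    have h2 := congrFun (congrFun hc 2) 2
    simp at h0 h2
    apply hs3
    have : s ^ 2 = s⁻¹ := by rw [h2, ← h0]
    calc s ^ 3 = s ^ 2 * s := by ring
      _ = 1 := by rw [this, inv_mul_cancel₀ hs0]
  · rw [hxdef]
    have h1 : (Matrix.diagonal ![s⁻¹, s⁻¹, s ^ 2] : Matrix (Fin 3) (Fin 3) F) -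
        (s⁻¹ : F) • (1 : Matrix (Fin 3) (Fin 3) F) =
        Matrix.vecMulVec ![0, 0, s ^ 2 - s⁻¹] ![0, 0, 1] := by
      ext i j
      fin_cases i <;> fin_cases j <;> simp [Matrix.vecMulVec_apply]
    rw [h1]
    have := Matrix.rank_vecMulVec_le (R := F) ![(0 : F), 0, s ^ 2 - s⁻¹] ![(0 : F), 0, 1]
    omega

/-- a subgroup of index divisible by three containing an element of order three: nine divides
the order of the group -/
theorem nine_dvd_card {G : Type*} [Group G] [Finite G] (H : Subgroup G) (h : G) (hh : h ∈ H)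
    (h3 : h ^ 3 = 1) (h1 : h ≠ 1) (hΩ : 3 ∣ H.index) : 9 ∣ Nat.card G := by
  have hord : orderOf h = 3 := orderOf_eq_prime h3 h1
  have hH : 3 ∣ Nat.card H := by
    have : orderOf (⟨h, hh⟩ : H) = 3 := by
      rw [← hord]
      exact Subgroup.orderOf_mk h hh
    rw [← this]
    exact orderOf_dvd_natCard _
  rw [← Subgroup.card_mul_index H]
  exact Nat.mul_dvd_mul hH hΩ

/-- `|SL₃(q)|` is not divisible by nine when `q ≡ 2, 5 (mod 9)` -/
theorem not_nine_dvd_card_SL [Fintype F] (hq : Fintype.card F % 9 = 2 ∨ Fintype.card F % 9 = 5) :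
    ¬ 9 ∣ Nat.card (Matrix.SpecialLinearGroup (Fin 3) F) := by
  intro hdvd
  have h := Cfsg.Agent.Lib.H12.card_SL_mul (F := F) 3 (by norm_num)
  rw [Fin.prod_univ_three] at h
  simp only [Fin.val_zero, Fin.val_one, Fin.val_two, pow_zero, pow_one] at h
  set q := Fintype.card F with hqdef
  have hq1 : 1 ≤ q := Fintype.card_pos
  have h9 : 9 ∣ (q ^ 3 - 1) * (q ^ 3 - q) * (q ^ 3 - q ^ 2) := by
    rw [← h]
    exact Dvd.dvd.mul_left hdvd _
  have hle1 : 1 ≤ q ^ 3 := Nat.one_le_pow _ _ hq1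
  have hle2 : q ≤ q ^ 3 := by
    calc q = q ^ 1 := (pow_one q).symm
      _ ≤ q ^ 3 := Nat.pow_le_pow_right hq1 (by norm_num)
  have hle3 : q ^ 2 ≤ q ^ 3 := Nat.pow_le_pow_right hq1 (by norm_num)
  have hz := (ZMod.natCast_eq_zero_iff _ 9).2 h9
  rw [Nat.cast_mul, Nat.cast_mul, Nat.cast_sub hle1, Nat.cast_sub hle2, Nat.cast_sub hle3,
    Nat.cast_pow, Nat.cast_pow, Nat.cast_one] at hz
  rcases hq with hq | hq
  · have : (q : ZMod 9) = 2 := by
      have := (ZMod.natCast_eq_natCast_iff' q 2 9).2 (by rw [hq])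
      exact_mod_cast this
    rw [this] at hz
    revert hz
    decide
  · have : (q : ZMod 9) = 5 := by
      have := (ZMod.natCast_eq_natCast_iff' q 5 9).2 (by rw [hq])
      exact_mod_cast this
    rw [this] at hz
    revert hz
    decide

variable {K : Subalgebra F (Matrix (Fin 3) (Fin 3) F)}

/-- for `q ≡ 2 (mod 3)` the normalizer of `K` in `SL₃` has an element of order three, so its
index is prime to three when `q ≡ 2, 5 (mod 9)` -/
theorem not_three_dvd_index [Fintype F] {p : ℕ} [Fact p.Prime] [CharP F p] (h3p : 3 ≠ p)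
    (hK : Cfsg.Geo.IsFieldSubalgebra 3 K)
    (hq : Fintype.card F % 9 = 2 ∨ Fintype.card F % 9 = 5) :
    ¬ 3 ∣ ((Cfsg.Geo.subalgebraNormalizer K).comap
      (Matrix.SpecialLinearGroup.toGL :
        Matrix.SpecialLinearGroup (Fin 3) F →* GL (Fin 3) F)).index := by
  intro hΩ
  have hnF : ((3 : ℕ) : F) ≠ 0 := natCast_ne_zero_of_ne h3p
  have hq3 : Fintype.card F % 3 = 2 := by omega
  have hord : orderOf (Fintype.card F : ZMod 3) = 3 - 1 := by
    have h2 : (Fintype.card F : ZMod 3) = 2 := by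
      have := (ZMod.natCast_eq_natCast_iff' (Fintype.card F) 2 3).2 (by rw [hq3])
      exact_mod_cast this
    rw [h2]
    show orderOf (2 : ZMod 3) = 2
    exact orderOf_eq_prime (by decide) (by decide)
  obtain ⟨g, hg, hg3, hgns⟩ := exists_frobenius (p := p) hK (by norm_num : 2 ≤ 3)
  have hg1 : (g : Matrix (Fin 3) (Fin 3) F) ≠ 1 := by
    intro h
    apply hgns 1
    rw [h, one_smul]
  obtain ⟨Bg, Bgi, hBg, -, hgB⟩ := struct_primitive (le_refl 3) hnF hord _ hg3 hg1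
  have hdetB : Bg.det ≠ 0 := by
    intro h0
    have := congrArg Matrix.det hBg
    rw [Matrix.det_mul, h0, zero_mul, Matrix.det_one] at this
    exact zero_ne_one this
  have hdet : (g : Matrix (Fin 3) (Fin 3) F).det = 1 := by
    have := congrArg Matrix.det hgB
    rw [Matrix.det_mul, Matrix.det_mul, det_cyc (by decide : Odd 3), mul_one] at this
    exact mul_right_cancel₀ hdetB (by rw [this, one_mul])
  obtain ⟨gs, hgs⟩ : ∃ gs : Matrix.SpecialLinearGroup (Fin 3) F,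
      (gs : Matrix (Fin 3) (Fin 3) F) = (g : Matrix (Fin 3) (Fin 3) F) := ⟨⟨_, hdet⟩, rfl⟩
  have hmem : gs ∈ (Cfsg.Geo.subalgebraNormalizer K).comap
      (Matrix.SpecialLinearGroup.toGL :
        Matrix.SpecialLinearGroup (Fin 3) F →* GL (Fin 3) F) := by
    rw [Subgroup.mem_comap]
    have : Matrix.SpecialLinearGroup.toGL gs = g := by
      apply Units.ext
      rw [Matrix.SpecialLinearGroup.coe_GL_coe_matrix, hgs]
    rw [this]
    exact hg
  have hgs3 : gs ^ 3 = 1 := by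
    apply Subtype.ext
    rw [Matrix.SpecialLinearGroup.coe_pow, hgs, hg3, Matrix.SpecialLinearGroup.coe_one]
  have hgs1 : gs ≠ 1 := by
    intro h
    apply hg1
    rw [← hgs, h, Matrix.SpecialLinearGroup.coe_one]
  exact not_nine_dvd_card_SL hq (nine_dvd_card _ gs hmem hgs3 hgs1 hΩ)

/-- sufficiency when `q ≡ 4, 7 (mod 9)` -/
theorem conj_singer_split [Fintype F] {p : ℕ} [Fact p.Prime] [CharP F p] (h3p : 3 ≠ p)
    (hK : Cfsg.Geo.IsFieldSubalgebra 3 K)
    (hq : Fintype.card F % 9 = 4 ∨ Fintype.card F % 9 = 7)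
    (x : Matrix.SpecialLinearGroup (Fin 3) F) (z : F)
    (hx : (x : Matrix (Fin 3) (Fin 3) F) ^ 3 = z • (1 : Matrix (Fin 3) (Fin 3) F))
    (hns : ∀ c : F, (x : Matrix (Fin 3) (Fin 3) F) ≠ c • (1 : Matrix (Fin 3) (Fin 3) F)) :
    ∃ P : Matrix.SpecialLinearGroup (Fin 3) F, P⁻¹ * x * P ∈
      (Cfsg.Geo.subalgebraNormalizer K).comap
        (Matrix.SpecialLinearGroup.toGL :
          Matrix.SpecialLinearGroup (Fin 3) F →* GL (Fin 3) F) := by
  classical
  have hnF : ((3 : ℕ) : F) ≠ 0 := natCast_ne_zero_of_ne h3p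
  have h3F : (3 : F) ≠ 0 := by exact_mod_cast hnF
  set q := Fintype.card F with hqdef
  have hq1 : 1 ≤ q := Fintype.card_pos
  -- a primitive cube root of unity
  have hcard : 3 ∣ Nat.card Fˣ := by
    rw [Nat.card_eq_fintype_card, Fintype.card_units]
    omega
  obtain ⟨ωu, hωu⟩ := exists_prime_orderOf_dvd_card' 3 hcard
  set ω : F := (ωu : F) with hωdef
  have hω3 : ω ^ 3 = 1 := by
    rw [hωdef, ← Units.val_pow_eq_pow_val, ← hωu, pow_orderOf_eq_one, Units.val_one]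
  have hω1 : ω ≠ 1 := by
    intro h
    have : ωu = 1 := Units.ext h
    rw [this, orderOf_one] at hωu
    omega
  have hω : ω ^ 2 + ω + 1 = 0 := by
    have h1 : (ω - 1) * (ω ^ 2 + ω + 1) = 0 := by linear_combination hω3
    rcases mul_eq_zero.1 h1 with h | h
    · exact absurd (sub_eq_zero.1 h) hω1
    · exact h
  -- `z = 1`
  obtain ⟨⟨a, ha⟩, hchar⟩ := cube_char (x : Matrix (Fin 3) (Fin 3) F) x.2 z hx hns
  have hz3 : z ^ 3 = 1 := by
    have := congrArg Matrix.det hx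
    rw [Matrix.det_pow, x.2, one_pow, Matrix.det_smul, Matrix.det_one, mul_one,
      Fintype.card_fin] at this
    exact this.symm
  have hz1 : z = 1 := by
    have ha0 : a ≠ 0 := by
      rintro rfl
      rw [zero_pow (by norm_num)] at ha
      rw [ha, zero_pow (by norm_num)] at hz3
      exact zero_ne_one hz3
    obtain ⟨m, hm⟩ : 3 ∣ q - 1 := by omega
    have hm3 : ¬ 3 ∣ m := by
      intro h
      obtain ⟨m', rfl⟩ := h
      omega
    have h1 : z ^ m = 1 := by
      rw [ha, ← pow_mul, ← hm]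
      exact FiniteField.pow_card_sub_one_eq_one a ha0
    have hcop : Nat.gcd 3 m = 1 := (Nat.Prime.coprime_iff_not_dvd Nat.prime_three).2 hm3
    have := pow_gcd_eq_one.2 ⟨hz3, h1⟩
    rwa [hcop, pow_one] at this
  rw [hz1, one_smul] at hx
  have hdet0 : ∀ α : F, α ^ 3 = 1 →
      (α • (1 : Matrix (Fin 3) (Fin 3) F) - (x : Matrix (Fin 3) (Fin 3) F)).det = 0 := by
    intro α hα
    rw [hchar hz1 α, hα, sub_self]
  have hω23 : (ω ^ 2) ^ 3 = 1 := by rw [← pow_mul, mul_comm, pow_mul, hω3, one_pow]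
  obtain ⟨v₀, hv₀, e₀⟩ := exists_eigenvector_of_det _ 1 (hdet0 1 (one_pow 3))
  obtain ⟨v₁, hv₁, e₁⟩ := exists_eigenvector_of_det _ ω (hdet0 ω hω3)
  obtain ⟨v₂, hv₂, e₂⟩ := exists_eigenvector_of_det _ (ω ^ 2) (hdet0 _ hω23)
  rw [one_smul] at e₀
  obtain ⟨Bu, Bui, hBu, -, huB⟩ := struct_split ω hω h3F _ hx v₀ v₁ v₂ hv₀ hv₁ hv₂ e₀ e₁ e₂
  -- the Frobenius element
  obtain ⟨g, hg, hg3, hgns⟩ := exists_frobenius (p := p) hK (by norm_num : 2 ≤ 3)
  have hr := rank_bound_of_mem_normalizer hK (by norm_num) g hg hgns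
  obtain ⟨w₀, hw₀, f₀⟩ := exists_eigenvector_of_rank ω hω _ hg3 hr 1 (one_pow 3)
  obtain ⟨w₁, hw₁, f₁⟩ := exists_eigenvector_of_rank ω hω _ hg3 hr ω hω3
  obtain ⟨w₂, hw₂, f₂⟩ := exists_eigenvector_of_rank ω hω _ hg3 hr (ω ^ 2) hω23
  rw [one_smul] at f₀
  obtain ⟨Bg, Bgi, hBg, -, hgB⟩ := struct_split ω hω h3F _ hg3 w₀ w₁ w₂ hw₀ hw₁ hw₂ f₀ f₁ f₂
  exact conj_of_conj_cyc hnF g hg Bg Bgi hBg hgB x 1 one_ne_zero _ (one_smul _ _).symm
    Bu Bui hBu huB

end Cfsg.Agent.Lib.H11.Sing
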