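import Cfsg.Agent.Lib.H15.SpSubA

/-!
# S5650 farm-out, task V6: all short root elements give everything
-/

set_option autoImplicit false
set_option linter.unusedSimpArgs false
set_option linter.unusedSectionVars false
set_option linter.unusedVariables false

namespace Cfsg.Agent.Lib.H11.SpSub

open Matrix
open Cfsg.Agent.Lib.H11.SubspMax
open Cfsg.Agent.Lib.H15.SpSub
open Cfsg.Agent.Lib.H4 (sympForm_self sympForm_add_left sympForm_add_right sympForm_smul_left
  sympForm_smul_right sympForm_swap)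

variable {F : Type*} [Field F] {m : ℕ} {F₀ : Subfield F}
variable {H : Subgroup (GL (Fin m ⊕ Fin m) F)}

local notation "VV" => (Fin m ⊕ Fin m → F)
local notation "GG" => GL (Fin m ⊕ Fin m) F
local notation "MM" => Matrix (Fin m ⊕ Fin m) (Fin m ⊕ Fin m) F
local notation "BB" => Cfsg.sympForm m F

/-- an index in another plane -/
theorem exists_other_plane (hm : 2 ≤ m) (a : Fin m ⊕ Fin m) : ∃ c : Fin m ⊕ Fin m, pl c ≠ pl a := by
  by_cases h : pl a = ⟨0, by omega⟩
  · refine ⟨Sum.inl ⟨1, by omega⟩, ?_⟩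
    rw [h]
    show (⟨1, _⟩ : Fin m) ≠ ⟨0, _⟩
    intro h'
    have := congrArg Fin.val h'
    simp at this
  · exact ⟨Sum.inl ⟨0, by omega⟩, fun h' => h h'.symm⟩

/-- squares as coefficients -/
theorem stv_eb_sq (hM : M0 m F₀ ≤ H) (hH : H ≤ Cfsg.spGL m F) (hm : 2 ≤ m)
    (hL : ∀ t : F, t ∈ Lam H) (a : Fin m ⊕ Fin m) (t : F) : stv (eb a : VV) (t * t) ∈ H := by
  obtain ⟨c, hc⟩ := exists_other_plane hm a
  have hca : pl a ≠ pl c.swap := by rw [pl_swap]; exact fun h => hc h.symm
  have hg : sr (eb a : VV) (eb c.swap) (t * sg c.swap) ∈ H := hL _ a c.swap hca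
  have h0 : BB (eb a : VV) (eb c.swap) = 0 := B_eb_eb_of_pl hca
  have hgc : (sr (eb a : VV) (eb c.swap) (t * sg c.swap) : MM) *ᵥ (eb c) = eb c + t • eb a := by
    rw [sr_mulVec h0, B_eb_eb_of_pl hc, B_eb_swap' c, sg_swap]
    have hs := sg_mul_self (F := F) c
    rw [zero_smul, zero_add, smul_smul]
    congr 2
    linear_combination t * hs
  have h1 : stv (eb c + t • eb a : VV) 1 ∈ H := by
    rw [← hgc, conj_stv _ (hH hg)]
    exact H.mul_mem (H.mul_mem hg (hM (stv_mem_M0 (eb_rat c) F₀.one_mem))) (H.inv_mem hg)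
  have h2 : BB (eb c : VV) (t • eb a) = 0 := by
    rw [sympForm_smul_right, B_eb_eb_of_pl hc, mul_zero]
  have h3 : BB (eb c : VV) (eb a) = 0 := B_eb_eb_of_pl hc
  rw [stv_add_vec h2, sr_smul_right h3, mul_one] at h1
  have h4 : sr (eb c : VV) (eb a) t ∈ H := hL t c a hc
  have h5 : stv (eb c : VV) 1 ∈ H := hM (stv_mem_M0 (eb_rat c) F₀.one_mem)
  have h6 : stv (t • eb a : VV) 1 ∈ H := by
    have := H.mul_mem (H.mul_mem (H.inv_mem h5) h1) (H.inv_mem h4)
    have heq : (stv (eb c : VV) 1)⁻¹ * (stv (eb c) 1 * stv (t • eb a) 1 * sr (eb c) (eb a) t) *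
        (sr (eb c : VV) (eb a) t)⁻¹ = stv (t • eb a) 1 := by group
    rwa [heq] at this
  rw [stv_smul, mul_one] at h6
  exact h6

/-- basis vectors are centres -/
theorem eb_mem_Scl [Fintype F] (hM : M0 m F₀ ≤ H) (hH : H ≤ Cfsg.spGL m F) (hm : 2 ≤ m)
    (hL : ∀ t : F, t ∈ Lam H) (a : Fin m ⊕ Fin m) : (eb a : VV) ∈ Scl H := by
  have hsq := stv_eb_sq hM hH hm hL a
  intro c
  by_cases h2 : (2 : F) = 0
  · have : CharP F 2 := CharTwo.of_one_ne_zero_of_two_eq_zero one_ne_zero h2
    obtain ⟨s, hs⟩ := FiniteField.isSquare_of_char_two (F := F) (by exact CharP.ringChar_of_prime_eq_zero Nat.prime_two h2) c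
    rw [hs]
    exact hsq s
  · have hc : c = ((c + 1) / 2) * ((c + 1) / 2) + -(((c - 1) / 2) * ((c - 1) / 2)) := by
      field_simp
      ring
    rw [hc, stv_add, stv_neg]
    exact H.mul_mem (hsq _) (H.inv_mem (hsq _))

/-- adding a multiple of a basis vector -/
theorem Scl_add_eb [Fintype F] (hM : M0 m F₀ ≤ H) (hH : H ≤ Cfsg.spGL m F) (hm : 2 ≤ m)
    (hL : ∀ t : F, t ∈ Lam H) {u : VV} (hu : u ∈ Scl H) (c : Fin m ⊕ Fin m) (α : F) :
    u + α • eb c ∈ Scl H := by
  have hc := eb_mem_Scl hM hH hm hL c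
  by_cases h1 : BB u (eb c) ≠ 0
  · exact Scl_add hH hc hu h1 α
  · rw [not_not] at h1
    by_cases h2 : ∃ a : Fin m ⊕ Fin m, pl a ≠ pl c ∧ BB u (eb a) ≠ 0
    · obtain ⟨a, hac, hne⟩ := h2
      have hg : sr (eb a : VV) (eb c) (α / BB u (eb a)) ∈ H := hL _ a c hac
      have h0 : BB (eb a : VV) (eb c) = 0 := B_eb_eb_of_pl hac
      have := Scl_inv hH hg hu
      rw [sr_mulVec h0, h1, zero_smul, add_zero, smul_smul, div_mul_cancel₀ _ hne] at this
      exact this
    · push Not at h2
      have hu' : u = u c • eb c := by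
        funext d
        by_cases hd : d = c
        · subst hd
          simp [eb]
        · rw [Pi.smul_apply, eb_apply_ne hd, smul_zero, coord_eq u d]
          by_cases hp : pl d.swap = pl c
          · have hdc : d.swap = c ∨ d.swap = c.swap := by
              rcases d with d | d <;> rcases c with c | c <;> simp [pl, Sum.swap] at hp ⊢ <;> exact hp
            rcases hdc with h | h
            · rw [h, h1, mul_zero]
            · exfalso
              apply hd
              have := congrArg Sum.swap h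
              simpa using this
          · rw [h2 _ hp, mul_zero]
      rw [hu', ← add_smul]
      exact Scl_smul _ hc

/-- **V6** all short root elements give everything -/
theorem eq_spGL_of_Lam_top [Fintype F] (hM : M0 m F₀ ≤ H) (hH : H ≤ Cfsg.spGL m F) (hm : 2 ≤ m)
    (hL : ∀ t : F, t ∈ Lam H) : H = Cfsg.spGL m F := by
  classical
  apply eq_spGL_of_Scl hH
  intro y
  have key : ∀ s : Finset (Fin m ⊕ Fin m), (∑ d ∈ s, y d • (eb d : VV)) ∈ Scl H := by
    intro s
    induction s using Finset.induction_on with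
    | empty =>
      rw [Finset.sum_empty]
      exact Scl_zero
    | insert d s hd ih =>
      rw [Finset.sum_insert hd, add_comm]
      exact Scl_add_eb hM hH hm hL ih d (y d)
  have := key Finset.univ
  rwa [← vec_eq_sum y] at this

end Cfsg.Agent.Lib.H11.SpSub
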