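import Cfsg.Agent.Lib.H9.Sp4SubDefs
import Cfsg.Agent.Lib.H11.SpSubV6

/-!
# S5789 farm-out, piece CONF: a configuration of rational vectors detecting non-rationality
-/

set_option autoImplicit false
set_option linter.unusedSimpArgs false
set_option linter.unusedSectionVars false
set_option linter.unusedVariables false

namespace Cfsg.Agent.Lib.H11.Sp4Sub

open Matrix
open Cfsg.Agent.Lib.H11.SubspMax
open Cfsg.Agent.Lib.H15.SpSub
open Cfsg.Agent.Lib.H11.SpSub
open Cfsg.Agent.Lib.H4 (sympForm_self sympForm_add_left sympForm_add_right sympForm_smul_left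
  sympForm_smul_right sympForm_swap)

variable {F : Type*} [Field F] {m : ℕ} {F₀ : Subfield F}

local notation "VV" => (Fin m ⊕ Fin m → F)
local notation "BB" => Cfsg.sympForm m F

/-- in characteristic two all signs are one -/
theorem sg_eq_one (h2 : (2 : F) = 0) (d : Fin m ⊕ Fin m) : (sg d : F) = 1 := by
  rcases d with d | d
  · rfl
  · show (-1 : F) = 1
    linear_combination -h2

/-- two basis vectors of different planes give a configuration -/
theorem config_of_planes {y : VV} {p p' : Fin m ⊕ Fin m} (hpl : pl p ≠ pl p')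
    (h1 : BB y (eb p) ≠ 0) (hr : BB y (eb p') / BB y (eb p) ∉ F₀) :
    ∃ u₁ u₂ v : VV, IsRat F₀ u₁ ∧ IsRat F₀ u₂ ∧ IsRat F₀ v ∧ BB u₁ u₂ = 0 ∧ BB v u₁ = 0 ∧
      BB v u₂ = 1 ∧ BB y u₁ ≠ 0 ∧ BB y u₂ / BB y u₁ ∉ F₀ := by
  refine ⟨eb p, eb p', sg p' • eb p'.swap, eb_rat p, eb_rat p', (eb_rat _).smul (sg_mem _),
    B_eb_eb_of_pl hpl, ?_, ?_, h1, hr⟩
  · rw [sympForm_smul_left, B_eb_eb_of_pl (by rw [pl_swap]; exact Ne.symm hpl), mul_zero]
  · rw [sympForm_smul_left, B_eb_swap, sg_mul_self]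

/-- a third basis vector with non-zero product, in another plane, gives a configuration -/
theorem config_of_third {y : VV} {p p' d : Fin m ⊕ Fin m} (hd : pl d ≠ pl p) (hpp : pl p = pl p')
    (h1 : BB y (eb p) ≠ 0) (hr : BB y (eb p') / BB y (eb p) ∉ F₀) (hd0 : BB y (eb d) ≠ 0) :
    ∃ u₁ u₂ v : VV, IsRat F₀ u₁ ∧ IsRat F₀ u₂ ∧ IsRat F₀ v ∧ BB u₁ u₂ = 0 ∧ BB v u₁ = 0 ∧
      BB v u₂ = 1 ∧ BB y u₁ ≠ 0 ∧ BB y u₂ / BB y u₁ ∉ F₀ := by
  by_cases hd1 : BB y (eb d) / BB y (eb p) ∈ F₀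
  · refine config_of_planes (p := d) (p' := p') (by rw [← hpp]; exact hd) hd0 ?_
    intro hmem
    apply hr
    have e : BB y (eb p') / BB y (eb p) =
        BB y (eb p') / BB y (eb d) * (BB y (eb d) / BB y (eb p)) := by
      field_simp
    rw [e]
    exact F₀.mul_mem hmem hd1
  · exact config_of_planes (Ne.symm hd) h1 hd1

/-- **S5789-CONF** -/
theorem exists_config (hm : 2 ≤ m) (h2 : (2 : F) = 0) {y : VV} (hy : ¬ RatPt F₀ y) :
    ∃ u₁ u₂ v : VV, IsRat F₀ u₁ ∧ IsRat F₀ u₂ ∧ IsRat F₀ v ∧ BB u₁ u₂ = 0 ∧ BB v u₁ = 0 ∧ BB v u₂ = 1 ∧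
      BB y u₁ ≠ 0 ∧ BB y u₂ / BB y u₁ ∉ F₀ := by
  have hy0 : y ≠ 0 := by
    rintro rfl
    exact hy ⟨0, 0, IsRat.zero, by simp⟩
  obtain ⟨a, ha⟩ : ∃ a, y a ≠ 0 := by
    by_contra hcon
    push Not at hcon
    exact hy0 (funext hcon)
  obtain ⟨c, hc⟩ : ∃ c, y c / y a ∉ F₀ := by
    by_contra hcon
    push Not at hcon
    refine hy ⟨y a, fun i => y i / y a, hcon, ?_⟩
    funext i
    simp only [Pi.smul_apply, smul_eq_mul]
    field_simp
  have hB : ∀ d, BB y (eb d) = y d.swap := fun d => by rw [B_eb, sg_eq_one h2, one_mul]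
  have h1 : BB y (eb a.swap) ≠ 0 := by rw [hB, Sum.swap_swap]; exact ha
  have hr : BB y (eb c.swap) / BB y (eb a.swap) ∉ F₀ := by
    rw [hB, hB, Sum.swap_swap, Sum.swap_swap]; exact hc
  by_cases hpl : pl a.swap = pl c.swap
  swap
  · exact config_of_planes hpl h1 hr
  have hca : c ≠ a := by
    rintro rfl
    apply hc
    rw [div_self ha]; exact F₀.one_mem
  have hcs : c.swap = a := by
    rw [pl_swap, pl_swap] at hpl
    rcases a with a | a <;> rcases c with c | c <;>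
      simp only [pl, Sum.elim_inl, Sum.elim_inr, id] at hpl <;> subst hpl
    · exact absurd rfl hca
    · rfl
    · rfl
    · exact absurd rfl hca
  rw [hcs] at hr
  obtain ⟨d, hd⟩ := exists_other_plane hm a.swap
  have hpp : pl a.swap = pl a := pl_swap a
  by_cases hd0 : BB y (eb d) = 0
  swap
  · exact config_of_third hd hpp h1 hr hd0
  by_cases hd1 : BB y (eb d.swap) = 0
  swap
  · exact config_of_third (d := d.swap) (by rw [pl_swap]; exact hd) hpp h1 hr hd1
  -- both vanish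
  have hda : pl d ≠ pl a := by rw [← hpp]; exact hd
  have e1 : BB (eb a.swap : VV) (eb a) = 1 := by rw [B_eb_swap, sg_eq_one h2]
  have e2 : BB (eb a.swap : VV) (eb d.swap) = 0 :=
    B_eb_eb_of_pl (by rw [pl_swap, pl_swap]; exact Ne.symm hda)
  have e3 : BB (eb d : VV) (eb a) = 0 := B_eb_eb_of_pl hda
  have e4 : BB (eb d : VV) (eb d.swap) = 1 := by
    rw [B_eb_swap', sg_eq_one h2]; linear_combination -h2
  have e5 : BB (eb d : VV) (eb a.swap) = 0 := B_eb_eb_of_pl (by rw [pl_swap]; exact hda)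
  refine ⟨eb a.swap + eb d, eb a + eb d.swap, eb d, (eb_rat _).add (eb_rat _),
    (eb_rat _).add (eb_rat _), eb_rat _, ?_, ?_, ?_, ?_, ?_⟩
  · rw [sympForm_add_left, sympForm_add_right, sympForm_add_right, e1, e2, e3, e4]
    linear_combination h2
  · rw [sympForm_add_right, e5, sympForm_self, add_zero]
  · rw [sympForm_add_right, e3, e4, zero_add]
  · rw [sympForm_add_right, hd0, add_zero]; exact h1
  · rw [sympForm_add_right, sympForm_add_right, hd0, hd1, add_zero, add_zero]; exact hr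

end Cfsg.Agent.Lib.H11.Sp4Sub
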