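import Mathlib
import Cfsg.Agent.Lib.H11.GUCent8

set_option autoImplicit false
set_option linter.unusedSectionVars false

/-!
# The commutant of a Jordan nilpotent as an algebra with involution

`piMap` is multiplicative; the elements of the commutant with trivial diagonal blocks form a finite
`p`-group; the adjoint with respect to the anti-diagonal form `Z0 d 1` induces the transpose on the
diagonal blocks.
-/

namespace Cfsg.Agent.Lib.H11.SpCls

open Matrix Cfsg.Agent.Lib.H11.GLCent Cfsg.Agent.Lib.H11.GUCent Cfsg.Agent.Lib.H11.Jordan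

variable {K : Type*} [Field K] {t : ℕ} (d : Fin t → ℕ) (hd : ∀ k, 1 ≤ d k)

/-- the top vector of a Jordan block -/
def top (k : Fin t) : (k : Fin t) × Fin (d k) := ⟨k, ⟨0, hd k⟩⟩

theorem mul_mem_commSub {X Y : Matrix ((k : Fin t) × Fin (d k)) ((k : Fin t) × Fin (d k)) K}
    (hX : X ∈ commSub (K := K) d) (hY : Y ∈ commSub (K := K) d) : X * Y ∈ commSub (K := K) d := by
  rw [mem_commSub] at hX hY ⊢
  rw [Matrix.mul_assoc, hY, ← Matrix.mul_assoc, hX, Matrix.mul_assoc]

theorem one_mem_commSub :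
    (1 : Matrix ((k : Fin t) × Fin (d k)) ((k : Fin t) × Fin (d k)) K) ∈ commSub (K := K) d := by
  rw [mem_commSub, Matrix.one_mul, Matrix.mul_one]

theorem pow_mem_commSub {X : Matrix ((k : Fin t) × Fin (d k)) ((k : Fin t) × Fin (d k)) K}
    (hX : X ∈ commSub (K := K) d) (n : ℕ) : X ^ n ∈ commSub (K := K) d := by
  induction n with
  | zero => rw [pow_zero]; exact one_mem_commSub d
  | succ n ih => rw [pow_succ]; exact mul_mem_commSub d ih hX

/-- entries of an element of the commutant in a top row vanish off the top columns of blocks of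
at least the same size -/
theorem top_row_eq_zero {X : Matrix ((k : Fin t) × Fin (d k)) ((k : Fin t) × Fin (d k)) K}
    (hX : X ∈ commSub (K := K) d) (l : Fin t) (z : (k : Fin t) × Fin (d k))
    (hz : (z.2 : ℕ) ≠ 0 ∨ d z.1 < d l) : X (top d hd l) z = 0 := by
  have hX' : X * (Cfsg.jordanTypeMatrix d K - 1) = (Cfsg.jordanTypeMatrix d K - 1) * X := hX
  rw [eq_mk_of_commute d hd hX', mk_apply]
  by_cases h0 : (z.2 : ℕ) ≤ ((top d hd l).2 : ℕ)
  · rw [if_pos h0]
    have hz0 : (z.2 : ℕ) = 0 := by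
      change (z.2 : ℕ) ≤ 0 at h0
      omega
    rcases hz with hz | hz
    · exact absurd hz0 hz
    · apply supp_of_commute d hd hX'
      change 0 - (z.2 : ℕ) + d z.1 < d l
      omega
  · rw [if_neg h0]

/-- entries of an element of the commutant in a top column vanish on the top rows of larger
blocks -/
theorem top_col_eq_zero {X : Matrix ((k : Fin t) × Fin (d k)) ((k : Fin t) × Fin (d k)) K}
    (hX : X ∈ commSub (K := K) d) (z₁ k : Fin t) (hz : d k < d z₁) :
    X (top d hd z₁) (top d hd k) = 0 := by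
  have hX' : X * (Cfsg.jordanTypeMatrix d K - 1) = (Cfsg.jordanTypeMatrix d K - 1) * X := hX
  have h := supp_of_commute d hd hX' k (top d hd z₁) (by change 0 + d k < d z₁; omega)
  exact h

/-- `piMap` is multiplicative -/
theorem piMap_mul (X Y : commSub (K := K) d) (i : Fin (Finset.univ.sup d + 1)) :
    piMap d hd ⟨X.1 * Y.1, mul_mem_commSub d X.2 Y.2⟩ i = piMap d hd X i * piMap d hd Y i := by
  classical
  ext l k
  rw [piMap_apply]
  change (X.1 * Y.1) (top d hd l.1) (top d hd k.1) = _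
  rw [Matrix.mul_apply, Matrix.mul_apply]
  symm
  apply Finset.sum_of_injOn (fun z₁ : {k : Fin t // d k = (i : ℕ)} => top d hd z₁.1)
  · intro a _ b _ hab
    apply Subtype.ext
    have := congrArg Sigma.fst hab
    exact this
  · intro a _
    exact Finset.mem_coe.mpr (Finset.mem_univ _)
  · intro z _ hz
    by_cases h0 : (z.2 : ℕ) = 0
    · by_cases h1 : d z.1 = (i : ℕ)
      · exfalso
        apply hz
        refine ⟨⟨z.1, h1⟩, Finset.mem_coe.mpr (Finset.mem_univ _), ?_⟩
        exact sigma_fin_ext rfl h0.symm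
      · rcases Nat.lt_or_gt_of_ne h1 with h2 | h2
        · have := top_row_eq_zero d hd X.2 l.1 z (Or.inr (by rw [l.2]; exact h2))
          change X.1 (top d hd l.1) z * _ = 0
          rw [this, zero_mul]
        · have hz' : z = top d hd z.1 := sigma_fin_ext rfl h0
          have := top_col_eq_zero d hd Y.2 z.1 k.1 (by rw [k.2]; exact h2)
          change _ * Y.1 z (top d hd k.1) = 0
          rw [hz', this, mul_zero]
    · have := top_row_eq_zero d hd X.2 l.1 z (Or.inl h0)
      change X.1 (top d hd l.1) z * _ = 0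
      rw [this, zero_mul]
  · intro z₁ _
    rfl

theorem piMap_one (i : Fin (Finset.univ.sup d + 1)) :
    piMap d hd ⟨(1 : Matrix ((k : Fin t) × Fin (d k)) ((k : Fin t) × Fin (d k)) K),
      one_mem_commSub d⟩ i = 1 := by
  ext l k
  rw [piMap_apply]
  change (1 : Matrix ((k : Fin t) × Fin (d k)) ((k : Fin t) × Fin (d k)) K) (top d hd l.1)
    (top d hd k.1) = _
  rw [Matrix.one_apply, Matrix.one_apply]
  by_cases h : l = k
  · subst h
    rw [if_pos rfl, if_pos rfl]
  · rw [if_neg h, if_neg]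
    intro h'
    apply h
    apply Subtype.ext
    exact congrArg Sigma.fst h'

/-- the inverse of an invertible element of the commutant lies in the commutant -/
theorem inv_mem_commSub {X Xi : Matrix ((k : Fin t) × Fin (d k)) ((k : Fin t) × Fin (d k)) K}
    (hX : X ∈ commSub (K := K) d) (h1 : X * Xi = 1) (h2 : Xi * X = 1) :
    Xi ∈ commSub (K := K) d := by
  rw [mem_commSub] at hX ⊢
  calc Xi * (Cfsg.jordanTypeMatrix d K - 1)
      = Xi * (Cfsg.jordanTypeMatrix d K - 1) * (X * Xi) := by rw [h1, Matrix.mul_one]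
    _ = Xi * ((Cfsg.jordanTypeMatrix d K - 1) * X) * Xi := by simp only [Matrix.mul_assoc]
    _ = (Xi * X) * (Cfsg.jordanTypeMatrix d K - 1) * Xi := by
      rw [← hX]; simp only [Matrix.mul_assoc]
    _ = (Cfsg.jordanTypeMatrix d K - 1) * Xi := by rw [h2, Matrix.one_mul]

section unipotent

local notation "Mt" => Matrix ((k : Fin t) × Fin (d k)) ((k : Fin t) × Fin (d k)) K

/-- membership in the commutant with trivial diagonal blocks -/
def IsU (X : Mt) : Prop := ∃ h : X ∈ commSub (K := K) d, ∀ i, piMap d hd ⟨X, h⟩ i = 1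

theorem isU_one : IsU d hd (1 : Mt) := ⟨one_mem_commSub d, fun i => piMap_one d hd i⟩

theorem isU_mul {X Y : Mt} (hX : IsU d hd X) (hY : IsU d hd Y) : IsU d hd (X * Y) := by
  obtain ⟨ha, ha'⟩ := hX
  obtain ⟨hb, hb'⟩ := hY
  refine ⟨mul_mem_commSub d ha hb, fun i => ?_⟩
  have := piMap_mul d hd ⟨X, ha⟩ ⟨Y, hb⟩ i
  rw [ha' i, hb' i, Matrix.mul_one] at this
  exact this

theorem isU_inv {X Xi : Mt} (hX : IsU d hd X) (h1 : X * Xi = 1) (h2 : Xi * X = 1) :
    IsU d hd Xi := by
  obtain ⟨ha, ha'⟩ := hX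
  have hinv : Xi ∈ commSub (K := K) d := inv_mem_commSub d ha h1 h2
  refine ⟨hinv, fun i => ?_⟩
  have h3 := piMap_mul d hd ⟨X, ha⟩ ⟨Xi, hinv⟩ i
  rw [ha' i, Matrix.one_mul] at h3
  rw [← h3, ← piMap_one d hd i]
  have e : (⟨(⟨X, ha⟩ : commSub (K := K) d).1 * (⟨Xi, hinv⟩ : commSub (K := K) d).1,
      mul_mem_commSub d ha hinv⟩ : commSub (K := K) d) = ⟨1, one_mem_commSub d⟩ :=
    Subtype.ext h1
  rw [e]

theorem isU_det_ne_zero {X : Mt} (hX : IsU d hd X) : X.det ≠ 0 := by
  obtain ⟨ha, ha'⟩ := hX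
  exact (det_ne_zero_iff_blocks d hd ⟨X, ha⟩).mpr (by
    intro i
    rw [ha' i, Matrix.det_one]
    exact one_ne_zero)

theorem isU_iff (X : Mt) : IsU d hd X ↔
    ∃ h : X - 1 ∈ commSub (K := K) d, piMap d hd ⟨X - 1, h⟩ = 0 := by
  constructor
  · rintro ⟨ha, ha'⟩
    refine ⟨(commSub (K := K) d).sub_mem ha (one_mem_commSub d), ?_⟩
    have h1 : (⟨X - 1, (commSub (K := K) d).sub_mem ha (one_mem_commSub d)⟩ : commSub (K := K) d) =
        ⟨X, ha⟩ - ⟨1, one_mem_commSub d⟩ := rfl
    rw [h1, map_sub]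
    funext i
    rw [Pi.sub_apply, ha' i, piMap_one d hd i, sub_self]
    rfl
  · rintro ⟨ha, ha'⟩
    have hmem : X ∈ commSub (K := K) d := by
      have := (commSub (K := K) d).add_mem ha (one_mem_commSub d)
      rwa [sub_add_cancel] at this
    refine ⟨hmem, fun i => ?_⟩
    have h1 : (⟨X, hmem⟩ : commSub (K := K) d) = ⟨X - 1, ha⟩ + ⟨1, one_mem_commSub d⟩ := by
      apply Subtype.ext
      change X = X - 1 + 1
      rw [sub_add_cancel]
    rw [h1, map_add, ha', zero_add]
    exact piMap_one d hd i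

variable [Fintype K]

/-- the group of units of the commutant with trivial diagonal blocks -/
def Ugrp : Subgroup (Mt)ˣ where
  carrier := {u | IsU d hd (u : Mt)}
  mul_mem' := by
    intro a b ha hb
    change IsU d hd ((a * b : (Mt)ˣ) : Mt)
    rw [Units.val_mul]
    exact isU_mul d hd ha hb
  one_mem' := by
    change IsU d hd ((1 : (Mt)ˣ) : Mt)
    rw [Units.val_one]
    exact isU_one d hd
  inv_mem' := by
    intro a ha
    exact isU_inv d hd ha a.mul_inv a.inv_mul

/-- `Ugrp` maps to the kernel of `piMap` -/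
noncomputable def ugrpFun (u : Ugrp (K := K) d hd) : LinearMap.ker (piMap (K := K) d hd) :=
  ⟨⟨(u.1 : Mt) - 1, ((isU_iff d hd _).mp u.2).choose⟩, by
    rw [LinearMap.mem_ker]
    exact ((isU_iff d hd _).mp u.2).choose_spec⟩

theorem ugrpFun_val (u : Ugrp (K := K) d hd) : ((ugrpFun d hd u).1.1 : Mt) = (u.1 : Mt) - 1 := rfl

theorem ugrpFun_bijective : Function.Bijective (ugrpFun (K := K) d hd) := by
  constructor
  · intro u v huv
    have h1 := congrArg (fun n : LinearMap.ker (piMap (K := K) d hd) => (n.1.1 : Mt)) huv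
    simp only [ugrpFun_val] at h1
    apply Subtype.ext
    apply Units.ext
    exact sub_left_injective h1
  · intro n
    have hU : IsU d hd ((1 : Mt) + n.1.1) := by
      rw [isU_iff]
      have e : (1 : Mt) + n.1.1 - 1 = n.1.1 := by abel
      refine ⟨by rw [e]; exact n.1.2, ?_⟩
      have h2 : piMap d hd n.1 = 0 := n.2
      rw [← h2]
      congr 1
      exact Subtype.ext e
    refine ⟨⟨(Matrix.GeneralLinearGroup.mkOfDetNeZero _ (isU_det_ne_zero d hd hU) : GL _ K),
      hU⟩, ?_⟩
    apply Subtype.ext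
    apply Subtype.ext
    rw [ugrpFun_val]
    change (1 : Mt) + n.1.1 - 1 = n.1.1
    abel

theorem card_ugrp :
    Nat.card (Ugrp (K := K) d hd) = Fintype.card K ^ Fintype.card (Rest d) := by
  rw [Nat.card_congr (Equiv.ofBijective _ (ugrpFun_bijective d hd)), card_ker_piMap]

/-- elements of the commutant with trivial diagonal blocks have `p`-power order -/
theorem exists_pow_eq_one (p : ℕ) [Fact p.Prime] [CharP K p] :
    ∃ e : ℕ, ∀ X : Mt, IsU d hd X → X ^ (p ^ e) = 1 := by
  obtain ⟨f, -, hf⟩ := FiniteField.card K p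
  refine ⟨(f : ℕ) * Fintype.card (Rest d), ?_⟩
  intro X hX
  let u : Ugrp (K := K) d hd :=
    ⟨(Matrix.GeneralLinearGroup.mkOfDetNeZero _ (isU_det_ne_zero d hd hX) : GL _ K), hX⟩
  have h1 : u ^ Nat.card (Ugrp (K := K) d hd) = 1 := pow_card_eq_one'
  rw [card_ugrp, hf, ← pow_mul] at h1
  have h2 := congrArg (fun v : Ugrp (K := K) d hd => ((v.1 : (Mt)ˣ) : Mt)) h1
  simp only [Subgroup.coe_pow, Units.val_pow_eq_pow_val, Subgroup.coe_one, Units.val_one] at h2
  exact h2

end unipotent

end Cfsg.Agent.Lib.H11.SpCls
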