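import Mathlib
import Cfsg.Agent.Lib.H11.SpCls1

set_option autoImplicit false
set_option linter.unusedSectionVars false

/-!
# The block map on all matrices, the adjoint for the anti-diagonal form, and the leading form

`pi X` is the tuple of diagonal blocks (defined for all matrices, multiplicative on the commutant).
The adjoint `Z0i * Xᵀ * Z0` for the anti-diagonal form `Z0 = Z0 d 1` induces the transpose on the
blocks.  For a matrix `M` for which the Jordan nilpotent is skew-adjoint, `lam M = pi (Z0i * M)` is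
its leading form.
-/

namespace Cfsg.Agent.Lib.H11.SpCls

open Matrix Cfsg.Agent.Lib.H11.GLCent Cfsg.Agent.Lib.H11.GUCent Cfsg.Agent.Lib.H11.Jordan

variable {K : Type*} [Field K] {t : ℕ} (d : Fin t → ℕ) (hd : ∀ k, 1 ≤ d k)

local notation "Mt" => Matrix ((k : Fin t) × Fin (d k)) ((k : Fin t) × Fin (d k)) K
local notation "Nn" => (Cfsg.jordanTypeMatrix d K - 1)

/-- the tuple of diagonal blocks of an arbitrary matrix -/
def pi (X : Mt) : Blocks K d := fun _ l k => X (top d hd l.1) (top d hd k.1)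

theorem pi_apply (X : Mt) (i : Fin (Finset.univ.sup d + 1))
    (l k : {k : Fin t // d k = (i : ℕ)}) : pi d hd X i l k = X (top d hd l.1) (top d hd k.1) := rfl

theorem pi_eq_piMap (X : Mt) (h : X ∈ commSub (K := K) d) : pi d hd X = piMap d hd ⟨X, h⟩ := rfl

theorem pi_mul {X Y : Mt} (hX : X ∈ commSub (K := K) d) (hY : Y ∈ commSub (K := K) d)
    (i : Fin (Finset.univ.sup d + 1)) : pi d hd (X * Y) i = pi d hd X i * pi d hd Y i :=
  piMap_mul d hd ⟨X, hX⟩ ⟨Y, hY⟩ i

theorem pi_one (i : Fin (Finset.univ.sup d + 1)) : pi d hd (1 : Mt) i = 1 := piMap_one d hd i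

theorem pi_add (X Y : Mt) : pi d hd (X + Y) = pi d hd X + pi d hd Y := rfl

theorem pi_smul (c : K) (X : Mt) : pi d hd (c • X) = c • pi d hd X := rfl

theorem pi_neg (X : Mt) : pi d hd (-X) = -pi d hd X := rfl

theorem pi_pow {X : Mt} (hX : X ∈ commSub (K := K) d) (i : Fin (Finset.univ.sup d + 1)) (n : ℕ) :
    pi d hd (X ^ n) i = pi d hd X i ^ n := by
  induction n with
  | zero => rw [pow_zero, pow_zero]; exact pi_one d hd i
  | succ n ih => rw [pow_succ, pow_succ, pi_mul d hd (pow_mem_commSub d hX n) hX, ih]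

theorem det_ne_zero_iff_pi {X : Mt} (hX : X ∈ commSub (K := K) d) :
    X.det ≠ 0 ↔ ∀ i : Fin (Finset.univ.sup d + 1), (pi d hd X i).det ≠ 0 :=
  det_ne_zero_iff_blocks d hd ⟨X, hX⟩

theorem pi_surjective (B : Blocks K d) : ∃ X : Mt, X ∈ commSub (K := K) d ∧ pi d hd X = B := by
  obtain ⟨X, hX⟩ := piMap_surjective (K := K) d hd B
  exact ⟨X.1, X.2, hX⟩

theorem isU_iff_pi (X : Mt) :
    IsU d hd X ↔ X ∈ commSub (K := K) d ∧ ∀ i, pi d hd X i = 1 := by
  constructor
  · rintro ⟨h, h'⟩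
    exact ⟨h, h'⟩
  · rintro ⟨h, h'⟩
    exact ⟨h, h'⟩

/-- the anti-diagonal form -/
def Za : Mt := Z0 d (1 : K)

/-- its inverse -/
def Zai : Mt := Z0i d (1 : K)

theorem Za_mul_Zai : Za (K := K) d * Zai d = 1 := Z0_mul_Z0i d one_ne_zero

theorem Zai_mul_Za : Zai (K := K) d * Za d = 1 := Z0i_mul_Z0 d one_ne_zero

/-- the nilpotent part is skew-adjoint for `Za` -/
theorem skewT : Nnᵀ * Za d = -(Za d * Nn) := by
  unfold Za
  ext y x
  rw [mul_Z0_apply, Matrix.neg_apply, Z0_mul_apply, Matrix.transpose_apply, nil_apply,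
    nil_apply]
  change (if x.1 = y.1 ∧ d x.1 - 1 - (x.2 : ℕ) = (y.2 : ℕ) + 1 then 1 else 0) *
    zc d 1 (rev d x) =
    -(zc d 1 y * if y.1 = x.1 ∧ d y.1 - 1 - (y.2 : ℕ) = (x.2 : ℕ) + 1 then 1 else 0)
  have hy := y.2.2
  have hx := x.2.2
  by_cases h1 : x.1 = y.1
  · have hd' : d x.1 = d y.1 := congrArg d h1
    by_cases h2 : d x.1 - 1 - (x.2 : ℕ) = (y.2 : ℕ) + 1
    · rw [if_pos ⟨h1, h2⟩, if_pos ⟨h1.symm, by omega⟩, one_mul, mul_one]
      unfold zc
      change (-1) ^ (d x.1 - 1 - (x.2 : ℕ)) * cst 1 (d x.1) =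
        -((-1) ^ (y.2 : ℕ) * cst 1 (d y.1))
      rw [h2, hd', pow_succ]
      ring
    · rw [if_neg (fun h => h2 h.2), if_neg (fun h => h2 (by omega)), zero_mul, mul_zero, neg_zero]
  · rw [if_neg (fun h => h1 h.1), if_neg (fun h => h1 h.1.symm), zero_mul, mul_zero, neg_zero]

/-- the nilpotent part is skew-adjoint for `M` -/
def IsNSkew (M : Mt) : Prop := Nnᵀ * M = -(M * Nn)

theorem isNSkew_Za : IsNSkew d (Za (K := K) d) := skewT d

theorem Zai_mul_transpose_nil : Zai d * Nnᵀ = -(Nn * Zai d) := by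
  calc Zai d * Nnᵀ = Zai d * (Nnᵀ * Za d) * Zai d := by
        rw [Matrix.mul_assoc, Matrix.mul_assoc, Za_mul_Zai, Matrix.mul_one]
    _ = -((Zai d * Za d) * Nn * Zai d) := by
        rw [skewT]
        simp only [Matrix.mul_neg, Matrix.neg_mul, Matrix.mul_assoc]
    _ = -(Nn * Zai d) := by rw [Zai_mul_Za, Matrix.one_mul]

theorem Za_mul_nil : Za d * Nn = -(Nnᵀ * Za d) := by
  rw [skewT, neg_neg]

/-- for an `N`-skew matrix `M`, `Zai * M` commutes with `N` -/
theorem Zai_mul_mem {M : Mt} (hM : IsNSkew d M) : Zai d * M ∈ commSub (K := K) d := by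
  rw [mem_commSub]
  unfold IsNSkew at hM
  calc Zai d * M * Nn = Zai d * (M * Nn) := by rw [Matrix.mul_assoc]
    _ = -(Zai d * (Nnᵀ * M)) := by
        have : M * Nn = -(Nnᵀ * M) := by rw [hM, neg_neg]
        rw [this, Matrix.mul_neg]
    _ = -((Zai d * Nnᵀ) * M) := by rw [Matrix.mul_assoc]
    _ = Nn * (Zai d * M) := by
        rw [Zai_mul_transpose_nil, Matrix.neg_mul, neg_neg, Matrix.mul_assoc]

/-- for `Y` in the commutant, `Za * Y` is `N`-skew -/
theorem isNSkew_Za_mul {Y : Mt} (hY : Y ∈ commSub (K := K) d) : IsNSkew d (Za d * Y) := by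
  rw [mem_commSub] at hY
  unfold IsNSkew
  rw [← Matrix.mul_assoc, skewT, Matrix.neg_mul, Matrix.mul_assoc, Matrix.mul_assoc, hY]

theorem IsNSkew.mul {M Y : Mt} (hM : IsNSkew d M) (hY : Y ∈ commSub (K := K) d) :
    IsNSkew d (M * Y) := by
  rw [mem_commSub] at hY
  unfold IsNSkew at hM ⊢
  rw [← Matrix.mul_assoc, hM, Matrix.neg_mul, Matrix.mul_assoc, Matrix.mul_assoc, hY]

theorem IsNSkew.transpose_mul {M Y : Mt} (hM : IsNSkew d M) (hY : Y ∈ commSub (K := K) d) :
    IsNSkew d (Yᵀ * M) := by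
  rw [mem_commSub] at hY
  unfold IsNSkew at hM ⊢
  have h1 : Nnᵀ * Yᵀ = Yᵀ * Nnᵀ := by
    rw [← Matrix.transpose_mul, ← Matrix.transpose_mul, hY]
  rw [← Matrix.mul_assoc, h1, Matrix.mul_assoc, hM, Matrix.mul_neg, Matrix.mul_assoc]

theorem IsNSkew.add {M M' : Mt} (hM : IsNSkew d M) (hM' : IsNSkew d M') : IsNSkew d (M + M') := by
  unfold IsNSkew at hM hM' ⊢
  rw [Matrix.mul_add, Matrix.add_mul, hM, hM', neg_add]

theorem IsNSkew.smul {M : Mt} (c : K) (hM : IsNSkew d M) : IsNSkew d (c • M) := by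
  unfold IsNSkew at hM ⊢
  rw [Matrix.mul_smul, Matrix.smul_mul, hM, smul_neg]

theorem IsNSkew.transpose {M : Mt} (hM : IsNSkew d M) : IsNSkew d Mᵀ := by
  unfold IsNSkew at hM ⊢
  have h := congrArg Matrix.transpose hM
  rw [Matrix.transpose_mul, Matrix.transpose_neg, Matrix.transpose_mul,
    Matrix.transpose_transpose] at h
  rw [← neg_eq_iff_eq_neg] at h
  exact h.symm

/-- the adjoint with respect to `Za` -/
def adjT (X : Mt) : Mt := Zai d * Xᵀ * Za d

theorem adjT_mem {X : Mt} (hX : X ∈ commSub (K := K) d) : adjT d X ∈ commSub (K := K) d := by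
  unfold adjT
  rw [Matrix.mul_assoc]
  exact Zai_mul_mem d ((isNSkew_Za d).transpose_mul d hX)

/-- the block map intertwines the adjoint and the transpose -/
theorem pi_adjT {X : Mt} (hX : X ∈ commSub (K := K) d) (i : Fin (Finset.univ.sup d + 1)) :
    pi d hd (adjT d X) i = (pi d hd X i)ᵀ := by
  ext l k
  rw [pi_apply, Matrix.transpose_apply, pi_apply]
  have hX' : X * Nn = Nn * X := hX
  have h1 : Za d * adjT d X = Xᵀ * Za d := by
    unfold adjT
    rw [← Matrix.mul_assoc, ← Matrix.mul_assoc, Za_mul_Zai, Matrix.one_mul]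
  have h2 := congrFun (congrFun h1 (rev d (top d hd l.1))) (top d hd k.1)
  unfold Za at h2
  rw [Z0_mul_apply, mul_Z0_apply, rev_rev, Matrix.transpose_apply] at h2
  have hlk : d l.1 = d k.1 := l.2.trans k.2.symm
  have h3 : zc d (1 : K) (rev d (top d hd l.1)) = zc d 1 (rev d (top d hd k.1)) := by
    unfold zc
    change (-1) ^ (d l.1 - 1 - 0) * cst 1 (d l.1) = (-1) ^ (d k.1 - 1 - 0) * cst 1 (d k.1)
    rw [hlk]
  rw [h3, mul_comm] at h2
  have h4 := mul_right_cancel₀ (zc_ne_zero d (one_ne_zero (α := K)) _) h2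
  rw [h4]
  -- Toeplitz structure
  have h5 := congrFun (congrFun (eq_mk_of_commute d hd hX') (rev d (top d hd k.1)))
    (rev d (top d hd l.1))
  rw [h5, mk_apply]
  have h6 : ((rev d (top d hd l.1)).2 : ℕ) ≤ ((rev d (top d hd k.1)).2 : ℕ) := by
    change d l.1 - 1 - 0 ≤ d k.1 - 1 - 0
    rw [hlk]
  rw [if_pos h6]
  unfold cols
  refine congrArg (fun y => X y (top d hd l.1)) (sigma_fin_ext ?_ ?_)
  · rfl
  · change d k.1 - 1 - 0 - (d l.1 - 1 - 0) = 0
    rw [hlk]
    omega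

/-- the sign matrix relating `Za` and its transpose -/
def Sg : Mt := Matrix.diagonal fun y => (-1 : K) ^ (d y.1 - 1)

theorem Sg_mem : Sg (K := K) d ∈ commSub (K := K) d := by
  rw [mem_commSub]
  ext y x
  unfold Sg
  rw [Matrix.diagonal_mul, Matrix.mul_diagonal, nil_apply]
  by_cases h : y.1 = x.1 ∧ (y.2 : ℕ) = (x.2 : ℕ) + 1
  · rw [if_pos h, h.1]
    ring
  · rw [if_neg h, mul_zero, zero_mul]

theorem pi_Sg (i : Fin (Finset.univ.sup d + 1)) :
    pi d hd (Sg (K := K) d) i = ((-1 : K) ^ ((i : ℕ) - 1)) • (1 : Matrix _ _ K) := by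
  ext l k
  rw [pi_apply, Matrix.smul_apply, Matrix.one_apply, smul_eq_mul]
  unfold Sg
  by_cases h : l = k
  · subst h
    rw [Matrix.diagonal_apply_eq, if_pos rfl, mul_one]
    change (-1 : K) ^ (d l.1 - 1) = _
    rw [l.2]
  · rw [Matrix.diagonal_apply_ne, if_neg h, mul_zero]
    intro h'
    apply h
    apply Subtype.ext
    exact congrArg Sigma.fst h'

theorem Za_transpose : (Za (K := K) d)ᵀ = Za d * Sg d := by
  ext y x
  unfold Sg
  rw [Matrix.transpose_apply, Matrix.mul_diagonal]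
  unfold Za Z0
  by_cases h : x = rev d y
  · rw [if_pos h, if_pos ((eq_rev_iff d y x).mp h)]
    unfold zc
    subst h
    have hc : ∀ m, cst (1 : K) m = 1 := by
      intro m
      unfold cst
      split_ifs <;> rfl
    rw [hc, hc, mul_one, mul_one]
    change (-1 : K) ^ (d y.1 - 1 - (y.2 : ℕ)) = (-1) ^ (y.2 : ℕ) * (-1) ^ (d y.1 - 1)
    have hy := y.2.2
    have e : d y.1 - 1 = (d y.1 - 1 - (y.2 : ℕ)) + (y.2 : ℕ) := by omega
    have h4 : (-1 : K) ^ (y.2 : ℕ) * (-1) ^ (y.2 : ℕ) = 1 := by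
      rw [← pow_add, ← two_mul, pow_mul]
      simp
    conv_rhs => rw [e, pow_add]
    linear_combination (-(-1 : K) ^ (d y.1 - 1 - (y.2 : ℕ))) * h4
  · rw [if_neg h, if_neg (fun h' => h ((eq_rev_iff d x y).mp h')), zero_mul]

/-- the leading form of a matrix -/
def lam (M : Mt) : Blocks K d := pi d hd (Zai d * M)

theorem lam_mul {M Y : Mt} (hM : IsNSkew d M) (hY : Y ∈ commSub (K := K) d)
    (i : Fin (Finset.univ.sup d + 1)) : lam d hd (M * Y) i = lam d hd M i * pi d hd Y i := by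
  unfold lam
  rw [← Matrix.mul_assoc, pi_mul d hd (Zai_mul_mem d hM) hY]

theorem lam_transpose_mul {M Y : Mt} (hM : IsNSkew d M) (hY : Y ∈ commSub (K := K) d)
    (i : Fin (Finset.univ.sup d + 1)) :
    lam d hd (Yᵀ * M) i = (pi d hd Y i)ᵀ * lam d hd M i := by
  unfold lam
  have e : Zai d * (Yᵀ * M) = adjT d Y * (Zai d * M) := by
    unfold adjT
    calc Zai d * (Yᵀ * M) = Zai d * Yᵀ * ((Za d * Zai d) * M) := by
          rw [Za_mul_Zai, Matrix.one_mul, Matrix.mul_assoc]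
      _ = Zai d * Yᵀ * Za d * (Zai d * M) := by simp only [Matrix.mul_assoc]
  rw [e, pi_mul d hd (adjT_mem d hY) (Zai_mul_mem d hM), pi_adjT d hd hY]

/-- the leading form of the transpose -/
theorem lam_transpose {M : Mt} (hM : IsNSkew d M) (i : Fin (Finset.univ.sup d + 1)) :
    lam d hd Mᵀ i = ((-1 : K) ^ ((i : ℕ) - 1)) • (lam d hd M i)ᵀ := by
  unfold lam
  have hY := Zai_mul_mem d hM
  have e : Zai d * Mᵀ = adjT d (Zai d * M) * Sg d := by
    unfold adjT
    have h1 : M = Za d * (Zai d * M) := by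
      rw [← Matrix.mul_assoc, Za_mul_Zai, Matrix.one_mul]
    conv_lhs => rw [h1, Matrix.transpose_mul, Za_transpose]
    simp only [Matrix.mul_assoc]
  rw [e, pi_mul d hd (adjT_mem d hY) (Sg_mem d), pi_adjT d hd hY, pi_Sg, Matrix.mul_smul,
    Matrix.mul_one]

theorem lam_add (M M' : Mt) : lam d hd (M + M') = lam d hd M + lam d hd M' := by
  unfold lam
  rw [Matrix.mul_add, pi_add]

theorem lam_smul (c : K) (M : Mt) : lam d hd (c • M) = c • lam d hd M := by
  unfold lam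
  rw [Matrix.mul_smul, pi_smul]

theorem lam_neg (M : Mt) : lam d hd (-M) = -lam d hd M := by
  unfold lam
  rw [Matrix.mul_neg, pi_neg]

/-- the leading form of an invertible `N`-skew matrix is invertible -/
theorem det_lam_ne_zero {M : Mt} (hM : IsNSkew d M) (hdet : M.det ≠ 0)
    (i : Fin (Finset.univ.sup d + 1)) : (lam d hd M i).det ≠ 0 := by
  unfold lam
  apply (det_ne_zero_iff_pi d hd (Zai_mul_mem d hM)).mp
  rw [Matrix.det_mul]
  apply mul_ne_zero _ hdet
  intro h0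
  have := congrArg Matrix.det (Zai_mul_Za (K := K) d)
  rw [Matrix.det_mul, h0, zero_mul, Matrix.det_one] at this
  exact zero_ne_one this

end Cfsg.Agent.Lib.H11.SpCls
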