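import Mathlib
import Cfsg.Agent.Lib.H11.SpCls2
import Cfsg.Agent.Lib.H11.SpCls3

set_option autoImplicit false
set_option linter.unusedSectionVars false

/-!
# Orbits of the centraliser of a nilpotent Jordan matrix on its invariant alternating forms

For `N = jordanTypeMatrix d K - 1`, the set `𝓩` of invertible skew-symmetric matrices `Z` with
`Nᵀ Z = -Z N` carries the action `Z ↦ Xᵀ Z X` of the invertible elements of the commutant of `N`.
The orbits are classified by the square classes of the determinants of the leading forms on the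
blocks of even size.
-/

namespace Cfsg.Agent.Lib.H11.SpCls

open Matrix Cfsg.Agent.Lib.H11.GLCent Cfsg.Agent.Lib.H11.GUCent Cfsg.Agent.Lib.H11.Jordan

variable {K : Type*} [Field K] {t : ℕ} (d : Fin t → ℕ) (hd : ∀ k, 1 ≤ d k)

local notation "Mt" => Matrix ((k : Fin t) × Fin (d k)) ((k : Fin t) × Fin (d k)) K
local notation "Nn" => (Cfsg.jordanTypeMatrix d K - 1)

/-- invertible skew-symmetric `N`-skew matrices -/
structure IsZ (Z : Mt) : Prop where
  skew : Zᵀ = -Z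
  det : Z.det ≠ 0
  nskew : IsNSkew d Z

include hd in
theorem isEmpty_block_zero (i : Fin (Finset.univ.sup d + 1)) (hi : (i : ℕ) = 0) :
    IsEmpty {k : Fin t // d k = (i : ℕ)} := by
  constructor
  rintro ⟨k, hk⟩
  have := hd k
  omega

theorem IsZ.det_lam {Z : Mt} (hZ : IsZ d Z) (i : Fin (Finset.univ.sup d + 1)) :
    (lam d hd Z i).det ≠ 0 := det_lam_ne_zero d hd hZ.nskew hZ.det i

/-- the symmetry of the leading forms -/
theorem IsZ.lam_transpose {Z : Mt} (hZ : IsZ d Z) (i : Fin (Finset.univ.sup d + 1)) :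
    (lam d hd Z i)ᵀ = ((-1 : K) ^ (i : ℕ)) • lam d hd Z i := by
  rcases Nat.eq_zero_or_pos (i : ℕ) with hi | hi
  · have := isEmpty_block_zero d hd i hi
    ext l
    exact this.elim l
  · have h1 := SpCls.lam_transpose d hd hZ.nskew i
    rw [hZ.skew, lam_neg] at h1
    have h1' : -(lam d hd Z i) = ((-1 : K) ^ ((i : ℕ) - 1)) • (lam d hd Z i)ᵀ := h1
    have hc : ((-1 : K) ^ ((i : ℕ) - 1)) * ((-1 : K) ^ ((i : ℕ) - 1)) = 1 := by
      rw [← pow_add, ← two_mul, pow_mul]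
      simp
    have hci : (-1 : K) ^ (i : ℕ) = -((-1 : K) ^ ((i : ℕ) - 1)) := by
      obtain ⟨j, hj⟩ : ∃ j, (i : ℕ) = j + 1 := ⟨(i : ℕ) - 1, by omega⟩
      rw [hj, Nat.add_sub_cancel, pow_succ]
      ring
    calc (lam d hd Z i)ᵀ
        = (((-1 : K) ^ ((i : ℕ) - 1)) * ((-1 : K) ^ ((i : ℕ) - 1))) • (lam d hd Z i)ᵀ := by
          rw [hc, one_smul]
      _ = ((-1 : K) ^ ((i : ℕ) - 1)) • (((-1 : K) ^ ((i : ℕ) - 1)) • (lam d hd Z i)ᵀ) := by
          rw [smul_smul]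
      _ = ((-1 : K) ^ ((i : ℕ) - 1)) • (-(lam d hd Z i)) := by rw [← h1']
      _ = ((-1 : K) ^ (i : ℕ)) • lam d hd Z i := by rw [hci, smul_neg, neg_smul]

theorem IsZ.lam_symm {Z : Mt} (hZ : IsZ d Z) (i : Fin (Finset.univ.sup d + 1))
    (hi : Even (i : ℕ)) : (lam d hd Z i)ᵀ = lam d hd Z i := by
  rw [hZ.lam_transpose d hd i, hi.neg_one_pow, one_smul]

theorem IsZ.lam_skew {Z : Mt} (hZ : IsZ d Z) (i : Fin (Finset.univ.sup d + 1))
    (hi : Odd (i : ℕ)) : (lam d hd Z i)ᵀ = -lam d hd Z i := by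
  rw [hZ.lam_transpose d hd i, hi.neg_one_pow, neg_one_smul]

/-- the action of the invertible elements of the commutant -/
theorem IsZ.act {Z X Xi : Mt} (hZ : IsZ d Z) (hX : X ∈ commSub (K := K) d) (h1 : X * Xi = 1) :
    IsZ d (Xᵀ * Z * X) := by
  refine ⟨?_, ?_, ?_⟩
  · rw [Matrix.transpose_mul, Matrix.transpose_mul, Matrix.transpose_transpose, hZ.skew,
      Matrix.neg_mul, Matrix.mul_neg, Matrix.mul_assoc]
  · have hXdet : X.det ≠ 0 := by
      intro h
      have := congrArg Matrix.det h1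
      rw [Matrix.det_mul, h, zero_mul, Matrix.det_one] at this
      exact zero_ne_one this
    rw [Matrix.det_mul, Matrix.det_mul, Matrix.det_transpose]
    exact mul_ne_zero (mul_ne_zero hXdet hZ.det) hXdet
  · exact (hZ.nskew.transpose_mul d hX).mul d hX

theorem lam_act {Z X : Mt} (hZ : IsNSkew d Z) (hX : X ∈ commSub (K := K) d)
    (i : Fin (Finset.univ.sup d + 1)) :
    lam d hd (Xᵀ * Z * X) i = (pi d hd X i)ᵀ * lam d hd Z i * pi d hd X i := by
  rw [lam_mul d hd (hZ.transpose_mul d hX) hX, lam_transpose_mul d hd hZ hX]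

theorem transpose_pow_mul {Z Y : Mt} (h : Yᵀ * Z = Z * Y) (n : ℕ) : (Y ^ n)ᵀ * Z = Z * Y ^ n := by
  induction n with
  | zero => rw [pow_zero, Matrix.transpose_one, Matrix.one_mul, Matrix.mul_one]
  | succ n ih =>
    rw [pow_succ, Matrix.transpose_mul, Matrix.mul_assoc, ih, ← Matrix.mul_assoc, h,
      Matrix.mul_assoc, ← pow_succ', ← pow_succ]

section finite

variable [Fintype K]

/-- the determinants of the leading forms change by squares along an orbit -/
theorem isSquare_det_lam_act {Z X Xi : Mt} (hZ : IsNSkew d Z) (hX : X ∈ commSub (K := K) d)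
    (h1 : X * Xi = 1) (i : Fin (Finset.univ.sup d + 1)) :
    IsSquare (lam d hd (Xᵀ * Z * X) i).det ↔ IsSquare (lam d hd Z i).det := by
  rw [lam_act d hd hZ hX]
  apply isSquare_det_congr
  have hXdet : X.det ≠ 0 := by
    intro h
    have := congrArg Matrix.det h1
    rw [Matrix.det_mul, h, zero_mul, Matrix.det_one] at this
    exact zero_ne_one this
  exact (det_ne_zero_iff_pi d hd hX).mp hXdet i

variable (p : ℕ) [Fact p.Prime] [CharP K p]

/-- forms with the same leading forms are in the same orbit -/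
theorem exists_act_of_lam_eq (hp : p ≠ 2) {Z Z' : Mt} (hZ : IsZ d Z) (hZ' : IsZ d Z')
    (hl : lam d hd Z = lam d hd Z') :
    ∃ h hi : Mt, h ∈ commSub (K := K) d ∧ h * hi = 1 ∧ hᵀ * Z * h = Z' := by
  have hu : IsUnit Z.det := isUnit_iff_ne_zero.mpr hZ.det
  have hZ1 : Z * Z⁻¹ = 1 := Matrix.mul_nonsing_inv Z hu
  have hZ2 : Z⁻¹ * Z = 1 := Matrix.nonsing_inv_mul Z hu
  obtain ⟨Y, hY⟩ : ∃ Y : Mt, Y = Z⁻¹ * Z' := ⟨_, rfl⟩
  have hZY : Z * Y = Z' := by rw [hY, ← Matrix.mul_assoc, hZ1, Matrix.one_mul]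
  -- `Y` lies in the commutant
  have hYmem : Y ∈ commSub (K := K) d := by
    have h1 : Z⁻¹ * Za d ∈ commSub (K := K) d := by
      apply inv_mem_commSub d (Zai_mul_mem d hZ.nskew)
      · rw [Matrix.mul_assoc, ← Matrix.mul_assoc Z, hZ1, Matrix.one_mul, Zai_mul_Za]
      · rw [Matrix.mul_assoc, ← Matrix.mul_assoc (Za d), Za_mul_Zai, Matrix.one_mul, hZ2]
    have h2 := mul_mem_commSub d h1 (Zai_mul_mem d hZ'.nskew)
    have h3 : Z⁻¹ * Za d * (Zai d * Z') = Y := by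
      rw [hY, Matrix.mul_assoc, ← Matrix.mul_assoc (Za d), Za_mul_Zai, Matrix.one_mul]
    rwa [h3] at h2
  -- its diagonal blocks are trivial
  have hYpi : ∀ i, pi d hd Y i = 1 := by
    intro i
    have h1 := lam_mul d hd hZ.nskew hYmem i
    rw [hZY, ← hl] at h1
    have hdet := hZ.det_lam d hd i
    have hui : IsUnit (lam d hd Z i).det := isUnit_iff_ne_zero.mpr hdet
    calc pi d hd Y i = ((lam d hd Z i)⁻¹ * lam d hd Z i) * pi d hd Y i := by
          rw [Matrix.nonsing_inv_mul _ hui, Matrix.one_mul]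
      _ = (lam d hd Z i)⁻¹ * (lam d hd Z i * pi d hd Y i) := by rw [Matrix.mul_assoc]
      _ = (lam d hd Z i)⁻¹ * lam d hd Z i := by rw [← h1]
      _ = 1 := Matrix.nonsing_inv_mul _ hui
  have hYU : IsU d hd Y := (isU_iff_pi d hd Y).mpr ⟨hYmem, hYpi⟩
  obtain ⟨e, he⟩ := exists_pow_eq_one d hd p (K := K)
  have hYe := he Y hYU
  -- `Y` is self-adjoint for `Z`
  have hadj : Yᵀ * Z = Z * Y := by
    rw [hZY, hY, Matrix.transpose_mul, hZ'.skew]
    have h1 : (Z⁻¹)ᵀ * Z = -1 := by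
      have h2 : (Z⁻¹)ᵀ * Zᵀ = 1 := by rw [← Matrix.transpose_mul, hZ1, Matrix.transpose_one]
      rw [hZ.skew, Matrix.mul_neg] at h2
      rw [← h2, neg_neg]
    rw [Matrix.mul_assoc, h1, Matrix.mul_neg, Matrix.mul_one, neg_neg]
  -- the square root of `Y`
  have hodd : Odd (p ^ e) := by
    apply Odd.pow
    exact (Fact.out : p.Prime).odd_of_ne_two hp
  obtain ⟨n, hn⟩ := hodd
  have hpos : 1 ≤ p ^ e := Nat.one_le_pow _ _ (Fact.out : p.Prime).pos
  refine ⟨Y ^ (n + 1), (Y ^ (n + 1)) ^ (p ^ e - 1), pow_mem_commSub d hYmem _, ?_, ?_⟩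
  · rw [← pow_succ', Nat.sub_add_cancel hpos, ← pow_mul, mul_comm, pow_mul, hYe, one_pow]
  · rw [transpose_pow_mul d hadj, Matrix.mul_assoc, ← pow_add]
    have : n + 1 + (n + 1) = p ^ e + 1 := by omega
    rw [this, pow_succ, hYe, Matrix.one_mul, hZY]

end finite

/-- a form with prescribed leading forms -/
theorem exists_of_forms (h2 : (2 : K) ≠ 0) (Fm : Blocks K d)
    (hsym : ∀ i, (Fm i)ᵀ = ((-1 : K) ^ (i : ℕ)) • Fm i) (hdet : ∀ i, (Fm i).det ≠ 0) :
    ∃ Z : Mt, IsZ d Z ∧ lam d hd Z = Fm := by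
  obtain ⟨Y₀, hY₀, hpiY⟩ := pi_surjective d hd Fm
  obtain ⟨W, hW⟩ : ∃ W : Mt, W = Za d * Y₀ := ⟨_, rfl⟩
  have hWs : IsNSkew d W := by rw [hW]; exact isNSkew_Za_mul d hY₀
  have hWt : IsNSkew d Wᵀ := hWs.transpose d
  have hlamW : lam d hd W = Fm := by
    unfold lam
    rw [hW, ← Matrix.mul_assoc, Zai_mul_Za, Matrix.one_mul, hpiY]
  obtain ⟨Z, hZ⟩ : ∃ Z : Mt, Z = (2 : K)⁻¹ • (W + (-1 : K) • Wᵀ) := ⟨_, rfl⟩
  have hZs : IsNSkew d Z := by
    rw [hZ]
    exact (hWs.add d (hWt.smul d (-1))).smul d _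
  have hlamZ : lam d hd Z = Fm := by
    funext i
    rcases Nat.eq_zero_or_pos (i : ℕ) with hi | hi
    · have := isEmpty_block_zero d hd i hi
      ext l
      exact this.elim l
    · rw [hZ, lam_smul, lam_add, lam_smul]
      change (2 : K)⁻¹ • (lam d hd W i + (-1 : K) • lam d hd Wᵀ i) = Fm i
      rw [SpCls.lam_transpose d hd hWs i, hlamW, hsym i, smul_smul, smul_smul]
      have hc : (-1 : K) * (-1 : K) ^ ((i : ℕ) - 1) * (-1 : K) ^ (i : ℕ) = 1 := by
        obtain ⟨j, hj⟩ : ∃ j, (i : ℕ) = j + 1 := ⟨(i : ℕ) - 1, by omega⟩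
        rw [hj, Nat.add_sub_cancel, pow_succ]
        have : (-1 : K) ^ j * (-1 : K) ^ j = 1 := by
          rw [← pow_add, ← two_mul, pow_mul]
          simp
        linear_combination this
      rw [hc, one_smul, ← two_smul K (Fm i), smul_smul, inv_mul_cancel₀ h2, one_smul]
  refine ⟨Z, ⟨?_, ?_, hZs⟩, hlamZ⟩
  · rw [hZ, Matrix.transpose_smul, Matrix.transpose_add, Matrix.transpose_smul,
      Matrix.transpose_transpose]
    rw [← smul_neg]
    congr 1
    rw [neg_add, neg_one_smul, neg_one_smul, neg_neg, add_comm]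
  · have hmem := Zai_mul_mem d hZs
    have h1 : (Zai d * Z).det ≠ 0 := by
      apply (det_ne_zero_iff_pi d hd hmem).mpr
      intro i
      have : pi d hd (Zai d * Z) i = Fm i := congrFun hlamZ i
      rw [this]
      exact hdet i
    intro h0
    apply h1
    rw [Matrix.det_mul, h0, mul_zero]

section finite2

variable [Fintype K] (p : ℕ) [Fact p.Prime] [CharP K p]

/-- forms whose leading forms on the even blocks have determinants in the same square classes
are in the same orbit -/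
theorem exists_act_of_sign (hp : p ≠ 2) {Z Z' : Mt} (hZ : IsZ d Z) (hZ' : IsZ d Z')
    (hs : ∀ i : Fin (Finset.univ.sup d + 1), Even (i : ℕ) →
      (IsSquare (lam d hd Z i).det ↔ IsSquare (lam d hd Z' i).det)) :
    ∃ X Xi : Mt, X ∈ commSub (K := K) d ∧ X * Xi = 1 ∧ Xᵀ * Z * X = Z' := by
  have h2 : (2 : K) ≠ 0 := by
    intro h
    have h3 : ((2 : ℕ) : K) = 0 := by exact_mod_cast h
    rw [CharP.cast_eq_zero_iff K p] at h3
    exact hp ((Nat.prime_dvd_prime_iff_eq (Fact.out : p.Prime) Nat.prime_two).mp h3)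
  have hP : ∀ i : Fin (Finset.univ.sup d + 1), ∃ P Pi : Matrix {k : Fin t // d k = (i : ℕ)}
      {k : Fin t // d k = (i : ℕ)} K, P * Pi = 1 ∧ Pi * P = 1 ∧
        lam d hd Z' i = Pᵀ * lam d hd Z i * P := by
    intro i
    rcases Nat.even_or_odd (i : ℕ) with hi | hi
    · exact congr_sym h2 rfl _ _ (hZ'.lam_symm d hd i hi) (hZ.lam_symm d hd i hi)
        (hZ'.det_lam d hd i) (hZ.det_lam d hd i) (hs i hi).symm
    · exact congr_alt h2 rfl _ _ (hZ'.lam_skew d hd i hi) (hZ.lam_skew d hd i hi)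
        (hZ'.det_lam d hd i) (hZ.det_lam d hd i)
  choose P Pi hP1 hP2 hP3 using hP
  obtain ⟨X₀, hX₀, hpiX⟩ := pi_surjective d hd P
  have hX₀det : X₀.det ≠ 0 := by
    apply (det_ne_zero_iff_pi d hd hX₀).mpr
    intro i
    rw [hpiX]
    intro h
    have := congrArg Matrix.det (hP1 i)
    rw [Matrix.det_mul, h, zero_mul, Matrix.det_one] at this
    exact zero_ne_one this
  have hu : IsUnit X₀.det := isUnit_iff_ne_zero.mpr hX₀det
  have hX1 : X₀ * X₀⁻¹ = 1 := Matrix.mul_nonsing_inv X₀ hu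
  have hZ'' : IsZ d (X₀ᵀ * Z * X₀) := hZ.act d hX₀ hX1
  have hl : lam d hd (X₀ᵀ * Z * X₀) = lam d hd Z' := by
    funext i
    rw [lam_act d hd hZ.nskew hX₀, hpiX, hP3 i]
  obtain ⟨h, hi, hmem, hh1, hh2⟩ := exists_act_of_lam_eq d hd p hp hZ'' hZ' hl
  refine ⟨X₀ * h, hi * X₀⁻¹, mul_mem_commSub d hX₀ hmem, ?_, ?_⟩
  · rw [Matrix.mul_assoc, ← Matrix.mul_assoc h, hh1, Matrix.one_mul, hX1]
  · rw [Matrix.transpose_mul, ← hh2]
    simp only [Matrix.mul_assoc]

/-- every choice of square classes on the even blocks occurs -/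
theorem exists_sign (h2 : (2 : K) ≠ 0)
    (hpar : ∀ i : Fin (Finset.univ.sup d + 1), Odd (i : ℕ) →
      Even (Fintype.card {k : Fin t // d k = (i : ℕ)}))
    (s : Fin (Finset.univ.sup d + 1) → Prop) :
    ∃ Z : Mt, IsZ d Z ∧ ∀ i : Fin (Finset.univ.sup d + 1), Even (i : ℕ) →
      Nonempty {k : Fin t // d k = (i : ℕ)} → (IsSquare (lam d hd Z i).det ↔ s i) := by
  have hF : ∀ i : Fin (Finset.univ.sup d + 1), ∃ G : Matrix {k : Fin t // d k = (i : ℕ)}
      {k : Fin t // d k = (i : ℕ)} K, Gᵀ = ((-1 : K) ^ (i : ℕ)) • G ∧ G.det ≠ 0 ∧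
        (Even (i : ℕ) → Nonempty {k : Fin t // d k = (i : ℕ)} → (IsSquare G.det ↔ s i)) := by
    intro i
    rcases Nat.even_or_odd (i : ℕ) with hi | hi
    · by_cases hne : Nonempty {k : Fin t // d k = (i : ℕ)}
      · obtain ⟨G, hG1, hG2, hG3⟩ := exists_sym_class (F := K) (ι := {k : Fin t // d k = (i : ℕ)})
          h2 (s i)
        refine ⟨G, ?_, hG2, fun _ _ => hG3⟩
        rw [hi.neg_one_pow, one_smul, hG1]
      · refine ⟨1, ?_, ?_, fun _ h => absurd h hne⟩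
        · rw [hi.neg_one_pow, one_smul, Matrix.transpose_one]
        · rw [Matrix.det_one]
          exact one_ne_zero
    · obtain ⟨G, hG1, hG2⟩ := exists_alt (F := K) (hpar i hi)
      refine ⟨G, ?_, hG2, fun h => absurd hi (Nat.not_odd_iff_even.mpr h)⟩
      rw [hi.neg_one_pow, neg_one_smul, hG1]
  choose Fm hF1 hF2 hF3 using hF
  obtain ⟨Z, hZ, hlam⟩ := exists_of_forms d hd h2 Fm hF1 hF2
  refine ⟨Z, hZ, fun i hi hne => ?_⟩
  rw [hlam]
  exact hF3 i hi hne

end finite2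

end Cfsg.Agent.Lib.H11.SpCls
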