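import Mathlib
import Cfsg.Agent.Lib.H11.SpCls4

set_option autoImplicit false
set_option linter.unusedSectionVars false

/-!
# The Cayley transform of a nilpotent Jordan matrix and unipotent classes of `Sp`

For `N = jordanTypeMatrix d K - 1` the unipotent matrix `u₀ = (1 + N)(1 - N)⁻¹` has the same
commutant as `N`, and preserves a form `Z` iff `Nᵀ Z = -Z N`. Conjugates `Q u₀ Q⁻¹` of `u₀` lying in
the symplectic group correspond to the forms `Qᵀ J Q`.
-/

namespace Cfsg.Agent.Lib.H11.SpCls

open Matrix Cfsg.Agent.Lib.H11.GLCent Cfsg.Agent.Lib.H11.GUCent Cfsg.Agent.Lib.H11.Jordan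

section general

variable {K : Type*} [Field K]

theorem cancel_left {α β γ : Type*} [Fintype α] [Fintype β] [DecidableEq α] [DecidableEq β]
    {A : Matrix α β K} {B : Matrix β α K} (h : A * B = 1) (M : Matrix α γ K) :
    A * (B * M) = M := by
  rw [← Matrix.mul_assoc, h, Matrix.one_mul]

theorem comm_inv {α : Type*} [Fintype α] [DecidableEq α] {X A Ai : Matrix α α K}
    (h : X * A = A * X) (h1 : A * Ai = 1) (h2 : Ai * A = 1) : X * Ai = Ai * X := by
  calc X * Ai = (Ai * A) * X * Ai := by rw [h2, Matrix.one_mul]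
    _ = Ai * (A * X) * Ai := by simp only [Matrix.mul_assoc]
    _ = Ai * (X * A) * Ai := by rw [h]
    _ = Ai * X * (A * Ai) := by simp only [Matrix.mul_assoc]
    _ = Ai * X := by rw [h1, Matrix.mul_one]

theorem det_ne_zero_of_mul_eq_one {α : Type*} [Fintype α] [DecidableEq α] {A B : Matrix α α K}
    (h : A * B = 1) : A.det ≠ 0 := by
  intro h0
  have := congrArg Matrix.det h
  rw [Matrix.det_mul, h0, zero_mul, Matrix.det_one] at this
  exact zero_ne_one this

/-- rectangular conjugation preserves the rank -/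
theorem rank_conj_rect {α β : Type*} [Fintype α] [Fintype β] [DecidableEq α] [DecidableEq β]
    {P : Matrix β α K} {Pi : Matrix α β K} (h1 : P * Pi = 1) (h2 : Pi * P = 1) (M : Matrix α α K) :
    (P * M * Pi).rank = M.rank := by
  apply le_antisymm
  · exact (Matrix.rank_mul_le_left _ _).trans (Matrix.rank_mul_le_right _ _)
  · have e : M = Pi * (P * M * Pi) * P := by
      simp only [Matrix.mul_assoc, cancel_left h2, h2, Matrix.mul_one]
    conv_lhs => rw [e]
    exact (Matrix.rank_mul_le_left _ _).trans (Matrix.rank_mul_le_right _ _)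

theorem conj_rect_sub_one_pow {α β : Type*} [Fintype α] [Fintype β] [DecidableEq α]
    [DecidableEq β] {P : Matrix β α K} {Pi : Matrix α β K} (h1 : P * Pi = 1) (h2 : Pi * P = 1)
    (M : Matrix α α K) (i : ℕ) : (P * M * Pi - 1) ^ i = P * (M - 1) ^ i * Pi := by
  induction i with
  | zero => rw [pow_zero, pow_zero, Matrix.mul_one, h1]
  | succ i ih =>
    rw [pow_succ, ih, pow_succ]
    have : P * M * Pi - 1 = P * (M - 1) * Pi := by
      rw [Matrix.mul_sub, Matrix.sub_mul, Matrix.mul_one, h1]
    rw [this]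
    simp only [Matrix.mul_assoc, cancel_left h2]

theorem rankType_conj_rect {α β : Type*} [Fintype α] [Fintype β] [DecidableEq α]
    [DecidableEq β] {P : Matrix β α K} {Pi : Matrix α β K} (h1 : P * Pi = 1) (h2 : Pi * P = 1)
    {M : Matrix α α K} {μ : Multiset ℕ} (h : RankType M μ) : RankType (P * M * Pi) μ := by
  intro i
  rw [conj_rect_sub_one_pow h1 h2, rank_conj_rect h1 h2]
  exact h i

end general

section abstractCayley

variable {K : Type*} [Field K] {α : Type*} [Fintype α] [DecidableEq α] {N V : Matrix α α K}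
  (h1 : (1 - N) * V = 1) (h2 : V * (1 - N) = 1)

include h1 h2

theorem cay_comm : N * V = V * N := by
  apply comm_inv _ h1 h2
  rw [Matrix.mul_sub, Matrix.sub_mul, Matrix.mul_one, Matrix.one_mul]

theorem cay_eq' : (1 + N) * V = V * (1 + N) := by
  rw [Matrix.add_mul, Matrix.mul_add, Matrix.one_mul, Matrix.mul_one, cay_comm h1 h2]

theorem cay_mul_one_sub : (1 + N) * V * (1 - N) = 1 + N := by
  rw [Matrix.mul_assoc, h2, Matrix.mul_one]

theorem cay_add_one : (1 + N) * V + 1 = (2 : K) • V := by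
  have e : (1 + N) + (1 - N) = (2 : K) • (1 : Matrix α α K) := by
    rw [two_smul]
    abel
  calc (1 + N) * V + 1 = (1 + N) * V + (1 - N) * V := by rw [h1]
    _ = ((1 + N) + (1 - N)) * V := (Matrix.add_mul _ _ _).symm
    _ = (2 : K) • V := by rw [e, Matrix.smul_mul, Matrix.one_mul]

theorem cay_sub_one : (1 + N) * V - 1 = N * ((2 : K) • V) := by
  have e : (1 + N) - (1 - N) = (2 : K) • N := by
    rw [two_smul]
    abel
  calc (1 + N) * V - 1 = (1 + N) * V - (1 - N) * V := by rw [h1]
    _ = ((1 + N) - (1 - N)) * V := (Matrix.sub_mul _ _ _).symm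
    _ = N * ((2 : K) • V) := by rw [e, Matrix.smul_mul, Matrix.mul_smul]

/-- the commutant of the Cayley transform is the commutant of `N` -/
theorem cay_commute_iff (h2K : (2 : K) ≠ 0) (X : Matrix α α K) :
    X * N = N * X ↔ X * ((1 + N) * V) = (1 + N) * V * X := by
  constructor
  · intro h
    have hV : X * V = V * X := by
      apply comm_inv _ h1 h2
      rw [Matrix.mul_sub, Matrix.sub_mul, Matrix.mul_one, Matrix.one_mul, h]
    have hA : X * (1 + N) = (1 + N) * X := by
      rw [Matrix.mul_add, Matrix.add_mul, Matrix.mul_one, Matrix.one_mul, h]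
    calc X * ((1 + N) * V) = (X * (1 + N)) * V := by rw [Matrix.mul_assoc]
      _ = (1 + N) * (X * V) := by rw [hA, Matrix.mul_assoc]
      _ = (1 + N) * V * X := by rw [hV, Matrix.mul_assoc]
  · intro h
    have h3 : X * ((2 : K) • V) = ((2 : K) • V) * X := by
      rw [← cay_add_one h1 h2]
      calc X * ((1 + N) * V + 1) = X * ((1 + N) * V) + X := by rw [Matrix.mul_add, Matrix.mul_one]
        _ = (1 + N) * V * X + X := by rw [h]
        _ = ((1 + N) * V + 1) * X := by rw [Matrix.add_mul _ _ X, Matrix.one_mul]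
    have hV : X * V = V * X := by
      rw [Matrix.mul_smul, Matrix.smul_mul] at h3
      have := congrArg (fun M => (2 : K)⁻¹ • M) h3
      simpa only [smul_smul, inv_mul_cancel₀ h2K, one_smul] using this
    have h4 : X * (1 - N) = (1 - N) * X := comm_inv hV h2 h1
    rw [Matrix.mul_sub, Matrix.sub_mul, Matrix.mul_one, Matrix.one_mul] at h4
    exact sub_right_injective h4

/-- the forms preserved by the Cayley transform -/
theorem cay_form_iff (h2K : (2 : K) ≠ 0) (Z : Matrix α α K) :
    Nᵀ * Z = -(Z * N) ↔ ((1 + N) * V)ᵀ * Z * ((1 + N) * V) = Z := by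
  have key : Nᵀ * Z = -(Z * N) ↔ (1 + N)ᵀ * Z * (1 + N) = (1 - N)ᵀ * Z * (1 - N) := by
    have e : (1 + N)ᵀ * Z * (1 + N) - (1 - N)ᵀ * Z * (1 - N) = (2 : K) • (Nᵀ * Z + Z * N) := by
      rw [Matrix.transpose_add, Matrix.transpose_sub, Matrix.transpose_one, two_smul]
      simp only [Matrix.add_mul, Matrix.mul_add, Matrix.sub_mul, Matrix.mul_sub, Matrix.one_mul,
        Matrix.mul_one]
      abel
    constructor
    · intro h
      rw [← sub_eq_zero, e, h, neg_add_cancel, smul_zero]
    · intro h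
      rw [← sub_eq_zero, e] at h
      have := congrArg (fun M => (2 : K)⁻¹ • M) h
      simp only [smul_smul, inv_mul_cancel₀ h2K, one_smul, smul_zero] at this
      exact eq_neg_of_add_eq_zero_left this
  rw [key]
  constructor
  · intro h
    have h3 : ((1 - N) * V)ᵀ * Z * ((1 - N) * V) = Z := by
      rw [h1, Matrix.transpose_one, Matrix.one_mul, Matrix.mul_one]
    rw [Matrix.transpose_mul] at h3 ⊢
    calc Vᵀ * (1 + N)ᵀ * Z * ((1 + N) * V) = Vᵀ * ((1 + N)ᵀ * Z * (1 + N)) * V := by
          simp only [Matrix.mul_assoc]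
      _ = Vᵀ * ((1 - N)ᵀ * Z * (1 - N)) * V := by rw [h]
      _ = Vᵀ * (1 - N)ᵀ * Z * ((1 - N) * V) := by simp only [Matrix.mul_assoc]
      _ = Z := h3
  · intro h
    have h3 := cay_mul_one_sub h1 h2
    calc (1 + N)ᵀ * Z * (1 + N) = ((1 + N) * V * (1 - N))ᵀ * Z * ((1 + N) * V * (1 - N)) := by
          rw [h3]
      _ = (1 - N)ᵀ * (((1 + N) * V)ᵀ * Z * ((1 + N) * V)) * (1 - N) := by
          rw [Matrix.transpose_mul]
          simp only [Matrix.mul_assoc]
      _ = (1 - N)ᵀ * Z * (1 - N) := by rw [h]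

/-- the Cayley transform has the same rank type as `1 + N` -/
theorem cay_rank (h2K : (2 : K) ≠ 0) (i : ℕ) : (((1 + N) * V - 1) ^ i).rank = (N ^ i).rank := by
  rw [cay_sub_one h1 h2]
  have hc : Commute N ((2 : K) • V) := by
    change N * ((2 : K) • V) = ((2 : K) • V) * N
    rw [Matrix.mul_smul, Matrix.smul_mul, cay_comm h1 h2]
  rw [hc.mul_pow]
  apply Matrix.rank_mul_eq_left_of_isUnit_det
  rw [Matrix.det_pow]
  apply IsUnit.pow
  rw [Matrix.det_smul]
  apply IsUnit.mul
  · exact (isUnit_iff_ne_zero.mpr h2K).pow _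
  · exact isUnit_iff_ne_zero.mpr (det_ne_zero_of_mul_eq_one h2)

end abstractCayley

end Cfsg.Agent.Lib.H11.SpCls
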