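import Mathlib
import Cfsg.Agent.Lib.H11.SpCls5

set_option autoImplicit false
set_option linter.unusedSectionVars false

/-!
# Unipotent elements of `Sp` of a given Jordan type and invariant forms of the Jordan matrix

The unipotent matrix `u₀ = (1 + N)(1 - N)⁻¹`, `N = jordanTypeMatrix d K - 1`; the relation between
symplectic conjugates `Q u₀ Q⁻¹` and the forms `Qᵀ J Q`.
-/

namespace Cfsg.Agent.Lib.H11.SpCls

open Matrix Cfsg.Agent.Lib.H11.GLCent Cfsg.Agent.Lib.H11.GUCent Cfsg.Agent.Lib.H11.Jordan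

variable {K : Type*} [Field K] {t : ℕ} (d : Fin t → ℕ) (hd : ∀ k, 1 ≤ d k)

local notation "Mt" => Matrix ((k : Fin t) × Fin (d k)) ((k : Fin t) × Fin (d k)) K
local notation "Nn" => (Cfsg.jordanTypeMatrix d K - 1)

section cayley

theorem isNilpotent_nil : IsNilpotent (Nn : Mt) :=
  ⟨_, (rankType_jordanTypeMatrix (K := K) d).pow_eq_zero⟩

theorem isUnit_det_one_sub_nil : IsUnit ((1 : Mt) - Nn).det :=
  (Matrix.isUnit_iff_isUnit_det _).mp (isNilpotent_nil d).isUnit_one_sub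

/-- the inverse of `1 - N` -/
noncomputable def Vn : Mt := ((1 : Mt) - Nn)⁻¹

theorem one_sub_nil_mul_Vn : ((1 : Mt) - Nn) * Vn d = 1 :=
  Matrix.mul_nonsing_inv _ (isUnit_det_one_sub_nil d)

theorem Vn_mul_one_sub_nil : Vn d * ((1 : Mt) - Nn) = 1 :=
  Matrix.nonsing_inv_mul _ (isUnit_det_one_sub_nil d)

/-- the Cayley transform of `N` -/
noncomputable def u0 : Mt := ((1 : Mt) + Nn) * Vn d

theorem mem_commSub_iff_u0 (h2 : (2 : K) ≠ 0) (X : Mt) :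
    X ∈ commSub (K := K) d ↔ X * u0 (K := K) d = u0 (K := K) d * X :=
  cay_commute_iff (one_sub_nil_mul_Vn d) (Vn_mul_one_sub_nil d) h2 X

theorem isNSkew_iff_u0 (h2 : (2 : K) ≠ 0) (Z : Mt) :
    IsNSkew d Z ↔ (u0 (K := K) d)ᵀ * Z * u0 (K := K) d = Z :=
  cay_form_iff (one_sub_nil_mul_Vn d) (Vn_mul_one_sub_nil d) h2 Z

theorem rankType_u0 (h2 : (2 : K) ≠ 0) :
    RankType (u0 (K := K) d) (Multiset.map d Finset.univ.val) := by
  intro i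
  unfold u0
  rw [cay_rank (one_sub_nil_mul_Vn d) (Vn_mul_one_sub_nil d) h2]
  exact rankType_jordanTypeMatrix d i

end cayley

section rel

variable (m : ℕ)

local notation "Jm" => Matrix.J (Fin m) K

/-- `g` is a conjugate of `u₀` and `Z` the corresponding pull-back of `J` -/
def Rel (g : Matrix (Fin m ⊕ Fin m) (Fin m ⊕ Fin m) K) (Z : Mt) : Prop :=
  ∃ (Q : Matrix (Fin m ⊕ Fin m) ((k : Fin t) × Fin (d k)) K)
    (Qi : Matrix ((k : Fin t) × Fin (d k)) (Fin m ⊕ Fin m) K),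
    Q * Qi = 1 ∧ Qi * Q = 1 ∧ g = Q * u0 (K := K) d * Qi ∧ Z = Qᵀ * Jm * Q

theorem J_mul_neg_J : Jm * (-Jm) = 1 := by
  rw [Matrix.mul_neg, Matrix.J_squared, neg_neg]

include hd in
theorem pos_of_mem_map : ∀ a ∈ Multiset.map d Finset.univ.val, 0 < a := by
  intro a ha
  rw [Multiset.mem_map] at ha
  obtain ⟨k, -, rfl⟩ := ha
  exact hd k

include hd in
/-- every symplectic matrix of the Jordan type of `u₀` is related to a form -/
theorem exists_rel (h2 : (2 : K) ≠ 0)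
    (hcard : Fintype.card ((k : Fin t) × Fin (d k)) = Fintype.card (Fin m ⊕ Fin m))
    {g : Matrix (Fin m ⊕ Fin m) (Fin m ⊕ Fin m) K} (hg : gᵀ * Jm * g = Jm)
    (hT : RankType g (Multiset.map d Finset.univ.val)) :
    ∃ Z : Mt, Rel d m g Z ∧ IsZ d Z := by
  let e₀ : ((k : Fin t) × Fin (d k)) ≃ (Fin m ⊕ Fin m) := Fintype.equivOfCardEq hcard
  have h0 : RankType (Matrix.reindex e₀ e₀ (u0 (K := K) d)) (Multiset.map d Finset.univ.val) :=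
    (rankType_u0 (K := K) d h2).reindex e₀
  obtain ⟨c, hc⟩ := h0.isConj hT (pos_of_mem_map d hd)
  have hc' : (c : Matrix (Fin m ⊕ Fin m) (Fin m ⊕ Fin m) K) * Matrix.reindex e₀ e₀ (u0 (K := K) d)
      = g * c := hc
  obtain ⟨cm, hcm⟩ : ∃ cm : Matrix (Fin m ⊕ Fin m) (Fin m ⊕ Fin m) K, cm = c := ⟨_, rfl⟩
  obtain ⟨ci, hci⟩ : ∃ ci : Matrix (Fin m ⊕ Fin m) (Fin m ⊕ Fin m) K,
      ci = ((c⁻¹ : (Matrix (Fin m ⊕ Fin m) (Fin m ⊕ Fin m) K)ˣ) :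
        Matrix (Fin m ⊕ Fin m) (Fin m ⊕ Fin m) K) := ⟨_, rfl⟩
  have hc1 : cm * ci = 1 := by rw [hcm, hci, ← Units.val_mul, mul_inv_cancel, Units.val_one]
  have hc2 : ci * cm = 1 := by rw [hcm, hci, ← Units.val_mul, inv_mul_cancel, Units.val_one]
  rw [← hcm] at hc'
  obtain ⟨Q, hQ⟩ : ∃ Q : Matrix (Fin m ⊕ Fin m) ((k : Fin t) × Fin (d k)) K,
      Q = cm.submatrix (Equiv.refl _) e₀ := ⟨_, rfl⟩
  obtain ⟨Qi, hQi⟩ : ∃ Qi : Matrix ((k : Fin t) × Fin (d k)) (Fin m ⊕ Fin m) K,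
      Qi = ci.submatrix e₀ (Equiv.refl _) := ⟨_, rfl⟩
  have hQ1 : Q * Qi = 1 := by
    rw [hQ, hQi, Matrix.submatrix_mul_equiv, hc1, Matrix.submatrix_one_equiv]
  have hQ2 : Qi * Q = 1 := by
    rw [hQ, hQi, Matrix.submatrix_mul_equiv, hc2, Matrix.submatrix_one_equiv]
  have hgQ : g = Q * u0 (K := K) d * Qi := by
    have e1 : u0 (K := K) d = (Matrix.reindex e₀ e₀ (u0 (K := K) d)).submatrix e₀ e₀ := by
      ext i j
      simp
    have e2 : g = cm * Matrix.reindex e₀ e₀ (u0 (K := K) d) * ci := by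
      rw [hc', Matrix.mul_assoc, hc1, Matrix.mul_one]
    conv_rhs => rw [e1, hQ, hQi, Matrix.submatrix_mul_equiv, Matrix.submatrix_mul_equiv]
    rw [← e2]
    rfl
  refine ⟨Qᵀ * Jm * Q, ⟨Q, Qi, hQ1, hQ2, hgQ, rfl⟩, ?_, ?_, ?_⟩
  · rw [Matrix.transpose_mul, Matrix.transpose_mul, Matrix.transpose_transpose,
      Matrix.J_transpose, Matrix.neg_mul, Matrix.mul_neg, Matrix.mul_assoc]
  · apply det_ne_zero_of_mul_eq_one (B := Qi * (-Jm) * Qiᵀ)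
    have hQ2t : Qᵀ * Qiᵀ = 1 := by rw [← Matrix.transpose_mul, hQ2, Matrix.transpose_one]
    simp only [Matrix.mul_assoc, cancel_left hQ1, cancel_left (J_mul_neg_J (K := K) m), hQ2t]
  · rw [isNSkew_iff_u0 (K := K) d h2]
    have hu : u0 (K := K) d = Qi * g * Q := by
      rw [hgQ]
      simp only [Matrix.mul_assoc, cancel_left hQ2, hQ2, Matrix.mul_one]
    have hQ1t : Qiᵀ * Qᵀ = 1 := by rw [← Matrix.transpose_mul, hQ1, Matrix.transpose_one]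
    rw [hu, Matrix.transpose_mul, Matrix.transpose_mul]
    calc Qᵀ * (gᵀ * Qiᵀ) * (Qᵀ * Jm * Q) * (Qi * g * Q)
        = Qᵀ * (gᵀ * ((Qiᵀ * Qᵀ) * (Jm * ((Q * Qi) * (g * Q))))) := by
          simp only [Matrix.mul_assoc]
      _ = Qᵀ * (gᵀ * Jm * g) * Q := by
          rw [hQ1t, hQ1, Matrix.one_mul, Matrix.one_mul]
          simp only [Matrix.mul_assoc]
      _ = Qᵀ * Jm * Q := by rw [hg]

/-- conjugate symplectic matrices are related to forms in the same orbit -/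
theorem rel_conj (h2 : (2 : K) ≠ 0) {g g' : Matrix (Fin m ⊕ Fin m) (Fin m ⊕ Fin m) K} {Z Z' : Mt}
    (hR : Rel d m g Z) (hR' : Rel d m g' Z')
    {A Ai : Matrix (Fin m ⊕ Fin m) (Fin m ⊕ Fin m) K} (hA1 : A * Ai = 1) (hA2 : Ai * A = 1)
    (hA : Aᵀ * Jm * A = Jm) (hgg : g' = A * g * Ai) :
    ∃ X Xi : Mt, X ∈ commSub (K := K) d ∧ X * Xi = 1 ∧ Xᵀ * Z * X = Z' := by
  obtain ⟨Q, Qi, hQ1, hQ2, hgQ, hZ⟩ := hR
  obtain ⟨Q', Qi', hQ1', hQ2', hgQ', hZ'⟩ := hR'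
  have hAi : Aiᵀ * Jm * Ai = Jm := by
    have hA1t : Aiᵀ * Aᵀ = 1 := by rw [← Matrix.transpose_mul, hA1, Matrix.transpose_one]
    calc Aiᵀ * Jm * Ai = Aiᵀ * (Aᵀ * Jm * A) * Ai := by rw [hA]
      _ = (Aiᵀ * Aᵀ) * Jm * (A * Ai) := by simp only [Matrix.mul_assoc]
      _ = Jm := by rw [hA1t, hA1, Matrix.one_mul, Matrix.mul_one]
  refine ⟨Qi * Ai * Q', Qi' * A * Q, ?_, ?_, ?_⟩
  · rw [mem_commSub_iff_u0 (K := K) d h2]
    have h3 : Q' * u0 (K := K) d = A * (Q * u0 (K := K) d * Qi) * Ai * Q' := by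
      rw [← hgQ, ← hgg, hgQ']
      simp only [Matrix.mul_assoc, hQ2', Matrix.mul_one]
    calc Qi * Ai * Q' * u0 (K := K) d = Qi * Ai * (Q' * u0 (K := K) d) := by simp only [Matrix.mul_assoc]
      _ = Qi * Ai * (A * (Q * u0 (K := K) d * Qi) * Ai * Q') := by rw [h3]
      _ = u0 (K := K) d * (Qi * Ai * Q') := by
          simp only [Matrix.mul_assoc, cancel_left hA2, cancel_left hQ2]
  · simp only [Matrix.mul_assoc, cancel_left hQ1', cancel_left hA2, hQ2]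
  · rw [hZ, hZ', Matrix.transpose_mul, Matrix.transpose_mul]
    have hQ1t : Qiᵀ * Qᵀ = 1 := by rw [← Matrix.transpose_mul, hQ1, Matrix.transpose_one]
    calc Q'ᵀ * (Aiᵀ * Qiᵀ) * (Qᵀ * Jm * Q) * (Qi * Ai * Q')
        = Q'ᵀ * (Aiᵀ * ((Qiᵀ * Qᵀ) * (Jm * ((Q * Qi) * (Ai * Q'))))) := by
          simp only [Matrix.mul_assoc]
      _ = Q'ᵀ * (Aiᵀ * Jm * Ai) * Q' := by
          rw [hQ1t, hQ1, Matrix.one_mul, Matrix.one_mul]
          simp only [Matrix.mul_assoc]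
      _ = Q'ᵀ * Jm * Q' := by rw [hAi]

/-- symplectic matrices related to forms in the same orbit are conjugate -/
theorem conj_of_rel (h2 : (2 : K) ≠ 0) {g g' : Matrix (Fin m ⊕ Fin m) (Fin m ⊕ Fin m) K}
    {Z Z' : Mt} (hR : Rel d m g Z) (hR' : Rel d m g' Z') {X Xi : Mt}
    (hX : X ∈ commSub (K := K) d) (hX1 : X * Xi = 1) (hZZ : Xᵀ * Z * X = Z') :
    ∃ A Ai : Matrix (Fin m ⊕ Fin m) (Fin m ⊕ Fin m) K, A * Ai = 1 ∧ Ai * A = 1 ∧
      Aᵀ * Jm * A = Jm ∧ g' = A * g * Ai := by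
  obtain ⟨Q, Qi, hQ1, hQ2, hgQ, hZ⟩ := hR
  obtain ⟨Q', Qi', hQ1', hQ2', hgQ', hZ'⟩ := hR'
  have hX2 : Xi * X = 1 := mul_eq_one_comm.mp hX1
  have hXu : X * u0 (K := K) d = u0 (K := K) d * X := (mem_commSub_iff_u0 (K := K) d h2 X).mp hX
  refine ⟨Q' * Xi * Qi, Q * X * Qi', ?_, ?_, ?_, ?_⟩
  · simp only [Matrix.mul_assoc, cancel_left hQ2, cancel_left hX2, hQ1']
  · simp only [Matrix.mul_assoc, cancel_left hQ2', cancel_left hX1, hQ1]
  · have hQ1t : Qiᵀ * Qᵀ = 1 := by rw [← Matrix.transpose_mul, hQ1, Matrix.transpose_one]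
    have hX1t : Xiᵀ * Xᵀ = 1 := by rw [← Matrix.transpose_mul, hX1, Matrix.transpose_one]
    rw [Matrix.transpose_mul, Matrix.transpose_mul]
    calc Qiᵀ * (Xiᵀ * Q'ᵀ) * Jm * (Q' * Xi * Qi)
        = Qiᵀ * (Xiᵀ * (Q'ᵀ * Jm * Q') * Xi) * Qi := by simp only [Matrix.mul_assoc]
      _ = Qiᵀ * (Xiᵀ * (Xᵀ * (Qᵀ * Jm * Q) * X) * Xi) * Qi := by rw [← hZ', ← hZZ, hZ]
      _ = (Qiᵀ * ((Xiᵀ * Xᵀ) * Qᵀ)) * Jm * (Q * ((X * Xi) * Qi)) := by
          simp only [Matrix.mul_assoc]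
      _ = Jm := by
          rw [hX1t, hX1, Matrix.one_mul, Matrix.one_mul, hQ1t, hQ1, Matrix.one_mul, Matrix.mul_one]
  · rw [hgQ, hgQ']
    calc Q' * u0 (K := K) d * Qi' = Q' * ((Xi * X) * u0 (K := K) d) * Qi' := by rw [hX2, Matrix.one_mul]
      _ = Q' * (Xi * (u0 (K := K) d * X)) * Qi' := by rw [Matrix.mul_assoc Xi X, hXu]
      _ = Q' * Xi * Qi * (Q * u0 (K := K) d * Qi) * (Q * X * Qi') := by
          simp only [Matrix.mul_assoc, cancel_left hQ2]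

/-- every form comes from a symplectic matrix -/
theorem exists_of_isZ [Fintype K] (h2 : (2 : K) ≠ 0)
    (hcard : Fintype.card ((k : Fin t) × Fin (d k)) = Fintype.card (Fin m ⊕ Fin m))
    {Z : Mt} (hZ : IsZ d Z) :
    ∃ g : Matrix (Fin m ⊕ Fin m) (Fin m ⊕ Fin m) K, gᵀ * Jm * g = Jm ∧ Rel d m g Z ∧
      RankType g (Multiset.map d Finset.univ.val) := by
  have hJdet : (Jm).det ≠ 0 := (Matrix.isUnit_det_J (Fin m) K).ne_zero
  obtain ⟨P, Pi, hP1, hP2, hZP⟩ := congr_alt h2 hcard Z Jm hZ.skew (Matrix.J_transpose (Fin m) K)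
    hZ.det hJdet
  have hu : (u0 (K := K) d)ᵀ * Z * u0 (K := K) d = Z := (isNSkew_iff_u0 (K := K) d h2 Z).mp hZ.nskew
  refine ⟨P * u0 (K := K) d * Pi, ?_, ⟨P, Pi, hP1, hP2, rfl, hZP⟩, rankType_conj_rect hP1 hP2
    (rankType_u0 (K := K) d h2)⟩
  have hP2t : Pᵀ * Piᵀ = 1 := by rw [← Matrix.transpose_mul, hP2, Matrix.transpose_one]
  have hP1t : Piᵀ * Pᵀ = 1 := by rw [← Matrix.transpose_mul, hP1, Matrix.transpose_one]
  have hJ : Jm = Piᵀ * Z * Pi := by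
    rw [hZP]
    simp only [Matrix.mul_assoc, cancel_left hP1t, hP1, Matrix.mul_one]
  rw [Matrix.transpose_mul, Matrix.transpose_mul]
  calc Piᵀ * ((u0 (K := K) d)ᵀ * Pᵀ) * Jm * (P * u0 (K := K) d * Pi)
      = Piᵀ * ((u0 (K := K) d)ᵀ * (Pᵀ * Jm * P) * u0 (K := K) d) * Pi := by simp only [Matrix.mul_assoc]
    _ = Piᵀ * Z * Pi := by rw [← hZP, hu]
    _ = Jm := hJ.symm

end rel

end Cfsg.Agent.Lib.H11.SpCls
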