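import Mathlib
import Cfsg.Agent.Lib.H11.SpCls6

set_option autoImplicit false
set_option linter.unusedSectionVars false

/-!
# The number of unipotent classes of `Sp_{2m}(q)`, `q` odd, of a given Jordan type

The classes of `Sp_{2m}(q)` consisting of matrices of the Jordan type with block sizes `d` are in
bijection with the choices of a square class for every even block size that occurs.
-/

namespace Cfsg.Agent.Lib.H11.SpCls

open Matrix Cfsg.Agent.Lib.H11.GLCent Cfsg.Agent.Lib.H11.GUCent Cfsg.Agent.Lib.H11.Jordan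

variable {K : Type*} [Field K] {t : ℕ} (d : Fin t → ℕ) (hd : ∀ k, 1 ≤ d k)

local notation "Mt" => Matrix ((k : Fin t) × Fin (d k)) ((k : Fin t) × Fin (d k)) K

/-- the even block sizes -/
def evenSizes : Finset ℕ := (Finset.univ.image d).filter (fun j => Even j)

theorem lt_of_mem_evenSizes {j : ℕ} (hj : j ∈ evenSizes d) : j < Finset.univ.sup d + 1 := by
  unfold evenSizes at hj
  rw [Finset.mem_filter, Finset.mem_image] at hj
  obtain ⟨⟨k, -, rfl⟩, -⟩ := hj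
  exact Nat.lt_succ_of_le (Finset.le_sup (f := d) (Finset.mem_univ k))

/-- the index of an even block size -/
def idx (j : ↥(evenSizes d)) : Fin (Finset.univ.sup d + 1) := ⟨j.1, lt_of_mem_evenSizes d j.2⟩

/-- the square classes of the determinants of the leading forms on the even blocks -/
def sgn (Z : Mt) : ↥(evenSizes d) → Prop := fun j => IsSquare (lam d hd Z (idx d j)).det

theorem mem_evenSizes_of_nonempty (i : Fin (Finset.univ.sup d + 1)) (hi : Even (i : ℕ))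
    (hne : Nonempty {k : Fin t // d k = (i : ℕ)}) : (i : ℕ) ∈ evenSizes d := by
  obtain ⟨k, hk⟩ := hne
  unfold evenSizes
  rw [Finset.mem_filter, Finset.mem_image]
  exact ⟨⟨k, Finset.mem_univ _, hk⟩, hi⟩

theorem isSquare_iff_of_sgn_eq {Z Z' : Mt} (h : sgn d hd Z = sgn d hd Z')
    (i : Fin (Finset.univ.sup d + 1)) (hi : Even (i : ℕ)) :
    IsSquare (lam d hd Z i).det ↔ IsSquare (lam d hd Z' i).det := by
  by_cases hne : Nonempty {k : Fin t // d k = (i : ℕ)}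
  · have hmem := mem_evenSizes_of_nonempty d i hi hne
    have h1 := congrFun h ⟨(i : ℕ), hmem⟩
    have h2 : idx d ⟨(i : ℕ), hmem⟩ = i := Fin.ext rfl
    unfold sgn at h1
    rw [h2] at h1
    exact Iff.of_eq h1
  · rw [not_nonempty_iff] at hne
    rw [Matrix.det_isEmpty, Matrix.det_isEmpty]

section finite

variable [Fintype K] (p : ℕ) [Fact p.Prime] [CharP K p]

theorem two_ne_zero_of_char (hp : p ≠ 2) : (2 : K) ≠ 0 := by
  intro h
  have h3 : ((2 : ℕ) : K) = 0 := by exact_mod_cast h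
  rw [CharP.cast_eq_zero_iff K p] at h3
  exact hp ((Nat.prime_dvd_prime_iff_eq (Fact.out : p.Prime) Nat.prime_two).mp h3)

theorem sgn_act {Z X Xi : Mt} (hZ : IsNSkew d Z) (hX : X ∈ commSub (K := K) d) (h1 : X * Xi = 1) :
    sgn d hd (Xᵀ * Z * X) = sgn d hd Z := by
  funext j
  unfold sgn
  exact propext (isSquare_det_lam_act d hd hZ hX h1 (idx d j))

/-- every sign vector occurs -/
theorem exists_sgn (h2 : (2 : K) ≠ 0)
    (hpar : ∀ j : ℕ, Odd j → Even (Fintype.card {k : Fin t // d k = j}))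
    (s : ↥(evenSizes d) → Prop) : ∃ Z : Mt, IsZ d Z ∧ sgn d hd Z = s := by
  obtain ⟨Z, hZ, hs⟩ := exists_sign d hd h2 (fun i hi => hpar (i : ℕ) hi)
    (fun i => ∃ h : (i : ℕ) ∈ evenSizes d, s ⟨(i : ℕ), h⟩)
  refine ⟨Z, hZ, ?_⟩
  funext j
  unfold sgn
  have hj := j.2
  unfold evenSizes at hj
  rw [Finset.mem_filter, Finset.mem_image] at hj
  obtain ⟨⟨k, -, hk⟩, hev⟩ := hj
  have h1 := hs (idx d j) hev ⟨⟨k, hk⟩⟩
  apply propext
  rw [h1]
  constructor
  · rintro ⟨h, hs'⟩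
    exact hs'
  · intro hs'
    exact ⟨j.2, hs'⟩

end finite

section classes

variable {F : Type*} [Field F] [Fintype F] (m : ℕ)


theorem sp_iso (g : ↥(Matrix.symplecticGroup (Fin m) F)) : (g : Matrix (Fin m ⊕ Fin m) (Fin m ⊕ Fin m) F)ᵀ * Matrix.J (Fin m) F *
    (g : Matrix (Fin m ⊕ Fin m) (Fin m ⊕ Fin m) F) = Matrix.J (Fin m) F :=
  SymplecticGroup.mem_iff'.mp g.2

theorem sp_mul_inv (c : ↥(Matrix.symplecticGroup (Fin m) F)) : (c : Matrix (Fin m ⊕ Fin m) (Fin m ⊕ Fin m) F) *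
    ((c⁻¹ : ↥(Matrix.symplecticGroup (Fin m) F)) : Matrix (Fin m ⊕ Fin m) (Fin m ⊕ Fin m) F) = 1 := by
  have := congrArg (fun x : ↥(Matrix.symplecticGroup (Fin m) F) => (x : Matrix (Fin m ⊕ Fin m) (Fin m ⊕ Fin m) F))
    (mul_inv_cancel c)
  exact this

theorem sp_inv_mul (c : ↥(Matrix.symplecticGroup (Fin m) F)) : ((c⁻¹ : ↥(Matrix.symplecticGroup (Fin m) F)) : Matrix (Fin m ⊕ Fin m) (Fin m ⊕ Fin m) F) *
    (c : Matrix (Fin m ⊕ Fin m) (Fin m ⊕ Fin m) F) = 1 := by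
  have := congrArg (fun x : ↥(Matrix.symplecticGroup (Fin m) F) => (x : Matrix (Fin m ⊕ Fin m) (Fin m ⊕ Fin m) F))
    (inv_mul_cancel c)
  exact this

/-- conjugacy in `↥(Matrix.symplecticGroup (Fin m) F)` in terms of matrices -/
theorem sp_isConj_iff (g g' : ↥(Matrix.symplecticGroup (Fin m) F)) : IsConj g g' ↔
    ∃ A Ai : Matrix (Fin m ⊕ Fin m) (Fin m ⊕ Fin m) F, A * Ai = 1 ∧ Ai * A = 1 ∧
      Aᵀ * Matrix.J (Fin m) F * A = Matrix.J (Fin m) F ∧
      (g' : Matrix (Fin m ⊕ Fin m) (Fin m ⊕ Fin m) F) = A * g * Ai := by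
  rw [isConj_iff]
  constructor
  · rintro ⟨c, hc⟩
    refine ⟨c, (c⁻¹ : ↥(Matrix.symplecticGroup (Fin m) F)), sp_mul_inv m c, sp_inv_mul m c, sp_iso m c, ?_⟩
    rw [← hc]
    rfl
  · rintro ⟨A, Ai, h1, h2, hA, hgg⟩
    let c : ↥(Matrix.symplecticGroup (Fin m) F) := ⟨A, SymplecticGroup.mem_iff'.mpr hA⟩
    have hci : ((c⁻¹ : ↥(Matrix.symplecticGroup (Fin m) F)) : Matrix (Fin m ⊕ Fin m) (Fin m ⊕ Fin m) F) = Ai := by
      have h3 := sp_inv_mul m c
      calc ((c⁻¹ : ↥(Matrix.symplecticGroup (Fin m) F)) : Matrix (Fin m ⊕ Fin m) (Fin m ⊕ Fin m) F)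
          = ((c⁻¹ : ↥(Matrix.symplecticGroup (Fin m) F)) : Matrix (Fin m ⊕ Fin m) (Fin m ⊕ Fin m) F) * (A * Ai) := by
            rw [h1, Matrix.mul_one]
        _ = (((c⁻¹ : ↥(Matrix.symplecticGroup (Fin m) F)) : Matrix (Fin m ⊕ Fin m) (Fin m ⊕ Fin m) F) * A) * Ai := by
            rw [Matrix.mul_assoc]
        _ = Ai := by
            change (((c⁻¹ : ↥(Matrix.symplecticGroup (Fin m) F)) : Matrix (Fin m ⊕ Fin m) (Fin m ⊕ Fin m) F) *
              (c : Matrix (Fin m ⊕ Fin m) (Fin m ⊕ Fin m) F)) * Ai = Ai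
            rw [h3, Matrix.one_mul]
    refine ⟨c, ?_⟩
    apply Subtype.ext
    change (c : Matrix (Fin m ⊕ Fin m) (Fin m ⊕ Fin m) F) * g *
      ((c⁻¹ : ↥(Matrix.symplecticGroup (Fin m) F)) : Matrix (Fin m ⊕ Fin m) (Fin m ⊕ Fin m) F) = g'
    rw [hci, hgg]

variable {t' : ℕ} (d' : Fin t' → ℕ) (hd' : ∀ k, 1 ≤ d' k) (p : ℕ) [Fact p.Prime] [CharP F p]

include hd' in
/-- the number of classes of `Sp_{2m}(F)` of a given Jordan type -/
theorem card_classes_of_type (hp : p ≠ 2) (hsum : ∑ k, d' k = 2 * m)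
    (hpar : ∀ j : ℕ, Odd j → Even (Fintype.card {k : Fin t' // d' k = j})) :
    Nat.card {C : ConjClasses ↥(Matrix.symplecticGroup (Fin m) F) // ∃ g : ↥(Matrix.symplecticGroup (Fin m) F), ConjClasses.mk g = C ∧
      RankType (g : Matrix (Fin m ⊕ Fin m) (Fin m ⊕ Fin m) F) (Multiset.map d' Finset.univ.val)} =
      2 ^ (evenSizes d').card := by
  classical
  have h2 : (2 : F) ≠ 0 := two_ne_zero_of_char p hp
  have hcard : Fintype.card ((k : Fin t') × Fin (d' k)) = Fintype.card (Fin m ⊕ Fin m) := by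
    rw [Fintype.card_sigma, Fintype.card_sum, Fintype.card_fin]
    simp only [Fintype.card_fin]
    rw [hsum, two_mul]
  -- choice of a representative and a form for every class
  have key : ∀ C : {C : ConjClasses ↥(Matrix.symplecticGroup (Fin m) F) // ∃ g : ↥(Matrix.symplecticGroup (Fin m) F), ConjClasses.mk g = C ∧
      RankType (g : Matrix (Fin m ⊕ Fin m) (Fin m ⊕ Fin m) F) (Multiset.map d' Finset.univ.val)},
      ∃ (g : ↥(Matrix.symplecticGroup (Fin m) F)) (Z : Matrix ((k : Fin t') × Fin (d' k)) ((k : Fin t') × Fin (d' k)) F),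
        ConjClasses.mk g = C.1 ∧ Rel d' m (g : Matrix (Fin m ⊕ Fin m) (Fin m ⊕ Fin m) F) Z ∧
          IsZ d' Z := by
    rintro ⟨C, g, hg, hT⟩
    obtain ⟨Z, hR, hZ⟩ := exists_rel d' hd' m h2 hcard (sp_iso m g) hT
    exact ⟨g, Z, hg, hR, hZ⟩
  choose rep frm hrep hrel hisZ using key
  have hcount : Nat.card (↥(evenSizes d') → Prop) = 2 ^ (evenSizes d').card := by
    rw [Nat.card_fun, Nat.card_eq_fintype_card, Nat.card_eq_fintype_card, Fintype.card_coe,
      Fintype.card_prop]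
  rw [← hcount]
  apply Nat.card_eq_of_bijective (fun C => sgn d' hd' (frm C))
  constructor
  · intro C C' hCC
    have hCC' : sgn d' hd' (frm C) = sgn d' hd' (frm C') := hCC
    obtain ⟨X, Xi, hX, hX1, hXZ⟩ := exists_act_of_sign d' hd' p hp (hisZ C) (hisZ C')
      (isSquare_iff_of_sgn_eq d' hd' hCC')
    obtain ⟨A, Ai, hA1, hA2, hA, hgg⟩ := conj_of_rel d' m h2 (hrel C) (hrel C') hX hX1 hXZ
    have hconj : IsConj (rep C) (rep C') := (sp_isConj_iff m _ _).mpr ⟨A, Ai, hA1, hA2, hA, hgg⟩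
    apply Subtype.ext
    rw [← hrep C, ← hrep C']
    exact ConjClasses.mk_eq_mk_iff_isConj.mpr hconj
  · intro s
    obtain ⟨Z, hZ, hs⟩ := exists_sgn d' hd' h2 hpar s
    obtain ⟨g, hg, hR, hT⟩ := exists_of_isZ d' m h2 hcard hZ
    let gs : ↥(Matrix.symplecticGroup (Fin m) F) := ⟨g, SymplecticGroup.mem_iff'.mpr hg⟩
    let C : {C : ConjClasses ↥(Matrix.symplecticGroup (Fin m) F) // ∃ g : ↥(Matrix.symplecticGroup (Fin m) F), ConjClasses.mk g = C ∧
      RankType (g : Matrix (Fin m ⊕ Fin m) (Fin m ⊕ Fin m) F) (Multiset.map d' Finset.univ.val)} :=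
      ⟨ConjClasses.mk gs, gs, rfl, hT⟩
    refine ⟨C, ?_⟩
    have hconj : IsConj (rep C) gs := ConjClasses.mk_eq_mk_iff_isConj.mp (hrep C)
    obtain ⟨A, Ai, hA1, hA2, hA, hgg⟩ := (sp_isConj_iff m _ _).mp hconj
    obtain ⟨X, Xi, hX, hX1, hXZ⟩ := rel_conj d' m h2 (hrel C) hR hA1 hA2 hA hgg
    change sgn d' hd' (frm C) = s
    rw [← hs, ← hXZ, sgn_act d' hd' (hisZ C).nskew hX hX1]

end classes

end Cfsg.Agent.Lib.H11.SpCls
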