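import Mathlib
import Cfsg.Agent.Lib.H11.SpCls7
import Cfsg.Agent.Lib.H11.SpType2

set_option autoImplicit false
set_option linter.unusedSectionVars false

/-!
# The Jordan type of a unipotent matrix on an arbitrary index type, and types of symplectic matrices
-/

namespace Cfsg.Agent.Lib.H11.SpCls

open Matrix Cfsg.Agent.Lib.H11.Jordan

section typeOf

variable {K : Type*} [Field K] {ι : Type} [Fintype ι] [DecidableEq ι]

/-- `μ` is the Jordan type of the unipotent matrix `u` -/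
def IsType (u : Matrix ι ι K) (μ : Multiset ℕ) : Prop := RankType u μ ∧ ∀ a ∈ μ, 0 < a

theorem IsType.unique {u : Matrix ι ι K} {μ μ' : Multiset ℕ} (h : IsType u μ) (h' : IsType u μ') :
    μ = μ' := by
  let e : ι ≃ Fin (Fintype.card ι) := Fintype.equivFin ι
  exact ((h.1.reindex e).hasType h.2).unique ((h'.1.reindex e).hasType h'.2)

theorem exists_isType {u : Matrix ι ι K} (hu : IsNilpotent (u - 1)) : ∃ μ, IsType u μ := by
  let e : ι ≃ Fin (Fintype.card ι) := Fintype.equivFin ι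
  have hu' : IsNilpotent (Matrix.reindex e e u - 1) := by
    obtain ⟨k, hk⟩ := hu
    refine ⟨k, ?_⟩
    rw [reindex_sub_one_pow', hk]
    simp
  obtain ⟨μ, hμ⟩ := exists_hasType _ hu'
  exact ⟨μ, hμ.rankType.of_reindex e, hμ.pos⟩

theorem IsType.of_isConj {u u' : Matrix ι ι K} {μ : Multiset ℕ} (h : IsType u μ)
    (hc : IsConj u u') : IsType u' μ := ⟨h.1.of_isConj hc, h.2⟩

theorem IsType.sum {u : Matrix ι ι K} {μ : Multiset ℕ} (h : IsType u μ) :
    μ.sum = Fintype.card ι := by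
  have := h.1 0
  rw [pow_zero, Matrix.rank_one] at this
  rw [this]
  simp

theorem IsType.pow_eq_zero_iff {u : Matrix ι ι K} {μ : Multiset ℕ} (h : IsType u μ) (j : ℕ) :
    (u - 1) ^ j = 0 ↔ ∀ a ∈ μ, a ≤ j := by
  constructor
  · intro h0
    have h1 := h.1 j
    rw [h0, Matrix.rank_zero] at h1
    have h2 := Multiset.sum_eq_zero_iff.mp h1.symm
    intro a ha
    have := h2 (a - j) (Multiset.mem_map.mpr ⟨a, ha, rfl⟩)
    omega
  · intro h0
    apply eq_zero_of_rank_eq_zero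
    rw [h.1 j, Multiset.sum_eq_zero_iff]
    intro x hx
    obtain ⟨a, ha, rfl⟩ := Multiset.mem_map.mp hx
    have := h0 a ha
    omega

theorem IsType.eq_one_iff {u : Matrix ι ι K} {μ : Multiset ℕ} (h : IsType u μ) :
    u = 1 ↔ ∀ a ∈ μ, a = 1 := by
  have h1 := h.pow_eq_zero_iff 1
  rw [pow_one, sub_eq_zero] at h1
  rw [h1]
  constructor
  · intro h2 a ha
    have := h2 a ha
    have := h.2 a ha
    omega
  · intro h2 a ha
    rw [h2 a ha]

/-- the Jordan type of a matrix (junk value `0` if there is none) -/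
noncomputable def typeOf (u : Matrix ι ι K) : Multiset ℕ := by
  classical
  exact if h : ∃ μ, IsType u μ then h.choose else 0

theorem typeOf_eq {u : Matrix ι ι K} {μ : Multiset ℕ} (h : IsType u μ) : typeOf u = μ := by
  have h' : ∃ μ, IsType u μ := ⟨μ, h⟩
  unfold typeOf
  rw [dif_pos h']
  exact h'.choose_spec.unique h

theorem typeOf_conj {u u' : Matrix ι ι K} (h : IsConj u u') : typeOf u = typeOf u' := by
  by_cases h1 : ∃ μ, IsType u μ
  · obtain ⟨μ, hμ⟩ := h1
    rw [typeOf_eq hμ, typeOf_eq (hμ.of_isConj h)]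
  · have h2 : ¬ ∃ μ, IsType u' μ := by
      rintro ⟨μ, hμ⟩
      exact h1 ⟨μ, hμ.of_isConj h.symm⟩
    unfold typeOf
    rw [dif_neg h1, dif_neg h2]

end typeOf

section fin

/-- a multiset as the family of values of a function on `Fin t` -/
theorem exists_fin_fun (μ : Multiset ℕ) :
    ∃ (t : ℕ) (d : Fin t → ℕ), Multiset.map d Finset.univ.val = μ := by
  obtain ⟨l, hl⟩ : ∃ l : List ℕ, (l : Multiset ℕ) = μ := ⟨μ.toList, Multiset.coe_toList μ⟩
  refine ⟨l.length, l.get, ?_⟩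
  rw [Fin.univ_val_map, List.ofFn_get, hl]

theorem card_subtype_eq_count {t : ℕ} (d : Fin t → ℕ) (j : ℕ) :
    Fintype.card {k : Fin t // d k = j} = Multiset.count j (Multiset.map d Finset.univ.val) := by
  rw [Fintype.card_subtype, Multiset.count_map, Finset.card_def, Finset.filter_val]
  congr 1
  apply Multiset.filter_congr
  intro x _
  exact eq_comm

theorem evenSizes_eq {t : ℕ} (d : Fin t → ℕ) :
    evenSizes d = (Multiset.map d Finset.univ.val).toFinset.filter (fun j : ℕ => Even j) := rfl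

end fin

section sp

variable {F : Type*} [Field F] [Fintype F] (m : ℕ)

/-- matrix conjugacy from conjugacy in `Sp` -/
theorem sp_isConj_matrix {g g' : ↥(Matrix.symplecticGroup (Fin m) F)} (h : IsConj g g') :
    IsConj (g : Matrix (Fin m ⊕ Fin m) (Fin m ⊕ Fin m) F)
      (g' : Matrix (Fin m ⊕ Fin m) (Fin m ⊕ Fin m) F) := by
  obtain ⟨A, Ai, h1, h2, -, hgg⟩ := (sp_isConj_iff m g g').mp h
  refine ⟨⟨A, Ai, h1, h2⟩, ?_⟩
  change A * (g : Matrix (Fin m ⊕ Fin m) (Fin m ⊕ Fin m) F) =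
    (g' : Matrix (Fin m ⊕ Fin m) (Fin m ⊕ Fin m) F) * A
  rw [hgg, Matrix.mul_assoc, h2, Matrix.mul_one]

/-- the type of a conjugacy class of `Sp` -/
noncomputable def classType (C : ConjClasses ↥(Matrix.symplecticGroup (Fin m) F)) : Multiset ℕ :=
  Quotient.lift (fun g : ↥(Matrix.symplecticGroup (Fin m) F) =>
    typeOf (g : Matrix (Fin m ⊕ Fin m) (Fin m ⊕ Fin m) F))
    (fun _ _ h => typeOf_conj (sp_isConj_matrix m h)) C

theorem classType_mk (g : ↥(Matrix.symplecticGroup (Fin m) F)) :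
    classType m (ConjClasses.mk g) =
      typeOf (g : Matrix (Fin m ⊕ Fin m) (Fin m ⊕ Fin m) F) := rfl

/-- odd parts of the type of a symplectic matrix have even multiplicity -/
theorem sp_count_even (g : ↥(Matrix.symplecticGroup (Fin m) F)) {μ : Multiset ℕ}
    (h : RankType (g : Matrix (Fin m ⊕ Fin m) (Fin m ⊕ Fin m) F) μ) (j : ℕ) (hj : Odd j) :
    Even (Multiset.count j μ) := by
  apply count_even_of_even_ranks h _ j hj
  intro i
  exact even_rank_of_isometry_alt (Matrix.J (Fin m) F) _ _ (J_alt (K := F))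
    (Matrix.isUnit_det_J (Fin m) F) (sp_mul_inv m g) (sp_iso m g) i

variable (p : ℕ) [Fact p.Prime] [CharP F p]

theorem sp_coe_pow (g : ↥(Matrix.symplecticGroup (Fin m) F)) (k : ℕ) :
    ((g ^ k : ↥(Matrix.symplecticGroup (Fin m) F)) :
      Matrix (Fin m ⊕ Fin m) (Fin m ⊕ Fin m) F) =
      (g : Matrix (Fin m ⊕ Fin m) (Fin m ⊕ Fin m) F) ^ k := rfl

theorem sp_coe_eq_one_iff (g : ↥(Matrix.symplecticGroup (Fin m) F)) :
    (g : Matrix (Fin m ⊕ Fin m) (Fin m ⊕ Fin m) F) = 1 ↔ g = 1 := by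
  constructor
  · intro h
    exact Subtype.ext h
  · rintro rfl
    rfl

/-- elements of order `p` in terms of the Jordan type -/
theorem sp_orderOf_eq_iff (g : ↥(Matrix.symplecticGroup (Fin m) F)) {μ : Multiset ℕ}
    (h : IsType (g : Matrix (Fin m ⊕ Fin m) (Fin m ⊕ Fin m) F) μ) :
    orderOf g = p ↔ (∀ a ∈ μ, a ≤ p) ∧ ¬ ∀ a ∈ μ, a = 1 := by
  rw [orderOf_eq_prime_iff, ← h.pow_eq_zero_iff, ← h.eq_one_iff, sub_one_pow_char p, sub_eq_zero,
    ← sp_coe_pow, sp_coe_eq_one_iff, sp_coe_eq_one_iff]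

theorem sp_exists_isType_of_orderOf (g : ↥(Matrix.symplecticGroup (Fin m) F))
    (h : orderOf g = p) :
    ∃ μ, IsType (g : Matrix (Fin m ⊕ Fin m) (Fin m ⊕ Fin m) F) μ := by
  apply exists_isType
  refine ⟨p, ?_⟩
  rw [sub_one_pow_char p, sub_eq_zero, ← sp_coe_pow, sp_coe_eq_one_iff]
  exact (orderOf_eq_prime_iff.mp h).1

end sp

end Cfsg.Agent.Lib.H11.SpCls
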