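import Cfsg.Agent.Lib.H11.SubspMax3

/-!
Maximality of the stabiliser of an orthogonal decomposition into nondegenerate subspaces in
`Sp_{2m}(F)`: coordinates with respect to the decomposition.
-/

set_option autoImplicit false
set_option linter.unusedSimpArgs false
set_option linter.unusedSectionVars false
set_option linter.unusedVariables false

namespace Cfsg.Agent.Lib.H11.SpImp

open Matrix Module
open Cfsg.Agent.Lib.H28 Cfsg.Agent.Lib.H11.SubspMax
open Cfsg.Agent.Lib.H4 (sympForm_self sympForm_add_left sympForm_add_right sympForm_smul_left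
  sympForm_smul_right sympForm_swap)
open Cfsg.Agent.S0768 (B₀ B₀_apply B₀_alt B₀_nondeg)

variable {F : Type*} [Field F] {m t : ℕ}

local notation "VV" => (Fin m ⊕ Fin m → F)
local notation "GG" => GL (Fin m ⊕ Fin m) F
local notation "MM" => Matrix (Fin m ⊕ Fin m) (Fin m ⊕ Fin m) F

/-- admissible coordinate functions -/
def Adm (D : Fin t → Submodule F (Fin m ⊕ Fin m → F)) (c : Fin t → (Fin m ⊕ Fin m → F)) : Prop :=
  ∀ i, c i ∈ D i

/-- the vector with given coordinates -/
def vec (c : Fin t → (Fin m ⊕ Fin m → F)) : (Fin m ⊕ Fin m → F) := ∑ i, c i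

/-- the properties of the decomposition that we use -/
structure Decomp (D : Fin t → Submodule F (Fin m ⊕ Fin m → F)) : Prop where
  nondeg : ∀ i, ∀ w ∈ D i, w ≠ 0 → ∃ x ∈ D i, Cfsg.sympForm m F w x ≠ 0
  orth : ∀ i j, i ≠ j → ∀ u ∈ D i, ∀ v ∈ D j, Cfsg.sympForm m F u v = 0
  span : ∀ x : Fin m ⊕ Fin m → F, ∃ c, Adm D c ∧ vec c = x

variable {D : Fin t → Submodule F (Fin m ⊕ Fin m → F)}

theorem sympForm_sum_left {ι : Type*} (s : Finset ι) (g : ι → VV) (v : VV) :
    Cfsg.sympForm m F (∑ i ∈ s, g i) v = ∑ i ∈ s, Cfsg.sympForm m F (g i) v := by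
  simp only [← B₀_apply]
  rw [map_sum, LinearMap.sum_apply]

theorem sympForm_sum_right {ι : Type*} (s : Finset ι) (g : ι → VV) (v : VV) :
    Cfsg.sympForm m F v (∑ i ∈ s, g i) = ∑ i ∈ s, Cfsg.sympForm m F v (g i) := by
  simp only [← B₀_apply]
  rw [map_sum]

theorem B_vec (hD : Decomp D) {c c' : Fin t → VV} (hc : Adm D c) (hc' : Adm D c') :
    Cfsg.sympForm m F (vec c) (vec c') = ∑ i, Cfsg.sympForm m F (c i) (c' i) := by
  unfold vec
  rw [sympForm_sum_left]
  apply Finset.sum_congr rfl
  intro i _
  rw [sympForm_sum_right, Finset.sum_eq_single i]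
  · intro j _ hji
    exact hD.orth i j (Ne.symm hji) _ (hc i) _ (hc' j)
  · intro h; exact absurd (Finset.mem_univ i) h

theorem vec_add (c c' : Fin t → VV) : vec (c + c') = vec c + vec c' := by
  unfold vec
  simp [Finset.sum_add_distrib]

theorem vec_eq_add_erase (c : Fin t → VV) (i : Fin t) :
    vec c = c i + ∑ l ∈ Finset.univ.erase i, c l := by
  unfold vec
  rw [Finset.add_sum_erase _ _ (Finset.mem_univ i)]

theorem vec_update (c : Fin t → VV) (i : Fin t) (a : VV) :
    vec (Function.update c i a) = a + ∑ l ∈ Finset.univ.erase i, c l := by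
  rw [vec_eq_add_erase _ i, Function.update_self]
  congr 1
  apply Finset.sum_congr rfl
  intro l hl
  rw [Function.update_of_ne (Finset.ne_of_mem_erase hl)]

theorem Adm.update {c : Fin t → VV} (hc : Adm D c) (i : Fin t) {a : VV} (ha : a ∈ D i) :
    Adm D (Function.update c i a) := by
  intro l
  by_cases hl : l = i
  · subst hl; rw [Function.update_self]; exact ha
  · rw [Function.update_of_ne hl]; exact hc l

theorem rest_perp (hD : Decomp D) {c : Fin t → VV} (hc : Adm D c) (i : Fin t) :
    ∀ u ∈ D i, Cfsg.sympForm m F (∑ l ∈ Finset.univ.erase i, c l) u = 0 := by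
  intro u hu
  rw [sympForm_sum_left]
  apply Finset.sum_eq_zero
  intro l hl
  exact hD.orth l i (Finset.ne_of_mem_erase hl) _ (hc l) _ hu

/-- a matrix mapping `W` into itself in both directions maps it onto itself -/
theorem map_eq_of_le (g : GG) (W : Submodule F VV) (h1 : ∀ x ∈ W, (g : MM) *ᵥ x ∈ W)
    (h2 : ∀ x ∈ W, ((g⁻¹ : GG) : MM) *ᵥ x ∈ W) : W.map (Matrix.toLin' (g : MM)) = W := by
  apply le_antisymm
  · rintro _ ⟨x, hx, rfl⟩
    rw [Matrix.toLin'_apply]; exact h1 x hx
  · intro x hx
    refine ⟨((g⁻¹ : GG) : MM) *ᵥ x, h2 x hx, ?_⟩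
    rw [Matrix.toLin'_apply, gl_mulVec_inv]

section grp
variable {M : Subgroup (GL (Fin m ⊕ Fin m) F)}

/-- the transvections at vectors of the blocks stabilise the decomposition -/
theorem stv_mem_stab (hD : Decomp D) (i : Fin t) (v : VV) (hv : v ∈ D i) (c : F) :
    stv v c ∈ Cfsg.Geo.decompositionStabilizer D ⊓ Cfsg.spGL m F := by
  refine ⟨⟨1, fun j => ?_⟩, stv_mem_spGL v c⟩
  rw [Equiv.Perm.one_apply]
  have key : ∀ (c : F) (x : VV), x ∈ D j → ((stv v c : GG) : MM) *ᵥ x ∈ D j := by
    intro c x hx
    rw [stv_mulVec]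
    by_cases hji : j = i
    · subst hji
      exact (D j).add_mem hx ((D j).smul_mem _ hv)
    · rw [hD.orth j i hji x hx v hv, mul_zero, zero_smul, add_zero]; exact hx
  apply map_eq_of_le
  · exact key c
  · intro x hx
    have : (stv v c)⁻¹ = stv v (-c) := by
      rw [inv_eq_iff_mul_eq_one]
      apply gl_ext
      intro y
      rw [gl_mul_mulVec, stv_mulVec, stv_mulVec, Units.val_one, Matrix.one_mulVec,
        sympForm_add_left, sympForm_smul_left, sympForm_self, mul_zero, add_zero, add_assoc,
        ← add_smul]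
      have : (-c * Cfsg.sympForm m F y v + c * Cfsg.sympForm m F y v) = 0 := by ring
      rw [this, zero_smul, add_zero]
    rw [this]
    exact key (-c) x hx

theorem block_sub_Scl (hD : Decomp D)
    (hNM : Cfsg.Geo.decompositionStabilizer D ⊓ Cfsg.spGL m F ≤ M) (i : Fin t) :
    ∀ v ∈ D i, v ∈ Scl M := fun v hv c => hNM (stv_mem_stab hD i v hv c)

/-- changing one nonzero coordinate to another nonzero value -/
theorem move_coord (hD : Decomp D) (hMS : M ≤ Cfsg.spGL m F)
    (hNM : Cfsg.Geo.decompositionStabilizer D ⊓ Cfsg.spGL m F ≤ M)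
    {c : Fin t → VV} (hc : Adm D c) (h : vec c ∈ Scl M) (i : Fin t) (hi : c i ≠ 0)
    {a : VV} (ha : a ∈ D i) (ha0 : a ≠ 0) : vec (Function.update c i a) ∈ Scl M := by
  rw [vec_update]
  rw [vec_eq_add_erase c i] at h
  exact move hMS (D i) (block_sub_Scl hD hNM i) (hD.nondeg i) _ (rest_perp hD hc i) (hc i) ha hi
    ha0 h

/-- vectors with the same support as a vector of `Scl M` are in `Scl M` -/
theorem same_support (hD : Decomp D) (hMS : M ≤ Cfsg.spGL m F)
    (hNM : Cfsg.Geo.decompositionStabilizer D ⊓ Cfsg.spGL m F ≤ M)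
    {c c' : Fin t → VV} (hc : Adm D c) (hc' : Adm D c') (h : vec c ∈ Scl M)
    (hs : ∀ i, c i = 0 ↔ c' i = 0) : vec c' ∈ Scl M := by
  classical
  have key : ∀ T : Finset (Fin t), vec (fun i => if i ∈ T then c' i else c i) ∈ Scl M := by
    intro T
    induction T using Finset.induction_on with
    | empty => simpa using h
    | insert i T hiT ih =>
      have hadm : Adm D (fun l => if l ∈ T then c' l else c l) := by
        intro l
        by_cases hl : l ∈ T
        · simp only [hl, if_true]; exact hc' l
        · simp only [hl, if_false]; exact hc l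
      have e : (fun l => if l ∈ insert i T then c' l else c l) =
          Function.update (fun l => if l ∈ T then c' l else c l) i (c' i) := by
        funext l
        by_cases hl : l = i
        · subst hl; simp
        · rw [Function.update_of_ne hl]
          simp [Finset.mem_insert, hl]
      rw [e]
      by_cases hci : c i = 0
      · have hc'i : c' i = 0 := (hs i).1 hci
        have : Function.update (fun l => if l ∈ T then c' l else c l) i (c' i) =
            (fun l => if l ∈ T then c' l else c l) := by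
          apply Function.update_eq_self_iff.2
          simp [hiT, hci, hc'i]
        rw [this]; exact ih
      · have hc'i : c' i ≠ 0 := fun h0 => hci ((hs i).2 h0)
        apply move_coord hD hMS hNM hadm ih i _ (hc' i) hc'i
        simp [hiT, hci]
  have := key Finset.univ
  simpa using this

end grp

end Cfsg.Agent.Lib.H11.SpImp
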