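import Cfsg.Agent.Lib.H11.SpImp1

set_option autoImplicit false
set_option linter.unusedSimpArgs false
set_option linter.unusedSectionVars false
set_option linter.unusedVariables false

namespace Cfsg.Agent.Lib.H11.SpImp

open Matrix Module
open Cfsg.Agent.Lib.H28 Cfsg.Agent.Lib.H11.SubspMax
open Cfsg.Agent.Lib.H4 (sympForm_self sympForm_add_left sympForm_add_right sympForm_smul_left
  sympForm_smul_right sympForm_swap)
open Cfsg.Agent.S0768 (B₀ B₀_apply B₀_alt B₀_nondeg)

variable {F : Type*} [Field F] {m t : ℕ}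

local notation "VV" => (Fin m ⊕ Fin m → F)
local notation "GG" => GL (Fin m ⊕ Fin m) F
local notation "MM" => Matrix (Fin m ⊕ Fin m) (Fin m ⊕ Fin m) F

variable {D : Fin t → Submodule F (Fin m ⊕ Fin m → F)}
variable {M : Subgroup (GL (Fin m ⊕ Fin m) F)}

/-- the gadgets: in each block a non-orthogonal pair and an orthogonal pair with nonzero sum -/
structure Gadget (D : Fin t → Submodule F (Fin m ⊕ Fin m → F)) : Prop where
  nonorth : ∀ i, ∃ e e' : Fin m ⊕ Fin m → F, e ∈ D i ∧ e' ∈ D i ∧ Cfsg.sympForm m F e e' ≠ 0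
  orth : ∀ i, ∃ e e' : Fin m ⊕ Fin m → F, e ∈ D i ∧ e' ∈ D i ∧ e ≠ 0 ∧ e' ≠ 0 ∧ e + e' ≠ 0 ∧
    Cfsg.sympForm m F e e' = 0

theorem ne_zero_of_nonorth {e e' : VV} (h : Cfsg.sympForm m F e e' ≠ 0) :
    e ≠ 0 ∧ e' ≠ 0 ∧ e + e' ≠ 0 := by
  refine ⟨?_, ?_, ?_⟩
  · rintro rfl; exact h (sympForm_zero_left e')
  · rintro rfl; exact h (sympForm_zero_right e)
  · intro h0
    apply h
    have : e' = -e := by rw [eq_neg_iff_add_eq_zero, add_comm]; exact h0
    rw [this, ← neg_one_smul F e, sympForm_smul_right, sympForm_self, mul_zero]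

/-- dropping one coordinate -/
theorem drop (hD : Decomp D) (hG : Gadget D) (hMS : M ≤ Cfsg.spGL m F)
    (hNM : Cfsg.Geo.decompositionStabilizer D ⊓ Cfsg.spGL m F ≤ M)
    {c : Fin t → VV} (hc : Adm D c) (h : vec c ∈ Scl M) (i l0 : Fin t) (hi : c i ≠ 0)
    (hl0 : c l0 ≠ 0) (hil : l0 ≠ i) :
    ∃ c'' : Fin t → VV, Adm D c'' ∧ vec c'' ∈ Scl M ∧ ∀ l, (c'' l = 0 ↔ (l = i ∨ c l = 0)) := by
  classical
  obtain ⟨e0, e0', he0, he0', hne0⟩ := hG.nonorth l0
  obtain ⟨h0a, h0b, h0c⟩ := ne_zero_of_nonorth hne0
  choose eo eo' heo heo' heo0 heo'0 heos heoB using hG.orth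
  obtain ⟨c1, hc1⟩ : ∃ c1 : Fin t → VV, c1 = fun l =>
      if l = i then c i else if l = l0 then e0 else if c l = 0 then 0 else eo l := ⟨_, rfl⟩
  obtain ⟨c2, hc2⟩ : ∃ c2 : Fin t → VV, c2 = fun l =>
      if l = i then -c i else if l = l0 then e0' else if c l = 0 then 0 else eo' l := ⟨_, rfl⟩
  have hadm1 : Adm D c1 := by
    intro l
    rw [hc1]
    by_cases h1 : l = i
    · subst h1; simp only [if_true]; exact hc l
    · by_cases h2 : l = l0
      · subst h2; simp only [h1, if_false, if_true]; exact he0
      · by_cases h3 : c l = 0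
        · simp only [h1, h2, h3, if_false, if_true]; exact (D l).zero_mem
        · simp only [h1, h2, h3, if_false]; exact heo l
  have hadm2 : Adm D c2 := by
    intro l
    rw [hc2]
    by_cases h1 : l = i
    · subst h1; simp only [if_true]; exact (D l).neg_mem (hc l)
    · by_cases h2 : l = l0
      · subst h2; simp only [h1, if_false, if_true]; exact he0'
      · by_cases h3 : c l = 0
        · simp only [h1, h2, h3, if_false, if_true]; exact (D l).zero_mem
        · simp only [h1, h2, h3, if_false]; exact heo' l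
  have hs1 : ∀ l, c l = 0 ↔ c1 l = 0 := by
    intro l
    rw [hc1]
    by_cases h1 : l = i
    · subst h1; simp only [if_true]
    · by_cases h2 : l = l0
      · subst h2; simp only [h1, if_false, if_true]
        exact ⟨fun h => absurd h hl0, fun h => absurd h h0a⟩
      · by_cases h3 : c l = 0
        · simp only [h1, h2, h3, if_false, if_true]
        · simp only [h1, h2, h3, if_false]
          exact ⟨False.elim, fun h => absurd h (heo0 l)⟩
  have hs2 : ∀ l, c l = 0 ↔ c2 l = 0 := by
    intro l
    rw [hc2]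
    by_cases h1 : l = i
    · subst h1; simp only [if_true, neg_eq_zero]
    · by_cases h2 : l = l0
      · subst h2; simp only [h1, if_false, if_true]
        exact ⟨fun h => absurd h hl0, fun h => absurd h h0b⟩
      · by_cases h3 : c l = 0
        · simp only [h1, h2, h3, if_false, if_true]
        · simp only [h1, h2, h3, if_false]
          exact ⟨False.elim, fun h => absurd h (heo'0 l)⟩
  have hS1 : vec c1 ∈ Scl M := same_support hD hMS hNM hc hadm1 h hs1
  have hS2 : vec c2 ∈ Scl M := same_support hD hMS hNM hc hadm2 h hs2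
  have hB : Cfsg.sympForm m F (vec c1) (vec c2) = Cfsg.sympForm m F e0 e0' := by
    rw [B_vec hD hadm1 hadm2, Finset.sum_eq_single l0]
    · rw [hc1, hc2]; simp only [hil, if_false, if_true]
    · intro l _ hl
      rw [hc1, hc2]
      by_cases h1 : l = i
      · subst h1
        simp only [if_true]
        rw [← neg_one_smul F (c l), sympForm_smul_right, sympForm_self, mul_zero]
      · by_cases h3 : c l = 0
        · simp only [h1, hl, h3, if_false, if_true]
          exact sympForm_zero_left _
        · simp only [h1, hl, h3, if_false]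
          exact heoB l
    · intro h; exact absurd (Finset.mem_univ l0) h
  have hsum : vec c1 + vec c2 ∈ Scl M := by
    apply Scl_add' hMS hS2 hS1
    rw [hB]; exact hne0
  refine ⟨c1 + c2, ?_, ?_, ?_⟩
  · intro l
    rw [Pi.add_apply]
    exact (D l).add_mem (hadm1 l) (hadm2 l)
  · rw [vec_add]; exact hsum
  · intro l
    rw [Pi.add_apply, hc1, hc2]
    by_cases h1 : l = i
    · subst h1; simp
    · by_cases h2 : l = l0
      · subst h2
        simp only [h1, if_false, if_true, false_or]
        exact ⟨fun h => absurd h h0c, fun h => absurd h hl0⟩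
      · by_cases h3 : c l = 0
        · simp [h1, h2, h3]
        · simp only [h1, h2, h3, if_false, false_or]
          exact ⟨fun h => absurd h (heos l), False.elim⟩

open Classical in
/-- every vector whose support is contained in that of a vector of `Scl M` is in `Scl M` -/
theorem sub_support (hD : Decomp D) (hG : Gadget D) (hMS : M ≤ Cfsg.spGL m F)
    (hNM : Cfsg.Geo.decompositionStabilizer D ⊓ Cfsg.spGL m F ≤ M) :
    ∀ (n : ℕ) (c : Fin t → VV), Adm D c → vec c ∈ Scl M →
      (Finset.univ.filter (fun i => c i ≠ 0)).card = n →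
      ∀ c' : Fin t → VV, Adm D c' → (∀ i, c i = 0 → c' i = 0) → vec c' ∈ Scl M := by
  classical
  intro n
  induction n using Nat.strong_induction_on with
  | _ n ih =>
    intro c hc h hn c' hc' hsub
    by_cases hsame : ∀ i, c' i = 0 → c i = 0
    · exact same_support hD hMS hNM hc hc' h (fun i => ⟨hsub i, hsame i⟩)
    push Not at hsame
    obtain ⟨i, hc'i, hci⟩ := hsame
    by_cases hzero : ∀ l, c' l = 0
    · have : vec c' = 0 := by
        unfold vec
        exact Finset.sum_eq_zero (fun l _ => hzero l)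
      rw [this]; exact Scl_zero
    push Not at hzero
    obtain ⟨l0, hl0⟩ := hzero
    have hcl0 : c l0 ≠ 0 := fun h0 => hl0 (hsub l0 h0)
    have hil : l0 ≠ i := by
      rintro rfl
      exact hl0 hc'i
    obtain ⟨c'', hadm, hS, hsupp⟩ := drop hD hG hMS hNM hc h i l0 hci hcl0 hil
    have hlt : (Finset.univ.filter (fun l => c'' l ≠ 0)).card < n := by
      rw [← hn]
      apply Finset.card_lt_card
      rw [Finset.ssubset_iff_of_subset]
      · refine ⟨i, ?_, ?_⟩
        · simp [hci]
        · simp [(hsupp i).2 (Or.inl rfl)]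
      · intro l hl
        simp only [Finset.mem_filter, Finset.mem_univ, true_and] at hl ⊢
        intro h0
        exact hl ((hsupp l).2 (Or.inr h0))
    apply ih _ hlt c'' hadm hS rfl c' hc'
    intro l hl
    rcases (hsupp l).1 hl with h1 | h1
    · rw [h1]; exact hc'i
    · exact hsub l h1

/-- all vectors supported on `I` are in `Scl M` -/
def Full (M : Subgroup (GL (Fin m ⊕ Fin m) F)) (D : Fin t → Submodule F (Fin m ⊕ Fin m → F))
    (I : Finset (Fin t)) : Prop :=
  ∀ c : Fin t → (Fin m ⊕ Fin m → F), Adm D c → (∀ i, i ∉ I → c i = 0) → vec c ∈ Scl M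

theorem full_of_mem (hD : Decomp D) (hG : Gadget D) (hMS : M ≤ Cfsg.spGL m F)
    (hNM : Cfsg.Geo.decompositionStabilizer D ⊓ Cfsg.spGL m F ≤ M)
    {c : Fin t → VV} (hc : Adm D c) (h : vec c ∈ Scl M) (I : Finset (Fin t))
    (hI : ∀ i, i ∈ I → c i ≠ 0) : Full M D I := by
  intro c' hc' hsupp
  apply sub_support hD hG hMS hNM _ c hc h rfl c' hc'
  intro i hi
  by_contra hne
  exact hne (hsupp i (fun hiI => hI i hiI hi))

/-- joining two full sets with a common index -/
theorem full_union (hD : Decomp D) (hG : Gadget D) (hMS : M ≤ Cfsg.spGL m F)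
    (hNM : Cfsg.Geo.decompositionStabilizer D ⊓ Cfsg.spGL m F ≤ M)
    {I I' : Finset (Fin t)} (hI : Full M D I) (hI' : Full M D I') (j : Fin t) (hjI : j ∈ I)
    (hjI' : j ∈ I') : Full M D (I ∪ I') := by
  classical
  obtain ⟨e0, e0', he0, he0', hne0⟩ := hG.nonorth j
  obtain ⟨h0a, h0b, h0c⟩ := ne_zero_of_nonorth hne0
  choose eo eo' heo heo' heo0 heo'0 heos heoB using hG.orth
  obtain ⟨c1, hc1⟩ : ∃ c1 : Fin t → VV, c1 = fun l =>
      if l = j then e0 else if l ∈ I then eo l else 0 := ⟨_, rfl⟩
  obtain ⟨c2, hc2⟩ : ∃ c2 : Fin t → VV, c2 = fun l =>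
      if l = j then e0' else if l ∈ I' then eo' l else 0 := ⟨_, rfl⟩
  have hadm1 : Adm D c1 := by
    intro l
    rw [hc1]
    by_cases h1 : l = j
    · subst h1; simp only [if_true]; exact he0
    · by_cases h2 : l ∈ I
      · simp only [h1, h2, if_false, if_true]; exact heo l
      · simp only [h1, h2, if_false]; exact (D l).zero_mem
  have hadm2 : Adm D c2 := by
    intro l
    rw [hc2]
    by_cases h1 : l = j
    · subst h1; simp only [if_true]; exact he0'
    · by_cases h2 : l ∈ I'
      · simp only [h1, h2, if_false, if_true]; exact heo' l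
      · simp only [h1, h2, if_false]; exact (D l).zero_mem
  have hS1 : vec c1 ∈ Scl M := by
    apply hI c1 hadm1
    intro l hl
    have h1 : l ≠ j := by rintro rfl; exact hl hjI
    rw [hc1]; simp only [h1, hl, if_false]
  have hS2 : vec c2 ∈ Scl M := by
    apply hI' c2 hadm2
    intro l hl
    have h1 : l ≠ j := by rintro rfl; exact hl hjI'
    rw [hc2]; simp only [h1, hl, if_false]
  have hB : Cfsg.sympForm m F (vec c1) (vec c2) = Cfsg.sympForm m F e0 e0' := by
    rw [B_vec hD hadm1 hadm2, Finset.sum_eq_single j]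
    · rw [hc1, hc2]; simp only [if_true]
    · intro l _ hl
      rw [hc1, hc2]
      by_cases h2 : l ∈ I
      · by_cases h3 : l ∈ I'
        · simp only [hl, h2, h3, if_false, if_true]; exact heoB l
        · simp only [hl, h2, h3, if_false, if_true]; exact sympForm_zero_right _
      · simp only [hl, h2, if_false]; exact sympForm_zero_left _
    · intro h; exact absurd (Finset.mem_univ j) h
  have hsum : vec (c1 + c2) ∈ Scl M := by
    rw [vec_add]
    apply Scl_add' hMS hS2 hS1
    rw [hB]; exact hne0
  have hadm : Adm D (c1 + c2) := by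
    intro l
    rw [Pi.add_apply]
    exact (D l).add_mem (hadm1 l) (hadm2 l)
  apply full_of_mem hD hG hMS hNM hadm hsum
  intro l hl
  rw [Pi.add_apply, hc1, hc2]
  by_cases h1 : l = j
  · subst h1; simp only [if_true]; exact h0c
  · by_cases h2 : l ∈ I
    · by_cases h3 : l ∈ I'
      · simp only [h1, h2, h3, if_false, if_true]; exact heos l
      · simp only [h1, h2, h3, if_false, if_true, add_zero]; exact heo0 l
    · have h3 : l ∈ I' := by
        rcases Finset.mem_union.1 hl with h | h
        · exact absurd h h2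
        · exact h
      simp only [h1, h2, h3, if_false, if_true, zero_add]; exact heo'0 l

end Cfsg.Agent.Lib.H11.SpImp
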