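import Cfsg.Agent.Lib.H11.SpImp2

set_option autoImplicit false
set_option linter.unusedSimpArgs false
set_option linter.unusedSectionVars false
set_option linter.unusedVariables false

namespace Cfsg.Agent.Lib.H11.SpImp

open Matrix Module
open Cfsg.Agent.Lib.H28 Cfsg.Agent.Lib.H11.SubspMax
open Cfsg.Agent.Lib.H4 (sympForm_self sympForm_add_left sympForm_add_right sympForm_smul_left
  sympForm_smul_right sympForm_swap)
open Cfsg.Agent.S0768 (B₀ B₀_apply B₀_alt B₀_nondeg)

variable {F : Type*} [Field F] {m t : ℕ}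

local notation "VV" => (Fin m ⊕ Fin m → F)
local notation "GG" => GL (Fin m ⊕ Fin m) F
local notation "MM" => Matrix (Fin m ⊕ Fin m) (Fin m ⊕ Fin m) F

variable {D : Fin t → Submodule F (Fin m ⊕ Fin m → F)}
variable {M : Subgroup (GL (Fin m ⊕ Fin m) F)}

theorem Full.mono {I I' : Finset (Fin t)} (h : Full M D I) (hsub : I' ⊆ I) : Full M D I' := by
  intro c hc hsupp
  exact h c hc (fun i hi => hsupp i (fun hi' => hi (hsub hi')))

/-- transport of a full set by an element of `M` permuting the blocks -/
theorem full_perm (hMS : M ≤ Cfsg.spGL m F) (g : GG) (hg : g ∈ M) (π : Equiv.Perm (Fin t))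
    (hgD : ∀ i, (D i).map (Matrix.toLin' (g : MM)) = D (π i)) {I : Finset (Fin t)}
    (hI : Full M D I) : Full M D (I.image π) := by
  intro c hc hsupp
  obtain ⟨c', hc'⟩ : ∃ c' : Fin t → VV, c' = fun i => ((g⁻¹ : GG) : MM) *ᵥ c (π i) := ⟨_, rfl⟩
  have hadm : Adm D c' := by
    intro i
    have h1 : c (π i) ∈ (D i).map (Matrix.toLin' (g : MM)) := by rw [hgD i]; exact hc (π i)
    obtain ⟨y, hy, hy2⟩ := h1
    rw [hc']
    show ((g⁻¹ : GG) : MM) *ᵥ c (π i) ∈ D i
    rw [← hy2, Matrix.toLin'_apply, gl_inv_mulVec]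
    exact hy
  have hsupp' : ∀ i, i ∉ I → c' i = 0 := by
    intro i hi
    rw [hc']
    show ((g⁻¹ : GG) : MM) *ᵥ c (π i) = 0
    rw [hsupp (π i), Matrix.mulVec_zero]
    intro hmem
    obtain ⟨i', hi', he⟩ := Finset.mem_image.1 hmem
    rw [π.injective he] at hi'
    exact hi hi'
  have h1 := hI c' hadm hsupp'
  have h2 := Scl_inv hMS hg h1
  have h3 : (g : MM) *ᵥ vec c' = vec c := by
    unfold vec
    rw [Matrix.mulVec_sum]
    rw [← Equiv.sum_comp π c]
    apply Finset.sum_congr rfl
    intro i _
    rw [hc']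
    show (g : MM) *ᵥ (((g⁻¹ : GG) : MM) *ᵥ c (π i)) = c (π i)
    rw [gl_mulVec_inv]
  rw [h3] at h2
  exact h2

/-- an element of `M` outside the stabiliser gives a vector of `Scl M` with two nonzero
coordinates -/
theorem exists_two (hD : Decomp D) (hG : Gadget D)
    (hfr : ∀ i j, finrank F (D i) = finrank F (D j)) (hMS : M ≤ Cfsg.spGL m F)
    (hNM : Cfsg.Geo.decompositionStabilizer D ⊓ Cfsg.spGL m F ≤ M) (h : GG) (hhM : h ∈ M)
    (hh : h ∉ Cfsg.Geo.decompositionStabilizer D) :
    ∃ c : Fin t → VV, Adm D c ∧ vec c ∈ Scl M ∧ ∃ j1 j2, j1 ≠ j2 ∧ c j1 ≠ 0 ∧ c j2 ≠ 0 := by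
  classical
  have hSp := hMS hhM
  -- a vector of a block mapped outside all blocks
  obtain ⟨i, x, hx, hxout⟩ : ∃ i, ∃ x ∈ D i, ∀ j, (h : MM) *ᵥ x ∉ D j := by
    by_contra hcon
    push Not at hcon
    apply hh
    -- each block is mapped into a block
    have hblock : ∀ i, ∃ j, ∀ y ∈ D i, (h : MM) *ᵥ y ∈ D j := by
      intro i
      obtain ⟨e, e', he, he', hne⟩ := hG.nonorth i
      obtain ⟨j0, hj0⟩ := hcon i e he
      refine ⟨j0, ?_⟩
      have hcase : ∀ y ∈ D i, Cfsg.sympForm m F e y ≠ 0 → (h : MM) *ᵥ y ∈ D j0 := by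
        intro y hy hey
        obtain ⟨j, hj⟩ := hcon i y hy
        by_cases hjj : j = j0
        · rw [← hjj]; exact hj
        · exfalso
          apply hey
          rw [← (mem_spGL_iff h).1 hSp e y]
          exact hD.orth j0 j (Ne.symm hjj) _ hj0 _ hj
      intro y hy
      by_cases hey : Cfsg.sympForm m F e y = 0
      · have h1 : (h : MM) *ᵥ (y + e') ∈ D j0 := by
          apply hcase _ ((D i).add_mem hy he')
          rw [sympForm_add_right, hey, zero_add]; exact hne
        have h2 : (h : MM) *ᵥ e' ∈ D j0 := hcase e' he' hne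
        rw [Matrix.mulVec_add] at h1
        exact ((D j0).add_mem_iff_left h2).1 h1
      · exact hcase y hy hey
    choose σ hσ using hblock
    have hmap : ∀ i, (D i).map (Matrix.toLin' (h : MM)) = D (σ i) := by
      intro i
      apply Submodule.eq_of_le_of_finrank_eq
      · rintro _ ⟨y, hy, rfl⟩
        rw [Matrix.toLin'_apply]; exact hσ i y hy
      · have hinj : Function.Injective (Matrix.toLin' (h : MM)) := by
          intro a b hab
          rw [Matrix.toLin'_apply, Matrix.toLin'_apply] at hab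
          exact gl_mulVec_injective h hab
        rw [← hfr i (σ i)]
        exact (Submodule.equivMapOfInjective _ hinj (D i)).symm.finrank_eq
    have hσinj : Function.Injective σ := by
      intro i i' hii
      by_contra hne
      obtain ⟨e, e', he, he', hnee⟩ := hG.nonorth i
      have h1 : (D i).map (Matrix.toLin' (h : MM)) = (D i').map (Matrix.toLin' (h : MM)) := by
        rw [hmap i, hmap i', hii]
      have hinj : Function.Injective (Matrix.toLin' (h : MM)) := by
        intro a b hab
        rw [Matrix.toLin'_apply, Matrix.toLin'_apply] at hab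
        exact gl_mulVec_injective h hab
      have h2 : D i = D i' := Submodule.map_injective_of_injective hinj h1
      apply hnee
      apply hD.orth i i' hne e he e'
      rw [← h2]; exact he'
    have hσbij : Function.Bijective σ := Finite.injective_iff_bijective.1 hσinj
    exact ⟨Equiv.ofBijective σ hσbij, fun i => by rw [hmap i]; rfl⟩
  obtain ⟨c, hc, hcx⟩ := hD.span ((h : MM) *ᵥ x)
  refine ⟨c, hc, ?_, ?_⟩
  · rw [hcx]
    exact Scl_inv hMS hhM (block_sub_Scl hD hNM i x hx)
  · by_contra hcon
    push Not at hcon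
    by_cases hex : ∃ j1, c j1 ≠ 0
    · obtain ⟨j1, hj1⟩ := hex
      have : vec c = c j1 := by
        unfold vec
        apply Finset.sum_eq_single j1
        · intro l _ hl
          by_contra hcl
          exact hcl (by
            have := hcon j1 l (Ne.symm hl) hj1
            exact this)
        · intro h; exact absurd (Finset.mem_univ j1) h
      apply hxout j1
      rw [← hcx, this]; exact hc j1
    · push Not at hex
      have : vec c = 0 := by
        unfold vec
        exact Finset.sum_eq_zero (fun l _ => hex l)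
      apply hxout i
      rw [← hcx, this]; exact (D i).zero_mem

/-- the final step: from a full set with two elements to everything -/
theorem scl_all (hD : Decomp D) (hG : Gadget D) (hMS : M ≤ Cfsg.spGL m F)
    (hNM : Cfsg.Geo.decompositionStabilizer D ⊓ Cfsg.spGL m F ≤ M)
    (hperm : ∀ a b : Fin t, a ≠ b → ∃ g ∈ Cfsg.Geo.decompositionStabilizer D ⊓ Cfsg.spGL m F,
      ∀ i, (D i).map (Matrix.toLin' (g : MM)) = D (Equiv.swap a b i))
    {c : Fin t → VV} (hc : Adm D c) (h : vec c ∈ Scl M) (j1 j2 : Fin t) (hj : j1 ≠ j2)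
    (h1 : c j1 ≠ 0) (h2 : c j2 ≠ 0) : ∀ v : VV, v ∈ Scl M := by
  classical
  have hI0 : Full M D {j1, j2} := by
    apply full_of_mem hD hG hMS hNM hc h
    intro i hi
    rcases Finset.mem_insert.1 hi with h | h
    · rw [h]; exact h1
    · rw [Finset.mem_singleton.1 h]; exact h2
  have key : ∀ J : Finset (Fin t), Full M D ({j1, j2} ∪ J) := by
    intro J
    induction J using Finset.induction_on with
    | empty => simpa using hI0
    | insert l J hlJ ih =>
      by_cases hl : l ∈ ({j1, j2} ∪ J : Finset (Fin t))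
      · have : ({j1, j2} ∪ insert l J : Finset (Fin t)) = {j1, j2} ∪ J := by
          ext x
          simp only [Finset.mem_union, Finset.mem_insert, Finset.mem_singleton] at hl ⊢
          constructor
          · rintro (h | h | h)
            · exact Or.inl h
            · rw [h]; exact hl
            · exact Or.inr h
          · rintro (h | h)
            · exact Or.inl h
            · exact Or.inr (Or.inr h)
        rw [this]; exact ih
      · have hlj1 : l ≠ j1 := by
          rintro rfl; apply hl; simp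
        have hlj2 : l ≠ j2 := by
          rintro rfl; apply hl; simp
        obtain ⟨g, hg, hgD⟩ := hperm j2 l (Ne.symm hlj2)
        have hfull2 := full_perm hMS g (hNM hg) (Equiv.swap j2 l) hgD ih
        have hj1a : j1 ∈ ({j1, j2} ∪ J : Finset (Fin t)) := by simp
        have hj1b : j1 ∈ (({j1, j2} ∪ J : Finset (Fin t)).image (Equiv.swap j2 l)) := by
          rw [Finset.mem_image]
          exact ⟨j1, hj1a, Equiv.swap_apply_of_ne_of_ne hj (Ne.symm hlj1)⟩
        have hU := full_union hD hG hMS hNM ih hfull2 j1 hj1a hj1b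
        apply hU.mono
        intro x hx
        rcases Finset.mem_union.1 hx with h | h
        · exact Finset.mem_union_left _ (Finset.mem_union_left _ h)
        · rcases Finset.mem_insert.1 h with h | h
          · apply Finset.mem_union_right
            rw [Finset.mem_image]
            refine ⟨j2, by simp, ?_⟩
            rw [h, Equiv.swap_apply_left]
          · exact Finset.mem_union_left _ (Finset.mem_union_right _ h)
  intro v
  obtain ⟨c', hc', hv⟩ := hD.span v
  rw [← hv]
  exact key Finset.univ c' hc' (fun i hi => absurd (Finset.mem_union_right _ (Finset.mem_univ i)) hi)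

/-- the stabiliser is a proper subgroup -/
theorem stab_lt (hD : Decomp D) (hG : Gadget D) (i1 i2 : Fin t) (hi : i1 ≠ i2) :
    Cfsg.Geo.decompositionStabilizer D ⊓ Cfsg.spGL m F < Cfsg.spGL m F := by
  refine lt_of_le_of_ne inf_le_right ?_
  intro heq
  obtain ⟨x, e1, hx, he1, hne⟩ := hG.nonorth i1
  obtain ⟨e2, z, he2, hz, hne2⟩ := hG.nonorth i2
  have hmem : stv (e1 + e2) (1 : F) ∈ Cfsg.Geo.decompositionStabilizer D ⊓ Cfsg.spGL m F := by
    rw [heq]; exact stv_mem_spGL _ _
  obtain ⟨⟨σ, hσ⟩, -⟩ := hmem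
  have hy : ((stv (e1 + e2) (1 : F) : GG) : MM) *ᵥ x ∈ D (σ i1) := by
    rw [← hσ i1]
    exact ⟨x, hx, by rw [Matrix.toLin'_apply]⟩
  rw [stv_mulVec, one_mul, sympForm_add_right, hD.orth i1 i2 hi x hx e2 he2, add_zero] at hy
  by_cases hj : σ i1 = i1
  · -- then the image is orthogonal to `D i2`
    have h0 := hD.orth (σ i1) i2 (by rw [hj]; exact hi) _ hy z hz
    rw [sympForm_add_left, hD.orth i1 i2 hi x hx z hz, zero_add, sympForm_smul_left,
      sympForm_add_left, hD.orth i1 i2 hi e1 he1 z hz, zero_add] at h0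
    exact (mul_ne_zero hne hne2) h0
  · have h0 := hD.orth (σ i1) i1 hj _ hy e1 he1
    rw [sympForm_add_left, sympForm_smul_left, sympForm_add_left, sympForm_self, zero_add,
      hD.orth i2 i1 (Ne.symm hi) e2 he2 e1 he1, mul_zero, add_zero] at h0
    exact hne h0

/-- the main theorem, given block-swapping elements -/
theorem imp_maximal (hD : Decomp D) (hG : Gadget D)
    (hfr : ∀ i j, finrank F (D i) = finrank F (D j)) (i1 i2 : Fin t) (hi : i1 ≠ i2)
    (hperm : ∀ a b : Fin t, a ≠ b → ∃ g ∈ Cfsg.Geo.decompositionStabilizer D ⊓ Cfsg.spGL m F,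
      ∀ i, (D i).map (Matrix.toLin' (g : MM)) = D (Equiv.swap a b i)) :
    Cfsg.Geo.IsMaximalIn (Cfsg.spGL m F)
      (Cfsg.Geo.decompositionStabilizer D ⊓ Cfsg.spGL m F) := by
  refine ⟨stab_lt hD hG i1 i2 hi, ?_⟩
  intro M hNM hMS
  by_cases hMN : M = Cfsg.Geo.decompositionStabilizer D ⊓ Cfsg.spGL m F
  · left; exact hMN
  right
  obtain ⟨h, hhM, hhN⟩ : ∃ h ∈ M, h ∉ Cfsg.Geo.decompositionStabilizer D := by
    by_contra hcon
    push Not at hcon
    apply hMN
    apply le_antisymm _ hNM
    intro g hg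
    exact ⟨hcon g hg, hMS hg⟩
  obtain ⟨c, hc, hcS, j1, j2, hj, h1, h2⟩ := exists_two hD hG hfr hMS hNM h hhM hhN
  exact eq_spGL_of_Scl hMS (scl_all hD hG hMS hNM hperm hc hcS j1 j2 hj h1 h2)

end Cfsg.Agent.Lib.H11.SpImp
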