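import Cfsg.Agent.Lib.H11.SpImp3
import Cfsg.Agent.Lib.H13.SympBasis

set_option autoImplicit false
set_option linter.unusedSimpArgs false
set_option linter.unusedSectionVars false
set_option linter.unusedVariables false

namespace Cfsg.Agent.Lib.H11.SpImp

open Matrix Module
open Cfsg.Agent.Lib.H28 Cfsg.Agent.Lib.H11.SubspMax
open Cfsg.Agent.Lib.H4 (sympForm_self sympForm_add_left sympForm_add_right sympForm_smul_left
  sympForm_smul_right sympForm_swap)
open Cfsg.Agent.S0768 (B₀ B₀_apply B₀_alt B₀_nondeg)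
open Cfsg.Agent.Lib.H13 (restrictB restrictB_apply IsSymp symp_aux exists_symp_basis)

variable {F : Type*} [Field F] {m t : ℕ}

local notation "VV" => (Fin m ⊕ Fin m → F)
local notation "GG" => GL (Fin m ⊕ Fin m) F
local notation "MM" => Matrix (Fin m ⊕ Fin m) (Fin m ⊕ Fin m) F

variable {D : Fin t → Submodule F (Fin m ⊕ Fin m → F)}

/-- symplectic bases of the blocks, all indexed by the same type -/
theorem exists_block_bases {k : ℕ}
    (hD : Cfsg.Geo.IsNondegenerateMDecomposition (Cfsg.sympForm m F) k D) :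
    ∃ r : ℕ, ∀ i, ∃ b : Basis (Fin r ⊕ Fin r) F (D i), IsSymp (restrictB (B₀ F m) (D i)) b := by
  have halt : ∀ i, ∀ v : D i, restrictB (B₀ F m) (D i) v v = 0 := by
    intro i v
    rw [restrictB_apply]; exact B₀_alt _
  have hnd : ∀ i, ∀ v : D i, (∀ w, restrictB (B₀ F m) (D i) v w = 0) → v = 0 := by
    intro i v hv
    by_contra hne
    have hne' : (v : VV) ≠ 0 := fun h0 => hne (Subtype.ext h0)
    obtain ⟨-, x, hx, hxne⟩ := hD.nondegenerate i v v.2 hne'
    apply hxne
    have := hv ⟨x, hx⟩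
    rwa [restrictB_apply, B₀_apply] at this
  have ht : 0 < t := lt_of_lt_of_le (by norm_num) hD.decomp.two_le
  obtain ⟨ι, hι, hdec, b, hb⟩ := symp_aux k (restrictB (B₀ F m) (D ⟨0, ht⟩)) (halt _) (hnd _)
    (hD.decomp.finrank_eq _)
  have hk : k = 2 * Fintype.card ι := by
    have := Module.finrank_eq_card_basis b
    rw [hD.decomp.finrank_eq, Fintype.card_sum] at this
    omega
  refine ⟨Fintype.card ι, fun i => ?_⟩
  exact exists_symp_basis (restrictB (B₀ F m) (D i)) (halt i) (hnd i)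
    (by rw [hD.decomp.finrank_eq, hk])

/-- the Gram matrix of a symplectic basis does not depend on the block -/
theorem gram_indep {r : ℕ} (bs : ∀ i, Basis (Fin r ⊕ Fin r) F (D i))
    (hbs : ∀ i, IsSymp (restrictB (B₀ F m) (D i)) (bs i)) (i i' : Fin t) (x y : Fin r ⊕ Fin r) :
    B₀ F m (bs i x : VV) (bs i y : VV) = B₀ F m (bs i' x : VV) (bs i' y : VV) := by
  have skew : ∀ u v : VV, B₀ F m u v = - B₀ F m v u := by
    intro u v
    rw [B₀_apply, B₀_apply, sympForm_swap]
  rcases x with x | x <;> rcases y with y | y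
  · have h1 := (hbs i).iso_l x y
    have h2 := (hbs i').iso_l x y
    rw [restrictB_apply] at h1 h2
    rw [h1, h2]
  · have h1 := (hbs i).pair x y
    have h2 := (hbs i').pair x y
    rw [restrictB_apply] at h1 h2
    rw [h1, h2]
  · have h1 := (hbs i).pair y x
    have h2 := (hbs i').pair y x
    rw [restrictB_apply] at h1 h2
    rw [skew, h1, skew (bs i' (Sum.inr x) : VV), h2]
  · have h1 := (hbs i).iso_r x y
    have h2 := (hbs i').iso_r x y
    rw [restrictB_apply] at h1 h2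
    rw [h1, h2]

/-- an isometry permuting the blocks in a prescribed way -/
theorem exists_block_perm {k : ℕ}
    (hD : Cfsg.Geo.IsNondegenerateMDecomposition (Cfsg.sympForm m F) k D)
    (π : Equiv.Perm (Fin t)) :
    ∃ g ∈ Cfsg.Geo.decompositionStabilizer D ⊓ Cfsg.spGL m F,
      ∀ i, (D i).map (Matrix.toLin' (g : MM)) = D (π i) := by
  classical
  obtain ⟨r, hr⟩ := exists_block_bases hD
  choose bs hbs using hr
  have hInt : DirectSum.IsInternal D :=
    DirectSum.isInternal_submodule_of_iSupIndep_of_iSup_eq_top hD.decomp.indep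
      hD.decomp.iSup_eq_top
  obtain ⟨cb, hcb⟩ : ∃ cb : Basis (Σ _ : Fin t, Fin r ⊕ Fin r) F VV,
      ∀ a, cb a = (bs a.1 a.2 : VV) := by
    refine ⟨hInt.collectedBasis bs, fun a => ?_⟩
    rw [DirectSum.IsInternal.collectedBasis_coe]
  obtain ⟨eπ, heπ⟩ : ∃ eπ : (Σ _ : Fin t, Fin r ⊕ Fin r) ≃ (Σ _ : Fin t, Fin r ⊕ Fin r),
      ∀ a, eπ a = ⟨π a.1, a.2⟩ := by
    refine ⟨⟨fun a => ⟨π a.1, a.2⟩, fun a => ⟨π.symm a.1, a.2⟩, ?_, ?_⟩, fun a => rfl⟩
    · rintro ⟨i, x⟩; simp
    · rintro ⟨i, x⟩; simp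
  obtain ⟨gL, hgL⟩ : ∃ gL : VV ≃ₗ[F] VV, ∀ a, gL (cb a) = cb (eπ a) :=
    ⟨cb.equiv cb eπ, fun a => Basis.equiv_apply _ _ _ _⟩
  have hgLb : ∀ i x, gL (bs i x : VV) = (bs (π i) x : VV) := by
    intro i x
    have := hgL ⟨i, x⟩
    rw [hcb, heπ, hcb] at this
    exact this
  -- isometry
  have hiso : ∀ u v : VV, B₀ F m (gL u) (gL v) = B₀ F m u v := by
    have : (B₀ F m).comp (gL : VV →ₗ[F] VV) (gL : VV →ₗ[F] VV) = B₀ F m := by
      apply LinearMap.BilinForm.ext_basis cb
      rintro ⟨i, x⟩ ⟨j, y⟩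
      rw [LinearMap.BilinForm.comp_apply, hcb, hcb]
      show B₀ F m (gL (bs i x : VV)) (gL (bs j y : VV)) = B₀ F m (bs i x : VV) (bs j y : VV)
      rw [hgLb, hgLb]
      by_cases hij : i = j
      · subst hij
        exact gram_indep bs hbs (π i) i x y
      · rw [B₀_apply, B₀_apply,
          hD.orthogonal (π i) (π j) (fun h => hij (π.injective h)) _ (bs (π i) x).2 _ (bs (π j) y).2,
          hD.orthogonal i j hij _ (bs i x).2 _ (bs j y).2]
    intro u v
    have h2 := LinearMap.congr_fun (LinearMap.congr_fun this u) v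
    rw [LinearMap.BilinForm.comp_apply] at h2
    exact h2
  -- images of blocks
  have hmapsto : ∀ i, ∀ y ∈ D i, gL y ∈ D (π i) := by
    intro i y hy
    have h1 := (bs i).sum_repr ⟨y, hy⟩
    have h2 : y = ∑ a, (bs i).repr ⟨y, hy⟩ a • (bs i a : VV) := by
      have := congrArg (fun z : D i => (z : VV)) h1
      simp only [Submodule.coe_sum, Submodule.coe_smul] at this
      exact this.symm
    rw [h2, map_sum]
    apply Submodule.sum_mem
    intro a _
    rw [map_smul, hgLb]
    exact (D (π i)).smul_mem _ (bs (π i) a).2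
  have hmap : ∀ i, (D i).map (gL : VV →ₗ[F] VV) = D (π i) := by
    intro i
    apply Submodule.eq_of_le_of_finrank_eq
    · rintro _ ⟨y, hy, rfl⟩
      exact hmapsto i y hy
    · rw [hD.decomp.finrank_eq (π i), ← hD.decomp.finrank_eq i]
      exact (Submodule.equivMapOfInjective _ gL.injective (D i)).symm.finrank_eq
  have hval : Matrix.toLin' ((glOfEquiv gL : GG) : MM) = (gL : VV →ₗ[F] VV) := by
    rw [glOfEquiv_val, Matrix.toLin'_toMatrix']
  refine ⟨glOfEquiv gL, ⟨⟨π, fun i => ?_⟩, ?_⟩, fun i => ?_⟩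
  · rw [hval]; exact hmap i
  · show glOfEquiv gL ∈ Cfsg.spGL m F
    rw [mem_spGL_iff]
    intro u v
    rw [glOfEquiv_mulVec, glOfEquiv_mulVec, ← B₀_apply, ← B₀_apply]
    exact hiso u v
  · rw [hval]; exact hmap i

end Cfsg.Agent.Lib.H11.SpImp
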