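import Cfsg.Agent.Lib.H11.SpImp4

set_option autoImplicit false
set_option linter.unusedSimpArgs false
set_option linter.unusedSectionVars false
set_option linter.unusedVariables false

namespace Cfsg.Agent.Lib.H11.SpImp

open Matrix Module
open Cfsg.Agent.Lib.H28 Cfsg.Agent.Lib.H11.SubspMax
open Cfsg.Agent.Lib.H4 (sympForm_self sympForm_add_left sympForm_add_right sympForm_smul_left
  sympForm_smul_right sympForm_swap)
open Cfsg.Agent.S0768 (B₀ B₀_apply B₀_alt B₀_nondeg)

variable {F : Type*} [Field F] {m t : ℕ}

local notation "VV" => (Fin m ⊕ Fin m → F)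
local notation "GG" => GL (Fin m ⊕ Fin m) F
local notation "MM" => Matrix (Fin m ⊕ Fin m) (Fin m ⊕ Fin m) F

variable {D : Fin t → Submodule F (Fin m ⊕ Fin m → F)}

theorem decomp_of {k : ℕ}
    (hD : Cfsg.Geo.IsNondegenerateMDecomposition (Cfsg.sympForm m F) k D) : Decomp D where
  nondeg := fun i w hw hw0 => (hD.nondegenerate i w hw hw0).2
  orth := fun i j hij u hu v hv => hD.orthogonal i j hij u hu v hv
  span := by
    intro x
    have hx : x ∈ iSup D := by rw [hD.decomp.iSup_eq_top]; exact Submodule.mem_top
    rw [Submodule.mem_iSup_iff_exists_finsupp] at hx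
    obtain ⟨f, hf, hfx⟩ := hx
    refine ⟨fun i => f i, hf, ?_⟩
    unfold vec
    rw [← hfx, Finsupp.sum_fintype]
    intro i; rfl

theorem exists_ne_zero_mem {k : ℕ}
    (hD : Cfsg.Geo.IsNondegenerateMDecomposition (Cfsg.sympForm m F) k D) (i : Fin t) :
    ∃ w ∈ D i, w ≠ 0 := by
  have h1 : 0 < finrank F (D i) := by rw [hD.decomp.finrank_eq]; exact hD.decomp.pos
  obtain ⟨w, hw⟩ := Module.finrank_pos_iff_exists_ne_zero.1 h1
  exact ⟨w, w.2, fun h0 => hw (Subtype.ext h0)⟩

theorem gadget_of [Fintype F] {k : ℕ}
    (hD : Cfsg.Geo.IsNondegenerateMDecomposition (Cfsg.sympForm m F) k D)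
    (hex : ¬ (k = 2 ∧ Fintype.card F = 2)) : Gadget D where
  nonorth := by
    intro i
    obtain ⟨w, hw, hw0⟩ := exists_ne_zero_mem hD i
    obtain ⟨x, hx, hne⟩ := (hD.nondegenerate i w hw hw0).2
    exact ⟨w, x, hw, hx, hne⟩
  orth := by
    classical
    intro i
    obtain ⟨e, he, he0⟩ := exists_ne_zero_mem hD i
    by_cases hc : ∃ c : F, c ≠ 0 ∧ c ≠ -1
    · obtain ⟨c, hc0, hc1⟩ := hc
      refine ⟨e, c • e, he, (D i).smul_mem c he, he0, smul_ne_zero hc0 he0, ?_, ?_⟩
      · have : e + c • e = (1 + c) • e := by rw [add_smul, one_smul]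
        rw [this]
        apply smul_ne_zero _ he0
        intro h0
        apply hc1
        linear_combination h0
      · rw [sympForm_smul_right, sympForm_self, mul_zero]
    · push Not at hc
      -- the field has two elements
      have hcard : Fintype.card F = 2 := by
        apply le_antisymm
        · have hsub : (Finset.univ : Finset F) ⊆ {0, -1} := by
            intro c _
            by_cases h0 : c = 0
            · simp [h0]
            · simp [hc c h0]
          calc Fintype.card F = (Finset.univ : Finset F).card := rfl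
            _ ≤ ({0, -1} : Finset F).card := Finset.card_le_card hsub
            _ ≤ 2 := Finset.card_le_two
        · exact Fintype.one_lt_card
      have hk2 : k ≠ 2 := fun h => hex ⟨h, hcard⟩
      -- the dimension is not one
      have hk1 : k ≠ 1 := by
        intro h1
        have hf1 : finrank F (D i) = 1 := by rw [hD.decomp.finrank_eq, h1]
        obtain ⟨x, hx, hne⟩ := (hD.nondegenerate i e he he0).2
        obtain ⟨c, hcx⟩ := (finrank_eq_one_iff_of_nonzero' (⟨e, he⟩ : D i)
          (fun h0 => he0 (congrArg Subtype.val h0))).1 hf1 ⟨x, hx⟩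
        apply hne
        have : x = c • e := by
          have := congrArg Subtype.val hcx
          simpa using this.symm
        rw [this, sympForm_smul_right, sympForm_self, mul_zero]
      have hk3 : 3 ≤ k := by
        have := hD.decomp.pos
        omega
      -- a vector of the block orthogonal to `e` outside `F e`
      obtain ⟨φ, hφ⟩ : ∃ φ : D i →ₗ[F] F, ∀ y : D i, φ y = B₀ F m e (y : VV) :=
        ⟨(B₀ F m e).comp (D i).subtype, fun y => rfl⟩
      obtain ⟨y, hyker, hyspan⟩ : ∃ y : D i, y ∈ LinearMap.ker φ ∧
          y ∉ Submodule.span F {(⟨e, he⟩ : D i)} := by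
        by_contra hcon
        push Not at hcon
        have hle : LinearMap.ker φ ≤ Submodule.span F {(⟨e, he⟩ : D i)} := fun y hy => hcon y hy
        have h1 := LinearMap.finrank_range_add_finrank_ker φ
        have h2 : finrank F (LinearMap.range φ) ≤ 1 := by
          have := Submodule.finrank_le (LinearMap.range φ)
          rwa [finrank_self] at this
        have h3 : finrank F (LinearMap.ker φ) ≤ 1 := by
          have := Submodule.finrank_mono hle
          have h4 : finrank F (Submodule.span F {(⟨e, he⟩ : D i)}) ≤ 1 := by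
            have := finrank_span_le_card (R := F) ({(⟨e, he⟩ : D i)} : Set (D i))
            simpa using this
          omega
        rw [hD.decomp.finrank_eq] at h1
        omega
      have hy0 : (y : VV) ≠ 0 := by
        intro h0
        apply hyspan
        have : y = 0 := Subtype.ext h0
        rw [this]; exact Submodule.zero_mem _
      refine ⟨e, y, he, y.2, he0, hy0, ?_, ?_⟩
      · intro h0
        apply hyspan
        rw [Submodule.mem_span_singleton]
        refine ⟨-1, Subtype.ext ?_⟩
        have : (y : VV) = -e := by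
          rw [eq_neg_iff_add_eq_zero, add_comm]; exact h0
        simp [this]
      · have := hyker
        rw [LinearMap.mem_ker, hφ, B₀_apply] at this
        exact this

/-- maximality of the stabiliser of a nondegenerate orthogonal decomposition in `Sp` -/
theorem sp_imp_maximal [Fintype F] {k : ℕ}
    (hD : Cfsg.Geo.IsNondegenerateMDecomposition (Cfsg.sympForm m F) k D)
    (hex : ¬ (k = 2 ∧ Fintype.card F = 2)) :
    Cfsg.Geo.IsMaximalIn (Cfsg.spGL m F)
      (Cfsg.Geo.decompositionStabilizer D ⊓ Cfsg.spGL m F) := by
  have ht := hD.decomp.two_le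
  apply imp_maximal (decomp_of hD) (gadget_of hD hex)
    (fun i j => by rw [hD.decomp.finrank_eq, hD.decomp.finrank_eq])
    (⟨0, by omega⟩ : Fin t) (⟨1, by omega⟩ : Fin t)
    (by intro h; have := congrArg Fin.val h; simp at this)
  intro a b _
  exact exists_block_perm hD (Equiv.swap a b)

end Cfsg.Agent.Lib.H11.SpImp
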