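import Mathlib
import Cfsg.Agent.S0752

/-!
Normal forms of symmetric bilinear forms in characteristic two over a perfect field:
a maximal orthonormal family (non-alternating case) or a maximal symplectic family
(alternating case).
-/

set_option autoImplicit false
set_option linter.unusedSimpArgs false
set_option linter.unusedSectionVars false
set_option linter.unusedVariables false

namespace Cfsg.Agent.Lib.H11.SpInv

open Module

section forms
variable {F V : Type*} [Field F] [AddCommGroup V] [Module F V] (β : LinearMap.BilinForm F V)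

/-- orthonormal family -/
def ON {k : ℕ} (x : Fin k → V) : Prop := ∀ i j, β (x i) (x j) = if i = j then 1 else 0

/-- maximal: a vector orthogonal to the family is in the radical -/
def IsMax {k : ℕ} (x : Fin k → V) : Prop := ∀ v, (∀ i, β (x i) v = 0) → ∀ u, β u v = 0

theorem on_li {k : ℕ} (x : Fin k → V) (hx : ON β x) : LinearIndependent F x := by
  rw [Fintype.linearIndependent_iff]
  intro g hg j
  have h1 : β (x j) (∑ i, g i • x i) = 0 := by rw [hg, map_zero]
  rw [map_sum] at h1
  rw [Finset.sum_eq_single j] at h1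
  · rw [map_smul, hx j j, if_pos rfl, smul_eq_mul, mul_one] at h1
    exact h1
  · intro i _ hij
    rw [map_smul, hx j i, if_neg (Ne.symm hij), smul_zero]
  · intro h; exact absurd (Finset.mem_univ j) h

theorem on_card_le [FiniteDimensional F V] {k : ℕ} (x : Fin k → V) (hx : ON β x) :
    k ≤ finrank F V := by
  have := (on_li β x hx).fintype_card_le_finrank
  rwa [Fintype.card_fin] at this

theorem on_snoc (hS : ∀ u v, β u v = β v u) {k : ℕ} (x : Fin k → V) (y : V) (hx : ON β x)
    (hxy : ∀ i, β (x i) y = 0) (hyy : β y y = 1) : ON β (Fin.snoc x y : Fin (k + 1) → V) := by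
  intro i j
  refine Fin.lastCases ?_ (fun i' => ?_) i <;> refine Fin.lastCases ?_ (fun j' => ?_) j
  · simp only [Fin.snoc_last, if_true]
    exact hyy
  · simp only [Fin.snoc_last, Fin.snoc_castSucc]
    rw [hS, hxy j', if_neg]
    exact (Fin.castSucc_lt_last j').ne'
  · simp only [Fin.snoc_last, Fin.snoc_castSucc]
    rw [hxy i', if_neg]
    exact (Fin.castSucc_lt_last i').ne
  · simp only [Fin.snoc_castSucc]
    rw [hx i' j']
    simp only [Fin.castSucc_inj]

theorem forall_snoc {k : ℕ} (x : Fin k → V) (y : V) (P : V → Prop) (hx : ∀ i, P (x i))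
    (hy : P y) : ∀ i, P ((Fin.snoc x y : Fin (k + 1) → V) i) := by
  intro i
  refine Fin.lastCases ?_ (fun i' => ?_) i
  · rw [Fin.snoc_last]; exact hy
  · rw [Fin.snoc_castSucc]; exact hx i'

/-- one step of the greedy construction in the non-alternating case -/
theorem step (h2 : (2 : F) = 0) (hsq : ∀ c : F, ∃ a : F, a * a = c)
    (hS : ∀ u v, β u v = β v u) (hna : ∃ v₀, β v₀ v₀ ≠ 0) {k : ℕ} (x : Fin k → V)
    (hx : ON β x) :
    IsMax β x ∨ (∃ x' : Fin (k + 1) → V, ON β x') ∨ ∃ x' : Fin (k + 2) → V, ON β x' := by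
  have h11 : (1 : F) + 1 = 0 := by rw [one_add_one_eq_two]; exact h2
  by_cases hY : ∀ u v : V, (∀ i, β (x i) u = 0) → (∀ i, β (x i) v = 0) → β u v = 0
  · left
    intro v hv u
    obtain ⟨u', hu'⟩ : ∃ u' : V, u' = u - ∑ i, β (x i) u • x i := ⟨_, rfl⟩
    have hu'Y : ∀ j, β (x j) u' = 0 := by
      intro j
      rw [hu', map_sub, map_sum, Finset.sum_eq_single j]
      · rw [map_smul, hx j j, if_pos rfl, smul_eq_mul, mul_one, sub_self]
      · intro i _ hij
        rw [map_smul, hx j i, if_neg (Ne.symm hij), smul_zero]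
      · intro h; exact absurd (Finset.mem_univ j) h
    have h0 := hY u' v hu'Y hv
    have hu : u = u' + ∑ i, β (x i) u • x i := by rw [hu']; abel
    rw [hu, map_add, LinearMap.add_apply, h0, zero_add, map_sum, LinearMap.sum_apply]
    apply Finset.sum_eq_zero
    intro i _
    rw [map_smul, LinearMap.smul_apply, hv i, smul_zero]
  · right
    push Not at hY
    obtain ⟨u, v, hu, hv, huv⟩ := hY
    by_cases hiso : ∃ y : V, (∀ i, β (x i) y = 0) ∧ β y y ≠ 0
    · left
      obtain ⟨y, hyY, hyy⟩ := hiso
      obtain ⟨a, ha⟩ := hsq (β y y)⁻¹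
      refine ⟨Fin.snoc x (a • y), on_snoc β hS x (a • y) hx ?_ ?_⟩
      · intro i
        rw [map_smul, hyY i, smul_zero]
      · simp only [map_smul, LinearMap.smul_apply, smul_eq_mul]
        have : a * a * β y y = 1 := by rw [ha, inv_mul_cancel₀ hyy]
        linear_combination this
    · right
      push Not at hiso
      -- all vectors orthogonal to the family are isotropic
      have huu : β u u = 0 := hiso u hu
      have hvv : β v v = 0 := hiso v hv
      -- `k ≥ 1`
      rcases Nat.eq_zero_or_pos k with hk0 | hkpos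
      · exfalso
        subst hk0
        obtain ⟨v₀, hv₀⟩ := hna
        exact hv₀ (hiso v₀ (fun i => i.elim0))
      · obtain ⟨k', rfl⟩ : ∃ k', k = k' + 1 := ⟨k - 1, by omega⟩
        obtain ⟨e, he⟩ : ∃ e : V, e = x (Fin.last k') := ⟨_, rfl⟩
        obtain ⟨x₀, hx₀⟩ : ∃ x₀ : Fin k' → V, x₀ = Fin.init x := ⟨_, rfl⟩
        have hx₀i : ∀ i, x₀ i = x i.castSucc := fun i => by rw [hx₀]; rfl
        obtain ⟨u₁, hu₁⟩ : ∃ u₁ : V, u₁ = (β u v)⁻¹ • u := ⟨_, rfl⟩
        have hu₁Y : ∀ i, β (x i) u₁ = 0 := by
          intro i; rw [hu₁, map_smul, hu i, smul_zero]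
        have hu₁u₁ : β u₁ u₁ = 0 := hiso u₁ hu₁Y
        have hu₁v : β u₁ v = 1 := by
          rw [hu₁, map_smul, LinearMap.smul_apply, smul_eq_mul, inv_mul_cancel₀ huv]
        have hvu₁ : β v u₁ = 1 := by rw [hS, hu₁v]
        have hee : β e e = 1 := by rw [he, hx, if_pos rfl]
        have heu : β e u₁ = 0 := by rw [he]; exact hu₁Y _
        have hue : β u₁ e = 0 := by rw [hS, heu]
        have hev : β e v = 0 := by rw [he]; exact hv _
        have hve : β v e = 0 := by rw [hS, hev]
        have hx₀ON : ON β x₀ := by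
          intro i j
          rw [hx₀i, hx₀i, hx]
          simp only [Fin.castSucc_inj]
        have hx₀e : ∀ i, β (x₀ i) e = 0 := by
          intro i
          rw [hx₀i, he, hx, if_neg]
          exact (Fin.castSucc_lt_last i).ne
        have hx₀u : ∀ i, β (x₀ i) u₁ = 0 := fun i => by rw [hx₀i]; exact hu₁Y _
        have hx₀v : ∀ i, β (x₀ i) v = 0 := fun i => by rw [hx₀i]; exact hv _
        have on1 : ON β (Fin.snoc x₀ (e + u₁) : Fin (k' + 1) → V) := by
          refine on_snoc β hS x₀ _ hx₀ON ?_ ?_
          · intro i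
            rw [map_add, hx₀e, hx₀u, add_zero]
          · simp only [map_add, LinearMap.add_apply, hee, heu, hue, hu₁u₁]
            ring
        have on2 : ON β (Fin.snoc (Fin.snoc x₀ (e + u₁) : Fin (k' + 1) → V) (e + v) :
            Fin (k' + 1 + 1) → V) := by
          refine on_snoc β hS _ _ on1 ?_ ?_
          · apply forall_snoc x₀ (e + u₁) (fun z => β z (e + v) = 0)
            · intro i
              rw [map_add, hx₀e, hx₀v, add_zero]
            · simp only [map_add, LinearMap.add_apply, hee, hev, hue, hu₁v]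
              linear_combination h11
          · simp only [map_add, LinearMap.add_apply, hee, hev, hve, hvv]
            ring
        refine ⟨Fin.snoc (Fin.snoc (Fin.snoc x₀ (e + u₁) : Fin (k' + 1) → V) (e + v) :
            Fin (k' + 1 + 1) → V) (e + u₁ + v), ?_⟩
        refine on_snoc β hS _ _ on2 ?_ ?_
        · apply forall_snoc _ (e + v) (fun z => β z (e + u₁ + v) = 0)
          · apply forall_snoc x₀ (e + u₁) (fun z => β z (e + u₁ + v) = 0)
            · intro i
              rw [map_add, map_add, hx₀e, hx₀u, hx₀v, add_zero, add_zero]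
            · simp only [map_add, LinearMap.add_apply, hee, hev, hue, hu₁v, heu, hu₁u₁]
              linear_combination h11
          · simp only [map_add, LinearMap.add_apply, hee, hev, hve, hvv, heu, hvu₁]
            linear_combination h11
        · simp only [map_add, LinearMap.add_apply, hee, hev, hve, hvv, heu, hue, hvu₁, hu₁v,
            hu₁u₁]
          linear_combination h11

theorem exists_max_aux [FiniteDimensional F V] (h2 : (2 : F) = 0)
    (hsq : ∀ c : F, ∃ a : F, a * a = c) (hS : ∀ u v, β u v = β v u)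
    (hna : ∃ v₀, β v₀ v₀ ≠ 0) :
    ∀ (m k : ℕ) (x : Fin k → V), ON β x → finrank F V ≤ k + m →
      ∃ (k' : ℕ) (x' : Fin k' → V), ON β x' ∧ IsMax β x' := by
  intro m
  induction m using Nat.strong_induction_on with
  | _ m ih =>
    intro k x hx hk
    rcases step β h2 hsq hS hna x hx with h | ⟨x', hx'⟩ | ⟨x', hx'⟩
    · exact ⟨k, x, hx, h⟩
    · have := on_card_le β _ hx'
      exact ih (m - 1) (by omega) (k + 1) x' hx' (by omega)
    · have := on_card_le β _ hx'
      exact ih (m - 2) (by omega) (k + 2) x' hx' (by omega)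

/-- non-alternating case: a maximal orthonormal family exists -/
theorem exists_max [FiniteDimensional F V] (h2 : (2 : F) = 0)
    (hsq : ∀ c : F, ∃ a : F, a * a = c) (hS : ∀ u v, β u v = β v u)
    (hna : ∃ v₀, β v₀ v₀ ≠ 0) :
    ∃ (k : ℕ) (x : Fin k → V), ON β x ∧ IsMax β x :=
  exists_max_aux β h2 hsq hS hna (finrank F V) 0 (fun i => i.elim0) (fun i => i.elim0)
    (by omega)

/-- alternating case: a maximal symplectic family exists -/
theorem exists_symp [FiniteDimensional F V] (hA : β.IsAlt) :
    ∃ (r : ℕ) (x y : Fin r → V),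
      (∀ i j, β (x i) (y j) = if i = j then 1 else 0) ∧
      (∀ i j, β (x i) (x j) = 0) ∧ (∀ i j, β (y i) (y j) = 0) ∧
      ∀ v, (∀ i, β (x i) v = 0) → (∀ i, β (y i) v = 0) → ∀ u, β u v = 0 := by
  obtain ⟨r, k, b, h1, h3, h4, h5⟩ := Cfsg.Agent.S0752.result β hA
  refine ⟨r, fun i => b (Sum.inl (Sum.inl i)), fun i => b (Sum.inl (Sum.inr i)), h1, h3, h4, ?_⟩
  intro v hxv hyv u
  have : β.flip v = 0 := by
    apply b.ext
    intro i
    show β (b i) v = 0
    rcases i with (i | i) | i
    · exact hxv i
    · exact hyv i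
    · exact h5 i v
  have h6 := LinearMap.congr_fun this u
  exact h6

end forms

end Cfsg.Agent.Lib.H11.SpInv
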