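import Cfsg.Agent.Lib.H11.SpInvol1
import Cfsg.Agent.S0768
import Cfsg.Agent.S0749

/-!
Structure of involutions of `Sp_{2m}(q)`, `q` even.
-/

set_option autoImplicit false
set_option linter.unusedSimpArgs false
set_option linter.unusedSectionVars false
set_option linter.unusedVariables false

namespace Cfsg.Agent.Lib.H11.SpInv

open Matrix Module
open Cfsg.Agent.S0768 (B₀ B₀_apply B₀_alt B₀_nondeg)

section invol
variable {F : Type*} [Field F] {m : ℕ}

local notation "VV" => (Fin m ⊕ Fin m → F)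

/-- `A - 1` as a linear map -/
def Nlin (A : Matrix (Fin m ⊕ Fin m) (Fin m ⊕ Fin m) F) : VV →ₗ[F] VV := (A - 1).mulVecLin

theorem Nlin_apply (A : Matrix (Fin m ⊕ Fin m) (Fin m ⊕ Fin m) F) (v : VV) :
    Nlin A v = A *ᵥ v - v := by
  rw [Nlin, Matrix.mulVecLin_apply, Matrix.sub_mulVec, Matrix.one_mulVec]

theorem mulVec_eq_add_Nlin (A : Matrix (Fin m ⊕ Fin m) (Fin m ⊕ Fin m) F) (v : VV) :
    A *ᵥ v = v + Nlin A v := by
  rw [Nlin_apply]; abel

theorem f_symm (h2 : (2 : F) = 0) (u v : VV) : B₀ F m u v = B₀ F m v u := by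
  have h1 := (B₀_alt (F := F) (m := m)).neg_eq u v
  have h3 : B₀ F m u v + B₀ F m u v = 0 := by
    have : B₀ F m u v + B₀ F m u v = 2 * B₀ F m u v := by ring
    rw [this, h2, zero_mul]
  rw [← h1]
  linear_combination h3

/-- involution preserving the form -/
structure IsInv (A : Matrix (Fin m ⊕ Fin m) (Fin m ⊕ Fin m) F) : Prop where
  pres : ∀ u v : VV, B₀ F m (A *ᵥ u) (A *ᵥ v) = B₀ F m u v
  sq : ∀ v : VV, A *ᵥ (A *ᵥ v) = v

theorem f_adj {A : Matrix (Fin m ⊕ Fin m) (Fin m ⊕ Fin m) F} (hA : IsInv A) (u v : VV) :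
    B₀ F m (A *ᵥ u) v = B₀ F m u (A *ᵥ v) := by
  rw [← hA.pres (A *ᵥ u) v, hA.sq]

theorem Nlin_adj {A : Matrix (Fin m ⊕ Fin m) (Fin m ⊕ Fin m) F} (hA : IsInv A) (u v : VV) :
    B₀ F m (Nlin A u) v = B₀ F m u (Nlin A v) := by
  rw [Nlin_apply, Nlin_apply, map_sub, map_sub, LinearMap.sub_apply, f_adj hA]

theorem Nlin_Nlin (h2 : (2 : F) = 0) {A : Matrix (Fin m ⊕ Fin m) (Fin m ⊕ Fin m) F}
    (hA : IsInv A) (v : VV) : Nlin A (Nlin A v) = 0 := by
  rw [Nlin_apply, Nlin_apply, Matrix.mulVec_sub, hA.sq]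
  have : v - A *ᵥ v - (A *ᵥ v - v) = (2 : F) • (v - A *ᵥ v) := by
    rw [two_smul]; abel
  rw [this, h2, zero_smul]

/-- the symmetric form `f((A-1)u, v)` -/
noncomputable def bet (A : Matrix (Fin m ⊕ Fin m) (Fin m ⊕ Fin m) F) : LinearMap.BilinForm F VV :=
  (B₀ F m).compLeft (Nlin A)

theorem bet_apply (A : Matrix (Fin m ⊕ Fin m) (Fin m ⊕ Fin m) F) (u v : VV) :
    bet A u v = B₀ F m (Nlin A u) v := rfl

theorem bet_symm (h2 : (2 : F) = 0) {A : Matrix (Fin m ⊕ Fin m) (Fin m ⊕ Fin m) F}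
    (hA : IsInv A) (u v : VV) : bet A u v = bet A v u := by
  rw [bet_apply, bet_apply, Nlin_adj hA, f_symm h2]

theorem bet_self (h2 : (2 : F) = 0) {A : Matrix (Fin m ⊕ Fin m) (Fin m ⊕ Fin m) F}
    (hA : IsInv A) (v : VV) : bet A v v = B₀ F m v (A *ᵥ v) := by
  rw [bet_apply, Nlin_adj hA, Nlin_apply, map_sub, (B₀_alt (F := F) (m := m)) v, sub_zero]

theorem Nlin_eq_zero_of_max {A : Matrix (Fin m ⊕ Fin m) (Fin m ⊕ Fin m) F} (hA : IsInv A)
    (v : VV) (h : ∀ u, bet A u v = 0) : Nlin A v = 0 := by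
  apply (B₀_nondeg (F := F) (m := m)).2
  intro u
  rw [← Nlin_adj hA]
  exact h u

/-- the invariants of an involution: `A v = v + Σ f(w_{σ i}, v) w_i` -/
def IStr (A : Matrix (Fin m ⊕ Fin m) (Fin m ⊕ Fin m) F) (l : ℕ) (σ : Fin l → Fin l)
    (w z : Fin l → VV) : Prop :=
  (∀ i j, B₀ F m (w i) (z j) = if i = j then 1 else 0) ∧ (∀ i j, B₀ F m (w i) (w j) = 0) ∧
    (∀ v, A *ᵥ v = v + ∑ i, B₀ F m (w (σ i)) v • w i) ∧ ∀ i, ∃ u, A *ᵥ u = u + w i

/-- exchange of the two halves of `Fin (r + r)` -/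
def swapHalf (r : ℕ) (i : Fin (r + r)) : Fin (r + r) :=
  Fin.addCases (fun a => Fin.natAdd r a) (fun b => Fin.castAdd r b) i

theorem swapHalf_castAdd (r : ℕ) (a : Fin r) : swapHalf r (Fin.castAdd r a) = Fin.natAdd r a := by
  rw [swapHalf, Fin.addCases_left]

theorem swapHalf_natAdd (r : ℕ) (b : Fin r) : swapHalf r (Fin.natAdd r b) = Fin.castAdd r b := by
  rw [swapHalf, Fin.addCases_right]

variable [Finite F]

/-- non-alternating involutions -/
theorem istr_nonalt (h2 : (2 : F) = 0) (hsq : ∀ c : F, ∃ a : F, a * a = c)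
    {A : Matrix (Fin m ⊕ Fin m) (Fin m ⊕ Fin m) F} (hA : IsInv A)
    (hna : ∃ v₀ : VV, B₀ F m v₀ (A *ᵥ v₀) ≠ 0) :
    ∃ (k : ℕ) (w z : Fin k → VV), IStr A k id w z := by
  obtain ⟨k, x, hON, hMax⟩ := exists_max (bet A) h2 hsq (bet_symm h2 hA) (by
    obtain ⟨v₀, hv₀⟩ := hna
    exact ⟨v₀, by rw [bet_self h2 hA]; exact hv₀⟩)
  refine ⟨k, fun i => Nlin A (x i), x, ?_, ?_, ?_, ?_⟩
  · intro i j
    exact hON i j
  · intro i j
    rw [Nlin_adj hA, Nlin_Nlin h2 hA, map_zero]
  · intro v
    rw [mulVec_eq_add_Nlin]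
    congr 1
    obtain ⟨v', hv'⟩ : ∃ v' : VV, v' = v - ∑ i, B₀ F m (Nlin A (x i)) v • x i := ⟨_, rfl⟩
    have h1 : ∀ j, bet A (x j) v' = 0 := by
      intro j
      rw [hv', map_sub, map_sum, Finset.sum_eq_single j]
      · rw [map_smul, hON j j, if_pos rfl, smul_eq_mul, mul_one, bet_apply, sub_self]
      · intro i _ hij
        rw [map_smul, hON j i, if_neg (Ne.symm hij), smul_zero]
      · intro h; exact absurd (Finset.mem_univ j) h
    have h3 : Nlin A v' = 0 := Nlin_eq_zero_of_max hA v' (hMax v' h1)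
    have hv : v = v' + ∑ i, B₀ F m (Nlin A (x i)) v • x i := by rw [hv']; abel
    conv_lhs => rw [hv]
    rw [map_add, h3, zero_add, map_sum]
    apply Finset.sum_congr rfl
    intro i _
    rw [map_smul]
    rfl
  · intro i
    exact ⟨x i, mulVec_eq_add_Nlin A (x i)⟩

/-- alternating involutions -/
theorem istr_alt (h2 : (2 : F) = 0)
    {A : Matrix (Fin m ⊕ Fin m) (Fin m ⊕ Fin m) F} (hA : IsInv A)
    (halt : ∀ v : VV, B₀ F m v (A *ᵥ v) = 0) :
    ∃ (r : ℕ) (w z : Fin (r + r) → VV), IStr A (r + r) (swapHalf r) w z := by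
  obtain ⟨r, x, y, hxy, hxx, hyy, hMax⟩ := exists_symp (bet A) (fun v => by
    rw [bet_self h2 hA]; exact halt v)
  have hyx : ∀ i j, bet A (y i) (x j) = if i = j then 1 else 0 := by
    intro i j
    rw [bet_symm h2 hA, hxy j i]
    simp only [eq_comm]
  have hNN : ∀ p p' : VV, B₀ F m (Nlin A p) (Nlin A p') = 0 := by
    intro p p'
    rw [Nlin_adj hA, Nlin_Nlin h2 hA, map_zero]
  refine ⟨r, Fin.append (fun i => Nlin A (x i)) (fun i => Nlin A (y i)), Fin.append y x,
    ?_, ?_, ?_, ?_⟩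
  · intro i j
    refine Fin.addCases (fun a => ?_) (fun a => ?_) i <;>
      refine Fin.addCases (fun b => ?_) (fun b => ?_) j
    · rw [Fin.append_left, Fin.append_left]
      have := hxy a b
      rw [bet_apply] at this
      rw [this]
      simp only [Fin.castAdd_inj]
    · rw [Fin.append_left, Fin.append_right]
      have := hxx a b
      rw [bet_apply] at this
      rw [this, if_neg]
      intro h
      have := congrArg Fin.val h
      simp at this
      omega
    · rw [Fin.append_right, Fin.append_left]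
      have := hyy a b
      rw [bet_apply] at this
      rw [this, if_neg]
      intro h
      have := congrArg Fin.val h
      simp at this
      omega
    · rw [Fin.append_right, Fin.append_right]
      have := hyx a b
      rw [bet_apply] at this
      rw [this]
      simp only [Fin.natAdd_inj]
  · intro i j
    refine Fin.addCases (fun a => ?_) (fun a => ?_) i <;>
      refine Fin.addCases (fun b => ?_) (fun b => ?_) j
    · rw [Fin.append_left, Fin.append_left]; exact hNN _ _
    · rw [Fin.append_left, Fin.append_right]; exact hNN _ _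
    · rw [Fin.append_right, Fin.append_left]; exact hNN _ _
    · rw [Fin.append_right, Fin.append_right]; exact hNN _ _
  · intro v
    rw [mulVec_eq_add_Nlin]
    congr 1
    rw [Fin.sum_univ_add]
    simp only [swapHalf_castAdd, swapHalf_natAdd, Fin.append_left, Fin.append_right]
    obtain ⟨v', hv'⟩ : ∃ v' : VV, v' = v - (∑ i, bet A (y i) v • x i + ∑ i, bet A (x i) v • y i) :=
      ⟨_, rfl⟩
    have h1 : ∀ j, bet A (x j) v' = 0 := by
      intro j
      rw [hv', map_sub, map_add, map_sum, map_sum]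
      have e1 : ∑ i, bet A (x j) (bet A (y i) v • x i) = 0 := by
        apply Finset.sum_eq_zero
        intro i _
        rw [map_smul, hxx j i, smul_zero]
      have e2 : ∑ i, bet A (x j) (bet A (x i) v • y i) = bet A (x j) v := by
        rw [Finset.sum_eq_single j]
        · rw [map_smul, hxy j j, if_pos rfl, smul_eq_mul, mul_one]
        · intro i _ hij
          rw [map_smul, hxy j i, if_neg (Ne.symm hij), smul_zero]
        · intro h; exact absurd (Finset.mem_univ j) h
      rw [e1, e2, zero_add, sub_self]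
    have h1' : ∀ j, bet A (y j) v' = 0 := by
      intro j
      rw [hv', map_sub, map_add, map_sum, map_sum]
      have e1 : ∑ i, bet A (y j) (bet A (x i) v • y i) = 0 := by
        apply Finset.sum_eq_zero
        intro i _
        rw [map_smul, hyy j i, smul_zero]
      have e2 : ∑ i, bet A (y j) (bet A (y i) v • x i) = bet A (y j) v := by
        rw [Finset.sum_eq_single j]
        · rw [map_smul, hyx j j, if_pos rfl, smul_eq_mul, mul_one]
        · intro i _ hij
          rw [map_smul, hyx j i, if_neg (Ne.symm hij), smul_zero]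
        · intro h; exact absurd (Finset.mem_univ j) h
      rw [e1, e2, add_zero, sub_self]
    have h3 : Nlin A v' = 0 := Nlin_eq_zero_of_max hA v' (hMax v' h1 h1')
    have hv : v = v' + (∑ i, bet A (y i) v • x i + ∑ i, bet A (x i) v • y i) := by
      rw [hv']; abel
    conv_lhs => rw [hv]
    rw [map_add, h3, zero_add, map_add, map_sum, map_sum]
    congr 1
    · apply Finset.sum_congr rfl
      intro i _
      rw [map_smul]
      rfl
    · apply Finset.sum_congr rfl
      intro i _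
      rw [map_smul]
      rfl
  · intro i
    refine Fin.addCases (fun a => ?_) (fun a => ?_) i
    · exact ⟨x a, by rw [Fin.append_left]; exact mulVec_eq_add_Nlin A (x a)⟩
    · exact ⟨y a, by rw [Fin.append_right]; exact mulVec_eq_add_Nlin A (y a)⟩

end invol

end Cfsg.Agent.Lib.H11.SpInv
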