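import Cfsg.Agent.Lib.H11.SpInvol2
import Cfsg.Agent.Lib.H4.Symp

/-!
Conjugacy of involutions of `Sp_{2m}(q)`, `q` even.
-/

set_option autoImplicit false
set_option linter.unusedSimpArgs false
set_option linter.unusedSectionVars false
set_option linter.unusedVariables false

namespace Cfsg.Agent.Lib.H11.SpInv

open Matrix Module
open Cfsg.Agent.S0768 (B₀ B₀_apply B₀_alt B₀_nondeg glOfEquiv glOfEquiv_smul)

section conj
variable {F : Type*} [Field F] {m : ℕ}

local notation "VV" => (Fin m ⊕ Fin m → F)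
local notation "MM" => Matrix (Fin m ⊕ Fin m) (Fin m ⊕ Fin m) F

theorem w_li {l : ℕ} (w z : Fin l → VV)
    (hwz : ∀ i j, B₀ F m (w i) (z j) = if i = j then 1 else 0) : LinearIndependent F w := by
  rw [Fintype.linearIndependent_iff]
  intro g hg j
  have h1 : B₀ F m (∑ i, g i • w i) (z j) = 0 := by rw [hg, map_zero, LinearMap.zero_apply]
  rw [map_sum, LinearMap.sum_apply, Finset.sum_eq_single j] at h1
  · rw [map_smul, LinearMap.smul_apply, hwz j j, if_pos rfl, smul_eq_mul, mul_one] at h1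
    exact h1
  · intro i _ hij
    rw [map_smul, LinearMap.smul_apply, hwz i j, if_neg hij, smul_zero]
  · intro h; exact absurd (Finset.mem_univ j) h

theorem rank_of_istr {A : MM} {l : ℕ} {σ : Fin l → Fin l} {w z : Fin l → VV}
    (h : IStr A l σ w z) : (A - 1).rank = l := by
  obtain ⟨hwz, hww, hform, hex⟩ := h
  have hrange : LinearMap.range (Nlin A) = Submodule.span F (Set.range w) := by
    apply le_antisymm
    · rintro _ ⟨v, rfl⟩
      have : Nlin A v = ∑ i, B₀ F m (w (σ i)) v • w i := by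
        rw [Nlin_apply, hform v]; abel
      rw [this]
      exact Submodule.sum_mem _ (fun i _ => Submodule.smul_mem _ _
        (Submodule.subset_span ⟨i, rfl⟩))
    · rw [Submodule.span_le]
      rintro _ ⟨i, rfl⟩
      obtain ⟨u, hu⟩ := hex i
      refine ⟨u, ?_⟩
      rw [Nlin_apply, hu]; abel
  have h1 : (A - 1).rank = finrank F (LinearMap.range (Nlin A)) := rfl
  rw [h1, hrange, finrank_span_eq_card (w_li w z hwz), Fintype.card_fin]

/-- involutions with the same invariants are conjugate by an isometry -/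
theorem conj_of_istr {A A' : MM} {l : ℕ} {σ : Fin l → Fin l} {w z w' z' : Fin l → VV}
    (h : IStr A l σ w z) (h' : IStr A' l σ w' z') :
    ∃ G : MM, G ∈ Matrix.symplecticGroup (Fin m) F ∧ G * A = A' * G := by
  obtain ⟨hwz, hww, hform, hex⟩ := h
  obtain ⟨hwz', hww', hform', hex'⟩ := h'
  obtain ⟨g, hgiso, hgw⟩ := Cfsg.Agent.S0749.witt_family (B := B₀ F m) B₀_nondeg B₀_alt l w w'
    (w_li w z hwz) (w_li w' z' hwz') (fun i j => by rw [hww, hww'])
  have hG : ∀ v, (glOfEquiv g : GL (Fin m ⊕ Fin m) F).1 *ᵥ v = g v := fun v => glOfEquiv_smul g v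
  refine ⟨(glOfEquiv g : GL (Fin m ⊕ Fin m) F).1, ?_, ?_⟩
  · rw [Cfsg.Agent.Lib.H4.mem_symplecticGroup_iff_sympForm]
    intro u v
    rw [hG, hG, ← B₀_apply, ← B₀_apply, hgiso]
  · rw [Matrix.ext_iff_mulVec]
    intro v
    rw [← Matrix.mulVec_mulVec, ← Matrix.mulVec_mulVec, hG, hG, hform, hform', map_add, map_sum]
    congr 1
    apply Finset.sum_congr rfl
    intro i _
    rw [map_smul, hgw i, ← hgw (σ i), hgiso]

end conj

section main
variable {F : Type*} [Field F] [Fintype F] {m : ℕ}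

local notation "VV" => (Fin m ⊕ Fin m → F)
local notation "MM" => Matrix (Fin m ⊕ Fin m) (Fin m ⊕ Fin m) F

theorem isInv_of_mem (a : ↥(Matrix.symplecticGroup (Fin m) F)) (haa : a * a = 1) :
    IsInv (a : MM) := by
  constructor
  · intro u v
    rw [B₀_apply, B₀_apply]
    exact (Cfsg.Agent.Lib.H4.mem_symplecticGroup_iff_sympForm _ _).1 a.2 u v
  · intro v
    have h1 : (a : MM) * (a : MM) = 1 := by
      have := congrArg Subtype.val haa
      exact this
    rw [Matrix.mulVec_mulVec, h1, Matrix.one_mulVec]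

theorem conj_of_same (a b : ↥(Matrix.symplecticGroup (Fin m) F)) {l : ℕ} {σ : Fin l → Fin l}
    {w z w' z' : Fin l → VV} (h : IStr (a : MM) l σ w z) (h' : IStr (b : MM) l σ w' z') :
    IsConj a b := by
  obtain ⟨G, hG, hGA⟩ := conj_of_istr h h'
  rw [isConj_iff]
  refine ⟨⟨G, hG⟩, ?_⟩
  rw [mul_inv_eq_iff_eq_mul]
  apply Subtype.ext
  exact hGA

theorem card_lt_of_nonalt (B : MM) (hna : ∃ v₀ : VV, B₀ F m v₀ (B *ᵥ v₀) ≠ 0) :
    Nat.card {v : VV // Cfsg.sympForm m F v (B *ᵥ v) = 0} < Nat.card VV := by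
  classical
  obtain ⟨v₀, hv₀⟩ := hna
  rw [Nat.card_eq_fintype_card, Nat.card_eq_fintype_card]
  apply Fintype.card_subtype_lt (x := v₀)
  rw [← B₀_apply]
  exact hv₀

theorem card_eq_of_alt (A : MM) (halt : ∀ v : VV, B₀ F m v (A *ᵥ v) = 0) :
    Nat.card {v : VV // Cfsg.sympForm m F v (A *ᵥ v) = 0} = Nat.card VV := by
  apply Nat.card_congr
  refine Equiv.subtypeUnivEquiv ?_
  intro v
  rw [← B₀_apply]
  exact halt v

/-- the main direction: same invariants imply conjugacy -/
theorem conj_main [CharP F 2] (a b : ↥(Matrix.symplecticGroup (Fin m) F)) (haa : a * a = 1)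
    (hbb : b * b = 1)
    (hrank : ((a : MM) - 1).rank = ((b : MM) - 1).rank)
    (hV : Even ((a : MM) - 1).rank →
      Nat.card {v : VV // Cfsg.sympForm m F v ((a : MM) *ᵥ v) = 0} =
        Nat.card {v : VV // Cfsg.sympForm m F v ((b : MM) *ᵥ v) = 0}) : IsConj a b := by
  have h2 : (2 : F) = 0 := CharTwo.two_eq_zero
  have hsq : ∀ c : F, ∃ x : F, x * x = c := by
    intro c
    obtain ⟨r, hr⟩ := FiniteField.isSquare_of_char_two (ringChar.eq F 2) c
    exact ⟨r, hr.symm⟩
  have hA := isInv_of_mem a haa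
  have hB := isInv_of_mem b hbb
  by_cases halt : ∀ v : VV, B₀ F m v ((a : MM) *ᵥ v) = 0
  · obtain ⟨r, w, z, hstr⟩ := istr_alt h2 hA halt
    have hra := rank_of_istr hstr
    by_cases halt' : ∀ v : VV, B₀ F m v ((b : MM) *ᵥ v) = 0
    · obtain ⟨r', w', z', hstr'⟩ := istr_alt h2 hB halt'
      have hrb := rank_of_istr hstr'
      have : r = r' := by omega
      subst this
      exact conj_of_same a b hstr hstr'
    · exfalso
      push Not at halt'
      have h1 := card_lt_of_nonalt (b : MM) halt'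
      have h3 := card_eq_of_alt (a : MM) halt
      have h4 := hV (by rw [hra]; exact ⟨r, rfl⟩)
      omega
  · push Not at halt
    obtain ⟨k, w, z, hstr⟩ := istr_nonalt h2 hsq hA halt
    have hra := rank_of_istr hstr
    by_cases halt' : ∀ v : VV, B₀ F m v ((b : MM) *ᵥ v) = 0
    · exfalso
      obtain ⟨r', w', z', hstr'⟩ := istr_alt h2 hB halt'
      have hrb := rank_of_istr hstr'
      have h1 := card_lt_of_nonalt (a : MM) halt
      have h3 := card_eq_of_alt (b : MM) halt'
      have h4 := hV (by rw [hrank, hrb]; exact ⟨r', rfl⟩)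
      omega
    · push Not at halt'
      obtain ⟨k', w', z', hstr'⟩ := istr_nonalt h2 hsq hB halt'
      have hrb := rank_of_istr hstr'
      have : k = k' := by omega
      subst this
      exact conj_of_same a b hstr hstr'

/-- the easy direction -/
theorem invariants_of_conj (a b : ↥(Matrix.symplecticGroup (Fin m) F)) (h : IsConj a b) :
    ((a : MM) - 1).rank = ((b : MM) - 1).rank ∧
      Nat.card {v : VV // Cfsg.sympForm m F v ((a : MM) *ᵥ v) = 0} =
        Nat.card {v : VV // Cfsg.sympForm m F v ((b : MM) *ᵥ v) = 0} := by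
  obtain ⟨c, hc⟩ := isConj_iff.1 h
  have hcc : (c : MM) * ((c⁻¹ : ↥(Matrix.symplecticGroup (Fin m) F)) : MM) = 1 := by
    have := congrArg Subtype.val (mul_inv_cancel c)
    exact this
  have hcc' : ((c⁻¹ : ↥(Matrix.symplecticGroup (Fin m) F)) : MM) * (c : MM) = 1 := by
    have := congrArg Subtype.val (inv_mul_cancel c)
    exact this
  have hc' : (c : MM) * (a : MM) * ((c⁻¹ : ↥(Matrix.symplecticGroup (Fin m) F)) : MM) =
      (b : MM) := by
    have := congrArg Subtype.val hc
    exact this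
  have hdet : IsUnit (c : MM).det := by
    have := congrArg Matrix.det hcc
    rw [Matrix.det_mul, Matrix.det_one] at this
    exact IsUnit.of_mul_eq_one _ this
  have hdet' : IsUnit ((c⁻¹ : ↥(Matrix.symplecticGroup (Fin m) F)) : MM).det := by
    have := congrArg Matrix.det hcc'
    rw [Matrix.det_mul, Matrix.det_one] at this
    exact IsUnit.of_mul_eq_one _ this
  constructor
  · have h3 : (b : MM) - 1 = (c : MM) * ((a : MM) - 1) *
        ((c⁻¹ : ↥(Matrix.symplecticGroup (Fin m) F)) : MM) := by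
      rw [Matrix.mul_sub, Matrix.sub_mul, hc', Matrix.mul_one, hcc]
    rw [h3, Matrix.rank_mul_eq_left_of_isUnit_det _ _ hdet',
      Matrix.rank_mul_eq_right_of_isUnit_det _ _ hdet]
  · let e : VV ≃ VV :=
      { toFun := fun v => (c : MM) *ᵥ v
        invFun := fun v => ((c⁻¹ : ↥(Matrix.symplecticGroup (Fin m) F)) : MM) *ᵥ v
        left_inv := fun v => by
          show ((c⁻¹ : ↥(Matrix.symplecticGroup (Fin m) F)) : MM) *ᵥ ((c : MM) *ᵥ v) = v
          rw [Matrix.mulVec_mulVec, hcc', Matrix.one_mulVec]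
        right_inv := fun v => by
          show (c : MM) *ᵥ (((c⁻¹ : ↥(Matrix.symplecticGroup (Fin m) F)) : MM) *ᵥ v) = v
          rw [Matrix.mulVec_mulVec, hcc, Matrix.one_mulVec] }
    apply Nat.card_congr
    refine e.subtypeEquiv ?_
    intro v
    show _ ↔ Cfsg.sympForm m F ((c : MM) *ᵥ v) ((b : MM) *ᵥ ((c : MM) *ᵥ v)) = 0
    have h5 : (b : MM) *ᵥ ((c : MM) *ᵥ v) = (c : MM) *ᵥ ((a : MM) *ᵥ v) := by
      rw [← hc', Matrix.mulVec_mulVec, Matrix.mulVec_mulVec, Matrix.mul_assoc, Matrix.mul_assoc,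
        hcc', Matrix.mul_one]
    rw [h5, (Cfsg.Agent.Lib.H4.mem_symplecticGroup_iff_sympForm _ _).1 c.2]

end main

end Cfsg.Agent.Lib.H11.SpInv
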