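import Cfsg.Agent.Lib.H11.SubspMax2

set_option autoImplicit false
set_option linter.unusedSimpArgs false
set_option linter.unusedSectionVars false
set_option linter.unusedVariables false

namespace Cfsg.Agent.Lib.H11.SpPair

open Matrix Module
open Cfsg.Agent.Lib.H28 Cfsg.Agent.Lib.H11.SubspMax
open Cfsg.Agent.Lib.H4 (sympForm_self sympForm_add_left sympForm_add_right sympForm_smul_left
  sympForm_smul_right sympForm_swap)

variable {F : Type*} [Field F] {m : ℕ}

local notation "VV" => (Fin m ⊕ Fin m → F)
local notation "GG" => GL (Fin m ⊕ Fin m) F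
local notation "MM" => Matrix (Fin m ⊕ Fin m) (Fin m ⊕ Fin m) F
local notation "B" => Cfsg.sympForm m F

theorem stv_mul_stv (v : VV) (c c' : F) : stv v c * stv v c' = stv v (c + c') := by
  apply gl_ext
  intro x
  rw [gl_mul_mulVec, stv_mulVec, stv_mulVec, stv_mulVec, sympForm_add_left, sympForm_smul_left,
    sympForm_self, mul_zero, add_zero, add_assoc, ← add_smul]
  congr 2
  ring

theorem stv_zero_right (v : VV) : stv v (0 : F) = 1 := by
  apply gl_ext
  intro x
  rw [stv_mulVec, zero_mul, zero_smul, add_zero, Units.val_one, Matrix.one_mulVec]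

theorem stv_inv (v : VV) (c : F) : (stv v c)⁻¹ = stv v (-c) := by
  rw [inv_eq_iff_mul_eq_one, stv_mul_stv, add_neg_cancel, stv_zero_right]

/-- the "short root element" `x ↦ x + B(x,y) a + B(x,a) y` for orthogonal `a, y` -/
noncomputable def sr (a y : VV) : GG := stv (a + y) 1 * stv a (-1) * stv y (-1)

theorem sr_mem_spGL (a y : VV) : sr a y ∈ Cfsg.spGL m F :=
  Subgroup.mul_mem _ (Subgroup.mul_mem _ (stv_mem_spGL _ _) (stv_mem_spGL _ _)) (stv_mem_spGL _ _)

theorem sr_mulVec (a y : VV) (h : B a y = 0) (x : VV) :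
    ((sr a y : GG) : MM) *ᵥ x = x + B x y • a + B x a • y := by
  have h' : B y a = 0 := sympForm_eq_swap h
  unfold sr
  rw [gl_mul_mulVec, gl_mul_mulVec, stv_mulVec, stv_mulVec, stv_mulVec]
  simp only [sympForm_add_left, sympForm_add_right, sympForm_smul_left, sympForm_smul_right,
    sympForm_self, h, h']
  module

theorem sr_conj (g : GG) (hg : g ∈ Cfsg.spGL m F) (a y : VV) :
    g * sr a y * g⁻¹ = sr ((g : MM) *ᵥ a) ((g : MM) *ᵥ y) := by
  unfold sr
  rw [← Matrix.mulVec_add, conj_stv g hg, conj_stv g hg, conj_stv g hg]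
  group

theorem sr_symm (a y : VV) (h : B a y = 0) : sr a y = sr y a := by
  apply gl_ext
  intro x
  rw [sr_mulVec a y h, sr_mulVec y a (sympForm_eq_swap h)]
  abel

/-- the commutation relation of two short root elements with a common vector -/
theorem sr_comm_rel (w a y : VV) (hwa : B w a = 0) (hwy : B w y = 0) :
    sr w a * sr w y = sr w y * sr w a * stv w (-(2 * B a y)) := by
  have hwa' : B a w = 0 := sympForm_eq_swap hwa
  have hwy' : B y w = 0 := sympForm_eq_swap hwy
  have hya : B y a = - B a y := sympForm_swap m y a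
  apply gl_ext
  intro x
  rw [gl_mul_mulVec, gl_mul_mulVec, gl_mul_mulVec, sr_mulVec w a hwa, sr_mulVec w y hwy,
    stv_mulVec, sr_mulVec w a hwa, sr_mulVec w y hwy]
  simp only [sympForm_add_left, sympForm_add_right, sympForm_smul_left, sympForm_smul_right,
    sympForm_self, hwa, hwy, hwa', hwy', hya]
  module

/-- product of short root elements with a common vector, orthogonal second arguments -/
theorem sr_mul_of_orth (w a y : VV) (hwa : B w a = 0) (hwy : B w y = 0) (hay : B a y = 0) :
    sr w a * sr w y = sr w (a + y) := by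
  have hwa' : B a w = 0 := sympForm_eq_swap hwa
  have hwy' : B y w = 0 := sympForm_eq_swap hwy
  have hya : B y a = 0 := sympForm_eq_swap hay
  apply gl_ext
  intro x
  rw [gl_mul_mulVec, sr_mulVec w a hwa, sr_mulVec w y hwy,
    sr_mulVec w (a + y) (by rw [sympForm_add_right, hwa, hwy, add_zero])]
  simp only [sympForm_add_left, sympForm_add_right, sympForm_smul_left, sympForm_smul_right,
    sympForm_self, hwa, hwy, hwa', hwy', hya, hay]
  module

end Cfsg.Agent.Lib.H11.SpPair
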