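import Cfsg.Agent.Lib.H11.SpPair2
import Cfsg.Agent.Lib.H11.SpImp1

set_option autoImplicit false
set_option linter.unusedSimpArgs false
set_option linter.unusedSectionVars false
set_option linter.unusedVariables false

namespace Cfsg.Agent.Lib.H11.SpPair

open Matrix Module
open Cfsg.Agent.Lib.H28 Cfsg.Agent.Lib.H11.SubspMax
open Cfsg.Agent.Lib.H4 (sympForm_self sympForm_add_left sympForm_add_right sympForm_smul_left
  sympForm_smul_right sympForm_swap)

variable {F : Type*} [Field F] {m : ℕ}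

local notation "VV" => (Fin m ⊕ Fin m → F)
local notation "GG" => GL (Fin m ⊕ Fin m) F
local notation "MM" => Matrix (Fin m ⊕ Fin m) (Fin m ⊕ Fin m) F
local notation "B" => Cfsg.sympForm m F

theorem gl_inj (g : GL (Fin m ⊕ Fin m) F) {x y : Fin m ⊕ Fin m → F}
    (h : (g : MM) *ᵥ x = (g : MM) *ᵥ y) : x = y := by
  have := congrArg (fun v => ((g⁻¹ : GG) : MM) *ᵥ v) h
  simpa [gl_inv_mulVec] using this

theorem map_eq_of_maps (g : GL (Fin m ⊕ Fin m) F) (W W' : Submodule F (Fin m ⊕ Fin m → F))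
    (h : ∀ x ∈ W, (g : MM) *ᵥ x ∈ W') (hfr : finrank F W = finrank F W') :
    W.map (Matrix.toLin' (g : MM)) = W' := by
  have hle : W.map (Matrix.toLin' (g : MM)) ≤ W' := by
    rintro _ ⟨x, hx, rfl⟩
    rw [Matrix.toLin'_apply]; exact h x hx
  have hinj : Function.Injective (Matrix.toLin' (g : MM)) := by
    intro x y hxy
    rw [Matrix.toLin'_apply, Matrix.toLin'_apply] at hxy
    exact gl_inj g hxy
  have h1 : finrank F ↥(W.map (Matrix.toLin' (g : MM))) = finrank F W :=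
    (LinearEquiv.finrank_eq (Submodule.equivMapOfInjective _ hinj W)).symm
  exact Submodule.eq_of_le_of_finrank_eq hle (by rw [h1, hfr])

variable {D : Fin 2 → Submodule F (Fin m ⊕ Fin m → F)}

theorem mem_stab_of_stab2 (hP : LagPair (D 0) (D 1)) (g : GL (Fin m ⊕ Fin m) F)
    (h1 : ∀ x ∈ D 0, (g : MM) *ᵥ x ∈ D 0) (h2 : ∀ x ∈ D 1, (g : MM) *ᵥ x ∈ D 1) :
    g ∈ Cfsg.Geo.decompositionStabilizer D := by
  refine ⟨1, ?_⟩
  rw [Fin.forall_fin_two]
  exact ⟨map_eq_of_maps g _ _ h1 rfl, map_eq_of_maps g _ _ h2 rfl⟩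

theorem mem_stab_of_swap2 (hP : LagPair (D 0) (D 1)) (g : GL (Fin m ⊕ Fin m) F)
    (h1 : ∀ x ∈ D 0, (g : MM) *ᵥ x ∈ D 1) (h2 : ∀ x ∈ D 1, (g : MM) *ᵥ x ∈ D 0) :
    g ∈ Cfsg.Geo.decompositionStabilizer D := by
  refine ⟨Equiv.swap 0 1, ?_⟩
  rw [Fin.forall_fin_two]
  refine ⟨?_, ?_⟩
  · rw [Equiv.swap_apply_left]
    exact map_eq_of_maps g _ _ h1 (by rw [hP.fr₁, hP.fr₂])
  · rw [Equiv.swap_apply_right]
    exact map_eq_of_maps g _ _ h2 (by rw [hP.fr₁, hP.fr₂])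

theorem cases_of_mem_stab (g : GL (Fin m ⊕ Fin m) F)
    (hg : g ∈ Cfsg.Geo.decompositionStabilizer D) :
    ((∀ x ∈ D 0, (g : MM) *ᵥ x ∈ D 0) ∧ (∀ x ∈ D 1, (g : MM) *ᵥ x ∈ D 1)) ∨
    ((∀ x ∈ D 0, (g : MM) *ᵥ x ∈ D 1) ∧ (∀ x ∈ D 1, (g : MM) *ᵥ x ∈ D 0)) := by
  obtain ⟨σ, hσ⟩ := hg
  have key : ∀ i, ∀ x ∈ D i, (g : MM) *ᵥ x ∈ D (σ i) := by
    intro i x hx
    rw [← hσ i]
    exact ⟨x, hx, by rw [Matrix.toLin'_apply]⟩
  have hfin : ∀ i : Fin 2, i = 0 ∨ i = 1 := by decide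
  rcases hfin (σ 0) with h0 | h0
  · left
    have h1 : σ 1 = 1 := by
      rcases hfin (σ 1) with h1 | h1
      · exact absurd (σ.injective (h0.trans h1.symm)) (by decide)
      · exact h1
    refine ⟨fun x hx => ?_, fun x hx => ?_⟩
    · have := key 0 x hx; rwa [h0] at this
    · have := key 1 x hx; rwa [h1] at this
  · right
    have h1 : σ 1 = 0 := by
      rcases hfin (σ 1) with h1 | h1
      · exact h1
      · exact absurd (σ.injective (h0.trans h1.symm)) (by decide)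
    refine ⟨fun x hx => ?_, fun x hx => ?_⟩
    · have := key 0 x hx; rwa [h0] at this
    · have := key 1 x hx; rwa [h1] at this

/-- the short root elements of the Levi subgroup -/
theorem sr_mem_N (hP : LagPair (D 0) (D 1)) {a y : Fin m ⊕ Fin m → F} (ha : a ∈ D 0)
    (hy : y ∈ D 1) (hay : B a y = 0) :
    sr a y ∈ Cfsg.Geo.decompositionStabilizer D ⊓ Cfsg.spGL m F := by
  refine ⟨mem_stab_of_stab2 hP _ ?_ ?_, sr_mem_spGL a y⟩
  · intro x hx
    rw [sr_mulVec a y hay, hP.iso₁ x hx a ha, zero_smul, add_zero]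
    exact (D 0).add_mem hx ((D 0).smul_mem _ ha)
  · intro x hx
    rw [sr_mulVec a y hay, hP.iso₂ x hx y hy, zero_smul, add_zero]
    exact (D 1).add_mem hx ((D 1).smul_mem _ hy)

theorem lagPair_of_decomp (hD : Cfsg.Geo.IsMDecomposition m D)
    (hts : ∀ i, Cfsg.Geo.IsTotallySingularFor (Cfsg.sympForm m F) (D i)) :
    LagPair (D 0) (D 1) where
  iso₁ := hts 0
  iso₂ := hts 1
  disj := by
    have := hD.indep.pairwiseDisjoint (show (0 : Fin 2) ≠ 1 by decide)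
    exact disjoint_iff.1 this
  span := by
    intro x
    have hsup : D 0 ⊔ D 1 = ⊤ := by
      rw [← hD.iSup_eq_top]
      apply le_antisymm
      · exact sup_le (le_iSup D 0) (le_iSup D 1)
      · apply iSup_le
        rw [Fin.forall_fin_two]
        exact ⟨le_sup_left, le_sup_right⟩
    have hx : x ∈ D 0 ⊔ D 1 := by rw [hsup]; exact Submodule.mem_top
    obtain ⟨x₁, h₁, x₂, h₂, hx⟩ := Submodule.mem_sup.1 hx
    exact ⟨x₁, h₁, x₂, h₂, hx.symm⟩
  fr₁ := hD.finrank_eq 0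
  fr₂ := hD.finrank_eq 1

/-- the stabiliser is a proper subgroup of the symplectic group -/
theorem N_lt (hP : LagPair (D 0) (D 1)) (hm : 1 ≤ m) :
    Cfsg.Geo.decompositionStabilizer D ⊓ Cfsg.spGL m F < Cfsg.spGL m F := by
  refine lt_of_le_of_ne inf_le_right ?_
  intro heq
  have hD0 : D 0 ≠ ⊥ := by
    intro h
    have := hP.fr₁
    rw [h, finrank_bot] at this
    omega
  obtain ⟨u, hu, hu0⟩ := Submodule.exists_mem_ne_zero_of_ne_bot hD0
  have hmem : stv u (1 : F) ∈ Cfsg.Geo.decompositionStabilizer D ⊓ Cfsg.spGL m F := by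
    rw [heq]; exact stv_mem_spGL _ _
  have hfix : ((stv u (1 : F) : GG) : MM) *ᵥ u = u := by
    rw [stv_mulVec, sympForm_self, mul_zero, zero_smul, add_zero]
  rcases cases_of_mem_stab _ hmem.1 with ⟨-, h2⟩ | ⟨h1, -⟩
  · obtain ⟨y, hy, hyu⟩ := hP.exists_ne hu hu0
    have := h2 y hy
    rw [stv_mulVec, one_mul] at this
    have h3 : B y u • u ∈ D 1 := by
      have := (D 1).sub_mem this hy
      rwa [add_sub_cancel_left] at this
    have h4 : u ∈ D 1 := by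
      have := (D 1).smul_mem (B y u)⁻¹ h3
      rwa [smul_smul, inv_mul_cancel₀ (sympForm_ne_swap hyu), one_smul] at this
    have h5 : u ∈ D 0 ⊓ D 1 := ⟨hu, h4⟩
    rw [hP.disj, Submodule.mem_bot] at h5
    exact hu0 h5
  · have := h1 u hu
    rw [hfix] at this
    have h5 : u ∈ D 0 ⊓ D 1 := ⟨hu, this⟩
    rw [hP.disj, Submodule.mem_bot] at h5
    exact hu0 h5

end Cfsg.Agent.Lib.H11.SpPair
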