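import Cfsg.Agent.Lib.H11.SpPair3

set_option autoImplicit false
set_option linter.unusedSimpArgs false
set_option linter.unusedSectionVars false
set_option linter.unusedVariables false

namespace Cfsg.Agent.Lib.H11.SpPair

open Matrix Module
open Cfsg.Agent.Lib.H28 Cfsg.Agent.Lib.H11.SubspMax
open Cfsg.Agent.Lib.H4 (sympForm_self sympForm_add_left sympForm_add_right sympForm_smul_left
  sympForm_smul_right sympForm_swap)

variable {F : Type*} [Field F] {m : ℕ}

local notation "VV" => (Fin m ⊕ Fin m → F)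
local notation "GG" => GL (Fin m ⊕ Fin m) F
local notation "MM" => Matrix (Fin m ⊕ Fin m) (Fin m ⊕ Fin m) F
local notation "B" => Cfsg.sympForm m F

theorem finrank_span_pair_le (u v : Fin m ⊕ Fin m → F) :
    finrank F ↥(Submodule.span F ({u, v} : Set (Fin m ⊕ Fin m → F))) ≤ 2 := by
  classical
  have h1 := finrank_span_finset_le_card (R := F) ({u, v} : Finset (Fin m ⊕ Fin m → F))
  have h2 : ({u, v} : Finset (Fin m ⊕ Fin m → F)).card ≤ 2 := Finset.card_le_two
  have h3 : ((({u, v} : Finset (Fin m ⊕ Fin m → F)) : Set (Fin m ⊕ Fin m → F))) = {u, v} := by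
    simp
  rw [Set.finrank, h3] at h1
  omega

variable {U₁ U₂ : Submodule F (Fin m ⊕ Fin m → F)}

/-- the Levi subgroup moves `w` to any independent `u` inside `D 0` -/
theorem exists_move (hP : LagPair U₁ U₂) {w u : Fin m ⊕ Fin m → F} (hw : w ∈ U₁)
    (hu : u ∈ U₁) (hw0 : w ≠ 0) (huw : u ∉ Submodule.span F {w}) :
    ∃ a ∈ U₁, ∃ z ∈ U₂, B a z = 0 ∧ ((sr a z : GG) : MM) *ᵥ w = u := by
  obtain ⟨z, hz, hwz, huz⟩ := hP.exists_both_one hw hu huw hw0
  have h0 : B (u - w) z = 0 := by rw [sympForm_sub_left, hwz, huz, sub_self]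
  refine ⟨u - w, U₁.sub_mem hu hw, z, hz, h0, ?_⟩
  rw [sr_mulVec _ _ h0, hwz, one_smul, hP.iso₁ w hw _ (U₁.sub_mem hu hw), zero_smul, add_zero]
  abel

variable {M : Subgroup (GL (Fin m ⊕ Fin m) F)}

theorem stv_zero_left (c : F) : stv (0 : Fin m ⊕ Fin m → F) c = 1 := by
  apply gl_ext
  intro x
  rw [stv_mulVec, smul_zero, add_zero, Units.val_one, Matrix.one_mulVec]

theorem stv_smul_left (a : F) (v : Fin m ⊕ Fin m → F) (c : F) :
    stv (a • v) c = stv v (a * a * c) := by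
  apply gl_ext
  intro x
  rw [stv_mulVec, stv_mulVec, sympForm_smul_right, smul_smul]
  congr 2
  ring

/-- one transvection with centre in `D 0` gives all of them -/
theorem scl_of_one (hP : LagPair U₁ U₂) (hm : 3 ≤ m) (h2 : (2 : F) ≠ 0)
    (hL : ∀ a ∈ U₁, ∀ y ∈ U₂, B a y = 0 → sr a y ∈ M)
    {w : Fin m ⊕ Fin m → F} (hw : w ∈ U₁) (hw0 : w ≠ 0) {c : F} (hc : c ≠ 0)
    (hwc : stv w c ∈ M) : ∀ u ∈ U₁, u ∈ Scl M := by
  -- step 1: the same scalar at all non-zero centres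
  have step1 : ∀ u ∈ U₁, u ≠ 0 → stv u c ∈ M := by
    intro u hu hu0
    obtain ⟨u', hu', -, hu'S⟩ := exists_mem_kers_not_mem (F := F) [] U₁
      (Submodule.span F ({w, u} : Set (Fin m ⊕ Fin m → F))) (by
        have := finrank_span_pair_le w u
        rw [hP.fr₁]
        simp only [List.length_nil, add_zero]
        omega)
    have h1 : u' ∉ Submodule.span F {w} := fun h => hu'S
      (Submodule.span_mono (by simp) h)
    have h2' : u' ∉ Submodule.span F {u} := fun h => hu'S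
      (Submodule.span_mono (by simp) h)
    have hu'0 : u' ≠ 0 := by
      rintro rfl
      exact h1 (Submodule.zero_mem _)
    have h3 : u ∉ Submodule.span F {u'} := by
      intro hmem
      obtain ⟨a, ha⟩ := Submodule.mem_span_singleton.1 hmem
      have ha0 : a ≠ 0 := by
        rintro rfl
        rw [zero_smul] at ha
        exact hu0 ha.symm
      apply h2'
      rw [Submodule.mem_span_singleton]
      exact ⟨a⁻¹, by rw [← ha, smul_smul, inv_mul_cancel₀ ha0, one_smul]⟩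
    obtain ⟨a₁, ha₁, z₁, hz₁, hb₁, e1⟩ := exists_move hP hw hu' hw0 h1
    obtain ⟨a₂, ha₂, z₂, hz₂, hb₂, e2⟩ := exists_move hP hu' hu hu'0 h3
    have h4 := conj_stv (sr a₁ z₁) (sr_mem_spGL _ _) w c
    rw [e1] at h4
    have h5 := conj_stv (sr a₂ z₂) (sr_mem_spGL _ _) u' c
    rw [e2, h4] at h5
    rw [h5]
    have hl₁ := hL a₁ ha₁ z₁ hz₁ hb₁
    have hl₂ := hL a₂ ha₂ z₂ hz₂ hb₂
    exact M.mul_mem (M.mul_mem hl₂ (M.mul_mem (M.mul_mem hl₁ hwc)
      (M.inv_mem hl₁))) (M.inv_mem hl₂)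
  -- step 2: multiply the scalar by squares
  have step2 : ∀ u ∈ U₁, ∀ a : F, stv u (a * a * c) ∈ M := by
    intro u hu a
    by_cases hu0 : u = 0
    · rw [hu0, stv_zero_left]; exact M.one_mem
    by_cases ha : a = 0
    · rw [ha, zero_mul, zero_mul, stv_zero_right]; exact M.one_mem
    rw [← stv_smul_left]
    exact step1 _ (U₁.smul_mem a hu) (smul_ne_zero ha hu0)
  intro u hu c'
  obtain ⟨x, hx⟩ : ∃ x, x = c' / c := ⟨_, rfl⟩
  obtain ⟨s, hs⟩ : ∃ s, s = (x + 1) / 2 := ⟨_, rfl⟩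
  obtain ⟨t, ht⟩ : ∃ t, t = (x - 1) / 2 := ⟨_, rfl⟩
  have e : c' = s * s * c + -(t * t * c) := by
    rw [hs, ht, hx]
    field_simp
    ring
  rw [e, ← stv_mul_stv, ← stv_inv]
  exact M.mul_mem (step2 u hu s) (M.inv_mem (step2 u hu t))

end Cfsg.Agent.Lib.H11.SpPair
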