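import Cfsg.Agent.Lib.H11.SpPair4

set_option autoImplicit false
set_option linter.unusedSimpArgs false
set_option linter.unusedSectionVars false
set_option linter.unusedVariables false

namespace Cfsg.Agent.Lib.H11.SpPair

open Matrix Module
open Cfsg.Agent.Lib.H28 Cfsg.Agent.Lib.H11.SubspMax
open Cfsg.Agent.Lib.H4 (sympForm_self sympForm_add_left sympForm_add_right sympForm_smul_left
  sympForm_smul_right sympForm_swap)

variable {F : Type*} [Field F] {m : ℕ}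

local notation "VV" => (Fin m ⊕ Fin m → F)
local notation "GG" => GL (Fin m ⊕ Fin m) F
local notation "MM" => Matrix (Fin m ⊕ Fin m) (Fin m ⊕ Fin m) F
local notation "B" => Cfsg.sympForm m F

variable {U₁ U₂ : Submodule F (Fin m ⊕ Fin m → F)} {M : Subgroup (GL (Fin m ⊕ Fin m) F)}

theorem not_mem_span_symm {u v : Fin m ⊕ Fin m → F} (hv0 : v ≠ 0)
    (h : u ∉ Submodule.span F {v}) : v ∉ Submodule.span F {u} := by
  intro hmem
  obtain ⟨a, ha⟩ := Submodule.mem_span_singleton.1 hmem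
  have ha0 : a ≠ 0 := by
    rintro rfl
    rw [zero_smul] at ha
    exact hv0 ha.symm
  apply h
  rw [Submodule.mem_span_singleton]
  exact ⟨a⁻¹, by rw [← ha, smul_smul, inv_mul_cancel₀ ha0, one_smul]⟩

/-- Lemma C: a short root element in `M` whose two vectors both have non-zero `U₁`-component
produces a transvection of `M` with centre in `U₁` -/
theorem exists_stv_of_sr (hP : LagPair U₁ U₂) (hm : 5 ≤ m) (h2 : (2 : F) ≠ 0)
    (hL : ∀ a ∈ U₁, ∀ y ∈ U₂, B a y = 0 → sr a y ∈ M)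
    {a₁ a₂ y₁ y₂ : Fin m ⊕ Fin m → F} (ha₁ : a₁ ∈ U₁) (ha₂ : a₂ ∈ U₂) (hy₁ : y₁ ∈ U₁)
    (hy₂ : y₂ ∈ U₂) (hay : B (a₁ + a₂) (y₁ + y₂) = 0) (hM : sr (a₁ + a₂) (y₁ + y₂) ∈ M)
    (ha₁0 : a₁ ≠ 0) (hy₁0 : y₁ ≠ 0) :
    ∃ w ∈ U₁, w ≠ 0 ∧ ∃ c : F, c ≠ 0 ∧ stv w c ∈ M := by
  obtain ⟨z, hz, ha₁z⟩ := hP.exists_ne ha₁ ha₁0
  have hza₁ : B z a₁ ≠ 0 := sympForm_ne_swap ha₁z
  obtain ⟨v₁, hv₁⟩ : ∃ v₁, v₁ = B z y₁ • a₁ + B z a₁ • y₁ := ⟨_, rfl⟩
  have hv₁U : v₁ ∈ U₁ := by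
    rw [hv₁]; exact U₁.add_mem (U₁.smul_mem _ ha₁) (U₁.smul_mem _ hy₁)
  have hv₁0 : v₁ ≠ 0 := by
    intro h0
    have h1 : B z v₁ = 0 := by rw [h0, sympForm_zero_right]
    rw [hv₁, sympForm_add_right, sympForm_smul_right, sympForm_smul_right] at h1
    have h3 : B z y₁ = 0 := by
      have : (2 : F) * (B z a₁ * B z y₁) = 0 := by linear_combination h1
      rcases mul_eq_zero.1 this with h | h
      · exact absurd h h2
      · exact (mul_eq_zero.1 h).resolve_left hza₁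
    rw [hv₁, h3, zero_smul, zero_add] at h0
    exact hy₁0 ((smul_eq_zero.1 h0).resolve_left hza₁)
  -- the vector `w`
  obtain ⟨w, hw, hwk, hwS⟩ := exists_mem_kers_not_mem (F := F) [fB a₂, fB y₂, fB z] U₁
    (Submodule.span F {v₁}) (by
      rw [finrank_span_singleton hv₁0, hP.fr₁]
      simp only [List.length_cons, List.length_nil]
      omega)
  have hwa₂ : B w a₂ = 0 := by
    have := hwk (fB a₂) (by simp)
    rwa [fB_apply] at this
  have hwy₂ : B w y₂ = 0 := by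
    have := hwk (fB y₂) (by simp)
    rwa [fB_apply] at this
  have hwz : B w z = 0 := by
    have := hwk (fB z) (by simp)
    rwa [fB_apply] at this
  have hw0 : w ≠ 0 := by
    rintro rfl
    exact hwS (Submodule.zero_mem _)
  have hwa₁ : B w a₁ = 0 := hP.iso₁ w hw a₁ ha₁
  have hwy₁ : B w y₁ = 0 := hP.iso₁ w hw y₁ hy₁
  have hwa : B w (a₁ + a₂) = 0 := by rw [sympForm_add_right, hwa₁, hwa₂, add_zero]
  have hwy : B w (y₁ + y₂) = 0 := by rw [sympForm_add_right, hwy₁, hwy₂, add_zero]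
  -- conjugate the Levi element `sr w z` by `g`
  obtain ⟨g, hg⟩ : ∃ g, g = sr (a₁ + a₂) (y₁ + y₂) := ⟨_, rfl⟩
  have hgw : (g : MM) *ᵥ w = w := by
    rw [hg, sr_mulVec _ _ hay, hwa, hwy, zero_smul, zero_smul, add_zero, add_zero]
  obtain ⟨v, hv⟩ : ∃ v, v = (g : MM) *ᵥ z := ⟨_, rfl⟩
  have hzy₂ : B z y₂ = 0 := hP.iso₂ z hz y₂ hy₂
  have hza₂ : B z a₂ = 0 := hP.iso₂ z hz a₂ ha₂
  have hv' : v = z + B z y₁ • (a₁ + a₂) + B z a₁ • (y₁ + y₂) := by
    rw [hv, hg, sr_mulVec _ _ hay, sympForm_add_right, sympForm_add_right, hzy₂, hza₂, add_zero,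
      add_zero]
  have hsrM : sr w v ∈ M := by
    have h1 := sr_conj g (by rw [hg]; exact sr_mem_spGL _ _) w z
    rw [hgw, ← hv] at h1
    rw [← h1]
    have h3 : g ∈ M := by rw [hg]; exact hM
    exact M.mul_mem (M.mul_mem h3 (hL w hw z hz hwz)) (M.inv_mem h3)
  have hwv : B w v = 0 := by
    rw [hv', sympForm_add_right, sympForm_add_right, sympForm_smul_right, sympForm_smul_right,
      hwz, hwa, hwy]
    ring
  -- the vector `y''`
  have hv₁w : v₁ ∉ Submodule.span F {w} := not_mem_span_symm hv₁0 hwS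
  obtain ⟨y'', hy'', hwy'', hv₁y''⟩ := hP.exists_sep hw hv₁U hv₁w
  have hvy'' : B v y'' = 1 := by
    rw [hv', sympForm_add_left, sympForm_add_left, sympForm_smul_left, sympForm_smul_left,
      sympForm_add_left, sympForm_add_left, hP.iso₂ z hz y'' hy'', hP.iso₂ a₂ ha₂ y'' hy'',
      hP.iso₂ y₂ hy₂ y'' hy'']
    rw [hv₁, sympForm_add_left, sympForm_smul_left, sympForm_smul_left] at hv₁y''
    linear_combination hv₁y''
  have hrel := sr_comm_rel w v y'' hwv hwy''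
  rw [hvy'', mul_one] at hrel
  have h5 : sr w y'' ∈ M := hL w hw y'' hy'' hwy''
  refine ⟨w, hw, hw0, -2, neg_ne_zero.2 h2, ?_⟩
  have h6 : stv w (-2 : F) = (sr w y'' * sr w v)⁻¹ * (sr w v * sr w y'') := by
    rw [hrel]; group
  rw [h6]
  exact M.mul_mem (M.inv_mem (M.mul_mem h5 hsrM)) (M.mul_mem hsrM h5)

end Cfsg.Agent.Lib.H11.SpPair
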