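import Cfsg.Agent.Lib.H11.SpPair5

set_option autoImplicit false
set_option linter.unusedSimpArgs false
set_option linter.unusedSectionVars false
set_option linter.unusedVariables false

namespace Cfsg.Agent.Lib.H11.SpPair

open Matrix Module
open Cfsg.Agent.Lib.H28 Cfsg.Agent.Lib.H11.SubspMax
open Cfsg.Agent.Lib.H4 (sympForm_self sympForm_add_left sympForm_add_right sympForm_smul_left
  sympForm_smul_right sympForm_swap)

variable {F : Type*} [Field F] {m : ℕ}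

local notation "VV" => (Fin m ⊕ Fin m → F)
local notation "GG" => GL (Fin m ⊕ Fin m) F
local notation "MM" => Matrix (Fin m ⊕ Fin m) (Fin m ⊕ Fin m) F
local notation "B" => Cfsg.sympForm m F

variable {U₁ U₂ : Submodule F (Fin m ⊕ Fin m → F)} {M : Subgroup (GL (Fin m ⊕ Fin m) F)}

/-- a subspace of dimension `m` invariant under the Levi short root elements is `U₁` or `U₂` -/
theorem eq_of_invariant (hP : LagPair U₁ U₂) (hm : 3 ≤ m) (T : Submodule F (Fin m ⊕ Fin m → F))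
    (hT : finrank F T = m)
    (hinv : ∀ a ∈ U₁, ∀ y ∈ U₂, B a y = 0 → ∀ t ∈ T, ((sr a y : GG) : MM) *ᵥ t ∈ T) :
    T = U₁ ∨ T = U₂ := by
  by_cases hTU : T ≤ U₂
  · right
    exact Submodule.eq_of_le_of_finrank_eq hTU (by rw [hT, hP.fr₂])
  left
  obtain ⟨t, htT, htU⟩ := Set.not_subset.mp hTU
  obtain ⟨t₁, ht₁, t₂, ht₂, rfl⟩ := hP.span t
  have ht₁0 : t₁ ≠ 0 := by
    rintro rfl
    rw [zero_add] at htU
    exact htU ht₂
  obtain ⟨y, hy, hty⟩ := hP.exists_ne ht₁ ht₁0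
  -- a non-zero vector of `T ⊓ U₁`
  obtain ⟨a₀, ha₀, hk, ha₀S⟩ := exists_mem_kers_not_mem (F := F) [fB y, fB t₂] U₁ ⊥ (by
    rw [finrank_bot, hP.fr₁]
    simp only [List.length_cons, List.length_nil]
    omega)
  have ha₀y : B a₀ y = 0 := by
    have := hk (fB y) (by simp)
    rwa [fB_apply] at this
  have ha₀t₂ : B a₀ t₂ = 0 := by
    have := hk (fB t₂) (by simp)
    rwa [fB_apply] at this
  have ha₀0 : a₀ ≠ 0 := fun h => ha₀S (by rw [h]; exact Submodule.zero_mem _)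
  have ha₀T : a₀ ∈ T := by
    have h1 := hinv a₀ ha₀ y hy ha₀y _ htT
    rw [sr_mulVec _ _ ha₀y, sympForm_add_left, sympForm_add_left, hP.iso₂ t₂ ht₂ y hy, add_zero,
      hP.iso₁ t₁ ht₁ a₀ ha₀, zero_add, sympForm_eq_swap ha₀t₂, zero_smul, add_zero] at h1
    have h3 : B t₁ y • a₀ ∈ T := by
      have := T.sub_mem h1 htT
      rwa [add_sub_cancel_left] at this
    have := T.smul_mem (B t₁ y)⁻¹ h3
    rwa [smul_smul, inv_mul_cancel₀ hty, one_smul] at this
  have hle : U₁ ≤ T := by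
    intro a ha
    by_cases haS : a ∈ Submodule.span F {a₀}
    · obtain ⟨c, rfl⟩ := Submodule.mem_span_singleton.1 haS
      exact T.smul_mem c ha₀T
    · have h1 : a₀ ∉ Submodule.span F {a} := not_mem_span_symm ha₀0 haS
      obtain ⟨y', hy', hay', ha₀y'⟩ := hP.exists_sep ha ha₀ h1
      have h3 := hinv a ha y' hy' hay' a₀ ha₀T
      rw [sr_mulVec _ _ hay', ha₀y', one_smul, hP.iso₁ a₀ ha₀ a ha, zero_smul, add_zero] at h3
      have := T.sub_mem h3 ha₀T
      rwa [add_sub_cancel_left] at this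
  exact (Submodule.eq_of_le_of_finrank_eq hle (by rw [hT, hP.fr₁])).symm

/-- a short root element cannot interchange `U₁` and `U₂` -/
theorem sr_not_swap (hP : LagPair U₁ U₂) (h2 : (2 : F) ≠ 0) (hm : 1 ≤ m)
    (a y : Fin m ⊕ Fin m → F) (hay : B a y = 0) :
    ¬ ((∀ x ∈ U₁, ((sr a y : GG) : MM) *ᵥ x ∈ U₂) ∧
      (∀ x ∈ U₂, ((sr a y : GG) : MM) *ᵥ x ∈ U₁)) := by
  rintro ⟨h1, h1'⟩
  have hU0 : U₁ ≠ ⊥ := by
    intro h
    have := hP.fr₁
    rw [h, finrank_bot] at this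
    omega
  obtain ⟨x, hx, hx0⟩ := Submodule.exists_mem_ne_zero_of_ne_bot hU0
  have hya : B y a = 0 := sympForm_eq_swap hay
  obtain ⟨e, he⟩ : ∃ e, e = B x y • a + B x a • y := ⟨_, rfl⟩
  have hgx : ((sr a y : GG) : MM) *ᵥ x = x + e := by
    rw [sr_mulVec _ _ hay, he, add_assoc]
  have hge : ((sr a y : GG) : MM) *ᵥ e = e := by
    rw [sr_mulVec _ _ hay, he]
    simp only [sympForm_add_left, sympForm_smul_left, sympForm_self, hay, hya]
    simp
  have h3 := h1 x hx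
  have h4 := h1' _ h3
  rw [hgx] at h3
  rw [hgx, Matrix.mulVec_add, hgx, hge] at h4
  have h5 : (2 : F) • e ∈ U₁ := by
    have := U₁.sub_mem h4 hx
    have e1 : x + e + e - x = (2 : F) • e := by rw [two_smul]; abel
    rwa [e1] at this
  have h6 : e ∈ U₁ := by
    have := U₁.smul_mem (2 : F)⁻¹ h5
    rwa [smul_smul, inv_mul_cancel₀ h2, one_smul] at this
  have h7 : x + e ∈ U₁ ⊓ U₂ := ⟨U₁.add_mem hx h6, h3⟩
  rw [hP.disj, Submodule.mem_bot] at h7
  rw [← hgx] at h7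
  apply hx0
  apply gl_inj (sr a y)
  rw [h7, Matrix.mulVec_zero]

end Cfsg.Agent.Lib.H11.SpPair
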