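import Cfsg.Agent.Lib.H11.SpPair6

set_option autoImplicit false
set_option linter.unusedSimpArgs false
set_option linter.unusedSectionVars false
set_option linter.unusedVariables false

namespace Cfsg.Agent.Lib.H11.SpPair

open Matrix Module
open Cfsg.Agent.Lib.H28 Cfsg.Agent.Lib.H11.SubspMax
open Cfsg.Agent.Lib.H4 (sympForm_self sympForm_add_left sympForm_add_right sympForm_smul_left
  sympForm_smul_right sympForm_swap)

variable {F : Type*} [Field F] {m : ℕ}

local notation "VV" => (Fin m ⊕ Fin m → F)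
local notation "GG" => GL (Fin m ⊕ Fin m) F
local notation "MM" => Matrix (Fin m ⊕ Fin m) (Fin m ⊕ Fin m) F
local notation "B" => Cfsg.sympForm m F

variable {D : Fin 2 → Submodule F (Fin m ⊕ Fin m → F)} {M : Subgroup (GL (Fin m ⊕ Fin m) F)}

theorem finrank_map_gl (g : GL (Fin m ⊕ Fin m) F) (W : Submodule F (Fin m ⊕ Fin m → F)) :
    finrank F ↥(W.map (Matrix.toLin' (g : MM))) = finrank F W := by
  have hinj : Function.Injective (Matrix.toLin' (g : MM)) := by
    intro x y hxy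
    rw [Matrix.toLin'_apply, Matrix.toLin'_apply] at hxy
    exact gl_inj g hxy
  exact (LinearEquiv.finrank_eq (Submodule.equivMapOfInjective _ hinj W)).symm

theorem map_gl_injective (g : GL (Fin m ⊕ Fin m) F) {W W' : Submodule F (Fin m ⊕ Fin m → F)}
    (h : W.map (Matrix.toLin' (g : MM)) = W'.map (Matrix.toLin' (g : MM))) : W = W' := by
  have hinj : Function.Injective (Matrix.toLin' (g : MM)) := by
    intro x y hxy
    rw [Matrix.toLin'_apply, Matrix.toLin'_apply] at hxy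
    exact gl_inj g hxy
  exact Submodule.map_injective_of_injective hinj h

/-- B1: an element of `M` outside the stabiliser gives a short root element of `M` outside it -/
theorem exists_sr_not_mem (hP : LagPair (D 0) (D 1)) (hm : 3 ≤ m) (h2 : (2 : F) ≠ 0)
    (hNM : Cfsg.Geo.decompositionStabilizer D ⊓ Cfsg.spGL m F ≤ M) (hMS : M ≤ Cfsg.spGL m F)
    (h : GL (Fin m ⊕ Fin m) F) (hhM : h ∈ M) (hh : h ∉ Cfsg.Geo.decompositionStabilizer D) :
    ∃ a y : Fin m ⊕ Fin m → F, B a y = 0 ∧ sr a y ∈ M ∧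
      sr a y ∉ Cfsg.Geo.decompositionStabilizer D := by
  by_contra hcon
  push Not at hcon
  have hhS : h⁻¹ ∈ Cfsg.spGL m F := Subgroup.inv_mem _ (hMS hhM)
  -- the conjugates of the Levi short root elements stabilise both subspaces
  have key : ∀ a ∈ D 0, ∀ y ∈ D 1, B a y = 0 →
      (∀ x ∈ D 0, ((h⁻¹ * sr a y * h : GG) : MM) *ᵥ x ∈ D 0) ∧
      (∀ x ∈ D 1, ((h⁻¹ * sr a y * h : GG) : MM) *ᵥ x ∈ D 1) := by
    intro a ha y hy hay
    have h1 := sr_conj h⁻¹ hhS a y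
    rw [inv_inv] at h1
    have h3 : B (((h⁻¹ : GG) : MM) *ᵥ a) (((h⁻¹ : GG) : MM) *ᵥ y) = 0 := by
      rw [(mem_spGL_iff _).1 hhS a y]; exact hay
    have h4 : h⁻¹ * sr a y * h ∈ M :=
      M.mul_mem (M.mul_mem (M.inv_mem hhM) (hNM (sr_mem_N hP ha hy hay))) hhM
    have h5 := hcon _ _ h3 (by rw [← h1]; exact h4)
    rw [← h1] at h5
    rcases cases_of_mem_stab _ h5 with h6 | h6
    · exact h6
    · exfalso
      rw [h1] at h6
      exact sr_not_swap hP h2 (by omega) _ _ h3 h6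
  have hinv : ∀ i : Fin 2, ∀ a ∈ D 0, ∀ y ∈ D 1, B a y = 0 →
      ∀ t ∈ (D i).map (Matrix.toLin' (h : MM)),
        ((sr a y : GG) : MM) *ᵥ t ∈ (D i).map (Matrix.toLin' (h : MM)) := by
    intro i a ha y hy hay t ht
    obtain ⟨x, hx, rfl⟩ := ht
    have h1 : ((h⁻¹ * sr a y * h : GG) : MM) *ᵥ x ∈ D i := by
      have := key a ha y hy hay
      revert x
      revert i
      rw [Fin.forall_fin_two]
      exact ⟨fun x hx => this.1 x hx, fun x hx => this.2 x hx⟩
    refine ⟨_, h1, ?_⟩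
    rw [Matrix.toLin'_apply, Matrix.toLin'_apply, gl_mul_mulVec, gl_mul_mulVec, gl_mulVec_inv]
  have hT := fun i => eq_of_invariant hP hm ((D i).map (Matrix.toLin' (h : MM)))
    (by
      rw [finrank_map_gl]
      revert i
      rw [Fin.forall_fin_two]
      exact ⟨hP.fr₁, hP.fr₂⟩) (hinv i)
  have hne : D 0 ≠ D 1 := by
    intro heq
    have h1 := hP.disj
    rw [heq, inf_idem] at h1
    have := hP.fr₂
    rw [h1, finrank_bot] at this
    omega
  apply hh
  rcases hT 0 with h0 | h0 <;> rcases hT 1 with h1 | h1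
  · exact absurd (map_gl_injective h (h0.trans h1.symm)) hne
  · refine ⟨1, ?_⟩
    rw [Fin.forall_fin_two]
    exact ⟨h0, h1⟩
  · refine ⟨Equiv.swap 0 1, ?_⟩
    rw [Fin.forall_fin_two]
    exact ⟨by rw [Equiv.swap_apply_left]; exact h0, by rw [Equiv.swap_apply_right]; exact h1⟩
  · exact absurd (map_gl_injective h (h0.trans h1.symm)) hne

/-- C': a short root element of `M` outside the stabiliser gives a transvection of `M` with centre
in `D 0` or `D 1` -/
theorem exists_stv_of_not_mem (hP : LagPair (D 0) (D 1)) (hm : 5 ≤ m) (h2 : (2 : F) ≠ 0)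
    (hNM : Cfsg.Geo.decompositionStabilizer D ⊓ Cfsg.spGL m F ≤ M)
    {a y : Fin m ⊕ Fin m → F} (hay : B a y = 0) (hM : sr a y ∈ M)
    (hnot : sr a y ∉ Cfsg.Geo.decompositionStabilizer D) :
    (∃ w ∈ D 0, w ≠ 0 ∧ ∃ c : F, c ≠ 0 ∧ stv w c ∈ M) ∨
    (∃ w ∈ D 1, w ≠ 0 ∧ ∃ c : F, c ≠ 0 ∧ stv w c ∈ M) := by
  obtain ⟨a₁, ha₁, a₂, ha₂, rfl⟩ := hP.span a
  obtain ⟨y₁, hy₁, y₂, hy₂, rfl⟩ := hP.span y
  have hL : ∀ a ∈ D 0, ∀ y ∈ D 1, B a y = 0 → sr a y ∈ M :=
    fun a ha y hy hay => hNM (sr_mem_N hP ha hy hay)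
  have hL' : ∀ a ∈ D 1, ∀ y ∈ D 0, B a y = 0 → sr a y ∈ M := by
    intro a ha y hy hay
    rw [sr_symm a y hay]
    exact hL y hy a ha (sympForm_eq_swap hay)
  by_cases hc1 : a₁ ≠ 0 ∧ y₁ ≠ 0
  · left
    exact exists_stv_of_sr hP hm h2 hL ha₁ ha₂ hy₁ hy₂ hay hM hc1.1 hc1.2
  by_cases hc2 : a₂ ≠ 0 ∧ y₂ ≠ 0
  · right
    refine exists_stv_of_sr hP.symm hm h2 hL' ha₂ ha₁ hy₂ hy₁ ?_ ?_ hc2.1 hc2.2
    · rw [add_comm a₂, add_comm y₂]; exact hay
    · rw [add_comm a₂, add_comm y₂]; exact hM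
  exfalso
  apply hnot
  have hc1' : a₁ = 0 ∨ y₁ = 0 := by
    by_contra hcon
    push Not at hcon
    exact hc1 hcon
  have hc2' : a₂ = 0 ∨ y₂ = 0 := by
    by_contra hcon
    push Not at hcon
    exact hc2 hcon
  apply mem_stab_of_stab2 hP
  · intro x hx
    rw [sr_mulVec _ _ hay, sympForm_add_right, sympForm_add_right, hP.iso₁ x hx y₁ hy₁,
      hP.iso₁ x hx a₁ ha₁, zero_add, zero_add]
    rcases hc2' with h | h
    · rw [h, add_zero, sympForm_zero_right, zero_smul, add_zero]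
      exact (D 0).add_mem hx ((D 0).smul_mem _ ha₁)
    · rw [h, add_zero, sympForm_zero_right, zero_smul, add_zero]
      exact (D 0).add_mem hx ((D 0).smul_mem _ hy₁)
  · intro x hx
    rw [sr_mulVec _ _ hay, sympForm_add_right, sympForm_add_right, hP.iso₂ x hx y₂ hy₂,
      hP.iso₂ x hx a₂ ha₂, add_zero, add_zero]
    rcases hc1' with h | h
    · rw [h, zero_add, sympForm_zero_right, zero_smul, add_zero]
      exact (D 1).add_mem hx ((D 1).smul_mem _ ha₂)
    · rw [h, zero_add, sympForm_zero_right, zero_smul, add_zero]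
      exact (D 1).add_mem hx ((D 1).smul_mem _ hy₂)

end Cfsg.Agent.Lib.H11.SpPair
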