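import Cfsg.Agent.Lib.H11.SpPair7
import Cfsg.Agent.Lib.H13.SpPairs

set_option autoImplicit false
set_option linter.unusedSimpArgs false
set_option linter.unusedSectionVars false
set_option linter.unusedVariables false

namespace Cfsg.Agent.Lib.H11.SpPair

open Matrix Module
open Cfsg.Agent.Lib.H28 Cfsg.Agent.Lib.H11.SubspMax
open Cfsg.Agent.Lib.H4 (sympForm_self sympForm_add_left sympForm_add_right sympForm_smul_left
  sympForm_smul_right sympForm_swap)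

variable {F : Type*} [Field F] {m : ℕ}

local notation "VV" => (Fin m ⊕ Fin m → F)
local notation "GG" => GL (Fin m ⊕ Fin m) F
local notation "MM" => Matrix (Fin m ⊕ Fin m) (Fin m ⊕ Fin m) F
local notation "B" => Cfsg.sympForm m F

variable {D : Fin 2 → Submodule F (Fin m ⊕ Fin m → F)} {M : Subgroup (GL (Fin m ⊕ Fin m) F)}

/-- maximality, given an element interchanging the two subspaces -/
theorem pair_maximal_of_swap (hP : LagPair (D 0) (D 1)) (hm : 5 ≤ m) (h2 : (2 : F) ≠ 0)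
    (s : GL (Fin m ⊕ Fin m) F)
    (hsN : s ∈ Cfsg.Geo.decompositionStabilizer D ⊓ Cfsg.spGL m F)
    (hs1 : ∀ x ∈ D 0, (s : MM) *ᵥ x ∈ D 1) (hs2 : ∀ x ∈ D 1, (s : MM) *ᵥ x ∈ D 0) :
    Cfsg.Geo.IsMaximalIn (Cfsg.spGL m F)
      (Cfsg.Geo.decompositionStabilizer D ⊓ Cfsg.spGL m F) := by
  refine ⟨N_lt hP (by omega), ?_⟩
  intro M hNM hMS
  by_cases hMN : M = Cfsg.Geo.decompositionStabilizer D ⊓ Cfsg.spGL m F
  · left; exact hMN
  right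
  obtain ⟨h, hhM, hhN⟩ : ∃ h ∈ M, h ∉ Cfsg.Geo.decompositionStabilizer D := by
    by_contra hcon
    push Not at hcon
    apply hMN
    apply le_antisymm _ hNM
    intro g hg
    exact ⟨hcon g hg, hMS hg⟩
  obtain ⟨a, y, hay, haM, hnot⟩ := exists_sr_not_mem hP (by omega) h2 hNM hMS h hhM hhN
  have hL : ∀ a ∈ D 0, ∀ y ∈ D 1, B a y = 0 → sr a y ∈ M :=
    fun a ha y hy hay => hNM (sr_mem_N hP ha hy hay)
  have hL' : ∀ a ∈ D 1, ∀ y ∈ D 0, B a y = 0 → sr a y ∈ M := by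
    intro a ha y hy hay
    rw [sr_symm a y hay]
    exact hL y hy a ha (sympForm_eq_swap hay)
  have both : (∀ u ∈ D 0, u ∈ Scl M) ∧ (∀ u ∈ D 1, u ∈ Scl M) := by
    rcases exists_stv_of_not_mem hP hm h2 hNM hay haM hnot with
      ⟨w, hw, hw0, c, hc, hwc⟩ | ⟨w, hw, hw0, c, hc, hwc⟩
    · have h0 := scl_of_one hP (by omega) h2 hL hw hw0 hc hwc
      refine ⟨h0, fun u hu => ?_⟩
      have hmap := map_eq_of_maps s (D 0) (D 1) hs1 (by rw [hP.fr₁, hP.fr₂])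
      have hu' : u ∈ (D 0).map (Matrix.toLin' (s : MM)) := by rw [hmap]; exact hu
      obtain ⟨x, hx, rfl⟩ := hu'
      rw [Matrix.toLin'_apply]
      exact Scl_inv hMS (hNM hsN) (h0 x hx)
    · have h0 := scl_of_one hP.symm (by omega) h2 hL' hw hw0 hc hwc
      refine ⟨fun u hu => ?_, h0⟩
      have hmap := map_eq_of_maps s (D 1) (D 0) hs2 (by rw [hP.fr₁, hP.fr₂])
      have hu' : u ∈ (D 1).map (Matrix.toLin' (s : MM)) := by rw [hmap]; exact hu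
      obtain ⟨x, hx, rfl⟩ := hu'
      rw [Matrix.toLin'_apply]
      exact Scl_inv hMS (hNM hsN) (h0 x hx)
  apply eq_spGL_of_Scl hMS
  intro v
  obtain ⟨v₁, hv₁, v₂, hv₂, rfl⟩ := hP.span v
  by_cases hne : B v₁ v₂ = 0
  · by_cases hv₁0 : v₁ = 0
    · rw [hv₁0, zero_add]; exact both.2 v₂ hv₂
    obtain ⟨u₂, hu₂, hvu⟩ := hP.exists_ne hv₁ hv₁0
    have h1 : v₁ + u₂ ∈ Scl M := Scl_add' hMS (both.2 u₂ hu₂) (both.1 v₁ hv₁) hvu
    have h3 : v₂ - u₂ ∈ Scl M := both.2 _ ((D 1).sub_mem hv₂ hu₂)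
    have h4 : B (v₁ + u₂) (v₂ - u₂) ≠ 0 := by
      rw [sympForm_add_left, sympForm_sub_right, sympForm_sub_right, hne,
        hP.iso₂ u₂ hu₂ v₂ hv₂, hP.iso₂ u₂ hu₂ u₂ hu₂]
      simpa using hvu
    have h5 := Scl_add' hMS h3 h1 h4
    have e : v₁ + u₂ + (v₂ - u₂) = v₁ + v₂ := by abel
    rwa [e] at h5
  · exact Scl_add' hMS (both.2 v₂ hv₂) (both.1 v₁ hv₁) hne

/-- the element interchanging the two subspaces -/
theorem exists_swap (hP : LagPair (D 0) (D 1)) :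
    ∃ s : GL (Fin m ⊕ Fin m) F, s ∈ Cfsg.Geo.decompositionStabilizer D ⊓ Cfsg.spGL m F ∧
      (∀ x ∈ D 0, (s : MM) *ᵥ x ∈ D 1) ∧ (∀ x ∈ D 1, (s : MM) *ᵥ x ∈ D 0) := by
  have hc : IsCompl (D 0) (D 1) := by
    refine ⟨disjoint_iff.2 hP.disj, codisjoint_iff.2 ?_⟩
    rw [eq_top_iff]
    intro x _
    obtain ⟨x₁, h₁, x₂, h₂, rfl⟩ := hP.span x
    exact Submodule.add_mem_sup h₁ h₂
  obtain ⟨g, hg1, hg2⟩ := Cfsg.Agent.Lib.H13.SpPairs.transitive (D 0) (D 1) hc hP.iso₁ hP.iso₂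
  obtain ⟨s₀, hs₀⟩ : ∃ s₀ : Matrix.symplecticGroup (Fin m) F,
      s₀ = g * (⟨Matrix.J (Fin m) F, SymplecticGroup.J_mem (Fin m) F⟩ : Matrix.symplecticGroup (Fin m) F) * g⁻¹ := ⟨_, rfl⟩
  have hinv : (g⁻¹).1 * g.1 = 1 := by
    have : (g⁻¹ * g).1 = 1 := by rw [inv_mul_cancel]; rfl
    exact this
  have hval : ((spToGL F m s₀ : GG) : MM) = g.1 * Matrix.J (Fin m) F * (g⁻¹).1 := by
    rw [spToGL_val, hs₀]; rfl
  have hJ1 : ∀ u ∈ Cfsg.Agent.Lib.H13.SpPairs.U0 m F,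
      Matrix.J (Fin m) F *ᵥ u ∈ Cfsg.Agent.Lib.H13.SpPairs.W0 m F := by
    intro u hu i
    rw [Matrix.J, Matrix.fromBlocks_mulVec]
    simp only [Sum.elim_inl, Matrix.zero_mulVec, zero_add, Matrix.neg_mulVec, Matrix.one_mulVec,
      Pi.neg_apply, Function.comp_apply]
    rw [hu i, neg_zero]
  have hJ2 : ∀ u ∈ Cfsg.Agent.Lib.H13.SpPairs.W0 m F,
      Matrix.J (Fin m) F *ᵥ u ∈ Cfsg.Agent.Lib.H13.SpPairs.U0 m F := by
    intro u hu i
    rw [Matrix.J, Matrix.fromBlocks_mulVec]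
    simp only [Sum.elim_inr, Matrix.zero_mulVec, add_zero, Matrix.one_mulVec,
      Function.comp_apply]
    exact hu i
  have key1 : ∀ x ∈ D 0, ((spToGL F m s₀ : GG) : MM) *ᵥ x ∈ D 1 := by
    intro x hx
    rw [← hg1] at hx
    obtain ⟨u, hu, rfl⟩ := hx
    rw [← hg2, hval, Matrix.toLin'_apply, Matrix.mulVec_mulVec, Matrix.mul_assoc, Matrix.mul_assoc,
      hinv, Matrix.mul_one, ← Matrix.mulVec_mulVec]
    exact ⟨_, hJ1 u hu, by rw [Matrix.toLin'_apply]⟩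
  have key2 : ∀ x ∈ D 1, ((spToGL F m s₀ : GG) : MM) *ᵥ x ∈ D 0 := by
    intro x hx
    rw [← hg2] at hx
    obtain ⟨u, hu, rfl⟩ := hx
    rw [← hg1, hval, Matrix.toLin'_apply, Matrix.mulVec_mulVec, Matrix.mul_assoc, Matrix.mul_assoc,
      hinv, Matrix.mul_one, ← Matrix.mulVec_mulVec]
    exact ⟨_, hJ2 u hu, by rw [Matrix.toLin'_apply]⟩
  exact ⟨spToGL F m s₀, ⟨mem_stab_of_swap2 hP _ key1 key2, spToGL_mem _⟩, key1, key2⟩

/-- S5649 -/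
theorem pair_maximal (hP : LagPair (D 0) (D 1)) (hm : 5 ≤ m) (h2 : (2 : F) ≠ 0) :
    Cfsg.Geo.IsMaximalIn (Cfsg.spGL m F)
      (Cfsg.Geo.decompositionStabilizer D ⊓ Cfsg.spGL m F) := by
  obtain ⟨s, hsN, hs1, hs2⟩ := exists_swap hP
  exact pair_maximal_of_swap hP hm h2 s hsN hs1 hs2

end Cfsg.Agent.Lib.H11.SpPair
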