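import Cfsg.Agent.Lib.H11.Subf1
import Cfsg.Prelude.Def_GeometricClasses

/-!
# S5650 farm-out, task V2: matrices mapping rational vectors to rational points
-/

set_option autoImplicit false
set_option linter.unusedSimpArgs false
set_option linter.unusedSectionVars false
set_option linter.unusedVariables false

namespace Cfsg.Agent.Lib.H11.SpSub

open Matrix

variable {F : Type*} [Field F] {F₀ : Subfield F}

/-- **V2** an invertible matrix mapping rational vectors to rational points lies in the
standard subfield subgroup -/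
theorem mem_subfield_of_ratPt {ι : Type} [Fintype ι] [DecidableEq ι] (g : GL ι F)
    (hg : ∀ x : ι → F, (∀ i, x i ∈ F₀) →
      ∃ (l : F) (r : ι → F), (∀ i, r i ∈ F₀) ∧ (g : Matrix ι ι F) *ᵥ x = l • r) :
    g ∈ Cfsg.Geo.subfieldSubgroup F₀ (1 : GL ι F) := by
  classical
  rw [Cfsg.Agent.Lib.H11.Subf.mem_subfield_one_iff]
  rcases isEmpty_or_nonempty ι with hι | ⟨⟨j₀⟩⟩
  · exact ⟨1, one_ne_zero, fun i => (hι.false i).elim⟩
  -- injectivity
  have hinj : ∀ x : ι → F, (g : Matrix ι ι F) *ᵥ x = 0 → x = 0 := by
    intro x hx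
    have := congrArg (fun v => ((g⁻¹ : GL ι F) : Matrix ι ι F) *ᵥ v) hx
    simp only [Matrix.mulVec_mulVec, Matrix.mulVec_zero] at this
    rwa [← Units.val_mul, inv_mul_cancel, Units.val_one, Matrix.one_mulVec] at this
  have hsingle : ∀ j : ι, ∀ i, (Pi.single j (1 : F) : ι → F) i ∈ F₀ := by
    intro j i
    by_cases h : i = j
    · subst h; rw [Pi.single_eq_same]; exact F₀.one_mem
    · rw [Pi.single_eq_of_ne h]; exact F₀.zero_mem
  have h := fun j => hg _ (hsingle j)
  choose l r hr hlr using h
  have hgne : ∀ j, (g : Matrix ι ι F) *ᵥ Pi.single j 1 ≠ 0 := by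
    intro j h0
    have := congrFun (hinj _ h0) j
    simp at this
  have hl0 : ∀ j, l j ≠ 0 := by
    intro j h0
    apply hgne j
    rw [hlr j, h0, zero_smul]
  have hr0 : ∀ j, r j ≠ 0 := by
    intro j h0
    apply hgne j
    rw [hlr j, h0, smul_zero]
  have hratio : ∀ j, l j / l j₀ ∈ F₀ := by
    intro j
    by_cases hj : j = j₀
    · rw [hj, div_self (hl0 j₀)]; exact F₀.one_mem
    · by_contra hρ
      obtain ⟨μ, r', hr', hμ⟩ := hg (Pi.single j₀ 1 + Pi.single j 1)
        (fun i => F₀.add_mem (hsingle j₀ i) (hsingle j i))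
      rw [Matrix.mulVec_add, hlr j₀, hlr j] at hμ
      -- the sum is nonzero
      have hsum : l j₀ • r j₀ + l j • r j ≠ 0 := by
        intro h0
        rw [← hlr j₀, ← hlr j, ← Matrix.mulVec_add] at h0
        have := congrFun (hinj _ h0) j₀
        simp [Pi.single_eq_of_ne (Ne.symm hj)] at this
      have hr'0 : r' ≠ 0 := by
        intro h0
        apply hsum
        rw [hμ, h0, smul_zero]
      obtain ⟨k, hk⟩ : ∃ k, r' k ≠ 0 := by
        by_contra hcon
        push Not at hcon
        exact hr'0 (funext hcon)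
      obtain ⟨ρ, hρdef⟩ : ∃ ρ, ρ = l j / l j₀ := ⟨_, rfl⟩
      rw [← hρdef] at hρ
      have h1 : r j₀ + ρ • r j = (μ / l j₀) • r' := by
        have := congrArg (fun v => (l j₀)⁻¹ • v) hμ
        simp only [smul_add, smul_smul] at this
        rw [inv_mul_cancel₀ (hl0 j₀), one_smul] at this
        rw [hρdef, div_eq_inv_mul, div_eq_inv_mul]
        exact this
      -- the two brackets
      have hAB : ∀ a, (r j₀ a * r' k - r j₀ k * r' a) + ρ * (r j a * r' k - r j k * r' a) = 0 := by
        intro a
        have ha := congrFun h1 a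
        have hk' := congrFun h1 k
        simp only [Pi.add_apply, Pi.smul_apply, smul_eq_mul] at ha hk'
        linear_combination r' k * ha - r' a * hk'
      have hB : ∀ a, r j a * r' k - r j k * r' a = 0 := by
        intro a
        by_contra hB0
        apply hρ
        have hA : r j₀ a * r' k - r j₀ k * r' a ∈ F₀ :=
          F₀.sub_mem (F₀.mul_mem (hr j₀ a) (hr' k)) (F₀.mul_mem (hr j₀ k) (hr' a))
        have hBm : r j a * r' k - r j k * r' a ∈ F₀ :=
          F₀.sub_mem (F₀.mul_mem (hr j a) (hr' k)) (F₀.mul_mem (hr j k) (hr' a))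
        have : ρ = -(r j₀ a * r' k - r j₀ k * r' a) / (r j a * r' k - r j k * r' a) := by
          rw [eq_div_iff hB0]
          linear_combination hAB a
        rw [this]
        exact F₀.div_mem (F₀.neg_mem hA) hBm
      have hA : ∀ a, r j₀ a * r' k - r j₀ k * r' a = 0 := by
        intro a
        have := hAB a
        rwa [hB a, mul_zero, add_zero] at this
      have h5 : r j = (r j k / r' k) • r' := by
        funext a
        rw [Pi.smul_apply, smul_eq_mul]
        field_simp
        linear_combination hB a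
      have h6 : r j₀ = (r j₀ k / r' k) • r' := by
        funext a
        rw [Pi.smul_apply, smul_eq_mul]
        field_simp
        linear_combination hA a
      obtain ⟨α, hα⟩ : ∃ α, α = r j k / r' k := ⟨_, rfl⟩
      obtain ⟨β, hβ⟩ : ∃ β, β = r j₀ k / r' k := ⟨_, rfl⟩
      rw [← hα] at h5
      rw [← hβ] at h6
      have hα0 : α ≠ 0 := by
        intro h0
        apply hr0 j
        rw [h5, h0, zero_smul]
      have h7 : (g : Matrix ι ι F) *ᵥ ((l j * α) • Pi.single j₀ (1 : F) -
          (l j₀ * β) • Pi.single j (1 : F)) = 0 := by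
        rw [Matrix.mulVec_sub, Matrix.mulVec_smul, Matrix.mulVec_smul, hlr j₀, hlr j, h5, h6]
        module
      have h8 := congrFun (hinj _ h7) j₀
      simp [Pi.single_eq_of_ne (Ne.symm hj)] at h8
      rcases h8 with h8 | h8
      · exact hl0 j h8
      · exact hα0 h8
  refine ⟨(l j₀)⁻¹, inv_ne_zero (hl0 j₀), fun i j => ?_⟩
  have hij : (g : Matrix ι ι F) i j = l j * r j i := by
    have := congrFun (hlr j) i
    rw [Matrix.mulVec_single_one] at this
    simpa using this
  rw [hij]
  have : (l j₀)⁻¹ * (l j * r j i) = (l j / l j₀) * r j i := by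
    field_simp
  rw [this]
  exact F₀.mul_mem (hratio j) (hr j i)

end Cfsg.Agent.Lib.H11.SpSub
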