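import Cfsg.Agent.Lib.H11.SpSubV6

/-!
# S5650 farm-out, task V5: rational points from rational products
-/

set_option autoImplicit false
set_option linter.unusedSimpArgs false
set_option linter.unusedSectionVars false
set_option linter.unusedVariables false

namespace Cfsg.Agent.Lib.H11.SpSub

open Matrix
open Cfsg.Agent.Lib.H11.SubspMax
open Cfsg.Agent.Lib.H15.SpSub
open Cfsg.Agent.Lib.H4 (sympForm_self sympForm_add_left sympForm_add_right sympForm_smul_left
  sympForm_smul_right sympForm_swap)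

variable {F : Type*} [Field F] {m : ℕ} {F₀ : Subfield F}
variable {H : Subgroup (GL (Fin m ⊕ Fin m) F)}

local notation "VV" => (Fin m ⊕ Fin m → F)
local notation "GG" => GL (Fin m ⊕ Fin m) F
local notation "MM" => Matrix (Fin m ⊕ Fin m) (Fin m ⊕ Fin m) F
local notation "BB" => Cfsg.sympForm m F

theorem conj_mem_of_M0 (hM : M0 m F₀ ≤ H) (hH : H ≤ Cfsg.spGL m F) {g : GG} (hg : g ∈ M0 m F₀)
    {y : VV} {b : F} (hy : stv y b ∈ H) : stv ((g : MM) *ᵥ y) b ∈ H := by
  rw [conj_stv g (hH (hM hg))]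
  exact H.mul_mem (H.mul_mem (hM hg) hy) (H.inv_mem (hM hg))

/-- the values of `B(g y, ·)` for the rational Siegel element `g = sr (eb a) (eb c) 1` -/
theorem B_sr_eb {a c : Fin m ⊕ Fin m} (hac : pl a ≠ pl c) (y : VV) (d : Fin m ⊕ Fin m) :
    BB ((sr (eb a : VV) (eb c) 1 : MM) *ᵥ y) (eb d) =
      BB y (eb d) + BB y (eb a) * BB (eb c : VV) (eb d) + BB y (eb c) * BB (eb a : VV) (eb d) := by
  have h0 : BB (eb a : VV) (eb c) = 0 := B_eb_eb_of_pl hac
  rw [sr_mulVec h0]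
  simp only [sympForm_add_left, sympForm_smul_left, one_smul]
  ring

section good

variable {b : F}
  (hgood : ∀ y : Fin m ⊕ Fin m → F, stv y b ∈ H → ∀ a c : Fin m ⊕ Fin m, pl a ≠ pl c →
      b * Cfsg.sympForm m F y (eb a) * Cfsg.sympForm m F y (eb c) ∈ F₀)
include hgood

theorem good_diag (hM : M0 m F₀ ≤ H) (hH : H ≤ Cfsg.spGL m F) (hm : 2 ≤ m)
    {y : VV} (hy : stv y b ∈ H) (a : Fin m ⊕ Fin m) :
    b * BB y (eb a) * BB y (eb a) ∈ F₀ := by
  obtain ⟨c, hc⟩ := exists_other_plane hm a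
  have hac : pl a ≠ pl c.swap := by rw [pl_swap]; exact fun h => hc h.symm
  have hac' : pl a ≠ pl c := fun h => hc h.symm
  have hg : sr (eb a : VV) (eb c.swap) 1 ∈ M0 m F₀ := sr_mem_M0 (eb_rat a) (eb_rat _) F₀.one_mem
  have hy' := conj_mem_of_M0 hM hH hg hy
  have h1 := hgood _ hy' a c hac'
  have h2 := hgood _ hy a c hac'
  rw [B_sr_eb hac, B_sr_eb hac] at h1
  have e1 : BB (eb c.swap : VV) (eb a) = 0 := B_eb_eb_of_pl (by rw [pl_swap]; exact hc)
  have e2 : BB (eb a : VV) (eb a) = 0 := sympForm_self m _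
  have e3 : BB (eb c.swap : VV) (eb c) = sg c := B_eb_swap c
  have e4 : BB (eb a : VV) (eb c) = 0 := B_eb_eb_of_pl hac'
  rw [e1, e2, e3, e4] at h1
  have hs := sg_mul_self (F := F) c
  have h3 : b * BB y (eb a) * BB y (eb a) =
      sg c * (b * (BB y (eb a) + BB y (eb a) * 0 + BB y (eb c.swap) * 0) *
        (BB y (eb c) + BB y (eb a) * sg c + BB y (eb c.swap) * 0) -
        b * BB y (eb a) * BB y (eb c)) := by
    linear_combination (-(b * BB y (eb a) * BB y (eb a))) * hs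
  rw [h3]
  exact F₀.mul_mem (sg_mem c) (F₀.sub_mem h1 h2)

theorem good_swap_of_ne (hM : M0 m F₀ ≤ H) (hH : H ≤ Cfsg.spGL m F) (hm : 2 ≤ m) (hb : b ≠ 0)
    {y : VV} (hy : stv y b ∈ H) (a d : Fin m ⊕ Fin m) (hd : pl d ≠ pl a) (hne : BB y (eb d) ≠ 0) :
    b * BB y (eb a) * BB y (eb a.swap) ∈ F₀ := by
  have hda : pl a ≠ pl d := fun h => hd h.symm
  have h1 := hgood _ hy a d hda
  have h2 := hgood _ hy a.swap d (by rw [pl_swap]; exact hda)
  have h3 := good_diag hgood hM hH hm hy d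
  have h4 : b * BB y (eb a) * BB y (eb a.swap) =
      (b * BB y (eb a) * BB y (eb d)) * (b * BB y (eb a.swap) * BB y (eb d)) /
        (b * BB y (eb d) * BB y (eb d)) := by
    field_simp
  rw [h4]
  exact F₀.div_mem (F₀.mul_mem h1 h2) h3

theorem good_swap (hM : M0 m F₀ ≤ H) (hH : H ≤ Cfsg.spGL m F) (hm : 2 ≤ m) (hb : b ≠ 0)
    {y : VV} (hy : stv y b ∈ H) (a : Fin m ⊕ Fin m) :
    b * BB y (eb a) * BB y (eb a.swap) ∈ F₀ := by
  by_cases h : ∃ d : Fin m ⊕ Fin m, pl d ≠ pl a ∧ BB y (eb d) ≠ 0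
  · obtain ⟨d, hd, hne⟩ := h
    exact good_swap_of_ne hgood hM hH hm hb hy a d hd hne
  · push Not at h
    by_cases ha : BB y (eb a) = 0
    · rw [ha, mul_zero, zero_mul]; exact F₀.zero_mem
    · obtain ⟨d, hd⟩ := exists_other_plane hm a
      have had : pl a ≠ pl d.swap := by rw [pl_swap]; exact fun h => hd h.symm
      have hg : sr (eb a : VV) (eb d.swap) 1 ∈ M0 m F₀ :=
        sr_mem_M0 (eb_rat a) (eb_rat _) F₀.one_mem
      have hy' := conj_mem_of_M0 hM hH hg hy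
      have hds : BB y (eb d.swap) = 0 := h d.swap (by rw [pl_swap]; exact hd)
      have hdd : BB y (eb d) = 0 := h d hd
      have e1 : BB ((sr (eb a : VV) (eb d.swap) 1 : MM) *ᵥ y) (eb a) = BB y (eb a) := by
        rw [B_sr_eb had, hds, sympForm_self, B_eb_eb_of_pl (by rw [pl_swap]; exact hd)]
        ring
      have e2 : BB ((sr (eb a : VV) (eb d.swap) 1 : MM) *ᵥ y) (eb a.swap) = BB y (eb a.swap) := by
        rw [B_sr_eb had, hds, B_eb_eb_of_pl (by rw [pl_swap, pl_swap]; exact hd)]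
        ring
      have e3 : BB ((sr (eb a : VV) (eb d.swap) 1 : MM) *ᵥ y) (eb d) = BB y (eb a) * sg d := by
        rw [B_sr_eb had, hds, hdd, B_eb_swap d]
        ring
      have hne : BB ((sr (eb a : VV) (eb d.swap) 1 : MM) *ᵥ y) (eb d) ≠ 0 := by
        rw [e3]
        exact mul_ne_zero ha (sg_ne_zero d)
      have := good_swap_of_ne hgood hM hH hm hb hy' a d hd hne
      rwa [e1, e2] at this

theorem good_all (hM : M0 m F₀ ≤ H) (hH : H ≤ Cfsg.spGL m F) (hm : 2 ≤ m) (hb : b ≠ 0)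
    {y : VV} (hy : stv y b ∈ H) (a c : Fin m ⊕ Fin m) :
    b * BB y (eb a) * BB y (eb c) ∈ F₀ := by
  by_cases hp : pl a = pl c
  · have hca : c = a ∨ c = a.swap := by
      rcases a with a | a <;> rcases c with c | c <;> simp [pl, Sum.swap] at hp ⊢ <;> exact hp.symm
    rcases hca with h | h
    · rw [h]; exact good_diag hgood hM hH hm hy a
    · rw [h]; exact good_swap hgood hM hH hm hb hy a
  · exact hgood _ hy a c hp

end good

/-- **V5** rational points from rational products -/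
theorem ratPt_of_good (hM : M0 m F₀ ≤ H) (hH : H ≤ Cfsg.spGL m F) (hm : 3 ≤ m) {b : F}
    (hb : b ≠ 0)
    (hgood : ∀ y : Fin m ⊕ Fin m → F, stv y b ∈ H → ∀ a c : Fin m ⊕ Fin m, pl a ≠ pl c →
      b * Cfsg.sympForm m F y (eb a) * Cfsg.sympForm m F y (eb c) ∈ F₀)
    {y : Fin m ⊕ Fin m → F} (hy : stv y b ∈ H) : RatPt F₀ y := by
  have hall := fun a c => good_all hgood hM hH (by omega) hb hy a c
  by_cases h0 : ∀ a : Fin m ⊕ Fin m, BB y (eb a) = 0
  · refine ⟨1, 0, IsRat.zero, ?_⟩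
    rw [smul_zero]
    funext d
    rw [coord_eq y d, h0, mul_zero]
    rfl
  · push Not at h0
    obtain ⟨a₀, ha₀⟩ := h0
    refine ⟨BB y (eb a₀), fun d => y d / BB y (eb a₀), ?_, ?_⟩
    · intro d
      have h1 : y d / BB y (eb a₀) =
          -sg d * ((b * BB y (eb d.swap) * BB y (eb a₀)) / (b * BB y (eb a₀) * BB y (eb a₀))) := by
        rw [coord_eq y d]
        field_simp
      show y d / BB y (eb a₀) ∈ F₀
      rw [h1]
      exact F₀.mul_mem (F₀.neg_mem (sg_mem d)) (F₀.div_mem (hall _ _) (hall _ _))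
    · funext d
      rw [Pi.smul_apply, smul_eq_mul, mul_div_cancel₀ _ ha₀]

end Cfsg.Agent.Lib.H11.SpSub
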