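import Mathlib
import Cfsg.Prelude.Def_GeometricClasses
import Cfsg.Agent.Lib.H11.TensR4

/-!
# Tensor product subgroups `Sp_a ⊗ O_b` of `Sp_{2d}` (part 1): Kronecker products over an
arbitrary index type, reindexing to `Fin n`, and the symmetric rank criterion
-/

set_option autoImplicit false
set_option linter.unusedSectionVars false
set_option linter.unusedVariables false

namespace Cfsg.Agent.Lib.H11.SpTen

open Matrix Module Kronecker Cfsg.Agent.Lib.H11.TensR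

variable {F : Type*} [Field F] {n a b : ℕ}

section mem

variable {κ : Type} [Fintype κ] [DecidableEq κ] (e : κ ≃ Fin a × Fin b) (P : GL κ F)

theorem exists_kron_of_mem' (h : GL κ F)
    (hh : h ∈ Cfsg.Geo.tensorProductSubgroup a b e P) :
    ∃ (A : GL (Fin a) F) (B : GL (Fin b) F),
      (h : Matrix κ κ F) = (P : Matrix κ κ F) *
        ((A : Matrix (Fin a) (Fin a) F) ⊗ₖ (B : Matrix (Fin b) (Fin b) F)).submatrix e e *
        ((P⁻¹ : GL κ F) : Matrix κ κ F) := by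
  unfold Cfsg.Geo.tensorProductSubgroup at hh
  obtain ⟨g₁, hg₁, rfl⟩ := Subgroup.mem_map.mp hh
  obtain ⟨g₀, ⟨A, B, hAB⟩, rfl⟩ := Subgroup.mem_map.mp hg₁
  refine ⟨A, B, ?_⟩
  have hval : ((Cfsg.Geo.glReindex (F := F) e.symm g₀ : GL κ F) : Matrix κ κ F)
      = ((A : Matrix (Fin a) (Fin a) F) ⊗ₖ (B : Matrix (Fin b) (Fin b) F)).submatrix e e := by
    show Matrix.reindexAlgEquiv F F e.symm (g₀ : Matrix _ _ F) = _
    rw [Matrix.coe_reindexAlgEquiv, hAB]
    rfl
  show ((MulAut.conj P (Cfsg.Geo.glReindex (F := F) e.symm g₀) : GL κ F) :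
    Matrix κ κ F) = _
  rw [MulAut.conj_apply, Units.val_mul, Units.val_mul, hval]

theorem mem_of_kron' (A : GL (Fin a) F) (B : GL (Fin b) F) (h : GL κ F)
    (hh : (h : Matrix κ κ F) = (P : Matrix κ κ F) *
        ((A : Matrix (Fin a) (Fin a) F) ⊗ₖ (B : Matrix (Fin b) (Fin b) F)).submatrix e e *
        ((P⁻¹ : GL κ F) : Matrix κ κ F)) :
    h ∈ Cfsg.Geo.tensorProductSubgroup a b e P := by
  unfold Cfsg.Geo.tensorProductSubgroup
  have e1 : ((A : Matrix (Fin a) (Fin a) F) ⊗ₖ (B : Matrix (Fin b) (Fin b) F)) *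
      (((A⁻¹ : GL (Fin a) F) : Matrix (Fin a) (Fin a) F) ⊗ₖ
        ((B⁻¹ : GL (Fin b) F) : Matrix (Fin b) (Fin b) F)) = 1 := by
    rw [← Matrix.mul_kronecker_mul, ← Units.val_mul, ← Units.val_mul, mul_inv_cancel,
      mul_inv_cancel, Units.val_one, Units.val_one, Matrix.one_kronecker_one]
  have e2 : (((A⁻¹ : GL (Fin a) F) : Matrix (Fin a) (Fin a) F) ⊗ₖ
        ((B⁻¹ : GL (Fin b) F) : Matrix (Fin b) (Fin b) F)) *
      ((A : Matrix (Fin a) (Fin a) F) ⊗ₖ (B : Matrix (Fin b) (Fin b) F)) = 1 := by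
    rw [← Matrix.mul_kronecker_mul, ← Units.val_mul, ← Units.val_mul, inv_mul_cancel,
      inv_mul_cancel, Units.val_one, Units.val_one, Matrix.one_kronecker_one]
  set g₀ : GL (Fin a × Fin b) F := ⟨_, _, e1, e2⟩ with hg₀
  have hg₀mem : g₀ ∈ Cfsg.Geo.kroneckerSubgroup a b F := ⟨A, B, rfl⟩
  refine Subgroup.mem_map.mpr ⟨Cfsg.Geo.glReindex (F := F) e.symm g₀,
    Subgroup.mem_map.mpr ⟨g₀, hg₀mem, rfl⟩, ?_⟩
  apply Units.ext
  have hval : ((Cfsg.Geo.glReindex (F := F) e.symm g₀ : GL κ F) : Matrix κ κ F)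
      = ((A : Matrix (Fin a) (Fin a) F) ⊗ₖ (B : Matrix (Fin b) (Fin b) F)).submatrix e e := by
    show Matrix.reindexAlgEquiv F F e.symm (g₀ : Matrix _ _ F) = _
    rw [Matrix.coe_reindexAlgEquiv]
    rfl
  show ((MulAut.conj P (Cfsg.Geo.glReindex (F := F) e.symm g₀) : GL κ F) :
    Matrix κ κ F) = _
  rw [MulAut.conj_apply, Units.val_mul, Units.val_mul, hval, hh]

/-- scalar matrices lie in the tensor product subgroup -/
theorem scalar_mem (ha : 0 < a) (hb : 0 < b) (z : F) (hz : z ≠ 0) (h : GL κ F)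
    (hh : (h : Matrix κ κ F) = z • 1) : h ∈ Cfsg.Geo.tensorProductSubgroup a b e P := by
  have hd : ((z • (1 : Matrix (Fin a) (Fin a) F))).det ≠ 0 := by
    rw [Matrix.det_smul, Matrix.det_one, mul_one]
    exact pow_ne_zero _ hz
  refine mem_of_kron' e P (Matrix.GeneralLinearGroup.mkOfDetNeZero _ hd) 1 h ?_
  have h1 : ((Matrix.GeneralLinearGroup.mkOfDetNeZero _ hd : GL (Fin a) F) :
      Matrix (Fin a) (Fin a) F) = z • 1 := rfl
  rw [h1, Units.val_one, Matrix.smul_kronecker, Matrix.one_kronecker_one, hh]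
  have h2 : (z • (1 : Matrix (Fin a × Fin b) (Fin a × Fin b) F)).submatrix e e = z • 1 := by
    ext i j
    simp [Matrix.one_apply]
  rw [h2, Matrix.mul_smul, Matrix.smul_mul, Matrix.mul_one, ← Units.val_mul, mul_inv_cancel,
    Units.val_one]

/-- a conjugate lying in the tensor product subgroup gives a similarity of the reindexed matrix
with a Kronecker product -/
theorem sim_of_conj_mem' (σ : Fin n ≃ κ) (x g : GL κ F)
    (hg : g⁻¹ * x * g ∈ Cfsg.Geo.tensorProductSubgroup a b e P) :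
    ∃ (A : GL (Fin a) F) (B : GL (Fin b) F),
      Sim (σ.trans e) ((x : Matrix κ κ F).submatrix σ σ)
        ((A : Matrix (Fin a) (Fin a) F) ⊗ₖ (B : Matrix (Fin b) (Fin b) F)) := by
  obtain ⟨A, B, hAB⟩ := exists_kron_of_mem' e P _ hg
  refine ⟨A, B, (((g * P : GL κ F) : Matrix κ κ F)).submatrix σ σ,
    ((((g * P)⁻¹ : GL κ F) : Matrix κ κ F)).submatrix σ σ, ?_, ?_, ?_⟩
  · rw [Matrix.submatrix_mul_equiv, ← Units.val_mul, mul_inv_cancel, Units.val_one,
      Matrix.submatrix_one_equiv]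
  · rw [Matrix.submatrix_mul_equiv, ← Units.val_mul, inv_mul_cancel, Units.val_one,
      Matrix.submatrix_one_equiv]
  · have h1 : g * (g⁻¹ * x * g) * g⁻¹ = x := by group
    have h2 : (x : Matrix κ κ F) = ((g * P : GL κ F) : Matrix κ κ F) *
        ((A : Matrix (Fin a) (Fin a) F) ⊗ₖ (B : Matrix (Fin b) (Fin b) F)).submatrix e e *
        (((g * P)⁻¹ : GL κ F) : Matrix κ κ F) := by
      calc (x : Matrix κ κ F)
          = ((g * (g⁻¹ * x * g) * g⁻¹ : GL κ F) : Matrix κ κ F) := by rw [h1]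
        _ = (g : Matrix κ κ F) * ((g⁻¹ * x * g : GL κ F) : Matrix κ κ F) *
              ((g⁻¹ : GL κ F) : Matrix κ κ F) := by
            rw [Units.val_mul, Units.val_mul]
        _ = _ := by
            rw [hAB, _root_.mul_inv_rev, Units.val_mul, Units.val_mul]
            simp only [Matrix.mul_assoc]
    conv_lhs => rw [h2]
    rw [← Matrix.submatrix_mul_equiv _ _ σ σ σ, ← Matrix.submatrix_mul_equiv _ _ σ σ σ]
    rfl

end mem

section swap

variable {ι : Type*} [Fintype ι] [DecidableEq ι]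

/-- swapping the Kronecker factors -/
theorem kron_swap (A : Matrix (Fin a) (Fin a) F) (B : Matrix (Fin b) (Fin b) F) :
    (A ⊗ₖ B).submatrix (Equiv.prodComm (Fin b) (Fin a)) (Equiv.prodComm (Fin b) (Fin a)) =
      B ⊗ₖ A := by
  ext ⟨k, i⟩ ⟨l, j⟩
  simp [Matrix.kroneckerMap_apply, mul_comm]

theorem Sim.swap {e : Fin n ≃ Fin a × Fin b} {x : Matrix (Fin n) (Fin n) F}
    {A : Matrix (Fin a) (Fin a) F} {B : Matrix (Fin b) (Fin b) F} (h : Sim e x (A ⊗ₖ B)) :
    Sim (e.trans (Equiv.prodComm (Fin a) (Fin b))) x (B ⊗ₖ A) := by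
  obtain ⟨Q, Qi, h1, h2, h3⟩ := h
  refine ⟨Q, Qi, h1, h2, ?_⟩
  rw [h3, ← kron_swap]
  rfl

/-- if `x - μ` has rank less than both `a` and `b` then `x` is scalar -/
theorem Sim.scalar_of_rank_lt_both {e : Fin n ≃ Fin a × Fin b} {x : Matrix (Fin n) (Fin n) F}
    (hn : n = a * b)
    (A : Matrix (Fin a) (Fin a) F) (B : Matrix (Fin b) (Fin b) F) (h : Sim e x (A ⊗ₖ B)) (μ : F)
    (hμ : μ ≠ 0) (hra : (x - μ • 1).rank < a) (hrb : (x - μ • 1).rank < b) : x = μ • 1 := by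
  rcases Nat.le_total a b with hab | hab
  · exact h.scalar_of_rank_lt hn hab A B μ hμ hra
  · exact (Sim.swap h).scalar_of_rank_lt (by rw [hn, mul_comm]) hab B A μ hμ hrb

end swap

end Cfsg.Agent.Lib.H11.SpTen
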