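import Mathlib
import Cfsg.Agent.Lib.H11.SpTen1
import Cfsg.Agent.Lib.H23.SpUI
import Cfsg.Agent.Lib.H13.Singer

/-!
# Tensor product subgroups `Sp_a ⊗ O_b` of `Sp_{2d}` (part 10): the transfer of conjugacy
statements to tensor coordinates
-/

set_option autoImplicit false
set_option linter.unusedSectionVars false
set_option linter.unusedVariables false

namespace Cfsg.Agent.Lib.H11.SpTen

open Matrix Module Kronecker Cfsg.Agent.Lib.H13 Cfsg.Agent.Lib.H13.Singer Cfsg.Agent.Lib.H23.SpU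
  Cfsg.Agent.Lib.H13.SpInvolCount

variable {F : Type*} [Field F] {d a b : ℕ}

/-- the tensor coordinates on `F^{2d}` -/
noncomputable def theta (e : (Fin d ⊕ Fin d) ≃ Fin a × Fin b) (P : GL (Fin d ⊕ Fin d) F) :
    (Fin a × Fin b → F) ≃ₗ[F] (Fin d ⊕ Fin d → F) :=
  (LinearEquiv.funCongrLeft F F e).trans (glEquiv' P)

theorem theta_apply (e : (Fin d ⊕ Fin d) ≃ Fin a × Fin b) (P : GL (Fin d ⊕ Fin d) F)
    (y : Fin a × Fin b → F) :
    theta e P y = (P : Matrix (Fin d ⊕ Fin d) (Fin d ⊕ Fin d) F) *ᵥ (y ∘ e) := by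
  unfold theta
  rw [LinearEquiv.trans_apply, glEquiv'_apply]
  rfl

/-- the action of a conjugated Kronecker product in tensor coordinates -/
theorem kron_theta (e : (Fin d ⊕ Fin d) ≃ Fin a × Fin b) (P : GL (Fin d ⊕ Fin d) F)
    (K : Matrix (Fin a × Fin b) (Fin a × Fin b) F) (y : Fin a × Fin b → F) :
    ((P : Matrix (Fin d ⊕ Fin d) (Fin d ⊕ Fin d) F) * K.submatrix e e *
      ((P⁻¹ : GL (Fin d ⊕ Fin d) F) : Matrix (Fin d ⊕ Fin d) (Fin d ⊕ Fin d) F)) *ᵥ theta e P y =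
      theta e P (K *ᵥ y) := by
  rw [theta_apply, theta_apply, Matrix.mulVec_mulVec, Matrix.mul_assoc, Matrix.mul_assoc,
    ← Units.val_mul, inv_mul_cancel, Units.val_one, Matrix.mul_one, ← Matrix.mulVec_mulVec,
    Matrix.submatrix_mulVec_equiv]
  congr 2
  have : (y ∘ e) ∘ e.symm = y := by
    ext i
    simp
  rw [this]

/-- the transfer lemma -/
theorem transfer (e : (Fin d ⊕ Fin d) ≃ Fin a × Fin b) (P : GL (Fin d ⊕ Fin d) F)
    (x : GL (Fin d ⊕ Fin d) F) (A : GL (Fin a) F) (B : GL (Fin b) F)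
    (φ : (Fin a × Fin b → F) ≃ₗ[F] (Fin a × Fin b → F))
    (hiso : ∀ y y', Cfsg.sympForm d F (theta e P (φ y)) (theta e P (φ y')) =
      Cfsg.sympForm d F (theta e P y) (theta e P y'))
    (hconj : ∀ y, φ ((theta e P).symm ((x : Matrix (Fin d ⊕ Fin d) (Fin d ⊕ Fin d) F) *ᵥ
      theta e P y)) = ((A : Matrix (Fin a) (Fin a) F) ⊗ₖ (B : Matrix (Fin b) (Fin b) F)) *ᵥ φ y) :
    ∃ g ∈ Cfsg.spGL d F, g⁻¹ * x * g ∈ Cfsg.Geo.tensorProductSubgroup a b e P := by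
  set Θ := theta e P with hΘ
  set ψ : (Fin d ⊕ Fin d → F) ≃ₗ[F] (Fin d ⊕ Fin d → F) := (Θ.symm.trans φ.symm).trans Θ with hψ
  have hψa : ∀ v, ψ v = Θ (φ.symm (Θ.symm v)) := fun v => rfl
  set g : GL (Fin d ⊕ Fin d) F := glOf ψ with hg
  -- the Kronecker element
  have e1 : ((A : Matrix (Fin a) (Fin a) F) ⊗ₖ (B : Matrix (Fin b) (Fin b) F)) *
      (((A⁻¹ : GL (Fin a) F) : Matrix (Fin a) (Fin a) F) ⊗ₖ
        ((B⁻¹ : GL (Fin b) F) : Matrix (Fin b) (Fin b) F)) = 1 := by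
    rw [← Matrix.mul_kronecker_mul, ← Units.val_mul, ← Units.val_mul, mul_inv_cancel,
      mul_inv_cancel, Units.val_one, Units.val_one, Matrix.one_kronecker_one]
  have e2 : (((A⁻¹ : GL (Fin a) F) : Matrix (Fin a) (Fin a) F) ⊗ₖ
        ((B⁻¹ : GL (Fin b) F) : Matrix (Fin b) (Fin b) F)) *
      ((A : Matrix (Fin a) (Fin a) F) ⊗ₖ (B : Matrix (Fin b) (Fin b) F)) = 1 := by
    rw [← Matrix.mul_kronecker_mul, ← Units.val_mul, ← Units.val_mul, inv_mul_cancel,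
      inv_mul_cancel, Units.val_one, Units.val_one, Matrix.one_kronecker_one]
  set k : GL (Fin d ⊕ Fin d) F :=
    ⟨((A : Matrix (Fin a) (Fin a) F) ⊗ₖ (B : Matrix (Fin b) (Fin b) F)).submatrix e e,
      (((A⁻¹ : GL (Fin a) F) : Matrix (Fin a) (Fin a) F) ⊗ₖ
        ((B⁻¹ : GL (Fin b) F) : Matrix (Fin b) (Fin b) F)).submatrix e e,
      by rw [Matrix.submatrix_mul_equiv, e1, Matrix.submatrix_one_equiv],
      by rw [Matrix.submatrix_mul_equiv, e2, Matrix.submatrix_one_equiv]⟩ with hk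
  set h : GL (Fin d ⊕ Fin d) F := P * k * P⁻¹ with hh
  have hhv : (h : Matrix (Fin d ⊕ Fin d) (Fin d ⊕ Fin d) F) =
      (P : Matrix (Fin d ⊕ Fin d) (Fin d ⊕ Fin d) F) *
        ((A : Matrix (Fin a) (Fin a) F) ⊗ₖ (B : Matrix (Fin b) (Fin b) F)).submatrix e e *
        ((P⁻¹ : GL (Fin d ⊕ Fin d) F) : Matrix (Fin d ⊕ Fin d) (Fin d ⊕ Fin d) F) := by
    rw [hh, Units.val_mul, Units.val_mul]
  have hhT : h ∈ Cfsg.Geo.tensorProductSubgroup a b e P := mem_of_kron' e P A B h hhv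
  refine ⟨g, ?_, ?_⟩
  · rw [mem_spGL_iff]
    intro u v
    rw [hg, glOf_mulVec, glOf_mulVec, hψa, hψa]
    have := hiso (φ.symm (Θ.symm u)) (φ.symm (Θ.symm v))
    rw [LinearEquiv.apply_symm_apply, LinearEquiv.apply_symm_apply, LinearEquiv.apply_symm_apply,
      LinearEquiv.apply_symm_apply] at this
    exact this.symm
  · have hxg : x * g = g * h := by
      apply Units.ext
      rw [Units.val_mul, Units.val_mul]
      apply Matrix.toLin'.injective
      apply LinearMap.ext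
      intro v
      rw [Matrix.toLin'_apply, Matrix.toLin'_apply, ← Matrix.mulVec_mulVec, ← Matrix.mulVec_mulVec,
        hg, glOf_mulVec, glOf_mulVec, hψa, hψa, hhv]
      have h1 : v = Θ (Θ.symm v) := (LinearEquiv.apply_symm_apply Θ v).symm
      have h2 : ((P : Matrix (Fin d ⊕ Fin d) (Fin d ⊕ Fin d) F) *
          ((A : Matrix (Fin a) (Fin a) F) ⊗ₖ (B : Matrix (Fin b) (Fin b) F)).submatrix e e *
          ((P⁻¹ : GL (Fin d ⊕ Fin d) F) : Matrix (Fin d ⊕ Fin d) (Fin d ⊕ Fin d) F)) *ᵥ v =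
          Θ (((A : Matrix (Fin a) (Fin a) F) ⊗ₖ (B : Matrix (Fin b) (Fin b) F)) *ᵥ Θ.symm v) := by
        conv_lhs => rw [h1]
        exact kron_theta e P _ _
      rw [h2, LinearEquiv.symm_apply_apply]
      have h3 := hconj (φ.symm (Θ.symm v))
      rw [LinearEquiv.apply_symm_apply] at h3
      rw [← h3, LinearEquiv.symm_apply_apply, LinearEquiv.apply_symm_apply]
    have : g⁻¹ * x * g = h := by
      rw [mul_assoc, hxg, ← mul_assoc, inv_mul_cancel, one_mul]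
    rw [this]
    exact hhT

end Cfsg.Agent.Lib.H11.SpTen
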