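import Mathlib
import Cfsg.Agent.Lib.H11.SpTen10
import Cfsg.Agent.Lib.H29.Tensor
import Cfsg.Agent.Lib.H23.SpUE

/-!
# Tensor product subgroups `Sp_a ⊗ O_b` of `Sp_{2d}` (part 11): the symplectic form and a
symplectic matrix in tensor coordinates
-/

set_option autoImplicit false
set_option linter.unusedSectionVars false
set_option linter.unusedVariables false

namespace Cfsg.Agent.Lib.H11.SpTen

open Matrix Module Kronecker Cfsg.Agent.Lib.H13 Cfsg.Agent.Lib.H13.Singer Cfsg.Agent.Lib.H23.SpU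
  Cfsg.Agent.Lib.H13.SpInvolCount Cfsg.Agent.Lib.H29.Tensor

variable {F : Type*} [Field F] {d a b : ℕ}

section form

variable (e : (Fin d ⊕ Fin d) ≃ Fin a × Fin b) (P : GL (Fin d ⊕ Fin d) F)

/-- the symplectic form in tensor coordinates -/
noncomputable def B0 : LinearMap.BilinForm F (Fin a × Fin b → F) :=
  (sympB (F := F) d).compl₁₂ ((theta e P : (Fin a × Fin b → F) ≃ₗ[F] (Fin d ⊕ Fin d → F)) :
    (Fin a × Fin b → F) →ₗ[F] (Fin d ⊕ Fin d → F))
    ((theta e P : (Fin a × Fin b → F) ≃ₗ[F] (Fin d ⊕ Fin d → F)) :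
    (Fin a × Fin b → F) →ₗ[F] (Fin d ⊕ Fin d → F))

theorem B0_apply (y y' : Fin a × Fin b → F) :
    B0 e P y y' = Cfsg.sympForm d F (theta e P y) (theta e P y') := by
  unfold B0
  rw [LinearMap.compl₁₂_apply, sympB_apply]
  rfl

theorem B0_alt (y : Fin a × Fin b → F) : B0 e P y y = 0 := by
  unfold B0
  rw [LinearMap.compl₁₂_apply]
  exact sympB_alt d _

theorem B0_nd (y : Fin a × Fin b → F) (h : ∀ y', B0 e P y y' = 0) : y = 0 := by
  have h1 : theta e P y = 0 := by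
    apply (sympB_nondeg (F := F) d).1
    intro v
    have := h ((theta e P).symm v)
    unfold B0 at this
    rw [LinearMap.compl₁₂_apply] at this
    simpa using this
  exact (LinearEquiv.map_eq_zero_iff (theta e P)).mp h1

/-- the form on pure tensors -/
theorem B0_pt {f₁ : (Fin a → F) → (Fin a → F) → F} {f₂ : (Fin b → F) → (Fin b → F) → F}
    (h1 : Cfsg.Geo.IsBilinearForm f₁) (h2 : Cfsg.Geo.IsBilinearForm f₂) (c : F)
    (hT : ∀ x y : Fin a × Fin b → F,
      Cfsg.sympForm d F ((P : Matrix (Fin d ⊕ Fin d) (Fin d ⊕ Fin d) F) *ᵥ (x ∘ e))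
        ((P : Matrix (Fin d ⊕ Fin d) (Fin d ⊕ Fin d) F) *ᵥ (y ∘ e)) =
      c * Cfsg.Geo.formOfGram id (Cfsg.Geo.gramMatrix f₁ ⊗ₖ Cfsg.Geo.gramMatrix f₂) x y)
    (u u' : Fin a → F) (z z' : Fin b → F) :
    B0 e P (pt u z) (pt u' z') = c * (f₁ u u' * f₂ z z') := by
  rw [B0_apply, theta_apply, theta_apply]
  exact form_tau e P h1 h2 c hT u u' z z'

/-- a symplectic matrix in tensor coordinates -/
noncomputable def x0 (x : GL (Fin d ⊕ Fin d) F) : Module.End F (Fin a × Fin b → F) :=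
  ((theta e P).symm : (Fin d ⊕ Fin d → F) →ₗ[F] (Fin a × Fin b → F)) ∘ₗ
    Matrix.toLin' (x : Matrix (Fin d ⊕ Fin d) (Fin d ⊕ Fin d) F) ∘ₗ
    ((theta e P : (Fin a × Fin b → F) ≃ₗ[F] (Fin d ⊕ Fin d → F)) :
      (Fin a × Fin b → F) →ₗ[F] (Fin d ⊕ Fin d → F))

theorem x0_apply (x : GL (Fin d ⊕ Fin d) F) (y : Fin a × Fin b → F) :
    x0 e P x y = (theta e P).symm ((x : Matrix (Fin d ⊕ Fin d) (Fin d ⊕ Fin d) F) *ᵥ
      theta e P y) := by
  unfold x0
  rw [LinearMap.comp_apply, LinearMap.comp_apply, Matrix.toLin'_apply]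
  rfl

theorem x0_iso (x : GL (Fin d ⊕ Fin d) F) (hx : x ∈ Cfsg.spGL d F) (y y' : Fin a × Fin b → F) :
    B0 e P (x0 e P x y) (x0 e P x y') = B0 e P y y' := by
  rw [B0_apply, B0_apply, x0_apply, x0_apply, LinearEquiv.apply_symm_apply,
    LinearEquiv.apply_symm_apply]
  exact (mem_spGL_iff x).mp hx _ _

theorem x0_sq (x : GL (Fin d ⊕ Fin d) F) (z : F)
    (hz : (x : Matrix (Fin d ⊕ Fin d) (Fin d ⊕ Fin d) F) *
      (x : Matrix (Fin d ⊕ Fin d) (Fin d ⊕ Fin d) F) = z • 1) (y : Fin a × Fin b → F) :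
    x0 e P x (x0 e P x y) = z • y := by
  rw [x0_apply, x0_apply, LinearEquiv.apply_symm_apply, Matrix.mulVec_mulVec, hz,
    Matrix.smul_mulVec, Matrix.one_mulVec, map_smul, LinearEquiv.symm_apply_apply]

theorem finrank_W : finrank F (Fin a × Fin b → F) = a * b := by
  rw [Module.finrank_fintype_fun_eq_card, Fintype.card_prod, Fintype.card_fin, Fintype.card_fin]

end form

section abstract

variable {W : Type*} [AddCommGroup W] [Module F W]

/-- an isometry with square `-1` is a unitary structure -/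
theorem ustr_of_iso (B : LinearMap.BilinForm F W) (halt : ∀ v, B v v = 0)
    (hnd : ∀ v, (∀ w, B v w = 0) → v = 0) (T : Module.End F W)
    (hiso : ∀ u v, B (T u) (T v) = B u v) (hsq : ∀ v, T (T v) = (-1 : F) • v) :
    UStr B T (-1) := by
  refine ⟨halt, hnd, hsq, ?_⟩
  intro u v
  have h1 : v = T (T (-v)) := by
    rw [hsq, neg_smul, one_smul, neg_neg]
  conv_lhs => rw [h1]
  rw [hiso, map_neg, map_neg]

/-- two symplectic families have the same Gram matrix -/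
theorem isSymp_gram_eq (B : LinearMap.BilinForm F W) (halt : ∀ v, B v v = 0) {ι : Type*}
    [DecidableEq ι] {b₁ b₂ : ι ⊕ ι → W} (h₁ : IsSymp B b₁) (h₂ : IsSymp B b₂) (x y : ι ⊕ ι) :
    B (b₁ x) (b₁ y) = B (b₂ x) (b₂ y) := by
  rcases x with i | i <;> rcases y with j | j
  · rw [h₁.iso_l, h₂.iso_l]
  · rw [h₁.pair, h₂.pair]
  · rw [IsSymp.swap_pair halt h₁, IsSymp.swap_pair halt h₂]
  · rw [h₁.iso_r, h₂.iso_r]

end abstract

end Cfsg.Agent.Lib.H11.SpTen
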