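import Mathlib
import Cfsg.Agent.Lib.H11.SpTen11

/-!
# Tensor product subgroups `Sp_2 ⊗ O_b` of `Sp_{2b}` (part 12): the elements with square `-1`
are conjugate to `J_2 ⊗ 1`
-/

set_option autoImplicit false
set_option linter.unusedSectionVars false
set_option linter.unusedVariables false

namespace Cfsg.Agent.Lib.H11.SpTen

open Matrix Module Kronecker Cfsg.Agent.Lib.H13 Cfsg.Agent.Lib.H13.Singer Cfsg.Agent.Lib.H23.SpU
  Cfsg.Agent.Lib.H13.SpInvolCount Cfsg.Agent.Lib.H29.Tensor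

variable {F : Type*} [Field F] {d b : ℕ}

/-- the matrix `[[0, 1], [-1, 0]]` -/
def A0 (F : Type*) [Field F] : Matrix (Fin 2) (Fin 2) F := !![0, 1; -1, 0]

theorem A0_mul : A0 F * A0 F = -1 := by
  ext i j
  fin_cases i <;> fin_cases j <;> simp [A0, Matrix.mul_apply, Fin.sum_univ_two]

theorem A0_det : (A0 F).det = 1 := by
  simp [A0, Matrix.det_fin_two]

theorem A0_mulVec (u : Fin 2 → F) : A0 F *ᵥ u = ![u 1, -u 0] := by
  ext i
  fin_cases i <;> simp [A0, Matrix.mulVec, dotProduct, Fin.sum_univ_two]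

/-- `J_2` preserves every alternating form on `F^2` -/
theorem f1_A0 {f₁ : (Fin 2 → F) → (Fin 2 → F) → F} (hf₁ : Cfsg.Geo.IsSymplecticForm f₁)
    (u u' : Fin 2 → F) : f₁ (A0 F *ᵥ u) (A0 F *ᵥ u') = f₁ u u' := by
  rw [form_eq_gram hf₁.bilinear, form_eq_gram hf₁.bilinear u u', A0_mulVec, A0_mulVec]
  unfold Cfsg.Geo.formOfGram
  simp only [Fin.sum_univ_two, id]
  have h00 : Cfsg.Geo.gramMatrix f₁ 0 0 = 0 := hf₁.alternating _
  have h11 : Cfsg.Geo.gramMatrix f₁ 1 1 = 0 := hf₁.alternating _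
  have h10 : Cfsg.Geo.gramMatrix f₁ 1 0 = - Cfsg.Geo.gramMatrix f₁ 0 1 := hf₁.skew _ _
  rw [h00, h11, h10]
  simp only [Matrix.cons_val_zero, Matrix.cons_val_one]
  ring

theorem pt_single {a : ℕ} (i : Fin a) (k : Fin b) :
    pt (Pi.single i (1 : F)) (Pi.single k (1 : F)) = Pi.single (i, k) (1 : F) := by
  ext ⟨i', k'⟩
  unfold pt
  by_cases hi : i' = i
  · by_cases hk : k' = k
    · subst hi; subst hk; simp
    · subst hi
      have : ((i', k') : Fin a × Fin b) ≠ (i', k) := fun h => hk (congrArg Prod.snd h)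
      simp [hk, this]
  · have : ((i', k') : Fin a × Fin b) ≠ (i, k) := fun h => hi (congrArg Prod.fst h)
    simp [Pi.single_apply, hi, this]

section K0

variable (e : (Fin d ⊕ Fin d) ≃ Fin 2 × Fin b) (P : GL (Fin d ⊕ Fin d) F)

/-- the model element `J_2 ⊗ 1` -/
noncomputable def K0 (b : ℕ) : Module.End F (Fin 2 × Fin b → F) :=
  Matrix.toLin' (A0 F ⊗ₖ (1 : Matrix (Fin b) (Fin b) F))

theorem K0_pt (u : Fin 2 → F) (w : Fin b → F) : K0 b (pt u w) = pt (A0 F *ᵥ u) w := by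
  unfold K0
  rw [Matrix.toLin'_apply, kron_pt, Matrix.one_mulVec]

theorem K0_sq (y : Fin 2 × Fin b → F) : K0 b (K0 b y) = (-1 : F) • y := by
  unfold K0
  rw [Matrix.toLin'_apply, Matrix.toLin'_apply, Matrix.mulVec_mulVec, ← Matrix.mul_kronecker_mul,
    A0_mul, Matrix.one_mul]
  have : (-1 : Matrix (Fin 2) (Fin 2) F) ⊗ₖ (1 : Matrix (Fin b) (Fin b) F) = -1 := by
    have h1 : (-1 : Matrix (Fin 2) (Fin 2) F) = (-1 : F) • 1 := by rw [neg_smul, one_smul]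
    rw [h1, Matrix.smul_kronecker, Matrix.one_kronecker_one, neg_smul, one_smul]
  rw [this, Matrix.neg_mulVec, Matrix.one_mulVec, neg_smul, one_smul]

theorem K0_iso {f₁ : (Fin 2 → F) → (Fin 2 → F) → F} {f₂ : (Fin b → F) → (Fin b → F) → F}
    (hf₁ : Cfsg.Geo.IsSymplecticForm f₁) (h2 : Cfsg.Geo.IsBilinearForm f₂) (c : F)
    (hT : ∀ x y : Fin 2 × Fin b → F,
      Cfsg.sympForm d F ((P : Matrix (Fin d ⊕ Fin d) (Fin d ⊕ Fin d) F) *ᵥ (x ∘ e))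
        ((P : Matrix (Fin d ⊕ Fin d) (Fin d ⊕ Fin d) F) *ᵥ (y ∘ e)) =
      c * Cfsg.Geo.formOfGram id (Cfsg.Geo.gramMatrix f₁ ⊗ₖ Cfsg.Geo.gramMatrix f₂) x y)
    (y y' : Fin 2 × Fin b → F) : B0 e P (K0 b y) (K0 b y') = B0 e P y y' := by
  have key : (B0 e P).compl₁₂ (K0 b) (K0 b) = B0 e P := by
    apply LinearMap.BilinForm.ext_basis (Pi.basisFun F (Fin 2 × Fin b))
    rintro ⟨i, k⟩ ⟨j, l⟩
    rw [LinearMap.compl₁₂_apply, Pi.basisFun_apply, Pi.basisFun_apply, ← pt_single, ← pt_single,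
      K0_pt, K0_pt, B0_pt e P hf₁.bilinear h2 c hT, B0_pt e P hf₁.bilinear h2 c hT, f1_A0 hf₁]
  have := congrArg (fun T : LinearMap.BilinForm F (Fin 2 × Fin b → F) => T y y') key
  simpa using this

end K0

/-- the elements with square `-1` -/
theorem conj_neg_one [Fintype F] (hodd : Fintype.card F % 2 = 1) (h2 : (2 : F) ≠ 0)
    (e : (Fin d ⊕ Fin d) ≃ Fin 2 × Fin b) (P : GL (Fin d ⊕ Fin d) F)
    {f₁ : (Fin 2 → F) → (Fin 2 → F) → F} {f₂ : (Fin b → F) → (Fin b → F) → F}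
    (hf₁ : Cfsg.Geo.IsSymplecticForm f₁) (hf₂ : Cfsg.Geo.IsBilinearForm f₂) (c : F)
    (hT : ∀ x y : Fin 2 × Fin b → F,
      Cfsg.sympForm d F ((P : Matrix (Fin d ⊕ Fin d) (Fin d ⊕ Fin d) F) *ᵥ (x ∘ e))
        ((P : Matrix (Fin d ⊕ Fin d) (Fin d ⊕ Fin d) F) *ᵥ (y ∘ e)) =
      c * Cfsg.Geo.formOfGram id (Cfsg.Geo.gramMatrix f₁ ⊗ₖ Cfsg.Geo.gramMatrix f₂) x y)
    (x : GL (Fin d ⊕ Fin d) F) (hx : x ∈ Cfsg.spGL d F)
    (hz : (x : Matrix (Fin d ⊕ Fin d) (Fin d ⊕ Fin d) F) *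
      (x : Matrix (Fin d ⊕ Fin d) (Fin d ⊕ Fin d) F) = (-1 : F) • 1) :
    ∃ g ∈ Cfsg.spGL d F, g⁻¹ * x * g ∈ Cfsg.Geo.tensorProductSubgroup 2 b e P := by
  have hU := ustr_of_iso (B0 e P) (B0_alt e P) (B0_nd e P) (x0 e P x) (x0_iso e P x hx)
    (x0_sq e P x (-1) hz)
  have hU' := ustr_of_iso (B0 e P) (B0_alt e P) (B0_nd e P) (K0 b) (K0_iso e P hf₁ hf₂ c hT)
    K0_sq
  obtain ⟨φ, hφB, hφa⟩ := exists_equiv hodd h2 (-1 : F) (neg_ne_zero.mpr one_ne_zero)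
    (B0 e P) (x0 e P x) hU (B0 e P) (K0 b) hU' (finrank_W (a := 2) (b := b))
    (finrank_W (a := 2) (b := b))
  set Ag : GL (Fin 2) F := Matrix.GeneralLinearGroup.mkOfDetNeZero (A0 F)
    (by rw [A0_det]; exact one_ne_zero) with hAg
  refine transfer e P x Ag 1 φ ?_ ?_
  · intro y y'
    rw [← B0_apply, ← B0_apply]
    exact hφB y y'
  · intro y
    rw [← x0_apply, hφa]
    unfold K0
    rw [Matrix.toLin'_apply]
    rfl

end Cfsg.Agent.Lib.H11.SpTen
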