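import Mathlib
import Cfsg.Agent.Lib.H11.SpTen12
import Cfsg.Agent.Lib.H12.BGSpA

/-!
# Tensor product subgroups `Sp_2 ⊗ O_b` of `Sp_{2b}` (part 13): the involutions are conjugate to
`1 ⊗ diag(± 1)` in an orthogonal basis of the second factor
-/

set_option autoImplicit false
set_option linter.unusedSectionVars false
set_option linter.unusedVariables false

namespace Cfsg.Agent.Lib.H11.SpTen

open Matrix Module Kronecker Cfsg.Agent.Lib.H13 Cfsg.Agent.Lib.H13.Singer Cfsg.Agent.Lib.H23.SpU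
  Cfsg.Agent.Lib.H13.SpInvolCount Cfsg.Agent.Lib.H29.Tensor

variable {F : Type*} [Field F] {d b : ℕ}

/-- an orthogonal basis for a non-degenerate symmetric bilinear form -/
theorem exists_orth_basis (h2 : (2 : F) ≠ 0) {f₂ : (Fin b → F) → (Fin b → F) → F}
    (hf₂ : Cfsg.Geo.IsSymmetricForm f₂) :
    ∃ ub : Basis (Fin b) F (Fin b → F), (∀ k l, k ≠ l → f₂ (ub k) (ub l) = 0) ∧
      ∀ k, f₂ (ub k) (ub k) ≠ 0 := by
  classical
  have : Invertible (2 : F) := invertibleOfNonzero h2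
  set B₂ := Cfsg.Agent.Lib.H12.BGSp.toB hf₂.bilinear with hB₂
  have hsymm : LinearMap.IsSymm B₂ := by
    refine ⟨fun x y => ?_⟩
    exact hf₂.symm x y
  have hsep : B₂.SeparatingLeft := by
    intro v hv
    by_contra hne
    obtain ⟨-, ⟨x, hx⟩⟩ := hf₂.nondegenerate v hne
    exact hx (hv x)
  obtain ⟨v, hv⟩ := LinearMap.BilinForm.exists_orthogonal_basis hsymm
  have hcard : finrank F (Fin b → F) = b := Module.finrank_fin_fun F
  set v' : Basis (Fin b) F (Fin b → F) := v.reindex (finCongr hcard) with hv'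
  have hv'a : ∀ s, v' s = v ((finCongr hcard).symm s) := by
    intro s
    rw [hv', Basis.reindex_apply]
  refine ⟨v', ?_, ?_⟩
  · intro k l hkl
    rw [hv'a, hv'a]
    exact (LinearMap.isOrthoᵢ_def.mp hv) _ _ (fun h => hkl ((finCongr hcard).symm.injective h))
  · intro k hk
    rw [hv'a] at hk
    exact hv.not_isOrtho_basis_self_of_separatingLeft hsep _ hk

/-- an invertible matrix acting diagonally with signs on a basis -/
theorem exists_diag_gl' (ub : Basis (Fin b) F (Fin b → F)) (s : Fin b → F)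
    (hs : ∀ k, s k * s k = 1) :
    ∃ Bm : GL (Fin b) F, ∀ k, (Bm : Matrix (Fin b) (Fin b) F) *ᵥ ub k = s k • ub k := by
  set T : (Fin b → F) →ₗ[F] (Fin b → F) := ub.constr F (fun k => s k • ub k) with hT
  have hTb : ∀ k, T (ub k) = s k • ub k := fun k => by rw [hT, Basis.constr_basis]
  have hTT : T ∘ₗ T = LinearMap.id := by
    apply ub.ext
    intro k
    rw [LinearMap.comp_apply, hTb, map_smul, hTb, smul_smul, hs, one_smul, LinearMap.id_apply]
  have hM : LinearMap.toMatrix' T * LinearMap.toMatrix' T = 1 := by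
    rw [← LinearMap.toMatrix'_comp, hTT, LinearMap.toMatrix'_id]
  refine ⟨⟨LinearMap.toMatrix' T, LinearMap.toMatrix' T, hM, hM⟩, fun k => ?_⟩
  show LinearMap.toMatrix' T *ᵥ ub k = _
  rw [LinearMap.toMatrix'_mulVec, hTb]

/-- the first coordinate vectors of `F^2` -/
def e0 (F : Type*) [Field F] : Fin 2 → F := Pi.single 0 1

def e1 (F : Type*) [Field F] : Fin 2 → F := Pi.single 1 1

theorem f1_e0_e1_ne {f₁ : (Fin 2 → F) → (Fin 2 → F) → F} (hf₁ : Cfsg.Geo.IsSymplecticForm f₁) :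
    f₁ (e0 F) (e1 F) ≠ 0 := by
  intro h0
  have hne : e0 F ≠ 0 := by
    intro h
    have := congrFun h 0
    simp [e0] at this
  obtain ⟨-, ⟨x, hx⟩⟩ := hf₁.nondegenerate (e0 F) hne
  apply hx
  have hx' : x = x 0 • e0 F + x 1 • e1 F := by
    ext i
    fin_cases i <;> simp [e0, e1]
  rw [hx', hf₁.bilinear.add_right, hf₁.bilinear.smul_right, hf₁.bilinear.smul_right,
    hf₁.alternating, h0, mul_zero, mul_zero, add_zero]

/-- the involutions -/
theorem conj_one [Fintype F] (h2 : (2 : F) ≠ 0)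
    (e : (Fin d ⊕ Fin d) ≃ Fin 2 × Fin b) (P : GL (Fin d ⊕ Fin d) F)
    {f₁ : (Fin 2 → F) → (Fin 2 → F) → F} {f₂ : (Fin b → F) → (Fin b → F) → F}
    (hf₁ : Cfsg.Geo.IsSymplecticForm f₁) (hf₂ : Cfsg.Geo.IsSymmetricForm f₂) (c : F) (hc : c ≠ 0)
    (hT : ∀ x y : Fin 2 × Fin b → F,
      Cfsg.sympForm d F ((P : Matrix (Fin d ⊕ Fin d) (Fin d ⊕ Fin d) F) *ᵥ (x ∘ e))
        ((P : Matrix (Fin d ⊕ Fin d) (Fin d ⊕ Fin d) F) *ᵥ (y ∘ e)) =
      c * Cfsg.Geo.formOfGram id (Cfsg.Geo.gramMatrix f₁ ⊗ₖ Cfsg.Geo.gramMatrix f₂) x y)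
    (x : GL (Fin d ⊕ Fin d) F) (hx : x ∈ Cfsg.spGL d F)
    (hz : (x : Matrix (Fin d ⊕ Fin d) (Fin d ⊕ Fin d) F) *
      (x : Matrix (Fin d ⊕ Fin d) (Fin d ⊕ Fin d) F) = (1 : F) • 1) :
    ∃ g ∈ Cfsg.spGL d F, g⁻¹ * x * g ∈ Cfsg.Geo.tensorProductSubgroup 2 b e P := by
  classical
  have hsq : ∀ y, x0 e P x (x0 e P x y) = y := by
    intro y
    rw [x0_sq e P x 1 hz, one_smul]
  obtain ⟨ι', hι', hdec, bb, ε, hbb, hε1, hε2⟩ := caseA_aux h2 (finrank F (Fin 2 × Fin b → F))
    (B0 e P) (x0 e P x) (B0_alt e P) (B0_nd e P) (x0_iso e P x hx) hsq rfl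
  have hcard : Fintype.card ι' = b := by
    have h1 := Module.finrank_eq_card_basis bb
    rw [finrank_W, Fintype.card_sum] at h1
    omega
  have hεε : ∀ i, ε i * ε i = 1 := by
    intro i
    have h1 := hsq (bb (.inl i))
    rw [hε1, map_smul, hε1, smul_smul] at h1
    have h3 : (ε i * ε i - 1) • bb (.inl i) = 0 := by
      rw [sub_smul, one_smul, h1, sub_self]
    rcases smul_eq_zero.mp h3 with h4 | h4
    · exact sub_eq_zero.mp h4
    · exact absurd h4 (bb.ne_zero _)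
  set ρ : ι' ≃ Fin b := Fintype.equivFinOfCardEq hcard with hρ
  set bb' : Basis (Fin b ⊕ Fin b) F (Fin 2 × Fin b → F) := bb.reindex (ρ.sumCongr ρ) with hbb'
  have hbb's : IsSymp (B0 e P) bb' := IsSymp.reindex (B0 e P) bb hbb ρ
  set s : Fin b → F := fun k => ε (ρ.symm k) with hs
  have hss : ∀ k, s k * s k = 1 := fun k => hεε _
  have hbl : ∀ k, x0 e P x (bb' (.inl k)) = s k • bb' (.inl k) := by
    intro k
    simp only [hbb', Basis.reindex_apply, Equiv.sumCongr_symm, Equiv.sumCongr_apply, Sum.map_inl]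
    exact hε1 _
  have hbr : ∀ k, x0 e P x (bb' (.inr k)) = s k • bb' (.inr k) := by
    intro k
    simp only [hbb', Basis.reindex_apply, Equiv.sumCongr_symm, Equiv.sumCongr_apply, Sum.map_inr]
    exact hε2 _
  -- the orthogonal basis of the second factor
  obtain ⟨ub, hub0, hub1⟩ := exists_orth_basis h2 hf₂
  obtain ⟨Bm, hBm⟩ := exists_diag_gl' ub s hss
  have hg1 := f1_e0_e1_ne hf₁
  set fam : Fin b ⊕ Fin b → (Fin 2 × Fin b → F) :=
    Sum.elim (fun k => pt (e0 F) (ub k))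
      (fun k => (c * f₁ (e0 F) (e1 F) * f₂ (ub k) (ub k))⁻¹ • pt (e1 F) (ub k)) with hfam
  have hfams : IsSymp (B0 e P) fam := by
    constructor
    · intro i j
      simp only [hfam, Sum.elim_inl, Sum.elim_inr]
      rw [map_smul, smul_eq_mul, B0_pt e P hf₁.bilinear hf₂.bilinear c hT]
      by_cases hij : i = j
      · subst hij
        rw [if_pos rfl]
        have hne : c * f₁ (e0 F) (e1 F) * f₂ (ub i) (ub i) ≠ 0 :=
          mul_ne_zero (mul_ne_zero hc hg1) (hub1 i)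
        have hre : c * (f₁ (e0 F) (e1 F) * f₂ (ub i) (ub i)) =
            c * f₁ (e0 F) (e1 F) * f₂ (ub i) (ub i) := by ring
        rw [hre, inv_mul_cancel₀ hne]
      · rw [if_neg hij, hub0 i j hij, mul_zero, mul_zero, mul_zero]
    · intro i j
      simp only [hfam, Sum.elim_inl]
      rw [B0_pt e P hf₁.bilinear hf₂.bilinear c hT, hf₁.alternating, zero_mul, mul_zero]
    · intro i j
      simp only [hfam, Sum.elim_inr]
      rw [map_smul, map_smul, LinearMap.smul_apply, smul_eq_mul, smul_eq_mul,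
        B0_pt e P hf₁.bilinear hf₂.bilinear c hT, hf₁.alternating, zero_mul, mul_zero, mul_zero,
        mul_zero]
  -- the model element
  set K : Module.End F (Fin 2 × Fin b → F) :=
    Matrix.toLin' ((1 : Matrix (Fin 2) (Fin 2) F) ⊗ₖ (Bm : Matrix (Fin b) (Fin b) F)) with hK
  have hKpt : ∀ (u : Fin 2 → F) (k : Fin b), K (pt u (ub k)) = s k • pt u (ub k) := by
    intro u k
    rw [hK, Matrix.toLin'_apply, kron_pt, Matrix.one_mulVec, hBm, pt_smul_right]
  have hKfam : ∀ t : Fin b ⊕ Fin b, K (fam t) = Sum.elim s s t • fam t := by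
    rintro (k | k)
    · simp only [hfam, Sum.elim_inl]
      exact hKpt _ k
    · simp only [hfam, Sum.elim_inr]
      rw [map_smul, hKpt, smul_comm]
  -- the isometry
  set φ₀ : (Fin 2 × Fin b → F) →ₗ[F] (Fin 2 × Fin b → F) := bb'.constr F fam with hφ₀
  have hφb : ∀ t, φ₀ (bb' t) = fam t := fun t => by rw [hφ₀, Basis.constr_basis]
  have hφiso : ∀ y y', B0 e P (φ₀ y) (φ₀ y') = B0 e P y y' := by
    have key : (B0 e P).compl₁₂ φ₀ φ₀ = B0 e P := by
      apply LinearMap.BilinForm.ext_basis bb'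
      intro t t'
      rw [LinearMap.compl₁₂_apply, hφb, hφb]
      exact isSymp_gram_eq (B0 e P) (B0_alt e P) hfams hbb's t t'
    intro y y'
    have := congrArg (fun T : LinearMap.BilinForm F (Fin 2 × Fin b → F) => T y y') key
    simpa using this
  have hφinj : Function.Injective φ₀ := by
    rw [injective_iff_map_eq_zero]
    intro y hy
    apply B0_nd e P
    intro y'
    rw [← hφiso, hy, LinearMap.map_zero, LinearMap.zero_apply]
  set φ : (Fin 2 × Fin b → F) ≃ₗ[F] (Fin 2 × Fin b → F) :=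
    LinearEquiv.ofInjectiveEndo φ₀ hφinj with hφ
  have hφa : ∀ y, φ y = φ₀ y := fun y => rfl
  have hcomm : ∀ y, φ₀ (x0 e P x y) = K (φ₀ y) := by
    have key : φ₀ ∘ₗ x0 e P x = K ∘ₗ φ₀ := by
      apply bb'.ext
      intro t
      rw [LinearMap.comp_apply, LinearMap.comp_apply, hφb, hKfam]
      rcases t with k | k
      · rw [hbl, map_smul, hφb]
        rfl
      · rw [hbr, map_smul, hφb]
        rfl
    intro y
    exact congrArg (fun T : (Fin 2 × Fin b → F) →ₗ[F] (Fin 2 × Fin b → F) => T y) key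
  refine transfer e P x 1 Bm φ ?_ ?_
  · intro y y'
    rw [← B0_apply, ← B0_apply, hφa, hφa]
    exact hφiso y y'
  · intro y
    rw [← x0_apply, hφa, hφa, hcomm, hK, Matrix.toLin'_apply]
    rfl

end Cfsg.Agent.Lib.H11.SpTen
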