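import Cfsg.Agent.Lib.H11.SubfR6

/-!
# Subfield subgroups, odd `r ≠ p` (part 7): diagonalisable elements (`r ∣ q - 1`):
diagonal models, the determinant in terms of the multiplicities, the twisting condition
-/

set_option autoImplicit false
set_option linter.unusedSectionVars false

namespace Cfsg.Agent.Lib.H11.SubfR

open Matrix Polynomial Module Cfsg.Agent.Lib.H11.InvCls Cfsg.Agent.Lib.H13

variable {F : Type*} [Field F] {n r : ℕ} [NeZero r]

/-- the diagonal matrix with entries `ζ ^ a j` -/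
noncomputable def dg (ζ : F) (a : Fin n → ZMod r) : Matrix (Fin n) (Fin n) F :=
  Matrix.diagonal (fun j => PGLPrime.zp ζ (a j))

theorem dg_pow (ζ : F) (hζ : ζ ^ r = 1) (a : Fin n → ZMod r) : dg ζ a ^ r = 1 := by
  rw [dg, Matrix.diagonal_pow]
  have : ((fun j => PGLPrime.zp ζ (a j)) ^ r : Fin n → F) = 1 := by
    funext j
    rw [Pi.pow_apply, PGLPrime.zp_pow ζ hζ, Pi.one_apply]
  rw [this]
  exact Matrix.diagonal_one

theorem zp_sum (ζ : F) (hζ : ζ ^ r = 1) {ι : Type*} (s : Finset ι) (a : ι → ZMod r) :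
    PGLPrime.zp ζ (∑ j ∈ s, a j) = ∏ j ∈ s, PGLPrime.zp ζ (a j) := by
  classical
  induction s using Finset.induction_on with
  | empty => rw [Finset.sum_empty, Finset.prod_empty, PGLPrime.zp_zero]
  | insert j s hj ih =>
    rw [Finset.sum_insert hj, Finset.prod_insert hj, PGLPrime.zp_add ζ hζ, ih]

theorem zp_natCast_mul (ζ : F) (hζ : ζ ^ r = 1) (m : ℕ) (t : ZMod r) :
    PGLPrime.zp ζ ((m : ZMod r) * t) = PGLPrime.zp ζ t ^ m := by
  induction m with
  | zero => rw [Nat.cast_zero, zero_mul, PGLPrime.zp_zero, pow_zero]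
  | succ m ih =>
    rw [Nat.cast_succ, add_mul, one_mul, PGLPrime.zp_add ζ hζ, ih, pow_succ]

theorem det_dg (ζ : F) (hζ : ζ ^ r = 1) (a : Fin n → ZMod r) :
    (dg ζ a).det = PGLPrime.zp ζ (∑ j, a j) := by
  rw [dg, Matrix.det_diagonal, zp_sum ζ hζ]

theorem mult_dg (ζ : F) (hζ : IsPrimitiveRoot ζ r) (a : Fin n → ZMod r) (t : ZMod r) :
    PGLPrime.mult ζ (dg ζ a) t = (Finset.univ.filter (fun j => a j = t)).card := by
  classical
  unfold PGLPrime.mult
  have h1 : aeval (Matrix.toLin' (dg ζ a)) (PGLPrime.fA ζ t) =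
      Matrix.toLin' (Matrix.diagonal (fun j => PGLPrime.zp ζ (a j) - PGLPrime.zp ζ t)) := by
    rw [PGLPrime.aeval_fA]
    have : (Matrix.diagonal (fun j => PGLPrime.zp ζ (a j) - PGLPrime.zp ζ t) :
        Matrix (Fin n) (Fin n) F) = dg ζ a - PGLPrime.zp ζ t • 1 := by
      rw [dg]
      ext i j
      rw [Matrix.sub_apply, Matrix.smul_apply, Matrix.diagonal_apply, Matrix.diagonal_apply,
        Matrix.one_apply]
      split_ifs <;> simp
    rw [this, map_sub, map_smul, Matrix.toLin'_one]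
  rw [h1]
  have h2 := finrank_ker_toLin' (Matrix.diagonal (fun j => PGLPrime.zp ζ (a j) - PGLPrime.zp ζ t))
  rw [Matrix.rank_diagonal, Fintype.card_subtype] at h2
  have h3 : (Finset.univ.filter (fun j => a j = t)).card +
      (Finset.univ.filter (fun j => ¬ a j = t)).card = n := by
    rw [Finset.card_filter_add_card_filter_not, Finset.card_univ, Fintype.card_fin]
  have h4 : (Finset.univ.filter (fun j => PGLPrime.zp ζ (a j) - PGLPrime.zp ζ t ≠ 0)) =
      (Finset.univ.filter (fun j : Fin n => ¬ a j = t)) := by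
    apply Finset.filter_congr
    intro j _
    rw [Ne, sub_eq_zero, (PGLPrime.zp_injective ζ hζ).eq_iff]
  rw [h4] at h2
  omega

/-- functions with prescribed fibre sizes -/
theorem exists_fibers (m : ZMod r → ℕ) (hm : ∑ t, m t = n) :
    ∃ a : Fin n → ZMod r, ∀ t, (Finset.univ.filter (fun j => a j = t)).card = m t := by
  classical
  have hcard : Fintype.card (Fin n) = Fintype.card (Σ t : ZMod r, Fin (m t)) := by
    rw [Fintype.card_sigma, Fintype.card_fin, ← hm]
    exact Finset.sum_congr rfl (fun t _ => (Fintype.card_fin _).symm)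
  let e : Fin n ≃ Σ t : ZMod r, Fin (m t) := Fintype.equivOfCardEq hcard
  refine ⟨fun j => (e j).1, fun t => ?_⟩
  have h1 : (Finset.univ.filter (fun j : Fin n => (e j).1 = t)).card =
      (Finset.univ.filter (fun s : Σ t : ZMod r, Fin (m t) => s.1 = t)).card := by
    apply Finset.card_bij (fun j _ => e j)
    · intro j hj
      rw [Finset.mem_filter] at hj ⊢
      exact ⟨Finset.mem_univ _, hj.2⟩
    · intro j _ j' _ h
      exact e.injective h
    · intro s hs
      rw [Finset.mem_filter] at hs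
      refine ⟨e.symm s, ?_, e.apply_symm_apply s⟩
      rw [Finset.mem_filter, e.apply_symm_apply]
      exact ⟨Finset.mem_univ _, hs.2⟩
  rw [h1]
  have h2 : (Finset.univ.filter (fun s : Σ t : ZMod r, Fin (m t) => s.1 = t)) =
      (Finset.univ : Finset (Fin (m t))).map ⟨fun i => ⟨t, i⟩, fun i i' h => by
        simpa using h⟩ := by
    ext s
    rw [Finset.mem_filter, Finset.mem_map]
    constructor
    · rintro ⟨-, hs⟩
      obtain ⟨t', i⟩ := s
      simp only at hs
      subst hs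
      exact ⟨i, Finset.mem_univ _, rfl⟩
    · rintro ⟨i, -, rfl⟩
      exact ⟨Finset.mem_univ _, rfl⟩
  rw [h2, Finset.card_map, Finset.card_univ, Fintype.card_fin]

theorem sum_eq_of_fibers (a : Fin n → ZMod r) (m : ZMod r → ℕ)
    (h : ∀ t, (Finset.univ.filter (fun j => a j = t)).card = m t) :
    ∑ j, a j = ∑ t, m t • t := by
  classical
  rw [← Finset.sum_fiberwise (Finset.univ : Finset (Fin n)) a a]
  apply Finset.sum_congr rfl
  intro t _
  rw [← h t, ← Finset.sum_const]
  apply Finset.sum_congr rfl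
  intro j hj
  rw [Finset.mem_filter] at hj
  exact hj.2

/-- the determinant of an element of order `r` in terms of its eigenvalue multiplicities -/
theorem det_eq_zp (ζ : F) (hζ : IsPrimitiveRoot ζ r) (x : GL (Fin n) F)
    (hx : (x : Matrix (Fin n) (Fin n) F) ^ r = 1) :
    (x : Matrix (Fin n) (Fin n) F).det =
      PGLPrime.zp ζ (∑ t : ZMod r, PGLPrime.mult ζ (x : Matrix (Fin n) (Fin n) F) t • t) := by
  have hr : 0 < r := Nat.pos_of_ne_zero (NeZero.ne r)
  have hx1 : (x : Matrix (Fin n) (Fin n) F) ^ r = (1 : F) • 1 := by rw [hx, one_smul]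
  obtain ⟨a, ha⟩ := exists_fibers (n := n) (PGLPrime.mult ζ (x : Matrix (Fin n) (Fin n) F))
    (PGLPrime.sum_mult ζ hζ _ hx1)
  have hD : dg ζ a ^ r = (1 : F) • 1 := by rw [dg_pow ζ hζ.pow_eq_one, one_smul]
  have hc := PGLPrime.conj_of_mult_eq ζ hζ x (PGLPrime.glOfPow (dg ζ a) 1 one_ne_zero hr hD) hx1
    hD (fun t => by rw [PGLPrime.glOfPow_val, mult_dg ζ hζ, ha])
  have h1 := (Matrix.GeneralLinearGroup.det (n := Fin n) (R := F)).map_isConj hc
  rw [isConj_iff_eq] at h1
  have h2 := congrArg Units.val h1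
  rw [Matrix.GeneralLinearGroup.val_det_apply, Matrix.GeneralLinearGroup.val_det_apply,
    PGLPrime.glOfPow_val, det_dg ζ hζ.pow_eq_one, sum_eq_of_fibers a _ ha] at h2
  exact h2

/-- the twisting condition in terms of the eigenvalue multiplicities -/
theorem mult_of_twist (ζ : F) (hζ : IsPrimitiveRoot ζ r) (σ : F →+* F) (s : ZMod r)
    (hσζ : ∀ t : ZMod r, σ (PGLPrime.zp ζ t) = PGLPrime.zp ζ (s * t)) (hn : 0 < n)
    (x B Bi : Matrix (Fin n) (Fin n) F) (hB : B * Bi = 1) (η : F)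
    (htw : x.map σ * B = B * (η • x)) (hx : x ^ r = 1) :
    ∃ e : ZMod r, ∀ t, PGLPrime.mult ζ x t = PGLPrime.mult ζ x (s * t - e) := by
  have hη := pow_eq_one_of_twist hn σ x B Bi hB η htw r hx
  obtain ⟨e, he⟩ := PGLPrime.exists_zp ζ hζ η hη
  refine ⟨e, fun t => ?_⟩
  have h1 := finrank_ker_of_twist σ x B Bi hB η htw (PGLPrime.fA ζ t)
  have h2 : (PGLPrime.fA ζ t).map σ = PGLPrime.fA ζ (s * t) := by
    rw [PGLPrime.fA, PGLPrime.fA, Polynomial.map_sub, Polynomial.map_X, Polynomial.map_C, hσζ]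
  rw [h2, ← he] at h1
  have h3 := PGLPrime.mult_smul ζ hζ.pow_eq_one x e (s * t)
  unfold PGLPrime.mult at h3 ⊢
  rw [← h3, h1]

/-- a matrix with two distinct eigenvalues is not scalar -/
theorem not_scalar_of_mult (ζ : F) (hζ : IsPrimitiveRoot ζ r) (x : Matrix (Fin n) (Fin n) F)
    (k₁ k₂ : ZMod r) (hne : k₁ ≠ k₂) (h1 : PGLPrime.mult ζ x k₁ ≠ 0)
    (h2 : PGLPrime.mult ζ x k₂ ≠ 0) : ∀ c : F, x ≠ c • 1 := by
  intro c hc
  have key : ∀ k : ZMod r, PGLPrime.mult ζ x k ≠ 0 → c = PGLPrime.zp ζ k := by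
    intro k hk
    unfold PGLPrime.mult at hk
    have hpos : 0 < finrank F (LinearMap.ker (aeval (Matrix.toLin' x) (PGLPrime.fA ζ k))) :=
      Nat.pos_of_ne_zero hk
    rw [Module.finrank_pos_iff_exists_ne_zero] at hpos
    obtain ⟨⟨v, hv⟩, hv0⟩ := hpos
    rw [LinearMap.mem_ker, PGLPrime.aeval_fA, hc, map_smul, Matrix.toLin'_one] at hv
    have hv0' : v ≠ 0 := fun h => hv0 (Subtype.ext h)
    have h3 : (c - PGLPrime.zp ζ k) • v = 0 := by
      rw [sub_smul]
      exact hv
    rcases smul_eq_zero.mp h3 with h4 | h4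
    · exact sub_eq_zero.mp h4
    · exact absurd h4 hv0'
  exact hne (PGLPrime.zp_injective ζ hζ ((key k₁ h1).symm.trans (key k₂ h2)))

end Cfsg.Agent.Lib.H11.SubfR
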