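import Mathlib
import Cfsg.Agent.Lib.H11.SpTen1
import Cfsg.Agent.Lib.H11.SubfR7

/-!
# Tensor product subgroups `Sp_a ⊗ O_b` of `Sp_{2d}` (part 2): the eigenvalue multiplicities of a
Kronecker product of two matrices of order `r` are the convolution of the multiplicities
-/

set_option autoImplicit false
set_option linter.unusedSectionVars false
set_option linter.unusedVariables false

namespace Cfsg.Agent.Lib.H11.SpTen

open Matrix Module Kronecker Polynomial Cfsg.Agent.Lib.H13 Cfsg.Agent.Lib.H11.SubfR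
  Cfsg.Agent.Lib.H11.TensR

variable {E : Type*} [Field E] {n a b r : ℕ} [NeZero r]

/-- similar matrices have the same multiplicities -/
theorem mult_eq_of_sim (θ : E) (x y Q Qi : Matrix (Fin n) (Fin n) E) (h1 : Q * Qi = 1)
    (h3 : x = Q * y * Qi) (t : ZMod r) : PGLPrime.mult θ x t = PGLPrime.mult θ y t := by
  have h2 : Qi * Q = 1 := mul_eq_one_comm.mp h1
  unfold PGLPrime.mult
  apply finrank_ker_eq_of_mul Q Qi y x h1
  rw [h3, Matrix.mul_assoc, h2, Matrix.mul_one]

/-- a matrix of order `r` is similar to a diagonal one -/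
theorem exists_sim_dg (θ : E) (hθ : IsPrimitiveRoot θ r) (A : Matrix (Fin a) (Fin a) E)
    (hA : A ^ r = 1) :
    ∃ (w : Fin a → ZMod r) (S Si : Matrix (Fin a) (Fin a) E), S * Si = 1 ∧ Si * S = 1 ∧
      A = S * dg θ w * Si ∧
      ∀ t, (Finset.univ.filter (fun j => w j = t)).card = PGLPrime.mult θ A t := by
  have hr : 0 < r := Nat.pos_of_ne_zero (NeZero.ne r)
  have hA1 : A ^ r = (1 : E) • 1 := by rw [hA, one_smul]
  obtain ⟨w, hw⟩ := exists_fibers (n := a) (PGLPrime.mult θ A) (PGLPrime.sum_mult θ hθ _ hA1)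
  have hD : dg θ w ^ r = (1 : E) • 1 := by rw [dg_pow θ hθ.pow_eq_one, one_smul]
  have hc := PGLPrime.conj_of_mult_eq θ hθ (PGLPrime.glOfPow A 1 one_ne_zero hr hA1)
    (PGLPrime.glOfPow (dg θ w) 1 one_ne_zero hr hD) hA1 hD
    (fun t => by rw [PGLPrime.glOfPow_val, PGLPrime.glOfPow_val, mult_dg θ hθ, hw])
  rw [isConj_iff] at hc
  obtain ⟨c, hc⟩ := hc
  -- `c * A * c⁻¹ = D`
  have hval : (c : Matrix (Fin a) (Fin a) E) * A * ((c⁻¹ : GL (Fin a) E) : Matrix (Fin a) (Fin a) E) =
      dg θ w := by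
    have := congrArg Units.val hc
    rw [Units.val_mul, Units.val_mul] at this
    exact this
  have hci : ((c⁻¹ : GL (Fin a) E) : Matrix (Fin a) (Fin a) E) * (c : Matrix (Fin a) (Fin a) E) = 1 := by
    rw [← Units.val_mul, inv_mul_cancel, Units.val_one]
  have hcc : (c : Matrix (Fin a) (Fin a) E) * ((c⁻¹ : GL (Fin a) E) : Matrix (Fin a) (Fin a) E) = 1 := by
    rw [← Units.val_mul, mul_inv_cancel, Units.val_one]
  refine ⟨w, ((c⁻¹ : GL (Fin a) E) : Matrix (Fin a) (Fin a) E), (c : Matrix (Fin a) (Fin a) E),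
    hci, hcc, ?_, hw⟩
  rw [← hval]
  calc A = (((c⁻¹ : GL (Fin a) E) : Matrix (Fin a) (Fin a) E) * (c : Matrix (Fin a) (Fin a) E)) * A *
        (((c⁻¹ : GL (Fin a) E) : Matrix (Fin a) (Fin a) E) * (c : Matrix (Fin a) (Fin a) E)) := by
        rw [hci, Matrix.one_mul, Matrix.mul_one]
    _ = _ := by simp only [Matrix.mul_assoc]

/-- the Kronecker product of two diagonal matrices -/
theorem dg_kron (θ : E) (hθ : θ ^ r = 1) (u : Fin a → ZMod r) (w : Fin b → ZMod r)
    (e : Fin n ≃ Fin a × Fin b) :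
    (dg θ u ⊗ₖ dg θ w).submatrix e e = dg θ (fun j => u (e j).1 + w (e j).2) := by
  ext i j
  rw [Matrix.submatrix_apply, Matrix.kroneckerMap_apply, dg, dg, dg, Matrix.diagonal_apply,
    Matrix.diagonal_apply, Matrix.diagonal_apply]
  by_cases hij : i = j
  · subst hij
    rw [if_pos rfl, if_pos rfl, if_pos rfl, PGLPrime.zp_add θ hθ]
  · have hne : e i ≠ e j := fun h => hij (e.injective h)
    rw [if_neg hij]
    by_cases h1 : (e i).1 = (e j).1
    · have h2 : (e i).2 ≠ (e j).2 := fun h2 => hne (Prod.ext h1 h2)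
      rw [if_neg h2, mul_zero]
    · rw [if_neg h1, zero_mul]

/-- counting pairs with prescribed sum -/
theorem card_sum_eq (u : Fin a → ZMod r) (w : Fin b → ZMod r) (e : Fin n ≃ Fin a × Fin b)
    (t : ZMod r) :
    (Finset.univ.filter (fun j : Fin n => u (e j).1 + w (e j).2 = t)).card =
      ∑ s : ZMod r, (Finset.univ.filter (fun j => u j = s)).card *
        (Finset.univ.filter (fun k => w k = t - s)).card := by
  classical
  have h1 : (Finset.univ.filter (fun j : Fin n => u (e j).1 + w (e j).2 = t)).card =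
      (Finset.univ.filter (fun p : Fin a × Fin b => u p.1 + w p.2 = t)).card := by
    apply Finset.card_bij (fun j _ => e j)
    · intro j hj
      rw [Finset.mem_filter] at hj ⊢
      exact ⟨Finset.mem_univ _, hj.2⟩
    · intro j _ j' _ h
      exact e.injective h
    · intro p hp
      rw [Finset.mem_filter] at hp
      refine ⟨e.symm p, ?_, e.apply_symm_apply p⟩
      rw [Finset.mem_filter, e.apply_symm_apply]
      exact ⟨Finset.mem_univ _, hp.2⟩
  rw [h1, Finset.card_filter, Fintype.sum_prod_type]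
  have h2 : ∀ s : ZMod r, (Finset.univ.filter (fun j => u j = s)).card *
      (Finset.univ.filter (fun k => w k = t - s)).card =
      ∑ i : Fin a, ∑ k : Fin b, (if u i = s ∧ w k = t - s then 1 else 0) := by
    intro s
    rw [Finset.card_filter, Finset.card_filter, Finset.sum_mul_sum]
    apply Finset.sum_congr rfl
    intro i _
    apply Finset.sum_congr rfl
    intro k _
    by_cases hi : u i = s <;> by_cases hk : w k = t - s <;> simp [hi, hk]
  rw [Finset.sum_congr rfl (fun s _ => h2 s)]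
  conv_rhs => rw [Finset.sum_comm]
  apply Finset.sum_congr rfl
  intro i _
  conv_rhs => rw [Finset.sum_comm]
  apply Finset.sum_congr rfl
  intro k _
  show (if u i + w k = t then 1 else 0) = _
  rw [Finset.sum_eq_single (u i)]
  · by_cases h : u i + w k = t
    · have h' : w k = t - u i := by rw [← h]; ring
      rw [if_pos h, if_pos ⟨rfl, h'⟩]
    · have h' : ¬ (u i = u i ∧ w k = t - u i) := by
        rintro ⟨-, h'⟩
        apply h
        rw [h']
        ring
      rw [if_neg h, if_neg h']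
  · intro s _ hs
    rw [if_neg]
    rintro ⟨h, -⟩
    exact hs h.symm
  · intro h
    exact absurd (Finset.mem_univ _) h

/-- the multiplicities of a Kronecker product -/
theorem mult_kron (θ : E) (hθ : IsPrimitiveRoot θ r) (A : Matrix (Fin a) (Fin a) E)
    (B : Matrix (Fin b) (Fin b) E) (hA : A ^ r = 1) (hB : B ^ r = 1) (e : Fin n ≃ Fin a × Fin b)
    (t : ZMod r) :
    PGLPrime.mult θ ((A ⊗ₖ B).submatrix e e) t =
      ∑ s : ZMod r, PGLPrime.mult θ A s * PGLPrime.mult θ B (t - s) := by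
  obtain ⟨u, S, Si, hS1, hS2, hAS, hu⟩ := exists_sim_dg θ hθ A hA
  obtain ⟨w, T, Ti, hT1, hT2, hBT, hw⟩ := exists_sim_dg θ hθ B hB
  have hk : A ⊗ₖ B = (S ⊗ₖ T) * (dg θ u ⊗ₖ dg θ w) * (Si ⊗ₖ Ti) := by
    rw [← Matrix.mul_kronecker_mul, ← Matrix.mul_kronecker_mul, ← hAS, ← hBT]
  have hk1 : (S ⊗ₖ T) * (Si ⊗ₖ Ti) = 1 := by
    rw [← Matrix.mul_kronecker_mul, hS1, hT1, Matrix.one_kronecker_one]
  have h1 : (A ⊗ₖ B).submatrix e e = (S ⊗ₖ T).submatrix e e *
      dg θ (fun j => u (e j).1 + w (e j).2) * (Si ⊗ₖ Ti).submatrix e e := by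
    rw [hk, ← Matrix.submatrix_mul_equiv _ _ e e e, ← Matrix.submatrix_mul_equiv _ _ e e e,
      dg_kron θ hθ.pow_eq_one]
  have h2 : (S ⊗ₖ T).submatrix e e * (Si ⊗ₖ Ti).submatrix e e = 1 := by
    rw [Matrix.submatrix_mul_equiv, hk1, Matrix.submatrix_one_equiv]
  rw [mult_eq_of_sim θ _ _ _ _ h2 h1 t, mult_dg θ hθ, card_sum_eq]
  apply Finset.sum_congr rfl
  intro s _
  rw [hu, hw]

end Cfsg.Agent.Lib.H11.SpTen
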