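import Mathlib

/-!
# Tensor product subgroups `Sp_a ⊗ O_b` of `Sp_{2d}` (part 3): the combinatorial lemma on
convolutions of multiplicity functions on `ZMod r`
-/

set_option autoImplicit false
set_option linter.unusedSectionVars false
set_option linter.unusedVariables false

namespace Cfsg.Agent.Lib.H11.SpTen

variable {r : ℕ} [Fact r.Prime]

/-- the convolution of two functions on `ZMod r` -/
def conv (f g : ZMod r → ℕ) (t : ZMod r) : ℕ := ∑ s, f s * g (t - s)

theorem conv_comm (f g : ZMod r → ℕ) (t : ZMod r) : conv f g t = conv g f t := by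
  unfold conv
  rw [← Equiv.sum_comp (Equiv.subLeft t)]
  apply Finset.sum_congr rfl
  intro s _
  rw [Equiv.subLeft_apply, sub_sub_cancel, mul_comm]

theorem two_support (f g : ZMod r → ℕ) (cf : ℕ) (hf : ∑ s, f s = cf) (h2 : 2 ≤ cf) (t₀ : ZMod r)
    (h : conv f g t₀ = 1) : ∃ s₁ s₂, s₁ ≠ s₂ ∧ 0 < f s₁ ∧ 0 < f s₂ := by
  by_contra hcon
  push Not at hcon
  obtain ⟨σ, hσ⟩ : ∃ σ, 0 < f σ := by
    by_contra h0
    push Not at h0
    have : ∑ s, f s = 0 := Finset.sum_eq_zero (fun s _ => by have := h0 s; omega)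
    omega
  have hz : ∀ s, s ≠ σ → f s = 0 := fun s hs => by
    have := hcon σ s (Ne.symm hs) hσ
    omega
  have hfσ : f σ = cf := by
    rw [← hf, Finset.sum_eq_single σ (fun s _ hs => hz s hs)
      (fun h => absurd (Finset.mem_univ _) h)]
  have hc : conv f g t₀ = f σ * g (t₀ - σ) :=
    Finset.sum_eq_single σ (fun s _ hs => by rw [hz s hs, zero_mul])
      (fun h => absurd (Finset.mem_univ _) h)
  rw [hc, hfσ] at h
  have := Nat.le_of_dvd one_pos (Dvd.intro _ h)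
  omega

theorem le_one_of_two_support (f g : ZMod r → ℕ) (hN1 : ∀ t, t ≠ 0 → conv f g t ≤ 1)
    (hg : ∃ κ₁ κ₂, κ₁ ≠ κ₂ ∧ 0 < g κ₁ ∧ 0 < g κ₂) (σ : ZMod r) : f σ ≤ 1 := by
  obtain ⟨κ₁, κ₂, hne, h1, h2⟩ := hg
  obtain ⟨κ, hκ, hσκ⟩ : ∃ κ, 0 < g κ ∧ σ + κ ≠ 0 := by
    by_cases h : σ + κ₁ = 0
    · refine ⟨κ₂, h2, fun h' => hne ?_⟩
      linear_combination h - h'
    · exact ⟨κ₁, h1, h⟩
  have hle : f σ * g κ ≤ conv f g (σ + κ) := by
    unfold conv
    have : f σ * g κ = f σ * g (σ + κ - σ) := by rw [add_sub_cancel_left]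
    rw [this]
    exact Finset.single_le_sum (f := fun s => f s * g (σ + κ - s)) (fun _ _ => Nat.zero_le _)
      (Finset.mem_univ σ)
  have h3 := hN1 _ hσκ
  by_contra hcon
  push Not at hcon
  have : 2 * 1 ≤ f σ * g κ := Nat.mul_le_mul hcon hκ
  omega

theorem conv_zero_le (f g : ZMod r → ℕ) (hg : ∀ s, g s ≤ 1) : conv f g 0 ≤ ∑ s, f s := by
  unfold conv
  apply Finset.sum_le_sum
  intro s _
  have := hg (0 - s)
  calc f s * g (0 - s) ≤ f s * 1 := Nat.mul_le_mul_left _ this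
    _ = f s := mul_one _

theorem order_le (u : ZMod r) (f : ZMod r → ℕ) (cf : ℕ) (hf : ∑ s, f s = cf)
    (hinv : ∀ t, f (u * t) = f t) (σ : ZMod r) (hσ0 : σ ≠ 0) (hσ : 0 < f σ) :
    orderOf u ≤ cf := by
  classical
  have hpow : ∀ k : ℕ, f (u ^ k * σ) = f σ := by
    intro k
    induction k with
    | zero => rw [pow_zero, one_mul]
    | succ k ih => rw [pow_succ', mul_assoc, hinv, ih]
  have hinj : Set.InjOn (fun k : ℕ => u ^ k * σ) (Finset.range (orderOf u) : Set ℕ) := by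
    intro k hk l hl hkl
    have h1 : u ^ k = u ^ l := mul_right_cancel₀ hσ0 hkl
    rw [Finset.coe_range] at hk hl
    exact pow_injOn_Iio_orderOf hk hl h1
  calc orderOf u = ∑ k ∈ Finset.range (orderOf u), 1 := by simp
    _ ≤ ∑ k ∈ Finset.range (orderOf u), f (u ^ k * σ) := by
        apply Finset.sum_le_sum
        intro k _
        rw [hpow k]
        omega
    _ = ∑ t ∈ (Finset.range (orderOf u)).image (fun k : ℕ => u ^ k * σ), f t :=
        (Finset.sum_image hinj).symm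
    _ ≤ ∑ t, f t := Finset.sum_le_sum_of_subset (Finset.subset_univ _)
    _ = cf := hf

/-- the combinatorial lemma -/
theorem comb (u : ZMod r) (mA mB : ZMod r → ℕ) (a b : ℕ)
    (hA : ∑ s, mA s = a) (hB : ∑ s, mB s = b) (ha2 : 2 ≤ a) (hb3 : 3 ≤ b) (haev : Even a)
    (hinvA : ∀ t, mA (u * t) = mA t)
    (hN1 : ∀ t, t ≠ 0 → conv mA mB t ≤ 1) (t₀ : ZMod r) (ht₀ : conv mA mB t₀ = 1)
    (hc : a * b ≤ conv mA mB 0 + (if Even (orderOf u) then orderOf u else 2 * orderOf u)) :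
    False := by
  have hsA := two_support mA mB a hA ha2 t₀ ht₀
  have hsB := two_support mB mA b hB (by omega) t₀ (by rw [conv_comm]; exact ht₀)
  have hB1 : ∀ κ, mB κ ≤ 1 :=
    le_one_of_two_support mB mA (fun t ht => by rw [conv_comm]; exact hN1 t ht) hsA
  have hN0a : conv mA mB 0 ≤ a := (conv_zero_le mA mB hB1).trans_eq hA
  obtain ⟨s₁, s₂, hne, h1, h2⟩ := hsA
  obtain ⟨σ, hσ0, hσ⟩ : ∃ σ, σ ≠ 0 ∧ 0 < mA σ := by
    by_cases h : s₁ = 0
    · exact ⟨s₂, fun h' => hne (h.trans h'.symm), h2⟩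
    · exact ⟨s₁, h, h1⟩
  have hia := order_le u mA a hA hinvA σ hσ0 hσ
  have h3 : 3 * a ≤ a * b := by nlinarith
  by_cases hev : Even (orderOf u)
  · rw [if_pos hev] at hc
    omega
  · rw [if_neg hev] at hc
    have : orderOf u = a := by omega
    rw [this] at hev
    exact hev haev

end Cfsg.Agent.Lib.H11.SpTen
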