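import Mathlib
import Cfsg.Agent.Lib.H11.SpTen2
import Cfsg.Agent.Lib.H11.OrtR4

/-!
# Tensor product subgroups `Sp_a ⊗ O_b` of `Sp_{2d}` (part 4): symmetries of the multiplicity
function of an element of order `r` preserving a form, and elements of minimal support
-/

set_option autoImplicit false
set_option linter.unusedSectionVars false
set_option linter.unusedVariables false

namespace Cfsg.Agent.Lib.H11.SpTen

open Matrix Module Kronecker Polynomial Cfsg.Agent.Lib.H13 Cfsg.Agent.Lib.H11.SubfR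
  Cfsg.Agent.Lib.H11.TensR Cfsg.Agent.Lib.H11.OrtR Cfsg.Agent.Lib.H11.InvCls

section sym

variable {F : Type*} [Field F] {E : Type*} [Field E] {n r : ℕ} [NeZero r]

/-- Frobenius invariance of the multiplicities of a matrix over the small field -/
theorem mult_frob (ι : F →+* E) (φ : E →+* E) (hφ : ∀ a, φ (ι a) = ι a) (θ : E) (hθ1 : θ ^ r = 1)
    (q' : ℕ) (hφθ : φ θ = θ ^ q') (x : Matrix (Fin n) (Fin n) F) (t : ZMod r) :
    PGLPrime.mult θ (x.map ι) ((q' : ZMod r) * t) = PGLPrime.mult θ (x.map ι) t := by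
  set y := x.map ι with hy
  have hzy : y = y.map φ := by
    ext i j
    show ι (x i j) = φ (ι (x i j))
    rw [hφ]
  have hfA : (PGLPrime.fA θ t).map φ = PGLPrime.fA θ ((q' : ZMod r) * t) := by
    rw [PGLPrime.fA, PGLPrime.fA, Polynomial.map_sub, Polynomial.map_X, Polynomial.map_C,
      zp_natCast_mul θ hθ1]
    unfold PGLPrime.zp
    rw [map_pow, hφθ, ← pow_mul, ← pow_mul, mul_comm]
  unfold PGLPrime.mult
  conv_lhs => rw [hzy]
  rw [← hfA, finrank_ker_map φ y (PGLPrime.fA θ t)]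

/-- the multiplicities of an isometry of a non-degenerate bilinear form are symmetric -/
theorem mult_neg_of_form (ι : F →+* E) (θ : E) (hθ : IsPrimitiveRoot θ r) (hn : 0 < n)
    (x xi X Xi : Matrix (Fin n) (Fin n) F) (hxi : x * xi = 1) (hX : X * Xi = 1)
    (h : xᵀ * X * x = X) (hx : x ^ r = 1) (t : ZMod r) :
    PGLPrime.mult θ (x.map ι) (-t) = PGLPrime.mult θ (x.map ι) t := by
  obtain ⟨e, he, h1⟩ := mult_of_qsim ι (RingHom.id E) (fun a => rfl) θ hθ 1
    (by rw [pow_one]; rfl) hn x xi X Xi hxi hX 1 (by rw [h, one_smul]) hx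
  have he0 : e = 0 := by
    apply PGLPrime.zp_injective θ hθ
    rw [← he, map_one, PGLPrime.zp_zero]
  have h2 := h1 t
  rw [he0, Nat.cast_one, one_mul, zero_sub] at h2
  exact h2.symm

end sym

section orbit

variable {r : ℕ} [Fact r.Prime]

/-- a multiplicity function invariant under `u` with small support has values at most one -/
theorem le_one_of_orbit (u : ZMod r) (N : ZMod r → ℕ) (hinv : ∀ t, N (u * t) = N t) (n : ℕ)
    (hsum : ∑ t, N t = n) (hc : n ≤ N 0 + orderOf u) (t₁ : ZMod r) (ht₁ : t₁ ≠ 0)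
    (hN : 0 < N t₁) : (∀ t, t ≠ 0 → N t ≤ 1) ∧ N t₁ = 1 := by
  classical
  set i := orderOf u with hi
  have hsum' : N 0 + ∑ t ∈ Finset.univ.erase (0 : ZMod r), N t = n := by
    rw [Finset.add_sum_erase _ _ (Finset.mem_univ _)]
    exact hsum
  have hrest : ∑ t ∈ Finset.univ.erase (0 : ZMod r), N t ≤ i := by omega
  have hmem : t₁ ∈ Finset.univ.erase (0 : ZMod r) := Finset.mem_erase.mpr ⟨ht₁, Finset.mem_univ _⟩
  have hsingle : N t₁ ≤ ∑ t ∈ Finset.univ.erase (0 : ZMod r), N t :=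
    Finset.single_le_sum (f := N) (fun _ _ => Nat.zero_le _) hmem
  have hipos : 0 < i := by omega
  have hu0 : u ≠ 0 := by
    intro h0
    rw [hi, h0, orderOf_zero (M₀ := ZMod r)] at hipos
    exact lt_irrefl 0 hipos
  have hpow : ∀ k : ℕ, N (u ^ k * t₁) = N t₁ := by
    intro k
    induction k with
    | zero => rw [pow_zero, one_mul]
    | succ k ih => rw [pow_succ', mul_assoc, hinv, ih]
  have hinj : Set.InjOn (fun k : ℕ => u ^ k * t₁) (Finset.range i : Set ℕ) := by
    intro k hk l hl hkl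
    have h1 : u ^ k = u ^ l := mul_right_cancel₀ ht₁ hkl
    rw [Finset.coe_range] at hk hl
    exact pow_injOn_Iio_orderOf hk hl h1
  set O := (Finset.range i).image (fun k : ℕ => u ^ k * t₁) with hO
  have hsub : O ⊆ Finset.univ.erase (0 : ZMod r) := by
    intro t ht
    rw [hO, Finset.mem_image] at ht
    obtain ⟨k, -, rfl⟩ := ht
    rw [Finset.mem_erase]
    exact ⟨mul_ne_zero (pow_ne_zero _ hu0) ht₁, Finset.mem_univ _⟩
  have hOsum : ∑ t ∈ O, N t = i * N t₁ := by
    rw [hO, Finset.sum_image hinj, Finset.sum_congr rfl (fun k _ => hpow k), Finset.sum_const,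
      Finset.card_range, smul_eq_mul]
  have hsd := Finset.sum_sdiff (f := N) hsub
  have h1 : N t₁ = 1 := by
    have h2 : i * N t₁ ≤ i := by
      have : ∑ t ∈ O, N t ≤ ∑ t ∈ Finset.univ.erase (0 : ZMod r), N t :=
        Finset.sum_le_sum_of_subset hsub
      omega
    have h3 : N t₁ ≤ 1 := by
      by_contra hcon
      push Not at hcon
      have : i * 2 ≤ i * N t₁ := Nat.mul_le_mul_left i hcon
      omega
    omega
  refine ⟨?_, h1⟩
  intro t ht
  by_cases htO : t ∈ O
  · rw [hO, Finset.mem_image] at htO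
    obtain ⟨k, -, rfl⟩ := htO
    rw [hpow k, h1]
  · have hmem' : t ∈ Finset.univ.erase (0 : ZMod r) \ O :=
      Finset.mem_sdiff.mpr ⟨Finset.mem_erase.mpr ⟨ht, Finset.mem_univ _⟩, htO⟩
    have h4 : N t ≤ ∑ s ∈ Finset.univ.erase (0 : ZMod r) \ O, N s :=
      Finset.single_le_sum (f := N) (fun _ _ => Nat.zero_le _) hmem'
    rw [hOsum, h1, mul_one] at hsd
    omega

end orbit

section minimal

variable {F : Type*} [Field F] [Fintype F] {E : Type*} [Field E] {n q : ℕ}

/-- the multiplicity function of an element of minimal support preserving a non-degenerate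
form -/
theorem mult_min (r : ℕ) [Fact r.Prime] (hr2 : r ≠ 2) (ι : F →+* E) (φ : E →+* E)
    (hφ : ∀ a, φ (ι a) = ι a) (θ : E) (hθ : IsPrimitiveRoot θ r) (hφθ : φ θ = θ ^ q)
    (hn : 0 < n) (x xi Jm Ji : Matrix (Fin n) (Fin n) F) (hxi : x * xi = 1) (hX : Jm * Ji = 1)
    (h : xᵀ * Jm * x = Jm) (hx : x ^ r = 1) (hx1 : x ≠ 1)
    (hfix : finrank F (LinearMap.ker (Matrix.toLin' (x - 1))) +
      (if Even (orderOf (q : ZMod r)) then orderOf (q : ZMod r) else 2 * orderOf (q : ZMod r)) =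
        n) :
    (∀ t : ZMod r, t ≠ 0 → PGLPrime.mult θ (x.map ι) t ≤ 1) ∧
      (∃ t₁ : ZMod r, PGLPrime.mult θ (x.map ι) t₁ = 1) ∧
      n ≤ PGLPrime.mult θ (x.map ι) (0 : ZMod r) +
        (if Even (orderOf (q : ZMod r)) then orderOf (q : ZMod r)
          else 2 * orderOf (q : ZMod r)) := by
  classical
  have hr : r.Prime := Fact.out
  have : NeZero r := ⟨hr.ne_zero⟩
  have hθ1 : θ ^ r = 1 := hθ.pow_eq_one
  set y : Matrix (Fin n) (Fin n) E := x.map ι with hy
  set N : ZMod r → ℕ := PGLPrime.mult θ y with hN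
  set i := orderOf (q : ZMod r) with hi
  have hN0 : N 0 = finrank F (LinearMap.ker (Matrix.toLin' (x - 1))) := by
    have h1 := finrank_ker_map ι x (X - 1 : F[X])
    have h2 : (X - 1 : F[X]).map ι = PGLPrime.fA θ (0 : ZMod r) := by
      rw [PGLPrime.fA, PGLPrime.zp_zero, Polynomial.map_sub, Polynomial.map_X,
        Polynomial.map_one, map_one]
    rw [h2] at h1
    have h3 : aeval (Matrix.toLin' x) (X - 1 : F[X]) = Matrix.toLin' (x - 1) := by
      rw [map_sub, aeval_X, map_one, map_sub, Matrix.toLin'_one]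
      rfl
    rw [h3] at h1
    exact h1
  have hyr : y ^ r = (1 : E) • 1 := by
    rw [hy, one_smul, ← Matrix.map_pow, hx, Matrix.map_one ι (map_zero ι) (map_one ι)]
  have hsum : ∑ t, N t = n := PGLPrime.sum_mult θ hθ y hyr
  have hfrob : ∀ t, N ((q : ZMod r) * t) = N t := fun t => mult_frob ι φ hφ θ hθ1 q hφθ x t
  have hneg : ∀ t, N (-t) = N t := fun t => mult_neg_of_form ι θ hθ hn x xi Jm Ji hxi hX h hx t
  -- a nontrivial eigenvalue
  obtain ⟨t₁, ht₁, hNt₁⟩ : ∃ t₁, t₁ ≠ 0 ∧ 0 < N t₁ := by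
    by_contra hcon
    push Not at hcon
    have h0 : ∑ t, N t = N 0 := by
      rw [Finset.sum_eq_single (0 : ZMod r)]
      · intro t _ ht
        have := hcon t ht
        omega
      · intro h
        exact absurd (Finset.mem_univ _) h
    apply hx1
    have h1 : x - 1 = 0 := by
      apply eq_zero_of_finrank_ker
      rw [Fintype.card_fin, ← hN0, ← h0, hsum]
    exact sub_eq_zero.mp h1
  by_cases hev : Even i
  · rw [if_pos hev] at hfix ⊢
    obtain ⟨h1, h2⟩ := le_one_of_orbit (q : ZMod r) N hfrob n hsum (by rw [hN0]; omega) t₁ ht₁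
      hNt₁
    exact ⟨h1, ⟨t₁, h2⟩, by rw [hN0]; omega⟩
  · rw [if_neg hev] at hfix ⊢
    have hodd : Odd i := Nat.not_even_iff_odd.mp hev
    have hord : orderOf (-(q : ZMod r)) = 2 * i := orderOf_neg_of_odd r hr2 _ hodd
    have hinv : ∀ t, N (-(q : ZMod r) * t) = N t := by
      intro t
      rw [neg_mul, hneg, hfrob]
    obtain ⟨h1, h2⟩ := le_one_of_orbit (-(q : ZMod r)) N hinv n hsum
      (by rw [hN0, hord]; omega) t₁ ht₁ hNt₁
    exact ⟨h1, ⟨t₁, h2⟩, by rw [hN0]; omega⟩

end minimal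

end Cfsg.Agent.Lib.H11.SpTen
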