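import Mathlib
import Cfsg.Agent.Lib.H11.SpTen3
import Cfsg.Agent.Lib.H11.SpTen4

/-!
# Tensor product subgroups `Sp_a ⊗ O_b` of `Sp_{2d}` (part 5): an element of odd prime order
`r ≠ p` of minimal support is not similar to a Kronecker product
-/

set_option autoImplicit false
set_option linter.unusedSectionVars false
set_option linter.unusedVariables false

namespace Cfsg.Agent.Lib.H11.SpTen

open Matrix Module Kronecker Polynomial Cfsg.Agent.Lib.H13 Cfsg.Agent.Lib.H11.SubfR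
  Cfsg.Agent.Lib.H11.TensR Cfsg.Agent.Lib.H11.OrtR Cfsg.Agent.Lib.H11.InvCls
  Cfsg.Agent.Lib.H24.Elus

variable {F : Type*} [Field F] {E : Type*} [Field E]

theorem map_kron {a b : ℕ} (ι : F →+* E) (A : Matrix (Fin a) (Fin a) F)
    (B : Matrix (Fin b) (Fin b) F) : (A ⊗ₖ B).map ι = A.map ι ⊗ₖ B.map ι := by
  ext ⟨i, k⟩ ⟨j, l⟩
  simp [Matrix.kroneckerMap_apply]

theorem map_smul_one {a : ℕ} (ι : F →+* E) (α : F) :
    (α • (1 : Matrix (Fin a) (Fin a) F)).map ι = ι α • 1 := by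
  ext i j
  by_cases hij : i = j
  · subst hij; simp
  · simp [Matrix.one_apply_ne hij]

/-- an `r`-th root in a finite field when `gcd(r, q - 1) = 1` -/
theorem exists_root_of_coprime [Fintype F] (r : ℕ) (hcop : Nat.Coprime (Fintype.card F - 1) r)
    (α : F) (hα : α ≠ 0) : ∃ c : F, c ≠ 0 ∧ c ^ r = α := by
  classical
  have hc : (Nat.card Fˣ).Coprime r := by
    rw [Nat.card_eq_fintype_card, Fintype.card_units]
    exact hcop
  refine ⟨(((powCoprime hc).symm (Units.mk0 α hα) : Fˣ) : F), Units.ne_zero _, ?_⟩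
  have h1 := (powCoprime hc).apply_symm_apply (Units.mk0 α hα)
  rw [powCoprime_apply] at h1
  have h2 := congrArg Units.val h1
  rwa [Units.val_pow_eq_pow_val, Units.val_mk0] at h2

/-- the main non-similarity statement -/
theorem no_sim_min [Fintype F] {p : ℕ} [Fact p.Prime] [CharP F p] {q : ℕ}
    (hq : Fintype.card F = q) (r : ℕ) [Fact r.Prime] (hrp : r ≠ p) (hr2 : r ≠ 2)
    {n a b : ℕ} (hn : n = a * b) (ha2 : 2 ≤ a) (hb3 : 3 ≤ b) (haev : Even a)
    (e : Fin n ≃ Fin a × Fin b)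
    (x xi Jm Ji : Matrix (Fin n) (Fin n) F) (hxi : x * xi = 1) (hJ : Jm * Ji = 1)
    (h : xᵀ * Jm * x = Jm) (hx : x ^ r = 1) (hx1 : x ≠ 1)
    (hfix : finrank F (LinearMap.ker (Matrix.toLin' (x - 1))) +
      (if Even (orderOf (q : ZMod r)) then orderOf (q : ZMod r) else 2 * orderOf (q : ZMod r)) =
        n)
    (A : GL (Fin a) F) (B : GL (Fin b) F)
    (hS : Sim e x ((A : Matrix (Fin a) (Fin a) F) ⊗ₖ (B : Matrix (Fin b) (Fin b) F))) :
    False := by
  classical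
  have hr : r.Prime := Fact.out
  have hrN : NeZero r := ⟨hr.ne_zero⟩
  have hq2 := two_le_card (F := F) hq
  have hnpos : 0 < n := by rw [hn]; positivity
  obtain ⟨f, -, hf⟩ := FiniteField.card F p
  -- the extension field
  have hr0 : NeZero (r : F) := ⟨CycFactor.natCast_ne_zero hr hrp⟩
  set E := AlgebraicClosure F with hE
  have hcharE : CharP E p := charP_of_injective_algebraMap (algebraMap F E).injective p
  have hexpE : ExpChar E p := ExpChar.prime Fact.out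
  obtain ⟨θ, hθ⟩ := HasEnoughRootsOfUnity.exists_primitiveRoot E r
  have hθ1 : θ ^ r = 1 := hθ.pow_eq_one
  set ι : F →+* E := algebraMap F E with hι
  set φ : E →+* E := iterateFrobenius E p f with hφdef
  have hφ : ∀ c, φ (ι c) = ι c := by
    intro c
    rw [hφdef, iterateFrobenius_def, ← hf, ← map_pow, FiniteField.pow_card]
  have hφθ : φ θ = θ ^ q := by rw [hφdef, iterateFrobenius_def, ← hf, hq]
  obtain ⟨hN1, ⟨t₁, ht₁⟩, hN0⟩ := mult_min r hr2 ι φ hφ θ hθ hφθ hnpos x xi Jm Ji hxi hJ h hx hx1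
    hfix
  -- the powers of the factors
  set Am : Matrix (Fin a) (Fin a) F := (A : Matrix (Fin a) (Fin a) F) with hAm
  set Bm : Matrix (Fin b) (Fin b) F := (B : Matrix (Fin b) (Fin b) F) with hBm
  have hK : (Am ⊗ₖ Bm) ^ r = 1 := by
    have h1 := hS.pow r
    rw [hx, ← one_smul F (1 : Matrix (Fin n) (Fin n) F)] at h1
    rw [h1.scalar, one_smul]
  rw [kron_pow] at hK
  obtain ⟨α, hα⟩ := kron_scalar_left (Am ^ r) (Bm ^ r) 1 one_ne_zero (by omega)
    (by rw [hK, one_smul])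
  have hα0 : α ≠ 0 := by
    rintro rfl
    rw [zero_smul] at hα
    have h1 : ((A ^ r : GL (Fin a) F) : Matrix (Fin a) (Fin a) F) = 0 := by
      rw [Units.val_pow_eq_pow_val]
      exact hα
    have h3 : IsUnit ((A ^ r : GL (Fin a) F) : Matrix (Fin a) (Fin a) F) := (A ^ r).isUnit
    rw [h1] at h3
    have : Nonempty (Fin a) := ⟨⟨0, by omega⟩⟩
    exact not_isUnit_zero h3
  have hβ : Bm ^ r = α⁻¹ • 1 := by
    have h1 : (1 : Matrix (Fin a) (Fin a) F) ⊗ₖ (α • Bm ^ r) = 1 := by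
      rw [Matrix.kronecker_smul, ← Matrix.smul_kronecker, ← hα, hK]
    have h2 := one_kron_eq_one (by omega) _ h1
    rw [← h2, smul_smul, inv_mul_cancel₀ hα0, one_smul]
  -- the scaling
  obtain ⟨ρ, hρ0, hρ, hinvA⟩ : ∃ ρ : E, ρ ≠ 0 ∧ ρ ^ r = ι α ∧
      ∀ t : ZMod r, PGLPrime.mult θ (ρ⁻¹ • Am.map ι) ((q : ZMod r) * t) =
        PGLPrime.mult θ (ρ⁻¹ • Am.map ι) t := by
    by_cases hi1 : orderOf (q : ZMod r) = 1
    · obtain ⟨ρ, hρ⟩ := IsAlgClosed.exists_pow_nat_eq (ι α) hr.pos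
      have hρ0 : ρ ≠ 0 := by
        rintro rfl
        rw [zero_pow hr.ne_zero] at hρ
        exact hα0 ((map_eq_zero ι).mp hρ.symm)
      refine ⟨ρ, hρ0, hρ, fun t => ?_⟩
      rw [orderOf_eq_one_iff.mp hi1, one_mul]
    · have hcop : Nat.Coprime (Fintype.card F - 1) r := by
        rw [hq]
        exact coprime_of_order_ne_one q r (by omega) hi1
      obtain ⟨c, hc0, hc⟩ := exists_root_of_coprime r hcop α hα0
      have hιc0 : ι c ≠ 0 := (map_ne_zero ι).mpr hc0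
      refine ⟨ι c, hιc0, by rw [← map_pow, hc], fun t => ?_⟩
      have h1 : (ι c)⁻¹ • Am.map ι = (c⁻¹ • Am).map ι := by
        ext i j
        simp [Matrix.map_apply]
      rw [h1]
      exact mult_frob ι φ hφ θ hθ1 q hφθ _ t
  set A₂ : Matrix (Fin a) (Fin a) E := ρ⁻¹ • Am.map ι with hA₂
  set B₂ : Matrix (Fin b) (Fin b) E := ρ • Bm.map ι with hB₂
  have hone : ∀ m : ℕ, (1 : Matrix (Fin m) (Fin m) F).map ι = 1 := fun m =>
    Matrix.map_one ι (map_zero ι) (map_one ι)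
  have hA₂r : A₂ ^ r = 1 := by
    rw [hA₂, _root_.smul_pow, ← Matrix.map_pow, hα, map_smul_one, smul_smul, inv_pow, hρ,
      inv_mul_cancel₀ ((map_ne_zero ι).mpr hα0), one_smul]
  have hB₂r : B₂ ^ r = 1 := by
    rw [hB₂, _root_.smul_pow, ← Matrix.map_pow, hβ, map_smul_one, smul_smul, hρ, map_inv₀,
      mul_inv_cancel₀ ((map_ne_zero ι).mpr hα0), one_smul]
  have hkr : A₂ ⊗ₖ B₂ = (Am ⊗ₖ Bm).map ι := by
    rw [hA₂, hB₂, Matrix.smul_kronecker, Matrix.kronecker_smul, smul_smul, mul_comm,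
      mul_inv_cancel₀ hρ0, one_smul, map_kron]
  -- the similarity over the extension field
  obtain ⟨Q, Qi, hQ1, hQ2, hQ3⟩ := hS
  have hmapmul : ∀ M M' : Matrix (Fin n) (Fin n) F, (M * M').map ι = M.map ι * M'.map ι :=
    fun M M' => Matrix.map_mul
  have hsim : x.map ι = Q.map ι * (A₂ ⊗ₖ B₂).submatrix e e * Qi.map ι := by
    rw [hQ3, hmapmul, hmapmul, hkr]
    rfl
  have hQQ : Q.map ι * Qi.map ι = 1 := by rw [← hmapmul, hQ1, hone]
  have hconv : ∀ t : ZMod r, PGLPrime.mult θ (x.map ι) t =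
      conv (PGLPrime.mult θ A₂) (PGLPrime.mult θ B₂) t := by
    intro t
    rw [mult_eq_of_sim θ _ _ _ _ hQQ hsim t, mult_kron θ hθ A₂ B₂ hA₂r hB₂r e t]
    rfl
  have hsA : ∑ s, PGLPrime.mult θ A₂ s = a :=
    PGLPrime.sum_mult θ hθ A₂ (by rw [hA₂r, one_smul])
  have hsB : ∑ s, PGLPrime.mult θ B₂ s = b :=
    PGLPrime.sum_mult θ hθ B₂ (by rw [hB₂r, one_smul])
  refine comb (q : ZMod r) (PGLPrime.mult θ A₂) (PGLPrime.mult θ B₂) a b hsA hsB ha2 hb3 haev
    hinvA ?_ t₁ ?_ ?_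
  · intro t ht
    rw [← hconv]
    exact hN1 t ht
  · rw [← hconv]
    exact ht₁
  · rw [← hconv, ← hn]
    exact hN0

end Cfsg.Agent.Lib.H11.SpTen
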