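import Mathlib
import Cfsg.Agent.Lib.H11.SpTen5
import Cfsg.Agent.Lib.H23.SpUI

/-!
# Tensor product subgroups `Sp_a ⊗ O_b` of `Sp_{2d}` (part 6): symplectic matrices of odd prime
order `r ≠ p` and minimal support have no conjugate in a tensor product subgroup
-/

set_option autoImplicit false
set_option linter.unusedSectionVars false
set_option linter.unusedVariables false

namespace Cfsg.Agent.Lib.H11.SpTen

open Matrix Module Kronecker Polynomial Cfsg.Agent.Lib.H13 Cfsg.Agent.Lib.H11.SubfR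
  Cfsg.Agent.Lib.H11.TensR Cfsg.Agent.Lib.H11.OrtR Cfsg.Agent.Lib.H11.InvCls
  Cfsg.Agent.Lib.H24.Elus

variable {F : Type*} [Field F]

section reindex

variable {κ : Type*} [Fintype κ] [DecidableEq κ] {n : ℕ}

theorem submatrix_pow_equiv (M : Matrix κ κ F) (σ : Fin n ≃ κ) (k : ℕ) :
    (M ^ k).submatrix σ σ = (M.submatrix σ σ) ^ k := by
  induction k with
  | zero => rw [pow_zero, pow_zero, Matrix.submatrix_one_equiv]
  | succ k ih => rw [pow_succ, pow_succ, ← Matrix.submatrix_mul_equiv _ _ σ σ σ, ih]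

theorem submatrix_sub_one (M : Matrix κ κ F) (σ : Fin n ≃ κ) (μ : F) :
    (M - μ • 1).submatrix σ σ = M.submatrix σ σ - μ • 1 := by
  ext i j
  simp [Matrix.one_apply]

theorem submatrix_injective (σ : Fin n ≃ κ) {M M' : Matrix κ κ F}
    (h : M.submatrix σ σ = M'.submatrix σ σ) : M = M' := by
  ext i j
  have := congrFun (congrFun h (σ.symm i)) (σ.symm j)
  simpa using this

theorem finrank_ker_submatrix (M : Matrix κ κ F) (σ : Fin n ≃ κ) :
    finrank F (LinearMap.ker (Matrix.toLin' (M.submatrix σ σ))) =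
      finrank F (LinearMap.ker (Matrix.toLin' M)) := by
  have h1 := finrank_ker_add_rank (M.submatrix σ σ)
  have h2 := finrank_ker_add_rank M
  rw [Matrix.rank_submatrix] at h1
  rw [Fintype.card_congr σ] at h1
  omega

end reindex

/-- the standard identification of the index types -/
def sg (d : ℕ) : Fin (d + d) ≃ Fin d ⊕ Fin d := finSumFinEquiv.symm

/-- symplectic matrices of odd prime order `r ≠ p` and minimal support have no conjugate in a
tensor product subgroup -/
theorem no_conj_min [Fintype F] {p : ℕ} [Fact p.Prime] [CharP F p] {q : ℕ}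
    (hq : Fintype.card F = q) (r : ℕ) [Fact r.Prime] (hrp : r ≠ p) (hr2 : r ≠ 2)
    {d a b : ℕ} (hab : 2 * d = a * b) (ha2 : 2 ≤ a) (hb3 : 3 ≤ b) (haev : Even a)
    (e : (Fin d ⊕ Fin d) ≃ Fin a × Fin b) (P : GL (Fin d ⊕ Fin d) F)
    (x : GL (Fin d ⊕ Fin d) F)
    (hsp : (x : Matrix (Fin d ⊕ Fin d) (Fin d ⊕ Fin d) F) ∈ Matrix.symplecticGroup (Fin d) F)
    (hx : (x : Matrix (Fin d ⊕ Fin d) (Fin d ⊕ Fin d) F) ^ r = 1)
    (hx1 : (x : Matrix (Fin d ⊕ Fin d) (Fin d ⊕ Fin d) F) ≠ 1)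
    (hfix : finrank F (LinearMap.ker (Matrix.toLin'
        ((x : Matrix (Fin d ⊕ Fin d) (Fin d ⊕ Fin d) F) - 1))) +
      (if Even (orderOf (q : ZMod r)) then orderOf (q : ZMod r) else 2 * orderOf (q : ZMod r)) =
        2 * d)
    (g : GL (Fin d ⊕ Fin d) F) :
    g⁻¹ * x * g ∉ Cfsg.Geo.tensorProductSubgroup a b e P := by
  intro hg
  obtain ⟨A, B, hS⟩ := sim_of_conj_mem' e P (sg d) x g hg
  set X : Matrix (Fin d ⊕ Fin d) (Fin d ⊕ Fin d) F := (x : Matrix (Fin d ⊕ Fin d) (Fin d ⊕ Fin d) F) with hX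
  have h1 : X.submatrix (sg d) (sg d) *
      (((x⁻¹ : GL (Fin d ⊕ Fin d) F) : Matrix (Fin d ⊕ Fin d) (Fin d ⊕ Fin d) F)).submatrix (sg d) (sg d) = 1 := by
    rw [Matrix.submatrix_mul_equiv, hX, ← Units.val_mul, mul_inv_cancel, Units.val_one,
      Matrix.submatrix_one_equiv]
  have h2 : (Matrix.J (Fin d) F).submatrix (sg d) (sg d) *
      (-(Matrix.J (Fin d) F)).submatrix (sg d) (sg d) = 1 := by
    rw [Matrix.submatrix_mul_equiv, Matrix.mul_neg, Matrix.J_squared, neg_neg,
      Matrix.submatrix_one_equiv]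
  have h3 : (X.submatrix (sg d) (sg d))ᵀ * (Matrix.J (Fin d) F).submatrix (sg d) (sg d) *
      X.submatrix (sg d) (sg d) = (Matrix.J (Fin d) F).submatrix (sg d) (sg d) := by
    rw [Matrix.transpose_submatrix, Matrix.submatrix_mul_equiv, Matrix.submatrix_mul_equiv,
      SymplecticGroup.mem_iff'.mp hsp]
  have h4 : (X.submatrix (sg d) (sg d)) ^ r = 1 := by
    rw [← submatrix_pow_equiv, hx, Matrix.submatrix_one_equiv]
  have h5 : X.submatrix (sg d) (sg d) ≠ 1 := by
    intro h
    apply hx1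
    apply submatrix_injective (sg d)
    rw [h, Matrix.submatrix_one_equiv]
  have h6 : finrank F (LinearMap.ker (Matrix.toLin' (X.submatrix (sg d) (sg d) - 1))) +
      (if Even (orderOf (q : ZMod r)) then orderOf (q : ZMod r) else 2 * orderOf (q : ZMod r)) =
        d + d := by
    have := submatrix_sub_one X (sg d) 1
    rw [one_smul, one_smul] at this
    rw [← this, finrank_ker_submatrix, hfix, two_mul]
  exact no_sim_min hq r hrp hr2 (by omega : d + d = a * b) ha2 hb3 haev ((sg d).trans e) _ _ _ _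
    h1 h2 h3 h4 h5 h6 A B hS

end Cfsg.Agent.Lib.H11.SpTen
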