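import Mathlib
import Cfsg.Agent.Lib.H11.SpTen6
import Cfsg.Agent.Lib.H11.Jordan8
import Cfsg.Agent.Lib.H23.SpUK

/-!
# Tensor product subgroups `Sp_a ⊗ O_b` of `Sp_{2d}` (part 7): symplectic matrices of odd prime
order `r ≠ p` and minimal support
-/

set_option autoImplicit false
set_option linter.unusedSectionVars false
set_option linter.unusedVariables false

namespace Cfsg.Agent.Lib.H11.SpTen

open Matrix Module Polynomial Cfsg.Agent.Lib.H13 Cfsg.Agent.Lib.H11.TensR
  Cfsg.Agent.Lib.H24.Elus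

variable {F : Type*} [Field F]

theorem aeval_X_sub_one {κ : Type*} [Fintype κ] [DecidableEq κ] (M : Matrix κ κ F) :
    aeval (Matrix.toLin' M) (X - 1 : F[X]) = Matrix.toLin' (M - 1) := by
  rw [map_sub, aeval_X, map_one, map_sub, Matrix.toLin'_one]
  rfl

section block

variable {d : ℕ}

theorem fromBlocks_diag_pow (A D : Matrix (Fin d) (Fin d) F) (k : ℕ) :
    (Matrix.fromBlocks A 0 0 D) ^ k = Matrix.fromBlocks (A ^ k) 0 0 (D ^ k) := by
  induction k with
  | zero => rw [pow_zero, pow_zero, pow_zero, Matrix.fromBlocks_one]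
  | succ k ih =>
    rw [pow_succ, ih, Matrix.fromBlocks_multiply, pow_succ, pow_succ]
    simp

/-- the block diagonal symplectic matrix `diag(M, M⁻ᵀ)` -/
theorem block_mem (M Mi : Matrix (Fin d) (Fin d) F) (h : M * Mi = 1) :
    Matrix.fromBlocks M 0 0 Miᵀ ∈ Matrix.symplecticGroup (Fin d) F := by
  have h' : Mi * M = 1 := mul_eq_one_comm.mp h
  rw [SymplecticGroup.mem_iff, Matrix.J, Matrix.fromBlocks_multiply, Matrix.fromBlocks_transpose,
    Matrix.fromBlocks_multiply]
  simp only [Matrix.mul_zero, Matrix.zero_mul, add_zero, zero_add, Matrix.mul_one,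
    Matrix.transpose_zero, Matrix.transpose_transpose, Matrix.mul_neg, Matrix.neg_mul, h,
    neg_zero]
  rw [← Matrix.transpose_mul, h, Matrix.transpose_one]

theorem rank_neg' (A : Matrix (Fin d) (Fin d) F) : (-A).rank = A.rank := by
  have h : (-A) = A * (-(1 : Matrix (Fin d) (Fin d) F)) := by rw [Matrix.mul_neg, Matrix.mul_one]
  rw [h, Matrix.rank_mul_eq_left_of_isUnit_det]
  rw [Matrix.det_neg, Matrix.det_one, mul_one]
  exact (isUnit_one.neg).pow _

theorem rank_inv_transpose_sub_one (M Mi : Matrix (Fin d) (Fin d) F) (h : M * Mi = 1) :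
    (Miᵀ - 1).rank = (M - 1).rank := by
  have h' : Mi * M = 1 := mul_eq_one_comm.mp h
  have hdet : IsUnit Mi.det := by
    have := congrArg Matrix.det h'
    rw [Matrix.det_mul, Matrix.det_one] at this
    exact IsUnit.of_mul_eq_one _ this
  have h1 : Miᵀ - 1 = (Mi - 1)ᵀ := by
    rw [Matrix.transpose_sub, Matrix.transpose_one]
  have h2 : Mi - 1 = -(Mi * (M - 1)) := by
    rw [Matrix.mul_sub, h', Matrix.mul_one]
    abel
  rw [h1, Matrix.rank_transpose, h2, rank_neg',
    Matrix.rank_mul_eq_right_of_isUnit_det _ _ hdet]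

end block

section odd

variable [Fintype F] [DecidableEq F] {p q : ℕ} [Fact p.Prime] [CharP F p]

/-- an element of `Sp_{2d}(q)` of order `r` with fixed space of codimension `2 i`, `i = ord_r q`
odd -/
theorem exists_min_odd (hq : Fintype.card F = q) (r : ℕ) [Fact r.Prime] (hrp : r ≠ p)
    (hr2 : r ≠ 2) (d : ℕ) (hid : orderOf (q : ZMod r) ≤ d) :
    ∃ X : Matrix (Fin d ⊕ Fin d) (Fin d ⊕ Fin d) F, X ∈ Matrix.symplecticGroup (Fin d) F ∧
      X ^ r = 1 ∧ X ≠ 1 ∧
      finrank F (LinearMap.ker (Matrix.toLin' (X - 1))) + 2 * orderOf (q : ZMod r) = 2 * d := by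
  classical
  have hr : r.Prime := Fact.out
  set i := orderOf (q : ZMod r) with hi
  have hipos : 0 < i := CycFactor.orderOf_pos hq hr hrp
  obtain ⟨s₀⟩ := Cfsg.Agent.Lib.H23.SpU.nonempty_S (F := F) hq r hrp hr2
  have hirr := CycFactor.irreducible_fJ (F := F) (r := r)
  have hcopf := CycFactor.coprime_fJ (F := F) hr hrp
  have hprod := CycFactor.prod_fJ (F := F) hr hrp
  obtain ⟨Mg, hMr, hmu⟩ := GLPrime.exists_of_mu (n := d) (CycFactor.fJ (F := F) r) hirr hcopf hprod
    hr.pos (fun j => j.elim (d - i) (fun s => if s = s₀ then 1 else 0)) (by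
      rw [Fintype.sum_option]
      simp only [Option.elim_none, Option.elim_some]
      rw [CycFactor.natDegree_fJ_none, mul_one]
      have : ∑ s : CycFactor.S r F, (if s = s₀ then 1 else 0) *
          (CycFactor.fJ (F := F) r (some s)).natDegree = i := by
        rw [Finset.sum_eq_single s₀]
        · rw [if_pos rfl, one_mul, CycFactor.natDegree_fJ_some hq hr hrp]
        · intro s _ hs
          rw [if_neg hs, zero_mul]
        · intro h
          exact absurd (Finset.mem_univ _) h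
      rw [this]
      omega)
  set M : Matrix (Fin d) (Fin d) F := (Mg : Matrix (Fin d) (Fin d) F) with hM
  set Mi : Matrix (Fin d) (Fin d) F := ((Mg⁻¹ : GL (Fin d) F) : Matrix (Fin d) (Fin d) F) with hMi
  have hMMi : M * Mi = 1 := by rw [hM, hMi, ← Units.val_mul, mul_inv_cancel, Units.val_one]
  have hMiM : Mi * M = 1 := mul_eq_one_comm.mp hMMi
  -- the fixed space of `M`
  have hfixM : finrank F (LinearMap.ker (Matrix.toLin' (M - 1))) = d - i := by
    have h1 := hmu none
    simp only [Option.elim_none] at h1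
    rw [CycFactor.natDegree_fJ_none, mul_one] at h1
    rw [← aeval_X_sub_one]
    exact h1
  have hrankM : (M - 1).rank = i := by
    have := finrank_ker_add_rank (M - 1)
    rw [Fintype.card_fin, hfixM] at this
    omega
  have hMir : Mi ^ r = 1 := by
    have hc : Commute Mi M := by
      show Mi * M = M * Mi
      rw [hMiM, hMMi]
    have h1 : Mi ^ r * M ^ r = 1 := by
      rw [← hc.mul_pow, hMiM, one_pow]
    rwa [hMr, Matrix.mul_one] at h1
  refine ⟨Matrix.fromBlocks M 0 0 Miᵀ, block_mem M Mi hMMi, ?_, ?_, ?_⟩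
  · rw [fromBlocks_diag_pow, hMr, ← Matrix.transpose_pow, hMir, Matrix.transpose_one,
      Matrix.fromBlocks_one]
  · intro h
    rw [← Matrix.fromBlocks_one, Matrix.fromBlocks_inj] at h
    rw [h.1, sub_self, Matrix.rank_zero] at hrankM
    omega
  · have h1 : Matrix.fromBlocks M 0 0 Miᵀ - 1 = Matrix.fromBlocks (M - 1) 0 0 (Miᵀ - 1) := by
      ext (i | i) (j | j) <;> simp [Matrix.one_apply]
    have h2 := finrank_ker_add_rank (Matrix.fromBlocks M 0 0 Miᵀ - 1)
    rw [h1, Cfsg.Agent.Lib.H11.Jordan.rank_fromBlocks_diag, rank_inv_transpose_sub_one M Mi hMMi,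
      hrankM, Fintype.card_sum, Fintype.card_fin] at h2
    rw [h1]
    omega

/-- an element of `Sp_{2d}(q)` of order `r` with fixed space of codimension `i = ord_r q`
even -/
theorem exists_min_even (hq : Fintype.card F = q) (r : ℕ) [Fact r.Prime] (hrp : r ≠ p)
    (hr2 : r ≠ 2) (d c' : ℕ) (hc : 2 * c' = orderOf (q : ZMod r)) (hcd : c' ≤ d) :
    ∃ X : Matrix (Fin d ⊕ Fin d) (Fin d ⊕ Fin d) F, X ∈ Matrix.symplecticGroup (Fin d) F ∧
      X ^ r = 1 ∧ X ≠ 1 ∧
      finrank F (LinearMap.ker (Matrix.toLin' (X - 1))) + orderOf (q : ZMod r) = 2 * d := by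
  classical
  have hr : r.Prime := Fact.out
  have hipos : 0 < orderOf (q : ZMod r) := CycFactor.orderOf_pos hq hr hrp
  obtain ⟨s₀⟩ := Cfsg.Agent.Lib.H23.SpU.nonempty_S (F := F) hq r hrp hr2
  obtain ⟨Xm, hXr, hXk, hXfix⟩ := exists_sp_types hq r hrp hr2 c' hc (d - c') {s₀} d
    (by rw [Finset.card_singleton]; omega)
  have hXk0 := hXk s₀
  rw [if_pos (Finset.mem_singleton_self s₀)] at hXk0
  refine ⟨Xm, Xm.2, hXr, ?_, ?_⟩
  · intro h
    rw [h] at hXk0
    have h1 : Matrix.toLin' (1 : Matrix (Fin d ⊕ Fin d) (Fin d ⊕ Fin d) F) = 1 := by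
      rw [Matrix.toLin'_one]
      rfl
    rw [h1, Cfsg.Agent.Lib.H23.SpU.ker_aeval_one_eq_bot r hrp s₀, finrank_bot] at hXk0
    omega
  · rw [aeval_X_sub_one] at hXfix
    rw [hXfix]
    omega

end odd

end Cfsg.Agent.Lib.H11.SpTen
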