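import Mathlib
import Cfsg.Agent.Lib.H11.SpTen7
import Cfsg.Agent.Lib.H13.SpQuadIndex

/-!
# Tensor product subgroups `Sp_a ⊗ O_b` of `Sp_{2d}` (part 8): the semisimple derangements of odd
prime order `r ≠ p`
-/

set_option autoImplicit false
set_option linter.unusedSectionVars false
set_option linter.unusedVariables false

namespace Cfsg.Agent.Lib.H11.SpTen

open Matrix Module Polynomial Cfsg.Agent.Lib.H13 Cfsg.Agent.Lib.H11.TensR
  Cfsg.Agent.Lib.H24.Elus Cfsg.Agent.Lib.H23.SpU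

variable {F : Type*} [Field F] [Fintype F] {p q : ℕ} [Fact p.Prime] [CharP F p]

/-- a prime `r ≠ p` dividing `|Sp_{2d}(q)|` divides some `q ^ (2 j) - 1` with `1 ≤ j ≤ d` -/
theorem exists_dvd_of_dvd_card_sp (hq : Fintype.card F = q) (r : ℕ) [Fact r.Prime] (hrp : r ≠ p)
    (d : ℕ) (h : r ∣ Nat.card ↥(Cfsg.spGL d F)) :
    ∃ j, 1 ≤ j ∧ j ≤ d ∧ r ∣ q ^ (2 * j) - 1 := by
  have hr : r.Prime := Fact.out
  rw [Cfsg.Agent.Lib.H13.SpQuadIndex.card_spGL, hq] at h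
  have hrq : ¬ r ∣ q := by
    obtain ⟨f, -, hf⟩ := FiniteField.card F p
    rw [← hq, hf]
    intro h1
    exact hrp ((Nat.prime_dvd_prime_iff_eq hr Fact.out).mp (hr.dvd_of_dvd_pow h1))
  rcases (Nat.Prime.dvd_mul hr).mp h with h1 | h1
  · exact absurd (hr.dvd_of_dvd_pow h1) hrq
  · rw [Prime.dvd_finsetProd_iff hr.prime] at h1
    obtain ⟨j, hj, hdvd⟩ := h1
    rw [Finset.mem_range] at hj
    exact ⟨j + 1, by omega, by omega, hdvd⟩

/-- the bounds on the order of `q` modulo `r` -/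
theorem order_bounds (hq : Fintype.card F = q) (r : ℕ) [Fact r.Prime] (hrp : r ≠ p)
    (d : ℕ) (h : r ∣ Nat.card ↥(Cfsg.spGL d F)) :
    (Odd (orderOf (q : ZMod r)) → orderOf (q : ZMod r) ≤ d) ∧
      ∀ c', 2 * c' = orderOf (q : ZMod r) → c' ≤ d := by
  obtain ⟨j, hj1, hjd, hdvd⟩ := exists_dvd_of_dvd_card_sp hq r hrp d h
  have h1 := (order_dvd_of_dvd_pow_sub_one (F := F) hq r (2 * j) (by omega) hdvd).2
  constructor
  · intro hodd
    have hcop : Nat.Coprime (orderOf (q : ZMod r)) 2 := hodd.coprime_two_right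
    have h2 : orderOf (q : ZMod r) ∣ j := hcop.dvd_of_dvd_mul_left h1
    exact (Nat.le_of_dvd (by omega) h2).trans hjd
  · intro c' hc
    rw [← hc] at h1
    have h2 : c' ∣ j := Nat.dvd_of_mul_dvd_mul_left (by norm_num) h1
    exact (Nat.le_of_dvd (by omega) h2).trans hjd

/-- the semisimple derangements -/
theorem der_semisimple (hq : Fintype.card F = q) (r : ℕ) [Fact r.Prime] (hrp : r ≠ p)
    (hr2 : r ≠ 2) {d a b : ℕ} (hd : 1 ≤ d) (hab : 2 * d = a * b) (ha2 : 2 ≤ a) (hb3 : 3 ≤ b)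
    (haev : Even a) (e : (Fin d ⊕ Fin d) ≃ Fin a × Fin b) (P : GL (Fin d ⊕ Fin d) F)
    (hΩ : r ∣ (Cfsg.Geo.tensorProductSubgroup a b e P).relIndex (Cfsg.spGL d F)) :
    ∃ x ∈ Cfsg.spGL d F, x ^ r = 1 ∧
      (∀ z : F, (x : Matrix (Fin d ⊕ Fin d) (Fin d ⊕ Fin d) F) ≠ z • 1) ∧
      ∀ g : GL (Fin d ⊕ Fin d) F, g⁻¹ * x * g ∉ Cfsg.Geo.tensorProductSubgroup a b e P := by
  classical
  have hr : r.Prime := Fact.out
  have hcard : r ∣ Nat.card ↥(Cfsg.spGL d F) := hΩ.trans (Subgroup.relIndex_dvd_card _ _)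
  obtain ⟨hbo, hbe⟩ := order_bounds hq r hrp d hcard
  -- the element
  obtain ⟨X, hXsp, hXr, hX1, hXfix⟩ : ∃ X : Matrix (Fin d ⊕ Fin d) (Fin d ⊕ Fin d) F,
      X ∈ Matrix.symplecticGroup (Fin d) F ∧ X ^ r = 1 ∧ X ≠ 1 ∧
      finrank F (LinearMap.ker (Matrix.toLin' (X - 1))) +
        (if Even (orderOf (q : ZMod r)) then orderOf (q : ZMod r)
          else 2 * orderOf (q : ZMod r)) = 2 * d := by
    by_cases hev : Even (orderOf (q : ZMod r))
    · obtain ⟨c', hc'⟩ := hev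
      have hc : 2 * c' = orderOf (q : ZMod r) := by omega
      obtain ⟨X, h1, h2, h3, h4⟩ := exists_min_even hq r hrp hr2 d c' hc (hbe c' hc)
      exact ⟨X, h1, h2, h3, by rw [if_pos ⟨c', hc'⟩]; exact h4⟩
    · have hodd : Odd (orderOf (q : ZMod r)) := Nat.not_even_iff_odd.mp hev
      obtain ⟨X, h1, h2, h3, h4⟩ := exists_min_odd hq r hrp hr2 d (hbo hodd)
      exact ⟨X, h1, h2, h3, by rw [if_neg hev]; exact h4⟩
  set x : GL (Fin d ⊕ Fin d) F := glOfPow' X r hr.pos hXr with hx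
  have hxv : (x : Matrix (Fin d ⊕ Fin d) (Fin d ⊕ Fin d) F) = X := rfl
  have hnc : ∀ g : GL (Fin d ⊕ Fin d) F,
      g⁻¹ * x * g ∉ Cfsg.Geo.tensorProductSubgroup a b e P := by
    intro g
    exact no_conj_min hq r hrp hr2 hab ha2 hb3 haev e P x (by rw [hxv]; exact hXsp)
      (by rw [hxv]; exact hXr) (by rw [hxv]; exact hX1) (by rw [hxv]; exact hXfix) g
  refine ⟨x, glOfPow'_mem ⟨X, hXsp⟩ r hr.pos hXr, glOfPow'_pow X r hr.pos hXr, ?_, hnc⟩
  intro z hz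
  have hz0 : z ≠ 0 := by
    rintro rfl
    rw [hxv, zero_smul] at hz
    rw [hz, zero_pow hr.ne_zero] at hXr
    have := congrFun (congrFun hXr (Sum.inl ⟨0, hd⟩)) (Sum.inl ⟨0, hd⟩)
    simp at this
  apply hnc 1
  rw [inv_one, one_mul, mul_one]
  exact scalar_mem e P (by omega) (by omega) z hz0 x hz

end Cfsg.Agent.Lib.H11.SpTen
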