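import Mathlib
import Cfsg.Agent.Lib.H11.SpTen7
import Cfsg.Agent.Lib.H23.SpUG

/-!
# Tensor product subgroups `Sp_a ⊗ O_b` of `Sp_{2d}` (part 9): the derangements of small rank
(transvections and involutions with a two-dimensional negative space)
-/

set_option autoImplicit false
set_option linter.unusedSectionVars false
set_option linter.unusedVariables false

namespace Cfsg.Agent.Lib.H11.SpTen

open Matrix Module Polynomial Cfsg.Agent.Lib.H13 Cfsg.Agent.Lib.H11.TensR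
  Cfsg.Agent.Lib.H24.Elus Cfsg.Agent.Lib.H23.SpU

variable {F : Type*} [Field F]

/-- an element `x ≠ 1` with `rank (x - 1) < min(a, b)` has no conjugate in a tensor product
subgroup -/
theorem not_conj_of_rank {d a b : ℕ} (hab : 2 * d = a * b)
    (e : (Fin d ⊕ Fin d) ≃ Fin a × Fin b) (P : GL (Fin d ⊕ Fin d) F)
    (x : GL (Fin d ⊕ Fin d) F)
    (hx1 : (x : Matrix (Fin d ⊕ Fin d) (Fin d ⊕ Fin d) F) ≠ 1)
    (hra : ((x : Matrix (Fin d ⊕ Fin d) (Fin d ⊕ Fin d) F) - 1).rank < a)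
    (hrb : ((x : Matrix (Fin d ⊕ Fin d) (Fin d ⊕ Fin d) F) - 1).rank < b)
    (g : GL (Fin d ⊕ Fin d) F) :
    g⁻¹ * x * g ∉ Cfsg.Geo.tensorProductSubgroup a b e P := by
  intro hg
  obtain ⟨A, B, hS⟩ := sim_of_conj_mem' e P (sg d) x g hg
  have h1 := submatrix_sub_one (x : Matrix (Fin d ⊕ Fin d) (Fin d ⊕ Fin d) F) (sg d) 1
  have hr : ((x : Matrix (Fin d ⊕ Fin d) (Fin d ⊕ Fin d) F).submatrix (sg d) (sg d) -
      (1 : F) • 1).rank = ((x : Matrix (Fin d ⊕ Fin d) (Fin d ⊕ Fin d) F) - 1).rank := by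
    rw [← h1, Matrix.rank_submatrix, one_smul]
  have h2 := Sim.scalar_of_rank_lt_both (by omega : d + d = a * b) _ _ hS 1 one_ne_zero
    (by rw [hr]; exact hra) (by rw [hr]; exact hrb)
  apply hx1
  apply submatrix_injective (sg d)
  rw [h2, one_smul, Matrix.submatrix_one_equiv]

/-- transvections are derangements -/
theorem der_transvection {d a b : ℕ} (hd : 1 ≤ d) (hab : 2 * d = a * b) (ha2 : 2 ≤ a)
    (hb2 : 2 ≤ b) (e : (Fin d ⊕ Fin d) ≃ Fin a × Fin b) (P : GL (Fin d ⊕ Fin d) F)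
    (p : ℕ) [CharP F p] :
    ∃ x ∈ Cfsg.spGL d F, ((x ^ p : GL (Fin d ⊕ Fin d) F) :
        Matrix (Fin d ⊕ Fin d) (Fin d ⊕ Fin d) F) = 1 ∧
      (∀ z : F, (x : Matrix (Fin d ⊕ Fin d) (Fin d ⊕ Fin d) F) ≠ z • 1) ∧
      ∀ g : GL (Fin d ⊕ Fin d) F, g⁻¹ * x * g ∉ Cfsg.Geo.tensorProductSubgroup a b e P := by
  set v : Fin d ⊕ Fin d → F := Pi.single (Sum.inl ⟨0, hd⟩) 1 with hv
  have hv0 : v ≠ 0 := by
    intro h0
    have := congrFun h0 (Sum.inl ⟨0, hd⟩)
    simp [hv] at this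
  refine ⟨tvGL v, tvGL_mem v, tvGL_pow v p, tvGL_not_scalar v hv0, fun g => ?_⟩
  have hrank : ((tvGL v : GL (Fin d ⊕ Fin d) F) : Matrix (Fin d ⊕ Fin d) (Fin d ⊕ Fin d) F) - 1
      = Matrix.vecMulVec v (Matrix.J (Fin d) F *ᵥ v) := by
    rw [tvGL_val, Cfsg.sympTransvection, one_smul, add_sub_cancel_left]
  have hle := Matrix.rank_vecMulVec_le v (Matrix.J (Fin d) F *ᵥ v)
  refine not_conj_of_rank hab e P (tvGL v) ?_ (by rw [hrank]; omega) (by rw [hrank]; omega) g
  intro h1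
  exact tvGL_not_scalar v hv0 1 (by rw [h1, one_smul])

/-- the involution with a two-dimensional negative space -/
theorem der_involution {d a b : ℕ} (h2 : (2 : F) ≠ 0) (hd : 2 ≤ d) (hab : 2 * d = a * b)
    (ha3 : 3 ≤ a) (hb3 : 3 ≤ b) (e : (Fin d ⊕ Fin d) ≃ Fin a × Fin b)
    (P : GL (Fin d ⊕ Fin d) F) :
    ∃ x ∈ Cfsg.spGL d F, x ^ 2 = 1 ∧
      (∀ z : F, (x : Matrix (Fin d ⊕ Fin d) (Fin d ⊕ Fin d) F) ≠ z • 1) ∧
      ∀ g : GL (Fin d ⊕ Fin d) F, g⁻¹ * x * g ∉ Cfsg.Geo.tensorProductSubgroup a b e P := by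
  classical
  set i0 : Fin d := ⟨0, by omega⟩ with hi0
  set i1 : Fin d := ⟨1, by omega⟩ with hi1
  have h01 : i1 ≠ i0 := by
    intro h
    have := congrArg Fin.val h
    simp [hi0, hi1] at this
  set w : Fin d → F := fun j => if j = i0 then -1 else 1 with hw
  set D : Matrix (Fin d) (Fin d) F := Matrix.diagonal w with hD
  have hDD : D * D = 1 := by
    rw [hD, Matrix.diagonal_mul_diagonal, ← Matrix.diagonal_one]
    congr 1
    funext j
    simp only [hw]
    split_ifs <;> simp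
  have hDt : Dᵀ = D := by rw [hD, Matrix.diagonal_transpose]
  set X : Matrix (Fin d ⊕ Fin d) (Fin d ⊕ Fin d) F := Matrix.fromBlocks D 0 0 D with hX
  have hXsp : X ∈ Matrix.symplecticGroup (Fin d) F := by
    have := block_mem D D hDD
    rwa [hDt] at this
  have hX2 : X ^ 2 = 1 := by
    rw [hX, fromBlocks_diag_pow, pow_two, hDD, Matrix.fromBlocks_one]
  have hrankD : (D - 1).rank = 1 := by
    have h1 : D - 1 = Matrix.diagonal (fun j => w j - 1) := by
      rw [hD, ← Matrix.diagonal_one, Matrix.diagonal_sub]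
    rw [h1, Matrix.rank_diagonal, Fintype.card_subtype]
    have h3 : (Finset.univ.filter (fun j : Fin d => w j - 1 ≠ 0)) = {i0} := by
      ext j
      rw [Finset.mem_filter, Finset.mem_singleton]
      constructor
      · rintro ⟨-, hj⟩
        by_contra hne
        apply hj
        simp only [hw]
        rw [if_neg hne, sub_self]
      · rintro rfl
        refine ⟨Finset.mem_univ _, ?_⟩
        simp only [hw]
        rw [if_pos trivial]
        intro h
        apply h2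
        linear_combination -h
    rw [h3, Finset.card_singleton]
  have hrankX : (X - 1).rank = 2 := by
    have h1 : X - 1 = Matrix.fromBlocks (D - 1) 0 0 (D - 1) := by
      rw [hX]
      ext (i | i) (j | j) <;> simp [Matrix.one_apply]
    rw [h1, Cfsg.Agent.Lib.H11.Jordan.rank_fromBlocks_diag, hrankD]
  set x : GL (Fin d ⊕ Fin d) F := glOfPow' X 2 (by norm_num) hX2 with hx
  have hxv : (x : Matrix (Fin d ⊕ Fin d) (Fin d ⊕ Fin d) F) = X := rfl
  have hns : ∀ z : F, X ≠ z • 1 := by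
    intro z hz
    have e0 := congrFun (congrFun hz (Sum.inl i0)) (Sum.inl i0)
    have e1 := congrFun (congrFun hz (Sum.inl i1)) (Sum.inl i1)
    rw [hX] at e0 e1
    simp only [Matrix.fromBlocks_apply₁₁, hD, Matrix.diagonal_apply_eq, hw, Matrix.smul_apply,
      Matrix.one_apply_eq, smul_eq_mul, mul_one] at e0 e1
    rw [if_pos trivial] at e0
    rw [if_neg h01] at e1
    apply h2
    rw [← e0] at e1
    linear_combination e1
  refine ⟨x, glOfPow'_mem ⟨X, hXsp⟩ 2 (by norm_num) hX2, glOfPow'_pow X 2 (by norm_num) hX2, ?_,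
    fun g => ?_⟩
  · intro z
    rw [hxv]
    exact hns z
  · refine not_conj_of_rank hab e P x ?_ (by rw [hxv, hrankX]; omega) (by rw [hxv, hrankX]; omega)
      g
    rw [hxv]
    intro h1
    exact hns 1 (by rw [h1, one_smul])

end Cfsg.Agent.Lib.H11.SpTen
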