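import Cfsg.Agent.Lib.H11.SuPair7
import Cfsg.Agent.Lib.H13.AutPSU4

/-!
# Pairs of complementary totally isotropic subspaces of a unitary space (part 1): adapted frames

A frame is a matrix `P` whose columns are dual bases of the two subspaces, so that
`P* P = [[0, 1], [1, 0]]`.
-/

set_option autoImplicit false
set_option linter.unusedSectionVars false
set_option linter.unusedVariables false

namespace Cfsg.Agent.Lib.H11.SuDec

open Matrix Module
open Cfsg.Agent.S0837 (Bs Bs_apply Bs_symm Bs_nondeg)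
open Cfsg.Agent.Lib.H13.AutPSU
open Cfsg.Agent.Lib.H11.SuPair (HPair)

variable {F : Type*} [Field F] {n q k : ℕ} (D : UF F q)

/-- the ring homomorphism of the involution -/
abbrev phi (D : UF F q) : F →+* F := (D.τ : F →+* F)

theorem phi_pow (x : F) : phi D x = x ^ q := D.hτ x

theorem phi_phi (x : F) : phi D (phi D x) = x := D.hτ2 x

theorem Bs_eq_H (u v : Fin n → F) : Bs (phi D) n u v = H D v u := by
  rw [Bs_apply]
  rfl

/-- the Gram matrix of a hyperbolic frame -/
def Jm (F : Type*) [Field F] (k : ℕ) : Matrix (Fin k ⊕ Fin k) (Fin k ⊕ Fin k) F :=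
  Matrix.fromBlocks 0 1 1 0

theorem Jm_mul_Jm : Jm F k * Jm F k = 1 := by
  unfold Jm
  rw [Matrix.fromBlocks_multiply, ← Matrix.fromBlocks_one]
  simp

theorem ct_Jm : ct D (Jm F k) = Jm F k := by
  ext (i | i) (j | j) <;> simp [ct_apply, Jm, Matrix.one_apply, eq_comm]

/-- an adapted frame -/
structure Frame (D : UF F q) (n k : ℕ) where
  P : Matrix (Fin n) (Fin k ⊕ Fin k) F
  Q : Matrix (Fin k ⊕ Fin k) (Fin n) F
  hPQ : P * Q = 1
  hQP : Q * P = 1
  hJ : ct D P * P = Jm F k

variable {D}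

/-- the first subspace of a frame -/
def Frame.U₁ (b : Frame D n k) : Submodule F (Fin n → F) where
  carrier := {x | ∀ j, (b.Q *ᵥ x) (Sum.inr j) = 0}
  add_mem' := by
    intro x y hx hy j
    rw [Matrix.mulVec_add, Pi.add_apply, hx j, hy j, add_zero]
  zero_mem' := by
    intro j
    rw [Matrix.mulVec_zero]
    rfl
  smul_mem' := by
    intro c x hx j
    rw [Matrix.mulVec_smul, Pi.smul_apply, hx j, smul_zero]

/-- the second subspace of a frame -/
def Frame.U₂ (b : Frame D n k) : Submodule F (Fin n → F) where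
  carrier := {x | ∀ j, (b.Q *ᵥ x) (Sum.inl j) = 0}
  add_mem' := by
    intro x y hx hy j
    rw [Matrix.mulVec_add, Pi.add_apply, hx j, hy j, add_zero]
  zero_mem' := by
    intro j
    rw [Matrix.mulVec_zero]
    rfl
  smul_mem' := by
    intro c x hx j
    rw [Matrix.mulVec_smul, Pi.smul_apply, hx j, smul_zero]

theorem Frame.mem_U₁ (b : Frame D n k) (x : Fin n → F) :
    x ∈ b.U₁ ↔ ∀ j, (b.Q *ᵥ x) (Sum.inr j) = 0 := Iff.rfl

theorem Frame.mem_U₂ (b : Frame D n k) (x : Fin n → F) :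
    x ∈ b.U₂ ↔ ∀ j, (b.Q *ᵥ x) (Sum.inl j) = 0 := Iff.rfl

theorem Frame.ct_Q_J_Q (b : Frame D n k) : ct D b.Q * Jm F k * b.Q = 1 := by
  rw [← b.hJ]
  calc ct D b.Q * (ct D b.P * b.P) * b.Q = (ct D b.Q * ct D b.P) * (b.P * b.Q) := by
        simp only [Matrix.mul_assoc]
    _ = 1 := by rw [← ct_mul, b.hPQ, ct_one, Matrix.mul_one]

theorem Frame.Q_eq (b : Frame D n k) : b.Q = Jm F k * ct D b.P := by
  calc b.Q = (Jm F k * Jm F k) * b.Q := by rw [Jm_mul_Jm, Matrix.one_mul]
    _ = Jm F k * (ct D b.P * (b.P * b.Q)) := by rw [← b.hJ]; simp only [Matrix.mul_assoc]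
    _ = Jm F k * ct D b.P := by rw [b.hPQ, Matrix.mul_one]

/-- the dimension count for a pair -/
theorem HPair.two_mul {φ : F →+* F} {U₁ U₂ : Submodule F (Fin n → F)} (h : HPair φ U₁ U₂ k) :
    n = k + k := by
  have h1 := Submodule.finrank_sup_add_finrank_inf_eq U₁ U₂
  have h2 : U₁ ⊔ U₂ = ⊤ := by
    rw [eq_top_iff]
    intro x _
    obtain ⟨x₁, hx₁, x₂, hx₂, rfl⟩ := h.span x
    exact Submodule.add_mem_sup hx₁ hx₂
  rw [h2, h.disj, finrank_bot, add_zero, finrank_top, Module.finrank_fintype_fun_eq_card,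
    Fintype.card_fin, h.fr₁, h.fr₂] at h1
  exact h1

/-- every pair of complementary totally isotropic subspaces comes from a frame -/
theorem exists_frame [Fintype F] {U₁ U₂ : Submodule F (Fin n → F)}
    (h : HPair (phi D) U₁ U₂ k) :
    ∃ b : Frame D n k, b.U₁ = U₁ ∧ b.U₂ = U₂ := by
  classical
  obtain ⟨b₁, f, hf, hdual⟩ := h.exists_dual_bases (phi_phi D)
  have hn := HPair.two_mul h
  set v : Fin k ⊕ Fin k → (Fin n → F) := Sum.elim (fun i => ((b₁ i : U₁) : Fin n → F)) f with hv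
  set P : Matrix (Fin n) (Fin k ⊕ Fin k) F := Matrix.of (fun a c => v c a) with hP
  have hentry : ∀ c c', (ct D P * P) c c' = H D (v c') (v c) := by
    intro c c'
    rw [Matrix.mul_apply]
    unfold H cj dotProduct
    apply Finset.sum_congr rfl
    intro a _
    rw [ct_apply, hP, Matrix.of_apply, Matrix.of_apply, mul_comm]
  have hb₁ : ∀ i, ((b₁ i : U₁) : Fin n → F) ∈ U₁ := fun i => (b₁ i).2
  have hJ : ct D P * P = Jm F k := by
    ext c c'
    rw [hentry, ← Bs_eq_H]
    rcases c with i | j <;> rcases c' with i' | j'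
    · simp only [hv, Sum.elim_inl, Jm, Matrix.fromBlocks_apply₁₁, Matrix.zero_apply]
      exact h.iso₁ _ (hb₁ i) _ (hb₁ i')
    · simp only [hv, Sum.elim_inl, Sum.elim_inr, Jm, Matrix.fromBlocks_apply₁₂]
      rw [← (Bs_symm (phi D) (phi_phi D) n).eq (f j') _, hdual i j', Matrix.one_apply]
      split_ifs <;> simp
    · simp only [hv, Sum.elim_inl, Sum.elim_inr, Jm, Matrix.fromBlocks_apply₂₁]
      rw [hdual i' j, Matrix.one_apply]
      by_cases hij : i' = j
      · rw [if_pos hij, if_pos hij.symm]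
      · rw [if_neg hij, if_neg (Ne.symm hij)]
    · simp only [hv, Sum.elim_inr, Jm, Matrix.fromBlocks_apply₂₂, Matrix.zero_apply]
      exact h.iso₂ _ (hf j) _ (hf j')
  set Q : Matrix (Fin k ⊕ Fin k) (Fin n) F := Jm F k * ct D P with hQ
  have hQP : Q * P = 1 := by
    rw [hQ, Matrix.mul_assoc, hJ, Jm_mul_Jm]
  have hPQ : P * Q = 1 := by
    have eqv : Fin n ≃ Fin k ⊕ Fin k := (finCongr hn).trans finSumFinEquiv.symm
    exact (Matrix.mul_eq_one_comm_of_equiv eqv).mpr hQP
  -- entries of `Q x`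
  have hQl : ∀ (x : Fin n → F) (i : Fin k), (Q *ᵥ x) (Sum.inl i) = Bs (phi D) n (f i) x := by
    intro x i
    rw [hQ, ← Matrix.mulVec_mulVec, Bs_eq_H]
    unfold Jm
    rw [Matrix.fromBlocks_mulVec]
    simp only [Sum.elim_inl, Matrix.zero_mulVec, Matrix.one_mulVec, zero_add]
    unfold H cj dotProduct Matrix.mulVec dotProduct
    apply Finset.sum_congr rfl
    intro a _
    show ct D P (Sum.inr i) a * x a = x a * D.τ (f i a)
    rw [ct_apply, hP, Matrix.of_apply, hv, Sum.elim_inr, mul_comm]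
  have hQr : ∀ (x : Fin n → F) (j : Fin k),
      (Q *ᵥ x) (Sum.inr j) = Bs (phi D) n ((b₁ j : U₁) : Fin n → F) x := by
    intro x j
    rw [hQ, ← Matrix.mulVec_mulVec, Bs_eq_H]
    unfold Jm
    rw [Matrix.fromBlocks_mulVec]
    simp only [Sum.elim_inr, Matrix.zero_mulVec, Matrix.one_mulVec, add_zero]
    unfold H cj dotProduct Matrix.mulVec dotProduct
    apply Finset.sum_congr rfl
    intro a _
    show ct D P (Sum.inl j) a * x a = x a * D.τ (((b₁ j : U₁) : Fin n → F) a)
    rw [ct_apply, hP, Matrix.of_apply, hv, Sum.elim_inl, mul_comm]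
  have hexp : ∀ x : Fin n → F, x = ∑ c, (Q *ᵥ x) c • v c := by
    intro x
    have h1 : x = P *ᵥ (Q *ᵥ x) := by
      rw [Matrix.mulVec_mulVec, hPQ, Matrix.one_mulVec]
    conv_lhs => rw [h1]
    ext a
    rw [Matrix.mulVec, dotProduct, Finset.sum_apply]
    apply Finset.sum_congr rfl
    intro c _
    rw [hP, Matrix.of_apply, Pi.smul_apply, smul_eq_mul, mul_comm]
  refine ⟨⟨P, Q, hPQ, hQP, hJ⟩, ?_, ?_⟩
  · ext x
    rw [Frame.mem_U₁]
    constructor
    · intro hx
      rw [hexp x, Fintype.sum_sum_type]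
      have h0 : ∑ j, (Q *ᵥ x) (Sum.inr j) • v (Sum.inr j) = 0 := by
        apply Finset.sum_eq_zero
        intro j _
        rw [hx j, zero_smul]
      rw [h0, add_zero]
      apply Submodule.sum_mem
      intro i _
      exact U₁.smul_mem _ (hb₁ i)
    · intro hx j
      show (Q *ᵥ x) (Sum.inr j) = 0
      rw [hQr]
      exact h.iso₁ _ (hb₁ j) _ hx
  · ext x
    rw [Frame.mem_U₂]
    constructor
    · intro hx
      rw [hexp x, Fintype.sum_sum_type]
      have h0 : ∑ i, (Q *ᵥ x) (Sum.inl i) • v (Sum.inl i) = 0 := by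
        apply Finset.sum_eq_zero
        intro i _
        rw [hx i, zero_smul]
      rw [h0, zero_add]
      apply Submodule.sum_mem
      intro j _
      exact U₂.smul_mem _ (hf j)
    · intro hx i
      show (Q *ᵥ x) (Sum.inl i) = 0
      rw [hQl]
      exact h.iso₂ _ (hf i) _ hx

end Cfsg.Agent.Lib.H11.SuDec
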