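import Cfsg.Agent.Lib.H11.SuDec1

/-!
# Pairs of complementary totally isotropic subspaces (part 2): transitivity of `GU` on frames and
the embedding of `GL_k(q²)` into the stabiliser
-/

set_option autoImplicit false
set_option linter.unusedSectionVars false
set_option linter.unusedVariables false

namespace Cfsg.Agent.Lib.H11.SuDec

open Matrix Module
open Cfsg.Agent.Lib.H13.AutPSU

variable {F : Type*} [Field F] {n q k : ℕ} {D : UF F q}

/-- the unitary matrix carrying one frame to another -/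
theorem Frame.exists_conj (b b' : Frame D n k) :
    ∃ g : GL (Fin n) F, g ∈ Cfsg.GU n F q ∧
      ∀ x : Fin n → F, b'.Q *ᵥ ((g : Matrix (Fin n) (Fin n) F) *ᵥ x) = b.Q *ᵥ x := by
  have h1 : (b'.P * b.Q) * (b.P * b'.Q) = 1 := by
    calc (b'.P * b.Q) * (b.P * b'.Q) = b'.P * ((b.Q * b.P) * b'.Q) := by
          simp only [Matrix.mul_assoc]
      _ = 1 := by rw [b.hQP, Matrix.one_mul, b'.hPQ]
  have h2 : (b.P * b'.Q) * (b'.P * b.Q) = 1 := by
    calc (b.P * b'.Q) * (b'.P * b.Q) = b.P * ((b'.Q * b'.P) * b.Q) := by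
          simp only [Matrix.mul_assoc]
      _ = 1 := by rw [b'.hQP, Matrix.one_mul, b.hPQ]
  refine ⟨⟨b'.P * b.Q, b.P * b'.Q, h1, h2⟩, ?_, ?_⟩
  · rw [mem_GU_iff_ct (D := D)]
    show ct D (b'.P * b.Q) * (b'.P * b.Q) = 1
    rw [ct_mul]
    calc ct D b.Q * ct D b'.P * (b'.P * b.Q) = ct D b.Q * (ct D b'.P * b'.P) * b.Q := by
          simp only [Matrix.mul_assoc]
      _ = 1 := by rw [b'.hJ, b.ct_Q_J_Q]
  · intro x
    show b'.Q *ᵥ ((b'.P * b.Q) *ᵥ x) = b.Q *ᵥ x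
    rw [Matrix.mulVec_mulVec, ← Matrix.mul_assoc, b'.hQP, Matrix.one_mul]

/-- the matrix of `diag(A, (A*)⁻¹)` in a frame -/
def Frame.psiM (b : Frame D n k) (A Ai : Matrix (Fin k) (Fin k) F) : Matrix (Fin n) (Fin n) F :=
  b.P * Matrix.fromBlocks A 0 0 (ct D Ai) * b.Q

theorem Frame.psiM_mul (b : Frame D n k) (A Ai B Bi : Matrix (Fin k) (Fin k) F) :
    b.psiM A Ai * b.psiM B Bi = b.psiM (A * B) (Bi * Ai) := by
  unfold Frame.psiM
  calc b.P * Matrix.fromBlocks A 0 0 (ct D Ai) * b.Q * (b.P * Matrix.fromBlocks B 0 0 (ct D Bi) * b.Q)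
      = b.P * (Matrix.fromBlocks A 0 0 (ct D Ai) * ((b.Q * b.P) *
          Matrix.fromBlocks B 0 0 (ct D Bi))) * b.Q := by simp only [Matrix.mul_assoc]
    _ = b.P * Matrix.fromBlocks (A * B) 0 0 (ct D (Bi * Ai)) * b.Q := by
        rw [b.hQP, Matrix.one_mul, Matrix.fromBlocks_multiply, ct_mul]
        simp

theorem Frame.psiM_one (b : Frame D n k) : b.psiM 1 1 = 1 := by
  unfold Frame.psiM
  rw [ct_one, Matrix.fromBlocks_one, Matrix.mul_one, b.hPQ]

theorem Frame.psiM_inv (b : Frame D n k) (A Ai : Matrix (Fin k) (Fin k) F) (hA : A * Ai = 1) :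
    b.psiM A Ai * b.psiM Ai A = 1 := by
  have hA' : Ai * A = 1 := mul_eq_one_comm.mp hA
  rw [b.psiM_mul, hA, b.psiM_one]

theorem Frame.psiM_unitary (b : Frame D n k) (A Ai : Matrix (Fin k) (Fin k) F) (hA : A * Ai = 1) :
    ct D (b.psiM A Ai) * b.psiM A Ai = 1 := by
  have hA' : Ai * A = 1 := mul_eq_one_comm.mp hA
  have hX : ct D (Matrix.fromBlocks A 0 0 (ct D Ai)) * Jm F k *
      Matrix.fromBlocks A 0 0 (ct D Ai) = Jm F k := by
    have h1 : ct D (Matrix.fromBlocks A 0 0 (ct D Ai)) = Matrix.fromBlocks (ct D A) 0 0 Ai := by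
      ext (i | i) (j | j) <;> simp [ct_apply, D.hτ2]
    rw [h1]
    unfold Jm
    rw [Matrix.fromBlocks_multiply, Matrix.fromBlocks_multiply]
    simp only [Matrix.mul_zero, Matrix.zero_mul, Matrix.mul_one, zero_add, add_zero]
    rw [← ct_mul, hA', ct_one]
  unfold Frame.psiM
  rw [ct_mul, ct_mul]
  calc ct D b.Q * (ct D (Matrix.fromBlocks A 0 0 (ct D Ai)) * ct D b.P) *
        (b.P * Matrix.fromBlocks A 0 0 (ct D Ai) * b.Q)
      = ct D b.Q * (ct D (Matrix.fromBlocks A 0 0 (ct D Ai)) * (ct D b.P * b.P) *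
          Matrix.fromBlocks A 0 0 (ct D Ai)) * b.Q := by simp only [Matrix.mul_assoc]
    _ = 1 := by rw [b.hJ, hX, b.ct_Q_J_Q]

theorem det_ct {m : Type*} [Fintype m] [DecidableEq m] (X : Matrix m m F) :
    (ct D X).det = D.τ X.det := by
  unfold ct
  rw [Matrix.det_transpose]
  exact (RingHom.map_det (D.τ : F →+* F) X).symm

theorem Frame.psiM_det (b : Frame D n k) (A Ai : Matrix (Fin k) (Fin k) F) :
    (b.psiM A Ai).det = A.det * D.τ Ai.det := by
  unfold Frame.psiM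
  rw [Matrix.det_conj_of_mul_eq_one b.hPQ b.hQP, Matrix.det_fromBlocks_zero₂₁, det_ct]

theorem Frame.Q_psiM_mulVec (b : Frame D n k) (A Ai : Matrix (Fin k) (Fin k) F)
    (x : Fin n → F) :
    b.Q *ᵥ (b.psiM A Ai *ᵥ x) = Matrix.fromBlocks A 0 0 (ct D Ai) *ᵥ (b.Q *ᵥ x) := by
  unfold Frame.psiM
  rw [Matrix.mulVec_mulVec, Matrix.mulVec_mulVec]
  congr 1
  calc b.Q * (b.P * Matrix.fromBlocks A 0 0 (ct D Ai) * b.Q)
      = (b.Q * b.P) * Matrix.fromBlocks A 0 0 (ct D Ai) * b.Q := by simp only [Matrix.mul_assoc]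
    _ = Matrix.fromBlocks A 0 0 (ct D Ai) * b.Q := by rw [b.hQP, Matrix.one_mul]

theorem Frame.psiM_mem_U₁ (b : Frame D n k) (A Ai : Matrix (Fin k) (Fin k) F)
    (x : Fin n → F) (hx : x ∈ b.U₁) : b.psiM A Ai *ᵥ x ∈ b.U₁ := by
  rw [Frame.mem_U₁] at hx ⊢
  intro j
  rw [b.Q_psiM_mulVec, Matrix.fromBlocks_mulVec]
  simp only [Sum.elim_inr, Matrix.zero_mulVec, zero_add]
  have : (fun j => (b.Q *ᵥ x) (Sum.inr j)) = 0 := funext hx
  show (ct D Ai *ᵥ (fun j => (b.Q *ᵥ x) (Sum.inr j))) j = 0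
  rw [this, Matrix.mulVec_zero]
  rfl

theorem Frame.psiM_mem_U₂ (b : Frame D n k) (A Ai : Matrix (Fin k) (Fin k) F)
    (x : Fin n → F) (hx : x ∈ b.U₂) : b.psiM A Ai *ᵥ x ∈ b.U₂ := by
  rw [Frame.mem_U₂] at hx ⊢
  intro j
  rw [b.Q_psiM_mulVec, Matrix.fromBlocks_mulVec]
  simp only [Sum.elim_inl, Matrix.zero_mulVec, add_zero]
  have : (fun j => (b.Q *ᵥ x) (Sum.inl j)) = 0 := funext hx
  show (A *ᵥ (fun j => (b.Q *ᵥ x) (Sum.inl j))) j = 0
  rw [this, Matrix.mulVec_zero]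
  rfl

/-- the embedding of `GL_k` into `GL_n` attached to a frame -/
def Frame.psi (b : Frame D n k) : GL (Fin k) F →* GL (Fin n) F where
  toFun A := ⟨b.psiM (A : Matrix (Fin k) (Fin k) F) ((A⁻¹ : GL (Fin k) F) : Matrix (Fin k) (Fin k) F),
    b.psiM ((A⁻¹ : GL (Fin k) F) : Matrix (Fin k) (Fin k) F) (A : Matrix (Fin k) (Fin k) F),
    b.psiM_inv _ _ (by rw [← Units.val_mul, mul_inv_cancel, Units.val_one]),
    b.psiM_inv _ _ (by rw [← Units.val_mul, inv_mul_cancel, Units.val_one])⟩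
  map_one' := by
    apply Units.ext
    show b.psiM ((1 : GL (Fin k) F) : Matrix (Fin k) (Fin k) F)
      (((1 : GL (Fin k) F)⁻¹ : GL (Fin k) F) : Matrix (Fin k) (Fin k) F) = 1
    rw [inv_one, Units.val_one, b.psiM_one]
  map_mul' := by
    intro A B
    apply Units.ext
    show b.psiM ((A * B : GL (Fin k) F) : Matrix (Fin k) (Fin k) F)
      (((A * B)⁻¹ : GL (Fin k) F) : Matrix (Fin k) (Fin k) F) =
      b.psiM (A : Matrix (Fin k) (Fin k) F) ((A⁻¹ : GL (Fin k) F) : Matrix (Fin k) (Fin k) F) *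
      b.psiM (B : Matrix (Fin k) (Fin k) F) ((B⁻¹ : GL (Fin k) F) : Matrix (Fin k) (Fin k) F)
    rw [b.psiM_mul, _root_.mul_inv_rev, Units.val_mul, Units.val_mul]

theorem Frame.psi_val (b : Frame D n k) (A : GL (Fin k) F) :
    ((b.psi A : GL (Fin n) F) : Matrix (Fin n) (Fin n) F) =
      b.psiM (A : Matrix (Fin k) (Fin k) F) ((A⁻¹ : GL (Fin k) F) : Matrix (Fin k) (Fin k) F) := rfl

theorem Frame.psi_mem_GU (b : Frame D n k) (A : GL (Fin k) F) : b.psi A ∈ Cfsg.GU n F q := by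
  rw [mem_GU_iff_ct (D := D), b.psi_val]
  exact b.psiM_unitary _ _ (by rw [← Units.val_mul, mul_inv_cancel, Units.val_one])

theorem Frame.psi_det (b : Frame D n k) (A : GL (Fin k) F) :
    ((b.psi A : GL (Fin n) F) : Matrix (Fin n) (Fin n) F).det =
      (A : Matrix (Fin k) (Fin k) F).det *
        D.τ ((A⁻¹ : GL (Fin k) F) : Matrix (Fin k) (Fin k) F).det := by
  rw [b.psi_val, b.psiM_det]

theorem Frame.psi_injective (b : Frame D n k) : Function.Injective b.psi := by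
  rw [injective_iff_map_eq_one]
  intro A hA
  have h1 : b.psiM (A : Matrix (Fin k) (Fin k) F)
      ((A⁻¹ : GL (Fin k) F) : Matrix (Fin k) (Fin k) F) = 1 := by
    rw [← b.psi_val, hA, Units.val_one]
  unfold Frame.psiM at h1
  have h2 : Matrix.fromBlocks (A : Matrix (Fin k) (Fin k) F) 0 0
      (ct D ((A⁻¹ : GL (Fin k) F) : Matrix (Fin k) (Fin k) F)) = 1 := by
    set X := Matrix.fromBlocks (A : Matrix (Fin k) (Fin k) F) 0 0
      (ct D ((A⁻¹ : GL (Fin k) F) : Matrix (Fin k) (Fin k) F)) with hX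
    calc X = (b.Q * b.P) * X * (b.Q * b.P) := by rw [b.hQP, Matrix.one_mul, Matrix.mul_one]
      _ = b.Q * (b.P * X * b.Q) * b.P := by simp only [Matrix.mul_assoc]
      _ = 1 := by rw [h1, Matrix.mul_one, b.hQP]
  apply Units.ext
  rw [Units.val_one]
  have h3 := congrArg Matrix.toBlocks₁₁ h2
  rw [Matrix.toBlocks_fromBlocks₁₁, ← Matrix.fromBlocks_one, Matrix.toBlocks_fromBlocks₁₁] at h3
  exact h3

end Cfsg.Agent.Lib.H11.SuDec
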