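import Cfsg.Agent.S0755
import Cfsg.Agent.Lib.H2.HermCount
set_option autoImplicit false

namespace Cfsg.Agent.Lib.H11.UFrames

open Module


section orth
variable {F : Type*} [Field F] {φ : F →+* F} {V : Type*} [AddCommGroup V] [Module F V]

/-- right orthogonal complement for a sesquilinear form (semilinear in the first argument) -/
def orth (B : V →ₛₗ[φ] V →ₗ[F] F) (W : Submodule F V) : Submodule F V where
  carrier := {v | ∀ w ∈ W, B w v = 0}
  add_mem' := by
    intro a b ha hb w hw
    rw [map_add, ha w hw, hb w hw, add_zero]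
  zero_mem' := by
    intro w _
    rw [map_zero]
  smul_mem' := by
    intro c a ha w hw
    rw [map_smul, ha w hw, smul_zero]

theorem mem_orth (B : V →ₛₗ[φ] V →ₗ[F] F) (W : Submodule F V) (v : V) :
    v ∈ orth B W ↔ ∀ w ∈ W, B w v = 0 := Iff.rfl

theorem mem_orth_span (B : V →ₛₗ[φ] V →ₗ[F] F) {ι : Type*} (s : ι → V) (v : V) :
    v ∈ orth B (Submodule.span F (Set.range s)) ↔ ∀ i, B (s i) v = 0 := by
  constructor
  · intro h i
    exact h (s i) (Submodule.subset_span ⟨i, rfl⟩)
  · intro h w hw
    induction hw using Submodule.span_induction with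
    | mem x hx =>
      obtain ⟨i, rfl⟩ := hx
      exact h i
    | zero => simp
    | add x y _ _ hx hy => rw [map_add, LinearMap.add_apply, hx, hy, add_zero]
    | smul a x _ hx => rw [map_smulₛₗ, LinearMap.smul_apply, hx, smul_zero]

theorem finrank_orth [FiniteDimensional F V] (hφ : Function.Surjective φ)
    (B : V →ₛₗ[φ] V →ₗ[F] F) (hB : B.Nondegenerate) (W : Submodule F V) :
    finrank F (orth B W) = finrank F V - finrank F W := by
  obtain ⟨j, hj⟩ : ∃ j, finrank F W = j := ⟨_, rfl⟩
  obtain ⟨b⟩ : Nonempty (Module.Basis (Fin j) F W) := ⟨Module.finBasisOfFinrankEq F W hj⟩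
  obtain ⟨s, hs⟩ : ∃ s : Fin j → V, s = fun i => (b i : V) := ⟨_, rfl⟩
  have hsLI : LinearIndependent F s := by
    rw [hs]; exact b.linearIndependent.map' W.subtype (Submodule.ker_subtype W)
  have hspan : Submodule.span F (Set.range s) = W := by
    have h1 : Set.range s = W.subtype '' Set.range b := by
      rw [← Set.range_comp, hs]; rfl
    rw [h1, ← Submodule.map_span, b.span_eq, Submodule.map_subtype_top]
  -- the functionals
  have hLI : LinearIndependent F (fun i => B (s i)) := by
    have := hsLI.map_of_surjective_injective (R' := F) (M' := Module.Dual F V) φ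
      (B : V →ₛₗ[φ] Module.Dual F V).toAddMonoidHom hφ
      (fun m hm => hB.1 m (fun y => by
        have : B m = 0 := hm
        rw [this]; rfl))
      (fun r m => by
        show B (r • m) = φ r • B m
        exact map_smulₛₗ B r m)
    exact this
  obtain ⟨Φ, hΦ⟩ : ∃ Φ : Subspace F (Module.Dual F V),
      Φ = Submodule.span F (Set.range fun i => B (s i)) := ⟨_, rfl⟩
  have hΦj : finrank F Φ = j := by
    rw [hΦ, finrank_span_eq_card hLI, Fintype.card_fin]
  have hco : orth B W = Φ.dualCoannihilator := by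
    ext v
    rw [← hspan, mem_orth_span, Submodule.mem_dualCoannihilator, hΦ]
    constructor
    · intro h ψ hψ
      induction hψ using Submodule.span_induction with
      | mem x hx =>
        obtain ⟨i, rfl⟩ := hx
        exact h i
      | zero => simp
      | add x y _ _ hx hy => rw [LinearMap.add_apply, hx, hy, add_zero]
      | smul a x _ hx => rw [LinearMap.smul_apply, hx, smul_zero]
    · intro h i
      exact h _ (Submodule.subset_span ⟨i, rfl⟩)
  have := Subspace.finrank_add_finrank_dualCoannihilator_eq Φ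
  rw [hco]
  omega

end orth


/-- the number of non-zero isotropic vectors in the `d`-dimensional unitary space over `F_{q^2}` -/
def isoNZ (q d : ℕ) : ℕ :=
  if Even d then (q ^ d - 1) * (q ^ (d - 1) + 1) else (q ^ d + 1) * (q ^ (d - 1) - 1)

section abstractCount
variable {F : Type*} [Field F] [Fintype F] {q : ℕ} {φ : F →+* F}
  {U : Type*} [AddCommGroup U] [Module F U] [FiniteDimensional F U]

theorem card_isotropic_abstract (hF : Fintype.card F = q ^ 2) (hφ : ∀ x, φ x = x ^ q)
    (hφne : φ ≠ RingHom.id F) (hφ2 : ∀ x, φ (φ x) = x)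
    (B : U →ₛₗ[φ] U →ₗ[F] F) (hS : B.IsSymm) (hB : B.Nondegenerate) :
    Nat.card {u : U // B u u = 0} = isoNZ q (finrank F U) + 1 := by
  obtain ⟨d, hd⟩ : ∃ d, d = finrank F U := ⟨_, rfl⟩
  obtain ⟨b, hb⟩ := Cfsg.Agent.S0755.herm_onb φ hφne hφ2 d B hS hB hd.symm
  rw [← hd]
  have hBuu : ∀ u : U, B u u = Cfsg.hermForm d F q (b.equivFun u) (b.equivFun u) := by
    intro u
    have hu : u = ∑ i, b.equivFun u i • b i := (b.sum_equivFun u).symm
    conv_lhs => rw [hu]
    simp only [map_sum, LinearMap.sum_apply, map_smulₛₗ, LinearMap.smul_apply, smul_eq_mul, hb]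
    unfold Cfsg.hermForm
    apply Finset.sum_congr rfl
    intro i _
    simp [hφ, mul_comm]
  have e : {u : U // B u u = 0} ≃ {v : Fin d → F // Cfsg.hermForm d F q v v = 0} :=
    { toFun := fun u => ⟨b.equivFun u.1, by rw [← hBuu]; exact u.2⟩
      invFun := fun v => ⟨b.equivFun.symm v.1, by rw [hBuu, LinearEquiv.apply_symm_apply]; exact v.2⟩
      left_inv := fun u => Subtype.ext (b.equivFun.symm_apply_apply u.1)
      right_inv := fun v => Subtype.ext (b.equivFun.apply_symm_apply v.1) }
  rw [Nat.card_congr e, Cfsg.Agent.Lib.H2.Herm.card_isotropic hF d]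
  rfl

end abstractCount

section compl
variable {F : Type*} [Field F] {φ : F →+* F} {V : Type*} [AddCommGroup V] [Module F V]

theorem symm_zero {B : V →ₛₗ[φ] V →ₗ[F] F} (hS : B.IsSymm) {x y : V} (h : B x y = 0) : B y x = 0 :=
  hS.isRefl x y h

theorem le_orth_orth {B : V →ₛₗ[φ] V →ₗ[F] F} (hS : B.IsSymm) (W : Submodule F V) :
    W ≤ orth B (orth B W) := fun w hw v hv => symm_zero hS (hv w hw)

theorem orth_orth [FiniteDimensional F V] (hφ : Function.Surjective φ)
    {B : V →ₛₗ[φ] V →ₗ[F] F} (hS : B.IsSymm) (hB : B.Nondegenerate) (W : Submodule F V) :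
    orth B (orth B W) = W := by
  symm
  apply Submodule.eq_of_le_of_finrank_le (le_orth_orth hS W)
  rw [finrank_orth hφ B hB, finrank_orth hφ B hB]
  have := Submodule.finrank_le W
  omega

theorem exists_compl [FiniteDimensional F V] (hφ : Function.Surjective φ)
    {B : V →ₛₗ[φ] V →ₗ[F] F} (hS : B.IsSymm) (hB : B.Nondegenerate) (N : Submodule F V)
    (hN : N ≤ orth B N) :
    ∃ U : Submodule F V, U ≤ orth B N ∧ N ⊓ U = ⊥ ∧ N ⊔ U = orth B N ∧
      finrank F U + 2 * finrank F N = finrank F V ∧ (B.domRestrict₁₂ U U).Nondegenerate := by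
  obtain ⟨C, hC⟩ := Submodule.exists_isCompl N
  obtain ⟨U, hU⟩ : ∃ U, U = C ⊓ orth B N := ⟨_, rfl⟩
  have hUle : U ≤ orth B N := by rw [hU]; exact inf_le_right
  have hdisj : N ⊓ U = ⊥ := by
    rw [eq_bot_iff, hU, ← hC.inf_eq_bot]
    exact inf_le_inf_left N inf_le_left
  have hsup : N ⊔ U = orth B N := by
    rw [hU, ← sup_inf_assoc_of_le C hN, hC.sup_eq_top, top_inf_eq]
  have hfin : finrank F U + 2 * finrank F N = finrank F V := by
    have h1 := Submodule.finrank_sup_add_finrank_inf_eq N U
    rw [hsup, hdisj, finrank_bot, add_zero, finrank_orth hφ B hB] at h1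
    have h2 := Submodule.finrank_mono hN
    rw [finrank_orth hφ B hB] at h2
    have h3 := Submodule.finrank_le N
    omega
  refine ⟨U, hUle, hdisj, hsup, hfin, ?_, ?_⟩
  · intro x hx
    have hxN : (x : V) ∈ orth B (orth B N) := by
      intro v hv
      rw [← hsup] at hv
      obtain ⟨a, ha, u, hu, rfl⟩ := Submodule.mem_sup.1 hv
      rw [map_add, LinearMap.add_apply]
      have h1 : B a x = 0 := hUle x.2 a ha
      have h2 : B u x = 0 := symm_zero hS (hx ⟨u, hu⟩)
      rw [h1, h2, add_zero]
    rw [orth_orth hφ hS hB] at hxN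
    have : (x : V) ∈ N ⊓ U := ⟨hxN, x.2⟩
    rw [hdisj] at this
    exact Subtype.ext ((Submodule.mem_bot F).1 this)
  · intro y hy
    have hyN : (y : V) ∈ orth B (orth B N) := by
      intro v hv
      rw [← hsup] at hv
      obtain ⟨a, ha, u, hu, rfl⟩ := Submodule.mem_sup.1 hv
      rw [map_add, LinearMap.add_apply]
      have h1 : B a y = 0 := hUle y.2 a ha
      have h2 : B u y = 0 := hy ⟨u, hu⟩
      rw [h1, h2, add_zero]
    rw [orth_orth hφ hS hB] at hyN
    have : (y : V) ∈ N ⊓ U := ⟨hyN, y.2⟩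
    rw [hdisj] at this
    exact Subtype.ext ((Submodule.mem_bot F).1 this)

end compl
section ext
variable {F : Type*} [Field F] [Fintype F] {q : ℕ} {φ : F →+* F}
  {V : Type*} [AddCommGroup V] [Module F V] [FiniteDimensional F V]

theorem card_ext (hF : Fintype.card F = q ^ 2) (hφ : ∀ x, φ x = x ^ q)
    (hφne : φ ≠ RingHom.id F) (hφ2 : ∀ x, φ (φ x) = x)
    (B : V →ₛₗ[φ] V →ₗ[F] F) (hS : B.IsSymm) (hB : B.Nondegenerate) (N : Submodule F V)
    (hN : N ≤ orth B N) :
    Nat.card {v : V // v ∈ orth B N ∧ B v v = 0 ∧ v ∉ N} =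
      Fintype.card F ^ finrank F N * isoNZ q (finrank F V - 2 * finrank F N) := by
  have : Finite V := Module.finite_of_finite F
  have hφs : Function.Surjective φ := fun x => ⟨φ x, hφ2 x⟩
  obtain ⟨U, hUle, hdisj, hsup, hfin, hnd⟩ := exists_compl hφs hS hB N hN
  have hNN : ∀ a ∈ N, ∀ a' ∈ N, B a a' = 0 := fun a ha a' ha' => hN ha' a ha
  have hNU : ∀ a ∈ N, ∀ u ∈ U, B a u = 0 := fun a ha u hu => hUle hu a ha
  have hUN : ∀ a ∈ N, ∀ u ∈ U, B u a = 0 := fun a ha u hu => symm_zero hS (hNU a ha u hu)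
  have hBau : ∀ a ∈ N, ∀ u ∈ U, B (a + u) (a + u) = B u u := by
    intro a ha u hu
    simp only [map_add, LinearMap.add_apply, hNN a ha a ha, hNU a ha u hu, hUN a ha u hu, zero_add]
  have hzero : ∀ a ∈ N, ∀ u ∈ U, a + u ∈ N → u = 0 := by
    intro a ha u hu hau
    have : u ∈ N ⊓ U := ⟨by
      have := N.sub_mem hau ha
      simpa using this, hu⟩
    rw [hdisj] at this
    exact (Submodule.mem_bot F).1 this
  let e : N × {u : U // B u.1 u.1 = 0 ∧ u ≠ 0} → {v : V // v ∈ orth B N ∧ B v v = 0 ∧ v ∉ N} :=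
    fun x => ⟨x.1.1 + x.2.1.1, by
      refine ⟨?_, ?_, ?_⟩
      · rw [← hsup]
        exact Submodule.add_mem_sup x.1.2 x.2.1.2
      · rw [hBau _ x.1.2 _ x.2.1.2]
        exact x.2.2.1
      · intro h
        apply x.2.2.2
        exact Subtype.ext (hzero _ x.1.2 _ x.2.1.2 h)⟩
  have he : Function.Bijective e := by
    constructor
    · rintro ⟨⟨a, ha⟩, ⟨⟨u, hu⟩, hu2⟩⟩ ⟨⟨a', ha'⟩, ⟨⟨u', hu'⟩, hu2'⟩⟩ h
      have h1 : a + u = a' + u' := congrArg Subtype.val h
      have h2 : a - a' = u' - u := by
        rw [sub_eq_sub_iff_add_eq_add, h1, add_comm]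
      have h3 : a - a' ∈ N ⊓ U := ⟨N.sub_mem ha ha', by rw [h2]; exact U.sub_mem hu' hu⟩
      rw [hdisj, Submodule.mem_bot] at h3
      have h4 : a = a' := sub_eq_zero.1 h3
      have h5 : u = u' := by
        rw [h4] at h1
        exact add_left_cancel h1
      subst h4
      subst h5
      rfl
    · rintro ⟨v, hv1, hv2, hv3⟩
      rw [← hsup] at hv1
      obtain ⟨a, ha, u, hu, rfl⟩ := Submodule.mem_sup.1 hv1
      refine ⟨⟨⟨a, ha⟩, ⟨⟨u, hu⟩, ?_, ?_⟩⟩, rfl⟩
      · rw [← hBau a ha u hu]; exact hv2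
      · intro h0
        apply hv3
        have : u = 0 := congrArg Subtype.val h0
        rw [this, add_zero]
        exact ha
  rw [← Nat.card_congr (Equiv.ofBijective e he), Nat.card_prod]
  congr 1
  · rw [Module.natCard_eq_pow_finrank (K := F), Nat.card_eq_fintype_card]
  · -- count non-zero isotropic vectors of U
    have h1 := card_isotropic_abstract hF hφ hφne hφ2 (B.domRestrict₁₂ U U) (hS.domRestrict U) hnd
    have hd : finrank F U = finrank F V - 2 * finrank F N := by omega
    rw [hd] at h1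
    have hset : {u : U | B u.1 u.1 = 0 ∧ u ≠ 0} = {u : U | B u.1 u.1 = 0} \ {0} := by
      ext u
      simp
    have h0 : (0 : U) ∈ {u : U | B u.1 u.1 = 0} := by simp
    have h2 := Set.ncard_sdiff_singleton_add_one h0 (Set.toFinite _)
    rw [← hset] at h2
    have h3 : Nat.card {u : U // B u.1 u.1 = 0} = Set.ncard {u : U | B u.1 u.1 = 0} :=
      Nat.card_coe_set_eq _
    have h4 : Nat.card {u : U // B u.1 u.1 = 0 ∧ u ≠ 0} = Set.ncard {u : U | B u.1 u.1 = 0 ∧ u ≠ 0} :=
      Nat.card_coe_set_eq _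
    have h5 : Nat.card {u : U // (B.domRestrict₁₂ U U) u u = 0} = Nat.card {u : U // B u.1 u.1 = 0} := rfl
    rw [h5, h3] at h1
    rw [h4]
    omega

end ext
section frames
variable {F : Type*} [Field F] {φ : F →+* F} {V : Type*} [AddCommGroup V] [Module F V]

/-- totally isotropic frames of a sesquilinear form -/
abbrev UFrame (B : V →ₛₗ[φ] V →ₗ[F] F) (k : ℕ) : Type _ :=
  {f : Fin k → V // LinearIndependent F f ∧ ∀ i j, B (f i) (f j) = 0}

/-- extension equivalence for isotropic frames -/
def uFrameEquiv (B : V →ₛₗ[φ] V →ₗ[F] F) (hS : B.IsSymm) (k : ℕ) :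
    UFrame B (k + 1) ≃
      Σ s : UFrame B k, {v : V // v ∈ orth B (Submodule.span F (Set.range s.1)) ∧ B v v = 0 ∧
        v ∉ Submodule.span F (Set.range s.1)} where
  toFun s := ⟨⟨Fin.tail s.1, (linearIndependent_finSucc.mp s.2.1).1, fun i j => s.2.2 _ _⟩,
    ⟨s.1 0, (mem_orth_span B _ _).2 (fun i => s.2.2 _ _), s.2.2 _ _,
      (linearIndependent_finSucc.mp s.2.1).2⟩⟩
  invFun x := ⟨Fin.cons x.2.1 x.1.1, linearIndependent_finCons.mpr ⟨x.1.2.1, x.2.2.2.2⟩, by
    have hx := (mem_orth_span B _ _).1 x.2.2.1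
    intro i j
    refine Fin.cases ?_ (fun i' => ?_) i <;> refine Fin.cases ?_ (fun j' => ?_) j
    · simp only [Fin.cons_zero]; exact x.2.2.2.1
    · simp only [Fin.cons_zero, Fin.cons_succ]
      exact symm_zero hS (hx j')
    · simp only [Fin.cons_zero, Fin.cons_succ]
      exact hx i'
    · simp only [Fin.cons_succ]
      exact x.1.2.2 i' j'⟩
  left_inv s := by
    apply Subtype.ext
    simp only [Fin.cons_self_tail]
  right_inv := fun ⟨⟨s, hs⟩, ⟨v, hv⟩⟩ => by
    apply Sigma.subtype_ext
    · apply Subtype.ext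
      show Fin.tail (Fin.cons v s : Fin (k + 1) → V) = s
      exact Fin.tail_cons _ _
    · show (Fin.cons v s : Fin (k + 1) → V) 0 = v
      exact Fin.cons_zero _ _

theorem card_uFrame [Fintype F] [FiniteDimensional F V] {q : ℕ} (hF : Fintype.card F = q ^ 2)
    (hφ : ∀ x, φ x = x ^ q) (hφne : φ ≠ RingHom.id F) (hφ2 : ∀ x, φ (φ x) = x)
    (B : V →ₛₗ[φ] V →ₗ[F] F) (hS : B.IsSymm) (hB : B.Nondegenerate) (k : ℕ) :
    Nat.card (UFrame B k) =
      ∏ j : Fin k, (Fintype.card F ^ (j : ℕ) * isoNZ q (finrank F V - 2 * j)) := by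
  have : Finite V := Module.finite_of_finite F
  induction k with
  | zero =>
    rw [Finset.univ_eq_empty, Finset.prod_empty]
    haveI : Unique (UFrame B 0) :=
      { default := ⟨Fin.elim0, linearIndependent_empty_type, fun i => i.elim0⟩
        uniq := fun a => Subtype.ext (funext fun i => i.elim0) }
    exact Nat.card_unique
  | succ k ih =>
    haveI : Fintype (UFrame B k) := Fintype.ofFinite _
    rw [Nat.card_congr (uFrameEquiv B hS k), Nat.card_sigma]
    have hfib : ∀ s : UFrame B k,
        Nat.card {v : V // v ∈ orth B (Submodule.span F (Set.range s.1)) ∧ B v v = 0 ∧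
          v ∉ Submodule.span F (Set.range s.1)} =
        Fintype.card F ^ k * isoNZ q (finrank F V - 2 * k) := by
      intro s
      have hNle : Submodule.span F (Set.range s.1) ≤ orth B (Submodule.span F (Set.range s.1)) := by
        rw [Submodule.span_le]
        rintro _ ⟨j, rfl⟩
        exact (mem_orth_span B _ _).2 (fun i => s.2.2 i j)
      rw [card_ext hF hφ hφne hφ2 B hS hB _ hNle, finrank_span_eq_card s.2.1, Fintype.card_fin]
    simp only [hfib]
    rw [Finset.sum_const, Finset.card_univ, smul_eq_mul, ← Nat.card_eq_fintype_card, ih,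
      Fin.prod_univ_castSucc]
    simp

end frames
section subspaces
variable {F : Type*} [Field F] [Fintype F] {φ : F →+* F} {V : Type*} [AddCommGroup V] [Module F V]
  [FiniteDimensional F V]

theorem span_coe_eq {k : ℕ} (W : Submodule F V) (hW : finrank F W = k) (s : Fin k → W)
    (hs : LinearIndependent F s) : Submodule.span F (Set.range fun i => (s i : V)) = W := by
  have h1 : Set.range (fun i => (s i : V)) = W.subtype '' Set.range s := by
    rw [← Set.range_comp]; rfl
  have h2 : Submodule.span F (Set.range s) = ⊤ :=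
    hs.span_eq_top_of_card_eq_finrank' (by rw [Fintype.card_fin, hW])
  rw [h1, ← Submodule.map_span, h2, Submodule.map_subtype_top]

/-- frames versus totally isotropic subspaces -/
theorem card_uFrame_eq_mul (B : V →ₛₗ[φ] V →ₗ[F] F) (k : ℕ) :
    Nat.card (UFrame B k) =
      Nat.card {W : Submodule F V // finrank F W = k ∧ ∀ u ∈ W, ∀ v ∈ W, B u v = 0} *
        ∏ i : Fin k, (Fintype.card F ^ k - Fintype.card F ^ (i : ℕ)) := by
  have : Finite V := Module.finite_of_finite F
  let g : UFrame B k → {W : Submodule F V // finrank F W = k ∧ ∀ u ∈ W, ∀ v ∈ W, B u v = 0} :=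
    fun f => ⟨Submodule.span F (Set.range f.1), by
      rw [finrank_span_eq_card f.2.1, Fintype.card_fin], by
      intro u hu v hv
      have h1 : v ∈ orth B (Submodule.span F (Set.range f.1)) := by
        induction hv using Submodule.span_induction with
        | mem x hx =>
          obtain ⟨j, rfl⟩ := hx
          exact (mem_orth_span B _ _).2 (fun i => f.2.2 i j)
        | zero => exact Submodule.zero_mem _
        | add x y _ _ hx hy => exact Submodule.add_mem _ hx hy
        | smul a x _ hx => exact Submodule.smul_mem _ a hx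
      exact h1 u hu⟩
  haveI : Finite (Submodule F V) := Finite.of_injective (fun W => (W : Set V)) SetLike.coe_injective
  haveI : Fintype {W : Submodule F V // finrank F W = k ∧ ∀ u ∈ W, ∀ v ∈ W, B u v = 0} :=
    Fintype.ofFinite _
  rw [← Nat.card_congr (Equiv.sigmaFiberEquiv g), Nat.card_sigma]
  have hfib : ∀ W : {W : Submodule F V // finrank F W = k ∧ ∀ u ∈ W, ∀ v ∈ W, B u v = 0},
      Nat.card {f : UFrame B k // g f = W} =
        ∏ i : Fin k, (Fintype.card F ^ k - Fintype.card F ^ (i : ℕ)) := by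
    rintro ⟨W, hWk, hWti⟩
    have hmem : ∀ f : UFrame B k, g f = ⟨W, hWk, hWti⟩ → ∀ i, f.1 i ∈ W := by
      intro f hf i
      have : Submodule.span F (Set.range f.1) = W := congrArg Subtype.val hf
      rw [← this]
      exact Submodule.subset_span ⟨i, rfl⟩
    let e : {f : UFrame B k // g f = ⟨W, hWk, hWti⟩} ≃ {s : Fin k → W // LinearIndependent F s} :=
      { toFun := fun f => ⟨fun i => ⟨f.1.1 i, hmem f.1 f.2 i⟩, by
          apply LinearIndependent.of_comp W.subtype
          exact f.1.2.1⟩
        invFun := fun s => ⟨⟨fun i => (s.1 i : V),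
            s.2.map' W.subtype (Submodule.ker_subtype W),
            fun i j => hWti _ (s.1 i).2 _ (s.1 j).2⟩, by
          apply Subtype.ext
          exact span_coe_eq W hWk s.1 s.2⟩
        left_inv := fun f => by
          apply Subtype.ext
          apply Subtype.ext
          rfl
        right_inv := fun s => by
          apply Subtype.ext
          rfl }
    rw [Nat.card_congr e]
    have := card_linearIndependent (K := F) (V := W) (k := k) (by rw [hWk])
    rw [this, hWk]
  simp only [hfib]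
  rw [Finset.sum_const, Finset.card_univ, smul_eq_mul, Nat.card_eq_fintype_card]

end subspaces

end Cfsg.Agent.Lib.H11.UFrames
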