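import Cfsg.Agent.Lib.H11.SuDec2
import Cfsg.Agent.Lib.H11.UnitaryFrames
import Cfsg.Agent.Lib.H11.InvCls5

/-!
# Pairs of complementary totally isotropic subspaces (part 3): eigenspaces of the elements of the
stabiliser

An element of `GU` fixing both subspaces has eigenspaces of even dimension (for eigenvalues of norm
one); an element interchanging them has eigenspaces of dimension at most `k`.
-/

set_option autoImplicit false
set_option linter.unusedSectionVars false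
set_option linter.unusedVariables false

namespace Cfsg.Agent.Lib.H11.SuDec

open Matrix Module
open Cfsg.Agent.S0837 (Bs Bs_apply Bs_symm Bs_nondeg)
open Cfsg.Agent.S0782 (gu_preserves)
open Cfsg.Agent.Lib.H11.SuPair (HPair B_swap_zero)
open Cfsg.Agent.Lib.H11.InvCls (finrank_ker_toLin')

variable {F : Type*} [Field F] [Fintype F] {n q k : ℕ} {φ : F →+* F}
variable {U₁ U₂ : Submodule F (Fin n → F)}

/-- a totally isotropic subspace has dimension at most `n / 2` -/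
theorem ts_bound (hφ2 : ∀ x, φ (φ x) = x) (W : Submodule F (Fin n → F))
    (hW : ∀ u ∈ W, ∀ v ∈ W, Bs φ n u v = 0) : 2 * finrank F W ≤ n := by
  have hsurj : Function.Surjective φ := fun x => ⟨φ x, hφ2 x⟩
  have h1 := Cfsg.Agent.Lib.H11.UFrames.finrank_orth hsurj (Bs φ n) (Bs_nondeg φ n) W
  have h2 : W ≤ Cfsg.Agent.Lib.H11.UFrames.orth (Bs φ n) W := by
    intro v hv w hw
    exact hW w hw v hv
  have h3 := Submodule.finrank_mono h2
  rw [h1, Module.finrank_fintype_fun_eq_card, Fintype.card_fin] at h3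
  omega

/-- the operator `g - μ` -/
noncomputable abbrev Tm (g : GL (Fin n) F) (μ : F) : (Fin n → F) →ₗ[F] (Fin n → F) :=
  Matrix.toLin' ((g : Matrix (Fin n) (Fin n) F) - μ • 1)

theorem Tm_apply (g : GL (Fin n) F) (μ : F) (x : Fin n → F) :
    Tm g μ x = (g : Matrix (Fin n) (Fin n) F) *ᵥ x - μ • x := by
  rw [Tm, Matrix.toLin'_apply, Matrix.sub_mulVec, Matrix.smul_mulVec, Matrix.one_mulVec]

theorem mem_ker_Tm (g : GL (Fin n) F) (μ : F) (x : Fin n → F) :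
    x ∈ LinearMap.ker (Tm g μ) ↔ (g : Matrix (Fin n) (Fin n) F) *ᵥ x = μ • x := by
  rw [LinearMap.mem_ker, Tm_apply, sub_eq_zero]

/-- the image of `g - μ` is orthogonal to the kernel, for a unitary `g` and `μ` of norm one -/
theorem Bs_Tm_ker (hφ : ∀ x, φ x = x ^ q) (g : GL (Fin n) F) (hg : g ∈ Cfsg.GU n F q) (μ : F)
    (hμ : μ * φ μ = 1) (w v : Fin n → F) (hv : v ∈ LinearMap.ker (Tm g μ)) :
    Bs φ n (Tm g μ w) v = 0 := by
  rw [mem_ker_Tm] at hv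
  have h1 : Bs φ n w v = μ * Bs φ n ((g : Matrix (Fin n) (Fin n) F) *ᵥ w) v := by
    have := gu_preserves φ hφ ⟨g, hg⟩ w v
    rw [← this]
    show Bs φ n ((g : Matrix (Fin n) (Fin n) F) *ᵥ w) ((g : Matrix (Fin n) (Fin n) F) *ᵥ v) = _
    rw [hv, map_smul, smul_eq_mul]
  rw [Tm_apply, map_sub, LinearMap.sub_apply, map_smulₛₗ, LinearMap.smul_apply, smul_eq_mul, h1]
  linear_combination (-(Bs φ n ((g : Matrix (Fin n) (Fin n) F) *ᵥ w) v)) * hμ

theorem finrank_map_add (T : (Fin n → F) →ₗ[F] (Fin n → F)) (U : Submodule F (Fin n → F)) :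
    finrank F (U.map T) + finrank F ↥(LinearMap.ker T ⊓ U) = finrank F U := by
  have h1 := LinearMap.finrank_range_add_finrank_ker (T.domRestrict U)
  rw [LinearMap.range_domRestrict, LinearMap.ker_domRestrict] at h1
  have h2 : finrank F ↥((LinearMap.ker T).comap U.subtype) = finrank F ↥(LinearMap.ker T ⊓ U) := by
    rw [← Submodule.finrank_map_subtype_eq U ((LinearMap.ker T).comap U.subtype),
      Submodule.map_comap_subtype, inf_comm]
  rw [h2] at h1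
  exact h1

/-- one inequality between the two halves of an eigenspace -/
theorem ker_inf_le (hφ : ∀ x, φ x = x ^ q) (hφ2 : ∀ x, φ (φ x) = x) (hP : HPair φ U₁ U₂ k)
    (g : GL (Fin n) F) (hg : g ∈ Cfsg.GU n F q)
    (h2 : ∀ x ∈ U₂, (g : Matrix (Fin n) (Fin n) F) *ᵥ x ∈ U₂) (μ : F) (hμ : μ * φ μ = 1) :
    finrank F ↥(LinearMap.ker (Tm g μ) ⊓ U₁) ≤ finrank F ↥(LinearMap.ker (Tm g μ) ⊓ U₂) := by
  set T := Tm g μ with hT
  set K₁ := LinearMap.ker T ⊓ U₁ with hK₁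
  set I₂ := U₂.map T with hI₂
  have hI₂le : I₂ ≤ U₂ := by
    rintro _ ⟨x, hx, rfl⟩
    rw [hT, Tm_apply]
    exact U₂.sub_mem (h2 x hx) (U₂.smul_mem _ hx)
  have hn := HPair.two_mul hP
  have hdisj : K₁ ⊓ I₂ = ⊥ := by
    rw [eq_bot_iff]
    intro x hx
    have : x ∈ U₁ ⊓ U₂ := ⟨hx.1.2, hI₂le hx.2⟩
    rw [hP.disj] at this
    exact this
  have hts : ∀ u ∈ K₁ ⊔ I₂, ∀ v ∈ K₁ ⊔ I₂, Bs φ n u v = 0 := by
    intro u hu v hv
    obtain ⟨u₁, hu₁, u₂, hu₂, rfl⟩ := Submodule.mem_sup.1 hu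
    obtain ⟨v₁, hv₁, v₂, hv₂, rfl⟩ := Submodule.mem_sup.1 hv
    obtain ⟨a, ha, rfl⟩ := hu₂
    obtain ⟨c, hc, rfl⟩ := hv₂
    have e1 : Bs φ n u₁ v₁ = 0 := hP.iso₁ _ hu₁.2 _ hv₁.2
    have e2 : Bs φ n (T a) (T c) = 0 :=
      hP.iso₂ _ (hI₂le ⟨a, ha, rfl⟩) _ (hI₂le ⟨c, hc, rfl⟩)
    have e3 : Bs φ n (T a) v₁ = 0 := Bs_Tm_ker hφ g hg μ hμ a v₁ hv₁.1
    have e4 : Bs φ n u₁ (T c) = 0 := B_swap_zero hφ2 (Bs_Tm_ker hφ g hg μ hμ c u₁ hu₁.1)
    simp only [map_add, LinearMap.add_apply, e1, e2, e3, e4, add_zero]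
  have hb := ts_bound hφ2 (K₁ ⊔ I₂) hts
  have h1 := Submodule.finrank_sup_add_finrank_inf_eq K₁ I₂
  rw [hdisj, finrank_bot, add_zero] at h1
  have h3 : finrank F ↥I₂ + finrank F ↥(LinearMap.ker T ⊓ U₂) = finrank F ↥U₂ :=
    finrank_map_add T U₂
  rw [hP.fr₂] at h3
  omega

/-- an element of `GU` fixing both subspaces has eigenspaces of even dimension -/
theorem even_finrank_ker (hφ : ∀ x, φ x = x ^ q) (hφ2 : ∀ x, φ (φ x) = x)
    (hP : HPair φ U₁ U₂ k) (g : GL (Fin n) F) (hg : g ∈ Cfsg.GU n F q)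
    (h1 : ∀ x ∈ U₁, (g : Matrix (Fin n) (Fin n) F) *ᵥ x ∈ U₁)
    (h2 : ∀ x ∈ U₂, (g : Matrix (Fin n) (Fin n) F) *ᵥ x ∈ U₂) (μ : F) (hμ : μ * φ μ = 1) :
    Even (finrank F ↥(LinearMap.ker (Tm g μ))) := by
  have ha := ker_inf_le hφ hφ2 hP g hg h2 μ hμ
  have hb := ker_inf_le hφ hφ2 hP.symm g hg h1 μ hμ
  set K := LinearMap.ker (Tm g μ) with hK
  have hsup : (K ⊓ U₁) ⊔ (K ⊓ U₂) = K := by
    apply le_antisymm
    · exact sup_le inf_le_left inf_le_left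
    · intro v hv
      obtain ⟨v₁, hv₁, v₂, hv₂, rfl⟩ := hP.span v
      have hT1 : Tm g μ v₁ ∈ U₁ := by
        rw [Tm_apply]
        exact U₁.sub_mem (h1 _ hv₁) (U₁.smul_mem _ hv₁)
      have hT2 : Tm g μ v₂ ∈ U₂ := by
        rw [Tm_apply]
        exact U₂.sub_mem (h2 _ hv₂) (U₂.smul_mem _ hv₂)
      have hsum : Tm g μ v₁ + Tm g μ v₂ = 0 := by
        rw [← map_add]
        exact hv
      have h12 : Tm g μ v₁ = -Tm g μ v₂ := eq_neg_of_add_eq_zero_left hsum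
      have hin : Tm g μ v₁ ∈ U₁ ⊓ U₂ := ⟨hT1, by rw [h12]; exact U₂.neg_mem hT2⟩
      rw [hP.disj, Submodule.mem_bot] at hin
      have hin2 : Tm g μ v₂ = 0 := by
        rw [hin, zero_add] at hsum
        exact hsum
      exact Submodule.add_mem_sup ⟨hin, hv₁⟩ ⟨hin2, hv₂⟩
  have hinf : (K ⊓ U₁) ⊓ (K ⊓ U₂) = ⊥ := by
    rw [eq_bot_iff]
    intro x hx
    have : x ∈ U₁ ⊓ U₂ := ⟨hx.1.2, hx.2.2⟩
    rw [hP.disj] at this
    exact this
  have h3 := Submodule.finrank_sup_add_finrank_inf_eq (K ⊓ U₁) (K ⊓ U₂)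
  rw [hsup, hinf, finrank_bot, add_zero] at h3
  exact ⟨finrank F ↥(K ⊓ U₁), by omega⟩

/-- an element interchanging the two subspaces has small eigenspaces -/
theorem finrank_ker_le_of_swap (hP : HPair φ U₁ U₂ k) (g : GL (Fin n) F)
    (h1 : ∀ x ∈ U₁, (g : Matrix (Fin n) (Fin n) F) *ᵥ x ∈ U₂) (μ : F) (hμ : μ ≠ 0) :
    finrank F ↥(LinearMap.ker (Tm g μ)) ≤ k := by
  set K := LinearMap.ker (Tm g μ) with hK
  have hinf : K ⊓ U₁ = ⊥ := by
    rw [eq_bot_iff]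
    intro x hx
    have hx1 := (mem_ker_Tm g μ x).1 hx.1
    have hx2 : μ • x ∈ U₂ := by
      rw [← hx1]
      exact h1 x hx.2
    have hx3 : x ∈ U₂ := by
      have := U₂.smul_mem μ⁻¹ hx2
      rwa [smul_smul, inv_mul_cancel₀ hμ, one_smul] at this
    have : x ∈ U₁ ⊓ U₂ := ⟨hx.2, hx3⟩
    rw [hP.disj] at this
    exact this
  have h3 := Submodule.finrank_sup_add_finrank_inf_eq K U₁
  rw [hinf, finrank_bot, add_zero, hP.fr₁] at h3
  have h4 := Submodule.finrank_le (K ⊔ U₁)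
  rw [Module.finrank_fintype_fun_eq_card, Fintype.card_fin] at h4
  have hn := HPair.two_mul hP
  omega

/-- the rank of `x - μ` is invariant under conjugation -/
theorem rank_conj (g x : GL (Fin n) F) (μ : F) :
    (((g⁻¹ * x * g : GL (Fin n) F) : Matrix (Fin n) (Fin n) F) - μ • 1).rank =
      ((x : Matrix (Fin n) (Fin n) F) - μ • 1).rank := by
  have h1 : ((g⁻¹ * x * g : GL (Fin n) F) : Matrix (Fin n) (Fin n) F) - μ • 1 =
      ((g⁻¹ : GL (Fin n) F) : Matrix (Fin n) (Fin n) F) *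
        ((x : Matrix (Fin n) (Fin n) F) - μ • 1) * (g : Matrix (Fin n) (Fin n) F) := by
    have e : ((g⁻¹ : GL (Fin n) F) : Matrix (Fin n) (Fin n) F) * (g : Matrix (Fin n) (Fin n) F) = 1 := by
      rw [← Units.val_mul, inv_mul_cancel, Units.val_one]
    rw [Matrix.mul_sub, Matrix.sub_mul, Units.val_mul, Units.val_mul, Matrix.mul_smul,
      Matrix.mul_one, Matrix.smul_mul, e]
  have hg : IsUnit (g : Matrix (Fin n) (Fin n) F).det :=
    (Matrix.isUnit_iff_isUnit_det _).1 g.isUnit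
  have hgi : IsUnit ((g⁻¹ : GL (Fin n) F) : Matrix (Fin n) (Fin n) F).det :=
    (Matrix.isUnit_iff_isUnit_det _).1 (g⁻¹).isUnit
  rw [h1, Matrix.rank_mul_eq_left_of_isUnit_det _ _ hg,
    Matrix.rank_mul_eq_right_of_isUnit_det _ _ hgi]

theorem finrank_ker_Tm (g : GL (Fin n) F) (μ : F) :
    finrank F ↥(LinearMap.ker (Tm g μ)) + ((g : Matrix (Fin n) (Fin n) F) - μ • 1).rank = n :=
  finrank_ker_toLin' _

variable {D : Fin 2 → Submodule F (Fin n → F)}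

/-- criterion A: a unitary element with `rank (y - μ) = 1` is not in the stabiliser -/
theorem not_mem_stab_of_rank_one (hφ : ∀ x, φ x = x ^ q) (hφ2 : ∀ x, φ (φ x) = x)
    (hP : HPair φ (D 0) (D 1) k) (hk : 2 ≤ k) (y : GL (Fin n) F) (hy : y ∈ Cfsg.GU n F q)
    (μ : F) (hμ : μ * φ μ = 1)
    (hrank : ((y : Matrix (Fin n) (Fin n) F) - μ • 1).rank = 1) :
    y ∉ Cfsg.Geo.decompositionStabilizer D := by
  intro hmem
  have hn := HPair.two_mul hP
  have hfr := finrank_ker_Tm y μ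
  rw [hrank] at hfr
  have hμ0 : μ ≠ 0 := by
    rintro rfl
    rw [zero_mul] at hμ
    exact zero_ne_one hμ
  rcases Cfsg.Agent.Lib.H11.PairStab.cases_of_mem_stab y hmem with ⟨h1, h2⟩ | ⟨h1, h2⟩
  · obtain ⟨m, hm⟩ := even_finrank_ker hφ hφ2 hP y hy h1 h2 μ hμ
    omega
  · have := finrank_ker_le_of_swap hP y h1 μ hμ0
    omega

/-- odd powers of an interchanging element interchange -/
theorem swap_pow (y : GL (Fin n) F)
    (h1 : ∀ x ∈ U₁, (y : Matrix (Fin n) (Fin n) F) *ᵥ x ∈ U₂)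
    (h2 : ∀ x ∈ U₂, (y : Matrix (Fin n) (Fin n) F) *ᵥ x ∈ U₁) (m : ℕ) :
    ∀ x ∈ U₁, ((y ^ (2 * m + 1) : GL (Fin n) F) : Matrix (Fin n) (Fin n) F) *ᵥ x ∈ U₂ := by
  induction m with
  | zero =>
    intro x hx
    rw [Nat.mul_zero, zero_add, pow_one]
    exact h1 x hx
  | succ m ih =>
    intro x hx
    have e : 2 * (m + 1) + 1 = (2 * m + 1) + 1 + 1 := by ring
    rw [e, pow_succ, pow_succ, Units.val_mul, Units.val_mul, ← Matrix.mulVec_mulVec,
      ← Matrix.mulVec_mulVec]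
    exact ih _ (h2 _ (h1 x hx))

/-- criterion B: a unitary element of odd order modulo scalars with `rank (y - μ)` odd is not in
the stabiliser -/
theorem not_mem_stab_of_odd (hφ : ∀ x, φ x = x ^ q) (hφ2 : ∀ x, φ (φ x) = x)
    (hP : HPair φ (D 0) (D 1) k) (hk : 1 ≤ k) (y : GL (Fin n) F) (hy : y ∈ Cfsg.GU n F q)
    (r : ℕ) (hr : Odd r) (z : F)
    (hyr : ((y ^ r : GL (Fin n) F) : Matrix (Fin n) (Fin n) F) = z • 1)
    (μ : F) (hμ : μ * φ μ = 1)
    (hrank : Odd ((y : Matrix (Fin n) (Fin n) F) - μ • 1).rank) :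
    y ∉ Cfsg.Geo.decompositionStabilizer D := by
  intro hmem
  have hn := HPair.two_mul hP
  have hfr := finrank_ker_Tm y μ
  rcases Cfsg.Agent.Lib.H11.PairStab.cases_of_mem_stab y hmem with ⟨h1, h2⟩ | ⟨h1, h2⟩
  · obtain ⟨m, hm⟩ := even_finrank_ker hφ hφ2 hP y hy h1 h2 μ hμ
    obtain ⟨m', hm'⟩ := hrank
    omega
  · obtain ⟨m, rfl⟩ := hr
    -- a nonzero vector of `U₁`
    have hne : D 0 ≠ ⊥ := by
      intro h0
      have := hP.fr₁
      rw [h0, finrank_bot] at this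
      omega
    obtain ⟨x, hx, hx0⟩ := Submodule.exists_mem_ne_zero_of_ne_bot hne
    have h3 := swap_pow y h1 h2 m x hx
    rw [hyr, Matrix.smul_mulVec, Matrix.one_mulVec] at h3
    have h4 : z • x ∈ D 0 := (D 0).smul_mem z hx
    have h5 : z • x ∈ D 0 ⊓ D 1 := ⟨h4, h3⟩
    rw [hP.disj, Submodule.mem_bot] at h5
    have hz : z = 0 := by
      rcases smul_eq_zero.1 h5 with h | h
      · exact h
      · exact absurd h hx0
    have h6 : ((y ^ (2 * m + 1) : GL (Fin n) F) : Matrix (Fin n) (Fin n) F) *ᵥ x = 0 := by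
      rw [hyr, hz, zero_smul, Matrix.zero_mulVec]
    have h7 := Cfsg.Agent.Lib.H11.SubspMax.gl_inv_mulVec (y ^ (2 * m + 1)) x
    rw [h6, Matrix.mulVec_zero] at h7
    exact hx0 h7.symm

end Cfsg.Agent.Lib.H11.SuDec
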