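import Cfsg.Agent.Lib.H11.UniR3
import Cfsg.Agent.Lib.H12.UCommE

/-!
# Unitary-type subgroups of `SL_n(q₀²)` (part 4): orders and the index
-/

set_option autoImplicit false
set_option linter.unusedSectionVars false

namespace Cfsg.Agent.Lib.H11.UniR

open Matrix Polynomial Module Cfsg.Agent.Lib.H13.AutPSU Cfsg.Agent.Lib.H13
  Cfsg.Agent.Lib.H11.InvCls Cfsg.Agent.Lib.H11.SubfR Cfsg.Agent.Lib.H11.HermNorm

section card

variable {F : Type*} [Field F] [Fintype F] {n : ℕ}

theorem range_toGL :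
    (Matrix.SpecialLinearGroup.toGL : Matrix.SpecialLinearGroup (Fin n) F →* GL (Fin n) F).range =
      Cfsg.Geo.specialLinear (Fin n) F := by
  ext g
  rw [Cfsg.Agent.Lib.H28.mem_specialLinear_iff, MonoidHom.mem_range]
  constructor
  · rintro ⟨s, rfl⟩
    exact s.2
  · intro h
    exact ⟨⟨(g : Matrix (Fin n) (Fin n) F), h⟩, Units.ext rfl⟩

theorem card_specialLinear :
    Nat.card ↥(Cfsg.Geo.specialLinear (Fin n) F) =
      Nat.card (Matrix.SpecialLinearGroup (Fin n) F) := by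
  rw [← range_toGL]
  exact (Nat.card_congr (MonoidHom.ofInjective
    (Matrix.SpecialLinearGroup.toGL_injective (n := Fin n) (R := F))).toEquiv).symm

/-- the `r`-part of `|SU_n(q₀)|` for `r ∤ q₀` -/
theorem vr_card_SU {q₀ : ℕ} (hF : Fintype.card F = q₀ ^ 2) (r : ℕ) [Fact r.Prime]
    (hrq₀ : ¬ r ∣ q₀) (hn : 1 ≤ n) :
    padicValNat r (Nat.card ↥(Cfsg.SU n F q₀)) =
      ∑ i ∈ Finset.range (n - 1), padicValNat r
        (if Even (i + 1) then q₀ ^ (i + 2) + 1 else q₀ ^ (i + 2) - 1) := by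
  have hq₀2 : 2 ≤ q₀ := Cfsg.Agent.Lib.H2.Herm.two_le_q hF
  rw [Cfsg.Agent.Lib.H12.UComm.card_SU_eq hF n hn]
  have hfac : ∀ i, (if Even (i + 1) then q₀ ^ (i + 2) + 1 else q₀ ^ (i + 2) - 1) ≠ 0 := by
    intro i
    have : 2 ≤ q₀ ^ (i + 2) := by
      calc 2 ≤ q₀ := hq₀2
        _ = q₀ ^ 1 := (pow_one _).symm
        _ ≤ q₀ ^ (i + 2) := Nat.pow_le_pow_right (by omega) (by omega)
    split_ifs <;> omega
  have hprod : ∀ m : ℕ, (∏ i ∈ Finset.range m,
      (if Even (i + 1) then q₀ ^ (i + 2) + 1 else q₀ ^ (i + 2) - 1)) ≠ 0 ∧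
      padicValNat r (∏ i ∈ Finset.range m,
        (if Even (i + 1) then q₀ ^ (i + 2) + 1 else q₀ ^ (i + 2) - 1)) =
      ∑ i ∈ Finset.range m, padicValNat r
        (if Even (i + 1) then q₀ ^ (i + 2) + 1 else q₀ ^ (i + 2) - 1) := by
    intro m
    induction m with
    | zero => simp
    | succ m ih =>
      rw [Finset.prod_range_succ, Finset.sum_range_succ]
      refine ⟨mul_ne_zero ih.1 (hfac m), ?_⟩
      rw [padicValNat.mul ih.1 (hfac m), ih.2]
  rw [padicValNat.mul (by positivity) (hprod _).1, padicValNat.pow,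
    padicValNat.eq_zero_of_not_dvd hrq₀, mul_zero, zero_add, (hprod _).2]

end card

section index

variable {F : Type*} [Field F] [Fintype F] {n q₀ : ℕ} (D : UF F q₀)
  {f : (Fin n → F) → (Fin n → F) → F}

include D in
/-- a copy of `SU_n(q₀)` inside the unitary-type subgroup -/
theorem exists_SU_le (hf : Cfsg.Geo.IsUnitaryFormPow q₀ f) :
    ∃ S : Subgroup (GL (Fin n) F),
      S ≤ Cfsg.Geo.similarityGroup f ⊓ Cfsg.Geo.specialLinear (Fin n) F ∧
      Nat.card ↥S = Nat.card ↥(Cfsg.SU n F q₀) := by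
  have hdet := det_gramT_ne_zero D hf
  have hdetu : IsUnit (gramT f).det := isUnit_iff_ne_zero.mpr hdet
  obtain ⟨C₂, hC₂, hC₂u, -⟩ := exists_norm D (gramT f) (gramT f)⁻¹ (ct_gramT D hf)
    (Matrix.mul_nonsing_inv _ hdetu) (Matrix.nonsing_inv_mul _ hdetu)
  obtain ⟨c, rfl⟩ := hC₂u
  set ψ : ↥(Cfsg.SU n F q₀) →* GL (Fin n) F :=
    ((MulAut.conj (c⁻¹ : GL (Fin n) F)).toMonoidHom.comp
      (Matrix.SpecialLinearGroup.toGL : Matrix.SpecialLinearGroup (Fin n) F →* GL (Fin n) F)).comp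
      (Cfsg.SU n F q₀).subtype with hψ
  have hψinj : Function.Injective ψ := by
    intro s t hst
    have h1 : (MulAut.conj (c⁻¹ : GL (Fin n) F)) (Matrix.SpecialLinearGroup.toGL s.1) =
        (MulAut.conj (c⁻¹ : GL (Fin n) F)) (Matrix.SpecialLinearGroup.toGL t.1) := hst
    have h2 := (MulAut.conj (c⁻¹ : GL (Fin n) F)).injective h1
    exact Subtype.ext (Matrix.SpecialLinearGroup.toGL_injective h2)
  refine ⟨ψ.range, ?_, (Nat.card_congr (MonoidHom.ofInjective hψinj).toEquiv).symm⟩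
  rintro g ⟨s, rfl⟩
  have hval : ((ψ s : GL (Fin n) F) : Matrix (Fin n) (Fin n) F) =
      ((c⁻¹ : GL (Fin n) F) : Matrix (Fin n) (Fin n) F) * mat s *
        (c : Matrix (Fin n) (Fin n) F) := by
    show (((c⁻¹ : GL (Fin n) F) * Matrix.SpecialLinearGroup.toGL s.1 * (c⁻¹ : GL (Fin n) F)⁻¹ :
      GL (Fin n) F) : Matrix (Fin n) (Fin n) F) = _
    rw [inv_inv, Units.val_mul, Units.val_mul]
    rfl
  refine ⟨?_, ?_⟩
  · -- a similarity
    have hu : ct D (mat s) * mat s = 1 :=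
      (H_eq_one_iff_ct D (mat s)).1 (fun u v => H_sv D s u v)
    have hci : ct D ((c⁻¹ : GL (Fin n) F) : Matrix (Fin n) (Fin n) F) *
        ct D (c : Matrix (Fin n) (Fin n) F) = 1 := by
      rw [← ct_mul, Units.mul_inv, ct_one]
    apply smul_mem_sim D hf (ψ s) 1 one_ne_zero _ _ (by rw [one_smul])
    rw [hval, ← hC₂, ct_mul, ct_mul]
    calc ct D (c : Matrix (Fin n) (Fin n) F) * (ct D (mat s) *
          ct D ((c⁻¹ : GL (Fin n) F) : Matrix (Fin n) (Fin n) F)) *
          (ct D (c : Matrix (Fin n) (Fin n) F) * (c : Matrix (Fin n) (Fin n) F)) *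
          (((c⁻¹ : GL (Fin n) F) : Matrix (Fin n) (Fin n) F) * mat s *
            (c : Matrix (Fin n) (Fin n) F))
        = ct D (c : Matrix (Fin n) (Fin n) F) * (ct D (mat s) *
          ((ct D ((c⁻¹ : GL (Fin n) F) : Matrix (Fin n) (Fin n) F) *
          ct D (c : Matrix (Fin n) (Fin n) F)) * ((c : Matrix (Fin n) (Fin n) F) *
          ((c⁻¹ : GL (Fin n) F) : Matrix (Fin n) (Fin n) F))) * mat s) *
            (c : Matrix (Fin n) (Fin n) F) := by simp only [Matrix.mul_assoc]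
      _ = ct D (c : Matrix (Fin n) (Fin n) F) * (c : Matrix (Fin n) (Fin n) F) := by
          rw [hci, Units.mul_inv, Matrix.mul_one, Matrix.mul_one, hu, Matrix.mul_one]
  · -- determinant one
    show ψ s ∈ Cfsg.Geo.specialLinear (Fin n) F
    rw [Cfsg.Agent.Lib.H28.mem_specialLinear_iff, hval, Matrix.det_mul, Matrix.det_mul, mat_det,
      mul_one, ← Matrix.det_mul, Units.inv_mul, Matrix.det_one]

include D in
/-- if the `r`-parts of `|SL_n(q)|` and `|SU_n(q₀)|` agree then `r` does not divide the index of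
the unitary-type subgroup -/
theorem not_dvd_relIndex (hf : Cfsg.Geo.IsUnitaryFormPow q₀ f) (hF : Fintype.card F = q₀ ^ 2)
    (hn : 1 ≤ n) (r : ℕ) [Fact r.Prime] (hrq₀ : ¬ r ∣ q₀)
    (h : ∀ i, i < n - 1 → padicValNat r (Fintype.card F ^ (i + 2) - 1) =
      padicValNat r (if Even (i + 1) then q₀ ^ (i + 2) + 1 else q₀ ^ (i + 2) - 1)) :
    ¬ r ∣ (Cfsg.Geo.similarityGroup f).relIndex (Cfsg.Geo.specialLinear (Fin n) F) := by
  have hr : r.Prime := Fact.out
  have hrq : ¬ r ∣ Fintype.card F := by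
    rw [hF]
    intro hd
    exact hrq₀ (hr.dvd_of_dvd_pow hd)
  obtain ⟨S, hS, hScard⟩ := exists_SU_le D hf
  set K := Cfsg.Geo.specialLinear (Fin n) F with hK
  have hSK : S ≤ K := hS.trans inf_le_right
  have hSH : S ≤ Cfsg.Geo.similarityGroup f := hS.trans inf_le_left
  have h1 : (Cfsg.Geo.similarityGroup f).relIndex K ∣ S.relIndex K :=
    Subgroup.relIndex_dvd_of_le_left K hSH
  have h2 : Nat.card ↥S * S.relIndex K = Nat.card ↥K := by
    have e1 := Subgroup.card_mul_index (S.subgroupOf K)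
    have e2 : Nat.card ↥(S.subgroupOf K) = Nat.card ↥S :=
      Nat.card_congr (Subgroup.subgroupOfEquivOfLe hSK).toEquiv
    rw [e2] at e1
    exact e1
  have h3 : padicValNat r (Nat.card ↥K) = padicValNat r (Nat.card ↥S) := by
    rw [hK, card_specialLinear, vr_card_SL r hrq n hn, hScard, vr_card_SU hF r hrq₀ hn]
    apply Finset.sum_congr rfl
    intro i hi
    rw [Finset.mem_range] at hi
    exact h i hi
  have hidx0 : S.relIndex K ≠ 0 := by
    intro h0
    rw [h0, mul_zero] at h2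
    exact Nat.card_pos.ne' h2.symm
  rw [← h2, padicValNat.mul Nat.card_pos.ne' hidx0] at h3
  have h4 : padicValNat r (S.relIndex K) = 0 := by omega
  intro hd
  have := one_le_padicValNat_of_dvd hidx0 (hd.trans h1)
  omega

/-- if `r` divides the index then `r` divides `q ^ j - 1` for some `2 ≤ j ≤ n` -/
theorem exists_dvd_of_dvd_relIndex (hn : 1 ≤ n) (r : ℕ) [Fact r.Prime]
    (hrq : ¬ r ∣ Fintype.card F) (H : Subgroup (GL (Fin n) F))
    (h : r ∣ H.relIndex (Cfsg.Geo.specialLinear (Fin n) F)) :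
    ∃ j, 2 ≤ j ∧ j ≤ n ∧ r ∣ Fintype.card F ^ j - 1 := by
  have h1 : r ∣ Nat.card (Matrix.SpecialLinearGroup (Fin n) F) := by
    rw [← card_specialLinear]
    exact h.trans (Subgroup.relIndex_dvd_card _ _)
  have h2 := one_le_padicValNat_of_dvd Nat.card_pos.ne' h1
  rw [vr_card_SL r hrq n hn] at h2
  by_contra hcon
  push Not at hcon
  have : ∑ k ∈ Finset.range (n - 1), padicValNat r (Fintype.card F ^ (k + 2) - 1) = 0 := by
    apply Finset.sum_eq_zero
    intro k hk
    rw [Finset.mem_range] at hk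
    exact padicValNat.eq_zero_of_not_dvd (hcon (k + 2) (by omega) (by omega))
  omega

end index

end Cfsg.Agent.Lib.H11.UniR
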