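import Cfsg.Agent.Lib.H11.SuDec3
import Cfsg.Agent.Lib.H11.UniR4

/-!
# Pairs of complementary totally isotropic subspaces (part 4): the order of the stabiliser

If a prime `r ∤ q` divides the index of the stabiliser in `SU_n(q)` then `r ∣ q ^ j + 1` for some
odd `j < n`.
-/

set_option autoImplicit false
set_option linter.unusedSectionVars false
set_option linter.unusedVariables false

namespace Cfsg.Agent.Lib.H11.SuDec

open Matrix Module
open Cfsg.Agent.Lib.H13.AutPSU
open Cfsg.Agent.Lib.H11.SuPair (HPair)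

variable {F : Type*} [Field F] [Fintype F] {n q k : ℕ}

/-- `SU` as a subgroup of `GL` -/
theorem map_SU_eq : (Cfsg.SU n F q).map
    (Matrix.SpecialLinearGroup.toGL : Matrix.SpecialLinearGroup (Fin n) F →* GL (Fin n) F) =
      Cfsg.GU n F q ⊓ Cfsg.Geo.specialLinear (Fin n) F := by
  ext g
  constructor
  · rintro ⟨s, hs, rfl⟩
    refine ⟨?_, ?_⟩
    · intro u v
      exact hs u v
    · exact (Cfsg.Agent.Lib.H28.mem_specialLinear_iff _).2 s.2
  · rintro ⟨hg1, hg2⟩
    have hg2 := (Cfsg.Agent.Lib.H28.mem_specialLinear_iff g).1 hg2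
    refine ⟨⟨(g : Matrix (Fin n) (Fin n) F), hg2⟩, ?_, ?_⟩
    · intro u v
      exact hg1 u v
    · apply Units.ext
      rfl

theorem card_GU_inf_SL :
    Nat.card ↥(Cfsg.GU n F q ⊓ Cfsg.Geo.specialLinear (Fin n) F) = Nat.card ↥(Cfsg.SU n F q) := by
  rw [← map_SU_eq]
  exact (Nat.card_congr ((Cfsg.SU n F q).equivMapOfInjective _
    (Matrix.SpecialLinearGroup.toGL_injective (n := Fin n) (R := F))).toEquiv).symm

/-- the homomorphism `u ↦ u / τ u` on units -/
def nrm (D : UF F q) : Fˣ →* Fˣ :=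
  MonoidHom.id Fˣ / Units.map ((D.τ : F →+* F) : F →* F)

theorem nrm_val (D : UF F q) (u : Fˣ) : ((nrm D u : Fˣ) : F) = (u : F) / D.τ (u : F) := by
  show ((u / Units.map ((D.τ : F →+* F) : F →* F) u : Fˣ) : F) = _
  rw [Units.val_div_eq_div_val]
  rfl

theorem nrm_pow (D : UF F q) (hF : Fintype.card F = q ^ 2) (u : Fˣ) : nrm D u ^ (q + 1) = 1 := by
  apply Units.ext
  rw [Units.val_pow_eq_pow_val, nrm_val, Units.val_one, D.hτ, div_pow]
  have hu : (u : F) ≠ 0 := u.ne_zero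
  have h1 : ((u : F) ^ q) ^ (q + 1) = (u : F) ^ (q + 1) := by
    rw [← pow_mul]
    have : q * (q + 1) = q ^ 2 + q := by ring
    rw [this, pow_add, ← hF, FiniteField.pow_card, pow_succ']
  rw [h1, div_self (pow_ne_zero _ hu)]

theorem card_range_nrm_dvd (D : UF F q) (hF : Fintype.card F = q ^ 2) {G : Type*} [Group G]
    (f : G →* Fˣ) : Nat.card ↥((nrm D).comp f).range ∣ q + 1 := by
  have hcyc : IsCyclic ↥((nrm D).comp f).range := inferInstance
  rw [← IsCyclic.exponent_eq_card, Monoid.exponent_dvd_iff_forall_pow_eq_one]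
  rintro ⟨y, a, rfl⟩
  apply Subtype.ext
  show ((nrm D).comp f) a ^ (q + 1) = 1
  exact nrm_pow D hF (f a)

variable {D : UF F q} {Dd : Fin 2 → Submodule F (Fin n → F)}

/-- the subgroup of `GL_k` mapped into `SL_n` -/
def G₀ (D : UF F q) (k : ℕ) : Subgroup (GL (Fin k) F) :=
  ((nrm D).comp (Matrix.GeneralLinearGroup.det : GL (Fin k) F →* Fˣ)).ker

theorem index_G₀_dvd (hF : Fintype.card F = q ^ 2) : (G₀ D k).index ∣ q + 1 := by
  unfold G₀
  rw [Subgroup.index_ker]
  exact card_range_nrm_dvd D hF _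

theorem psi_mem_SL (b : Frame D n k) (A : GL (Fin k) F) (hA : A ∈ G₀ D k) :
    b.psi A ∈ Cfsg.Geo.specialLinear (Fin n) F := by
  rw [Cfsg.Agent.Lib.H28.mem_specialLinear_iff, b.psi_det]
  have h1 : nrm D (Matrix.GeneralLinearGroup.det A) = 1 := hA
  have h2 := congrArg (fun u : Fˣ => (u : F)) h1
  simp only [nrm_val, Units.val_one] at h2
  have h3 : ((Matrix.GeneralLinearGroup.det A : Fˣ) : F) = (A : Matrix (Fin k) (Fin k) F).det := rfl
  rw [h3] at h2
  have h4 : (A : Matrix (Fin k) (Fin k) F).det *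
      ((A⁻¹ : GL (Fin k) F) : Matrix (Fin k) (Fin k) F).det = 1 := by
    rw [← Matrix.det_mul, ← Units.val_mul, mul_inv_cancel, Units.val_one, Matrix.det_one]
  have h5 : (A : Matrix (Fin k) (Fin k) F).det ≠ 0 := left_ne_zero_of_mul_eq_one h4
  have h6 : ((A⁻¹ : GL (Fin k) F) : Matrix (Fin k) (Fin k) F).det =
      ((A : Matrix (Fin k) (Fin k) F).det)⁻¹ := eq_inv_of_mul_eq_one_right h4
  rw [h6, map_inv₀, ← div_eq_mul_inv]
  exact h2

theorem psi_mem_stab (b : Frame D n k) (h1 : b.U₁ = Dd 0) (h2 : b.U₂ = Dd 1)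
    (A : GL (Fin k) F) : b.psi A ∈ Cfsg.Geo.decompositionStabilizer Dd := by
  apply Cfsg.Agent.Lib.H11.PairStab.mem_stab_of_stab2
  · intro x hx
    rw [← h1] at hx ⊢
    rw [b.psi_val]
    exact b.psiM_mem_U₁ _ _ x hx
  · intro x hx
    rw [← h2] at hx ⊢
    rw [b.psi_val]
    exact b.psiM_mem_U₂ _ _ x hx

theorem sum_split (g : ℕ → ℕ) (k : ℕ) :
    ∑ i ∈ Finset.range (2 * k + 1), g i =
      ∑ l ∈ Finset.range (k + 1), g (2 * l) + ∑ l ∈ Finset.range k, g (2 * l + 1) := by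
  induction k with
  | zero => simp
  | succ k ih =>
    have e : 2 * (k + 1) + 1 = (2 * k + 1) + 1 + 1 := by ring
    have a1 : ∑ l ∈ Finset.range (k + 1 + 1), g (2 * l) =
        ∑ l ∈ Finset.range (k + 1), g (2 * l) + g (2 * (k + 1)) := Finset.sum_range_succ _ _
    have a2 : ∑ l ∈ Finset.range (k + 1), g (2 * l + 1) =
        ∑ l ∈ Finset.range k, g (2 * l + 1) + g (2 * k + 1) := Finset.sum_range_succ _ _
    rw [e, Finset.sum_range_succ, Finset.sum_range_succ, ih, a1, a2]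
    have e2 : 2 * k + 1 + 1 = 2 * (k + 1) := by ring
    rw [e2]
    omega

/-- if `r ∤ q` divides the index of the stabiliser then `r ∣ q ^ j + 1` for some odd `j < n` -/
theorem exists_odd_dvd (hF : Fintype.card F = q ^ 2) (hP : HPair (phi D) (Dd 0) (Dd 1) k)
    (hk : 1 ≤ k) (r : ℕ) [Fact r.Prime] (hrq : ¬ r ∣ q)
    (hΩ : r ∣ (Cfsg.Geo.decompositionStabilizer Dd).relIndex
      (Cfsg.GU n F q ⊓ Cfsg.Geo.specialLinear (Fin n) F)) :
    ∃ j, Odd j ∧ j + 1 ≤ n ∧ r ∣ q ^ j + 1 := by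
  classical
  have hr : r.Prime := Fact.out
  have hn := HPair.two_mul hP
  have hq2 : 2 ≤ q := Cfsg.Agent.Lib.H2.Herm.two_le_q hF
  obtain ⟨b, hb1, hb2⟩ := exists_frame hP
  set K := Cfsg.GU n F q ⊓ Cfsg.Geo.specialLinear (Fin n) F with hK
  set Hs := Cfsg.Geo.decompositionStabilizer Dd with hHs
  set S := (G₀ D k).map b.psi with hS
  have hSK : S ≤ K := by
    rintro _ ⟨A, hA, rfl⟩
    exact ⟨b.psi_mem_GU A, psi_mem_SL b A hA⟩
  have hSH : S ≤ Hs := by
    rintro _ ⟨A, hA, rfl⟩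
    exact psi_mem_stab b hb1 hb2 A
  have hScard : Nat.card ↥S = Nat.card ↥(G₀ D k) :=
    (Nat.card_congr ((G₀ D k).equivMapOfInjective _ b.psi_injective).toEquiv).symm
  have h1 : Hs.relIndex K ∣ S.relIndex K := Subgroup.relIndex_dvd_of_le_left K hSH
  have h2 : Nat.card ↥S * S.relIndex K = Nat.card ↥K := by
    have e1 := Subgroup.card_mul_index (S.subgroupOf K)
    have e2 : Nat.card ↥(S.subgroupOf K) = Nat.card ↥S :=
      Nat.card_congr (Subgroup.subgroupOfEquivOfLe hSK).toEquiv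
    rw [e2] at e1
    exact e1
  have hidx0 : S.relIndex K ≠ 0 := by
    intro h0
    rw [h0, mul_zero] at h2
    exact Nat.card_pos.ne' h2.symm
  have h3 : 1 ≤ padicValNat r (S.relIndex K) :=
    one_le_padicValNat_of_dvd hidx0 (hΩ.trans h1)
  have h4 : padicValNat r (Nat.card ↥K) =
      padicValNat r (Nat.card ↥(G₀ D k)) + padicValNat r (S.relIndex K) := by
    rw [← h2, padicValNat.mul Nat.card_pos.ne' hidx0, hScard]
  -- the index of `G₀`
  have h5 := Subgroup.card_mul_index (G₀ D k)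
  have hi0 : (G₀ D k).index ≠ 0 := by
    intro h0
    rw [h0, mul_zero] at h5
    exact Nat.card_pos.ne' h5.symm
  have h6 : padicValNat r (Nat.card (GL (Fin k) F)) =
      padicValNat r (Nat.card ↥(G₀ D k)) + padicValNat r (G₀ D k).index := by
    rw [← h5, padicValNat.mul Nat.card_pos.ne' hi0]
  have h7 : padicValNat r (G₀ D k).index ≤ padicValNat r (q + 1) := by
    obtain ⟨c, hc⟩ := index_G₀_dvd (D := D) (k := k) hF
    have hc0 : c ≠ 0 := by
      rintro rfl
      rw [mul_zero] at hc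
      omega
    rw [hc, padicValNat.mul hi0 hc0]
    omega
  -- the orders
  have hrF : ¬ r ∣ Fintype.card F := by
    rw [hF]
    intro hd
    exact hrq (hr.dvd_of_dvd_pow hd)
  have h8 := Cfsg.Agent.Lib.H11.SubfR.vr_card_GL (F := F) r hrF k
  have h9 : padicValNat r (Nat.card ↥K) = padicValNat r (Nat.card ↥(Cfsg.SU n F q)) := by
    rw [hK, card_GU_inf_SL]
  have h10 := Cfsg.Agent.Lib.H11.UniR.vr_card_SU (F := F) (n := n) hF r hrq (by omega)
  obtain ⟨k', rfl⟩ : ∃ k', k = k' + 1 := ⟨k - 1, by omega⟩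
  have e : n - 1 = 2 * k' + 1 := by omega
  rw [e, sum_split] at h10
  have h11 : ∑ l ∈ Finset.range (k' + 1), padicValNat r
      (if Even (2 * l + 1) then q ^ (2 * l + 2) + 1 else q ^ (2 * l + 2) - 1) =
      ∑ l ∈ Finset.range (k' + 1), padicValNat r (Fintype.card F ^ (l + 1) - 1) := by
    apply Finset.sum_congr rfl
    intro l _
    have : ¬ Even (2 * l + 1) := by
      rw [Nat.not_even_iff_odd]
      exact ⟨l, rfl⟩
    rw [if_neg this, hF, ← pow_mul]
    congr 3
  rw [h11, ← h8] at h10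
  have h12 : 1 ≤ ∑ l ∈ Finset.range k', padicValNat r
      (if Even (2 * l + 1 + 1) then q ^ (2 * l + 1 + 2) + 1 else q ^ (2 * l + 1 + 2) - 1) +
        padicValNat r (q + 1) := by
    omega
  by_cases hq1 : 1 ≤ padicValNat r (q + 1)
  · refine ⟨1, odd_one, by omega, ?_⟩
    rw [pow_one]
    exact dvd_of_one_le_padicValNat hq1
  · have h13 : ∃ l ∈ Finset.range k', padicValNat r
        (if Even (2 * l + 1 + 1) then q ^ (2 * l + 1 + 2) + 1 else q ^ (2 * l + 1 + 2) - 1) ≠ 0 := by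
      by_contra hcon
      push Not at hcon
      have := Finset.sum_eq_zero hcon
      omega
    obtain ⟨l, hl, hne⟩ := h13
    rw [Finset.mem_range] at hl
    have hev : Even (2 * l + 1 + 1) := ⟨l + 1, by ring⟩
    rw [if_pos hev] at hne
    refine ⟨2 * l + 3, ⟨l + 1, by ring⟩, by omega, ?_⟩
    exact dvd_of_one_le_padicValNat (Nat.one_le_iff_ne_zero.mpr hne)

end Cfsg.Agent.Lib.H11.SuDec
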