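import Cfsg.Agent.Lib.H11.UniR6

/-!
# Unitary-type subgroups of `SL_n(q₀²)` (part 7): the derangement with a single irreducible block
when `ord_r (-q₀) = 2 ord_r q` and `ord_r q ≥ 2`
-/

set_option autoImplicit false
set_option linter.unusedSectionVars false

namespace Cfsg.Agent.Lib.H11.UniR

open Matrix Polynomial Module Cfsg.Agent.Lib.H13.AutPSU Cfsg.Agent.Lib.H13
  Cfsg.Agent.Lib.H11.InvCls Cfsg.Agent.Lib.H11.SubfR Cfsg.Agent.Lib.H11.HermNorm
  Cfsg.Agent.Lib.H24.Elus

variable {F : Type*} [Field F] [Fintype F] {p q : ℕ} [Fact p.Prime] [CharP F p]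
  {n q₀ : ℕ} (D : UF F q₀) {f : (Fin n → F) → (Fin n → F) → F}

/-- `q₀` is a power of the characteristic -/
theorem exists_q₀_eq_pow (hF : Fintype.card F = q₀ ^ 2) : ∃ a : ℕ, q₀ = p ^ a := by
  obtain ⟨k, -, hk⟩ := FiniteField.card F p
  have h1 : q₀ ∣ p ^ (k : ℕ) := by
    rw [← hk, hF]
    exact dvd_pow_self q₀ two_ne_zero
  obtain ⟨a, -, ha⟩ := (Nat.dvd_prime_pow (Fact.out : p.Prime)).1 h1
  exact ⟨a, ha⟩

include D in
/-- an element of order `r` whose nontrivial part is a single irreducible block is not conjugate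
into the similarity group when `ord_r (-q₀) = 2 ord_r q` and `ord_r q ≥ 2` -/
theorem not_conj_single (hq : Fintype.card F = q) (hF : Fintype.card F = q₀ ^ 2)
    (hf : Cfsg.Geo.IsUnitaryFormPow q₀ f) (r : ℕ) [Fact r.Prime] (hrp : r ≠ p)
    (hi2 : 2 ≤ orderOf (q : ZMod r))
    (hord : orderOf (-(q₀ : ZMod r)) = 2 * orderOf (q : ZMod r)) (hn : 0 < n)
    (x : GL (Fin n) F) (hx : (x : Matrix (Fin n) (Fin n) F) ^ r = 1)
    (hfix : finrank F (LinearMap.ker (aeval (Matrix.toLin' (x : Matrix (Fin n) (Fin n) F))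
      (X - 1 : F[X]))) + orderOf (q : ZMod r) = n)
    (g : GL (Fin n) F) (hg : g⁻¹ * x * g ∈ Cfsg.Geo.similarityGroup f) : False := by
  classical
  have hr : r.Prime := Fact.out
  have hq2 := two_le_card (F := F) hq
  set i := orderOf (q : ZMod r) with hi_def
  have hcop : Nat.Coprime (Fintype.card F - 1) r := by
    rw [hq]
    exact coprime_of_order_ne_one q r (by omega) (by omega)
  obtain ⟨a, ha⟩ := exists_q₀_eq_pow (p := p) hF
  -- the extension field
  have hr0 : NeZero (r : F) := ⟨CycFactor.natCast_ne_zero hr hrp⟩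
  set E := AlgebraicClosure F with hE
  have hcharE : CharP E p := charP_of_injective_algebraMap (algebraMap F E).injective p
  have hexpE : ExpChar E p := ExpChar.prime Fact.out
  obtain ⟨θ, hθ⟩ := HasEnoughRootsOfUnity.exists_primitiveRoot E r
  set ι : F →+* E := algebraMap F E with hι
  set φ : E →+* E := iterateFrobenius E p a with hφdef
  have hφ : ∀ b, φ (ι b) = ι (D.τ b) := by
    intro b
    rw [hφdef, iterateFrobenius_def, ← ha, D.hτ, map_pow]
  have hφθ : φ θ = θ ^ q₀ := by rw [hφdef, iterateFrobenius_def, ← ha]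
  obtain ⟨c, hc, e, he, htw⟩ := twist_of_conj_sim D hf ι φ hφ θ hθ hφθ hn x g 1 one_ne_zero
    (x : Matrix (Fin n) (Fin n) F) (by rw [one_smul]) hx hg
  have hc1 : c = 1 := eq_one_of_pow_coprime r hr.pos hcop c hc
  have he0 : e = 0 := by
    apply PGLPrime.zp_injective θ hθ
    rw [← he, hc1, map_one, PGLPrime.zp_zero]
  set y : Matrix (Fin n) (Fin n) E := (x : Matrix (Fin n) (Fin n) F).map ι with hy
  set m : ZMod r → ℕ := PGLPrime.mult θ y with hm
  set u : ZMod r := -(q₀ : ZMod r) with hu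
  have hinv : ∀ t, m t = m (u * t) := by
    intro t
    rw [htw t, he0, hu]
    congr 1
    ring
  -- the fixed space
  have hm0 : m 0 + i = n := by
    have h1 := finrank_ker_map ι (x : Matrix (Fin n) (Fin n) F) (X - 1 : F[X])
    have h2 : (X - 1 : F[X]).map ι = PGLPrime.fA θ (0 : ZMod r) := by
      rw [PGLPrime.fA, PGLPrime.zp_zero, Polynomial.map_sub, Polynomial.map_X,
        Polynomial.map_one, map_one]
    rw [h2] at h1
    rw [hm]
    unfold PGLPrime.mult
    rw [h1]
    exact hfix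
  have hyr : y ^ r = (1 : E) • 1 := by
    rw [hy, one_smul, ← Matrix.map_pow, hx, Matrix.map_one ι (map_zero ι) (map_one ι)]
  have hsum : ∑ t, m t = n := PGLPrime.sum_mult θ hθ y hyr
  have hsum' : m 0 + ∑ t ∈ Finset.univ.erase (0 : ZMod r), m t = n := by
    rw [Finset.add_sum_erase _ _ (Finset.mem_univ _)]
    exact hsum
  have hrest : ∑ t ∈ Finset.univ.erase (0 : ZMod r), m t = i := by omega
  -- a nontrivial eigenvalue
  obtain ⟨t₀, ht₀, hmt₀⟩ : ∃ t₀ ∈ Finset.univ.erase (0 : ZMod r), m t₀ ≠ 0 := by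
    by_contra hcon
    push Not at hcon
    have := Finset.sum_eq_zero hcon
    omega
  have ht₀0 : t₀ ≠ 0 := Finset.ne_of_mem_erase ht₀
  have hpow : ∀ k : ℕ, m (u ^ k * t₀) = m t₀ := by
    intro k
    induction k with
    | zero => rw [pow_zero, one_mul]
    | succ k ih => rw [pow_succ', mul_assoc, ← hinv, ih]
  have hu0 : u ≠ 0 := by
    intro h0
    rw [h0, orderOf_zero (M₀ := ZMod r)] at hord
    omega
  -- the orbit
  have hinj : Set.InjOn (fun k : ℕ => u ^ k * t₀) (Finset.range (2 * i) : Set ℕ) := by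
    intro k hk l hl hkl
    have h1 : u ^ k = u ^ l := mul_right_cancel₀ ht₀0 hkl
    rw [Finset.coe_range, ← hord] at hk hl
    exact pow_injOn_Iio_orderOf hk hl h1
  have hsub : (Finset.range (2 * i)).image (fun k : ℕ => u ^ k * t₀) ⊆
      Finset.univ.erase (0 : ZMod r) := by
    intro t ht
    rw [Finset.mem_image] at ht
    obtain ⟨k, -, rfl⟩ := ht
    rw [Finset.mem_erase]
    exact ⟨mul_ne_zero (pow_ne_zero _ hu0) ht₀0, Finset.mem_univ _⟩
  have hle : ∑ t ∈ (Finset.range (2 * i)).image (fun k : ℕ => u ^ k * t₀), m t ≤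
      ∑ t ∈ Finset.univ.erase (0 : ZMod r), m t :=
    Finset.sum_le_sum_of_subset hsub
  rw [Finset.sum_image hinj, hrest] at hle
  have hge : 2 * i ≤ ∑ k ∈ Finset.range (2 * i), m (u ^ k * t₀) := by
    calc 2 * i = ∑ k ∈ Finset.range (2 * i), 1 := by simp
      _ ≤ ∑ k ∈ Finset.range (2 * i), m (u ^ k * t₀) := by
          apply Finset.sum_le_sum
          intro k _
          rw [hpow k]
          omega
  omega

include D in
/-- the derangement with a single irreducible block -/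
theorem der_single (hq : Fintype.card F = q) (hF : Fintype.card F = q₀ ^ 2)
    (hf : Cfsg.Geo.IsUnitaryFormPow q₀ f) (r : ℕ) [Fact r.Prime] (hrp : r ≠ p)
    (hi2 : 2 ≤ orderOf (q : ZMod r))
    (hord : orderOf (-(q₀ : ZMod r)) = 2 * orderOf (q : ZMod r))
    (hin : orderOf (q : ZMod r) ≤ n) :
    ∃ x ∈ Cfsg.Geo.specialLinear (Fin n) F,
      (∃ z : F, ((x ^ r : GL (Fin n) F) : Matrix (Fin n) (Fin n) F) =
        z • (1 : Matrix (Fin n) (Fin n) F)) ∧
      (∀ z : F, (x : Matrix (Fin n) (Fin n) F) ≠ z • (1 : Matrix (Fin n) (Fin n) F)) ∧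
      ∀ g ∈ Cfsg.Geo.specialLinear (Fin n) F,
        g⁻¹ * x * g ∉ Cfsg.Geo.similarityGroup f := by
  classical
  have hr : r.Prime := Fact.out
  have hcard := CycFactor.card_S (F := F) hq hr hrp
  have hne : Nonempty (CycFactor.S r F) := by
    rw [← Fintype.card_pos_iff]
    rcases Nat.eq_zero_or_pos (Fintype.card (CycFactor.S r F)) with h0 | h0
    · rw [h0, zero_mul] at hcard
      have := hr.two_le
      omega
    · exact h0
  obtain ⟨s₀⟩ := hne
  obtain ⟨x, hx, hns, hmu0, hmu⟩ := exists_sl_single hq r hrp hi2 n hin s₀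
  have hn : 0 < n := by omega
  -- the fixed space
  have hsum := GLPrime.sum_mu (CycFactor.fJ (F := F) r) (CycFactor.coprime_fJ (F := F) hr hrp)
    (CycFactor.prod_fJ (F := F) hr hrp) (x : Matrix (Fin n) (Fin n) F) hx
  rw [Fintype.sum_option] at hsum
  have hsome : ∑ s : CycFactor.S r F, GLPrime.mu (CycFactor.fJ (F := F) r)
      (x : Matrix (Fin n) (Fin n) F) (some s) = orderOf (q : ZMod r) := by
    rw [Finset.sum_eq_single s₀]
    · exact hmu0
    · intro s _ hs
      exact hmu s hs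
    · intro h
      exact absurd (Finset.mem_univ _) h
  rw [hsome] at hsum
  have hfix : finrank F (LinearMap.ker (aeval (Matrix.toLin' (x : Matrix (Fin n) (Fin n) F))
      (X - 1 : F[X]))) + orderOf (q : ZMod r) = n := hsum
  set xg : GL (Fin n) F := Matrix.SpecialLinearGroup.toGL x with hxg
  have hxgv : (xg : Matrix (Fin n) (Fin n) F) = (x : Matrix (Fin n) (Fin n) F) := rfl
  refine ⟨xg, ?_, ⟨1, ?_⟩, ?_, ?_⟩
  · rw [Cfsg.Agent.Lib.H28.mem_specialLinear_iff, hxgv]
    exact x.2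
  · rw [Units.val_pow_eq_pow_val, hxgv, hx, one_smul]
  · intro z hz
    exact hns z hz
  · intro g _ hg
    exact not_conj_single D hq hF hf r hrp hi2 hord hn xg hx hfix g hg

end Cfsg.Agent.Lib.H11.UniR
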