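import Cfsg.Agent.Lib.H11.SuDec4
import Cfsg.Agent.Lib.H11.UniR7

/-!
# Pairs of complementary totally isotropic subspaces (part 5): a unitary matrix of prime order `r`
and size `ord_r (-q)` has no fixed vectors
-/

set_option autoImplicit false
set_option linter.unusedSectionVars false
set_option linter.unusedVariables false

namespace Cfsg.Agent.Lib.H11.SuDec

open Matrix Polynomial Module Cfsg.Agent.Lib.H13.AutPSU Cfsg.Agent.Lib.H13
  Cfsg.Agent.Lib.H11.InvCls Cfsg.Agent.Lib.H11.SubfR Cfsg.Agent.Lib.H11.UniR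

variable {F : Type*} [Field F] [Fintype F] {p q : ℕ} [Fact p.Prime] [CharP F p]

theorem ker_aeval_X_sub_one {K : Type*} [Field K] {d : ℕ} (Y : Matrix (Fin d) (Fin d) K) :
    LinearMap.ker (aeval (Matrix.toLin' Y) (X - 1 : K[X])) = LinearMap.ker (Matrix.toLin' (Y - 1)) := by
  rw [PGLPrime.aeval_toLin']
  congr 2
  rw [map_sub, aeval_X, map_one]

/-- a non-trivial unitary matrix of order `r` and size `ord_r (-q)` has no fixed vectors -/
theorem rank_sub_one_of_unitary (hF : Fintype.card F = q ^ 2) (D : UF F q) (r : ℕ) [Fact r.Prime]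
    (hrp : r ≠ p) (d : ℕ) (hd : orderOf (-(q : ZMod r)) = d)
    (Y : Matrix (Fin d) (Fin d) F) (hYr : Y ^ r = 1) (hYu : ct D Y * Y = 1) (hY1 : Y ≠ 1) :
    (Y - 1).rank = d := by
  classical
  have hr : r.Prime := Fact.out
  have hd0 : 0 < d := by
    rcases Nat.eq_zero_or_pos d with h0 | h0
    · subst h0
      exact absurd (Subsingleton.elim Y 1) hY1
    · exact h0
  obtain ⟨a, ha⟩ := exists_q₀_eq_pow (p := p) hF
  have hr0 : NeZero (r : F) := ⟨CycFactor.natCast_ne_zero hr hrp⟩
  set E := AlgebraicClosure F with hE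
  have hcharE : CharP E p := charP_of_injective_algebraMap (algebraMap F E).injective p
  have hexpE : ExpChar E p := ExpChar.prime Fact.out
  obtain ⟨θ, hθ⟩ := HasEnoughRootsOfUnity.exists_primitiveRoot E r
  set ι : F →+* E := algebraMap F E with hι
  set φ : E →+* E := iterateFrobenius E p a with hφdef
  have hφ : ∀ b, φ (ι b) = ι (D.τ b) := by
    intro b
    rw [hφdef, iterateFrobenius_def, ← ha, D.hτ, map_pow]
  have hφθ : φ θ = θ ^ q := by rw [hφdef, iterateFrobenius_def, ← ha]
  have hr1 : 0 < r := hr.pos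
  have hYi : Y * Y ^ (r - 1) = 1 := by
    rw [← pow_succ', Nat.sub_add_cancel hr1, hYr]
  obtain ⟨e, he, htw⟩ := mult_of_sim D ι φ hφ θ hθ hφθ hd0 Y (Y ^ (r - 1)) 1 1 hYi
    (Matrix.one_mul 1) 1 (by rw [Matrix.mul_one, one_smul]; exact hYu) hYr
  have he0 : e = 0 := by
    apply PGLPrime.zp_injective θ hθ
    rw [← he, map_one, PGLPrime.zp_zero]
  set y : Matrix (Fin d) (Fin d) E := Y.map ι with hy
  set m : ZMod r → ℕ := PGLPrime.mult θ y with hm
  set u : ZMod r := -(q : ZMod r) with hu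
  have hinv : ∀ t, m t = m (u * t) := by
    intro t
    rw [htw t, he0, hu]
    congr 1
    ring
  -- the fixed space
  have hm0 : m 0 = finrank F (LinearMap.ker (Matrix.toLin' (Y - 1))) := by
    have h1 := finrank_ker_map ι Y (X - 1 : F[X])
    have h2 : (X - 1 : F[X]).map ι = PGLPrime.fA θ (0 : ZMod r) := by
      rw [PGLPrime.fA, PGLPrime.zp_zero, Polynomial.map_sub, Polynomial.map_X,
        Polynomial.map_one, map_one]
    rw [h2, ker_aeval_X_sub_one] at h1
    rw [hm]
    unfold PGLPrime.mult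
    exact h1
  have hyr : y ^ r = (1 : E) • 1 := by
    rw [hy, one_smul, ← Matrix.map_pow, hYr, Matrix.map_one ι (map_zero ι) (map_one ι)]
  have hsum : ∑ t, m t = d := PGLPrime.sum_mult θ hθ y hyr
  have hsum' : m 0 + ∑ t ∈ Finset.univ.erase (0 : ZMod r), m t = d := by
    rw [Finset.add_sum_erase _ _ (Finset.mem_univ _)]
    exact hsum
  have hrk := finrank_ker_toLin' (Y - 1)
  -- a nontrivial eigenvalue
  obtain ⟨t₀, ht₀, hmt₀⟩ : ∃ t₀ ∈ Finset.univ.erase (0 : ZMod r), m t₀ ≠ 0 := by
    by_contra hcon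
    push Not at hcon
    have h0 := Finset.sum_eq_zero hcon
    have h1 : finrank F (LinearMap.ker (Matrix.toLin' (Y - 1))) = d := by omega
    have h2 : LinearMap.ker (Matrix.toLin' (Y - 1)) = ⊤ := by
      apply Submodule.eq_top_of_finrank_eq
      rw [h1, Module.finrank_fintype_fun_eq_card, Fintype.card_fin]
    have h3 : Matrix.toLin' (Y - 1) = 0 := LinearMap.ker_eq_top.mp h2
    have h4 : Y - 1 = 0 := by
      have := congrArg (LinearMap.toMatrix' (R := F)) h3
      rwa [LinearMap.toMatrix'_toLin', map_zero] at this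
    exact hY1 (sub_eq_zero.mp h4)
  have ht₀0 : t₀ ≠ 0 := Finset.ne_of_mem_erase ht₀
  have hpow : ∀ j : ℕ, m (u ^ j * t₀) = m t₀ := by
    intro j
    induction j with
    | zero => rw [pow_zero, one_mul]
    | succ j ih => rw [pow_succ', mul_assoc, ← hinv, ih]
  have hu0 : u ≠ 0 := by
    intro h0
    rw [h0, orderOf_zero (M₀ := ZMod r)] at hd
    omega
  -- the orbit
  have hinj : Set.InjOn (fun j : ℕ => u ^ j * t₀) (Finset.range d : Set ℕ) := by
    intro j hj l hl hjl
    have h1 : u ^ j = u ^ l := mul_right_cancel₀ ht₀0 hjl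
    rw [Finset.coe_range, ← hd] at hj hl
    exact pow_injOn_Iio_orderOf hj hl h1
  have hsub : (Finset.range d).image (fun j : ℕ => u ^ j * t₀) ⊆
      Finset.univ.erase (0 : ZMod r) := by
    intro t ht
    rw [Finset.mem_image] at ht
    obtain ⟨j, -, rfl⟩ := ht
    rw [Finset.mem_erase]
    exact ⟨mul_ne_zero (pow_ne_zero _ hu0) ht₀0, Finset.mem_univ _⟩
  have hle : ∑ t ∈ (Finset.range d).image (fun j : ℕ => u ^ j * t₀), m t ≤
      ∑ t ∈ Finset.univ.erase (0 : ZMod r), m t :=
    Finset.sum_le_sum_of_subset hsub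
  rw [Finset.sum_image hinj] at hle
  have hge : d ≤ ∑ j ∈ Finset.range d, m (u ^ j * t₀) := by
    calc d = ∑ j ∈ Finset.range d, 1 := by simp
      _ ≤ ∑ j ∈ Finset.range d, m (u ^ j * t₀) := by
          apply Finset.sum_le_sum
          intro j _
          rw [hpow j]
          omega
  omega

end Cfsg.Agent.Lib.H11.SuDec
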