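import Cfsg.Agent.Lib.H11.SuSp1

/-!
`Sp_n(q)` inside `SU_n(q)`: the form on rational vectors, rational transvections.
-/

set_option autoImplicit false
set_option linter.unusedSimpArgs false
set_option linter.unusedSectionVars false
set_option linter.unusedVariables false

namespace Cfsg.Agent.Lib.H11.SuSp

open Matrix
open Cfsg.Agent.S0837 (Bs Bs_apply Bs_symm Bs_nondeg)
open Cfsg.Agent.S0782 (Bs_eq_herm)
open Cfsg.Agent.Lib.H11.UGen
open Cfsg.Agent.Lib.H11.SubspMax (gl_mul_mulVec gl_inv_mulVec gl_mulVec_inv gl_ext)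
open Cfsg.Agent.Lib.H28 (mem_specialLinear_iff)

variable {F : Type*} [Field F] [Fintype F] {n q : ℕ}

/-- the hypotheses of the statement -/
structure Setup (φ : F →+* F) (n q : ℕ) (F₀ : Subfield F) (ζ : F) (P : GL (Fin n) F) : Prop where
  hF : Fintype.card F = q ^ 2
  hcard : Fintype.card F = Nat.card F₀ ^ 2
  hφ : ∀ x, φ x = x ^ q
  hφ2 : ∀ x, φ (φ x) = x
  hζ0 : ζ ≠ 0
  hζ : ζ + φ ζ = 0
  hP : ∀ u v : Fin n → F, (∀ i, u i ∈ F₀) → (∀ i, v i ∈ F₀) →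
    ζ * Cfsg.hermForm n F q (P.1 *ᵥ u) (P.1 *ᵥ v) ∈ F₀
  halt : ∀ u : Fin n → F, (∀ i, u i ∈ F₀) → Cfsg.hermForm n F q (P.1 *ᵥ u) (P.1 *ᵥ u) = 0

namespace Setup
variable {φ : F →+* F} {F₀ : Subfield F} {ζ : F} {P : GL (Fin n) F}
variable (S : Setup φ n q F₀ ζ P)
include S

theorem fix {a : F} (ha : a ∈ F₀) : φ a = a := phi_eq_of_mem φ F₀ S.hF S.hcard S.hφ ha

theorem mem_of_fix {a : F} (ha : φ a = a) : a ∈ F₀ := mem_of_phi_eq φ F₀ S.hF S.hcard S.hφ ha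

theorem B_symm (u v : Fin n → F) : φ (Bs φ n u v) = Bs φ n v u := (Bs_symm φ S.hφ2 n).eq u v

theorem B_mem {u v : Fin n → F} (hu : Rat F₀ P u) (hv : Rat F₀ P v) : ζ * Bs φ n u v ∈ F₀ := by
  obtain ⟨a, ha, rfl⟩ := hu
  obtain ⟨b, hb, rfl⟩ := hv
  rw [Bs_eq_herm φ S.hφ]
  exact S.hP b a hb ha

theorem B_self {u : Fin n → F} (hu : Rat F₀ P u) : Bs φ n u u = 0 := by
  obtain ⟨a, ha, rfl⟩ := hu
  rw [Bs_eq_herm φ S.hφ]
  exact S.halt a ha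

theorem B_swap {u v : Fin n → F} (hu : Rat F₀ P u) (hv : Rat F₀ P v) :
    Bs φ n v u = -Bs φ n u v := by
  have h := S.B_self (hu.add hv)
  simp only [map_add, LinearMap.add_apply, S.B_self hu, S.B_self hv] at h
  linear_combination h

theorem B_phi {u v : Fin n → F} (hu : Rat F₀ P u) (hv : Rat F₀ P v) :
    φ (Bs φ n u v) = -Bs φ n u v := by
  rw [S.B_symm, S.B_swap hu hv]

theorem B_div_mem {u v u' v' : Fin n → F} (hu : Rat F₀ P u) (hv : Rat F₀ P v)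
    (hu' : Rat F₀ P u') (hv' : Rat F₀ P v') : Bs φ n u v / Bs φ n u' v' ∈ F₀ := by
  have := F₀.div_mem (S.B_mem hu hv) (S.B_mem hu' hv')
  rwa [mul_div_mul_left _ _ S.hζ0] at this

theorem tz_div_mem {c : F} (hc : c + φ c = 0) : c / ζ ∈ F₀ := by
  apply S.mem_of_fix
  have h1 : φ c = -c := by linear_combination hc
  have h2 : φ ζ = -ζ := by linear_combination S.hζ
  rw [map_div₀, h1, h2, neg_div_neg_eq]

theorem tz_mul_mem {c : F} (hc : c + φ c = 0) {u v : Fin n → F} (hu : Rat F₀ P u)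
    (hv : Rat F₀ P v) : c * Bs φ n u v ∈ F₀ := by
  have := F₀.mul_mem (S.tz_div_mem hc) (S.B_mem hu hv)
  have e : c / ζ * (ζ * Bs φ n u v) = c * Bs φ n u v := by
    field_simp [S.hζ0]
  rwa [e] at this

theorem inv_tz {u v : Fin n → F} (hu : Rat F₀ P u) (hv : Rat F₀ P v) :
    (Bs φ n u v)⁻¹ + φ ((Bs φ n u v)⁻¹) = 0 := by
  rw [map_inv₀, S.B_phi hu hv, inv_neg, add_neg_cancel]

theorem B_smul_left {a : F} (ha : a ∈ F₀) (u v : Fin n → F) :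
    Bs φ n (a • u) v = a * Bs φ n u v := by
  rw [map_smulₛₗ, LinearMap.smul_apply, smul_eq_mul, S.fix ha]

end Setup

section tv
variable (φ : F →+* F)

/-- the unitary transvection `x ↦ x + c B(v,x) v` as an element of `GL` -/
noncomputable def tv (hφ : ∀ x, φ x = x ^ q) (hφ2 : ∀ x, φ (φ x) = x) (v : Fin n → F) (c : F)
    (hv : Bs φ n v v = 0) (hc : c + φ c = 0) : GL (Fin n) F :=
  (uEl φ hφ hφ2 v c (by rw [hv, mul_zero, add_zero]; exact hc)).1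

variable {φ}

theorem tv_val (hφ : ∀ x, φ x = x ^ q) (hφ2 : ∀ x, φ (φ x) = x) (v : Fin n → F) (c : F)
    (hv : Bs φ n v v = 0) (hc : c + φ c = 0) : (tv φ hφ hφ2 v c hv hc).1 = Um φ v c := rfl

theorem tv_mulVec (hφ : ∀ x, φ x = x ^ q) (hφ2 : ∀ x, φ (φ x) = x) (v : Fin n → F) (c : F)
    (hv : Bs φ n v v = 0) (hc : c + φ c = 0) (x : Fin n → F) :
    (tv φ hφ hφ2 v c hv hc).1 *ᵥ x = x + (c * Bs φ n v x) • v := by
  rw [tv_val, Um_mulVec]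

theorem tv_mem_GU (hφ : ∀ x, φ x = x ^ q) (hφ2 : ∀ x, φ (φ x) = x) (v : Fin n → F) (c : F)
    (hv : Bs φ n v v = 0) (hc : c + φ c = 0) : tv φ hφ hφ2 v c hv hc ∈ Cfsg.GU n F q :=
  (uEl φ hφ hφ2 v c (by rw [hv, mul_zero, add_zero]; exact hc)).2

theorem tv_mem_SL (hφ : ∀ x, φ x = x ^ q) (hφ2 : ∀ x, φ (φ x) = x) (v : Fin n → F) (c : F)
    (hv : Bs φ n v v = 0) (hc : c + φ c = 0) :
    tv φ hφ hφ2 v c hv hc ∈ Cfsg.Geo.specialLinear (Fin n) F := by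
  rw [mem_specialLinear_iff, tv_val, Um_det, hv, mul_zero, add_zero]

end tv

section ratGL
variable (F₀ : Subfield F) (P : GL (Fin n) F)

/-- the conjugate by `P` of `GL_n(F₀)` -/
def ratGL : Subgroup (GL (Fin n) F) :=
  ((Matrix.GeneralLinearGroup.map (F₀.subtype : F₀ →+* F)).range).map (MulAut.conj P).toMonoidHom

theorem ratGL_le : ratGL F₀ P ≤ Cfsg.Geo.subfieldSubgroup F₀ P :=
  Subgroup.map_mono le_sup_left

variable {F₀ P}

theorem rat_of_mem_ratGL {g : GL (Fin n) F} (hg : g ∈ ratGL F₀ P) {x : Fin n → F}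
    (hx : Rat F₀ P x) : Rat F₀ P (g.1 *ᵥ x) := by
  obtain ⟨k, ⟨A, rfl⟩, rfl⟩ := hg
  obtain ⟨u, hu, rfl⟩ := hx
  refine ⟨(Matrix.GeneralLinearGroup.map (F₀.subtype : F₀ →+* F) A).1 *ᵥ u, ?_, ?_⟩
  · intro i
    rw [Matrix.mulVec, dotProduct]
    refine F₀.sum_mem fun j _ => F₀.mul_mem ?_ (hu j)
    exact (A.1 i j).2
  · show ((P * Matrix.GeneralLinearGroup.map (F₀.subtype : F₀ →+* F) A * P⁻¹ : GL (Fin n) F)).1 *ᵥ
      (P.1 *ᵥ u) = _
    rw [gl_mul_mulVec, gl_mul_mulVec, gl_inv_mulVec]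

theorem mem_ratGL_of_rat {g : GL (Fin n) F}
    (hg : ∀ j, Rat F₀ P (g.1 *ᵥ (P.1 *ᵥ Pi.single j 1))) : g ∈ ratGL F₀ P := by
  choose u hu hgu using hg
  obtain ⟨M, hM⟩ : ∃ M : GL (Fin n) F, M = P⁻¹ * g * P := ⟨_, rfl⟩
  have hMcol : ∀ j, M.1 *ᵥ Pi.single j 1 = u j := by
    intro j
    rw [hM, gl_mul_mulVec, gl_mul_mulVec, hgu j, gl_inv_mulVec]
  have hMij : ∀ i j, M.1 i j = u j i := by
    intro i j
    rw [← hMcol j, Matrix.mulVec_single_one]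
    rfl
  let M₀ : Matrix (Fin n) (Fin n) F₀ := fun i j => ⟨M.1 i j, by rw [hMij]; exact hu j i⟩
  have hmap : M₀.map (F₀.subtype : F₀ →+* F) = M.1 := by
    ext i j; rfl
  have hdet : M₀.det ≠ 0 := by
    intro h
    have h1 : (F₀.subtype : F₀ →+* F) M₀.det = 0 := by rw [h, map_zero]
    rw [RingHom.map_det, RingHom.mapMatrix_apply, hmap] at h1
    have h2 : IsUnit M.1.det := (Matrix.isUnit_iff_isUnit_det _).1 M.isUnit
    exact h2.ne_zero h1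
  refine ⟨M, ⟨Matrix.GeneralLinearGroup.mkOfDetNeZero M₀ hdet, ?_⟩, ?_⟩
  · apply Units.ext
    exact hmap
  · show P * M * P⁻¹ = g
    rw [hM]; group

end ratGL

section tvrat
variable {φ : F →+* F} {F₀ : Subfield F} {ζ : F} {P : GL (Fin n) F}
variable (S : Setup φ n q F₀ ζ P)
include S

theorem Setup.tv_rat {v : Fin n → F} (hv : Rat F₀ P v) {c : F} (hc : c + φ c = 0) {x : Fin n → F}
    (hx : Rat F₀ P x) : Rat F₀ P ((tv φ S.hφ S.hφ2 v c (S.B_self hv) hc).1 *ᵥ x) := by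
  rw [tv_mulVec]
  exact hx.add (hv.smul (S.tz_mul_mem hc hv hx))

theorem Setup.tv_mem_ratGL {v : Fin n → F} (hv : Rat F₀ P v) {c : F} (hc : c + φ c = 0) :
    tv φ S.hφ S.hφ2 v c (S.B_self hv) hc ∈ ratGL F₀ P :=
  mem_ratGL_of_rat fun j => S.tv_rat hv hc (rat_col j)

/-- the rational part of the subfield subgroup -/
theorem Setup.tv_mem_N₀ {v : Fin n → F} (hv : Rat F₀ P v) {c : F} (hc : c + φ c = 0) :
    tv φ S.hφ S.hφ2 v c (S.B_self hv) hc ∈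
      ratGL F₀ P ⊓ (Cfsg.GU n F q ⊓ Cfsg.Geo.specialLinear (Fin n) F) :=
  ⟨S.tv_mem_ratGL hv hc, tv_mem_GU _ _ _ _ _ _, tv_mem_SL _ _ _ _ _ _⟩

end tvrat

end Cfsg.Agent.Lib.H11.SuSp
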