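import Cfsg.Agent.Lib.H11.SuDec5
import Cfsg.Agent.Lib.H11.SuSp2
import Cfsg.Agent.Lib.H12.UCommE

/-!
# Pairs of complementary totally isotropic subspaces (part 6): derangements
-/

set_option autoImplicit false
set_option linter.unusedSectionVars false
set_option linter.unusedVariables false

namespace Cfsg.Agent.Lib.H11.SuDec

open Matrix Module
open Cfsg.Agent.S0837 (Bs Bs_apply Bs_symm Bs_nondeg)
open Cfsg.Agent.Lib.H13.AutPSU
open Cfsg.Agent.Lib.H11.SuPair (HPair)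
open Cfsg.Agent.Lib.H11.InvCls (finrank_ker_toLin')

variable {F : Type*} [Field F] [Fintype F] {n q k : ℕ}

/-- the existence of a derangement of order `r` (modulo scalars) -/
def IsDer (Dd : Fin 2 → Submodule F (Fin n → F)) (q r : ℕ) : Prop :=
  ∃ x ∈ Cfsg.GU n F q ⊓ Cfsg.Geo.specialLinear (Fin n) F,
    (∃ z : F, ((x ^ r : GL (Fin n) F) : Matrix (Fin n) (Fin n) F) =
      z • (1 : Matrix (Fin n) (Fin n) F)) ∧
    (∀ z : F, (x : Matrix (Fin n) (Fin n) F) ≠ z • (1 : Matrix (Fin n) (Fin n) F)) ∧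
    ∀ g ∈ Cfsg.GU n F q ⊓ Cfsg.Geo.specialLinear (Fin n) F,
      g⁻¹ * x * g ∉ Cfsg.Geo.decompositionStabilizer Dd

theorem eq_zero_of_rank_eq_zero (M : Matrix (Fin n) (Fin n) F) (h : M.rank = 0) : M = 0 := by
  have h1 := finrank_ker_toLin' M
  rw [h, add_zero] at h1
  have h2 : LinearMap.ker (Matrix.toLin' M) = ⊤ := by
    apply Submodule.eq_top_of_finrank_eq
    rw [h1, Module.finrank_fintype_fun_eq_card, Fintype.card_fin]
  have h3 : Matrix.toLin' M = 0 := LinearMap.ker_eq_top.mp h2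
  have := congrArg (LinearMap.toMatrix' (R := F)) h3
  rwa [LinearMap.toMatrix'_toLin', map_zero] at this

theorem not_scalar_of_rank (x : Matrix (Fin n) (Fin n) F) (μ : F) (h0 : 0 < (x - μ • 1).rank)
    (hn : (x - μ • 1).rank < n) : ∀ z : F, x ≠ z • (1 : Matrix (Fin n) (Fin n) F) := by
  intro z hz
  have h1 : x - μ • 1 = (z - μ) • (1 : Matrix (Fin n) (Fin n) F) := by
    rw [hz, sub_smul]
  rw [h1] at h0 hn
  by_cases hzμ : z = μ
  · rw [hzμ, sub_self, zero_smul, Matrix.rank_zero] at h0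
    omega
  · have hu : IsUnit ((z - μ) • (1 : Matrix (Fin n) (Fin n) F)) := by
      rw [Matrix.isUnit_iff_isUnit_det, Matrix.det_smul, Matrix.det_one, mul_one]
      exact (isUnit_iff_ne_zero.2 (sub_ne_zero.2 hzμ)).pow _
    rw [Matrix.rank_of_isUnit _ hu, Fintype.card_fin] at hn
    omega

variable {φ : F →+* F} {Dd : Fin 2 → Submodule F (Fin n → F)}

theorem no_conj_of_rank_one (hφ : ∀ x, φ x = x ^ q) (hφ2 : ∀ x, φ (φ x) = x)
    (hP : HPair φ (Dd 0) (Dd 1) k) (hk : 2 ≤ k) (x : GL (Fin n) F) (hx : x ∈ Cfsg.GU n F q)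
    (μ : F) (hμ : μ * φ μ = 1)
    (hrank : ((x : Matrix (Fin n) (Fin n) F) - μ • 1).rank = 1)
    (g : GL (Fin n) F) (hg : g ∈ Cfsg.GU n F q) :
    g⁻¹ * x * g ∉ Cfsg.Geo.decompositionStabilizer Dd := by
  apply not_mem_stab_of_rank_one hφ hφ2 hP hk _
    ((Cfsg.GU n F q).mul_mem ((Cfsg.GU n F q).mul_mem ((Cfsg.GU n F q).inv_mem hg) hx) hg) μ hμ
  rw [rank_conj, hrank]

theorem no_conj_of_odd (hφ : ∀ x, φ x = x ^ q) (hφ2 : ∀ x, φ (φ x) = x)
    (hP : HPair φ (Dd 0) (Dd 1) k) (hk : 1 ≤ k) (x : GL (Fin n) F) (hx : x ∈ Cfsg.GU n F q)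
    (r : ℕ) (hr : Odd r) (z : F)
    (hxr : ((x ^ r : GL (Fin n) F) : Matrix (Fin n) (Fin n) F) = z • 1)
    (μ : F) (hμ : μ * φ μ = 1)
    (hrank : Odd ((x : Matrix (Fin n) (Fin n) F) - μ • 1).rank)
    (g : GL (Fin n) F) (hg : g ∈ Cfsg.GU n F q) :
    g⁻¹ * x * g ∉ Cfsg.Geo.decompositionStabilizer Dd := by
  apply not_mem_stab_of_odd hφ hφ2 hP hk _
    ((Cfsg.GU n F q).mul_mem ((Cfsg.GU n F q).mul_mem ((Cfsg.GU n F q).inv_mem hg) hx) hg) r hr z
    _ μ hμ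
  · rw [rank_conj]
    exact hrank
  · have h1 : (g⁻¹ * x * g) ^ r = g⁻¹ * x ^ r * g := by
      have := conj_pow (a := g⁻¹) (b := x) (i := r)
      rw [inv_inv] at this
      exact this
    rw [h1, Units.val_mul, Units.val_mul, hxr, Matrix.mul_smul, Matrix.mul_one, Matrix.smul_mul,
      ← Units.val_mul, inv_mul_cancel, Units.val_one]

/-! ### the transvection (`r = p`) -/

theorem Um_pow (w : Fin n → F) (c : F) (hw : Bs φ n w w = 0) (m : ℕ) :
    Cfsg.Agent.Lib.H11.UGen.Um φ w c ^ m = Cfsg.Agent.Lib.H11.UGen.Um φ w (m • c) := by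
  induction m with
  | zero => rw [pow_zero, zero_smul, Cfsg.Agent.Lib.H11.UGen.Um_zero]
  | succ m ih =>
    rw [pow_succ, ih, Cfsg.Agent.Lib.H11.UGen.Um_mul, hw, mul_zero, add_zero, succ_nsmul]

theorem der_transvection {p : ℕ} [Fact p.Prime] [CharP F p] (hφ : ∀ x, φ x = x ^ q)
    (hφ2 : ∀ x, φ (φ x) = x) (hP : HPair φ (Dd 0) (Dd 1) k) (hk : 2 ≤ k)
    (hskew : ∃ c : F, c ≠ 0 ∧ c + φ c = 0) : IsDer Dd q p := by
  have hn := HPair.two_mul hP
  obtain ⟨c, hc0, hc⟩ := hskew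
  have hne : Dd 0 ≠ ⊥ := by
    intro h0
    have := hP.fr₁
    rw [h0, finrank_bot] at this
    omega
  obtain ⟨w, hw, hw0⟩ := Submodule.exists_mem_ne_zero_of_ne_bot hne
  have hww : Bs φ n w w = 0 := hP.iso₁ w hw w hw
  set x := Cfsg.Agent.Lib.H11.SuSp.tv φ hφ hφ2 w c hww hc with hx
  have hxv : (x : Matrix (Fin n) (Fin n) F) = Cfsg.Agent.Lib.H11.UGen.Um φ w c :=
    Cfsg.Agent.Lib.H11.SuSp.tv_val hφ hφ2 w c hww hc
  have hxGU : x ∈ Cfsg.GU n F q := Cfsg.Agent.Lib.H11.SuSp.tv_mem_GU hφ hφ2 w c hww hc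
  have hxSL : x ∈ Cfsg.Geo.specialLinear (Fin n) F :=
    Cfsg.Agent.Lib.H11.SuSp.tv_mem_SL hφ hφ2 w c hww hc
  -- the rank
  have hsub : (x : Matrix (Fin n) (Fin n) F) - (1 : F) • 1 =
      Matrix.vecMulVec (c • w) (fun j => φ (w j)) := by
    rw [hxv, one_smul]
    unfold Cfsg.Agent.Lib.H11.UGen.Um Cfsg.Agent.S0782.Tm
    rw [add_sub_cancel_left]
    ext i j
    simp [Matrix.vecMulVec_apply, mul_assoc]
  have hrank : ((x : Matrix (Fin n) (Fin n) F) - (1 : F) • 1).rank = 1 := by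
    have h1 : ((x : Matrix (Fin n) (Fin n) F) - (1 : F) • 1).rank ≤ 1 := by
      rw [hsub]
      exact Matrix.rank_vecMulVec_le _ _
    have h2 : ((x : Matrix (Fin n) (Fin n) F) - (1 : F) • 1).rank ≠ 0 := by
      intro h0
      have h3 := eq_zero_of_rank_eq_zero _ h0
      rw [hsub] at h3
      obtain ⟨i, hi⟩ : ∃ i, w i ≠ 0 := by
        by_contra hcon
        push Not at hcon
        exact hw0 (funext hcon)
      have h4 := congrFun (congrFun h3 i) i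
      rw [Matrix.vecMulVec_apply, Matrix.zero_apply, Pi.smul_apply, smul_eq_mul] at h4
      have h5 : φ (w i) ≠ 0 := (map_ne_zero φ).mpr hi
      exact mul_ne_zero (mul_ne_zero hc0 hi) h5 h4
    omega
  refine ⟨x, ⟨hxGU, hxSL⟩, ⟨1, ?_⟩, ?_, ?_⟩
  · rw [Units.val_pow_eq_pow_val, hxv, Um_pow w c hww, one_smul]
    have : (p • c : F) = 0 := by
      rw [nsmul_eq_mul, CharP.cast_eq_zero, zero_mul]
    rw [this, Cfsg.Agent.Lib.H11.UGen.Um_zero]
  · apply not_scalar_of_rank _ 1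
    · rw [hrank]; omega
    · rw [hrank]; omega
  · intro g hg
    exact no_conj_of_rank_one hφ hφ2 hP hk x hxGU 1 (by rw [map_one, mul_one]) hrank g hg.1

end Cfsg.Agent.Lib.H11.SuDec
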