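import Cfsg.Agent.Lib.H11.SuDec7
import Cfsg.Agent.Lib.H11.Jordan8

/-!
# Pairs of complementary totally isotropic subspaces (part 8): the derangement of odd prime order
`r` with `ord_r (-q) ≥ 3` odd
-/

set_option autoImplicit false
set_option linter.unusedSectionVars false
set_option linter.unusedVariables false

namespace Cfsg.Agent.Lib.H11.SuDec

open Matrix Module
open Cfsg.Agent.Lib.H13.AutPSU
open Cfsg.Agent.Lib.H11.SuPair (HPair)

variable {F : Type*} [Field F] {n q k d c : ℕ}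

/-- the block embedding `M ↦ diag(M, 1)` -/
def blk (e : Fin n ≃ Fin d ⊕ Fin c) : Matrix (Fin d) (Fin d) F →* Matrix (Fin n) (Fin n) F where
  toFun M := (Matrix.fromBlocks M 0 0 (1 : Matrix (Fin c) (Fin c) F)).submatrix e e
  map_one' := by rw [Matrix.fromBlocks_one, Matrix.submatrix_one_equiv]
  map_mul' := by
    intro A B
    rw [Matrix.submatrix_mul_equiv, Matrix.fromBlocks_multiply]
    simp

theorem blk_apply (e : Fin n ≃ Fin d ⊕ Fin c) (M : Matrix (Fin d) (Fin d) F) :
    blk e M = (Matrix.fromBlocks M 0 0 (1 : Matrix (Fin c) (Fin c) F)).submatrix e e := rfl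

theorem ct_blk (D : UF F q) (e : Fin n ≃ Fin d ⊕ Fin c) (M : Matrix (Fin d) (Fin d) F) :
    ct D (blk e M) = blk e (ct D M) := by
  have h1 : ct D (Matrix.fromBlocks M 0 0 (1 : Matrix (Fin c) (Fin c) F)) =
      Matrix.fromBlocks (ct D M) 0 0 1 := by
    ext (i | i) (j | j)
    · simp [ct_apply]
    · simp [ct_apply]
    · simp [ct_apply]
    · simp only [ct_apply, Matrix.fromBlocks_apply₂₂, Matrix.one_apply]
      by_cases h : i = j
      · subst h; simp
      · rw [if_neg h, if_neg (Ne.symm h), map_zero]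
  rw [blk_apply, blk_apply, ← h1]
  rfl

theorem det_blk (e : Fin n ≃ Fin d ⊕ Fin c) (M : Matrix (Fin d) (Fin d) F) :
    (blk e M).det = M.det := by
  rw [blk_apply, Matrix.det_submatrix_equiv_self, Matrix.det_fromBlocks_zero₂₁, Matrix.det_one,
    mul_one]

theorem rank_blk_sub_one (e : Fin n ≃ Fin d ⊕ Fin c) (M : Matrix (Fin d) (Fin d) F) :
    (blk e M - (1 : F) • (1 : Matrix (Fin n) (Fin n) F)).rank = (M - 1).rank := by
  have h1 : blk e M - (1 : F) • (1 : Matrix (Fin n) (Fin n) F) =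
      (Matrix.fromBlocks (M - 1) 0 0 (0 : Matrix (Fin c) (Fin c) F)).submatrix e e := by
    rw [one_smul, blk_apply]
    have : (1 : Matrix (Fin n) (Fin n) F) =
        (Matrix.fromBlocks (1 : Matrix (Fin d) (Fin d) F) 0 0
          (1 : Matrix (Fin c) (Fin c) F)).submatrix e e := by
      rw [Matrix.fromBlocks_one, Matrix.submatrix_one_equiv]
    rw [this]
    ext i j
    rw [Matrix.sub_apply, Matrix.submatrix_apply, Matrix.submatrix_apply, Matrix.submatrix_apply]
    rcases e i with a | a <;> rcases e j with b | b <;> simp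
  rw [h1, Matrix.rank_submatrix, Cfsg.Agent.Lib.H11.Jordan.rank_fromBlocks_diag, Matrix.rank_zero,
    add_zero]

variable [Fintype F] {Dd : Fin 2 → Submodule F (Fin n → F)}

/-- the derangement of odd prime order `r` with `d = ord_r (-q) ≥ 3` odd, `d < n` -/
theorem der_odd_block {p : ℕ} [Fact p.Prime] [CharP F p] (hF : Fintype.card F = q ^ 2)
    (D : UF F q) (hP : HPair (phi D) (Dd 0) (Dd 1) k) (hk : 1 ≤ k) (r : ℕ) [Fact r.Prime]
    (hr2 : r ≠ 2) (hrp : r ≠ p) (d : ℕ) (hd : orderOf (-(q : ZMod r)) = d) (hd2 : 2 ≤ d)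
    (hdodd : Odd d) (hdn : d + 1 ≤ n) : IsDer Dd q r := by
  classical
  have hr : r.Prime := Fact.out
  have hodd : Odd r := hr.odd_of_ne_two hr2
  have hn := HPair.two_mul hP
  have hpow : (-(q : ZMod r)) ^ d = 1 := by
    rw [← hd]
    exact pow_orderOf_eq_one _
  have hdvd : r ∣ Nat.card ↥(Cfsg.SU d F q) :=
    Cfsg.Agent.Lib.H12.UComm.dvd_card_SU hF d hd2 r hr d (by omega) le_rfl hpow
  obtain ⟨y, hy⟩ := exists_prime_orderOf_dvd_card' r hdvd
  set Y : Matrix (Fin d) (Fin d) F := mat y with hY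
  have hmatpow : ∀ m : ℕ, mat (y ^ m) = Y ^ m := by
    intro m
    induction m with
    | zero => rw [pow_zero, pow_zero, mat_one]
    | succ m ih => rw [pow_succ, pow_succ, mat_mul, ih]
  have hYr : Y ^ r = 1 := by
    rw [← hmatpow, ← hy, pow_orderOf_eq_one, mat_one]
  have hYu : ct D Y * Y = 1 := (H_eq_one_iff_ct D (mat y)).1 (fun u v => H_sv D y u v)
  have hY1 : Y ≠ 1 := by
    intro h1
    have : y = 1 := mat_injective (by rw [mat_one]; exact h1)
    rw [this, orderOf_one] at hy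
    exact hr.one_lt.ne hy
  have hrankY := rank_sub_one_of_unitary (p := p) hF D r hrp d hd Y hYr hYu hY1
  have hr1 : 0 < r := hr.pos
  have hYi : Y * Y ^ (r - 1) = 1 := by
    rw [← pow_succ', Nat.sub_add_cancel hr1, hYr]
  have hYi' : Y ^ (r - 1) * Y = 1 := mul_eq_one_comm.mp hYi
  let e : Fin n ≃ Fin d ⊕ Fin (n - d) :=
    (finCongr (by omega : n = d + (n - d))).trans finSumFinEquiv.symm
  have e1 : blk (F := F) e Y * blk e (Y ^ (r - 1)) = 1 := by rw [← map_mul, hYi, map_one]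
  have e2 : blk (F := F) e (Y ^ (r - 1)) * blk e Y = 1 := by rw [← map_mul, hYi', map_one]
  set x : GL (Fin n) F := ⟨blk e Y, blk e (Y ^ (r - 1)), e1, e2⟩ with hx
  have hxv : (x : Matrix (Fin n) (Fin n) F) = blk e Y := rfl
  have hxGU : x ∈ Cfsg.GU n F q := by
    rw [mem_GU_iff_ct (D := D), hxv, ct_blk, ← map_mul, hYu, map_one]
  have hxSL : x ∈ Cfsg.Geo.specialLinear (Fin n) F := by
    rw [Cfsg.Agent.Lib.H28.mem_specialLinear_iff, hxv, det_blk]
    exact mat_det y
  have hrank : ((x : Matrix (Fin n) (Fin n) F) - (1 : F) • 1).rank = d := by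
    rw [hxv, rank_blk_sub_one, hrankY]
  have hxr : ((x ^ r : GL (Fin n) F) : Matrix (Fin n) (Fin n) F) = (1 : F) • 1 := by
    rw [Units.val_pow_eq_pow_val, hxv, ← map_pow, hYr, map_one, one_smul]
  refine ⟨x, ⟨hxGU, hxSL⟩, ⟨1, hxr⟩, ?_, ?_⟩
  · apply not_scalar_of_rank _ 1
    · rw [hrank]; omega
    · rw [hrank]; omega
  · intro g hg
    refine no_conj_of_odd (phi_pow D) (phi_phi D) hP hk x hxGU r hodd 1 hxr 1
      (by rw [map_one, mul_one]) ?_ g hg.1
    rw [hrank]
    exact hdodd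

end Cfsg.Agent.Lib.H11.SuDec
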