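import Cfsg.Agent.Lib.H11.SuDec8
import Cfsg.Agent.Lib.H11.HermNorm5

/-!
# Pairs of complementary totally isotropic subspaces (part 9): adjusting determinants, and the
fusion of the elements `x` with `x² = λ²`, `λ λ^q = -1`
-/

set_option autoImplicit false
set_option linter.unusedSectionVars false
set_option linter.unusedVariables false

namespace Cfsg.Agent.Lib.H11.SuDec

open Matrix Module
open Cfsg.Agent.S0837 (Bs Bs_apply Bs_symm Bs_nondeg)
open Cfsg.Agent.S0782 (gu_preserves)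
open Cfsg.Agent.Lib.H13.AutPSU
open Cfsg.Agent.Lib.H11.SuPair (HPair)
open Cfsg.Agent.Lib.H11.SubspMax (gl_mul_mulVec gl_inv_mulVec gl_mulVec_inv)

variable {F : Type*} [Field F] [Fintype F] {n q k : ℕ}

theorem exists_gl_det (hk : 1 ≤ k) (z : F) (hz : z ≠ 0) :
    ∃ A : GL (Fin k) F, (A : Matrix (Fin k) (Fin k) F).det = z := by
  classical
  set M : Matrix (Fin k) (Fin k) F :=
    Matrix.diagonal (Function.update (fun _ => (1 : F)) (⟨0, hk⟩ : Fin k) z) with hM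
  have hdet : M.det = z := by
    rw [hM, Matrix.det_diagonal, Finset.prod_update_of_mem (Finset.mem_univ _)]
    simp
  exact ⟨Matrix.GeneralLinearGroup.mkOfDetNeZero M (by rw [hdet]; exact hz), hdet⟩

variable {D : UF F q} {Dd : Fin 2 → Submodule F (Fin n → F)}

/-- elements of the stabiliser in `GU` with prescribed determinant of norm one -/
theorem exists_stab_det (b : Frame D n k) (hk : 1 ≤ k) (h1 : b.U₁ = Dd 0) (h2 : b.U₂ = Dd 1)
    (δ : F) (hδ : δ * D.τ δ = 1) :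
    ∃ C : GL (Fin n) F, C ∈ Cfsg.GU n F q ∧ C ∈ Cfsg.Geo.decompositionStabilizer Dd ∧
      (C : Matrix (Fin n) (Fin n) F).det = δ := by
  obtain ⟨lam, hlam⟩ := D.hne
  obtain ⟨z, hzu, hz⟩ := Cfsg.Agent.Lib.H11.HermNorm.hilbert90 (phi D) (phi_phi D) lam
    (isUnit_iff_ne_zero.2 (sub_ne_zero.2 (Ne.symm hlam))) δ hδ
  have hz0 : z ≠ 0 := hzu.ne_zero
  obtain ⟨A, hA⟩ := exists_gl_det (k := k) hk z hz0
  refine ⟨b.psi A, b.psi_mem_GU A, psi_mem_stab b h1 h2 A, ?_⟩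
  rw [b.psi_det, hA]
  have h4 : (A : Matrix (Fin k) (Fin k) F).det *
      ((A⁻¹ : GL (Fin k) F) : Matrix (Fin k) (Fin k) F).det = 1 := by
    rw [← Matrix.det_mul, ← Units.val_mul, mul_inv_cancel, Units.val_one, Matrix.det_one]
  rw [hA] at h4
  have h6 : ((A⁻¹ : GL (Fin k) F) : Matrix (Fin k) (Fin k) F).det = z⁻¹ :=
    eq_inv_of_mul_eq_one_right h4
  rw [h6, map_inv₀]
  have hz' : D.τ z * δ = z := hz
  have hτz : D.τ z ≠ 0 := (map_ne_zero D.τ).mpr hz0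
  field_simp
  linear_combination (-1 : F) * hz'

/-- adjusting the determinant of a conjugating element -/
theorem adjust (b : Frame D n k) (hk : 1 ≤ k) (h1 : b.U₁ = Dd 0) (h2 : b.U₂ = Dd 1)
    (x g₀ : GL (Fin n) F) (hg₀ : g₀ ∈ Cfsg.GU n F q)
    (hmem : g₀⁻¹ * x * g₀ ∈ Cfsg.Geo.decompositionStabilizer Dd) :
    ∃ g ∈ Cfsg.GU n F q ⊓ Cfsg.Geo.specialLinear (Fin n) F,
      g⁻¹ * x * g ∈ Cfsg.Geo.decompositionStabilizer Dd := by
  set dg : F := (g₀ : Matrix (Fin n) (Fin n) F).det with hdg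
  have hu := (mem_GU_iff_ct (D := D) g₀).1 hg₀
  have hnorm : D.τ dg * dg = 1 := by
    have := congrArg Matrix.det hu
    rwa [Matrix.det_mul, det_ct, Matrix.det_one] at this
  have hdg0 : dg ≠ 0 := right_ne_zero_of_mul_eq_one hnorm
  have hδ : dg⁻¹ * D.τ dg⁻¹ = 1 := by
    rw [map_inv₀, ← mul_inv, mul_comm dg, hnorm, inv_one]
  obtain ⟨C, hCU, hCS, hCd⟩ := exists_stab_det b hk h1 h2 dg⁻¹ hδ
  refine ⟨g₀ * C, ⟨(Cfsg.GU n F q).mul_mem hg₀ hCU,
    (Cfsg.Agent.Lib.H28.mem_specialLinear_iff _).2 ?_⟩, ?_⟩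
  · rw [Units.val_mul, Matrix.det_mul, hCd, mul_inv_cancel₀ hdg0]
  · have : (g₀ * C)⁻¹ * x * (g₀ * C) = C⁻¹ * (g₀⁻¹ * x * g₀) * C := by group
    rw [this]
    exact (Cfsg.Geo.decompositionStabilizer Dd).mul_mem
      ((Cfsg.Geo.decompositionStabilizer Dd).mul_mem
        ((Cfsg.Geo.decompositionStabilizer Dd).inv_mem hCS) hmem) hCS

/-- the eigenspaces of `x` with `x² = λ²`, `λ λ^q = -1`, form a pair -/
theorem hpair_of_nonsplit (D : UF F q) (hn : n = k + k) (h2 : (2 : F) ≠ 0) (x : GL (Fin n) F)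
    (hx : x ∈ Cfsg.GU n F q) (lam : F) (hlam : lam * D.τ lam = -1)
    (hx2 : (x : Matrix (Fin n) (Fin n) F) * (x : Matrix (Fin n) (Fin n) F) = (lam * lam) • 1) :
    HPair (phi D) (LinearMap.ker (Tm x lam)) (LinearMap.ker (Tm x (-lam))) k := by
  have hlam0 : lam ≠ 0 := by
    rintro rfl
    rw [zero_mul] at hlam
    have : (1 : F) = 0 := by linear_combination hlam
    exact one_ne_zero this
  have hiso : ∀ μ : F, μ * D.τ μ = -1 → ∀ u ∈ LinearMap.ker (Tm x μ),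
      ∀ v ∈ LinearMap.ker (Tm x μ), Bs (phi D) n u v = 0 := by
    intro μ hμ u hu v hv
    rw [mem_ker_Tm] at hu hv
    have h1 := gu_preserves (phi D) (phi_pow D) ⟨x, hx⟩ u v
    have h1' : Bs (phi D) n ((x : Matrix (Fin n) (Fin n) F) *ᵥ u)
        ((x : Matrix (Fin n) (Fin n) F) *ᵥ v) = Bs (phi D) n u v := h1
    rw [hu, hv, LinearMap.map_smulₛₗ₂, map_smul, smul_eq_mul, smul_eq_mul] at h1'
    have h3 : (2 : F) * Bs (phi D) n u v = 0 := by
      have hμ' : μ * phi D μ = -1 := hμ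
      linear_combination (Bs (phi D) n u v) * hμ' - h1'
    rcases mul_eq_zero.1 h3 with h | h
    · exact absurd h h2
    · exact h
  have hiso₁ := hiso lam hlam
  have hiso₂ := hiso (-lam) (by rw [map_neg]; linear_combination hlam)
  have hdisj : LinearMap.ker (Tm x lam) ⊓ LinearMap.ker (Tm x (-lam)) = ⊥ := by
    rw [eq_bot_iff]
    rintro v ⟨hv1, hv2⟩
    have hv1' := (mem_ker_Tm x lam v).1 hv1
    have hv2' := (mem_ker_Tm x (-lam) v).1 hv2
    have h3 : ((2 : F) * lam) • v = 0 := by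
      have : lam • v = (-lam) • v := hv1'.symm.trans hv2'
      rw [mul_smul, two_smul]
      nth_rewrite 2 [this]
      rw [neg_smul, add_neg_cancel]
    rw [Submodule.mem_bot]
    rcases smul_eq_zero.1 h3 with h | h
    · exact absurd h (mul_ne_zero h2 hlam0)
    · exact h
  have hxx : ∀ v : Fin n → F, (x : Matrix (Fin n) (Fin n) F) *ᵥ
      ((x : Matrix (Fin n) (Fin n) F) *ᵥ v) = (lam * lam) • v := by
    intro v
    rw [Matrix.mulVec_mulVec, hx2, Matrix.smul_mulVec, Matrix.one_mulVec]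
  have hspan : ∀ v : Fin n → F, ∃ x₁ ∈ LinearMap.ker (Tm x lam),
      ∃ x₂ ∈ LinearMap.ker (Tm x (-lam)), v = x₁ + x₂ := by
    intro v
    have h2l : (2 : F) * lam ≠ 0 := mul_ne_zero h2 hlam0
    refine ⟨((2 : F) * lam)⁻¹ • ((x : Matrix (Fin n) (Fin n) F) *ᵥ v + lam • v), ?_,
      ((2 : F) * lam)⁻¹ • (lam • v - (x : Matrix (Fin n) (Fin n) F) *ᵥ v), ?_, ?_⟩
    · rw [mem_ker_Tm, Matrix.mulVec_smul, Matrix.mulVec_add, hxx, Matrix.mulVec_smul]
      module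
    · rw [mem_ker_Tm, Matrix.mulVec_smul, Matrix.mulVec_sub, hxx, Matrix.mulVec_smul]
      module
    · rw [← smul_add]
      have : (x : Matrix (Fin n) (Fin n) F) *ᵥ v + lam • v +
          (lam • v - (x : Matrix (Fin n) (Fin n) F) *ᵥ v) = ((2 : F) * lam) • v := by module
      rw [this, smul_smul, inv_mul_cancel₀ h2l, one_smul]
  have hsup : LinearMap.ker (Tm x lam) ⊔ LinearMap.ker (Tm x (-lam)) = ⊤ := by
    rw [eq_top_iff]
    intro v _
    obtain ⟨x₁, hx₁, x₂, hx₂, rfl⟩ := hspan v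
    exact Submodule.add_mem_sup hx₁ hx₂
  have hfr := Submodule.finrank_sup_add_finrank_inf_eq (LinearMap.ker (Tm x lam))
    (LinearMap.ker (Tm x (-lam)))
  rw [hsup, hdisj, finrank_bot, add_zero, finrank_top, Module.finrank_fintype_fun_eq_card,
    Fintype.card_fin] at hfr
  have hb1 := ts_bound (phi_phi D) _ hiso₁
  have hb2 := ts_bound (phi_phi D) _ hiso₂
  exact ⟨hiso₁, hiso₂, hdisj, hspan, by omega, by omega⟩

/-- fusion of the elements with `x² = λ²`, `λ λ^q = -1` -/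
theorem fuse_nonsplit (hP : HPair (phi D) (Dd 0) (Dd 1) k) (hk : 1 ≤ k) (h2 : (2 : F) ≠ 0)
    (x : GL (Fin n) F) (hx : x ∈ Cfsg.GU n F q) (lam : F) (hlam : lam * D.τ lam = -1)
    (hx2 : (x : Matrix (Fin n) (Fin n) F) * (x : Matrix (Fin n) (Fin n) F) = (lam * lam) • 1) :
    ∃ g ∈ Cfsg.GU n F q ⊓ Cfsg.Geo.specialLinear (Fin n) F,
      g⁻¹ * x * g ∈ Cfsg.Geo.decompositionStabilizer Dd := by
  have hn := HPair.two_mul hP
  have hP' := hpair_of_nonsplit D hn h2 x hx lam hlam hx2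
  obtain ⟨b, hb1, hb2⟩ := exists_frame hP
  obtain ⟨b', hb1', hb2'⟩ := exists_frame hP'
  obtain ⟨g₀, hg₀, hQ⟩ := b.exists_conj b'
  apply adjust b hk hb1 hb2 x g₀ hg₀
  have key : ∀ (μ : F) (v : Fin n → F),
      (x : Matrix (Fin n) (Fin n) F) *ᵥ ((g₀ : Matrix (Fin n) (Fin n) F) *ᵥ v) =
        μ • ((g₀ : Matrix (Fin n) (Fin n) F) *ᵥ v) →
      ((g₀⁻¹ * x * g₀ : GL (Fin n) F) : Matrix (Fin n) (Fin n) F) *ᵥ v = μ • v := by
    intro μ v hv
    rw [gl_mul_mulVec, gl_mul_mulVec, hv, Matrix.mulVec_smul, gl_inv_mulVec]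
  apply Cfsg.Agent.Lib.H11.PairStab.mem_stab_of_stab2
  · intro v hv
    have h1 : (g₀ : Matrix (Fin n) (Fin n) F) *ᵥ v ∈ LinearMap.ker (Tm x lam) := by
      rw [← hb1', Frame.mem_U₁]
      intro j
      rw [hQ]
      rw [← hb1, Frame.mem_U₁] at hv
      exact hv j
    rw [key lam v ((mem_ker_Tm x lam _).1 h1)]
    exact (Dd 0).smul_mem _ hv
  · intro v hv
    have h1 : (g₀ : Matrix (Fin n) (Fin n) F) *ᵥ v ∈ LinearMap.ker (Tm x (-lam)) := by
      rw [← hb2', Frame.mem_U₂]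
      intro j
      rw [hQ]
      rw [← hb2, Frame.mem_U₂] at hv
      exact hv j
    rw [key (-lam) v ((mem_ker_Tm x (-lam) _).1 h1)]
    exact (Dd 1).smul_mem _ hv

end Cfsg.Agent.Lib.H11.SuDec
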