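import Cfsg.Agent.Lib.H11.SuPar3

/-!
Non-degenerate subspaces of the unitary space `(F^n, Bs φ n)`.
-/

set_option autoImplicit false
set_option linter.unusedSimpArgs false
set_option linter.unusedSectionVars false
set_option linter.unusedVariables false

namespace Cfsg.Agent.Lib.H11.SuNd

open Matrix Module
open Cfsg.Agent.S0837 (Bs Bs_apply Bs_symm Bs_nondeg)

variable {F : Type*} [Field F] [Fintype F] {n : ℕ} (φ : F →+* F)

/-- the restriction of the form to `X` is non-degenerate -/
def NondegOn (X : Submodule F (Fin n → F)) : Prop :=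
  ∀ x ∈ X, x ≠ 0 → ∃ x' ∈ X, Bs φ n x' x ≠ 0

/-- the orthogonal complement -/
def perp (W : Submodule F (Fin n → F)) : Submodule F (Fin n → F) where
  carrier := {v | ∀ w ∈ W, Bs φ n w v = 0}
  add_mem' := by
    intro a b ha hb w hw
    rw [map_add, ha w hw, hb w hw, add_zero]
  zero_mem' := by
    intro w hw
    rw [map_zero]
  smul_mem' := by
    intro c a ha w hw
    rw [map_smul, ha w hw, smul_zero]

variable {φ}

theorem mem_perp {W : Submodule F (Fin n → F)} {v : Fin n → F} :
    v ∈ perp φ W ↔ ∀ w ∈ W, Bs φ n w v = 0 := Iff.rfl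

theorem B_perp_left (hφ2 : ∀ x, φ (φ x) = x) {W : Submodule F (Fin n → F)} {u w : Fin n → F}
    (hu : u ∈ perp φ W) (hw : w ∈ W) : Bs φ n u w = 0 := by
  rw [← (Bs_symm φ hφ2 n).eq w u, hu w hw, map_zero]

theorem inf_perp_eq_bot {W : Submodule F (Fin n → F)} (hW : NondegOn φ W) :
    W ⊓ perp φ W = ⊥ := by
  rw [eq_bot_iff]
  rintro v ⟨hv1, hv2⟩
  by_contra hv0
  obtain ⟨x', hx', hne⟩ := hW v hv1 hv0
  exact hne (hv2 x' hx')

/-- the set of `w` with `B(w, v) = 0` as a submodule -/
def lperp (v : Fin n → F) : Submodule F (Fin n → F) where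
  carrier := {w | Bs φ n w v = 0}
  add_mem' := by
    intro a b ha hb
    show Bs φ n (a + b) v = 0
    rw [map_add, LinearMap.add_apply, ha, hb, add_zero]
  zero_mem' := by
    show Bs φ n 0 v = 0
    rw [map_zero, LinearMap.zero_apply]
  smul_mem' := by
    intro c a ha
    show Bs φ n (c • a) v = 0
    rw [map_smulₛₗ, LinearMap.smul_apply, ha, smul_zero]

theorem finrank_perp_ge (W : Submodule F (Fin n → F)) :
    n ≤ finrank F W + finrank F (perp φ W) := by
  let b := Module.finBasis F W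
  obtain ⟨L, hL⟩ : ∃ L : (Fin n → F) →ₗ[F] (Fin (finrank F W) → F),
      L = LinearMap.pi (fun i => Bs φ n ((b i : W) : Fin n → F)) := ⟨_, rfl⟩
  have hle : LinearMap.ker L ≤ perp φ W := by
    intro v hv w hw
    rw [LinearMap.mem_ker, hL] at hv
    have h1 : ∀ i, Bs φ n ((b i : W) : Fin n → F) v = 0 := by
      intro i
      have := congrFun hv i
      simpa using this
    have h2 : W ≤ lperp (φ := φ) v := by
      have h3 : (⊤ : Submodule F W) ≤ (lperp (φ := φ) v).comap W.subtype := by
        rw [← b.span_eq, Submodule.span_le]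
        rintro _ ⟨i, rfl⟩
        exact h1 i
      intro w hw
      exact h3 (Submodule.mem_top (x := ⟨w, hw⟩))
    exact h2 hw
  have h1 := LinearMap.finrank_range_add_finrank_ker L
  have h2 : finrank F (LinearMap.range L) ≤ finrank F W := by
    have := Submodule.finrank_le (LinearMap.range L)
    rwa [Module.finrank_fintype_fun_eq_card, Fintype.card_fin] at this
  have h3 := Submodule.finrank_mono hle
  rw [Module.finrank_fintype_fun_eq_card, Fintype.card_fin] at h1
  omega

theorem sup_perp_eq_top {W : Submodule F (Fin n → F)} (hW : NondegOn φ W) :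
    W ⊔ perp φ W = ⊤ := by
  apply Submodule.eq_top_of_finrank_eq
  have h1 := Submodule.finrank_sup_add_finrank_inf_eq W (perp φ W)
  rw [inf_perp_eq_bot hW, finrank_bot, add_zero] at h1
  have h2 := finrank_perp_ge (φ := φ) W
  have h3 := Submodule.finrank_le (W ⊔ perp φ W)
  rw [Module.finrank_fintype_fun_eq_card, Fintype.card_fin] at h3 ⊢
  omega

theorem finrank_perp {W : Submodule F (Fin n → F)} (hW : NondegOn φ W) :
    finrank F W + finrank F (perp φ W) = n := by
  have h1 := Submodule.finrank_sup_add_finrank_inf_eq W (perp φ W)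
  rw [inf_perp_eq_bot hW, finrank_bot, add_zero, sup_perp_eq_top hW, finrank_top,
    Module.finrank_fintype_fun_eq_card, Fintype.card_fin] at h1
  exact h1.symm

theorem exists_decomp {W : Submodule F (Fin n → F)} (hW : NondegOn φ W) (v : Fin n → F) :
    ∃ w ∈ W, ∃ u ∈ perp φ W, v = w + u := by
  have : v ∈ W ⊔ perp φ W := by rw [sup_perp_eq_top hW]; trivial
  obtain ⟨w, hw, u, hu, h⟩ := Submodule.mem_sup.1 this
  exact ⟨w, hw, u, hu, h.symm⟩

theorem decomp_unique {W : Submodule F (Fin n → F)} (hW : NondegOn φ W) {w w' u u' : Fin n → F}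
    (hw : w ∈ W) (hw' : w' ∈ W) (hu : u ∈ perp φ W) (hu' : u' ∈ perp φ W)
    (h : w + u = w' + u') : w = w' ∧ u = u' := by
  have h1 : w - w' ∈ W ⊓ perp φ W := by
    refine ⟨W.sub_mem hw hw', ?_⟩
    have : w - w' = u' - u := by
      rw [sub_eq_sub_iff_add_eq_add, add_comm u' w']; exact h
    rw [this]
    exact (perp φ W).sub_mem hu' hu
  rw [inf_perp_eq_bot hW, Submodule.mem_bot, sub_eq_zero] at h1
  refine ⟨h1, ?_⟩
  rw [h1] at h
  exact add_left_cancel h

theorem nondegOn_perp (hφ2 : ∀ x, φ (φ x) = x) {W : Submodule F (Fin n → F)}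
    (hW : NondegOn φ W) : NondegOn φ (perp φ W) := by
  intro u hu hu0
  have h1 : ∃ v, Bs φ n v u ≠ 0 := by
    by_contra hcon
    push Not at hcon
    exact hu0 ((Bs_nondeg φ n).2 u hcon)
  obtain ⟨v, hv⟩ := h1
  obtain ⟨w, hw, u', hu', rfl⟩ := exists_decomp hW v
  refine ⟨u', hu', ?_⟩
  rw [map_add, LinearMap.add_apply, hu w hw, zero_add] at hv
  exact hv

theorem perp_perp (hφ2 : ∀ x, φ (φ x) = x) {W : Submodule F (Fin n → F)} (hW : NondegOn φ W)
    {v : Fin n → F} (hv : ∀ u ∈ perp φ W, Bs φ n u v = 0) : v ∈ W := by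
  obtain ⟨w, hw, u, hu, rfl⟩ := exists_decomp hW v
  have h1 : u = 0 := by
    by_contra hu0
    obtain ⟨u', hu', hne⟩ := nondegOn_perp hφ2 hW u hu hu0
    apply hne
    have := hv u' hu'
    rwa [map_add, B_perp_left hφ2 hu' hw, zero_add] at this
  rw [h1, add_zero]
  exact hw

end Cfsg.Agent.Lib.H11.SuNd
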