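import Cfsg.Agent.Lib.H11.SuNd1

/-!
Existence lemmas inside non-degenerate subspaces of the unitary space.
-/

set_option autoImplicit false
set_option linter.unusedSimpArgs false
set_option linter.unusedSectionVars false
set_option linter.unusedVariables false

namespace Cfsg.Agent.Lib.H11.SuNd

open Matrix Module
open Cfsg.Agent.S0837 (Bs Bs_apply Bs_symm Bs_nondeg)
open Cfsg.Agent.S0782 (exists_trace)
open Cfsg.Agent.Lib.H11.UGen (Hyp exists_norm)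
open Cfsg.Agent.Lib.H11.SuPar (exists_tz_ne)

variable {F : Type*} [Field F] [Fintype F] {n q : ℕ} {φ : F →+* F}

theorem exists_partner_in (hφne : φ ≠ RingHom.id F) (hφ2 : ∀ x, φ (φ x) = x)
    {X : Submodule F (Fin n → F)} (hX : NondegOn φ X) {e : Fin n → F} (he : e ∈ X)
    (he0 : e ≠ 0) (hee : Bs φ n e e = 0) : ∃ f ∈ X, Hyp φ e f := by
  have hS := Bs_symm φ hφ2 n
  obtain ⟨f₀, hf₀X, hf₀⟩ := hX e he he0
  have hf₀' : Bs φ n e f₀ ≠ 0 := by
    rw [← hS.eq f₀ e]; exact (map_ne_zero φ).2 hf₀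
  obtain ⟨f₁, hf₁⟩ : ∃ f₁, f₁ = (Bs φ n e f₀)⁻¹ • f₀ := ⟨_, rfl⟩
  have hf₁X : f₁ ∈ X := by rw [hf₁]; exact X.smul_mem _ hf₀X
  have h1 : Bs φ n e f₁ = 1 := by
    rw [hf₁, map_smul, smul_eq_mul, inv_mul_cancel₀ hf₀']
  have h1' : Bs φ n f₁ e = 1 := by rw [← hS.eq e f₁, h1, map_one]
  obtain ⟨t, ht⟩ := exists_trace hφne hφ2 (Bs φ n f₁ f₁) (hS.eq f₁ f₁)
  refine ⟨f₁ + t • e, X.add_mem hf₁X (X.smul_mem _ he), ⟨hee, ?_, ?_, ?_⟩⟩
  · simp only [map_add, map_smulₛₗ, map_smul, LinearMap.add_apply, LinearMap.smul_apply,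
      smul_eq_mul, hee, h1, h1', mul_zero, mul_one, add_zero, RingHom.id_apply]
    linear_combination ht
  · rw [map_add, map_smul, hee, h1, smul_zero, add_zero]
  · rw [map_add, LinearMap.add_apply, map_smulₛₗ, LinearMap.smul_apply, hee, h1', smul_zero,
      add_zero]

theorem exists_aniso_in (hφne : φ ≠ RingHom.id F) (hφ2 : ∀ x, φ (φ x) = x)
    {X : Submodule F (Fin n → F)} (hX : NondegOn φ X) (hX0 : X ≠ ⊥) :
    ∃ e ∈ X, Bs φ n e e ≠ 0 := by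
  obtain ⟨x, hxX, hx0⟩ := (Submodule.ne_bot_iff X).1 hX0
  by_cases hxx : Bs φ n x x = 0
  · obtain ⟨f, hfX, hyp⟩ := exists_partner_in hφne hφ2 hX hxX hx0 hxx
    obtain ⟨t, ht⟩ := exists_trace hφne hφ2 (-1 : F) (by rw [map_neg, map_one])
    refine ⟨x + t • f, X.add_mem hxX (X.smul_mem _ hfX), ?_⟩
    simp only [map_add, map_smulₛₗ, map_smul, LinearMap.add_apply, LinearMap.smul_apply,
      smul_eq_mul, hyp.ee, hyp.ff, hyp.ef, hyp.fe, mul_zero, mul_one, add_zero, zero_add,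
      RingHom.id_apply]
    have : t + φ t = 1 := by linear_combination ht
    rw [add_comm, this]
    exact one_ne_zero
  · exact ⟨x, hxX, hxx⟩

theorem finrank_inf_ker_ge (X : Submodule F (Fin n → F)) (b : Fin n → F) :
    finrank F X ≤ finrank F ↥(X ⊓ LinearMap.ker (Bs φ n b)) + 1 := by
  have h1 := Submodule.finrank_sup_add_finrank_inf_eq X (LinearMap.ker (Bs φ n b))
  have h2 := LinearMap.finrank_range_add_finrank_ker (Bs φ n b)
  have h3 : finrank F (LinearMap.range (Bs φ n b)) ≤ 1 := by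
    have := Submodule.finrank_le (LinearMap.range (Bs φ n b))
    rwa [Module.finrank_self] at this
  have h4 := Submodule.finrank_le (X ⊔ LinearMap.ker (Bs φ n b))
  omega

theorem nondegOn_perp_aniso (hφ2 : ∀ x, φ (φ x) = x) {X : Submodule F (Fin n → F)}
    (hX : NondegOn φ X) {b : Fin n → F} (hb : b ∈ X) (hbb : Bs φ n b b ≠ 0) :
    NondegOn φ (X ⊓ LinearMap.ker (Bs φ n b)) := by
  have hS := Bs_symm φ hφ2 n
  rintro x ⟨hxX, hxb⟩ hx0
  replace hxb : Bs φ n b x = 0 := hxb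
  replace hxX : x ∈ X := hxX
  obtain ⟨x', hx'X, hne⟩ := hX x hxX hx0
  refine ⟨x' - (Bs φ n b x' / Bs φ n b b) • b, ⟨X.sub_mem hx'X (X.smul_mem _ hb), ?_⟩, ?_⟩
  · show Bs φ n b (x' - (Bs φ n b x' / Bs φ n b b) • b) = 0
    rw [map_sub, map_smul, smul_eq_mul, div_mul_cancel₀ _ hbb, sub_self]
  · rw [map_sub, LinearMap.sub_apply, map_smulₛₗ, LinearMap.smul_apply, hxb, smul_zero, sub_zero]
    exact hne

theorem nondegOn_perp_hyp (hφ2 : ∀ x, φ (φ x) = x) {X : Submodule F (Fin n → F)}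
    (hX : NondegOn φ X) {e f : Fin n → F} (he : e ∈ X) (hf : f ∈ X) (hyp : Hyp φ e f) :
    NondegOn φ (X ⊓ LinearMap.ker (Bs φ n e) ⊓ LinearMap.ker (Bs φ n f)) := by
  rintro x ⟨⟨hxX, hxe⟩, hxf⟩ hx0
  replace hxe : Bs φ n e x = 0 := hxe
  replace hxf : Bs φ n f x = 0 := hxf
  replace hxX : x ∈ X := hxX
  obtain ⟨x', hx'X, hne⟩ := hX x hxX hx0
  refine ⟨x' - Bs φ n f x' • e - Bs φ n e x' • f,
    ⟨⟨X.sub_mem (X.sub_mem hx'X (X.smul_mem _ he)) (X.smul_mem _ hf), ?_⟩, ?_⟩, ?_⟩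
  · show Bs φ n e (x' - Bs φ n f x' • e - Bs φ n e x' • f) = 0
    simp only [map_sub, map_smul, smul_eq_mul, hyp.ee, hyp.ef, mul_zero, mul_one, sub_zero,
      sub_self]
  · show Bs φ n f (x' - Bs φ n f x' • e - Bs φ n e x' • f) = 0
    simp only [map_sub, map_smul, smul_eq_mul, hyp.ff, hyp.fe, mul_zero, mul_one, sub_zero,
      sub_self]
  · simp only [map_sub, LinearMap.sub_apply, map_smulₛₗ, LinearMap.smul_apply, hxe, hxf,
      smul_zero, sub_zero]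
    exact hne

theorem ne_bot_of_finrank_pos {X : Submodule F (Fin n → F)} (h : 0 < finrank F X) : X ≠ ⊥ := by
  intro h0
  rw [h0, finrank_bot] at h
  exact lt_irrefl _ h

/-- an anisotropic vector of `X` orthogonal to a given vector of `X` -/
theorem exists_aniso_perp (hφne : φ ≠ RingHom.id F) (hφ2 : ∀ x, φ (φ x) = x)
    {X : Submodule F (Fin n → F)} (hX : NondegOn φ X) (h3 : 3 ≤ finrank F X) {b : Fin n → F}
    (hb : b ∈ X) : ∃ e ∈ X, Bs φ n b e = 0 ∧ Bs φ n e e ≠ 0 := by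
  have hS := Bs_symm φ hφ2 n
  by_cases hb0 : b = 0
  · obtain ⟨e, heX, hee⟩ := exists_aniso_in hφne hφ2 hX (ne_bot_of_finrank_pos (by omega))
    exact ⟨e, heX, by rw [hb0, map_zero, LinearMap.zero_apply], hee⟩
  by_cases hbb : Bs φ n b b = 0
  · obtain ⟨f, hfX, hyp⟩ := exists_partner_in hφne hφ2 hX hb hb0 hbb
    have hnd := nondegOn_perp_hyp hφ2 hX hb hfX hyp
    have h1 := finrank_inf_ker_ge (φ := φ) X b
    have h2 := finrank_inf_ker_ge (φ := φ) (X ⊓ LinearMap.ker (Bs φ n b)) f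
    obtain ⟨e, ⟨⟨heX, heb⟩, hef⟩, hee⟩ := exists_aniso_in hφne hφ2 hnd
      (ne_bot_of_finrank_pos (by omega))
    exact ⟨e, heX, heb, hee⟩
  · have hnd := nondegOn_perp_aniso hφ2 hX hb hbb
    have h1 := finrank_inf_ker_ge (φ := φ) X b
    obtain ⟨e, ⟨heX, heb⟩, hee⟩ := exists_aniso_in hφne hφ2 hnd
      (ne_bot_of_finrank_pos (by omega))
    exact ⟨e, heX, heb, hee⟩

/-- a nonzero isotropic vector in a non-degenerate subspace of dimension at least two -/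
theorem exists_iso_in (hF : Fintype.card F = q ^ 2) (hφ : ∀ x, φ x = x ^ q)
    (hφne : φ ≠ RingHom.id F) (hφ2 : ∀ x, φ (φ x) = x)
    {X : Submodule F (Fin n → F)} (hX : NondegOn φ X) (h2 : 2 ≤ finrank F X) :
    ∃ e ∈ X, e ≠ 0 ∧ Bs φ n e e = 0 := by
  have hS := Bs_symm φ hφ2 n
  obtain ⟨e₁, he₁X, he₁⟩ := exists_aniso_in hφne hφ2 hX (ne_bot_of_finrank_pos (by omega))
  have hnd := nondegOn_perp_aniso hφ2 hX he₁X he₁
  have h1 := finrank_inf_ker_ge (φ := φ) X e₁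
  obtain ⟨e₂, ⟨he₂X, he₁₂⟩, he₂⟩ := exists_aniso_in hφne hφ2 hnd
    (ne_bot_of_finrank_pos (by omega))
  replace he₁₂ : Bs φ n e₁ e₂ = 0 := he₁₂
  replace he₂X : e₂ ∈ X := he₂X
  have he₂₁ : Bs φ n e₂ e₁ = 0 := by rw [← hS.eq e₁ e₂, he₁₂, map_zero]
  -- solve `N(e₁) + λ λ̄ N(e₂) = 0`
  have hc : φ (-(Bs φ n e₁ e₁) / Bs φ n e₂ e₂) = -(Bs φ n e₁ e₁) / Bs φ n e₂ e₂ := by
    rw [map_div₀, map_neg, hS.eq e₁ e₁, hS.eq e₂ e₂]
  obtain ⟨l, hl⟩ := exists_norm φ hF hφ (-(Bs φ n e₁ e₁) / Bs φ n e₂ e₂)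
    (div_ne_zero (neg_ne_zero.2 he₁) he₂) hc
  refine ⟨e₁ + l • e₂, X.add_mem he₁X (X.smul_mem _ he₂X), ?_, ?_⟩
  · intro h0
    have := congrArg (fun v => Bs φ n e₁ v) h0
    simp only [map_add, map_smul, he₁₂, smul_zero, add_zero, map_zero] at this
    exact he₁ this
  · simp only [map_add, map_smulₛₗ, map_smul, LinearMap.add_apply, LinearMap.smul_apply,
      smul_eq_mul, he₁₂, he₂₁, mul_zero, add_zero, zero_add, RingHom.id_apply]
    have : l * φ l * Bs φ n e₂ e₂ = -(Bs φ n e₁ e₁) := by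
      rw [hl, div_mul_cancel₀ _ he₂]
    linear_combination this

/-- every vector of a non-degenerate subspace of dimension at least two is a sum of three
isotropic vectors of the subspace -/
theorem iso_span (hF : Fintype.card F = q ^ 2) (hφ : ∀ x, φ x = x ^ q)
    (hφne : φ ≠ RingHom.id F) (hφ2 : ∀ x, φ (φ x) = x)
    {X : Submodule F (Fin n → F)} (hX : NondegOn φ X) (h2 : 2 ≤ finrank F X) {v : Fin n → F}
    (hv : v ∈ X) : ∃ u₁ ∈ X, ∃ u₂ ∈ X, ∃ u₃ ∈ X, Bs φ n u₁ u₁ = 0 ∧ Bs φ n u₂ u₂ = 0 ∧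
      Bs φ n u₃ u₃ = 0 ∧ v = u₁ + u₂ + u₃ := by
  have hS := Bs_symm φ hφ2 n
  obtain ⟨e, heX, he0, hee⟩ := exists_iso_in hF hφ hφne hφ2 hX h2
  obtain ⟨f, hfX, hyp⟩ := exists_partner_in hφne hφ2 hX heX he0 hee
  obtain ⟨v', hv'⟩ : ∃ v', v' = v - Bs φ n f v • e - Bs φ n e v • f := ⟨_, rfl⟩
  have hv'X : v' ∈ X := by
    rw [hv']; exact X.sub_mem (X.sub_mem hv (X.smul_mem _ heX)) (X.smul_mem _ hfX)
  have hev' : Bs φ n e v' = 0 := by
    rw [hv']
    simp only [map_sub, map_smul, smul_eq_mul, hyp.ee, hyp.ef, mul_zero, mul_one, sub_zero,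
      sub_self]
  have hfv' : Bs φ n f v' = 0 := by
    rw [hv']
    simp only [map_sub, map_smul, smul_eq_mul, hyp.ff, hyp.fe, mul_zero, mul_one, sub_zero,
      sub_self]
  have hv'e : Bs φ n v' e = 0 := by rw [← hS.eq e v', hev', map_zero]
  have hv'f : Bs φ n v' f = 0 := by rw [← hS.eq f v', hfv', map_zero]
  obtain ⟨s, hs⟩ := exists_trace hφne hφ2 (Bs φ n v' v') (hS.eq v' v')
  refine ⟨v' + s • e + f, X.add_mem (X.add_mem hv'X (X.smul_mem _ heX)) hfX,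
    (Bs φ n f v - s) • e, X.smul_mem _ heX, (Bs φ n e v - 1) • f, X.smul_mem _ hfX, ?_, ?_, ?_, ?_⟩
  · simp only [map_add, map_smulₛₗ, map_smul, LinearMap.add_apply, LinearMap.smul_apply,
      smul_eq_mul, hyp.ee, hyp.ff, hyp.ef, hyp.fe, hev', hfv', hv'e, hv'f, mul_zero, mul_one,
      add_zero, zero_add, RingHom.id_apply]
    linear_combination hs
  · simp only [map_smulₛₗ, map_smul, LinearMap.smul_apply, smul_eq_mul, hyp.ee, mul_zero]
  · simp only [map_smulₛₗ, map_smul, LinearMap.smul_apply, smul_eq_mul, hyp.ff, mul_zero]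
  · rw [hv']
    module

end Cfsg.Agent.Lib.H11.SuNd
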