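import Cfsg.Agent.Lib.H11.SuNd2

/-!
Witt's theorem with a pointwise fixed subspace, and transitivity of the stabiliser of a
non-degenerate subspace.
-/

set_option autoImplicit false
set_option linter.unusedSimpArgs false
set_option linter.unusedSectionVars false
set_option linter.unusedVariables false

namespace Cfsg.Agent.Lib.H11.SuNd

open Matrix Module
open Cfsg.Agent.S0837 (Bs Bs_apply Bs_symm Bs_nondeg)
open Cfsg.Agent.S0782 (exists_trace guOfEquiv guOfEquiv_mulVec gu_preserves)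
open Cfsg.Agent.Lib.H11.UGen
open Cfsg.Agent.Lib.H11.USimple (guOfEquiv_act)
open Cfsg.Agent.Lib.H11.SuPar (exists_tz_ne mem_stab_of_le)
open Cfsg.Agent.Lib.H28 (mem_specialLinear_iff)

variable {F : Type*} [Field F] [Fintype F] {n q : ℕ} {φ : F →+* F}

theorem witt_fix (hφne : φ ≠ RingHom.id F) (hφ2 : ∀ x, φ (φ x) = x)
    (X : Submodule F (Fin n → F)) {x y : Fin n → F} (hx : x ∉ X) (hy : y ∉ X)
    (hxy : ∀ x' ∈ X, Bs φ n x' x = Bs φ n x' y) (hn : Bs φ n x x = Bs φ n y y) :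
    ∃ g : (Fin n → F) ≃ₗ[F] (Fin n → F), (∀ u v, Bs φ n (g u) (g v) = Bs φ n u v) ∧
      (∀ x' ∈ X, g x' = x') ∧ g x = y := by
  have hS := Bs_symm φ hφ2 n
  let b := Module.finBasis F X
  have hli : LinearIndependent F (fun i => ((b i : X) : Fin n → F)) :=
    b.linearIndependent.map' X.subtype (Submodule.ker_subtype X)
  have hspan : Submodule.span F (Set.range (fun i => ((b i : X) : Fin n → F))) ≤ X := by
    rw [Submodule.span_le]
    rintro _ ⟨i, rfl⟩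
    exact (b i).2
  have hX : LinearIndependent F
      (Fin.cons x (fun i => ((b i : X) : Fin n → F)) : Fin (finrank F X + 1) → Fin n → F) :=
    linearIndependent_finCons.2 ⟨hli, fun h => hx (hspan h)⟩
  have hY : LinearIndependent F
      (Fin.cons y (fun i => ((b i : X) : Fin n → F)) : Fin (finrank F X + 1) → Fin n → F) :=
    linearIndependent_finCons.2 ⟨hli, fun h => hy (hspan h)⟩
  obtain ⟨g, hgiso, hgb⟩ := Cfsg.Agent.S0751.witt_family (Bs φ n) hφne hφ2 hS (Bs_nondeg φ n) _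
    _ _ hX hY (by
      intro i j
      refine Fin.cases ?_ (fun i' => ?_) i <;> refine Fin.cases ?_ (fun j' => ?_) j
      · simp only [Fin.cons_zero]; exact hn.symm
      · simp only [Fin.cons_zero, Fin.cons_succ]
        rw [← hS.eq (b j' : Fin n → F) y, ← hS.eq (b j' : Fin n → F) x, hxy _ (b j').2]
      · simp only [Fin.cons_zero, Fin.cons_succ]
        exact (hxy _ (b i').2).symm
      · simp only [Fin.cons_succ])
  refine ⟨g, hgiso, ?_, by simpa using hgb 0⟩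
  intro x' hx'
  have h1 : (g : (Fin n → F) →ₗ[F] (Fin n → F)).comp X.subtype = X.subtype := by
    apply b.ext
    intro i
    have := hgb i.succ
    simpa using this
  exact congrArg (fun ψ : X →ₗ[F] (Fin n → F) => ψ ⟨x', hx'⟩) h1

theorem det_norm' (hF : Fintype.card F = q ^ 2) (hφ : ∀ x, φ x = x ^ q)
    (g : ↥(Cfsg.GU n F q)) : g.1.1.det * φ g.1.1.det = 1 := by
  rw [hφ]
  exact Cfsg.Agent.Lib.H2.Unitary.det_norm hF g.1 g.2

/-- the stabiliser of a non-degenerate `W` in `SU` is transitive on the vectors `a + b` with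
prescribed norms of the components -/
theorem exists_trans (hF : Fintype.card F = q ^ 2) (hφ : ∀ x, φ x = x ^ q)
    (hφ2 : ∀ x, φ (φ x) = x) {W : Submodule F (Fin n → F)} (hW : NondegOn φ W)
    (h3 : 3 ≤ finrank F (perp φ W)) {a₀ a b₀ b : Fin n → F} (ha₀ : a₀ ∈ W) (ha : a ∈ W)
    (hb₀ : b₀ ∈ perp φ W) (hb : b ∈ perp φ W) (ha₀0 : a₀ ≠ 0) (ha0 : a ≠ 0) (hb₀0 : b₀ ≠ 0)
    (hb0 : b ≠ 0) (hna : Bs φ n a a = Bs φ n a₀ a₀) (hnb : Bs φ n b b = Bs φ n b₀ b₀) :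
    ∃ g : GL (Fin n) F, g ∈ Cfsg.Geo.subspaceStabilizer W ⊓
        (Cfsg.GU n F q ⊓ Cfsg.Geo.specialLinear (Fin n) F) ∧ g.1 *ᵥ (a₀ + b₀) = a + b := by
  have hφne := Cfsg.Agent.S0837.phi_ne_id φ hF hφ
  have hS := Bs_symm φ hφ2 n
  have hU := nondegOn_perp hφ2 hW
  have hnotW : ∀ {u : Fin n → F}, u ∈ perp φ W → u ≠ 0 → u ∉ W := by
    intro u hu hu0 huW
    have : u ∈ W ⊓ perp φ W := ⟨huW, hu⟩
    rw [inf_perp_eq_bot hW, Submodule.mem_bot] at this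
    exact hu0 this
  have hnotU : ∀ {w : Fin n → F}, w ∈ W → w ≠ 0 → w ∉ perp φ W := by
    intro w hw hw0 hwU
    have : w ∈ W ⊓ perp φ W := ⟨hw, hwU⟩
    rw [inf_perp_eq_bot hW, Submodule.mem_bot] at this
    exact hw0 this
  obtain ⟨g₁, hg₁iso, hg₁fix, hg₁b⟩ := witt_fix hφne hφ2 W (hnotW hb₀ hb₀0) (hnotW hb hb0)
    (fun w hw => by rw [hb₀ w hw, hb w hw]) hnb.symm
  obtain ⟨g₂, hg₂iso, hg₂fix, hg₂a⟩ := witt_fix hφne hφ2 (perp φ W) (hnotU ha₀ ha₀0)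
    (hnotU ha ha0) (fun u hu => by rw [B_perp_left hφ2 hu ha₀, B_perp_left hφ2 hu ha]) hna.symm
  have hg₂W : ∀ w ∈ W, g₂ w ∈ W := by
    intro w hw
    apply perp_perp hφ2 hW
    intro u hu
    rw [← hg₂fix u hu, hg₂iso, B_perp_left hφ2 hu hw]
  obtain ⟨gU, hgU⟩ : ∃ gU : ↥(Cfsg.GU n F q),
      gU = guOfEquiv φ hφ (g₁.trans g₂) (fun u v => by
        simp only [LinearEquiv.trans_apply]; rw [hg₂iso, hg₁iso]) := ⟨_, rfl⟩
  have hgUact : ∀ v, act gU v = g₂ (g₁ v) := by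
    intro v; rw [hgU, guOfEquiv_act]; rfl
  obtain ⟨e, heU, hbe, hee⟩ := exists_aniso_perp hφne hφ2 hU h3 hb
  have hδ := det_norm' hF hφ gU
  obtain ⟨δ, hδ_def⟩ : ∃ δ, δ = gU.1.1.det := ⟨_, rfl⟩
  rw [← hδ_def] at hδ
  have hδ0 : δ ≠ 0 := by
    intro h0; rw [h0, zero_mul] at hδ; exact zero_ne_one hδ
  have hα : δ⁻¹ * φ δ⁻¹ = 1 := by
    rw [map_inv₀, ← mul_inv, hδ, inv_one]
  have heW : ∀ w ∈ W, Bs φ n e w = 0 := fun w hw => B_perp_left hφ2 heU hw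
  have heb : Bs φ n e b = 0 := by rw [← hS.eq b e, hbe, map_zero]
  refine ⟨(qEl φ hφ hφ2 e hee δ⁻¹ hα * gU).1, ⟨?_, (qEl φ hφ hφ2 e hee δ⁻¹ hα * gU).2, ?_⟩, ?_⟩
  · apply mem_stab_of_le
    intro w hw
    show act (qEl φ hφ hφ2 e hee δ⁻¹ hα * gU) w ∈ W
    rw [act_mul, hgUact, hg₁fix w hw, qEl_act_of_orth φ hφ hφ2 e hee δ⁻¹ hα _
      (heW _ (hg₂W w hw))]
    exact hg₂W w hw
  · show (qEl φ hφ hφ2 e hee δ⁻¹ hα * gU).1 ∈ Cfsg.Geo.specialLinear (Fin n) F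
    rw [mem_specialLinear_iff]
    show (qEl φ hφ hφ2 e hee δ⁻¹ hα * gU).1.1.det = 1
    rw [det_mul', qEl_det, ← hδ_def, inv_mul_cancel₀ hδ0]
  · show act (qEl φ hφ hφ2 e hee δ⁻¹ hα * gU) (a₀ + b₀) = a + b
    rw [act_mul, hgUact, map_add, map_add, hg₁fix a₀ ha₀, hg₁b, hg₂a, hg₂fix b hb]
    apply qEl_act_of_orth
    rw [map_add, heW a ha, heb, add_zero]

end Cfsg.Agent.Lib.H11.SuNd
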