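import Cfsg.Agent.Lib.H11.SuNd3

/-!
The stabiliser of a non-degenerate subspace in `SU_n(q)`: orbits of centres.
-/

set_option autoImplicit false
set_option linter.unusedSimpArgs false
set_option linter.unusedSectionVars false
set_option linter.unusedVariables false

namespace Cfsg.Agent.Lib.H11.SuNd

open Matrix Module
open Cfsg.Agent.S0837 (Bs Bs_apply Bs_symm Bs_nondeg)
open Cfsg.Agent.S0782 (exists_trace guOfEquiv guOfEquiv_mulVec gu_preserves)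
open Cfsg.Agent.Lib.H11.UGen
open Cfsg.Agent.Lib.H11.SuPar (exists_tz_ne mem_stab_of_le Cen Cen_smul Cen_act Cen_of_smul
  tv_mem_stab)
open Cfsg.Agent.Lib.H11.SuSp (tv tv_val tv_mulVec tv_mem_GU tv_mem_SL gl_inj)
open Cfsg.Agent.Lib.H11.SubspMax (gl_mul_mulVec gl_inv_mulVec gl_mulVec_inv gl_ext)
open Cfsg.Agent.Lib.H28 (mem_specialLinear_iff mem_subspaceStabilizer_iff)

variable {F : Type*} [Field F] [Fintype F] {n q : ℕ} {φ : F →+* F}

theorem B_decomp (hφ2 : ∀ x, φ (φ x) = x) {W : Submodule F (Fin n → F)} {a b a' b' : Fin n → F}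
    (ha : a ∈ W) (hb : b ∈ perp φ W) (ha' : a' ∈ W) (hb' : b' ∈ perp φ W) :
    Bs φ n (a + b) (a' + b') = Bs φ n a a' + Bs φ n b b' := by
  simp only [map_add, LinearMap.add_apply, hb' a ha, B_perp_left hφ2 hb ha', add_zero, zero_add]

section orbits
variable (hF : Fintype.card F = q ^ 2) (hφ : ∀ x, φ x = x ^ q) (hφ2 : ∀ x, φ (φ x) = x)
  {W : Submodule F (Fin n → F)} (hW : NondegOn φ W) (h3 : 3 ≤ finrank F (perp φ W))
  {H : Subgroup (GL (Fin n) F)}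
  (hMH : Cfsg.Geo.subspaceStabilizer W ⊓
    (Cfsg.GU n F q ⊓ Cfsg.Geo.specialLinear (Fin n) F) ≤ H)
  (hHG : H ≤ Cfsg.GU n F q ⊓ Cfsg.Geo.specialLinear (Fin n) F)
include hF hφ hφ2 hW h3 hMH hHG

/-- one centre with anisotropic components gives all of them -/
theorem allN {a₀ b₀ : Fin n → F} (ha₀ : a₀ ∈ W) (hb₀ : b₀ ∈ perp φ W)
    (hx₀ : a₀ + b₀ ∈ Cen hφ hφ2 H) (hiso₀ : Bs φ n (a₀ + b₀) (a₀ + b₀) = 0)
    (ht₀ : Bs φ n a₀ a₀ ≠ 0) {a b : Fin n → F} (ha : a ∈ W) (hb : b ∈ perp φ W)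
    (hiso : Bs φ n (a + b) (a + b) = 0) (ht : Bs φ n a a ≠ 0) : a + b ∈ Cen hφ hφ2 H := by
  have hS := Bs_symm φ hφ2 n
  have hHGU : H ≤ Cfsg.GU n F q := fun g hg => (hHG hg).1
  rw [B_decomp hφ2 ha₀ hb₀ ha₀ hb₀] at hiso₀
  rw [B_decomp hφ2 ha hb ha hb] at hiso
  have hfix : φ (Bs φ n a a / Bs φ n a₀ a₀) = Bs φ n a a / Bs φ n a₀ a₀ := by
    rw [map_div₀, hS.eq a a, hS.eq a₀ a₀]
  obtain ⟨l, hl⟩ := exists_norm φ hF hφ _ (div_ne_zero ht ht₀) hfix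
  have hl0 : l ≠ 0 := by
    rintro rfl
    rw [zero_mul] at hl
    exact div_ne_zero ht ht₀ hl.symm
  have hna : Bs φ n a a = Bs φ n (l • a₀) (l • a₀) := by
    simp only [map_smulₛₗ, map_smul, LinearMap.smul_apply, smul_eq_mul, RingHom.id_apply]
    have : l * φ l * Bs φ n a₀ a₀ = Bs φ n a a := by rw [hl, div_mul_cancel₀ _ ht₀]
    linear_combination -this
  have hnb : Bs φ n b b = Bs φ n (l • b₀) (l • b₀) := by
    simp only [map_smulₛₗ, map_smul, LinearMap.smul_apply, smul_eq_mul, RingHom.id_apply]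
    have : l * φ l * Bs φ n a₀ a₀ = Bs φ n a a := by rw [hl, div_mul_cancel₀ _ ht₀]
    linear_combination this + hiso - (l * φ l) * hiso₀
  have hb₀0 : b₀ ≠ 0 := by
    rintro rfl
    simp only [map_zero, LinearMap.zero_apply, add_zero] at hiso₀
    exact ht₀ hiso₀
  have hb0 : b ≠ 0 := by
    rintro rfl
    simp only [map_zero, LinearMap.zero_apply, add_zero] at hiso
    exact ht hiso
  have ha₀0 : a₀ ≠ 0 := by
    rintro rfl
    simp only [map_zero, LinearMap.zero_apply] at ht₀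
    exact ht₀ rfl
  have ha0 : a ≠ 0 := by
    rintro rfl
    simp only [map_zero, LinearMap.zero_apply] at ht
    exact ht rfl
  obtain ⟨g, hg, hgx⟩ := exists_trans hF hφ hφ2 hW h3 (W.smul_mem l ha₀) ha
    ((perp φ W).smul_mem l hb₀) hb (smul_ne_zero hl0 ha₀0) ha0 (smul_ne_zero hl0 hb₀0) hb0 hna hnb
  have := Cen_act hφ hφ2 hHGU (Cen_smul hφ hφ2 hx₀ l) (hMH hg)
  rwa [smul_add, hgx] at this

/-- one centre with isotropic nonzero components gives all of them -/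
theorem all00 {a₀ b₀ : Fin n → F} (ha₀ : a₀ ∈ W) (hb₀ : b₀ ∈ perp φ W)
    (hx₀ : a₀ + b₀ ∈ Cen hφ hφ2 H) (ha₀0 : a₀ ≠ 0) (hb₀0 : b₀ ≠ 0)
    (hta₀ : Bs φ n a₀ a₀ = 0) (htb₀ : Bs φ n b₀ b₀ = 0) {a b : Fin n → F} (ha : a ∈ W)
    (hb : b ∈ perp φ W) (ha0 : a ≠ 0) (hb0 : b ≠ 0) (hta : Bs φ n a a = 0)
    (htb : Bs φ n b b = 0) : a + b ∈ Cen hφ hφ2 H := by
  have hHGU : H ≤ Cfsg.GU n F q := fun g hg => (hHG hg).1
  obtain ⟨g, hg, hgx⟩ := exists_trans hF hφ hφ2 hW h3 ha₀ ha hb₀ hb ha₀0 ha0 hb₀0 hb0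
    (by rw [hta, hta₀]) (by rw [htb, htb₀])
  have := Cen_act hφ hφ2 hHGU hx₀ (hMH hg)
  rwa [hgx] at this

/-- from centres with isotropic components to centres with anisotropic components -/
theorem fuse_00_N {a b : Fin n → F} (ha : a ∈ W) (hb : b ∈ perp φ W)
    (hy : a + b ∈ Cen hφ hφ2 H) (ha0 : a ≠ 0) (hb0 : b ≠ 0)
    (hta : Bs φ n a a = 0) (htb : Bs φ n b b = 0) :
    ∃ a' ∈ W, ∃ b' ∈ perp φ W, a' + b' ∈ Cen hφ hφ2 H ∧
      Bs φ n (a' + b') (a' + b') = 0 ∧ Bs φ n a' a' ≠ 0 := by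
  have hφne := Cfsg.Agent.S0837.phi_ne_id φ hF hφ
  have hS := Bs_symm φ hφ2 n
  have hHGU : H ≤ Cfsg.GU n F q := fun g hg => (hHG hg).1
  have hU := nondegOn_perp hφ2 hW
  obtain ⟨v, hvW, hav⟩ := exists_partner_in hφne hφ2 hW ha ha0 hta
  obtain ⟨u₀, hu₀U, hbu₀⟩ := exists_partner_in hφne hφ2 hU hb hb0 htb
  obtain ⟨γ, hγ⟩ : ∃ γ : F, φ γ ≠ γ := by
    by_contra hcon
    push Not at hcon
    exact hφne (RingHom.ext hcon)
  have hγ0 : γ ≠ 0 := by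
    rintro rfl
    exact hγ (map_zero φ)
  obtain ⟨c, hc0, hc⟩ := exists_tz_ne hφne hφ2
  have hv0 : v ≠ 0 := by
    rintro rfl
    have := hav.ef
    rw [map_zero] at this
    exact zero_ne_one this
  have hu₀0 : u₀ ≠ 0 := by
    rintro rfl
    have := hbu₀.ef
    rw [map_zero] at this
    exact zero_ne_one this
  have hu_iso : Bs φ n (γ • u₀) (γ • u₀) = 0 := by
    simp only [map_smulₛₗ, map_smul, LinearMap.smul_apply, smul_eq_mul, hbu₀.ff, mul_zero]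
  have hzC : v + γ • u₀ ∈ Cen hφ hφ2 H :=
    all00 hF hφ hφ2 hW h3 hMH hHG ha hb hy ha0 hb0 hta htb hvW ((perp φ W).smul_mem γ hu₀U) hv0
      (smul_ne_zero hγ0 hu₀0) hav.ff hu_iso
  have hyiso : Bs φ n (a + b) (a + b) = 0 := by
    rw [B_decomp hφ2 ha hb ha hb, hta, htb, add_zero]
  have hxC := Cen_act hφ hφ2 hHGU hzC (hy c hyiso hc)
  rw [tv_mulVec, B_decomp hφ2 ha hb hvW ((perp φ W).smul_mem γ hu₀U), hav.ef, map_smul,
    hbu₀.ef, smul_eq_mul, mul_one] at hxC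
  obtain ⟨s, hs⟩ : ∃ s, s = c * (1 + γ) := ⟨_, rfl⟩
  rw [← hs] at hxC
  have hrew : v + γ • u₀ + s • (a + b) = (v + s • a) + (γ • u₀ + s • b) := by module
  rw [hrew] at hxC
  have hnorm : Bs φ n (v + s • a) (v + s • a) = s + φ s := by
    simp only [map_add, map_smulₛₗ, map_smul, LinearMap.add_apply, LinearMap.smul_apply,
      smul_eq_mul, hav.ee, hav.ff, hav.ef, hav.fe, mul_zero, mul_one, add_zero, zero_add,
      RingHom.id_apply]
    ring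
  have hne : s + φ s ≠ 0 := by
    have h1 : φ c = -c := by linear_combination hc
    have : s + φ s = c * (γ - φ γ) := by
      rw [hs, map_mul, map_add, map_one, h1]; ring
    rw [this]
    exact mul_ne_zero hc0 (sub_ne_zero.2 (Ne.symm hγ))
  have haW : v + s • a ∈ W := W.add_mem hvW (W.smul_mem s ha)
  have hbU : γ • u₀ + s • b ∈ perp φ W :=
    (perp φ W).add_mem ((perp φ W).smul_mem γ hu₀U) ((perp φ W).smul_mem s hb)
  refine ⟨_, haW, _, hbU, hxC, ?_, by rw [hnorm]; exact hne⟩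
  rw [← hrew]
  have hB : ∀ u w, Bs φ n ((tv φ hφ hφ2 (a + b) c hyiso hc).1 *ᵥ u)
      ((tv φ hφ hφ2 (a + b) c hyiso hc).1 *ᵥ w) = Bs φ n u w :=
    fun u w => gu_preserves φ hφ ⟨_, tv_mem_GU hφ hφ2 (a + b) c hyiso hc⟩ u w
  have h1 := hB (v + γ • u₀) (v + γ • u₀)
  rw [tv_mulVec, B_decomp hφ2 ha hb hvW ((perp φ W).smul_mem γ hu₀U), hav.ef, map_smul,
    hbu₀.ef, smul_eq_mul, mul_one, ← hs] at h1
  rw [h1, B_decomp hφ2 hvW ((perp φ W).smul_mem γ hu₀U) hvW ((perp φ W).smul_mem γ hu₀U),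
    hav.ff, hu_iso, add_zero]

end orbits

end Cfsg.Agent.Lib.H11.SuNd
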