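import Cfsg.Agent.Lib.H11.SuNd4

/-!
The stabiliser of a non-degenerate subspace in `SU_n(q)`: fusing and the first step.
-/

set_option autoImplicit false
set_option linter.unusedSimpArgs false
set_option linter.unusedSectionVars false
set_option linter.unusedVariables false

namespace Cfsg.Agent.Lib.H11.SuNd

open Matrix Module
open Cfsg.Agent.S0837 (Bs Bs_apply Bs_symm Bs_nondeg)
open Cfsg.Agent.S0782 (exists_trace guOfEquiv guOfEquiv_mulVec gu_preserves)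
open Cfsg.Agent.Lib.H11.UGen
open Cfsg.Agent.Lib.H11.SuPar (exists_tz_ne mem_stab_of_le Cen Cen_smul Cen_act Cen_of_smul
  tv_mem_stab)
open Cfsg.Agent.Lib.H11.SuSp (tv tv_val tv_mulVec tv_mem_GU tv_mem_SL gl_inj)
open Cfsg.Agent.Lib.H11.SubspMax (gl_mul_mulVec gl_inv_mulVec gl_mulVec_inv gl_ext)
open Cfsg.Agent.Lib.H28 (mem_specialLinear_iff mem_subspaceStabilizer_iff)

variable {F : Type*} [Field F] [Fintype F] {n q : ℕ} {φ : F →+* F}

section orbits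
variable (hF : Fintype.card F = q ^ 2) (hφ : ∀ x, φ x = x ^ q) (hφ2 : ∀ x, φ (φ x) = x)
  {W : Submodule F (Fin n → F)} (hW : NondegOn φ W) (h3 : 3 ≤ finrank F (perp φ W))
  {H : Subgroup (GL (Fin n) F)}
  (hMH : Cfsg.Geo.subspaceStabilizer W ⊓
    (Cfsg.GU n F q ⊓ Cfsg.Geo.specialLinear (Fin n) F) ≤ H)
  (hHG : H ≤ Cfsg.GU n F q ⊓ Cfsg.Geo.specialLinear (Fin n) F)
include hF hφ hφ2 hW h3 hMH hHG

/-- from centres with anisotropic components to centres with isotropic components -/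
theorem fuse_N_00
    (hN : ∀ a ∈ W, ∀ b ∈ perp φ W, Bs φ n (a + b) (a + b) = 0 → Bs φ n a a ≠ 0 →
      a + b ∈ Cen hφ hφ2 H)
    {a b : Fin n → F} (ha : a ∈ W) (hb : b ∈ perp φ W) (ha0 : a ≠ 0) (hb0 : b ≠ 0)
    (hta : Bs φ n a a = 0) (htb : Bs φ n b b = 0) : a + b ∈ Cen hφ hφ2 H := by
  have hφne := Cfsg.Agent.S0837.phi_ne_id φ hF hφ
  have hS := Bs_symm φ hφ2 n
  have hHGU : H ≤ Cfsg.GU n F q := fun g hg => (hHG hg).1
  have hU := nondegOn_perp hφ2 hW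
  obtain ⟨v, hvW, hav⟩ := exists_partner_in hφne hφ2 hW ha ha0 hta
  obtain ⟨l, hl⟩ := exists_trace hφne hφ2 (-1 : F) (by rw [map_neg, map_one])
  have hl1 : l + φ l = 1 := by linear_combination hl
  have hl0 : l ≠ 0 := by
    rintro rfl
    rw [map_zero, add_zero] at hl1
    exact zero_ne_one hl1
  have hφl0 : φ l ≠ 0 := (map_ne_zero φ).2 hl0
  obtain ⟨ax, hax⟩ : ∃ ax, ax = a + l • v := ⟨_, rfl⟩
  have haxW : ax ∈ W := by rw [hax]; exact W.add_mem ha (W.smul_mem l hvW)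
  have haxn : Bs φ n ax ax = 1 := by
    rw [hax]
    simp only [map_add, map_smulₛₗ, map_smul, LinearMap.add_apply, LinearMap.smul_apply,
      smul_eq_mul, hav.ee, hav.ff, hav.ef, hav.fe, mul_zero, mul_one, add_zero, zero_add,
      RingHom.id_apply]
    linear_combination hl1
  have haxa : Bs φ n ax a = φ l := by
    rw [hax, map_add, LinearMap.add_apply, map_smulₛₗ, LinearMap.smul_apply, hav.ee, hav.fe,
      smul_eq_mul, mul_one, zero_add]
  have haax : Bs φ n a ax = l := by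
    rw [← hS.eq ax a, haxa, hφ2]
  obtain ⟨e, heU, hbe, hee⟩ := exists_aniso_perp hφne hφ2 hU h3 hb
  have hfix : φ (-1 / Bs φ n e e) = -1 / Bs φ n e e := by
    rw [map_div₀, map_neg, map_one, hS.eq e e]
  obtain ⟨μ, hμ⟩ := exists_norm φ hF hφ _ (div_ne_zero (neg_ne_zero.2 one_ne_zero) hee) hfix
  obtain ⟨bx, hbx⟩ : ∃ bx, bx = μ • e := ⟨_, rfl⟩
  have hbxU : bx ∈ perp φ W := by rw [hbx]; exact (perp φ W).smul_mem μ heU
  have hbxn : Bs φ n bx bx = -1 := by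
    rw [hbx]
    simp only [map_smulₛₗ, map_smul, LinearMap.smul_apply, smul_eq_mul, RingHom.id_apply]
    have : μ * φ μ * Bs φ n e e = -1 := by rw [hμ, div_mul_cancel₀ _ hee]
    linear_combination this
  have hbbx : Bs φ n b bx = 0 := by rw [hbx, map_smul, hbe, smul_zero]
  have hbxb : Bs φ n bx b = 0 := by rw [← hS.eq b bx, hbbx, map_zero]
  have hxiso : Bs φ n (ax + bx) (ax + bx) = 0 := by
    rw [B_decomp hφ2 haxW hbxU haxW hbxU, haxn, hbxn]; ring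
  have hxC : ax + bx ∈ Cen hφ hφ2 H :=
    hN ax haxW bx hbxU hxiso (by rw [haxn]; exact one_ne_zero)
  obtain ⟨c, hc0, hc⟩ := exists_tz_ne hφne hφ2
  have htH := hxC c hxiso hc
  have hyiso : Bs φ n (a + b) (a + b) = 0 := by
    rw [B_decomp hφ2 ha hb ha hb, hta, htb, add_zero]
  have hz : (tv φ hφ hφ2 (ax + bx) c hxiso hc).1 *ᵥ (a + b) =
      (a + (c * φ l) • ax) + (b + (c * φ l) • bx) := by
    rw [tv_mulVec, B_decomp hφ2 haxW hbxU ha hb, haxa, hbxb, add_zero]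
    module
  have hziso : Bs φ n ((a + (c * φ l) • ax) + (b + (c * φ l) • bx))
      ((a + (c * φ l) • ax) + (b + (c * φ l) • bx)) = 0 := by
    rw [← hz, gu_preserves φ hφ ⟨_, tv_mem_GU hφ hφ2 (ax + bx) c hxiso hc⟩]
    exact hyiso
  have hzn : Bs φ n (a + (c * φ l) • ax) (a + (c * φ l) • ax) ≠ 0 := by
    have h1 : φ c = -c := by linear_combination hc
    have : Bs φ n (a + (c * φ l) • ax) (a + (c * φ l) • ax) = φ (c * φ l) * (c * φ l) := by
      simp only [map_add, map_smulₛₗ, map_smul, LinearMap.add_apply, LinearMap.smul_apply,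
        smul_eq_mul, hta, haxn, haxa, haax, map_mul, hφ2, h1, RingHom.id_apply]
      ring
    rw [this]
    exact mul_ne_zero ((map_ne_zero φ).2 (mul_ne_zero hc0 hφl0)) (mul_ne_zero hc0 hφl0)
  have hzC := hN _ (W.add_mem ha (W.smul_mem _ haxW)) _
    ((perp φ W).add_mem hb ((perp φ W).smul_mem _ hbxU)) hziso hzn
  rw [← hz] at hzC
  have := Cen_act hφ hφ2 hHGU hzC (H.inv_mem htH)
  rwa [gl_inv_mulVec] at this

end orbits

section step1
variable (hF : Fintype.card F = q ^ 2) (hφ : ∀ x, φ x = x ^ q) (hφ2 : ∀ x, φ (φ x) = x)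
  {W : Submodule F (Fin n → F)} (hW : NondegOn φ W)

include hF hφ hφ2 hW in
/-- a subgroup of `GU` not stabilising `W` has an element moving an isotropic vector of `W^⊥` to a
vector with both components nonzero -/
theorem exists_mixed (h2 : 2 ≤ finrank F (perp φ W))
    (hdim : finrank F W < finrank F (perp φ W)) {h : GL (Fin n) F} (hh : h ∈ Cfsg.GU n F q)
    (hns : h ∉ Cfsg.Geo.subspaceStabilizer W) :
    ∃ u ∈ perp φ W, Bs φ n u u = 0 ∧ ∃ a ∈ W, ∃ b ∈ perp φ W, a ≠ 0 ∧ b ≠ 0 ∧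
      h.1 *ᵥ u = a + b := by
  have hφne := Cfsg.Agent.S0837.phi_ne_id φ hF hφ
  have hS := Bs_symm φ hφ2 n
  have hU := nondegOn_perp hφ2 hW
  have hB : ∀ u w, Bs φ n (h.1 *ᵥ u) (h.1 *ᵥ w) = Bs φ n u w :=
    fun u w => gu_preserves φ hφ ⟨h, hh⟩ u w
  -- a vector of `U` moved out of `U`
  have c1 : ∃ u ∈ perp φ W, h.1 *ᵥ u ∉ perp φ W := by
    by_contra hcon
    push Not at hcon
    apply hns
    have hsU : h ∈ Cfsg.Geo.subspaceStabilizer (perp φ W) := mem_stab_of_le hcon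
    apply mem_stab_of_le
    intro w hw
    apply perp_perp hφ2 hW
    intro u hu
    have hu' : (h⁻¹ : GL (Fin n) F).1 *ᵥ u ∈ perp φ W := by
      rw [(mem_subspaceStabilizer_iff h _).1 hsU, gl_mulVec_inv]; exact hu
    rw [← gl_mulVec_inv h u, hB]
    exact B_perp_left hφ2 hu' hw
  -- a vector of `U` moved out of `W`
  have c2 : ∃ u ∈ perp φ W, h.1 *ᵥ u ∉ W := by
    by_contra hcon
    push Not at hcon
    let L : perp φ W →ₗ[F] W :=
      { toFun := fun u => ⟨h.1 *ᵥ u.1, hcon u.1 u.2⟩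
        map_add' := by
          intro x y
          apply Subtype.ext
          show h.1 *ᵥ (x.1 + y.1) = h.1 *ᵥ x.1 + h.1 *ᵥ y.1
          rw [Matrix.mulVec_add]
        map_smul' := by
          intro c x
          apply Subtype.ext
          show h.1 *ᵥ (c • x.1) = c • h.1 *ᵥ x.1
          rw [Matrix.mulVec_smul] }
    have hinj : Function.Injective L := by
      intro x y hxy
      have : h.1 *ᵥ x.1 = h.1 *ᵥ y.1 := congrArg Subtype.val hxy
      exact Subtype.ext (gl_inj h this)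
    have := LinearMap.finrank_le_finrank_of_injective hinj
    omega
  -- isotropic versions
  have c1' : ∃ u ∈ perp φ W, Bs φ n u u = 0 ∧ h.1 *ᵥ u ∉ perp φ W := by
    obtain ⟨u, hu, hne⟩ := c1
    obtain ⟨u₁, hu₁, u₂, hu₂, u₃, hu₃, i₁, i₂, i₃, rfl⟩ := iso_span hF hφ hφne hφ2 hU h2 hu
    by_contra hcon
    push Not at hcon
    apply hne
    rw [Matrix.mulVec_add, Matrix.mulVec_add]
    exact (perp φ W).add_mem ((perp φ W).add_mem (hcon u₁ hu₁ i₁) (hcon u₂ hu₂ i₂))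
      (hcon u₃ hu₃ i₃)
  have c2' : ∃ u ∈ perp φ W, Bs φ n u u = 0 ∧ h.1 *ᵥ u ∉ W := by
    obtain ⟨u, hu, hne⟩ := c2
    obtain ⟨u₁, hu₁, u₂, hu₂, u₃, hu₃, i₁, i₂, i₃, rfl⟩ := iso_span hF hφ hφne hφ2 hU h2 hu
    by_contra hcon
    push Not at hcon
    apply hne
    rw [Matrix.mulVec_add, Matrix.mulVec_add]
    exact W.add_mem (W.add_mem (hcon u₁ hu₁ i₁) (hcon u₂ hu₂ i₂)) (hcon u₃ hu₃ i₃)
  obtain ⟨u₁, hu₁, i₁, hn₁⟩ := c1'
  obtain ⟨u₂, hu₂, i₂, hn₂⟩ := c2'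
  obtain ⟨a₁, ha₁, b₁, hb₁, e₁⟩ := exists_decomp hW (h.1 *ᵥ u₁)
  obtain ⟨a₂, ha₂, b₂, hb₂, e₂⟩ := exists_decomp hW (h.1 *ᵥ u₂)
  have ha₁0 : a₁ ≠ 0 := by
    rintro rfl
    rw [zero_add] at e₁
    exact hn₁ (e₁ ▸ hb₁)
  have hb₂0 : b₂ ≠ 0 := by
    rintro rfl
    rw [add_zero] at e₂
    exact hn₂ (e₂ ▸ ha₂)
  by_cases hb₁0 : b₁ = 0
  · by_cases ha₂0 : a₂ = 0
    · -- combine
      rw [hb₁0, add_zero] at e₁
      rw [ha₂0, zero_add] at e₂
      obtain ⟨s, hs0, hs⟩ : ∃ s : F, s ≠ 0 ∧ Bs φ n (u₁ + s • u₂) (u₁ + s • u₂) = 0 := by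
        by_cases h12 : Bs φ n u₁ u₂ = 0
        · refine ⟨1, one_ne_zero, ?_⟩
          have h21 : Bs φ n u₂ u₁ = 0 := by rw [← hS.eq u₁ u₂, h12, map_zero]
          simp only [one_smul, map_add, LinearMap.add_apply, i₁, i₂, h12, h21, add_zero]
        · obtain ⟨c, hc0, hc⟩ := exists_tz_ne hφne hφ2
          refine ⟨c / Bs φ n u₁ u₂, div_ne_zero hc0 h12, ?_⟩
          have h21 : Bs φ n u₂ u₁ = φ (Bs φ n u₁ u₂) := (hS.eq u₁ u₂).symm
          have hφ12 : φ (Bs φ n u₁ u₂) ≠ 0 := (map_ne_zero φ).2 h12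
          simp only [map_add, map_smulₛₗ, map_smul, LinearMap.add_apply, LinearMap.smul_apply,
            smul_eq_mul, i₁, i₂, h21, map_div₀, mul_zero, add_zero, zero_add, RingHom.id_apply]
          field_simp
          linear_combination hc
      refine ⟨u₁ + s • u₂, (perp φ W).add_mem hu₁ ((perp φ W).smul_mem s hu₂), hs, a₁, ha₁,
        s • b₂, (perp φ W).smul_mem s hb₂, ha₁0, smul_ne_zero hs0 hb₂0, ?_⟩
      rw [Matrix.mulVec_add, Matrix.mulVec_smul, e₁, e₂]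
    · exact ⟨u₂, hu₂, i₂, a₂, ha₂, b₂, hb₂, ha₂0, hb₂0, e₂⟩
  · exact ⟨u₁, hu₁, i₁, a₁, ha₁, b₁, hb₁, ha₁0, hb₁0, e₁⟩

end step1

end Cfsg.Agent.Lib.H11.SuNd
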