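import Cfsg.Agent.Lib.H11.SuNd5

/-!
The stabiliser of a non-degenerate subspace `W` with `2 dim W < n` is maximal in `SU_n(q)`.
-/

set_option autoImplicit false
set_option linter.unusedSimpArgs false
set_option linter.unusedSectionVars false
set_option linter.unusedVariables false

namespace Cfsg.Agent.Lib.H11.SuNd

open Matrix Module
open Cfsg.Agent.S0837 (Bs Bs_apply Bs_symm Bs_nondeg)
open Cfsg.Agent.S0782 (exists_trace guOfEquiv guOfEquiv_mulVec gu_preserves)
open Cfsg.Agent.Lib.H11.UGen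
open Cfsg.Agent.Lib.H11.SuPar (exists_tz_ne mem_stab_of_le Cen Cen_smul Cen_act Cen_of_smul
  tv_mem_stab eq_of_Cen_all)
open Cfsg.Agent.Lib.H11.SuSp (tv tv_val tv_mulVec tv_mem_GU tv_mem_SL gl_inj)
open Cfsg.Agent.Lib.H11.SubspMax (gl_mul_mulVec gl_inv_mulVec gl_mulVec_inv gl_ext)
open Cfsg.Agent.Lib.H28 (mem_specialLinear_iff mem_subspaceStabilizer_iff)

variable {F : Type*} [Field F] [Fintype F] {n q : ℕ} {φ : F →+* F}

theorem su_nd_maximal (hF : Fintype.card F = q ^ 2) (hφ : ∀ x, φ x = x ^ q)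
    (hφ2 : ∀ x, φ (φ x) = x) (hn : 7 ≤ n) (W : Submodule F (Fin n → F)) (hW0 : W ≠ ⊥)
    (hW : NondegOn φ W) (hdim : 2 * finrank F W < n) :
    Cfsg.Geo.IsMaximalIn (Cfsg.GU n F q ⊓ Cfsg.Geo.specialLinear (Fin n) F)
      (Cfsg.Geo.subspaceStabilizer W ⊓
        (Cfsg.GU n F q ⊓ Cfsg.Geo.specialLinear (Fin n) F)) := by
  have hφne := Cfsg.Agent.S0837.phi_ne_id φ hF hφ
  have hS := Bs_symm φ hφ2 n
  have hU := nondegOn_perp hφ2 hW
  have hfr := finrank_perp hW
  have h3 : 3 ≤ finrank F (perp φ W) := by omega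
  have hlt : finrank F W < finrank F (perp φ W) := by omega
  obtain ⟨w₀, hw₀W, hw₀⟩ := (Submodule.ne_bot_iff W).1 hW0
  refine ⟨lt_of_le_of_ne inf_le_right ?_, ?_⟩
  · intro heq
    obtain ⟨w₁, hw₁W, hw₁⟩ := hW w₀ hw₀W hw₀
    obtain ⟨e, heU, he0, hee⟩ := exists_iso_in hF hφ hφne hφ2 hU (by omega)
    obtain ⟨f, hfU, hyp⟩ := exists_partner_in hφne hφ2 hU heU he0 hee
    obtain ⟨l, hl⟩ := exists_trace hφne hφ2 (Bs φ n w₁ w₁) (hS.eq w₁ w₁)
    have huU : e + l • f ∈ perp φ W := (perp φ W).add_mem heU ((perp φ W).smul_mem l hfU)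
    have hu0 : e + l • f ≠ 0 := by
      intro h0
      have := congrArg (fun v => Bs φ n f v) h0
      simp only [map_add, map_smul, hyp.fe, hyp.ff, smul_zero, add_zero, map_zero] at this
      exact one_ne_zero this
    have hun : Bs φ n (e + l • f) (e + l • f) = l + φ l := by
      simp only [map_add, map_smulₛₗ, map_smul, LinearMap.add_apply, LinearMap.smul_apply,
        smul_eq_mul, hyp.ee, hyp.ff, hyp.ef, hyp.fe, mul_zero, mul_one, add_zero, zero_add,
        RingHom.id_apply]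
      ring
    have hviso : Bs φ n (w₁ + (e + l • f)) (w₁ + (e + l • f)) = 0 := by
      rw [B_decomp hφ2 hw₁W huU hw₁W huU, hun]
      linear_combination hl
    obtain ⟨c, hc0, hc⟩ := exists_tz_ne hφne hφ2
    have hmem : tv φ hφ hφ2 _ c hviso hc ∈ Cfsg.Geo.subspaceStabilizer W ⊓
        (Cfsg.GU n F q ⊓ Cfsg.Geo.specialLinear (Fin n) F) := by
      rw [heq]; exact ⟨tv_mem_GU _ _ _ _ _ _, tv_mem_SL _ _ _ _ _ _⟩
    have h1 := ((mem_subspaceStabilizer_iff _ W).1 hmem.1 w₀).1 hw₀W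
    rw [tv_mulVec] at h1
    have hvw : Bs φ n (w₁ + (e + l • f)) w₀ = Bs φ n w₁ w₀ := by
      rw [map_add, LinearMap.add_apply, B_perp_left hφ2 huU hw₀W, add_zero]
    rw [hvw] at h1
    have h3' : (c * Bs φ n w₁ w₀) • (w₁ + (e + l • f)) ∈ W := (W.add_mem_iff_right hw₀W).1 h1
    have h4 : w₁ + (e + l • f) ∈ W := by
      have := W.smul_mem (c * Bs φ n w₁ w₀)⁻¹ h3'
      rwa [smul_smul, inv_mul_cancel₀ (mul_ne_zero hc0 hw₁), one_smul] at this
    have h5 : e + l • f ∈ W := (W.add_mem_iff_right hw₁W).1 h4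
    have : e + l • f ∈ W ⊓ perp φ W := ⟨h5, huU⟩
    rw [inf_perp_eq_bot hW, Submodule.mem_bot] at this
    exact hu0 this
  · intro H hMH hHG
    by_cases hne : H = Cfsg.Geo.subspaceStabilizer W ⊓
        (Cfsg.GU n F q ⊓ Cfsg.Geo.specialLinear (Fin n) F)
    · left; exact hne
    · right
      have hHGU : H ≤ Cfsg.GU n F q := fun g hg => (hHG hg).1
      have hCU : ∀ v ∈ perp φ W, Bs φ n v v = 0 → v ∈ Cen hφ hφ2 H := by
        intro v hv hvv c hvv' hc
        exact hMH ⟨tv_mem_stab hφ hφ2 W hv hvv' c hc, tv_mem_GU _ _ _ _ _ _,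
          tv_mem_SL _ _ _ _ _ _⟩
      have hCW : ∀ v ∈ W, Bs φ n v v = 0 → v ∈ Cen hφ hφ2 H := by
        intro v hv hvv c hvv' hc
        refine hMH ⟨mem_stab_of_le ?_, tv_mem_GU _ _ _ _ _ _, tv_mem_SL _ _ _ _ _ _⟩
        intro w hw
        rw [tv_mulVec]
        exact W.add_mem hw (W.smul_mem _ hv)
      -- an element of `H` not stabilising `W`
      have h1 : ∃ h ∈ H, h ∉ Cfsg.Geo.subspaceStabilizer W := by
        by_contra hcon
        push Not at hcon
        apply hne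
        apply le_antisymm _ hMH
        intro h hh
        exact ⟨hcon h hh, hHG hh⟩
      obtain ⟨h, hh, hns⟩ := h1
      obtain ⟨u, huU, hui, a₁, ha₁, b₁, hb₁, ha₁0, hb₁0, e₁⟩ :=
        exists_mixed hF hφ hφ2 hW (by omega) hlt (hHGU hh) hns
      have hxC : a₁ + b₁ ∈ Cen hφ hφ2 H := by
        rw [← e₁]; exact Cen_act hφ hφ2 hHGU (hCU u huU hui) hh
      have hxiso : Bs φ n (a₁ + b₁) (a₁ + b₁) = 0 := by
        rw [← e₁, gu_preserves φ hφ ⟨h, hHGU hh⟩]; exact hui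
      -- all centres with anisotropic components
      have hN : ∀ a ∈ W, ∀ b ∈ perp φ W, Bs φ n (a + b) (a + b) = 0 → Bs φ n a a ≠ 0 →
          a + b ∈ Cen hφ hφ2 H := by
        by_cases ht : Bs φ n a₁ a₁ = 0
        · have htb : Bs φ n b₁ b₁ = 0 := by
            rw [B_decomp hφ2 ha₁ hb₁ ha₁ hb₁, ht, zero_add] at hxiso
            exact hxiso
          obtain ⟨a', ha', b', hb', hC', hiso', hn'⟩ :=
            fuse_00_N hF hφ hφ2 hW h3 hMH hHG ha₁ hb₁ hxC ha₁0 hb₁0 ht htb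
          intro a ha b hb hiso hna
          exact allN hF hφ hφ2 hW h3 hMH hHG ha' hb' hC' hiso' hn' ha hb hiso hna
        · intro a ha b hb hiso hna
          exact allN hF hφ hφ2 hW h3 hMH hHG ha₁ hb₁ hxC hxiso ht ha hb hiso hna
      apply eq_of_Cen_all hφ hφ2 hF (by omega) (by omega) hHG
      intro y hy
      obtain ⟨a, ha, b, hb, rfl⟩ := exists_decomp hW y
      by_cases ha0 : a = 0
      · rw [ha0, zero_add] at hy ⊢
        exact hCU b hb hy
      by_cases hb0 : b = 0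
      · rw [hb0, add_zero] at hy ⊢
        exact hCW a ha hy
      by_cases hta : Bs φ n a a = 0
      · have htb : Bs φ n b b = 0 := by
          rw [B_decomp hφ2 ha hb ha hb, hta, zero_add] at hy
          exact hy
        exact fuse_N_00 hF hφ hφ2 hW h3 hMH hHG hN ha hb ha0 hb0 hta htb
      · exact hN a ha b hb hy hta

end Cfsg.Agent.Lib.H11.SuNd
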