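import Cfsg.Agent.Lib.H11.SuPar3
import Cfsg.Agent.Lib.H11.PairStab
import Cfsg.Agent.Lib.H11.SpPair2

/-!
The stabiliser in `SU_n(q)` of a pair of complementary totally isotropic subspaces: basics.
-/

set_option autoImplicit false
set_option linter.unusedSimpArgs false
set_option linter.unusedSectionVars false
set_option linter.unusedVariables false

namespace Cfsg.Agent.Lib.H11.SuPair

open Matrix Module
open Cfsg.Agent.S0837 (Bs Bs_apply Bs_symm Bs_nondeg)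
open Cfsg.Agent.S0782 (Bs_eq_herm gu_preserves Tm Tm_mulVec Tm_det)
open Cfsg.Agent.Lib.H11.SuSp (tv tv_val tv_mulVec tv_mem_GU tv_mem_SL)
open Cfsg.Agent.Lib.H11.SubspMax (gl_mul_mulVec gl_inv_mulVec gl_mulVec_inv gl_ext)
open Cfsg.Agent.Lib.H28 (mem_specialLinear_iff)

variable {F : Type*} [Field F] {n : ℕ} {φ : F →+* F}

theorem B_swap_zero (hφ2 : ∀ x, φ (φ x) = x) {u v : Fin n → F} (h : Bs φ n u v = 0) :
    Bs φ n v u = 0 := by
  rw [← (Bs_symm φ hφ2 n).eq u v, h, map_zero]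

theorem B_swap_ne (hφ2 : ∀ x, φ (φ x) = x) {u v : Fin n → F} (h : Bs φ n u v ≠ 0) :
    Bs φ n v u ≠ 0 := fun h0 => h (B_swap_zero hφ2 h0)

/-- every linear functional is represented by the form -/
theorem exists_repr (hφ2 : ∀ x, φ (φ x) = x) (f : Dual F (Fin n → F)) :
    ∃ p : Fin n → F, ∀ v, Bs φ n p v = f v := by
  obtain ⟨p, hp⟩ : ∃ p : Fin n → F, p = fun i => φ (f (Pi.single i 1)) := ⟨_, rfl⟩
  refine ⟨p, fun v => ?_⟩
  rw [Bs_apply, LinearMap.pi_apply_eq_sum_univ f v]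
  refine Finset.sum_congr rfl fun i _ => ?_
  rw [hp, hφ2, smul_eq_mul]
  congr 2
  funext j
  simp [Pi.single_apply, eq_comm]

/-- a pair of complementary totally isotropic subspaces of dimension `k` -/
structure HPair (φ : F →+* F) (U₁ U₂ : Submodule F (Fin n → F)) (k : ℕ) : Prop where
  iso₁ : ∀ u ∈ U₁, ∀ v ∈ U₁, Bs φ n u v = 0
  iso₂ : ∀ u ∈ U₂, ∀ v ∈ U₂, Bs φ n u v = 0
  disj : U₁ ⊓ U₂ = ⊥
  span : ∀ x : Fin n → F, ∃ x₁ ∈ U₁, ∃ x₂ ∈ U₂, x = x₁ + x₂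
  fr₁ : finrank F U₁ = k
  fr₂ : finrank F U₂ = k

variable {U₁ U₂ : Submodule F (Fin n → F)} {k : ℕ}

theorem HPair.symm (h : HPair φ U₁ U₂ k) : HPair φ U₂ U₁ k where
  iso₁ := h.iso₂
  iso₂ := h.iso₁
  disj := by rw [inf_comm]; exact h.disj
  span := fun x => by
    obtain ⟨x₁, h₁, x₂, h₂, hx⟩ := h.span x
    exact ⟨x₂, h₂, x₁, h₁, by rw [hx, add_comm]⟩
  fr₁ := h.fr₂
  fr₂ := h.fr₁

theorem HPair.exists_ne (h : HPair φ U₁ U₂ k) (hφ2 : ∀ x, φ (φ x) = x) {x : Fin n → F}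
    (hx : x ∈ U₁) (hx0 : x ≠ 0) : ∃ y ∈ U₂, Bs φ n y x ≠ 0 := by
  obtain ⟨y₀, hy₀⟩ : ∃ y₀, Bs φ n x y₀ ≠ 0 := by
    by_contra hcon
    push Not at hcon
    exact hx0 ((Bs_nondeg φ n).1 x hcon)
  obtain ⟨y₁, h₁, y₂, h₂, rfl⟩ := h.span y₀
  rw [map_add, h.iso₁ x hx y₁ h₁, zero_add] at hy₀
  exact ⟨y₂, h₂, B_swap_ne hφ2 hy₀⟩

/-- `U₂` is the (conjugate) dual of `U₁` -/
theorem HPair.exists_dual (h : HPair φ U₁ U₂ k) (hφ2 : ∀ x, φ (φ x) = x)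
    (f : Dual F (Fin n → F)) : ∃ y ∈ U₂, ∀ x ∈ U₁, Bs φ n y x = f x := by
  obtain ⟨p, hp⟩ := exists_repr hφ2 f
  obtain ⟨p₁, h₁, p₂, h₂, rfl⟩ := h.span p
  refine ⟨p₂, h₂, fun x hx => ?_⟩
  rw [← hp x, map_add, LinearMap.add_apply, h.iso₁ p₁ h₁ x hx, zero_add]

/-- separate a vector of `U₁` from a subspace by a vector of `U₂`, with a prescribed value -/
theorem HPair.exists_sep (h : HPair φ U₁ U₂ k) (hφ2 : ∀ x, φ (φ x) = x)
    (S : Submodule F (Fin n → F)) {v : Fin n → F} (hv : v ∈ U₁) (hvS : v ∉ S) (c : F) :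
    ∃ y ∈ U₂, (∀ x ∈ U₁, x ∈ S → Bs φ n y x = 0) ∧ Bs φ n y v = c := by
  obtain ⟨f, hfv, hfS⟩ := Submodule.exists_le_ker_of_notMem hvS
  obtain ⟨y, hy, hyx⟩ := h.exists_dual hφ2 ((c * (f v)⁻¹) • f)
  refine ⟨y, hy, ?_, ?_⟩
  · intro x hx hxS
    have : f x = 0 := hfS hxS
    rw [hyx x hx, LinearMap.smul_apply, this, smul_zero]
  · rw [hyx v hv, LinearMap.smul_apply, smul_eq_mul, mul_assoc, inv_mul_cancel₀ hfv, mul_one]

theorem not_mem_span_symm {u v : Fin n → F} (hv0 : v ≠ 0)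
    (h : u ∉ Submodule.span F {v}) : v ∉ Submodule.span F {u} := by
  intro hmem
  obtain ⟨a, ha⟩ := Submodule.mem_span_singleton.1 hmem
  have ha0 : a ≠ 0 := by
    rintro rfl
    rw [zero_smul] at ha
    exact hv0 ha.symm
  apply h
  rw [Submodule.mem_span_singleton]
  exact ⟨a⁻¹, by rw [← ha, smul_smul, inv_mul_cancel₀ ha0, one_smul]⟩

/-- a vector of `U₂` with value one on two independent vectors of `U₁` -/
theorem HPair.exists_both_one (h : HPair φ U₁ U₂ k) (hφ2 : ∀ x, φ (φ x) = x)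
    {u v : Fin n → F} (hu : u ∈ U₁) (hv : v ∈ U₁) (hvu : v ∉ Submodule.span F {u})
    (hu0 : u ≠ 0) : ∃ y ∈ U₂, Bs φ n y u = 1 ∧ Bs φ n y v = 1 := by
  obtain ⟨y₁, hy₁, h11, h12⟩ := h.exists_sep hφ2 (Submodule.span F {u}) hv hvu 1
  have huv : u ∉ Submodule.span F {v} := not_mem_span_symm hu0 hvu
  obtain ⟨y₂, hy₂, h21, h22⟩ := h.exists_sep hφ2 (Submodule.span F {v}) hu huv 1
  refine ⟨y₁ + y₂, U₂.add_mem hy₁ hy₂, ?_, ?_⟩
  · rw [map_add, LinearMap.add_apply, h11 u hu (Submodule.mem_span_singleton_self u), h22,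
      zero_add]
  · rw [map_add, LinearMap.add_apply, h12, h21 v hv (Submodule.mem_span_singleton_self v),
      add_zero]

theorem hpair_of_decomp {D : Fin 2 → Submodule F (Fin n → F)}
    (hD : Cfsg.Geo.IsMDecomposition k D)
    (hts : ∀ i, ∀ u ∈ D i, ∀ v ∈ D i, Bs φ n u v = 0) :
    HPair φ (D 0) (D 1) k where
  iso₁ := hts 0
  iso₂ := hts 1
  disj := Cfsg.Agent.Lib.H11.PairStab.inf_eq_bot_of_decomp hD
  span := by
    intro x
    have hx : x ∈ D 0 ⊔ D 1 := by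
      rw [Cfsg.Agent.Lib.H11.PairStab.sup_eq_top_of_decomp hD]; exact Submodule.mem_top
    obtain ⟨x₁, h₁, x₂, h₂, hx⟩ := Submodule.mem_sup.1 hx
    exact ⟨x₁, h₁, x₂, h₂, hx.symm⟩
  fr₁ := hD.finrank_eq 0
  fr₂ := hD.finrank_eq 1

end Cfsg.Agent.Lib.H11.SuPair
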