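import Cfsg.Agent.Lib.H11.SuPair1

/-!
The unitary root elements `x ↦ x + B(y,x) a - B(a,x) y` for isotropic orthogonal `a`, `y`.
-/

set_option autoImplicit false
set_option linter.unusedSimpArgs false
set_option linter.unusedSectionVars false
set_option linter.unusedVariables false

namespace Cfsg.Agent.Lib.H11.SuPair

open Matrix Module
open Cfsg.Agent.S0837 (Bs Bs_apply Bs_symm Bs_nondeg)
open Cfsg.Agent.S0782 (Bs_eq_herm gu_preserves Tm Tm_mulVec Tm_det)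
open Cfsg.Agent.Lib.H11.SuSp (tv tv_val tv_mulVec tv_mem_GU tv_mem_SL)
open Cfsg.Agent.Lib.H11.SubspMax (gl_mul_mulVec gl_inv_mulVec gl_mulVec_inv gl_ext)
open Cfsg.Agent.Lib.H28 (mem_specialLinear_iff)

variable {F : Type*} [Field F] {n : ℕ} {φ : F →+* F}

/-- `g` acts as the root element attached to `a`, `y` -/
def IsUr (φ : F →+* F) (a y : Fin n → F) (g : GL (Fin n) F) : Prop :=
  ∀ x, g.1 *ᵥ x = x + Bs φ n y x • a - Bs φ n a x • y

theorem IsUr.unique {a y : Fin n → F} {g g' : GL (Fin n) F} (h : IsUr φ a y g)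
    (h' : IsUr φ a y g') : g = g' := by
  apply gl_ext
  intro x
  rw [h x, h' x]

theorem IsUr.preserves (hφ2 : ∀ x, φ (φ x) = x) {a y : Fin n → F} {g : GL (Fin n) F}
    (h : IsUr φ a y g) (haa : Bs φ n a a = 0) (hyy : Bs φ n y y = 0) (hay : Bs φ n a y = 0)
    (u v : Fin n → F) : Bs φ n (g.1 *ᵥ u) (g.1 *ᵥ v) = Bs φ n u v := by
  have hya : Bs φ n y a = 0 := B_swap_zero hφ2 hay
  have h1 : φ (Bs φ n y u) = Bs φ n u y := (Bs_symm φ hφ2 n).eq y u
  have h2 : φ (Bs φ n a u) = Bs φ n u a := (Bs_symm φ hφ2 n).eq a u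
  rw [h u, h v]
  simp only [map_add, map_sub, map_smulₛₗ, map_smul, LinearMap.add_apply, LinearMap.sub_apply,
    LinearMap.smul_apply, smul_eq_mul, haa, hyy, hay, hya, h1, h2, RingHom.id_apply]
  ring

theorem IsUr.mem_GU {q : ℕ} (hφ : ∀ x, φ x = x ^ q) (hφ2 : ∀ x, φ (φ x) = x) {a y : Fin n → F}
    {g : GL (Fin n) F} (h : IsUr φ a y g) (haa : Bs φ n a a = 0) (hyy : Bs φ n y y = 0)
    (hay : Bs φ n a y = 0) : g ∈ Cfsg.GU n F q := by
  intro u v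
  rw [← Bs_eq_herm φ hφ, ← Bs_eq_herm φ hφ]
  exact h.preserves hφ2 haa hyy hay v u

/-- existence of the root elements -/
theorem exists_ur {q : ℕ} (hφ : ∀ x, φ x = x ^ q) (hφ2 : ∀ x, φ (φ x) = x) (a y : Fin n → F)
    (haa : Bs φ n a a = 0) (hyy : Bs φ n y y = 0) (hay : Bs φ n a y = 0) :
    ∃ g : GL (Fin n) F, IsUr φ a y g ∧
      g ∈ Cfsg.GU n F q ⊓ Cfsg.Geo.specialLinear (Fin n) F := by
  have hya : Bs φ n y a = 0 := B_swap_zero hφ2 hay
  have hdet : (Tm φ 1 a y * Tm φ (-1) y a).det = 1 := by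
    rw [Matrix.det_mul, Tm_det, Tm_det, hya, hay]; ring
  obtain ⟨g, hg⟩ : ∃ g : GL (Fin n) F, g.1 = Tm φ 1 a y * Tm φ (-1) y a :=
    ⟨Matrix.GeneralLinearGroup.mkOfDetNeZero _ (by rw [hdet]; exact one_ne_zero), rfl⟩
  have hur : IsUr φ a y g := by
    intro x
    rw [hg, ← Matrix.mulVec_mulVec, Tm_mulVec, Tm_mulVec]
    simp only [map_add, map_smul, map_neg, hyy, smul_eq_mul, mul_zero, add_zero, one_smul,
      neg_smul, neg_zero]
    abel
  refine ⟨g, hur, hur.mem_GU hφ hφ2 haa hyy hay, ?_⟩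
  exact (mem_specialLinear_iff g).2 (by rw [hg, hdet])

/-- conjugation of a root element by an isometry -/
theorem IsUr.conj {q : ℕ} (hφ : ∀ x, φ x = x ^ q) {a y : Fin n → F} {g : GL (Fin n) F}
    (h : IsUr φ a y g) (t : GL (Fin n) F) (ht : t ∈ Cfsg.GU n F q) :
    IsUr φ (t.1 *ᵥ a) (t.1 *ᵥ y) (t * g * t⁻¹) := by
  have hB : ∀ u w, Bs φ n (t.1 *ᵥ u) (t.1 *ᵥ w) = Bs φ n u w :=
    fun u w => gu_preserves φ hφ ⟨t, ht⟩ u w
  intro x
  rw [gl_mul_mulVec, gl_mul_mulVec, h, Matrix.mulVec_sub, Matrix.mulVec_add, Matrix.mulVec_smul,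
    Matrix.mulVec_smul, gl_mulVec_inv]
  congr 2
  · rw [← hB y ((t⁻¹ : GL (Fin n) F).1 *ᵥ x), gl_mulVec_inv]
  · rw [← hB a ((t⁻¹ : GL (Fin n) F).1 *ᵥ x), gl_mulVec_inv]

/-- a root element fixes the vectors orthogonal to `a` and `y` -/
theorem IsUr.fix {a y : Fin n → F} {g : GL (Fin n) F} (h : IsUr φ a y g) {x : Fin n → F}
    (hax : Bs φ n a x = 0) (hyx : Bs φ n y x = 0) : g.1 *ᵥ x = x := by
  rw [h x, hax, hyx, zero_smul, zero_smul, add_zero, sub_zero]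

theorem IsUr.swap {a y : Fin n → F} {g : GL (Fin n) F} (h : IsUr φ a y g) :
    IsUr φ (-y) a g := by
  intro x
  rw [h x, map_neg, LinearMap.neg_apply, neg_smul, smul_neg]
  abel

/-- the commutation relation of two root elements with a common vector -/
theorem ur_comm_rel [Fintype F] {q : ℕ} (hφ : ∀ x, φ x = x ^ q) (hφ2 : ∀ x, φ (φ x) = x)
    {w v y : Fin n → F} {g₁ g₂ : GL (Fin n) F}
    (h₁ : IsUr φ w v g₁) (h₂ : IsUr φ w y g₂) (hww : Bs φ n w w = 0) (hwv : Bs φ n w v = 0)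
    (hwy : Bs φ n w y = 0) (c : F) (hc : c = Bs φ n y v - Bs φ n v y) (hc' : c + φ c = 0) :
    g₁ * g₂ = g₂ * g₁ * tv φ hφ hφ2 w c hww hc' := by
  have hvw : Bs φ n v w = 0 := B_swap_zero hφ2 hwv
  have hyw : Bs φ n y w = 0 := B_swap_zero hφ2 hwy
  apply gl_ext
  intro x
  rw [gl_mul_mulVec, gl_mul_mulVec, gl_mul_mulVec, tv_mulVec, h₁, h₂, h₂, h₁, hc]
  simp only [map_add, map_sub, map_smul, smul_eq_mul, hww, hwv, hwy, hvw, hyw, mul_zero,
    add_zero, sub_zero, zero_mul]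
  module

end Cfsg.Agent.Lib.H11.SuPair
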