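import Cfsg.Agent.Lib.H11.SuPair2

/-!
Levi root elements, and: one transvection with centre in `U₁` gives all of them.
-/

set_option autoImplicit false
set_option linter.unusedSimpArgs false
set_option linter.unusedSectionVars false
set_option linter.unusedVariables false

namespace Cfsg.Agent.Lib.H11.SuPair

open Matrix Module
open Cfsg.Agent.S0837 (Bs Bs_apply Bs_symm Bs_nondeg)
open Cfsg.Agent.S0782 (Bs_eq_herm gu_preserves Tm Tm_mulVec Tm_det)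
open Cfsg.Agent.Lib.H11.SuSp (tv tv_val tv_mulVec tv_mem_GU tv_mem_SL)
open Cfsg.Agent.Lib.H11.SubspMax (gl_mul_mulVec gl_inv_mulVec gl_mulVec_inv gl_ext)
open Cfsg.Agent.Lib.H28 (mem_specialLinear_iff)
open Cfsg.Agent.Lib.H11.SuPar (Cen Cen_smul Cen_act eq_of_Cen_all)
open Cfsg.Agent.Lib.H11.PairStab (mem_stab_of_stab2 mem_stab_of_swap2 cases_of_mem_stab
  mem_stab_of_images finrank_map_gl)
open Cfsg.Agent.Lib.H11.SpPair (exists_mem_kers_not_mem)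

variable {F : Type*} [Field F] [Fintype F] {n q : ℕ} {φ : F →+* F}

theorem tv_congr (hφ : ∀ x, φ x = x ^ q) (hφ2 : ∀ x, φ (φ x) = x) {v v' : Fin n → F} {c c' : F}
    (hv : Bs φ n v v = 0) (hc : c + φ c = 0) (hv' : Bs φ n v' v' = 0) (hc' : c' + φ c' = 0)
    (e1 : v = v') (e2 : c = c') : tv φ hφ hφ2 v c hv hc = tv φ hφ hφ2 v' c' hv' hc' := by
  subst e1; subst e2; rfl

theorem tv_conj (hφ : ∀ x, φ x = x ^ q) (hφ2 : ∀ x, φ (φ x) = x) (h : GL (Fin n) F)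
    (hh : h ∈ Cfsg.GU n F q) (v : Fin n → F) (c : F) (hv : Bs φ n v v = 0) (hc : c + φ c = 0)
    (hv' : Bs φ n (h.1 *ᵥ v) (h.1 *ᵥ v) = 0) :
    h * tv φ hφ hφ2 v c hv hc * h⁻¹ = tv φ hφ hφ2 (h.1 *ᵥ v) c hv' hc := by
  have hB : ∀ u w, Bs φ n (h.1 *ᵥ u) (h.1 *ᵥ w) = Bs φ n u w :=
    fun u w => gu_preserves φ hφ ⟨h, hh⟩ u w
  apply gl_ext
  intro x
  rw [gl_mul_mulVec, gl_mul_mulVec, tv_mulVec, tv_mulVec, Matrix.mulVec_add,
    Matrix.mulVec_smul, gl_mulVec_inv]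
  congr 3
  rw [← hB v ((h⁻¹ : GL (Fin n) F).1 *ᵥ x), gl_mulVec_inv]

theorem tv_zero_right (hφ : ∀ x, φ x = x ^ q) (hφ2 : ∀ x, φ (φ x) = x) (v : Fin n → F)
    (hv : Bs φ n v v = 0) (hc : (0 : F) + φ 0 = 0) : tv φ hφ hφ2 v 0 hv hc = 1 := by
  apply gl_ext
  intro x
  rw [tv_mulVec, zero_mul, zero_smul, add_zero, Units.val_one, Matrix.one_mulVec]

theorem tv_smul (hφ : ∀ x, φ x = x ^ q) (hφ2 : ∀ x, φ (φ x) = x) (v : Fin n → F) (l c : F)
    (hv : Bs φ n v v = 0) (hc : c + φ c = 0) (hv' : Bs φ n (l • v) (l • v) = 0)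
    (hc' : c * l * φ l + φ (c * l * φ l) = 0) :
    tv φ hφ hφ2 (l • v) c hv' hc = tv φ hφ hφ2 v (c * l * φ l) hv hc' := by
  apply gl_ext
  intro x
  rw [tv_mulVec, tv_mulVec]
  simp only [map_smulₛₗ, LinearMap.smul_apply, smul_eq_mul, smul_smul]
  congr 2
  ring

variable {U₁ U₂ : Submodule F (Fin n → F)} {k : ℕ} {M : Subgroup (GL (Fin n) F)}

/-- the Levi subgroup moves `w` to any independent `u` inside `U₁` -/
theorem exists_move (hφ : ∀ x, φ x = x ^ q) (hφ2 : ∀ x, φ (φ x) = x) (hP : HPair φ U₁ U₂ k)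
    {w u : Fin n → F} (hw : w ∈ U₁) (hu : u ∈ U₁) (hw0 : w ≠ 0)
    (huw : u ∉ Submodule.span F {w}) :
    ∃ a ∈ U₁, ∃ y ∈ U₂, Bs φ n a y = 0 ∧ ∃ g : GL (Fin n) F, IsUr φ a y g ∧
      g ∈ Cfsg.GU n F q ∧ g.1 *ᵥ w = u := by
  obtain ⟨y, hy, hyw, hyu⟩ := hP.exists_both_one hφ2 hw hu huw hw0
  have hya : Bs φ n y (u - w) = 0 := by rw [map_sub, hyw, hyu, sub_self]
  have hay : Bs φ n (u - w) y = 0 := B_swap_zero hφ2 hya
  have haU : u - w ∈ U₁ := U₁.sub_mem hu hw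
  obtain ⟨g, hg, hgm⟩ := exists_ur hφ hφ2 (u - w) y (hP.iso₁ _ haU _ haU) (hP.iso₂ _ hy _ hy) hay
  refine ⟨u - w, haU, y, hy, hay, g, hg, hgm.1, ?_⟩
  rw [hg w, hyw, hP.iso₁ _ haU w hw, one_smul, zero_smul, sub_zero]
  abel

/-- one transvection with centre in `U₁` gives all of them -/
theorem cen_of_one (hF : Fintype.card F = q ^ 2) (hφ : ∀ x, φ x = x ^ q)
    (hφ2 : ∀ x, φ (φ x) = x) (hP : HPair φ U₁ U₂ k) (hk : 2 ≤ k)
    (hL : ∀ a ∈ U₁, ∀ y ∈ U₂, Bs φ n a y = 0 → ∀ g : GL (Fin n) F, IsUr φ a y g → g ∈ M)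
    {w : Fin n → F} (hw : w ∈ U₁) (hw0 : w ≠ 0) {c₀ : F} (hc₀ : c₀ ≠ 0) (hc₀' : c₀ + φ c₀ = 0)
    (hM : tv φ hφ hφ2 w c₀ (hP.iso₁ w hw w hw) hc₀' ∈ M) :
    ∀ u ∈ U₁, u ∈ Cen hφ hφ2 M := by
  -- moving the centre to an independent vector
  have move : ∀ w ∈ U₁, w ≠ 0 → ∀ (hww : Bs φ n w w = 0), tv φ hφ hφ2 w c₀ hww hc₀' ∈ M →
      ∀ u ∈ U₁, u ∉ Submodule.span F {w} → ∀ (huu : Bs φ n u u = 0),
        tv φ hφ hφ2 u c₀ huu hc₀' ∈ M := by
    intro w hw hw0 hww hM u hu huw huu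
    obtain ⟨a, ha, y, hy, hay, g, hg, hgG, hgw⟩ := exists_move hφ hφ2 hP hw hu hw0 huw
    have hgM : g ∈ M := hL a ha y hy hay g hg
    have h1 := tv_conj hφ hφ2 g hgG w c₀ hww hc₀' (by rw [hgw]; exact huu)
    have h2 : tv φ hφ hφ2 (g.1 *ᵥ w) c₀ (by rw [hgw]; exact huu) hc₀' =
        tv φ hφ hφ2 u c₀ huu hc₀' := tv_congr hφ hφ2 _ _ _ _ hgw rfl
    rw [← h2, ← h1]
    exact M.mul_mem (M.mul_mem hgM hM) (M.inv_mem hgM)
  -- the same scalar at all non-zero centres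
  have step1 : ∀ u ∈ U₁, u ≠ 0 → ∀ (huu : Bs φ n u u = 0), tv φ hφ hφ2 u c₀ huu hc₀' ∈ M := by
    intro u hu hu0 huu
    by_cases huw : u ∈ Submodule.span F {w}
    · obtain ⟨u', hu', -, hu'S⟩ := exists_mem_kers_not_mem (F := F) [] U₁
        (Submodule.span F {w}) (by
          rw [finrank_span_singleton hw0, hP.fr₁]
          simp only [List.length_nil]
          omega)
      have hu'0 : u' ≠ 0 := fun h => hu'S (by rw [h]; exact Submodule.zero_mem _)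
      have h1 := move w hw hw0 _ hM u' hu' hu'S (hP.iso₁ u' hu' u' hu')
      have huu' : u ∉ Submodule.span F {u'} := by
        intro hmem
        apply hu'S
        obtain ⟨b, hb⟩ := Submodule.mem_span_singleton.1 hmem
        obtain ⟨b', hb'⟩ := Submodule.mem_span_singleton.1 huw
        have hb0 : b ≠ 0 := by
          rintro rfl
          rw [zero_smul] at hb
          exact hu0 hb.symm
        rw [Submodule.mem_span_singleton]
        refine ⟨b⁻¹ * b', ?_⟩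
        rw [mul_smul, hb', ← hb, smul_smul, inv_mul_cancel₀ hb0, one_smul]
      exact move u' hu' hu'0 _ h1 u hu huu' huu
    · exact move w hw hw0 _ hM u hu huw huu
  -- all scalars
  intro u hu c huu hc
  by_cases hu0 : u = 0
  · have : tv φ hφ hφ2 u c huu hc = 1 := by
      apply gl_ext
      intro x
      rw [tv_mulVec, hu0, smul_zero, add_zero, Units.val_one, Matrix.one_mulVec]
    rw [this]; exact M.one_mem
  by_cases hc0 : c = 0
  · have : tv φ hφ hφ2 u c huu hc = 1 := by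
      apply gl_ext
      intro x
      rw [tv_mulVec, hc0, zero_mul, zero_smul, add_zero, Units.val_one, Matrix.one_mulVec]
    rw [this]; exact M.one_mem
  have hφc₀ : φ c₀ = -c₀ := by linear_combination hc₀'
  have hφc : φ c = -c := by linear_combination hc
  have ht : φ (c / c₀) = c / c₀ := by
    rw [map_div₀, hφc₀, hφc, neg_div_neg_eq]
  obtain ⟨l, hl⟩ := Cfsg.Agent.Lib.H11.UGen.exists_norm φ hF hφ (c / c₀) (div_ne_zero hc0 hc₀) ht
  have hl0 : l ≠ 0 := by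
    rintro rfl
    rw [zero_mul] at hl
    exact div_ne_zero hc0 hc₀ hl.symm
  have hlu : l • u ∈ U₁ := U₁.smul_mem l hu
  have hlu0 : l • u ≠ 0 := smul_ne_zero hl0 hu0
  have h1 := step1 (l • u) hlu hlu0 (hP.iso₁ _ hlu _ hlu)
  have hce : c₀ * l * φ l = c := by
    rw [mul_assoc, hl, mul_div_cancel₀ _ hc₀]
  have h2 := tv_smul hφ hφ2 u l c₀ huu hc₀' (hP.iso₁ _ hlu _ hlu) (by rw [hce]; exact hc)
  rw [h2] at h1
  have h3 : tv φ hφ hφ2 u (c₀ * l * φ l) huu (by rw [hce]; exact hc) = tv φ hφ hφ2 u c huu hc :=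
    tv_congr hφ hφ2 _ _ _ _ rfl hce
  rw [← h3]
  exact h1

end Cfsg.Agent.Lib.H11.SuPair
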