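import Cfsg.Agent.Lib.H11.SuPair3

/-!
Lemma C: an element of `M` fixing a subspace of codimension two pointwise and not stabilising
the pair produces a transvection of `M` with centre in `U₁` or `U₂`.
-/

set_option autoImplicit false
set_option linter.unusedSimpArgs false
set_option linter.unusedSectionVars false
set_option linter.unusedVariables false

namespace Cfsg.Agent.Lib.H11.SuPair

open Matrix Module
open Cfsg.Agent.S0837 (Bs Bs_apply Bs_symm Bs_nondeg)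
open Cfsg.Agent.S0782 (Bs_eq_herm gu_preserves Tm Tm_mulVec Tm_det)
open Cfsg.Agent.Lib.H11.SuSp (tv tv_val tv_mulVec tv_mem_GU tv_mem_SL)
open Cfsg.Agent.Lib.H11.SubspMax (gl_mul_mulVec gl_inv_mulVec gl_mulVec_inv gl_ext)
open Cfsg.Agent.Lib.H28 (mem_specialLinear_iff)
open Cfsg.Agent.Lib.H11.SuPar (Cen Cen_smul Cen_act eq_of_Cen_all)
open Cfsg.Agent.Lib.H11.PairStab (mem_stab_of_stab2 mem_stab_of_swap2 cases_of_mem_stab
  mem_stab_of_images finrank_map_gl)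
open Cfsg.Agent.Lib.H11.SpPair (exists_mem_kers_not_mem)

variable {F : Type*} [Field F] [Fintype F] {n q : ℕ} {φ : F →+* F}
variable {U₁ U₂ : Submodule F (Fin n → F)} {k : ℕ} {M : Subgroup (GL (Fin n) F)}

theorem exists_tv_of_fix (hF : Fintype.card F = q ^ 2) (hφ : ∀ x, φ x = x ^ q)
    (hφ2 : ∀ x, φ (φ x) = x) (hP : HPair φ U₁ U₂ k) (hk : 5 ≤ k)
    (hL : ∀ a ∈ U₁, ∀ y ∈ U₂, Bs φ n a y = 0 → ∀ g : GL (Fin n) F, IsUr φ a y g → g ∈ M)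
    {g : GL (Fin n) F} (hgM : g ∈ M) (hgG : g ∈ Cfsg.GU n F q) (a' y' : Fin n → F)
    (hfix : ∀ x, Bs φ n a' x = 0 → Bs φ n y' x = 0 → g.1 *ᵥ x = x)
    {z : Fin n → F} (hz : z ∈ U₂) (hgz : g.1 *ᵥ z ∉ U₂) :
    ∃ w ∈ U₁, w ≠ 0 ∧ ∃ (c : F) (hww : Bs φ n w w = 0) (hc : c + φ c = 0), c ≠ 0 ∧
      tv φ hφ hφ2 w c hww hc ∈ M := by
  have hφne := Cfsg.Agent.S0837.phi_ne_id φ hF hφ
  obtain ⟨v₁, hv₁, v₂, hv₂, hv⟩ := hP.span (g.1 *ᵥ z)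
  have hv₁0 : v₁ ≠ 0 := by
    rintro rfl
    rw [zero_add] at hv
    exact hgz (by rw [hv]; exact hv₂)
  obtain ⟨w, hw, hwk, hwS⟩ := exists_mem_kers_not_mem (F := F)
    [Bs φ n a', Bs φ n y', Bs φ n z] U₁ (Submodule.span F {v₁}) (by
      rw [finrank_span_singleton hv₁0, hP.fr₁]
      simp only [List.length_cons, List.length_nil]
      omega)
  have hwa' : Bs φ n a' w = 0 := hwk _ (by simp)
  have hwy' : Bs φ n y' w = 0 := hwk _ (by simp)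
  have hzw : Bs φ n z w = 0 := hwk _ (by simp)
  have hwz : Bs φ n w z = 0 := B_swap_zero hφ2 hzw
  have hw0 : w ≠ 0 := fun h => hwS (by rw [h]; exact Submodule.zero_mem _)
  have hww : Bs φ n w w = 0 := hP.iso₁ w hw w hw
  have hgw : g.1 *ᵥ w = w := hfix w hwa' hwy'
  -- the Levi element `t` and its conjugate
  obtain ⟨t, ht, -⟩ := exists_ur hφ hφ2 w z hww (hP.iso₂ z hz z hz) hwz
  have htM : t ∈ M := hL w hw z hz hwz t ht
  have ht₁ : IsUr φ w (g.1 *ᵥ z) (g * t * g⁻¹) := by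
    have := ht.conj hφ g hgG
    rwa [hgw] at this
  have ht₁M : g * t * g⁻¹ ∈ M := M.mul_mem (M.mul_mem hgM htM) (M.inv_mem hgM)
  -- the vector `y''`
  obtain ⟨θ, hθ⟩ : ∃ θ, φ θ ≠ θ := by
    by_contra hcon
    push Not at hcon
    exact hφne (RingHom.ext hcon)
  have hv₁w : v₁ ∉ Submodule.span F {w} := not_mem_span_symm hv₁0 hwS
  obtain ⟨y'', hy'', hy''w, hy''v⟩ := hP.exists_sep hφ2 (Submodule.span F {w}) hv₁ hv₁w θ
  have hy''w0 : Bs φ n y'' w = 0 := hy''w w hw (Submodule.mem_span_singleton_self w)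
  have hwy'' : Bs φ n w y'' = 0 := B_swap_zero hφ2 hy''w0
  obtain ⟨t₂, ht₂, -⟩ := exists_ur hφ hφ2 w y'' hww (hP.iso₂ y'' hy'' y'' hy'') hwy''
  have ht₂M : t₂ ∈ M := hL w hw y'' hy'' hwy'' t₂ ht₂
  have hwv : Bs φ n w (g.1 *ᵥ z) = 0 := by
    have := gu_preserves φ hφ ⟨g, hgG⟩ w z
    rw [show ((⟨g, hgG⟩ : Cfsg.GU n F q).1.1 *ᵥ w) = w from hgw] at this
    rw [← hwz]
    exact this
  have h1 : Bs φ n y'' (g.1 *ᵥ z) = θ := by
    rw [hv, map_add, hy''v, hP.iso₂ y'' hy'' v₂ hv₂, add_zero]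
  have h2 : Bs φ n (g.1 *ᵥ z) y'' = φ θ := by
    rw [← (Bs_symm φ hφ2 n).eq y'' (g.1 *ᵥ z), h1]
  have hc' : (θ - φ θ) + φ (θ - φ θ) = 0 := by
    rw [map_sub, hφ2]; ring
  have hrel := ur_comm_rel hφ hφ2 ht₁ ht₂ hww hwv hwy'' (θ - φ θ) (by rw [h1, h2]) hc'
  refine ⟨w, hw, hw0, θ - φ θ, hww, hc', fun h => hθ (sub_eq_zero.1 h).symm, ?_⟩
  have h3 : tv φ hφ hφ2 w (θ - φ θ) hww hc' = (t₂ * (g * t * g⁻¹))⁻¹ * (g * t * g⁻¹ * t₂) := by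
    rw [hrel]; group
  rw [h3]
  exact M.mul_mem (M.inv_mem (M.mul_mem ht₂M ht₁M)) (M.mul_mem ht₁M ht₂M)

variable {D : Fin 2 → Submodule F (Fin n → F)}

/-- the Levi root elements lie in the stabiliser of the pair -/
theorem ur_mem_N (hφ : ∀ x, φ x = x ^ q) (hφ2 : ∀ x, φ (φ x) = x)
    (hP : HPair φ (D 0) (D 1) k) {a y : Fin n → F} (ha : a ∈ D 0) (hy : y ∈ D 1)
    (hay : Bs φ n a y = 0) {g : GL (Fin n) F} (hg : IsUr φ a y g) :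
    g ∈ Cfsg.Geo.decompositionStabilizer D ⊓
      (Cfsg.GU n F q ⊓ Cfsg.Geo.specialLinear (Fin n) F) := by
  obtain ⟨g', hg', hmem⟩ := exists_ur hφ hφ2 a y (hP.iso₁ a ha a ha) (hP.iso₂ y hy y hy) hay
  have e : g = g' := hg.unique hg'
  refine ⟨mem_stab_of_stab2 _ ?_ ?_, by rw [e]; exact hmem⟩
  · intro x hx
    rw [hg x, hP.iso₁ a ha x hx, zero_smul, sub_zero]
    exact (D 0).add_mem hx ((D 0).smul_mem _ ha)
  · intro x hx
    rw [hg x, hP.iso₂ y hy x hx, zero_smul, add_zero]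
    exact (D 1).sub_mem hx ((D 1).smul_mem _ hy)

/-- C': an element of `M` with a large fixed space, outside the stabiliser, gives a transvection
of `M` with centre in `D 0` or `D 1` -/
theorem exists_tv_of_not_mem (hF : Fintype.card F = q ^ 2) (hφ : ∀ x, φ x = x ^ q)
    (hφ2 : ∀ x, φ (φ x) = x) (hP : HPair φ (D 0) (D 1) k) (hk : 5 ≤ k)
    (hNM : Cfsg.Geo.decompositionStabilizer D ⊓
      (Cfsg.GU n F q ⊓ Cfsg.Geo.specialLinear (Fin n) F) ≤ M)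
    {g : GL (Fin n) F} (hgM : g ∈ M) (hgG : g ∈ Cfsg.GU n F q) (a' y' : Fin n → F)
    (hfix : ∀ x, Bs φ n a' x = 0 → Bs φ n y' x = 0 → g.1 *ᵥ x = x)
    (hnot : g ∉ Cfsg.Geo.decompositionStabilizer D) :
    (∃ w ∈ D 0, w ≠ 0 ∧ ∃ (c : F) (hww : Bs φ n w w = 0) (hc : c + φ c = 0), c ≠ 0 ∧
      tv φ hφ hφ2 w c hww hc ∈ M) ∨
    (∃ w ∈ D 1, w ≠ 0 ∧ ∃ (c : F) (hww : Bs φ n w w = 0) (hc : c + φ c = 0), c ≠ 0 ∧
      tv φ hφ hφ2 w c hww hc ∈ M) := by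
  have hL : ∀ a ∈ D 0, ∀ y ∈ D 1, Bs φ n a y = 0 → ∀ g : GL (Fin n) F, IsUr φ a y g → g ∈ M :=
    fun a ha y hy hay g hg => hNM (ur_mem_N hφ hφ2 hP ha hy hay hg)
  have hL' : ∀ a ∈ D 1, ∀ y ∈ D 0, Bs φ n a y = 0 → ∀ g : GL (Fin n) F, IsUr φ a y g → g ∈ M := by
    intro a ha y hy hay g hg
    refine hL (-y) ((D 0).neg_mem hy) a ha ?_ g hg.swap
    rw [map_neg, LinearMap.neg_apply, B_swap_zero hφ2 hay, neg_zero]
  by_cases h1 : ∃ z ∈ D 1, g.1 *ᵥ z ∉ D 1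
  · left
    obtain ⟨z, hz, hgz⟩ := h1
    exact exists_tv_of_fix hF hφ hφ2 hP hk hL hgM hgG a' y' hfix hz hgz
  by_cases h2 : ∃ z ∈ D 0, g.1 *ᵥ z ∉ D 0
  · right
    obtain ⟨z, hz, hgz⟩ := h2
    exact exists_tv_of_fix hF hφ hφ2 hP.symm hk hL' hgM hgG a' y' hfix hz hgz
  exfalso
  push Not at h1 h2
  exact hnot (mem_stab_of_stab2 g h2 h1)

end Cfsg.Agent.Lib.H11.SuPair
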