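import Cfsg.Agent.Lib.H11.SuPair4

/-!
B1: an element of `M` outside the stabiliser of the pair gives an element of `M` outside it with a
large fixed space.
-/

set_option autoImplicit false
set_option linter.unusedSimpArgs false
set_option linter.unusedSectionVars false
set_option linter.unusedVariables false

namespace Cfsg.Agent.Lib.H11.SuPair

open Matrix Module
open Cfsg.Agent.S0837 (Bs Bs_apply Bs_symm Bs_nondeg)
open Cfsg.Agent.S0782 (Bs_eq_herm gu_preserves Tm Tm_mulVec Tm_det)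
open Cfsg.Agent.Lib.H11.SuSp (tv tv_val tv_mulVec tv_mem_GU tv_mem_SL)
open Cfsg.Agent.Lib.H11.SubspMax (gl_mul_mulVec gl_inv_mulVec gl_mulVec_inv gl_ext)
open Cfsg.Agent.Lib.H28 (mem_specialLinear_iff)
open Cfsg.Agent.Lib.H11.SuPar (Cen Cen_smul Cen_act eq_of_Cen_all)
open Cfsg.Agent.Lib.H11.PairStab (mem_stab_of_stab2 mem_stab_of_swap2 cases_of_mem_stab
  mem_stab_of_images finrank_map_gl)
open Cfsg.Agent.Lib.H11.SpPair (exists_mem_kers_not_mem)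

variable {F : Type*} [Field F] [Fintype F] {n q : ℕ} {φ : F →+* F}
variable {U₁ U₂ : Submodule F (Fin n → F)} {k : ℕ} {M : Subgroup (GL (Fin n) F)}

/-- a subspace of dimension `k` invariant under the Levi root elements is `U₁` or `U₂` -/
theorem eq_of_invariant (hφ : ∀ x, φ x = x ^ q) (hφ2 : ∀ x, φ (φ x) = x)
    (hP : HPair φ U₁ U₂ k) (hk : 3 ≤ k) (T : Submodule F (Fin n → F)) (hT : finrank F T = k)
    (hinv : ∀ a ∈ U₁, ∀ y ∈ U₂, Bs φ n a y = 0 → ∀ g : GL (Fin n) F, IsUr φ a y g →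
      ∀ t ∈ T, g.1 *ᵥ t ∈ T) :
    T = U₁ ∨ T = U₂ := by
  by_cases hTU : T ≤ U₂
  · right
    exact Submodule.eq_of_le_of_finrank_eq hTU (by rw [hT, hP.fr₂])
  left
  obtain ⟨t, htT, htU⟩ := Set.not_subset.mp hTU
  obtain ⟨t₁, ht₁, t₂, ht₂, rfl⟩ := hP.span t
  have ht₁0 : t₁ ≠ 0 := by
    rintro rfl
    rw [zero_add] at htU
    exact htU ht₂
  obtain ⟨y, hy, hyt⟩ := hP.exists_ne hφ2 ht₁ ht₁0
  obtain ⟨a₀, ha₀, hk', ha₀S⟩ := exists_mem_kers_not_mem (F := F) [Bs φ n y, Bs φ n t₂] U₁ ⊥ (by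
    rw [finrank_bot, hP.fr₁]
    simp only [List.length_cons, List.length_nil]
    omega)
  have hya₀ : Bs φ n y a₀ = 0 := hk' _ (by simp)
  have ht₂a₀ : Bs φ n t₂ a₀ = 0 := hk' _ (by simp)
  have ha₀0 : a₀ ≠ 0 := fun h => ha₀S (by rw [h]; exact Submodule.zero_mem _)
  have ha₀y : Bs φ n a₀ y = 0 := B_swap_zero hφ2 hya₀
  have ha₀T : a₀ ∈ T := by
    obtain ⟨g, hg, -⟩ := exists_ur hφ hφ2 a₀ y (hP.iso₁ a₀ ha₀ a₀ ha₀) (hP.iso₂ y hy y hy) ha₀y
    have h1 := hinv a₀ ha₀ y hy ha₀y g hg _ htT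
    rw [hg, map_add, map_add, hP.iso₂ y hy t₂ ht₂, hP.iso₁ a₀ ha₀ t₁ ht₁,
      B_swap_zero hφ2 ht₂a₀, add_zero, add_zero, zero_smul, sub_zero] at h1
    have h3 : Bs φ n y t₁ • a₀ ∈ T := by
      have := T.sub_mem h1 htT
      rwa [add_sub_cancel_left] at this
    have := T.smul_mem (Bs φ n y t₁)⁻¹ h3
    rwa [smul_smul, inv_mul_cancel₀ hyt, one_smul] at this
  have hle : U₁ ≤ T := by
    intro a ha
    by_cases haS : a ∈ Submodule.span F {a₀}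
    · obtain ⟨c, rfl⟩ := Submodule.mem_span_singleton.1 haS
      exact T.smul_mem c ha₀T
    · have h1 : a₀ ∉ Submodule.span F {a} := not_mem_span_symm ha₀0 haS
      obtain ⟨y', hy', hy'a, hy'a₀⟩ := hP.exists_sep hφ2 (Submodule.span F {a}) ha₀ h1 1
      have hy'a0 : Bs φ n y' a = 0 := hy'a a ha (Submodule.mem_span_singleton_self a)
      have hay' : Bs φ n a y' = 0 := B_swap_zero hφ2 hy'a0
      obtain ⟨g, hg, -⟩ := exists_ur hφ hφ2 a y' (hP.iso₁ a ha a ha) (hP.iso₂ y' hy' y' hy') hay'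
      have h3 := hinv a ha y' hy' hay' g hg a₀ ha₀T
      rw [hg, hy'a₀, hP.iso₁ a ha a₀ ha₀, one_smul, zero_smul, sub_zero] at h3
      have := T.sub_mem h3 ha₀T
      rwa [add_sub_cancel_left] at this
  exact (Submodule.eq_of_le_of_finrank_eq hle (by rw [hT, hP.fr₁])).symm

/-- an element with a large fixed space cannot map `U₁` into `U₂` -/
theorem fix_not_swap (hP : HPair φ U₁ U₂ k) (hk : 3 ≤ k) (g : GL (Fin n) F)
    (a' y' : Fin n → F) (hfix : ∀ x, Bs φ n a' x = 0 → Bs φ n y' x = 0 → g.1 *ᵥ x = x) :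
    ¬ ∀ x ∈ U₁, g.1 *ᵥ x ∈ U₂ := by
  intro h1
  obtain ⟨x, hx, hk', hxS⟩ := exists_mem_kers_not_mem (F := F) [Bs φ n a', Bs φ n y'] U₁ ⊥ (by
    rw [finrank_bot, hP.fr₁]
    simp only [List.length_cons, List.length_nil]
    omega)
  have hax : Bs φ n a' x = 0 := hk' _ (by simp)
  have hyx : Bs φ n y' x = 0 := hk' _ (by simp)
  have h3 := h1 x hx
  rw [hfix x hax hyx] at h3
  have h5 : x ∈ U₁ ⊓ U₂ := ⟨hx, h3⟩
  rw [hP.disj, Submodule.mem_bot] at h5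
  exact hxS (by rw [h5]; exact Submodule.zero_mem _)

variable {D : Fin 2 → Submodule F (Fin n → F)}

/-- B1 -/
theorem exists_fix_not_mem (hφ : ∀ x, φ x = x ^ q) (hφ2 : ∀ x, φ (φ x) = x)
    (hP : HPair φ (D 0) (D 1) k) (hk : 3 ≤ k)
    (hNM : Cfsg.Geo.decompositionStabilizer D ⊓
      (Cfsg.GU n F q ⊓ Cfsg.Geo.specialLinear (Fin n) F) ≤ M)
    (hMS : M ≤ Cfsg.GU n F q ⊓ Cfsg.Geo.specialLinear (Fin n) F)
    (h : GL (Fin n) F) (hhM : h ∈ M) (hh : h ∉ Cfsg.Geo.decompositionStabilizer D) :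
    ∃ g ∈ M, (∃ a' y' : Fin n → F, ∀ x, Bs φ n a' x = 0 → Bs φ n y' x = 0 → g.1 *ᵥ x = x) ∧
      g ∉ Cfsg.Geo.decompositionStabilizer D := by
  by_contra hcon
  push Not at hcon
  have hhG : h ∈ Cfsg.GU n F q := (hMS hhM).1
  have key : ∀ a ∈ D 0, ∀ y ∈ D 1, Bs φ n a y = 0 → ∀ t : GL (Fin n) F, IsUr φ a y t →
      (∀ x ∈ D 0, (h⁻¹ * t * h).1 *ᵥ x ∈ D 0) ∧ (∀ x ∈ D 1, (h⁻¹ * t * h).1 *ᵥ x ∈ D 1) := by
    intro a ha y hy hay t ht
    have htM : t ∈ M := hNM (ur_mem_N hφ hφ2 hP ha hy hay ht)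
    have hgM : h⁻¹ * t * h ∈ M := M.mul_mem (M.mul_mem (M.inv_mem hhM) htM) hhM
    have hur := ht.conj hφ h⁻¹ ((Cfsg.GU n F q).inv_mem hhG)
    rw [inv_inv] at hur
    have h5 := hcon _ hgM ⟨_, _, fun x hax hyx => hur.fix hax hyx⟩
    rcases cases_of_mem_stab _ h5 with h6 | h6
    · exact h6
    · exfalso
      exact fix_not_swap hP hk _ _ _ (fun x hax hyx => hur.fix hax hyx) h6.1
  have hinv : ∀ i : Fin 2, ∀ a ∈ D 0, ∀ y ∈ D 1, Bs φ n a y = 0 → ∀ t : GL (Fin n) F,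
      IsUr φ a y t → ∀ v ∈ (D i).map (Matrix.toLin' h.1), t.1 *ᵥ v ∈
        (D i).map (Matrix.toLin' h.1) := by
    intro i a ha y hy hay t ht v hv
    obtain ⟨x, hx, rfl⟩ := hv
    have h1 : (h⁻¹ * t * h).1 *ᵥ x ∈ D i := by
      have := key a ha y hy hay t ht
      revert x
      revert i
      rw [Fin.forall_fin_two]
      exact ⟨fun x hx => this.1 x hx, fun x hx => this.2 x hx⟩
    refine ⟨_, h1, ?_⟩
    rw [Matrix.toLin'_apply, Matrix.toLin'_apply, gl_mul_mulVec, gl_mul_mulVec, gl_mulVec_inv]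
  have hT := fun i => eq_of_invariant hφ hφ2 hP hk ((D i).map (Matrix.toLin' h.1))
    (by
      rw [finrank_map_gl]
      revert i
      rw [Fin.forall_fin_two]
      exact ⟨hP.fr₁, hP.fr₂⟩) (hinv i)
  have hne : D 0 ≠ D 1 := by
    intro heq
    have h1 := hP.disj
    rw [heq, inf_idem] at h1
    have := hP.fr₂
    rw [h1, finrank_bot] at this
    omega
  apply hh
  exact mem_stab_of_images hne _ (hT 0) (hT 1)

end Cfsg.Agent.Lib.H11.SuPair
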