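import Cfsg.Agent.Lib.H11.SuPair5

/-!
Maximality of the stabiliser of the pair, given an element interchanging the two subspaces.
-/

set_option autoImplicit false
set_option linter.unusedSimpArgs false
set_option linter.unusedSectionVars false
set_option linter.unusedVariables false

namespace Cfsg.Agent.Lib.H11.SuPair

open Matrix Module
open Cfsg.Agent.S0837 (Bs Bs_apply Bs_symm Bs_nondeg)
open Cfsg.Agent.S0782 (Bs_eq_herm gu_preserves Tm Tm_mulVec Tm_det)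
open Cfsg.Agent.Lib.H11.SuSp (tv tv_val tv_mulVec tv_mem_GU tv_mem_SL)
open Cfsg.Agent.Lib.H11.SubspMax (gl_mul_mulVec gl_inv_mulVec gl_mulVec_inv gl_ext)
open Cfsg.Agent.Lib.H28 (mem_specialLinear_iff)
open Cfsg.Agent.Lib.H11.SuPar (Cen Cen_smul Cen_act eq_of_Cen_all exists_tz_ne)
open Cfsg.Agent.Lib.H11.PairStab (mem_stab_of_stab2 mem_stab_of_swap2 cases_of_mem_stab
  mem_stab_of_images finrank_map_gl)
open Cfsg.Agent.Lib.H11.SpPair (exists_mem_kers_not_mem)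

variable {F : Type*} [Field F] [Fintype F] {n q : ℕ} {φ : F →+* F}
variable {D : Fin 2 → Submodule F (Fin n → F)} {k : ℕ} {M : Subgroup (GL (Fin n) F)}

/-- the stabiliser of the pair is a proper subgroup of `SU` -/
theorem N_lt (hF : Fintype.card F = q ^ 2) (hφ : ∀ x, φ x = x ^ q) (hφ2 : ∀ x, φ (φ x) = x)
    (hP : HPair φ (D 0) (D 1) k) (hk : 1 ≤ k) :
    Cfsg.Geo.decompositionStabilizer D ⊓
      (Cfsg.GU n F q ⊓ Cfsg.Geo.specialLinear (Fin n) F) <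
        Cfsg.GU n F q ⊓ Cfsg.Geo.specialLinear (Fin n) F := by
  have hφne := Cfsg.Agent.S0837.phi_ne_id φ hF hφ
  refine lt_of_le_of_ne inf_le_right ?_
  intro heq
  have hD0 : D 0 ≠ ⊥ := by
    intro h
    have := hP.fr₁
    rw [h, finrank_bot] at this
    omega
  obtain ⟨u, hu, hu0⟩ := Submodule.exists_mem_ne_zero_of_ne_bot hD0
  obtain ⟨y, hy, hyu⟩ := hP.exists_ne hφ2 hu hu0
  have huy : Bs φ n u y ≠ 0 := B_swap_ne hφ2 hyu
  obtain ⟨c, hc0, hc⟩ := exists_tz_ne hφne hφ2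
  have huu : Bs φ n u u = 0 := hP.iso₁ u hu u hu
  have hmem : tv φ hφ hφ2 u c huu hc ∈ Cfsg.Geo.decompositionStabilizer D ⊓
      (Cfsg.GU n F q ⊓ Cfsg.Geo.specialLinear (Fin n) F) := by
    rw [heq]; exact ⟨tv_mem_GU _ _ _ _ _ _, tv_mem_SL _ _ _ _ _ _⟩
  have hcontra : u ∈ D 1 → False := by
    intro h1
    have h5 : u ∈ D 0 ⊓ D 1 := ⟨hu, h1⟩
    rw [hP.disj, Submodule.mem_bot] at h5
    exact hu0 h5
  rcases cases_of_mem_stab _ hmem.1 with h6 | h6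
  · have h1 := h6.2 y hy
    rw [tv_mulVec] at h1
    have h3 : (c * Bs φ n u y) • u ∈ D 1 := (D 1).add_mem_iff_right hy |>.1 h1
    have h4 := (D 1).smul_mem (c * Bs φ n u y)⁻¹ h3
    rw [smul_smul, inv_mul_cancel₀ (mul_ne_zero hc0 huy), one_smul] at h4
    exact hcontra h4
  · have h1 := h6.1 u hu
    rw [tv_mulVec, huu, mul_zero, zero_smul, add_zero] at h1
    exact hcontra h1

/-- maximality, given an element interchanging the two subspaces -/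
theorem pair_maximal_of_swap (hF : Fintype.card F = q ^ 2) (hφ : ∀ x, φ x = x ^ q)
    (hφ2 : ∀ x, φ (φ x) = x) (hP : HPair φ (D 0) (D 1) k) (hn : 3 ≤ n)
    (h32 : ¬ (n = 3 ∧ q = 2)) (hk : 5 ≤ k) (s : GL (Fin n) F)
    (hsN : s ∈ Cfsg.Geo.decompositionStabilizer D ⊓
      (Cfsg.GU n F q ⊓ Cfsg.Geo.specialLinear (Fin n) F))
    (hs1 : ∀ x ∈ D 0, s.1 *ᵥ x ∈ D 1) (hs2 : ∀ x ∈ D 1, s.1 *ᵥ x ∈ D 0) :
    Cfsg.Geo.IsMaximalIn (Cfsg.GU n F q ⊓ Cfsg.Geo.specialLinear (Fin n) F)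
      (Cfsg.Geo.decompositionStabilizer D ⊓
        (Cfsg.GU n F q ⊓ Cfsg.Geo.specialLinear (Fin n) F)) := by
  have hφne := Cfsg.Agent.S0837.phi_ne_id φ hF hφ
  refine ⟨N_lt hF hφ hφ2 hP (by omega), ?_⟩
  intro M hNM hMS
  by_cases hMN : M = Cfsg.Geo.decompositionStabilizer D ⊓
      (Cfsg.GU n F q ⊓ Cfsg.Geo.specialLinear (Fin n) F)
  · left; exact hMN
  right
  have hMG : M ≤ Cfsg.GU n F q := fun g hg => (hMS hg).1
  obtain ⟨h, hhM, hhN⟩ : ∃ h ∈ M, h ∉ Cfsg.Geo.decompositionStabilizer D := by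
    by_contra hcon
    push Not at hcon
    exact hMN (le_antisymm (fun g hg => ⟨hcon g hg, hMS hg⟩) hNM)
  obtain ⟨g, hgM, ⟨a', y', hfix⟩, hgN⟩ := exists_fix_not_mem hφ hφ2 hP (by omega) hNM hMS h hhM hhN
  have hL : ∀ a ∈ D 0, ∀ y ∈ D 1, Bs φ n a y = 0 → ∀ g : GL (Fin n) F, IsUr φ a y g → g ∈ M :=
    fun a ha y hy hay g hg => hNM (ur_mem_N hφ hφ2 hP ha hy hay hg)
  have hL' : ∀ a ∈ D 1, ∀ y ∈ D 0, Bs φ n a y = 0 → ∀ g : GL (Fin n) F, IsUr φ a y g → g ∈ M := by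
    intro a ha y hy hay g hg
    refine hL (-y) ((D 0).neg_mem hy) a ha ?_ g hg.swap
    rw [map_neg, LinearMap.neg_apply, B_swap_zero hφ2 hay, neg_zero]
  have hsM : s ∈ M := hNM hsN
  have hsinv : ∀ x, (s⁻¹ : GL (Fin n) F).1 *ᵥ (s.1 *ᵥ x) = x := fun x => gl_inv_mulVec s x
  -- both subspaces consist of centres
  have hboth : (∀ u ∈ D 0, u ∈ Cen hφ hφ2 M) ∧ (∀ u ∈ D 1, u ∈ Cen hφ hφ2 M) := by
    rcases exists_tv_of_not_mem hF hφ hφ2 hP hk hNM hgM (hMG hgM) a' y' hfix hgN with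
      ⟨w, hw, hw0, c, hww, hc, hc0, hwM⟩ | ⟨w, hw, hw0, c, hww, hc, hc0, hwM⟩
    · have h0 := cen_of_one hF hφ hφ2 hP (by omega) hL hw hw0 hc0 hc hwM
      refine ⟨h0, fun u hu => ?_⟩
      have := Cen_act hφ hφ2 hMG (h0 _ (hs2 u hu)) (M.inv_mem hsM)
      rwa [hsinv] at this
    · have h1 := cen_of_one hF hφ hφ2 hP.symm (by omega) hL' hw hw0 hc0 hc hwM
      refine ⟨fun u hu => ?_, h1⟩
      have := Cen_act hφ hφ2 hMG (h1 _ (hs1 u hu)) (M.inv_mem hsM)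
      rwa [hsinv] at this
  obtain ⟨hC0, hC1⟩ := hboth
  -- isotropic vectors whose components are not orthogonal
  have case1 : ∀ x₁ ∈ D 0, ∀ x₂ ∈ D 1, Bs φ n x₂ x₁ ≠ 0 →
      Bs φ n (x₁ + x₂) (x₁ + x₂) = 0 → x₁ + x₂ ∈ Cen hφ hφ2 M := by
    intro x₁ h₁ x₂ h₂ hne hiso
    have h3 : Bs φ n x₁ x₂ + Bs φ n x₂ x₁ = 0 := by
      simp only [map_add, LinearMap.add_apply, hP.iso₁ x₁ h₁ x₁ h₁, hP.iso₂ x₂ h₂ x₂ h₂] at hiso
      linear_combination hiso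
    have h4 : φ (Bs φ n x₂ x₁) = - Bs φ n x₂ x₁ := by
      rw [(Bs_symm φ hφ2 n).eq x₂ x₁]; linear_combination h3
    have hc : (Bs φ n x₂ x₁)⁻¹ + φ ((Bs φ n x₂ x₁)⁻¹) = 0 := by
      rw [map_inv₀, h4, inv_neg, add_neg_cancel]
    have htM := hC1 x₂ h₂ _ (hP.iso₂ x₂ h₂ x₂ h₂) hc
    have := Cen_act hφ hφ2 hMG (hC0 x₁ h₁) htM
    rwa [tv_mulVec, inv_mul_cancel₀ hne, one_smul] at this
  have hall : ∀ x : Fin n → F, Bs φ n x x = 0 → x ∈ Cen hφ hφ2 M := by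
    intro x hxx
    obtain ⟨x₁, h₁, x₂, h₂, rfl⟩ := hP.span x
    by_cases hne : Bs φ n x₂ x₁ ≠ 0
    · exact case1 x₁ h₁ x₂ h₂ hne hxx
    rw [not_not] at hne
    by_cases hx₁0 : x₁ = 0
    · rw [hx₁0, zero_add]; exact hC1 x₂ h₂
    obtain ⟨θ, hθ0, hθ⟩ := exists_tz_ne hφne hφ2
    obtain ⟨p₂, hp₂, -, hp₂x⟩ := hP.exists_sep hφ2 ⊥ h₁ (by
      rw [Submodule.mem_bot]; exact hx₁0) θ
    have hφθ : φ θ = -θ := by linear_combination hθ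
    have hxp : Bs φ n x₁ p₂ = -θ := by
      rw [← (Bs_symm φ hφ2 n).eq p₂ x₁, hp₂x, hφθ]
    have hpC : x₁ + p₂ ∈ Cen hφ hφ2 M := by
      apply case1 x₁ h₁ p₂ hp₂ (by rw [hp₂x]; exact hθ0)
      simp only [map_add, LinearMap.add_apply, hP.iso₁ x₁ h₁ x₁ h₁, hP.iso₂ p₂ hp₂ p₂ hp₂, hp₂x,
        hxp]
      ring
    have hp' : x₂ - p₂ ∈ D 1 := (D 1).sub_mem h₂ hp₂
    have hB : Bs φ n (x₂ - p₂) (x₁ + p₂) = -θ := by
      simp only [map_add, map_sub, LinearMap.sub_apply, hne, hp₂x, hP.iso₂ x₂ h₂ p₂ hp₂,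
        hP.iso₂ p₂ hp₂ p₂ hp₂]
      ring
    have hc : (-θ)⁻¹ + φ ((-θ)⁻¹) = 0 := by
      rw [map_inv₀, map_neg, hφθ, neg_neg, inv_neg, neg_add_cancel]
    have htM := hC1 _ hp' _ (hP.iso₂ _ hp' _ hp') hc
    have := Cen_act hφ hφ2 hMG hpC htM
    rw [tv_mulVec, hB, inv_mul_cancel₀ (neg_ne_zero.2 hθ0), one_smul] at this
    have e : x₁ + p₂ + (x₂ - p₂) = x₁ + x₂ := by abel
    rwa [e] at this
  exact eq_of_Cen_all hφ hφ2 hF hn h32 hMS hall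

end Cfsg.Agent.Lib.H11.SuPair
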