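import Cfsg.Agent.Lib.H11.SuPair6
import Cfsg.Agent.Lib.H11.UnitarySimple1

/-!
An element of `SU` interchanging the two subspaces of the pair.
-/

set_option autoImplicit false
set_option linter.unusedSimpArgs false
set_option linter.unusedSectionVars false
set_option linter.unusedVariables false

namespace Cfsg.Agent.Lib.H11.SuPair

open Matrix Module
open Cfsg.Agent.S0837 (Bs Bs_apply Bs_symm Bs_nondeg)
open Cfsg.Agent.S0782 (Bs_eq_herm gu_preserves Tm Tm_mulVec Tm_det)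
open Cfsg.Agent.Lib.H11.SubspMax (gl_mul_mulVec gl_inv_mulVec gl_mulVec_inv gl_ext)
open Cfsg.Agent.Lib.H28 (mem_specialLinear_iff)
open Cfsg.Agent.Lib.H11.PairStab (mem_stab_of_stab2 mem_stab_of_swap2 cases_of_mem_stab
  mem_stab_of_images finrank_map_gl)
open Cfsg.Agent.Lib.H11.UGen
open Cfsg.Agent.Lib.H11.USimple (rotEl rotEl_act rotEl_det exists_adjust)

variable {F : Type*} [Field F] [Fintype F] {n q : ℕ} {φ : F →+* F}
variable {U₁ U₂ : Submodule F (Fin n → F)} {k : ℕ}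

/-- dual bases of a pair of complementary totally isotropic subspaces -/
theorem HPair.exists_dual_bases (h : HPair φ U₁ U₂ k) (hφ2 : ∀ x, φ (φ x) = x) :
    ∃ (b : Basis (Fin k) F U₁) (f : Fin k → (Fin n → F)), (∀ j, f j ∈ U₂) ∧
      ∀ i j, Bs φ n (f j) ((b i : U₁) : Fin n → F) = if i = j then 1 else 0 := by
  let b : Basis (Fin k) F U₁ := Module.finBasisOfFinrankEq F U₁ h.fr₁
  have key : ∀ j, ∃ y ∈ U₂, ∀ x : U₁, Bs φ n y (x : Fin n → F) = b.coord j x := by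
    intro j
    obtain ⟨ψ, hψ⟩ := LinearMap.exists_extend (b.coord j)
    obtain ⟨y, hy, hyx⟩ := h.exists_dual hφ2 ψ
    refine ⟨y, hy, fun x => ?_⟩
    rw [hyx x x.2, ← hψ]
    rfl
  choose y hy hyx using key
  refine ⟨b, y, hy, fun i j => ?_⟩
  rw [hyx j (b i), Basis.coord_apply, Basis.repr_self, Finsupp.single_apply]

/-- the quasi-reflection interchanging a hyperbolic pair -/
theorem exists_refl_swap (hφ : ∀ x, φ x = x ^ q) (hφ2 : ∀ x, φ (φ x) = x) (e f : Fin n → F)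
    (hee : Bs φ n e e = 0) (hff : Bs φ n f f = 0) (hfe : Bs φ n f e = 1) :
    ∃ r : ↥(Cfsg.GU n F q), act r e = f ∧ act r f = e ∧
      ∀ x, Bs φ n (e - f) x = 0 → act r x = x := by
  have hef : Bs φ n e f = 1 := by
    rw [← (Bs_symm φ hφ2 n).eq f e, hfe, map_one]
  have hww : Bs φ n (e - f) (e - f) = -2 := by
    simp only [map_sub, LinearMap.sub_apply, hee, hff, hef, hfe]; ring
  have hc : (1 : F) + φ 1 + 1 * φ 1 * Bs φ n (e - f) (e - f) = 0 := by
    rw [hww, map_one]; ring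
  refine ⟨uEl φ hφ hφ2 (e - f) 1 hc, ?_, ?_, ?_⟩
  · rw [uEl_act, map_sub, LinearMap.sub_apply, hee, hfe]
    have : ((1 : F) * (0 - 1)) = -1 := by ring
    rw [this, neg_one_smul]
    abel
  · rw [uEl_act, map_sub, LinearMap.sub_apply, hef, hff]
    have : ((1 : F) * (1 - 0)) = 1 := by ring
    rw [this, one_smul]
    abel
  · intro x hx
    exact uEl_act_of_orth φ hφ hφ2 _ _ hc x hx

/-- some element of `GU` interchanges `U₁` and `U₂` -/
theorem exists_swap_GU (hφ : ∀ x, φ x = x ^ q) (hφ2 : ∀ x, φ (φ x) = x)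
    (hP : HPair φ U₁ U₂ k) :
    ∃ s : ↥(Cfsg.GU n F q), (∀ x ∈ U₁, act s x ∈ U₂) ∧ (∀ x ∈ U₂, act s x ∈ U₁) := by
  obtain ⟨b, f, hf, hbf⟩ := hP.exists_dual_bases hφ2
  obtain ⟨e, he⟩ : ∃ e : Fin k → (Fin n → F), ∀ i, e i = ((b i : U₁) : Fin n → F) :=
    ⟨fun i => ((b i : U₁) : Fin n → F), fun i => rfl⟩
  have heU : ∀ i, e i ∈ U₁ := fun i => by rw [he]; exact (b i).2
  have hfe : ∀ i j, Bs φ n (f j) (e i) = if i = j then 1 else 0 := fun i j => by
    rw [he]; exact hbf i j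
  have hef : ∀ i j, Bs φ n (e i) (f j) = if i = j then 1 else 0 := fun i j => by
    rw [← (Bs_symm φ hφ2 n).eq (f j) (e i), hfe]
    split_ifs <;> simp
  have hee : ∀ i j, Bs φ n (e i) (e j) = 0 := fun i j => hP.iso₁ _ (heU i) _ (heU j)
  have hff : ∀ i j, Bs φ n (f i) (f j) = 0 := fun i j => hP.iso₂ _ (hf i) _ (hf j)
  have hve : ∀ i j, j ≠ i → Bs φ n (e i - f i) (e j) = 0 := by
    intro i j hji
    rw [map_sub, LinearMap.sub_apply, hee, hfe, if_neg hji, sub_zero]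
  have hvf : ∀ i j, j ≠ i → Bs φ n (e i - f i) (f j) = 0 := by
    intro i j hji
    rw [map_sub, LinearMap.sub_apply, hff, hef, if_neg (Ne.symm hji), sub_zero]
  have hr : ∀ i, ∃ r : ↥(Cfsg.GU n F q), act r (e i) = f i ∧ act r (f i) = e i ∧
      ∀ x, Bs φ n (e i - f i) x = 0 → act r x = x := fun i =>
    exists_refl_swap hφ hφ2 (e i) (f i) (hee i i) (hff i i) (by rw [hfe, if_pos rfl])
  choose r hr1 hr2 hr3 using hr
  have main : ∀ k' : ℕ, k' ≤ k → ∃ s : ↥(Cfsg.GU n F q),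
      (∀ j : Fin k, j.val < k' → act s (e j) = f j ∧ act s (f j) = e j) ∧
      (∀ j : Fin k, k' ≤ j.val → act s (e j) = e j ∧ act s (f j) = f j) := by
    intro k'
    induction k' with
    | zero =>
      intro _
      exact ⟨1, fun j hj => absurd hj (Nat.not_lt_zero _), fun j _ => ⟨act_one _, act_one _⟩⟩
    | succ k' ih =>
      intro hk'
      obtain ⟨s, h3, h4⟩ := ih (by omega)
      obtain ⟨i, hi⟩ : ∃ i : Fin k, i.val = k' := ⟨⟨k', by omega⟩, rfl⟩
      refine ⟨r i * s, ?_, ?_⟩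
      · intro j hj
        rw [act_mul, act_mul]
        by_cases hji : j.val < k'
        · obtain ⟨a1, a2⟩ := h3 j hji
          have hne : j ≠ i := fun h => by rw [h, hi] at hji; exact lt_irrefl _ hji
          rw [a1, a2]
          exact ⟨hr3 i _ (hvf i j hne), hr3 i _ (hve i j hne)⟩
        · have hji' : j = i := Fin.ext (by omega)
          rw [hji']
          obtain ⟨a1, a2⟩ := h4 i (by omega)
          rw [a1, a2]
          exact ⟨hr1 i, hr2 i⟩
      · intro j hj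
        have hne : j ≠ i := fun h => by rw [h, hi] at hj; omega
        obtain ⟨a1, a2⟩ := h4 j (by omega)
        rw [act_mul, act_mul, a1, a2]
        exact ⟨hr3 i _ (hve i j hne), hr3 i _ (hvf i j hne)⟩
  obtain ⟨s, h3, -⟩ := main k le_rfl
  have hs : ∀ j : Fin k, act s (e j) = f j ∧ act s (f j) = e j := fun j => h3 j j.2
  have hrepr : ∀ x ∈ U₁, ∃ c : Fin k → F, x = ∑ j, c j • e j := by
    intro x hx
    refine ⟨fun j => b.repr ⟨x, hx⟩ j, ?_⟩
    have := congrArg (fun z : U₁ => (z : Fin n → F)) (b.sum_repr ⟨x, hx⟩)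
    simp only [Submodule.coe_sum, Submodule.coe_smul] at this
    exact this.symm.trans (Finset.sum_congr rfl (fun j _ => by rw [he]))
  have hact_sum : ∀ (c : Fin k → F) (v : Fin k → (Fin n → F)),
      act s (∑ j, c j • v j) = ∑ j, c j • act s (v j) := by
    intro c v
    unfold act
    rw [Matrix.mulVec_sum]
    apply Finset.sum_congr rfl
    intro j _
    rw [Matrix.mulVec_smul]
  have hs1 : ∀ x ∈ U₁, act s x ∈ U₂ := by
    intro x hx
    obtain ⟨c, rfl⟩ := hrepr x hx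
    rw [hact_sum]
    apply Submodule.sum_mem
    intro j _
    rw [(hs j).1]
    exact U₂.smul_mem _ (hf j)
  refine ⟨s, hs1, ?_⟩
  have hle : U₁ ≤ U₂.map (Matrix.toLin' s.1.1) := by
    intro x hx
    obtain ⟨c, rfl⟩ := hrepr x hx
    refine ⟨∑ j, c j • f j, Submodule.sum_mem _ (fun j _ => U₂.smul_mem _ (hf j)), ?_⟩
    rw [Matrix.toLin'_apply]
    show act s _ = _
    rw [hact_sum]
    apply Finset.sum_congr rfl
    intro j _
    rw [(hs j).2]
  have heq := Submodule.eq_of_le_of_finrank_eq hle (by rw [finrank_map_gl, hP.fr₁, hP.fr₂])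
  intro y hy
  rw [heq]
  exact ⟨y, hy, by rw [Matrix.toLin'_apply]; rfl⟩

variable {D : Fin 2 → Submodule F (Fin n → F)}

/-- some element of `SU` interchanges the two subspaces -/
theorem exists_swap (hF : Fintype.card F = q ^ 2) (hφ : ∀ x, φ x = x ^ q)
    (hφ2 : ∀ x, φ (φ x) = x) (hP : HPair φ (D 0) (D 1) k) (hk : 1 ≤ k) :
    ∃ s : GL (Fin n) F, s ∈ Cfsg.Geo.decompositionStabilizer D ⊓
        (Cfsg.GU n F q ⊓ Cfsg.Geo.specialLinear (Fin n) F) ∧
      (∀ x ∈ D 0, s.1 *ᵥ x ∈ D 1) ∧ (∀ x ∈ D 1, s.1 *ᵥ x ∈ D 0) := by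
  have hφne := Cfsg.Agent.S0837.phi_ne_id φ hF hφ
  obtain ⟨s₀, hs1, hs2⟩ := exists_swap_GU hφ hφ2 hP
  -- a hyperbolic pair adapted to the decomposition
  have hD0 : D 0 ≠ ⊥ := by
    intro h
    have := hP.fr₁
    rw [h, finrank_bot] at this
    omega
  obtain ⟨e, he, he0⟩ := Submodule.exists_mem_ne_zero_of_ne_bot hD0
  obtain ⟨f, hf, -, hfe⟩ := hP.exists_sep hφ2 ⊥ he (by rw [Submodule.mem_bot]; exact he0) 1
  have hef : Bs φ n e f = 1 := by
    rw [← (Bs_symm φ hφ2 n).eq f e, hfe, map_one]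
  have hH : Hyp φ e f := ⟨hP.iso₁ e he e he, hP.iso₂ f hf f hf, hef, hfe⟩
  obtain ⟨a, ha, hdet⟩ := exists_adjust φ hF hφ hφ2 hφne s₀ e f hH
  have hrot1 : ∀ x ∈ D 1, act (rotEl φ hφ hφ2 a ha e f hH) x ∈ D 1 := by
    intro x hx
    rw [rotEl_act, hP.iso₂ f hf x hx, zero_smul, smul_zero, add_zero]
    exact (D 1).add_mem hx ((D 1).smul_mem _ ((D 1).smul_mem _ hf))
  have hrot0 : ∀ x ∈ D 0, act (rotEl φ hφ hφ2 a ha e f hH) x ∈ D 0 := by
    intro x hx
    rw [rotEl_act, hP.iso₁ e he x hx, zero_smul, smul_zero, add_zero]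
    exact (D 0).add_mem hx ((D 0).smul_mem _ ((D 0).smul_mem _ he))
  have h1 : ∀ x ∈ D 0, (rotEl φ hφ hφ2 a ha e f hH * s₀).1.1 *ᵥ x ∈ D 1 := by
    intro x hx
    show act (rotEl φ hφ hφ2 a ha e f hH * s₀) x ∈ D 1
    rw [act_mul]
    exact hrot1 _ (hs1 x hx)
  have h2 : ∀ x ∈ D 1, (rotEl φ hφ hφ2 a ha e f hH * s₀).1.1 *ᵥ x ∈ D 0 := by
    intro x hx
    show act (rotEl φ hφ hφ2 a ha e f hH * s₀) x ∈ D 0
    rw [act_mul]
    exact hrot0 _ (hs2 x hx)
  refine ⟨(rotEl φ hφ hφ2 a ha e f hH * s₀).1, ⟨?_, (rotEl φ hφ hφ2 a ha e f hH * s₀).2, ?_⟩,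
    h1, h2⟩
  · exact mem_stab_of_swap2 (by rw [hP.fr₁, hP.fr₂]) _ h1 h2
  · exact (mem_specialLinear_iff _).2 hdet

end Cfsg.Agent.Lib.H11.SuPair
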