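import Cfsg.Agent.Lib.H11.SuPair7

/-!
The stabiliser in `SU_n(q)` of a pair of complementary totally isotropic subspaces is maximal.
-/

set_option autoImplicit false
set_option linter.unusedSimpArgs false
set_option linter.unusedSectionVars false
set_option linter.unusedVariables false

namespace Cfsg.Agent.Lib.H11.SuPair

open Matrix Module
open Cfsg.Agent.S0837 (Bs)

variable {F : Type*} [Field F] [Fintype F] {n q : ℕ} {φ : F →+* F}
variable {D : Fin 2 → Submodule F (Fin n → F)} {k : ℕ}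

theorem pair_maximal (hF : Fintype.card F = q ^ 2) (hφ : ∀ x, φ x = x ^ q)
    (hφ2 : ∀ x, φ (φ x) = x) (hn : 4 ≤ n) (hk : 5 ≤ k)
    (hD : Cfsg.Geo.IsMDecomposition k D)
    (hts : ∀ i, ∀ u ∈ D i, ∀ v ∈ D i, Bs φ n u v = 0) :
    Cfsg.Geo.IsMaximalIn (Cfsg.GU n F q ⊓ Cfsg.Geo.specialLinear (Fin n) F)
      (Cfsg.Geo.decompositionStabilizer D ⊓
        (Cfsg.GU n F q ⊓ Cfsg.Geo.specialLinear (Fin n) F)) := by
  have hP : HPair φ (D 0) (D 1) k := hpair_of_decomp hD hts
  obtain ⟨s, hsN, hs1, hs2⟩ := exists_swap hF hφ hφ2 hP (by omega)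
  exact pair_maximal_of_swap hF hφ hφ2 hP (by omega) (by omega) hk s hsN hs1 hs2

end Cfsg.Agent.Lib.H11.SuPair
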