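import Cfsg.Agent.Lib.H11.SuPar1

/-!
The stabiliser of a totally isotropic subspace is maximal in `SU_n(q)`.
-/

set_option autoImplicit false
set_option linter.unusedSimpArgs false
set_option linter.unusedSectionVars false
set_option linter.unusedVariables false

namespace Cfsg.Agent.Lib.H11.SuPar

open Matrix Module
open Cfsg.Agent.S0837 (Bs Bs_apply Bs_symm Bs_nondeg)
open Cfsg.Agent.S0782 (Bs_eq_herm gu_preserves exists_trace guOfEquiv guOfEquiv_mulVec
  exists_hyp_partner)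
open Cfsg.Agent.Lib.H11.UGen
open Cfsg.Agent.Lib.H11.USimple (rotEl rotEl_act rotEl_det exists_adjust guOfEquiv_act)
open Cfsg.Agent.Lib.H11.SuSp (tv tv_val tv_mulVec tv_mem_GU tv_mem_SL gl_inj)
open Cfsg.Agent.Lib.H11.SubspMax (gl_mul_mulVec gl_inv_mulVec gl_mulVec_inv gl_ext)
open Cfsg.Agent.Lib.H28 (mem_specialLinear_iff mem_subspaceStabilizer_iff
  mem_subspaceStabilizer_of_fix)

variable {F : Type*} [Field F] [Fintype F] {n q : ℕ} {φ : F →+* F}

theorem tv_mem_stab (hφ : ∀ x, φ x = x ^ q) (hφ2 : ∀ x, φ (φ x) = x)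
    (W : Submodule F (Fin n → F)) {v : Fin n → F} (hv : ∀ w ∈ W, Bs φ n w v = 0)
    (hvv : Bs φ n v v = 0) (c : F) (hc : c + φ c = 0) :
    tv φ hφ hφ2 v c hvv hc ∈ Cfsg.Geo.subspaceStabilizer W := by
  apply mem_subspaceStabilizer_of_fix
  intro w hw
  have h1 : Bs φ n v w = 0 := by
    rw [← (Bs_symm φ hφ2 n).eq w v, hv w hw, map_zero]
  rw [tv_mulVec, h1, mul_zero, zero_smul, add_zero]

/-- Witt: the stabiliser of a totally isotropic `W` in `SU` is transitive, up to scalars, on the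
isotropic vectors outside `W^⊥` -/
theorem exists_move (hF : Fintype.card F = q ^ 2) (hφ : ∀ x, φ x = x ^ q)
    (hφ2 : ∀ x, φ (φ x) = x) (W : Submodule F (Fin n → F))
    (hW : ∀ u ∈ W, ∀ v ∈ W, Bs φ n u v = 0) {x y : Fin n → F} (hxx : Bs φ n x x = 0)
    (hyy : Bs φ n y y = 0) (hx : ∃ w ∈ W, Bs φ n w x ≠ 0) (hy : ∃ w ∈ W, Bs φ n w y ≠ 0) :
    ∃ g : GL (Fin n) F, g ∈ Cfsg.Geo.subspaceStabilizer W ⊓
        (Cfsg.GU n F q ⊓ Cfsg.Geo.specialLinear (Fin n) F) ∧
      ∃ l : F, l ≠ 0 ∧ g.1 *ᵥ x = l • y := by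
  have hφne := Cfsg.Agent.S0837.phi_ne_id φ hF hφ
  have hS := Bs_symm φ hφ2 n
  -- the vector `d`
  obtain ⟨d, hdW, hd1, hd2⟩ : ∃ d ∈ W, Bs φ n d y = 1 ∧ Bs φ n d x ≠ 0 := by
    obtain ⟨d₀, hd₀W, hd₀⟩ := hy
    obtain ⟨e, heW, he⟩ := hx
    obtain ⟨d₁, hd₁⟩ : ∃ d₁, d₁ = φ (Bs φ n d₀ y)⁻¹ • d₀ := ⟨_, rfl⟩
    have hd₁W : d₁ ∈ W := by rw [hd₁]; exact W.smul_mem _ hd₀W
    have hd₁1 : Bs φ n d₁ y = 1 := by
      rw [hd₁, map_smulₛₗ, LinearMap.smul_apply, hφ2, smul_eq_mul, inv_mul_cancel₀ hd₀]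
    by_cases h1 : Bs φ n d₁ x ≠ 0
    · exact ⟨d₁, hd₁W, hd₁1, h1⟩
    · rw [not_not] at h1
      by_cases h3 : Bs φ n e y = 0
      · refine ⟨d₁ + e, W.add_mem hd₁W heW, ?_, ?_⟩
        · rw [map_add, LinearMap.add_apply, hd₁1, h3, add_zero]
        · rw [map_add, LinearMap.add_apply, h1, zero_add]; exact he
      · refine ⟨φ (Bs φ n e y)⁻¹ • e, W.smul_mem _ heW, ?_, ?_⟩
        · rw [map_smulₛₗ, LinearMap.smul_apply, hφ2, smul_eq_mul, inv_mul_cancel₀ h3]
        · rw [map_smulₛₗ, LinearMap.smul_apply, hφ2, smul_eq_mul]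
          exact mul_ne_zero (inv_ne_zero h3) he
  -- the map `A`
  let ν : (Fin n → F) →ₗ[F] F := Bs φ n x - Bs φ n y
  have hν : ∀ v, ν v = Bs φ n x v - Bs φ n y v := fun v => rfl
  let A : (Fin n → F) →ₗ[F] (Fin n → F) := LinearMap.id + ν.smulRight d
  have hA : ∀ v, A v = v + ν v • d := fun v => rfl
  have hAy : ∀ w, Bs φ n (A w) y = Bs φ n w x := by
    intro w
    rw [hA, map_add, LinearMap.add_apply, map_smulₛₗ, LinearMap.smul_apply, hd1, hν, map_sub,
      hS.eq x w, hS.eq y w, smul_eq_mul, mul_one]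
    ring
  have hAW : ∀ w ∈ W, A w ∈ W := by
    intro w hw
    rw [hA]; exact W.add_mem hw (W.smul_mem _ hdW)
  have hAinj : Function.Injective A := by
    rw [← LinearMap.ker_eq_bot, LinearMap.ker_eq_bot']
    intro v hv
    rw [hA] at hv
    have hv' : v = (-ν v) • d := by
      rw [neg_smul]; exact eq_neg_of_add_eq_zero_left hv
    have h1 : ν v = (-ν v) * ν d := by
      conv_lhs => rw [hv', map_smul, smul_eq_mul]
    have hyd : Bs φ n y d = 1 := by rw [← hS.eq d y, hd1, map_one]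
    have hxd : Bs φ n x d ≠ 0 := by
      rw [← hS.eq d x]; exact (map_ne_zero φ).2 hd2
    have hνd : ν d = Bs φ n x d - 1 := by rw [hν, hyd]
    have h3 : ν v * Bs φ n x d = 0 := by
      rw [hνd] at h1; linear_combination h1
    have h4 : ν v = 0 := (mul_eq_zero.1 h3).resolve_right hxd
    rw [hv', h4, neg_zero, zero_smul]
  have hxW : x ∉ W := by
    intro h
    obtain ⟨w, hw, hne⟩ := hx
    exact hne (hW w hw x h)
  have hyW : y ∉ W := by
    intro h
    obtain ⟨w, hw, hne⟩ := hy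
    exact hne (hW w hw y h)
  -- Witt
  let b := Module.finBasis F W
  have hli : LinearIndependent F (fun i => ((b i : W) : Fin n → F)) :=
    b.linearIndependent.map' W.subtype (Submodule.ker_subtype W)
  have hli' : LinearIndependent F (fun i => A ((b i : W) : Fin n → F)) :=
    hli.map' A (LinearMap.ker_eq_bot.2 hAinj)
  have hspan : Submodule.span F (Set.range (fun i => ((b i : W) : Fin n → F))) ≤ W := by
    rw [Submodule.span_le]
    rintro _ ⟨i, rfl⟩
    exact (b i).2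
  have hspan' : Submodule.span F (Set.range (fun i => A ((b i : W) : Fin n → F))) ≤ W := by
    rw [Submodule.span_le]
    rintro _ ⟨i, rfl⟩
    exact hAW _ (b i).2
  have hX : LinearIndependent F
      (Fin.cons x (fun i => ((b i : W) : Fin n → F)) : Fin (finrank F W + 1) → Fin n → F) :=
    linearIndependent_finCons.2 ⟨hli, fun h => hxW (hspan h)⟩
  have hY : LinearIndependent F
      (Fin.cons y (fun i => A ((b i : W) : Fin n → F)) : Fin (finrank F W + 1) → Fin n → F) :=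
    linearIndependent_finCons.2 ⟨hli', fun h => hyW (hspan' h)⟩
  obtain ⟨g, hgiso, hgb⟩ := Cfsg.Agent.S0751.witt_family (Bs φ n) hφne hφ2 hS (Bs_nondeg φ n) _
    _ _ hX hY (by
      intro i j
      refine Fin.cases ?_ (fun i' => ?_) i <;> refine Fin.cases ?_ (fun j' => ?_) j
      · simp only [Fin.cons_zero]; rw [hxx, hyy]
      · simp only [Fin.cons_zero, Fin.cons_succ]
        rw [← hS.eq (A (b j')) y, hAy, hS.eq]
      · simp only [Fin.cons_zero, Fin.cons_succ]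
        exact hAy _
      · simp only [Fin.cons_succ]
        rw [hW _ (hAW _ (b i').2) _ (hAW _ (b j').2), hW _ (b i').2 _ (b j').2])
  have hgx : g x = y := by simpa using hgb 0
  have hgW : ∀ w ∈ W, g w = A w := by
    intro w hw
    have h1 : (g : (Fin n → F) →ₗ[F] (Fin n → F)).comp W.subtype = A.comp W.subtype := by
      apply b.ext
      intro i
      have := hgb i.succ
      simpa using this
    exact congrArg (fun ψ : W →ₗ[F] (Fin n → F) => ψ ⟨w, hw⟩) h1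
  -- as an element of `GU`
  obtain ⟨gU, hgU⟩ : ∃ gU : ↥(Cfsg.GU n F q), gU = guOfEquiv φ hφ g hgiso := ⟨_, rfl⟩
  have hgUact : ∀ v, act gU v = g v := by
    intro v; rw [hgU]; exact guOfEquiv_act φ hφ g hgiso v
  -- the hyperbolic pair
  obtain ⟨w₁, hw₁W, hw₁⟩ := hy
  obtain ⟨f, hf⟩ : ∃ f, f = (Bs φ n w₁ y)⁻¹ • y := ⟨_, rfl⟩
  have hef : Bs φ n w₁ f = 1 := by
    rw [hf, map_smul, smul_eq_mul, inv_mul_cancel₀ hw₁]
  have hyp : Hyp φ w₁ f :=
    { ee := hW w₁ hw₁W w₁ hw₁W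
      ff := by
        rw [hf]
        simp only [map_smulₛₗ, map_smul, LinearMap.smul_apply, smul_eq_mul, hyy, mul_zero]
      ef := hef
      fe := by rw [← hS.eq w₁ f, hef, map_one] }
  obtain ⟨a, ha, hdet⟩ := exists_adjust φ hF hφ hφ2 hφne gU w₁ f hyp
  have hfy : Bs φ n f y = 0 := by
    rw [hf, map_smulₛₗ, LinearMap.smul_apply, hyy, smul_zero]
  refine ⟨(rotEl φ hφ hφ2 a ha w₁ f hyp * gU).1, ⟨?_, (rotEl φ hφ hφ2 a ha w₁ f hyp * gU).2, ?_⟩,
    (φ a)⁻¹, inv_ne_zero ((map_ne_zero φ).2 ha), ?_⟩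
  · apply mem_stab_of_le
    intro w hw
    show act (rotEl φ hφ hφ2 a ha w₁ f hyp * gU) w ∈ W
    rw [act_mul, hgUact, hgW w hw, rotEl_act, hW w₁ hw₁W _ (hAW w hw), zero_smul, smul_zero,
      add_zero]
    exact W.add_mem (hAW w hw) (W.smul_mem _ (W.smul_mem _ hw₁W))
  · show (rotEl φ hφ hφ2 a ha w₁ f hyp * gU).1 ∈ Cfsg.Geo.specialLinear (Fin n) F
    rw [mem_specialLinear_iff]; exact hdet
  · show act (rotEl φ hφ hφ2 a ha w₁ f hyp * gU) x = _
    rw [act_mul, hgUact, hgx, rotEl_act, hfy, zero_smul, smul_zero, add_zero, hf, smul_smul,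
      smul_smul, mul_assoc, mul_inv_cancel₀ hw₁, mul_one, sub_smul, one_smul]
    abel

end Cfsg.Agent.Lib.H11.SuPar
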