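import Cfsg.Agent.Lib.H11.SuPar2

/-!
The stabiliser of a totally isotropic subspace is maximal in `SU_n(q)`: final assembly.
-/

set_option autoImplicit false
set_option linter.unusedSimpArgs false
set_option linter.unusedSectionVars false
set_option linter.unusedVariables false

namespace Cfsg.Agent.Lib.H11.SuPar

open Matrix Module
open Cfsg.Agent.S0837 (Bs Bs_apply Bs_symm Bs_nondeg)
open Cfsg.Agent.S0782 (Bs_eq_herm gu_preserves exists_trace guOfEquiv guOfEquiv_mulVec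
  exists_hyp_partner)
open Cfsg.Agent.Lib.H11.UGen
open Cfsg.Agent.Lib.H11.SuSp (tv tv_val tv_mulVec tv_mem_GU tv_mem_SL gl_inj)
open Cfsg.Agent.Lib.H11.SubspMax (gl_mul_mulVec gl_inv_mulVec gl_mulVec_inv gl_ext)
open Cfsg.Agent.Lib.H28 (mem_specialLinear_iff mem_subspaceStabilizer_iff
  mem_subspaceStabilizer_of_fix)

variable {F : Type*} [Field F] [Fintype F] {n q : ℕ} {φ : F →+* F}

theorem su_ts_maximal (hF : Fintype.card F = q ^ 2) (hφ : ∀ x, φ x = x ^ q)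
    (hφ2 : ∀ x, φ (φ x) = x) (hn : 3 ≤ n) (h32 : ¬ (n = 3 ∧ q = 2))
    (W : Submodule F (Fin n → F)) (hW0 : W ≠ ⊥) (hW : ∀ u ∈ W, ∀ v ∈ W, Bs φ n u v = 0) :
    Cfsg.Geo.IsMaximalIn (Cfsg.GU n F q ⊓ Cfsg.Geo.specialLinear (Fin n) F)
      (Cfsg.Geo.subspaceStabilizer W ⊓
        (Cfsg.GU n F q ⊓ Cfsg.Geo.specialLinear (Fin n) F)) := by
  have hφne := Cfsg.Agent.S0837.phi_ne_id φ hF hφ
  have hS := Bs_symm φ hφ2 n
  obtain ⟨w₀, hw₀W, hw₀⟩ := (Submodule.ne_bot_iff W).1 hW0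
  refine ⟨lt_of_le_of_ne inf_le_right ?_, ?_⟩
  · intro heq
    obtain ⟨f, hff, hwf, hfw⟩ := exists_hyp_partner hφne hφ2 (Bs φ n) hS (Bs_nondeg φ n) w₀ hw₀
      (hW w₀ hw₀W w₀ hw₀W)
    obtain ⟨c, hc0, hc⟩ := exists_tz_ne hφne hφ2
    have hmem : tv φ hφ hφ2 f c hff hc ∈ Cfsg.Geo.subspaceStabilizer W ⊓
        (Cfsg.GU n F q ⊓ Cfsg.Geo.specialLinear (Fin n) F) := by
      rw [heq]; exact ⟨tv_mem_GU _ _ _ _ _ _, tv_mem_SL _ _ _ _ _ _⟩
    have h1 := ((mem_subspaceStabilizer_iff _ W).1 hmem.1 w₀).1 hw₀W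
    rw [tv_mulVec, hfw, mul_one] at h1
    have h3 : c • f ∈ W := (W.add_mem_iff_right hw₀W).1 h1
    have h4 : f ∈ W := by
      have := W.smul_mem c⁻¹ h3
      rwa [smul_smul, inv_mul_cancel₀ hc0, one_smul] at this
    have := hW w₀ hw₀W f h4
    rw [hwf] at this
    exact one_ne_zero this
  · intro H hMH hHG
    by_cases hne : H = Cfsg.Geo.subspaceStabilizer W ⊓
        (Cfsg.GU n F q ⊓ Cfsg.Geo.specialLinear (Fin n) F)
    · left; exact hne
    · right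
      have hHGU : H ≤ Cfsg.GU n F q := fun g hg => (hHG hg).1
      have hWp : ∀ v : Fin n → F, (∀ w ∈ W, Bs φ n w v = 0) → Bs φ n v v = 0 →
          v ∈ Cen hφ hφ2 H := by
        intro v hv hvv c hvv' hc
        exact hMH ⟨tv_mem_stab hφ hφ2 W hv hvv' c hc, tv_mem_GU _ _ _ _ _ _,
          tv_mem_SL _ _ _ _ _ _⟩
      -- an element of `H` moving `W`
      have h1 : ∃ h ∈ H, ∃ w ∈ W, h.1 *ᵥ w ∉ W := by
        by_contra hcon
        push Not at hcon
        apply hne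
        apply le_antisymm _ hMH
        intro h hh
        exact ⟨mem_stab_of_le (hcon h hh), hHG hh⟩
      obtain ⟨h, hh, w, hw, hyW⟩ := h1
      have hB : ∀ u v, Bs φ n (h.1 *ᵥ u) (h.1 *ᵥ v) = Bs φ n u v :=
        fun u v => gu_preserves φ hφ ⟨h, hHGU hh⟩ u v
      have hyC : h.1 *ᵥ w ∈ Cen hφ hφ2 H :=
        Cen_act hφ hφ2 hHGU (hWp w (fun w' hw' => hW w' hw' w hw) (hW w hw w hw)) hh
      have hyy : Bs φ n (h.1 *ᵥ w) (h.1 *ᵥ w) = 0 := by rw [hB]; exact hW w hw w hw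
      -- a centre outside `W^⊥`
      have hout : ∃ x ∈ Cen hφ hφ2 H, Bs φ n x x = 0 ∧ ∃ w' ∈ W, Bs φ n w' x ≠ 0 := by
        by_cases hyp : ∀ w' ∈ W, Bs φ n w' (h.1 *ᵥ w) = 0
        · obtain ⟨p, hpU, hpy⟩ := B_exists_perp_ne hφ2 W _ hyW
          obtain ⟨a, ha⟩ := exists_iso_add hφne hφ2 hyy hpy
          have hzW : ∀ w' ∈ W, Bs φ n w' (p + a • (h.1 *ᵥ w)) = 0 := by
            intro w' hw'
            rw [map_add, map_smul, hyp w' hw', smul_zero, add_zero, ← hS.eq p w', hpU w' hw',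
              map_zero]
          have hzC := hWp _ hzW ha
          have hxC := Cen_act hφ hφ2 hHGU hzC (H.inv_mem hh)
          refine ⟨_, hxC, ?_, w, hw, ?_⟩
          · rw [← hB, gl_mulVec_inv]; exact ha
          · rw [← hB, gl_mulVec_inv, map_add, map_smul, hyy, smul_zero, add_zero, ← hS.eq p _]
            exact (map_ne_zero φ).2 hpy
        · push Not at hyp
          exact ⟨_, hyC, hyy, hyp⟩
      obtain ⟨x, hxC, hxx, hx⟩ := hout
      apply eq_of_Cen_all hφ hφ2 hF hn h32 hHG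
      intro y hy
      by_cases hyp : ∀ w' ∈ W, Bs φ n w' y = 0
      · exact hWp y hyp hy
      · push Not at hyp
        obtain ⟨g, hg, l, hl, hgx⟩ := exists_move hF hφ hφ2 W hW hxx hy hx hyp
        have := Cen_act hφ hφ2 hHGU hxC (hMH hg)
        rw [hgx] at this
        exact Cen_of_smul hφ hφ2 hl this

end Cfsg.Agent.Lib.H11.SuPar
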