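import Cfsg.Agent.Lib.H28.GLBasic
import Cfsg.Agent.Lib.H2.SLGen

/-!
Maximality of the stabiliser of a subspace in `SL_n(F)`.
-/

set_option autoImplicit false
set_option linter.unusedSimpArgs false
set_option linter.unusedSectionVars false
set_option linter.unusedVariables false

namespace Cfsg.Agent.Lib.H11.SubspMax

open Matrix Module
open Cfsg.Agent.Lib.H28

variable {ι : Type} [Fintype ι] [DecidableEq ι] {F : Type*} [Field F]

theorem gl_ext {g h : GL ι F} (H : ∀ x, (g : Matrix ι ι F) *ᵥ x = (h : Matrix ι ι F) *ᵥ x) :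
    g = h := by
  apply Units.ext
  apply Matrix.mulVec_injective
  funext x
  exact H x

theorem gl_mul_mulVec (g h : GL ι F) (x : ι → F) :
    ((g * h : GL ι F) : Matrix ι ι F) *ᵥ x = (g : Matrix ι ι F) *ᵥ ((h : Matrix ι ι F) *ᵥ x) := by
  rw [Units.val_mul, Matrix.mulVec_mulVec]

theorem gl_inv_mulVec (g : GL ι F) (x : ι → F) :
    ((g⁻¹ : GL ι F) : Matrix ι ι F) *ᵥ ((g : Matrix ι ι F) *ᵥ x) = x := by
  rw [Matrix.mulVec_mulVec, ← Units.val_mul, inv_mul_cancel, Units.val_one, Matrix.one_mulVec]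

theorem gl_mulVec_inv (g : GL ι F) (x : ι → F) :
    (g : Matrix ι ι F) *ᵥ (((g⁻¹ : GL ι F) : Matrix ι ι F) *ᵥ x) = x := by
  rw [Matrix.mulVec_mulVec, ← Units.val_mul, mul_inv_cancel, Units.val_one, Matrix.one_mulVec]

/-- a subgroup containing all transvections contains the special linear group -/
theorem sl_le_of_tvGL [Nontrivial ι] (M : Subgroup (GL ι F))
    (hM : ∀ (f : Dual F (ι → F)) (v : ι → F) (h : f v = 0), tvGL f v h ∈ M) :
    Cfsg.Geo.specialLinear ι F ≤ M := by
  intro g hg
  rw [mem_specialLinear_iff] at hg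
  have key : ∀ A : SpecialLinearGroup ι F, SpecialLinearGroup.toGL A ∈ M := by
    intro A
    refine Cfsg.Agent.Lib.H2.SL_transvection_induction
      (fun A => SpecialLinearGroup.toGL A ∈ M) ?_ ?_ A
    · intro i j hij c
      have hfv : (c • (LinearMap.proj j : (ι → F) →ₗ[F] F)) (Pi.single i (1 : F)) = 0 := by
        simp [Pi.single_apply, hij]
      have : SpecialLinearGroup.toGL (SpecialLinearGroup.transvection hij c) =
          tvGL (c • (LinearMap.proj j : (ι → F) →ₗ[F] F)) (Pi.single i (1 : F)) hfv := by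
        apply gl_ext
        intro x
        rw [tvGL_mulVec]
        show (SpecialLinearGroup.transvection hij c).1 *ᵥ x = _
        rw [SpecialLinearGroup.transvection_coe, Matrix.add_mulVec, Matrix.one_mulVec]
        congr 1
        funext k
        simp [Matrix.mulVec, dotProduct, Matrix.single_apply, Pi.single_apply]
        by_cases hk : i = k
        · subst hk; simp
        · simp [hk, Ne.symm hk]
      rw [this]
      exact hM _ _ _
    · intro A B hA hB
      show SpecialLinearGroup.toGL (A * B) ∈ M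
      rw [map_mul]
      exact M.mul_mem hA hB
  have := key ⟨(g : Matrix ι ι F), hg⟩
  have h2 : SpecialLinearGroup.toGL (⟨(g : Matrix ι ι F), hg⟩ : SpecialLinearGroup ι F) = g := by
    apply Units.ext
    rfl
  rw [h2] at this
  exact this

/-- conjugating a transvection -/
theorem conj_tvGL (g : GL ι F) (f : Dual F (ι → F)) (v : ι → F)
    (h : f ((g : Matrix ι ι F) *ᵥ v) = 0) :
    ∃ (f' : Dual F (ι → F)) (h' : f' v = 0),
      tvGL f ((g : Matrix ι ι F) *ᵥ v) h = g * tvGL f' v h' * g⁻¹ := by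
  refine ⟨f.comp (Matrix.toLin' (g : Matrix ι ι F)), ?_, ?_⟩
  · show f (Matrix.toLin' (g : Matrix ι ι F) v) = 0
    rw [Matrix.toLin'_apply]; exact h
  · apply gl_ext
    intro x
    rw [gl_mul_mulVec, gl_mul_mulVec, tvGL_mulVec, tvGL_mulVec, Matrix.mulVec_add,
      Matrix.mulVec_smul, gl_mulVec_inv]
    congr 2
    show f x = f (Matrix.toLin' (g : Matrix ι ι F) _)
    rw [Matrix.toLin'_apply, gl_mulVec_inv]

theorem tvGL_mem_stab_of_mem (W : Submodule F (ι → F)) (f : Dual F (ι → F)) (v : ι → F)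
    (h : f v = 0) (hv : v ∈ W) : tvGL f v h ∈ Cfsg.Geo.subspaceStabilizer W := by
  rw [mem_subspaceStabilizer_iff]
  intro x
  rw [tvGL_mulVec]
  constructor
  · intro hx; exact W.add_mem hx (W.smul_mem _ hv)
  · intro hx
    have := W.sub_mem hx (W.smul_mem (f x) hv)
    rwa [add_sub_cancel_right] at this

theorem tvGL_mem_stab_of_ker (W : Submodule F (ι → F)) (f : Dual F (ι → F)) (v : ι → F)
    (h : f v = 0) (hf : ∀ w ∈ W, f w = 0) : tvGL f v h ∈ Cfsg.Geo.subspaceStabilizer W := by
  apply mem_subspaceStabilizer_of_fix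
  intro w hw
  rw [tvGL_mulVec, hf w hw, zero_smul, add_zero]

/-- the main step: a subgroup of `SL` properly containing the stabiliser of `W` contains every
transvection -/
theorem all_tvGL_mem (W : Submodule F (ι → F)) (M : Subgroup (GL ι F))
    (hPM : Cfsg.Geo.subspaceStabilizer W ⊓ Cfsg.Geo.specialLinear ι F ≤ M)
    (hMS : M ≤ Cfsg.Geo.specialLinear ι F)
    (hne : M ≠ Cfsg.Geo.subspaceStabilizer W ⊓ Cfsg.Geo.specialLinear ι F)
    (f : Dual F (ι → F)) (v : ι → F) (h : f v = 0) : tvGL f v h ∈ M := by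
  -- the set of centres
  let S : Set (ι → F) := {v | ∀ (f : Dual F (ι → F)) (h : f v = 0), tvGL f v h ∈ M}
  have hWS : ∀ w ∈ W, w ∈ S := by
    intro w hw f h
    exact hPM ⟨tvGL_mem_stab_of_mem W f w h hw, tvGL_mem_specialLinear f w h⟩
  have hinv : ∀ g ∈ M, ∀ v ∈ S, (g : Matrix ι ι F) *ᵥ v ∈ S := by
    intro g hg v hv f h
    obtain ⟨f', h', heq⟩ := conj_tvGL g f v h
    rw [heq]
    exact M.mul_mem (M.mul_mem hg (hv f' h')) (M.inv_mem hg)
  have hsmul : ∀ (c : F), ∀ v ∈ S, c • v ∈ S := by
    intro c v hv f h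
    by_cases hc : c = 0
    · subst hc
      have : tvGL f ((0 : F) • v) h = 1 := by
        apply gl_ext
        intro x
        rw [tvGL_mulVec, zero_smul, smul_zero, add_zero, Units.val_one, Matrix.one_mulVec]
      rw [this]; exact M.one_mem
    · have hfv : f v = 0 := by
        rw [map_smul, smul_eq_mul] at h
        exact (mul_eq_zero.1 h).resolve_left hc
      have hcf : (c • f) v = 0 := by
        rw [LinearMap.smul_apply, hfv, smul_zero]
      have : tvGL f (c • v) h = tvGL (c • f) v hcf := by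
        apply gl_ext
        intro x
        rw [tvGL_mulVec, tvGL_mulVec, LinearMap.smul_apply, smul_smul, smul_eq_mul, mul_comm]
      rw [this]
      exact hv _ _
  have hadd : ∀ u ∈ S, ∀ v ∈ S, u + v ∈ S := by
    intro u hu v hv
    by_cases hli : LinearIndependent F ![u, v]
    · -- a functional vanishing on `u` with value `1` on `v`
      have hvu : v ∉ (⊥ : Submodule F (ι → F)) ⊔ Submodule.span F {u} := by
        rw [bot_sup_eq, Submodule.mem_span_singleton]
        rintro ⟨c, hc⟩
        rw [LinearIndependent.pair_iff] at hli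
        have := hli c (-1) (by rw [hc]; simp)
        exact absurd this.2 (by norm_num)
      obtain ⟨φ, hφv, hker⟩ := Submodule.exists_le_ker_of_notMem hvu
      have hφu : φ u = 0 :=
        hker (Submodule.mem_sup_right (Submodule.mem_span_singleton_self u))
      have hφ'u : ((φ v)⁻¹ • φ) u = 0 := by
        rw [LinearMap.smul_apply, hφu, smul_zero]
      have hmem := hu ((φ v)⁻¹ • φ) hφ'u
      have := hinv _ hmem v hv
      rw [tvGL_mulVec, LinearMap.smul_apply, smul_eq_mul, inv_mul_cancel₀ hφv, one_smul,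
        add_comm] at this
      exact this
    · rw [LinearIndependent.pair_iff] at hli
      push Not at hli
      obtain ⟨s, t, hst, hne0⟩ := hli
      by_cases hs : s = 0
      · have ht : t ≠ 0 := hne0 hs
        rw [hs, zero_smul, zero_add] at hst
        have hv0 : v = 0 := (smul_eq_zero.1 hst).resolve_left ht
        rw [hv0, add_zero]; exact hu
      · have hu' : u = (-(s⁻¹ * t)) • v := by
          have : s • u = -(t • v) := eq_neg_of_add_eq_zero_left hst
          calc u = s⁻¹ • (s • u) := by rw [smul_smul, inv_mul_cancel₀ hs, one_smul]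
            _ = (-(s⁻¹ * t)) • v := by rw [this, smul_neg, smul_smul, neg_smul]
        have : u + v = (1 - s⁻¹ * t) • v := by
          rw [hu', sub_smul, one_smul, neg_smul]; abel
        rw [this]
        exact hsmul _ v hv
  have hneg : ∀ v ∈ S, -v ∈ S := by
    intro v hv
    have := hsmul (-1) v hv
    rwa [neg_one_smul] at this
  -- an element of `S` outside `W`
  obtain ⟨x, hxS, hxW⟩ : ∃ x, x ∈ S ∧ x ∉ W := by
    by_contra hcon
    push Not at hcon
    apply hne
    apply le_antisymm _ hPM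
    intro g hg
    refine ⟨?_, hMS hg⟩
    show g ∈ Cfsg.Geo.subspaceStabilizer W
    rw [mem_subspaceStabilizer_iff]
    intro w
    constructor
    · intro hw
      exact hcon _ (hinv g hg w (hWS w hw))
    · intro hw
      have := hinv g⁻¹ (M.inv_mem hg) _ (hWS _ hw)
      rw [gl_inv_mulVec] at this
      exact hcon _ this
  have hxW' : x ∉ W ⊔ Submodule.span F {(0 : ι → F)} := by
    rw [Submodule.span_zero_singleton, sup_bot_eq]; exact hxW
  obtain ⟨φ, hφx, hker⟩ := Submodule.exists_le_ker_of_notMem hxW'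
  have hφW : ∀ w ∈ W, φ w = 0 := fun w hw => hker (Submodule.mem_sup_left hw)
  have hkerS : ∀ u, φ u = 0 → u ∈ S := by
    intro u hu
    have hmem : tvGL φ u hu ∈ M :=
      hPM ⟨tvGL_mem_stab_of_ker W φ u hu hφW, tvGL_mem_specialLinear φ u hu⟩
    have h1 := hinv _ hmem ((φ x)⁻¹ • x) (hsmul _ x hxS)
    rw [tvGL_mulVec, map_smul, smul_eq_mul, inv_mul_cancel₀ hφx, one_smul] at h1
    have h3 := hadd _ h1 _ (hneg _ (hsmul (φ x)⁻¹ x hxS))
    have : (φ x)⁻¹ • x + u + -((φ x)⁻¹ • x) = u := by abel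
    rwa [this] at h3
  have hall : ∀ y : ι → F, y ∈ S := by
    intro y
    have h1 : φ (y - (φ y * (φ x)⁻¹) • x) = 0 := by
      rw [map_sub, map_smul, smul_eq_mul, mul_assoc, inv_mul_cancel₀ hφx, mul_one, sub_self]
    have := hadd _ (hkerS _ h1) _ (hsmul (φ y * (φ x)⁻¹) x hxS)
    rwa [sub_add_cancel] at this
  exact hall v f h

theorem sl_maximal [Nontrivial ι] (W : Submodule F (ι → F)) (hW0 : W ≠ ⊥) (hW1 : W ≠ ⊤) :
    Cfsg.Geo.IsMaximalIn (Cfsg.Geo.specialLinear ι F)
      (Cfsg.Geo.subspaceStabilizer W ⊓ Cfsg.Geo.specialLinear ι F) := by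
  refine ⟨stab_inf_sl_lt W hW0 hW1, ?_⟩
  intro M hPM hMS
  by_cases hne : M = Cfsg.Geo.subspaceStabilizer W ⊓ Cfsg.Geo.specialLinear ι F
  · left; exact hne
  · right
    apply le_antisymm hMS
    apply sl_le_of_tvGL
    intro f v h
    exact all_tvGL_mem W M hPM hMS hne f v h

end Cfsg.Agent.Lib.H11.SubspMax
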