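import Cfsg.Agent.Lib.H11.UnitaryGen6
import Cfsg.Agent.Lib.H11.SubspMax1
import Cfsg.Prelude.Def_GeometricClasses

/-!
`Sp_n(q)` inside `SU_n(q)`: field facts and the rational structure.
-/

set_option autoImplicit false
set_option linter.unusedSimpArgs false
set_option linter.unusedSectionVars false
set_option linter.unusedVariables false

namespace Cfsg.Agent.Lib.H11.SuSp

open Matrix
open Cfsg.Agent.S0837 (Bs Bs_apply Bs_symm Bs_nondeg)
open Cfsg.Agent.S0782 (Bs_eq_herm)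
open Cfsg.Agent.Lib.H11.UGen
open Cfsg.Agent.Lib.H11.SubspMax (gl_mul_mulVec gl_inv_mulVec gl_mulVec_inv gl_ext)

theorem gl_inj {ι : Type} [Fintype ι] [DecidableEq ι] {F : Type*} [Field F] (g : GL ι F)
    {x y : ι → F} (h : (g : Matrix ι ι F) *ᵥ x = (g : Matrix ι ι F) *ᵥ y) : x = y := by
  have := congrArg (fun z => ((g⁻¹ : GL ι F) : Matrix ι ι F) *ᵥ z) h
  simpa [gl_inv_mulVec] using this

section field
variable {F : Type*} [Field F] [Fintype F] {q : ℕ} (φ : F →+* F) (F₀ : Subfield F)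

theorem card_F₀ (hF : Fintype.card F = q ^ 2) (hcard : Fintype.card F = Nat.card F₀ ^ 2) :
    Nat.card F₀ = q := by
  have h : Nat.card F₀ ^ 2 = q ^ 2 := by rw [← hcard, hF]
  exact Nat.pow_left_injective (by norm_num : 2 ≠ 0) h

theorem two_le_q (hF : Fintype.card F = q ^ 2) : 2 ≤ q := by
  have h1 : 1 < Fintype.card F := Fintype.one_lt_card
  rw [hF] at h1
  by_contra h
  have : q = 0 ∨ q = 1 := by omega
  rcases this with rfl | rfl <;> simp at h1

theorem phi_eq_of_mem (hF : Fintype.card F = q ^ 2) (hcard : Fintype.card F = Nat.card F₀ ^ 2)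
    (hφ : ∀ x, φ x = x ^ q) {x : F} (hx : x ∈ F₀) : φ x = x := by
  classical
  have : Fintype F₀ := Fintype.ofFinite _
  have h1 : (⟨x, hx⟩ : F₀) ^ Fintype.card F₀ = ⟨x, hx⟩ := FiniteField.pow_card _
  have h2 : Fintype.card F₀ = q := by
    rw [← Nat.card_eq_fintype_card]; exact card_F₀ F₀ hF hcard
  rw [h2] at h1
  have := congrArg Subtype.val h1
  rw [hφ]
  simpa using this

theorem mem_of_phi_eq (hF : Fintype.card F = q ^ 2) (hcard : Fintype.card F = Nat.card F₀ ^ 2)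
    (hφ : ∀ x, φ x = x ^ q) {x : F} (hx : φ x = x) : x ∈ F₀ := by
  classical
  have hq := two_le_q hF
  have hne : (Polynomial.X ^ q - Polynomial.X : Polynomial F) ≠ 0 :=
    FiniteField.X_pow_card_sub_X_ne_zero F (by omega)
  have hdeg : (Polynomial.X ^ q - Polynomial.X : Polynomial F).natDegree = q :=
    FiniteField.X_pow_card_sub_X_natDegree_eq F (by omega)
  set R : Finset F := (Polynomial.X ^ q - Polynomial.X : Polynomial F).roots.toFinset with hR
  have hRcard : R.card ≤ q := by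
    calc R.card ≤ Multiset.card (Polynomial.X ^ q - Polynomial.X : Polynomial F).roots :=
          Multiset.toFinset_card_le _
      _ ≤ (Polynomial.X ^ q - Polynomial.X : Polynomial F).natDegree := Polynomial.card_roots' _
      _ = q := hdeg
  have hmemR : ∀ y : F, y ∈ R ↔ y ^ q = y := by
    intro y
    rw [hR, Multiset.mem_toFinset, Polynomial.mem_roots hne]
    simp [sub_eq_zero]
  set S : Finset F := Finset.univ.filter (fun y => y ∈ F₀) with hS
  have hScard : S.card = q := by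
    rw [← card_F₀ F₀ hF hcard, Nat.card_eq_fintype_card, hS, Fintype.card_subtype]
  have hSR : S ⊆ R := by
    intro y hy
    rw [hS, Finset.mem_filter] at hy
    rw [hmemR, ← hφ]
    exact phi_eq_of_mem φ F₀ hF hcard hφ hy.2
  have hEq : S = R := Finset.eq_of_subset_of_card_le hSR (by rw [hScard]; exact hRcard)
  have : x ∈ S := by
    rw [hEq, hmemR, ← hφ]; exact hx
  rw [hS, Finset.mem_filter] at this
  exact this.2

theorem mem_F₀_iff (hF : Fintype.card F = q ^ 2) (hcard : Fintype.card F = Nat.card F₀ ^ 2)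
    (hφ : ∀ x, φ x = x ^ q) (x : F) : x ∈ F₀ ↔ φ x = x :=
  ⟨phi_eq_of_mem φ F₀ hF hcard hφ, mem_of_phi_eq φ F₀ hF hcard hφ⟩

theorem exists_notMem (hF : Fintype.card F = q ^ 2) (hcard : Fintype.card F = Nat.card F₀ ^ 2) :
    ∃ θ : F, θ ∉ F₀ := by
  classical
  by_contra hcon
  push Not at hcon
  have h1 : Nat.card F₀ = Fintype.card F := by
    rw [← Nat.card_eq_fintype_card]
    exact Nat.card_congr ⟨fun x => x.1, fun x => ⟨x, hcon x⟩, fun x => rfl, fun x => rfl⟩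
  have hq := two_le_q hF
  rw [card_F₀ F₀ hF hcard, hF] at h1
  nlinarith

theorem decomp_unique {θ : F} (hθ : θ ∉ F₀) {a b : F} (ha : a ∈ F₀) (hb : b ∈ F₀)
    (h : a + θ * b = 0) : a = 0 ∧ b = 0 := by
  by_cases hb0 : b = 0
  · subst hb0
    rw [mul_zero, add_zero] at h
    exact ⟨h, rfl⟩
  · exfalso
    apply hθ
    have : θ = -a / b := by
      field_simp
      linear_combination h
    rw [this]
    exact F₀.div_mem (F₀.neg_mem ha) hb

theorem exists_decomp (hF : Fintype.card F = q ^ 2) (hcard : Fintype.card F = Nat.card F₀ ^ 2)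
    {θ : F} (hθ : θ ∉ F₀) (x : F) : ∃ a ∈ F₀, ∃ b ∈ F₀, x = a + θ * b := by
  classical
  have : Fintype F₀ := Fintype.ofFinite _
  let ψ : F₀ × F₀ → F := fun p => (p.1 : F) + θ * (p.2 : F)
  have hinj : Function.Injective ψ := by
    intro p p' hpp
    have h1 : ((p.1 : F) - p'.1) + θ * ((p.2 : F) - p'.2) = 0 := by
      have : (p.1 : F) + θ * (p.2 : F) = (p'.1 : F) + θ * (p'.2 : F) := hpp
      linear_combination this
    obtain ⟨h2, h3⟩ := decomp_unique F₀ hθ (F₀.sub_mem p.1.2 p'.1.2) (F₀.sub_mem p.2.2 p'.2.2) h1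
    exact Prod.ext (Subtype.ext (sub_eq_zero.1 h2)) (Subtype.ext (sub_eq_zero.1 h3))
  have hc : Fintype.card (F₀ × F₀) = Fintype.card F := by
    rw [Fintype.card_prod, ← Nat.card_eq_fintype_card (α := F₀), hcard, sq]
  have hbij : Function.Bijective ψ := (Fintype.bijective_iff_injective_and_card ψ).2 ⟨hinj, hc⟩
  obtain ⟨p, hp⟩ := hbij.2 x
  exact ⟨p.1, p.1.2, p.2, p.2.2, hp.symm⟩

end field

section rat
variable {F : Type*} [Field F] [Fintype F] {n : ℕ} (F₀ : Subfield F) (P : GL (Fin n) F)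

/-- the vectors in the `F₀`-span of the columns of `P` -/
def Rat (v : Fin n → F) : Prop := ∃ u : Fin n → F, (∀ i, u i ∈ F₀) ∧ v = P.1 *ᵥ u

variable {F₀ P}

theorem Rat.zero : Rat F₀ P 0 := ⟨0, fun i => F₀.zero_mem, by rw [Matrix.mulVec_zero]⟩

theorem Rat.add {u v : Fin n → F} (hu : Rat F₀ P u) (hv : Rat F₀ P v) : Rat F₀ P (u + v) := by
  obtain ⟨a, ha, rfl⟩ := hu
  obtain ⟨b, hb, rfl⟩ := hv
  exact ⟨a + b, fun i => F₀.add_mem (ha i) (hb i), by rw [Matrix.mulVec_add]⟩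

theorem Rat.neg {u : Fin n → F} (hu : Rat F₀ P u) : Rat F₀ P (-u) := by
  obtain ⟨a, ha, rfl⟩ := hu
  exact ⟨-a, fun i => F₀.neg_mem (ha i), by rw [Matrix.mulVec_neg]⟩

theorem Rat.sub {u v : Fin n → F} (hu : Rat F₀ P u) (hv : Rat F₀ P v) : Rat F₀ P (u - v) := by
  rw [sub_eq_add_neg]; exact hu.add hv.neg

theorem Rat.smul {u : Fin n → F} (hu : Rat F₀ P u) {a : F} (ha : a ∈ F₀) : Rat F₀ P (a • u) := by
  obtain ⟨b, hb, rfl⟩ := hu
  exact ⟨a • b, fun i => F₀.mul_mem ha (hb i), by rw [Matrix.mulVec_smul]⟩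

theorem rat_col (j : Fin n) : Rat F₀ P (P.1 *ᵥ Pi.single j 1) := by
  refine ⟨Pi.single j 1, fun i => ?_, rfl⟩
  by_cases h : i = j
  · subst h; rw [Pi.single_eq_same]; exact F₀.one_mem
  · rw [Pi.single_eq_of_ne h]; exact F₀.zero_mem

theorem rat_decomp_unique {θ : F} (hθ : θ ∉ F₀) {v₁ v₂ : Fin n → F} (h₁ : Rat F₀ P v₁)
    (h₂ : Rat F₀ P v₂) (h : v₁ + θ • v₂ = 0) : v₁ = 0 ∧ v₂ = 0 := by
  obtain ⟨a, ha, rfl⟩ := h₁
  obtain ⟨b, hb, rfl⟩ := h₂
  have h1 : P.1 *ᵥ (a + θ • b) = P.1 *ᵥ 0 := by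
    rw [Matrix.mulVec_add, Matrix.mulVec_smul, h, Matrix.mulVec_zero]
  have h2 : a + θ • b = 0 := gl_inj P h1
  have h3 : ∀ i, a i = 0 ∧ b i = 0 := by
    intro i
    have := congrFun h2 i
    exact decomp_unique F₀ hθ (ha i) (hb i) (by simpa using this)
  have ha0 : a = 0 := funext fun i => (h3 i).1
  have hb0 : b = 0 := funext fun i => (h3 i).2
  rw [ha0, hb0, Matrix.mulVec_zero]
  exact ⟨rfl, rfl⟩

theorem exists_rat_decomp {q : ℕ} (hF : Fintype.card F = q ^ 2)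
    (hcard : Fintype.card F = Nat.card F₀ ^ 2) {θ : F} (hθ : θ ∉ F₀) (v : Fin n → F) :
    ∃ v₁ v₂, Rat F₀ P v₁ ∧ Rat F₀ P v₂ ∧ v = v₁ + θ • v₂ := by
  have h := fun i => exists_decomp F₀ hF hcard hθ ((((P⁻¹ : GL (Fin n) F)).1 *ᵥ v) i)
  choose a ha b hb hab using h
  refine ⟨P.1 *ᵥ a, P.1 *ᵥ b, ⟨a, ha, rfl⟩, ⟨b, hb, rfl⟩, ?_⟩
  rw [← Matrix.mulVec_smul, ← Matrix.mulVec_add]
  have : a + θ • b = ((P⁻¹ : GL (Fin n) F)).1 *ᵥ v := by
    funext i
    rw [hab i]; rfl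
  rw [this, gl_mulVec_inv]

end rat

end Cfsg.Agent.Lib.H11.SuSp
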