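import Cfsg.Agent.Lib.H11.SuSp2

/-!
`Sp_n(q)` inside `SU_n(q)`: rational transvections are transitive on rational isotropic pairs.
-/

set_option autoImplicit false
set_option linter.unusedSimpArgs false
set_option linter.unusedSectionVars false
set_option linter.unusedVariables false

namespace Cfsg.Agent.Lib.H11.SuSp

open Matrix
open Cfsg.Agent.S0837 (Bs Bs_apply Bs_symm Bs_nondeg)
open Cfsg.Agent.S0782 (Bs_eq_herm gu_preserves)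
open Cfsg.Agent.Lib.H11.UGen
open Cfsg.Agent.Lib.H11.SubspMax (gl_mul_mulVec gl_inv_mulVec gl_mulVec_inv gl_ext)
open Cfsg.Agent.Lib.H28 (mem_specialLinear_iff)

variable {F : Type*} [Field F] [Fintype F] {n q : ℕ}

/-- the rational part of the subfield subgroup -/
def N₀ (n q : ℕ) (F₀ : Subfield F) (P : GL (Fin n) F) : Subgroup (GL (Fin n) F) :=
  ratGL F₀ P ⊓ (Cfsg.GU n F q ⊓ Cfsg.Geo.specialLinear (Fin n) F)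

namespace Setup
variable {φ : F →+* F} {F₀ : Subfield F} {ζ : F} {P : GL (Fin n) F}
variable (S : Setup φ n q F₀ ζ P)
include S

theorem N₀_rat {g : GL (Fin n) F} (hg : g ∈ N₀ n q F₀ P) {x : Fin n → F} (hx : Rat F₀ P x) :
    Rat F₀ P (g.1 *ᵥ x) := rat_of_mem_ratGL hg.1 hx

theorem N₀_B {g : GL (Fin n) F} (hg : g ∈ N₀ n q F₀ P) (u v : Fin n → F) :
    Bs φ n (g.1 *ᵥ u) (g.1 *ᵥ v) = Bs φ n u v :=
  gu_preserves φ S.hφ ⟨g, hg.2.1⟩ u v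

theorem rat_nondeg {x : Fin n → F} (hx0 : x ≠ 0) : ∃ z, Rat F₀ P z ∧ Bs φ n z x ≠ 0 := by
  obtain ⟨θ, hθ⟩ := exists_notMem F₀ S.hF S.hcard
  have h1 : ∃ w, Bs φ n w x ≠ 0 := by
    by_contra hcon
    push Not at hcon
    exact hx0 ((Bs_nondeg φ n).2 x hcon)
  obtain ⟨w, hw⟩ := h1
  obtain ⟨w₁, w₂, hw₁, hw₂, rfl⟩ := exists_rat_decomp (P := P) S.hF S.hcard hθ w
  by_cases h : Bs φ n w₁ x = 0
  · refine ⟨w₂, hw₂, ?_⟩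
    intro h2
    apply hw
    rw [map_add, LinearMap.add_apply, map_smulₛₗ, LinearMap.smul_apply, h, h2, smul_zero,
      add_zero]
  · exact ⟨w₁, hw₁, h⟩

theorem move1 {x y : Fin n → F} (hx : Rat F₀ P x) (hy : Rat F₀ P y) (hyx : Bs φ n y x ≠ 0) :
    ∃ g ∈ N₀ n q F₀ P, g.1 *ᵥ x = y ∧ ∀ z, Bs φ n (y - x) z = 0 → g.1 *ᵥ z = z := by
  refine ⟨tv φ S.hφ S.hφ2 (y - x) (Bs φ n y x)⁻¹ (S.B_self (hy.sub hx)) (S.inv_tz hy hx),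
    S.tv_mem_N₀ (hy.sub hx) (S.inv_tz hy hx), ?_, ?_⟩
  · rw [tv_mulVec]
    have : Bs φ n (y - x) x = Bs φ n y x := by
      rw [map_sub, LinearMap.sub_apply, S.B_self hx, sub_zero]
    rw [this, inv_mul_cancel₀ hyx, one_smul]
    abel
  · intro z hz
    rw [tv_mulVec, hz, mul_zero, zero_smul, add_zero]

omit S in
theorem exists_both (φ : F →+* F) {x y z₁ z₂ : Fin n → F} (h₁ : Bs φ n z₁ x ≠ 0)
    (h₂ : Bs φ n y z₂ ≠ 0) :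
    ∃ z, (z = z₁ ∨ z = z₂ ∨ z = z₁ + z₂) ∧ Bs φ n z x ≠ 0 ∧ Bs φ n y z ≠ 0 := by
  by_cases h3 : Bs φ n y z₁ = 0
  · by_cases h4 : Bs φ n z₂ x = 0
    · refine ⟨z₁ + z₂, Or.inr (Or.inr rfl), ?_, ?_⟩
      · rw [map_add, LinearMap.add_apply, h4, add_zero]; exact h₁
      · rw [map_add, h3, zero_add]; exact h₂
    · exact ⟨z₂, Or.inr (Or.inl rfl), h4, h₂⟩
  · exact ⟨z₁, Or.inl rfl, h₁, h3⟩

theorem move_vec {x y : Fin n → F} (hx : Rat F₀ P x) (hy : Rat F₀ P y) (hx0 : x ≠ 0)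
    (hy0 : y ≠ 0) : ∃ g ∈ N₀ n q F₀ P, g.1 *ᵥ x = y := by
  by_cases hyx : Bs φ n y x = 0
  · obtain ⟨z₁, hz₁, h1⟩ := S.rat_nondeg hx0
    obtain ⟨z₂, hz₂, h2⟩ := S.rat_nondeg hy0
    have h2' : Bs φ n y z₂ ≠ 0 := by
      rw [S.B_swap hz₂ hy]; exact neg_ne_zero.2 h2
    obtain ⟨z, hz, h3, h4⟩ := exists_both φ h1 h2'
    have hzr : Rat F₀ P z := by
      rcases hz with rfl | rfl | rfl
      · exact hz₁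
      · exact hz₂
      · exact hz₁.add hz₂
    obtain ⟨g₁, hg₁, e₁, -⟩ := S.move1 hx hzr h3
    obtain ⟨g₂, hg₂, e₂, -⟩ := S.move1 hzr hy h4
    exact ⟨g₂ * g₁, mul_mem hg₂ hg₁, by rw [gl_mul_mulVec, e₁, e₂]⟩
  · obtain ⟨g, hg, e, -⟩ := S.move1 hx hy hyx
    exact ⟨g, hg, e⟩

theorem exists_perp_ne {y₁ x : Fin n → F} (hy₁ : Rat F₀ P y₁) (hx : Rat F₀ P x) (hy₁0 : y₁ ≠ 0)
    (hind : ∀ a ∈ F₀, x ≠ a • y₁) : ∃ z, Rat F₀ P z ∧ Bs φ n y₁ z = 0 ∧ Bs φ n z x ≠ 0 := by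
  by_contra hcon
  push Not at hcon
  obtain ⟨z₀, hz₀, hz₀y⟩ := S.rat_nondeg hy₁0
  have hb₀ : Bs φ n y₁ z₀ ≠ 0 := by
    rw [S.B_swap hz₀ hy₁]; exact neg_ne_zero.2 hz₀y
  obtain ⟨t, ht⟩ : ∃ t, t = Bs φ n z₀ x / Bs φ n y₁ z₀ := ⟨_, rfl⟩
  have htm : t ∈ F₀ := by rw [ht]; exact S.B_div_mem hz₀ hx hy₁ hz₀
  have key : ∀ z, Rat F₀ P z → Bs φ n z (x + t • y₁) = 0 := by
    intro z hz
    obtain ⟨a, ha⟩ : ∃ a, a = Bs φ n y₁ z / Bs φ n y₁ z₀ := ⟨_, rfl⟩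
    have ham : a ∈ F₀ := by rw [ha]; exact S.B_div_mem hy₁ hz hy₁ hz₀
    have hz' : Rat F₀ P (z - a • z₀) := hz.sub (hz₀.smul ham)
    have h1 : Bs φ n y₁ (z - a • z₀) = 0 := by
      rw [map_sub, map_smul, smul_eq_mul, ha, div_mul_cancel₀ _ hb₀, sub_self]
    have h2 := hcon _ hz' h1
    rw [map_sub, LinearMap.sub_apply, S.B_smul_left ham] at h2
    have h3 : Bs φ n z y₁ = -Bs φ n y₁ z := S.B_swap hy₁ hz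
    have h4 : Bs φ n z x = a * Bs φ n z₀ x := by linear_combination h2
    rw [map_add, map_smul, smul_eq_mul, h3, h4, ha, ht]
    field_simp
    ring
  have hxt : Rat F₀ P (x + t • y₁) := hx.add (hy₁.smul htm)
  have h0 : x + t • y₁ = 0 := by
    by_contra hne
    obtain ⟨z, hz, hzne⟩ := S.rat_nondeg hne
    exact hzne (key z hz)
  apply hind (-t) (F₀.neg_mem htm)
  rw [neg_smul]
  exact eq_neg_of_add_eq_zero_left h0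

theorem move_vec_fix {y₁ x y : Fin n → F} (hy₁ : Rat F₀ P y₁) (hx : Rat F₀ P x)
    (hy : Rat F₀ P y) (hy₁0 : y₁ ≠ 0) (hxp : Bs φ n y₁ x = 0) (hyp : Bs φ n y₁ y = 0)
    (hindx : ∀ a ∈ F₀, x ≠ a • y₁) (hindy : ∀ a ∈ F₀, y ≠ a • y₁) :
    ∃ g ∈ N₀ n q F₀ P, g.1 *ᵥ y₁ = y₁ ∧ g.1 *ᵥ x = y := by
  have hperp : ∀ {u v : Fin n → F}, Rat F₀ P u → Rat F₀ P v → Bs φ n y₁ u = 0 →
      Bs φ n y₁ v = 0 → Bs φ n (v - u) y₁ = 0 := by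
    intro u v hu hv h1 h2
    rw [S.B_swap hy₁ (hv.sub hu), map_sub, h1, h2, sub_zero, neg_zero]
  by_cases hyx : Bs φ n y x = 0
  · obtain ⟨z₁, hz₁, hz₁p, h1⟩ := S.exists_perp_ne hy₁ hx hy₁0 hindx
    obtain ⟨z₂, hz₂, hz₂p, h2⟩ := S.exists_perp_ne hy₁ hy hy₁0 hindy
    have h2' : Bs φ n y z₂ ≠ 0 := by
      rw [S.B_swap hz₂ hy]; exact neg_ne_zero.2 h2
    obtain ⟨z, hz, h3, h4⟩ := exists_both φ h1 h2'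
    have hzr : Rat F₀ P z ∧ Bs φ n y₁ z = 0 := by
      rcases hz with rfl | rfl | rfl
      · exact ⟨hz₁, hz₁p⟩
      · exact ⟨hz₂, hz₂p⟩
      · exact ⟨hz₁.add hz₂, by rw [map_add, hz₁p, hz₂p, add_zero]⟩
    obtain ⟨g₁, hg₁, e₁, f₁⟩ := S.move1 hx hzr.1 h3
    obtain ⟨g₂, hg₂, e₂, f₂⟩ := S.move1 hzr.1 hy h4
    refine ⟨g₂ * g₁, mul_mem hg₂ hg₁, ?_, by rw [gl_mul_mulVec, e₁, e₂]⟩
    rw [gl_mul_mulVec, f₁ _ (hperp hx hzr.1 hxp hzr.2), f₂ _ (hperp hzr.1 hy hzr.2 hyp)]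
  · obtain ⟨g, hg, e, f⟩ := S.move1 hx hy hyx
    exact ⟨g, hg, f _ (hperp hx hy hxp hyp), e⟩

theorem move_pair {x₁ x₂ y₁ y₂ : Fin n → F} (hx₁ : Rat F₀ P x₁) (hx₂ : Rat F₀ P x₂)
    (hy₁ : Rat F₀ P y₁) (hy₂ : Rat F₀ P y₂) (hx₁0 : x₁ ≠ 0) (hy₁0 : y₁ ≠ 0)
    (hindx : ∀ a ∈ F₀, x₂ ≠ a • x₁) (hindy : ∀ a ∈ F₀, y₂ ≠ a • y₁)
    (hxp : Bs φ n x₁ x₂ = 0) (hyp : Bs φ n y₁ y₂ = 0) :
    ∃ g ∈ N₀ n q F₀ P, g.1 *ᵥ x₁ = y₁ ∧ g.1 *ᵥ x₂ = y₂ := by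
  obtain ⟨g₁, hg₁, e₁⟩ := S.move_vec hx₁ hy₁ hx₁0 hy₁0
  have h1 : Rat F₀ P (g₁.1 *ᵥ x₂) := S.N₀_rat hg₁ hx₂
  have h2 : Bs φ n y₁ (g₁.1 *ᵥ x₂) = 0 := by
    rw [← e₁, S.N₀_B hg₁]; exact hxp
  have h3 : ∀ a ∈ F₀, g₁.1 *ᵥ x₂ ≠ a • y₁ := by
    intro a ha h
    rw [← e₁, ← Matrix.mulVec_smul] at h
    exact hindx a ha (gl_inj g₁ h)
  obtain ⟨g₂, hg₂, e₂, e₃⟩ := S.move_vec_fix hy₁ h1 hy₂ hy₁0 h2 hyp h3 hindy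
  exact ⟨g₂ * g₁, mul_mem hg₂ hg₁, by rw [gl_mul_mulVec, e₁, e₂], by rw [gl_mul_mulVec, e₃]⟩

end Setup

end Cfsg.Agent.Lib.H11.SuSp
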