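import Cfsg.Agent.Lib.H11.SuSp3

/-!
`Sp_n(q)` inside `SU_n(q)`: the subfield subgroup and rational points.
-/

set_option autoImplicit false
set_option linter.unusedSimpArgs false
set_option linter.unusedSectionVars false
set_option linter.unusedVariables false

namespace Cfsg.Agent.Lib.H11.SuSp

open Matrix
open Cfsg.Agent.Lib.H11.SubspMax (gl_mul_mulVec gl_inv_mulVec gl_mulVec_inv gl_ext)

variable {F : Type*} [Field F] [Fintype F] {n : ℕ}

section pts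
variable (F₀ : Subfield F) (P : GL (Fin n) F)

/-- rational points -/
def RatPt (v : Fin n → F) : Prop := ∃ (l : F) (r : Fin n → F), Rat F₀ P r ∧ v = l • r

/-- the scalar matrix as an element of `GL` -/
noncomputable def sc (c : Fˣ) : GL (Fin n) F :=
  Units.map (Matrix.scalar (Fin n) : F →+* Matrix (Fin n) (Fin n) F).toMonoidHom c

theorem sc_mem (c : Fˣ) : (sc c : GL (Fin n) F) ∈ Cfsg.Geo.scalars (Fin n) F := ⟨c, rfl⟩

theorem sc_mulVec (c : Fˣ) (x : Fin n → F) : (sc c : GL (Fin n) F).1 *ᵥ x = (c : F) • x := by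
  show (Matrix.scalar (Fin n) (c : F)) *ᵥ x = _
  rw [Matrix.scalar_apply, ← Matrix.smul_one_eq_diagonal, Matrix.smul_mulVec, Matrix.one_mulVec]

variable {F₀ P}

theorem scalars_mulVec {s : GL (Fin n) F} (hs : s ∈ Cfsg.Geo.scalars (Fin n) F) :
    ∃ c : F, ∀ x, s.1 *ᵥ x = c • x := by
  obtain ⟨c, hc⟩ := (Cfsg.Geo.mem_scalars_iff s).1 hs
  exact ⟨c, fun x => by rw [hc, Matrix.smul_mulVec, Matrix.one_mulVec]⟩

theorem ratPt_of_mem_subfield {g : GL (Fin n) F} (hg : g ∈ Cfsg.Geo.subfieldSubgroup F₀ P)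
    {x : Fin n → F} (hx : Rat F₀ P x) : RatPt F₀ P (g.1 *ᵥ x) := by
  obtain ⟨k, hk, rfl⟩ := hg
  rw [SetLike.mem_coe, Subgroup.mem_sup_of_normal_right] at hk
  obtain ⟨A, hA, s, hs, rfl⟩ := hk
  obtain ⟨c, hc⟩ := scalars_mulVec hs
  have e : (MulAut.conj P).toMonoidHom (A * s) = (P * A * P⁻¹) * (P * s * P⁻¹) := by
    show P * (A * s) * P⁻¹ = _
    group
  have h1 : (P * s * P⁻¹ : GL (Fin n) F).1 *ᵥ x = c • x := by
    rw [gl_mul_mulVec, gl_mul_mulVec, hc, Matrix.mulVec_smul, gl_mulVec_inv]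
  have h2 : P * A * P⁻¹ ∈ ratGL F₀ P := ⟨A, hA, rfl⟩
  rw [e, gl_mul_mulVec, h1, Matrix.mulVec_smul]
  exact ⟨c, _, rat_of_mem_ratGL h2 hx, rfl⟩

theorem single_ne_zero' (j : Fin n) : P.1 *ᵥ (Pi.single j (1 : F)) ≠ 0 := by
  intro h
  have h1 : P.1 *ᵥ (Pi.single j (1 : F)) = P.1 *ᵥ 0 := by rw [h, Matrix.mulVec_zero]
  have h2 := congrFun (gl_inj P h1) j
  simp at h2

theorem mem_subfield_of_ratPt {q : ℕ} (hF : Fintype.card F = q ^ 2)
    (hcard : Fintype.card F = Nat.card F₀ ^ 2) (hn : 1 ≤ n) {g : GL (Fin n) F}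
    (hg : ∀ x, Rat F₀ P x → RatPt F₀ P (g.1 *ᵥ x)) : g ∈ Cfsg.Geo.subfieldSubgroup F₀ P := by
  obtain ⟨θ, hθ⟩ := exists_notMem F₀ hF hcard
  have h := fun j => hg _ (rat_col (F₀ := F₀) (P := P) j)
  choose l r hr hlr using h
  have hgne : ∀ j, g.1 *ᵥ (P.1 *ᵥ Pi.single j 1) ≠ 0 := by
    intro j h0
    have h1 : g.1 *ᵥ (P.1 *ᵥ Pi.single j 1) = g.1 *ᵥ 0 := by rw [h0, Matrix.mulVec_zero]
    exact single_ne_zero' (P := P) j (gl_inj g h1)
  have hl0 : ∀ j, l j ≠ 0 := by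
    intro j h0
    apply hgne j
    rw [hlr j, h0, zero_smul]
  have hr0 : ∀ j, r j ≠ 0 := by
    intro j h0
    apply hgne j
    rw [hlr j, h0, smul_zero]
  let i₀ : Fin n := ⟨0, by omega⟩
  have hratio : ∀ j, l j / l i₀ ∈ F₀ := by
    intro j
    by_cases hj : j = i₀
    · rw [hj, div_self (hl0 i₀)]; exact F₀.one_mem
    · obtain ⟨μ, r', hr', hμ⟩ := hg _ ((rat_col (F₀ := F₀) (P := P) i₀).add (rat_col j))
      rw [Matrix.mulVec_add, hlr i₀, hlr j] at hμ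
      obtain ⟨s₁, hs₁, s₂, hs₂, hs⟩ := exists_decomp F₀ hF hcard hθ (l j / l i₀)
      obtain ⟨m₁, hm₁, m₂, hm₂, hm⟩ := exists_decomp F₀ hF hcard hθ (μ / l i₀)
      have h1 : r i₀ + (l j / l i₀) • r j = (μ / l i₀) • r' := by
        have := congrArg (fun v => (l i₀)⁻¹ • v) hμ
        simp only [smul_add, smul_smul] at this
        rw [inv_mul_cancel₀ (hl0 i₀), one_smul] at this
        rw [div_eq_inv_mul, div_eq_inv_mul]
        rw [mul_comm (l i₀)⁻¹ (l j), mul_comm (l i₀)⁻¹ μ]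
        rw [mul_comm (l i₀)⁻¹ (l j), mul_comm (l i₀)⁻¹ μ] at this
        exact this
      rw [hs, hm] at h1
      have h2 : (r i₀ + s₁ • r j - m₁ • r') + θ • (s₂ • r j - m₂ • r') = 0 := by
        have : r i₀ + (s₁ + θ * s₂) • r j - (m₁ + θ * m₂) • r' = 0 := sub_eq_zero.2 h1
        rw [← this]
        module
      obtain ⟨h3, h4⟩ := rat_decomp_unique hθ
        (((hr i₀).add ((hr j).smul hs₁)).sub (hr'.smul hm₁))
        (((hr j).smul hs₂).sub (hr'.smul hm₂)) h2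
      by_cases hs₂0 : s₂ = 0
      · rw [hs, hs₂0, mul_zero, add_zero]; exact hs₁
      · exfalso
        -- `r j` and `r i₀` are multiples of `r'`
        have h5 : r j = (m₂ / s₂) • r' := by
          have : s₂ • r j = m₂ • r' := sub_eq_zero.1 h4
          rw [div_eq_inv_mul, ← smul_smul, ← this, smul_smul, inv_mul_cancel₀ hs₂0, one_smul]
        have h6 : r i₀ = (m₁ - s₁ * (m₂ / s₂)) • r' := by
          have : r i₀ + s₁ • r j = m₁ • r' := sub_eq_zero.1 h3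
          rw [sub_smul, ← this, h5, smul_smul]
          abel
        obtain ⟨α, hα⟩ : ∃ α, α = m₂ / s₂ := ⟨_, rfl⟩
        obtain ⟨β, hβ⟩ : ∃ β, β = m₁ - s₁ * (m₂ / s₂) := ⟨_, rfl⟩
        rw [← hα] at h5
        rw [← hβ] at h6
        have h7 : g.1 *ᵥ (P.1 *ᵥ ((l j * α) • Pi.single i₀ (1 : F) -
            (l i₀ * β) • Pi.single j (1 : F))) = g.1 *ᵥ 0 := by
          rw [Matrix.mulVec_sub, Matrix.mulVec_sub, Matrix.mulVec_smul, Matrix.mulVec_smul,
            Matrix.mulVec_smul, Matrix.mulVec_smul, hlr i₀, hlr j, h5, h6, Matrix.mulVec_zero]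
          module
        have h8 := gl_inj g h7
        have h9 : P.1 *ᵥ ((l j * α) • Pi.single i₀ (1 : F) - (l i₀ * β) • Pi.single j (1 : F)) =
            P.1 *ᵥ 0 := by rw [h8, Matrix.mulVec_zero]
        have h10 := congrFun (gl_inj P h9) i₀
        have hne : i₀ ≠ j := fun h => hj h.symm
        simp [Pi.single_apply, hne] at h10
        rcases h10 with h10 | h10
        · exact hl0 j h10
        · apply hr0 j
          rw [h5, h10, zero_smul]
  -- the rescaled element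
  obtain ⟨c, hc⟩ : ∃ c : Fˣ, (c : F) = l i₀ := ⟨Units.mk0 _ (hl0 i₀), rfl⟩
  have hg' : (sc c)⁻¹ * g ∈ ratGL F₀ P := by
    apply mem_ratGL_of_rat
    intro j
    rw [gl_mul_mulVec, hlr j]
    have : ((sc c : GL (Fin n) F)⁻¹).1 *ᵥ (l j • r j) = (l j / l i₀) • r j := by
      have h1 : l j • r j = (sc c : GL (Fin n) F).1 *ᵥ ((l j / l i₀) • r j) := by
        rw [sc_mulVec, hc, smul_smul, mul_div_cancel₀ _ (hl0 i₀)]
      rw [h1, gl_inv_mulVec]
    rw [this]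
    exact (hr j).smul (hratio j)
  obtain ⟨k, hk, hkg⟩ := hg'
  refine ⟨k * sc c, Subgroup.mul_mem_sup hk (sc_mem c), ?_⟩
  have h1 : (MulAut.conj P).toMonoidHom (k * sc c) =
      (MulAut.conj P).toMonoidHom k * (P * sc c * P⁻¹) := by
    show P * (k * sc c) * P⁻¹ = (P * k * P⁻¹) * (P * sc c * P⁻¹)
    group
  have h2 : P * sc c * P⁻¹ = (sc c : GL (Fin n) F) := by
    apply gl_ext
    intro x
    rw [gl_mul_mulVec, gl_mul_mulVec, sc_mulVec, sc_mulVec, Matrix.mulVec_smul, gl_mulVec_inv]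
  rw [h1, hkg, h2]
  apply gl_ext
  intro x
  rw [gl_mul_mulVec, gl_mul_mulVec, sc_mulVec, Matrix.mulVec_smul, ← sc_mulVec, gl_inv_mulVec]

end pts

end Cfsg.Agent.Lib.H11.SuSp
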