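import Cfsg.Agent.Lib.H11.SuSp4

/-!
`Sp_n(q)` inside `SU_n(q)`: maximality.
-/

set_option autoImplicit false
set_option linter.unusedSimpArgs false
set_option linter.unusedSectionVars false
set_option linter.unusedVariables false

namespace Cfsg.Agent.Lib.H11.SuSp

open Matrix
open Cfsg.Agent.S0837 (Bs Bs_apply Bs_symm Bs_nondeg)
open Cfsg.Agent.S0782 (Bs_eq_herm gu_preserves)
open Cfsg.Agent.Lib.H11.UGen
open Cfsg.Agent.Lib.H11.SubspMax (gl_mul_mulVec gl_inv_mulVec gl_mulVec_inv gl_ext)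
open Cfsg.Agent.Lib.H28 (mem_specialLinear_iff)

variable {F : Type*} [Field F] [Fintype F] {n q : ℕ}

namespace Setup
variable {φ : F →+* F} {F₀ : Subfield F} {ζ : F} {P : GL (Fin n) F}
variable (S : Setup φ n q F₀ ζ P)
include S

theorem theta_sub_ne {θ : F} (hθ : θ ∉ F₀) : θ - φ θ ≠ 0 := by
  intro h
  apply hθ
  apply S.mem_of_fix
  exact (sub_eq_zero.1 h).symm

theorem B_theta {x₁ x₂ : Fin n → F} (hx₁ : Rat F₀ P x₁) (hx₂ : Rat F₀ P x₂) (θ : F) :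
    Bs φ n (x₁ + θ • x₂) (x₁ + θ • x₂) = (θ - φ θ) * Bs φ n x₁ x₂ := by
  simp only [map_add, map_smulₛₗ, map_smul, LinearMap.add_apply, LinearMap.smul_apply,
    smul_eq_mul, S.B_self hx₁, S.B_self hx₂, S.B_swap hx₁ hx₂, RingHom.id_apply]
  ring

theorem pair_of_iso {θ : F} (hθ : θ ∉ F₀) {x₁ x₂ : Fin n → F} (hx₁ : Rat F₀ P x₁)
    (hx₂ : Rat F₀ P x₂) (h : Bs φ n (x₁ + θ • x₂) (x₁ + θ • x₂) = 0) : Bs φ n x₁ x₂ = 0 := by
  rw [S.B_theta hx₁ hx₂] at h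
  exact (mul_eq_zero.1 h).resolve_left (S.theta_sub_ne hθ)

omit S in
theorem ratPt_or_indep (θ : F) {x₁ x₂ : Fin n → F} (hx₁ : Rat F₀ P x₁) (hx₂ : Rat F₀ P x₂) :
    RatPt F₀ P (x₁ + θ • x₂) ∨ (x₁ ≠ 0 ∧ ∀ a ∈ F₀, x₂ ≠ a • x₁) := by
  by_cases h1 : x₁ = 0
  · left
    exact ⟨θ, x₂, hx₂, by rw [h1, zero_add]⟩
  · by_cases h2 : ∃ a ∈ F₀, x₂ = a • x₁
    · left
      obtain ⟨a, ha, rfl⟩ := h2
      exact ⟨1 + θ * a, x₁, hx₁, by rw [add_smul, one_smul, smul_smul]⟩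
    · right
      push Not at h2
      exact ⟨h1, h2⟩

theorem not_ratPt {θ : F} (hθ : θ ∉ F₀) {x₁ x₂ : Fin n → F} (hx₁ : Rat F₀ P x₁)
    (hx₂ : Rat F₀ P x₂) (hx₁0 : x₁ ≠ 0) (hind : ∀ a ∈ F₀, x₂ ≠ a • x₁) :
    ¬ RatPt F₀ P (x₁ + θ • x₂) := by
  rintro ⟨l, r, hr, hlr⟩
  obtain ⟨l₁, hl₁, l₂, hl₂, rfl⟩ := exists_decomp F₀ S.hF S.hcard hθ l
  have h1 : (x₁ - l₁ • r) + θ • (x₂ - l₂ • r) = 0 := by
    have : x₁ + θ • x₂ - (l₁ + θ * l₂) • r = 0 := sub_eq_zero.2 hlr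
    rw [← this]
    module
  obtain ⟨h2, h3⟩ := rat_decomp_unique hθ (hx₁.sub (hr.smul hl₁)) (hx₂.sub (hr.smul hl₂)) h1
  have h2' : x₁ = l₁ • r := sub_eq_zero.1 h2
  have h3' : x₂ = l₂ • r := sub_eq_zero.1 h3
  have hl₁0 : l₁ ≠ 0 := by
    rintro rfl
    rw [zero_smul] at h2'
    exact hx₁0 h2'
  apply hind (l₂ / l₁) (F₀.div_mem hl₂ hl₁)
  rw [h3', h2', smul_smul, div_mul_cancel₀ _ hl₁0]

omit S in
theorem tz_of_mem_GU (hφ : ∀ x, φ x = x ^ q) (hφ2 : ∀ x, φ (φ x) = x) {t : GL (Fin n) F}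
    (ht : t ∈ Cfsg.GU n F q) {v : Fin n → F} {c : F} (htv : t.1 = Um φ v c)
    (hv : Bs φ n v v = 0) (hv0 : v ≠ 0) : c + φ c = 0 := by
  have h1 : ∃ x, Bs φ n v x ≠ 0 := by
    by_contra hcon
    push Not at hcon
    exact hv0 ((Bs_nondeg φ n).1 v hcon)
  obtain ⟨x, hx⟩ := h1
  have h2 := gu_preserves φ hφ ⟨t, ht⟩ x x
  simp only [htv, Um_mulVec] at h2
  have h3 : φ (Bs φ n v x) = Bs φ n x v := (Bs_symm φ hφ2 n).eq v x
  simp only [map_add, map_smulₛₗ, map_smul, LinearMap.add_apply, LinearMap.smul_apply,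
    smul_eq_mul, hv, map_mul, h3] at h2
  have h4 : (c + φ c) * (Bs φ n v x * Bs φ n x v) = 0 := by linear_combination h2
  have h5 : Bs φ n x v ≠ 0 := by
    rw [← h3]; exact (map_ne_zero φ).2 hx
  exact (mul_eq_zero.1 h4).resolve_right (mul_ne_zero hx h5)

/-- the centres of the transvections of `H` -/
def Cset (H : Subgroup (GL (Fin n) F)) : Set (Fin n → F) :=
  {v | ∀ (c : F) (hv : Bs φ n v v = 0) (hc : c + φ c = 0), tv φ S.hφ S.hφ2 v c hv hc ∈ H}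

theorem Cset_rat {H : Subgroup (GL (Fin n) F)}
    (hNH : Cfsg.Geo.subfieldSubgroup F₀ P ⊓
      (Cfsg.GU n F q ⊓ Cfsg.Geo.specialLinear (Fin n) F) ≤ H) {v : Fin n → F}
    (hv : Rat F₀ P v) : v ∈ S.Cset H := by
  intro c hv' hc
  have := S.tv_mem_N₀ hv hc
  exact hNH ⟨ratGL_le F₀ P this.1, this.2⟩

theorem Cset_smul {H : Subgroup (GL (Fin n) F)} {v : Fin n → F} (hv : v ∈ S.Cset H) (l : F) :
    l • v ∈ S.Cset H := by
  intro c hv' hc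
  by_cases hl : l = 0
  · have : tv φ S.hφ S.hφ2 (l • v) c hv' hc = 1 := by
      apply gl_ext
      intro x
      rw [tv_mulVec, hl, zero_smul, smul_zero, add_zero, Units.val_one, Matrix.one_mulVec]
    rw [this]; exact H.one_mem
  · have hvv : Bs φ n v v = 0 := by
      have h1 : Bs φ n (l • v) (l • v) = φ l * l * Bs φ n v v := by
        simp only [map_smulₛₗ, map_smul, LinearMap.smul_apply, smul_eq_mul, RingHom.id_apply]
        ring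
      rw [h1] at hv'
      have h2 : φ l * l ≠ 0 := mul_ne_zero ((map_ne_zero φ).2 hl) hl
      exact (mul_eq_zero.1 hv').resolve_left h2
    have hc' : c * l * φ l + φ (c * l * φ l) = 0 := by
      rw [map_mul, map_mul, S.hφ2]
      linear_combination (l * φ l) * hc
    have : tv φ S.hφ S.hφ2 (l • v) c hv' hc = tv φ S.hφ S.hφ2 v (c * l * φ l) hvv hc' := by
      apply gl_ext
      intro x
      rw [tv_mulVec, tv_mulVec]
      simp only [map_smulₛₗ, LinearMap.smul_apply, smul_eq_mul, smul_smul]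
      congr 2
      ring
    rw [this]
    exact hv _ hvv hc'

theorem Cset_act {H : Subgroup (GL (Fin n) F)} (hHG : H ≤ Cfsg.GU n F q) {v : Fin n → F}
    (hv : v ∈ S.Cset H) {h : GL (Fin n) F} (hh : h ∈ H) : h.1 *ᵥ v ∈ S.Cset H := by
  intro c hv' hc
  have hB : ∀ u w, Bs φ n (h.1 *ᵥ u) (h.1 *ᵥ w) = Bs φ n u w :=
    fun u w => gu_preserves φ S.hφ ⟨h, hHG hh⟩ u w
  have hvv : Bs φ n v v = 0 := by rw [← hB]; exact hv'
  have : tv φ S.hφ S.hφ2 (h.1 *ᵥ v) c hv' hc = h * tv φ S.hφ S.hφ2 v c hvv hc * h⁻¹ := by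
    apply gl_ext
    intro x
    rw [gl_mul_mulVec, gl_mul_mulVec, tv_mulVec, tv_mulVec, Matrix.mulVec_add,
      Matrix.mulVec_smul, gl_mulVec_inv]
    congr 3
    rw [← hB v ((h⁻¹ : GL (Fin n) F).1 *ᵥ x), gl_mulVec_inv]
  rw [this]
  exact H.mul_mem (H.mul_mem hh (hv c hvv hc)) (H.inv_mem hh)

end Setup

end Cfsg.Agent.Lib.H11.SuSp
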