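import Cfsg.Agent.Lib.H11.SuSp5

/-!
`Sp_n(q)` inside `SU_n(q)`: maximality, final assembly.
-/

set_option autoImplicit false
set_option linter.unusedSimpArgs false
set_option linter.unusedSectionVars false
set_option linter.unusedVariables false

namespace Cfsg.Agent.Lib.H11.SuSp

open Matrix
open Cfsg.Agent.S0837 (Bs Bs_apply Bs_symm Bs_nondeg)
open Cfsg.Agent.S0782 (Bs_eq_herm gu_preserves)
open Cfsg.Agent.Lib.H11.UGen
open Cfsg.Agent.Lib.H11.SubspMax (gl_mul_mulVec gl_inv_mulVec gl_mulVec_inv gl_ext)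
open Cfsg.Agent.Lib.H28 (mem_specialLinear_iff)

variable {F : Type*} [Field F] [Fintype F] {n q : ℕ}

namespace Setup
variable {φ : F →+* F} {F₀ : Subfield F} {ζ : F} {P : GL (Fin n) F}
variable (S : Setup φ n q F₀ ζ P)
include S

theorem exists_pair (hn : 3 ≤ n) : ∃ x₁ x₂, Rat F₀ P x₁ ∧ Rat F₀ P x₂ ∧ x₁ ≠ 0 ∧
    (∀ a ∈ F₀, x₂ ≠ a • x₁) ∧ Bs φ n x₁ x₂ = 0 := by
  obtain ⟨i0, hi0⟩ : ∃ i : Fin n, i = ⟨0, by omega⟩ := ⟨_, rfl⟩
  obtain ⟨i1, hi1⟩ : ∃ i : Fin n, i = ⟨1, by omega⟩ := ⟨_, rfl⟩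
  obtain ⟨i2, hi2⟩ : ∃ i : Fin n, i = ⟨2, by omega⟩ := ⟨_, rfl⟩
  have h01 : i0 ≠ i1 := by rw [hi0, hi1]; simp [Fin.ext_iff]
  have h02 : i0 ≠ i2 := by rw [hi0, hi2]; simp [Fin.ext_iff]
  have h12 : i1 ≠ i2 := by rw [hi1, hi2]; simp [Fin.ext_iff]
  have hP0 : ∀ u : Fin n → F, P.1 *ᵥ u = 0 → u = 0 := by
    intro u hu
    apply gl_inj P
    rw [hu, Matrix.mulVec_zero]
  refine ⟨P.1 *ᵥ Pi.single i0 1, ?_⟩
  by_cases h : Bs φ n (P.1 *ᵥ Pi.single i0 1) (P.1 *ᵥ Pi.single i1 1) = 0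
  · refine ⟨P.1 *ᵥ Pi.single i1 1, rat_col i0, rat_col i1, single_ne_zero' i0, ?_, h⟩
    intro a _ ha
    have h1 : P.1 *ᵥ (Pi.single i1 1 - a • Pi.single i0 1) = 0 := by
      rw [Matrix.mulVec_sub, Matrix.mulVec_smul, ha, sub_self]
    have h2 := congrFun (hP0 _ h1) i1
    simp [Pi.single_apply, h01.symm, h01] at h2
  · obtain ⟨t, ht⟩ : ∃ t, t = Bs φ n (P.1 *ᵥ Pi.single i0 1) (P.1 *ᵥ Pi.single i2 1) /
        Bs φ n (P.1 *ᵥ Pi.single i0 1) (P.1 *ᵥ Pi.single i1 1) := ⟨_, rfl⟩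
    have htm : t ∈ F₀ := by
      rw [ht]; exact S.B_div_mem (rat_col i0) (rat_col i2) (rat_col i0) (rat_col i1)
    refine ⟨P.1 *ᵥ Pi.single i2 1 - t • P.1 *ᵥ Pi.single i1 1, rat_col i0,
      (rat_col i2).sub ((rat_col i1).smul htm), single_ne_zero' i0, ?_, ?_⟩
    · intro a _ ha
      have h1 : P.1 *ᵥ (Pi.single i2 1 - t • Pi.single i1 1 - a • Pi.single i0 1) = 0 := by
        rw [Matrix.mulVec_sub, Matrix.mulVec_sub, Matrix.mulVec_smul, Matrix.mulVec_smul, ha,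
          sub_self]
      have h2 := congrFun (hP0 _ h1) i2
      simp [Pi.single_apply, h02.symm, h02, h12, h12.symm] at h2
    · rw [map_sub, map_smul, smul_eq_mul, ht, div_mul_cancel₀ _ h, sub_self]

theorem exists_notMem_subfield (hn : 3 ≤ n) :
    ∃ g ∈ Cfsg.GU n F q ⊓ Cfsg.Geo.specialLinear (Fin n) F,
      g ∉ Cfsg.Geo.subfieldSubgroup F₀ P := by
  obtain ⟨θ, hθ⟩ := exists_notMem F₀ S.hF S.hcard
  obtain ⟨x₁, x₂, hx₁, hx₂, hx₁0, hind, hx₁₂⟩ := S.exists_pair hn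
  obtain ⟨x₀, hx₀⟩ : ∃ x₀, x₀ = x₁ + θ • x₂ := ⟨_, rfl⟩
  have hx₀x₀ : Bs φ n x₀ x₀ = 0 := by
    rw [hx₀, S.B_theta hx₁ hx₂, hx₁₂, mul_zero]
  have hnot : ¬ RatPt F₀ P x₀ := by
    rw [hx₀]; exact S.not_ratPt hθ hx₁ hx₂ hx₁0 hind
  have hx₀0 : x₀ ≠ 0 := by
    intro h
    apply hnot
    exact ⟨0, 0, Rat.zero, by rw [h, smul_zero]⟩
  refine ⟨tv φ S.hφ S.hφ2 x₀ ζ hx₀x₀ S.hζ, ⟨tv_mem_GU _ _ _ _ _ _, tv_mem_SL _ _ _ _ _ _⟩, ?_⟩
  intro hmem
  obtain ⟨z, hz, hzx⟩ := S.rat_nondeg hx₀0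
  have hxz : Bs φ n x₀ z ≠ 0 := by
    rw [← S.B_symm]; exact (map_ne_zero φ).2 hzx
  obtain ⟨l, r, hr, hlr⟩ := ratPt_of_mem_subfield hmem hz
  rw [tv_mulVec] at hlr
  obtain ⟨a, ha⟩ : ∃ a, a = ζ * Bs φ n x₀ z := ⟨_, rfl⟩
  rw [← ha] at hlr
  have ha0 : a ≠ 0 := by rw [ha]; exact mul_ne_zero S.hζ0 hxz
  have hx₁x₀ : Bs φ n x₁ x₀ = 0 := by
    rw [hx₀, map_add, map_smul, S.B_self hx₁, hx₁₂, smul_zero, add_zero]
  have hx₂x₀ : Bs φ n x₂ x₀ = 0 := by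
    rw [hx₀, map_add, map_smul, S.B_self hx₂, S.B_swap hx₁ hx₂, hx₁₂, neg_zero, smul_zero,
      add_zero]
  have h1 : Bs φ n x₁ z = l * Bs φ n x₁ r := by
    have := congrArg (fun v => Bs φ n x₁ v) hlr
    simp only [map_add, map_smul, smul_eq_mul, hx₁x₀, mul_zero, add_zero] at this
    exact this
  have h2 : Bs φ n x₂ z = l * Bs φ n x₂ r := by
    have := congrArg (fun v => Bs φ n x₂ v) hlr
    simp only [map_add, map_smul, smul_eq_mul, hx₂x₀, mul_zero, add_zero] at this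
    exact this
  have hlm : l ∈ F₀ := by
    by_cases h3 : Bs φ n x₁ z = 0
    · have h4 : Bs φ n x₂ z ≠ 0 := by
        intro h4
        apply hxz
        rw [hx₀, map_add, LinearMap.add_apply, map_smulₛₗ, LinearMap.smul_apply, h3, h4,
          smul_zero, add_zero]
      have h5 : Bs φ n x₂ r ≠ 0 := by
        intro h5; rw [h5, mul_zero] at h2; exact h4 h2
      have : l = Bs φ n x₂ z / Bs φ n x₂ r := by
        rw [h2, mul_div_cancel_right₀ _ h5]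
      rw [this]; exact S.B_div_mem hx₂ hz hx₂ hr
    · have h5 : Bs φ n x₁ r ≠ 0 := by
        intro h5; rw [h5, mul_zero] at h1; exact h3 h1
      have : l = Bs φ n x₁ z / Bs φ n x₁ r := by
        rw [h1, mul_div_cancel_right₀ _ h5]
      rw [this]; exact S.B_div_mem hx₁ hz hx₁ hr
  apply hnot
  refine ⟨a⁻¹, l • r - z, (hr.smul hlm).sub hz, ?_⟩
  rw [← hlr, add_sub_cancel_left, smul_smul, inv_mul_cancel₀ ha0, one_smul]

theorem su_sp_maximal (hn : 3 ≤ n) (h32 : ¬ (n = 3 ∧ q = 2)) :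
    Cfsg.Geo.IsMaximalIn (Cfsg.GU n F q ⊓ Cfsg.Geo.specialLinear (Fin n) F)
      (Cfsg.Geo.subfieldSubgroup F₀ P ⊓
        (Cfsg.GU n F q ⊓ Cfsg.Geo.specialLinear (Fin n) F)) := by
  have hφne := Cfsg.Agent.S0837.phi_ne_id φ S.hF S.hφ
  obtain ⟨θ, hθ⟩ := exists_notMem F₀ S.hF S.hcard
  refine ⟨lt_of_le_of_ne inf_le_right ?_, ?_⟩
  · intro heq
    obtain ⟨g, hg, hgn⟩ := S.exists_notMem_subfield hn
    rw [← heq] at hg
    exact hgn hg.1
  · intro H hNH hHG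
    by_cases hne : H = Cfsg.Geo.subfieldSubgroup F₀ P ⊓
        (Cfsg.GU n F q ⊓ Cfsg.Geo.specialLinear (Fin n) F)
    · left; exact hne
    · right
      have hHGU : H ≤ Cfsg.GU n F q := fun g hg => (hHG hg).1
      -- an element of `H` moving a rational point off the rational points
      have h1 : ∃ h ∈ H, ∃ v, Rat F₀ P v ∧ ¬ RatPt F₀ P (h.1 *ᵥ v) := by
        by_contra hcon
        push Not at hcon
        apply hne
        apply le_antisymm _ hNH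
        intro h hh
        exact ⟨mem_subfield_of_ratPt S.hF S.hcard (by omega) (fun v hv => hcon h hh v hv),
          hHG hh⟩
      obtain ⟨h, hh, v, hv, hnot⟩ := h1
      obtain ⟨x₁, x₂, hx₁, hx₂, hx₀⟩ := exists_rat_decomp (P := P) S.hF S.hcard hθ (h.1 *ᵥ v)
      have hx₀C : x₁ + θ • x₂ ∈ S.Cset H := by
        rw [← hx₀]; exact S.Cset_act hHGU (S.Cset_rat hNH hv) hh
      have hx₀iso : Bs φ n (x₁ + θ • x₂) (x₁ + θ • x₂) = 0 := by
        rw [← hx₀, gu_preserves φ S.hφ ⟨h, hHGU hh⟩]; exact S.B_self hv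
      rw [hx₀] at hnot
      obtain ⟨hx₁0, hindx⟩ := (ratPt_or_indep θ hx₁ hx₂).resolve_left hnot
      have hx₁₂ := S.pair_of_iso hθ hx₁ hx₂ hx₀iso
      -- every isotropic vector is a centre
      have hall : ∀ y : Fin n → F, Bs φ n y y = 0 → y ∈ S.Cset H := by
        intro y hy
        obtain ⟨y₁, y₂, hy₁, hy₂, rfl⟩ := exists_rat_decomp (P := P) S.hF S.hcard hθ y
        rcases ratPt_or_indep θ hy₁ hy₂ with hpt | ⟨hy₁0, hindy⟩
        · obtain ⟨l, r, hr, hlr⟩ := hpt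
          rw [hlr]
          exact S.Cset_smul (S.Cset_rat hNH hr) l
        · have hy₁₂ := S.pair_of_iso hθ hy₁ hy₂ hy
          obtain ⟨g, hg, e₁, e₂⟩ := S.move_pair hx₁ hx₂ hy₁ hy₂ hx₁0 hy₁0 hindx hindy hx₁₂ hy₁₂
          have hgH : g ∈ H := hNH ⟨ratGL_le F₀ P hg.1, hg.2⟩
          have := S.Cset_act hHGU hx₀C hgH
          rwa [Matrix.mulVec_add, Matrix.mulVec_smul, e₁, e₂] at this
      -- `H` contains all unitary transvections
      have hT : T φ ≤ H.comap (Subgroup.subtype (Cfsg.GU n F q)) := by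
        unfold T
        rw [Subgroup.closure_le]
        rintro t ⟨v, c, hv, htv⟩
        show t.1 ∈ H
        by_cases hv0 : v = 0
        · have : t.1 = 1 := by
            apply gl_ext
            intro x
            rw [htv, Um_mulVec, hv0, smul_zero, add_zero, Units.val_one, Matrix.one_mulVec]
          rw [this]; exact H.one_mem
        · have hc := tz_of_mem_GU S.hφ S.hφ2 t.2 htv hv hv0
          have : t.1 = tv φ S.hφ S.hφ2 v c hv hc := Units.ext htv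
          rw [this]
          exact hall v hv c hv hc
      apply le_antisymm hHG
      intro g hg
      have hdet : g.1.det = 1 := (mem_specialLinear_iff g).1 hg.2
      have := mem_T_of_det φ S.hF S.hφ S.hφ2 hφne hn h32 ⟨g, hg.1⟩ hdet
      exact hT this

end Setup

end Cfsg.Agent.Lib.H11.SuSp
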