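import Cfsg.Agent.Lib.H11.Subf1
import Cfsg.Agent.Lib.H11.InvK4

/-!
# Subfield subgroups (part 2): normal forms of involutions, arithmetic
-/

set_option autoImplicit false
set_option linter.unusedSectionVars false

namespace Cfsg.Agent.Lib.H11.Subf

open Matrix Module Cfsg.Agent.Lib.H11.InvCls Cfsg.Agent.Lib.H11.Jordan

variable {F : Type*} [Field F] {n : ℕ}

/-- an involution in odd characteristic is similar to a diagonal `±1` matrix -/
theorem exists_diag_of_invol (h2 : (2 : F) ≠ 0) (u : Matrix (Fin n) (Fin n) F) (huu : u * u = 1) :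
    ∃ (b a : ℕ) (e : Fin n ≃ Fin b ⊕ Fin a) (P Pi : Matrix (Fin n) (Fin n) F), P * Pi = 1 ∧
      P * u = (Matrix.fromBlocks (-1) 0 0 1 :
        Matrix (Fin b ⊕ Fin a) (Fin b ⊕ Fin a) F).submatrix e e * P := by
  have ht : ∀ v, Matrix.toLin' u (Matrix.toLin' u v) = v := by
    intro v
    rw [← LinearMap.comp_apply, ← Matrix.toLin'_mul, huu, Matrix.toLin'_one, LinearMap.id_apply]
  set b' := finrank F (LinearMap.ker (Matrix.toLin' u + LinearMap.id)) with hb'
  have hb'n : b' ≤ n := by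
    have := Submodule.finrank_le (LinearMap.ker (Matrix.toLin' u + LinearMap.id))
    rwa [Module.finrank_fintype_fun_eq_card, Fintype.card_fin] at this
  set a' := n - b' with ha'
  let e : Fin n ≃ Fin b' ⊕ Fin a' :=
    (finCongr (by omega)).trans (finSumFinEquiv (m := b') (n := a')).symm
  set D₀ : Matrix (Fin b' ⊕ Fin a') (Fin b' ⊕ Fin a') F := Matrix.fromBlocks (-1) 0 0 1 with hD₀
  have hD₀2 : D₀ * D₀ = 1 := by
    rw [hD₀, Matrix.fromBlocks_multiply, ← Matrix.fromBlocks_one]
    simp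
  have hDD : D₀.submatrix e e * D₀.submatrix e e = 1 := by
    rw [Matrix.submatrix_mul_equiv, hD₀2, Matrix.submatrix_one_equiv]
  have ht' : ∀ v, Matrix.toLin' (D₀.submatrix e e) (Matrix.toLin' (D₀.submatrix e e) v) = v := by
    intro v
    rw [← LinearMap.comp_apply, ← Matrix.toLin'_mul, hDD, Matrix.toLin'_one, LinearMap.id_apply]
  have hker : finrank F (LinearMap.ker (Matrix.toLin' (D₀.submatrix e e) + LinearMap.id)) = b' := by
    have h1 : Matrix.toLin' (D₀.submatrix e e) + LinearMap.id =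
        Matrix.toLin' ((D₀ + 1).submatrix e e) := by
      rw [submatrix_add', Matrix.submatrix_one_equiv, map_add, Matrix.toLin'_one]
    have h3 : D₀ + 1 = Matrix.fromBlocks 0 0 0 ((2 : F) • (1 : Matrix (Fin a') (Fin a') F)) := by
      rw [hD₀, ← Matrix.fromBlocks_one, Matrix.fromBlocks_add, two_smul]
      simp
    have h4 : ((2 : F) • (1 : Matrix (Fin a') (Fin a') F)).rank = a' := by
      have : IsUnit ((2 : F) • (1 : Matrix (Fin a') (Fin a') F)) := by
        rw [Matrix.isUnit_iff_isUnit_det, Matrix.det_smul, Matrix.det_one, mul_one]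
        exact (isUnit_iff_ne_zero.2 h2).pow _
      rw [Matrix.rank_of_isUnit _ this, Fintype.card_fin]
    rw [h1, h3]
    have h5 := finrank_ker_toLin'
      ((Matrix.fromBlocks 0 0 0 ((2 : F) • (1 : Matrix (Fin a') (Fin a') F)) :
        Matrix (Fin b' ⊕ Fin a') (Fin b' ⊕ Fin a') F).submatrix e e)
    rw [Matrix.rank_submatrix, rank_fromBlocks_diag, Matrix.rank_zero, h4, zero_add] at h5
    omega
  obtain ⟨g, hg⟩ := Cfsg.Agent.Lib.H13.InvolConjLin.conj_of_finrank h2 _ _ ht ht'
    (hb'.symm.trans hker.symm)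
  obtain ⟨P, Pi, hP, hconj⟩ := mat_of_conj u (D₀.submatrix e e) g hg
  exact ⟨b', a', e, P, Pi, hP, hconj⟩

/-- the determinant of a matrix with non-square scalar square -/
theorem det_of_nonsquare (x : Matrix (Fin n) (Fin n) F) (z : F) (hz : ¬ IsSquare z)
    (hx : x * x = z • (1 : Matrix (Fin n) (Fin n) F)) :
    ∃ m : ℕ, n = 2 * m ∧ x.det = (-z) ^ m := by
  have ht : ∀ v, Matrix.toLin' x (Matrix.toLin' x v) = z • v := by
    intro v
    rw [← LinearMap.comp_apply, ← Matrix.toLin'_mul, hx, Matrix.toLin'_apply,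
      Matrix.smul_mulVec, Matrix.one_mulVec]
  have heven := Cfsg.Agent.Lib.H13.InvolConjLin.even_of_no_eigen z _ ht (no_eigen z hz _ ht)
  rw [Module.finrank_fintype_fun_eq_card, Fintype.card_fin] at heven
  obtain ⟨m, hm⟩ := heven
  refine ⟨m, by omega, ?_⟩
  let e : Fin n ≃ Fin m ⊕ Fin m :=
    (finCongr (by omega)).trans (finSumFinEquiv (m := m) (n := m)).symm
  set S₀ : Matrix (Fin m ⊕ Fin m) (Fin m ⊕ Fin m) F :=
    Matrix.fromBlocks 0 (z • (1 : Matrix (Fin m) (Fin m) F)) 1 0 with hS₀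
  have hS₀2 : S₀ * S₀ = z • (1 : Matrix _ _ F) := by
    rw [hS₀, Matrix.fromBlocks_multiply]
    ext (i | i) (j | j) <;> simp [Matrix.one_apply, Matrix.smul_apply]
  have hS'2 : S₀.submatrix e e * S₀.submatrix e e = z • (1 : Matrix (Fin n) (Fin n) F) := by
    rw [Matrix.submatrix_mul_equiv, hS₀2, submatrix_smul', Matrix.submatrix_one_equiv]
  have ht' : ∀ v, Matrix.toLin' (S₀.submatrix e e) (Matrix.toLin' (S₀.submatrix e e) v) =
      z • v := by
    intro v
    rw [← LinearMap.comp_apply, ← Matrix.toLin'_mul, hS'2, Matrix.toLin'_apply,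
      Matrix.smul_mulVec, Matrix.one_mulVec]
  obtain ⟨g, hg⟩ := Cfsg.Agent.Lib.H13.InvolConjLin.conj_of_no_eigen z _ _ ht ht'
    (no_eigen z hz _ ht) (no_eigen z hz _ ht')
  obtain ⟨B, Bi, hB, hconj⟩ := mat_of_conj x (S₀.submatrix e e) g hg
  have hBdet : B.det ≠ 0 := by
    intro h
    have := congrArg Matrix.det hB
    rw [Matrix.det_mul, h, zero_mul, Matrix.det_one] at this
    exact zero_ne_one this
  have h1 := congrArg Matrix.det hconj
  rw [Matrix.det_mul, Matrix.det_mul, Matrix.det_submatrix_equiv_self, mul_comm] at h1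
  have h3 := mul_right_cancel₀ hBdet h1
  rw [h3]
  have h4 : S₀ = Matrix.fromBlocks (z • (1 : Matrix (Fin m) (Fin m) F)) 0 0 1 *
      Matrix.fromBlocks (0 : Matrix (Fin m) (Fin m) F) 1 1 0 := by
    rw [hS₀, Matrix.fromBlocks_multiply]
    simp
  rw [h4, Matrix.det_mul, Cfsg.Agent.Lib.H13.det_hyp, Matrix.det_fromBlocks_zero₂₁,
    Matrix.det_smul, Matrix.det_one, Fintype.card_fin, mul_one, mul_one,
    ← mul_pow, mul_neg_one]

section arith

variable [Fintype F]

/-- an element of `m`-torsion, with the 2-part of `m` smaller than that of `q - 1`, is a square -/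
theorem isSquare_of_pow_eq_one (h2 : (2 : F) ≠ 0) (w : F) (m : ℕ) (hm : m ≠ 0)
    (hwm : w ^ m = 1) (hv : padicValNat 2 m < padicValNat 2 (Fintype.card F - 1)) :
    IsSquare w := by
  have hw0 : w ≠ 0 := by
    rintro rfl
    rw [zero_pow hm] at hwm
    exact zero_ne_one hwm
  have hchar : ringChar F ≠ 2 := by
    intro h
    apply h2
    have := ringChar.spec F 2
    rw [h] at this
    simpa using this.2 (dvd_refl 2)
  rw [FiniteField.isSquare_iff hchar hw0]
  have hq1 : Fintype.card F - 1 ≠ 0 := by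
    intro h0
    rw [h0] at hv
    simp at hv
  have hcard : w ^ (Fintype.card F - 1) = 1 := FiniteField.pow_card_sub_one_eq_one w hw0
  have ho1 : orderOf w ∣ m := orderOf_dvd_of_pow_eq_one hwm
  have ho2 : orderOf w ∣ Fintype.card F - 1 := orderOf_dvd_of_pow_eq_one hcard
  have ho0 : orderOf w ≠ 0 := fun h => by
    rw [h, zero_dvd_iff] at ho1
    exact hm ho1
  obtain ⟨t, ht⟩ := ho2
  have ht0 : t ≠ 0 := by
    rintro rfl
    rw [mul_zero] at ht
    exact hq1 ht
  have hvo : padicValNat 2 (orderOf w) ≤ padicValNat 2 m := by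
    obtain ⟨s, hs⟩ := ho1
    have hs0 : s ≠ 0 := by
      rintro rfl
      rw [mul_zero] at hs
      exact hm hs
    rw [hs, padicValNat.mul ho0 hs0]
    omega
  have hvt : 1 ≤ padicValNat 2 t := by
    rw [ht, padicValNat.mul ho0 ht0] at hv
    omega
  have h2t : 2 ∣ t := dvd_of_one_le_padicValNat hvt
  obtain ⟨t', rfl⟩ := h2t
  have : Fintype.card F / 2 = orderOf w * t' := by
    have : Fintype.card F = orderOf w * (2 * t') + 1 := by omega
    rw [this]
    have : orderOf w * (2 * t') + 1 = 1 + 2 * (orderOf w * t') := by ring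
    rw [this, Nat.add_mul_div_left _ _ (by norm_num)]
    simp
  rw [this, pow_mul, pow_orderOf_eq_one, one_pow]

/-- `-1` is a square in a field of square odd order -/
theorem isSquare_neg_one_of_card_sq (q₀ : ℕ) (hF : Fintype.card F = q₀ ^ 2) :
    IsSquare (-1 : F) := by
  rw [FiniteField.isSquare_neg_one_iff, hF]
  have : q₀ % 4 = 0 ∨ q₀ % 4 = 1 ∨ q₀ % 4 = 2 ∨ q₀ % 4 = 3 := by omega
  rcases this with h | h | h | h <;> simp [pow_two, Nat.mul_mod, h]

end arith

end Cfsg.Agent.Lib.H11.Subf
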