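import Cfsg.Agent.Lib.H11.Subf3
import Cfsg.Agent.Lib.H9.SqCommF

/-!
# Subfield subgroups (part 4): the index for odd degree extensions; the derangement
-/

set_option autoImplicit false
set_option linter.unusedSectionVars false

namespace Cfsg.Agent.Lib.H11.Subf

open Matrix Module Cfsg.Agent.Lib.H11.InvCls Cfsg.Agent.Lib.H11.Jordan

variable {F : Type*} [Field F] {n : ℕ} {F₀ : Subfield F}

/-- the special linear group over the subfield lies in the subfield subgroup -/
theorem map_range_le :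
    (Matrix.SpecialLinearGroup.map (n := Fin n) (F₀.subtype : F₀ →+* F)).range ≤
      (Cfsg.Geo.subfieldSubgroup F₀ (1 : GL (Fin n) F)).comap
        (Matrix.SpecialLinearGroup.toGL : Matrix.SpecialLinearGroup (Fin n) F →* GL (Fin n) F) := by
  rintro _ ⟨A, rfl⟩
  rw [mem_comap_subfield_iff]
  refine ⟨1, one_ne_zero, fun i j => ?_⟩
  rw [one_mul]
  exact (A.1 i j).2

theorem map_injective :
    Function.Injective
      (Matrix.SpecialLinearGroup.map (n := Fin n) (F₀.subtype : F₀ →+* F)) := by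
  intro A B h
  apply Subtype.ext
  ext i j
  have h1 := congrArg (fun M : Matrix.SpecialLinearGroup (Fin n) F => M.1 i j) h
  exact h1

section fin

variable [Fintype F]

/-- 2-parts of `|SL_n|` over a field of odd order and its odd-degree subfield agree -/
theorem v2_card_SL_subfield (hn : 1 ≤ n) (k q₀ : ℕ) (hk : Odd k) (hF₀ : Nat.card ↥F₀ = q₀)
    (hq : Fintype.card F = q₀ ^ k) (hodd : Odd (Fintype.card F)) :
    padicValNat 2 (Nat.card (Matrix.SpecialLinearGroup (Fin n) F)) =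
      padicValNat 2 (Nat.card (Matrix.SpecialLinearGroup (Fin n) ↥F₀)) := by
  have : Fintype ↥F₀ := Fintype.ofFinite _
  have : Nonempty (Fin n) := ⟨⟨0, hn⟩⟩
  have hq₀c : Fintype.card ↥F₀ = q₀ := by rw [← Nat.card_eq_fintype_card, hF₀]
  have hk0 : k ≠ 0 := by
    rintro rfl
    simp at hk
  have hq₀odd : Odd q₀ := by
    rw [hq] at hodd
    exact (Nat.odd_pow_iff hk0).mp hodd
  have hq₀1 : 1 < q₀ := by rw [← hq₀c]; exact Fintype.one_lt_card
  have hGL : padicValNat 2 (Nat.card (GL (Fin n) F)) =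
      padicValNat 2 (Nat.card (GL (Fin n) ↥F₀)) := by
    rw [Cfsg.Agent.Lib.H9.SqC.v2_card_GL hodd, Cfsg.Agent.Lib.H9.SqC.v2_card_GL (by rwa [hq₀c]),
      hq, hq₀c]
    apply Finset.sum_congr rfl
    intro j _
    rw [← pow_mul, mul_comm, pow_mul]
    exact Cfsg.Agent.Lib.H9.SqC.v2_pow_sub_one_odd _ hq₀odd.pow
      (Nat.one_lt_pow (by omega) hq₀1) k hk
  have h1 := Cfsg.Agent.Lib.H12.card_GL_eq_card_SL_mul (n := Fin n) (F := F)
  have h2 := Cfsg.Agent.Lib.H12.card_GL_eq_card_SL_mul (n := Fin n) (F := ↥F₀)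
  have hq1 : Fintype.card F - 1 ≠ 0 := by
    have := Fintype.one_lt_card (α := F)
    omega
  have hq₀1' : Fintype.card ↥F₀ - 1 ≠ 0 := by omega
  have hv : padicValNat 2 (Fintype.card F - 1) = padicValNat 2 (Fintype.card ↥F₀ - 1) := by
    rw [hq, hq₀c]
    exact Cfsg.Agent.Lib.H9.SqC.v2_pow_sub_one_odd _ hq₀odd hq₀1 k hk
  rw [h1, h2, padicValNat.mul Nat.card_pos.ne' hq1, padicValNat.mul Nat.card_pos.ne' hq₀1', hv] at hGL
  omega

/-- for an odd-degree subfield of a field of odd order the index is odd -/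
theorem index_odd (hn : 1 ≤ n) (k q₀ : ℕ) (hk : Odd k) (hF₀ : Nat.card ↥F₀ = q₀)
    (hq : Fintype.card F = q₀ ^ k) (hodd : Odd (Fintype.card F)) :
    Odd ((Cfsg.Geo.subfieldSubgroup F₀ (1 : GL (Fin n) F)).comap
      (Matrix.SpecialLinearGroup.toGL :
        Matrix.SpecialLinearGroup (Fin n) F →* GL (Fin n) F)).index := by
  have : Fintype ↥F₀ := Fintype.ofFinite _
  set R₀ := (Matrix.SpecialLinearGroup.map (n := Fin n) (F₀.subtype : F₀ →+* F)).range with hR₀
  have hcard : Nat.card R₀ = Nat.card (Matrix.SpecialLinearGroup (Fin n) ↥F₀) :=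
    (Nat.card_congr (MonoidHom.ofInjective (map_injective (F₀ := F₀) (n := n))).toEquiv).symm
  have h1 := Subgroup.card_mul_index R₀
  have h2 := v2_card_SL_subfield hn k q₀ hk hF₀ hq hodd
  have hidx0 : R₀.index ≠ 0 := Subgroup.index_ne_zero_of_finite
  rw [← h1, padicValNat.mul Nat.card_pos.ne' hidx0, hcard] at h2
  have h3 : padicValNat 2 R₀.index = 0 := by omega
  have h4 : Odd R₀.index := by
    rw [← Nat.not_even_iff_odd, even_iff_two_dvd]
    intro h
    have := one_le_padicValNat_of_dvd hidx0 h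
    omega
  have h5 := Subgroup.index_dvd_of_le (map_range_le (F₀ := F₀) (n := n))
  rw [← hR₀] at h5
  exact Odd.of_dvd_nat h4 h5

/-- the elements of a subfield of index two are squares -/
theorem isSquare_of_mem_subfield (h2 : (2 : F) ≠ 0) (q₀ : ℕ) (hF₀ : Nat.card ↥F₀ = q₀)
    (hq : Fintype.card F = q₀ ^ 2) (a : F) (ha : a ∈ F₀) : IsSquare a := by
  have : Fintype ↥F₀ := Fintype.ofFinite _
  have hq₀c : Fintype.card ↥F₀ = q₀ := by rw [← Nat.card_eq_fintype_card, hF₀]
  by_cases ha0 : a = 0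
  · rw [ha0]; exact ⟨0, by simp⟩
  have hchar : ringChar F ≠ 2 := by
    intro h
    apply h2
    have := ringChar.spec F 2
    rw [h] at this
    simpa using this.2 (dvd_refl 2)
  rw [FiniteField.isSquare_iff hchar ha0]
  have h1 : (⟨a, ha⟩ : ↥F₀) ^ (q₀ - 1) = 1 := by
    rw [← hq₀c]
    apply FiniteField.pow_card_sub_one_eq_one
    intro h
    exact ha0 (congrArg Subtype.val h)
  have h1' : a ^ (q₀ - 1) = 1 := by
    have := congrArg Subtype.val h1
    simpa using this
  have hodd : Odd (Fintype.card F) := Nat.odd_iff.2 (FiniteField.odd_card_of_char_ne_two hchar)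
  have hq₀odd : Odd q₀ := by
    rw [hq] at hodd
    exact (Nat.odd_pow_iff (by norm_num)).mp hodd
  obtain ⟨t, ht⟩ := hq₀odd
  have h3 : Fintype.card F / 2 = (q₀ - 1) * (t + 1) := by
    rw [hq, ht]
    have : (2 * t + 1) ^ 2 = 1 + 2 * ((2 * t + 1 - 1) * (t + 1)) := by
      rw [Nat.add_sub_cancel]; ring
    rw [this, Nat.add_mul_div_left _ _ (by norm_num)]
    simp
  rw [h3, pow_mul, h1', one_pow]

end fin

end Cfsg.Agent.Lib.H11.Subf
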