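import Cfsg.Agent.Lib.H11.Subf4

/-!
# Subfield subgroups (part 5): the derangement of order two
-/

set_option autoImplicit false
set_option linter.unusedSectionVars false

namespace Cfsg.Agent.Lib.H11.Subf

open Matrix Module Cfsg.Agent.Lib.H11.InvCls Cfsg.Agent.Lib.H11.Jordan

variable {F : Type*} [Field F] {n : ℕ} {F₀ : Subfield F}

/-- if a scalar multiple of `y` has entries in `F₀` and `y² = z`, then `c² z ∈ F₀` -/
theorem sq_scalar_mem (hn : 0 < n) (y : Matrix (Fin n) (Fin n) F) (z c : F)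
    (hy : y * y = z • (1 : Matrix (Fin n) (Fin n) F)) (hc : ∀ i j, c * y i j ∈ F₀) :
    c * c * z ∈ F₀ := by
  have h1 : ((c • y) * (c • y)) ⟨0, hn⟩ ⟨0, hn⟩ = c * c * z := by
    rw [Matrix.smul_mul, Matrix.mul_smul, hy, smul_smul, smul_smul, Matrix.smul_apply,
      Matrix.one_apply_eq, smul_eq_mul, mul_one]
  rw [← h1, Matrix.mul_apply]
  apply F₀.sum_mem
  intro j _
  exact F₀.mul_mem (hc _ _) (hc _ _)

/-- the derangement: `q = q₀²` odd, the 2-part of `n` exceeds that of `q - 1` -/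
theorem exists_derangement [Fintype F] (hn : 2 ≤ n) (q₀ : ℕ) (hF₀ : Nat.card ↥F₀ = q₀)
    (hq : Fintype.card F = q₀ ^ 2) (hodd : Odd (Fintype.card F))
    (hv : padicValNat 2 (Fintype.card F - 1) < padicValNat 2 n) :
    ∃ x : Matrix.SpecialLinearGroup (Fin n) F,
      (∃ z : F, ((x ^ 2 : Matrix.SpecialLinearGroup (Fin n) F) : Matrix (Fin n) (Fin n) F) =
        z • (1 : Matrix (Fin n) (Fin n) F)) ∧
      (∀ z : F, (x : Matrix (Fin n) (Fin n) F) ≠ z • (1 : Matrix (Fin n) (Fin n) F)) ∧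
      ∀ P : Matrix.SpecialLinearGroup (Fin n) F, P⁻¹ * x * P ∉
        (Cfsg.Geo.subfieldSubgroup F₀ (1 : GL (Fin n) F)).comap
          (Matrix.SpecialLinearGroup.toGL :
            Matrix.SpecialLinearGroup (Fin n) F →* GL (Fin n) F) := by
  have h2 : (2 : F) ≠ 0 := two_ne_zero_of_odd_card hodd
  set b := padicValNat 2 (Fintype.card F - 1) with hb
  have hq1 : Fintype.card F - 1 ≠ 0 := by
    have := Fintype.one_lt_card (α := F)
    omega
  have hb1 : 1 ≤ b := by
    apply one_le_padicValNat_of_dvd hq1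
    obtain ⟨t, ht⟩ := hodd
    omega
  -- the element `w` of order `2 ^ b`
  obtain ⟨w, hw⟩ := exists_pow_eq_neg_one (F := F) (2 ^ (b - 1)) (by positivity)
    (by rw [padicValNat.prime_pow]; omega)
  have hw2 : w ^ (2 ^ b) = 1 := by
    have : 2 ^ b = 2 ^ (b - 1) * 2 := by
      rw [← pow_succ]; congr 1; omega
    rw [this, pow_mul, hw]; ring
  have hwns : ¬ IsSquare w := by
    rintro ⟨s, hs⟩
    apply pow_ne_neg_one h2 (2 ^ b) (by positivity) (by rw [padicValNat.prime_pow]) s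
    have : 2 ^ b = 2 * 2 ^ (b - 1) := by
      rw [← pow_succ']; congr 1; omega
    rw [this, pow_mul, pow_two, ← hs, hw]
  have hn0 : n ≠ 0 := by omega
  have hdvd : 2 ^ (b + 1) ∣ n := by
    rw [padicValNat_dvd_iff_le hn0]
    omega
  obtain ⟨c, hc⟩ := hdvd
  set m := 2 ^ b * c with hm
  have hnm : n = m + m := by rw [hc, hm, pow_succ]; ring
  have hm0 : m ≠ 0 := by omega
  have hwm : w ^ m = 1 := by rw [hm, pow_mul, hw2, one_pow]
  have hneg1 := isSquare_neg_one_of_card_sq (F := F) q₀ hq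
  set z : F := -w with hz
  have hzns : ¬ IsSquare z := by
    intro h
    apply hwns
    have := hneg1.mul h
    rwa [hz, neg_one_mul, neg_neg] at this
  let e : Fin n ≃ Fin m ⊕ Fin m :=
    (finCongr hnm).trans (finSumFinEquiv (m := m) (n := m)).symm
  set S₀ : Matrix (Fin m ⊕ Fin m) (Fin m ⊕ Fin m) F :=
    Matrix.fromBlocks 0 (z • (1 : Matrix (Fin m) (Fin m) F)) 1 0 with hS₀
  have hS₀2 : S₀ * S₀ = z • (1 : Matrix _ _ F) := by
    rw [hS₀, Matrix.fromBlocks_multiply]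
    ext (i | i) (j | j) <;> simp [Matrix.one_apply, Matrix.smul_apply]
  have hS'2 : S₀.submatrix e e * S₀.submatrix e e = z • (1 : Matrix (Fin n) (Fin n) F) := by
    rw [Matrix.submatrix_mul_equiv, hS₀2, submatrix_smul', Matrix.submatrix_one_equiv]
  obtain ⟨m', hm', hdet⟩ := det_of_nonsquare _ z hzns hS'2
  have hmm : m' = m := by omega
  rw [hmm, hz, neg_neg, hwm] at hdet
  obtain ⟨x, hxdef⟩ : ∃ x : Matrix.SpecialLinearGroup (Fin n) F,
      (x : Matrix (Fin n) (Fin n) F) = S₀.submatrix e e := ⟨⟨_, hdet⟩, rfl⟩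
  have hxx : ((x * x : Matrix.SpecialLinearGroup (Fin n) F) : Matrix (Fin n) (Fin n) F) =
      z • (1 : Matrix (Fin n) (Fin n) F) := by
    rw [Matrix.SpecialLinearGroup.coe_mul, hxdef]
    exact hS'2
  refine ⟨x, ⟨z, ?_⟩, ?_, ?_⟩
  · rw [pow_two]
    exact hxx
  · intro c' hc'
    rw [hxdef] at hc'
    have hm1 : 0 < m := Nat.pos_of_ne_zero hm0
    have h1 := congrFun (congrFun hc' (e.symm (Sum.inr ⟨0, hm1⟩))) (e.symm (Sum.inl ⟨0, hm1⟩))
    have hne : e.symm (Sum.inr ⟨0, hm1⟩) ≠ e.symm (Sum.inl ⟨0, hm1⟩) := by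
      intro h
      have := e.symm.injective h
      simp at this
    simp [hS₀, hne] at h1
  · intro P hP
    rw [mem_comap_subfield_iff] at hP
    obtain ⟨c', hc'0, hc'⟩ := hP
    have hyy : ((P⁻¹ * x * P : Matrix.SpecialLinearGroup (Fin n) F) : Matrix (Fin n) (Fin n) F) *
        ((P⁻¹ * x * P : Matrix.SpecialLinearGroup (Fin n) F) : Matrix (Fin n) (Fin n) F) =
        z • (1 : Matrix (Fin n) (Fin n) F) := by
      rw [← Matrix.SpecialLinearGroup.coe_mul]
      have : P⁻¹ * x * P * (P⁻¹ * x * P) = P⁻¹ * (x * x) * P := by group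
      rw [this, Matrix.SpecialLinearGroup.coe_mul, Matrix.SpecialLinearGroup.coe_mul, hxx,
        Matrix.mul_smul, Matrix.mul_one, Matrix.smul_mul, ← Matrix.SpecialLinearGroup.coe_mul,
        inv_mul_cancel, Matrix.SpecialLinearGroup.coe_one]
    have h3 := sq_scalar_mem (by omega) _ z c' hyy hc'
    have h4 := isSquare_of_mem_subfield h2 q₀ hF₀ hq _ h3
    apply hzns
    have h5 : IsSquare (c'⁻¹ * c'⁻¹) := ⟨c'⁻¹, rfl⟩
    have := h5.mul h4
    have h6 : c'⁻¹ * c'⁻¹ * (c' * c' * z) = z := by field_simp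
    rwa [h6] at this

end Cfsg.Agent.Lib.H11.Subf
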