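import Cfsg.Agent.Lib.H11.Subf5

/-!
# Subfield subgroups (part 6): Jordan types under field extension, centralisers of
Jordan type matrices, the standard unipotent with all blocks of size two
-/

set_option autoImplicit false
set_option linter.unusedSectionVars false

namespace Cfsg.Agent.Lib.H11.Subf

open Matrix Module Cfsg.Agent.Lib.H11.InvCls Cfsg.Agent.Lib.H11.Jordan

section general

variable {K : Type*} [Field K] {L : Type*} [Field L]

/-- Jordan type matrices are preserved by ring homomorphisms -/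
theorem map_jordanTypeMatrix (φ : K →+* L) {t : ℕ} (d : Fin t → ℕ) :
    (Cfsg.jordanTypeMatrix d K).map φ = Cfsg.jordanTypeMatrix d L := by
  ext p p'
  rw [Matrix.map_apply, jordanTypeMatrix_apply, jordanTypeMatrix_apply]
  split_ifs
  · exact map_one φ
  · exact map_zero φ

/-- Jordan types are preserved by field extension -/
theorem HasType.map (φ : K →+* L) {n : ℕ} {u : Matrix (Fin n) (Fin n) K} {μ : Multiset ℕ}
    (h : HasType u μ) : HasType (u.map φ) μ := by
  obtain ⟨t, d, hd, e, hc, rfl⟩ := h
  refine ⟨t, d, hd, e, ?_, rfl⟩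
  have h1 := (RingHom.mapMatrix (m := Fin n) φ).toMonoidHom.map_isConj hc
  have h2 : (RingHom.mapMatrix (m := Fin n) φ).toMonoidHom
      (Matrix.reindex e e (Cfsg.jordanTypeMatrix d K)) =
      Matrix.reindex e e (Cfsg.jordanTypeMatrix d L) := by
    rw [← map_jordanTypeMatrix φ d]
    rfl
  rw [h2] at h1
  exact h1

/-- block-scalar diagonal matrices centralise Jordan type matrices -/
theorem exists_centralizer_jordan {t : ℕ} (d : Fin t → ℕ) (k₀ : Fin t) (a : K) :
    ∃ C : Matrix ((k : Fin t) × Fin (d k)) ((k : Fin t) × Fin (d k)) K,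
      C * Cfsg.jordanTypeMatrix d K = Cfsg.jordanTypeMatrix d K * C ∧ C.det = a ^ (d k₀) := by
  refine ⟨Matrix.diagonal (fun p => Function.update (1 : Fin t → K) k₀ a p.1), ?_, ?_⟩
  · ext p p'
    rw [Matrix.diagonal_mul, Matrix.mul_diagonal, jordanTypeMatrix_apply]
    split_ifs with h
    · rw [h.1, mul_comm]
    · rw [mul_zero, zero_mul]
  · rw [Matrix.det_diagonal, Fintype.prod_sigma]
    simp only [Finset.prod_const, Finset.card_univ, Fintype.card_fin]
    rw [Fintype.prod_eq_single k₀]
    · rw [Function.update_self]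
    · intro k hk
      rw [Function.update_of_ne hk, Pi.one_apply, one_pow]

end general

section std

variable {K : Type*} [Field K] {m : ℕ}

/-- the standard nilpotent matrix of square zero and rank `m` -/
def stdN (K : Type*) [Field K] (m : ℕ) : Matrix (Fin m ⊕ Fin m) (Fin m ⊕ Fin m) K :=
  Matrix.fromBlocks 0 0 1 0

theorem stdN_mul_self : stdN K m * stdN K m = 0 := by
  unfold stdN
  rw [Matrix.fromBlocks_multiply]
  simp

theorem rank_stdN : (stdN K m).rank = m := by
  have h1 : stdN K m = (Matrix.fromBlocks 0 1 1 0 : Matrix (Fin m ⊕ Fin m) (Fin m ⊕ Fin m) K) *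
      Matrix.fromBlocks 1 0 0 0 := by
    unfold stdN
    rw [Matrix.fromBlocks_multiply]
    simp
  have h2 : (Matrix.fromBlocks 0 1 1 0 : Matrix (Fin m ⊕ Fin m) (Fin m ⊕ Fin m) K) *
      Matrix.fromBlocks 0 1 1 0 = 1 := by
    rw [Matrix.fromBlocks_multiply, ← Matrix.fromBlocks_one]
    simp
  have h3 : IsUnit (Matrix.fromBlocks 0 1 1 0 : Matrix (Fin m ⊕ Fin m) (Fin m ⊕ Fin m) K).det :=
    Matrix.isUnit_det_of_right_inverse h2
  rw [h1, Matrix.rank_mul_eq_right_of_isUnit_det _ _ h3, rank_fromBlocks_diag, Matrix.rank_one,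
    Matrix.rank_zero, Fintype.card_fin, add_zero]

theorem rankType_stdN : RankType (1 + stdN K m) (Multiset.replicate m 2) := by
  intro i
  rw [add_sub_cancel_left, Multiset.map_replicate, Multiset.sum_replicate, smul_eq_mul]
  rcases i with _ | _ | i
  · rw [pow_zero, Matrix.rank_one, Fintype.card_sum, Fintype.card_fin]
    omega
  · rw [zero_add, pow_one, rank_stdN]
    omega
  · rw [pow_succ, pow_succ, Matrix.mul_assoc, stdN_mul_self, Matrix.mul_zero, Matrix.rank_zero]
    have : 2 - (i + 1 + 1) = 0 := by omega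
    rw [this, mul_zero]

/-- matrices commuting with the standard nilpotent have square determinant -/
theorem det_of_commute_stdN (C : Matrix (Fin m ⊕ Fin m) (Fin m ⊕ Fin m) K)
    (hC : C * stdN K m = stdN K m * C) : IsSquare C.det := by
  have h1 := Matrix.fromBlocks_toBlocks C
  rw [← h1] at hC
  unfold stdN at hC
  rw [Matrix.fromBlocks_multiply, Matrix.fromBlocks_multiply, Matrix.fromBlocks_inj] at hC
  obtain ⟨h11, h12, h21, h22⟩ := hC
  simp only [Matrix.mul_zero, Matrix.mul_one, zero_add, Matrix.zero_mul, add_zero,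
    Matrix.one_mul] at h11 h12 h21 h22
  rw [← h1, h11, ← h21, Matrix.det_fromBlocks_zero₁₂]
  exact ⟨_, rfl⟩

end std

end Cfsg.Agent.Lib.H11.Subf
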