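import Cfsg.Agent.Lib.H11.Subf6
import Cfsg.Agent.Lib.H11.Jordan9

/-!
# Subfield subgroups (part 7): elements of order three in characteristic three are conjugate
into the subfield subgroup
-/

set_option autoImplicit false
set_option linter.unusedSectionVars false

namespace Cfsg.Agent.Lib.H11.Subf

open Matrix Module Cfsg.Agent.Lib.H11.InvCls Cfsg.Agent.Lib.H11.Jordan

variable {F : Type*} [Field F] {n : ℕ} {F₀ : Subfield F}

/-- a subfield of odd index in a field of odd order contains a non-square -/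
theorem exists_nonsquare_mem_subfield [Fintype F] (k q₀ : ℕ) (hk : Odd k)
    (hF₀ : Nat.card ↥F₀ = q₀) (hq : Fintype.card F = q₀ ^ k) (hodd : Odd (Fintype.card F)) :
    ∃ a ∈ F₀, ¬ IsSquare a := by
  have : Fintype ↥F₀ := Fintype.ofFinite _
  have hq₀c : Fintype.card ↥F₀ = q₀ := by rw [← Nat.card_eq_fintype_card, hF₀]
  have hk0 : k ≠ 0 := by
    rintro rfl
    simp at hk
  have hq₀odd : Odd q₀ := by
    rw [hq] at hodd
    exact (Nat.odd_pow_iff hk0).mp hodd
  have hchar₀ : ringChar ↥F₀ ≠ 2 := by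
    intro h
    have := FiniteField.even_card_iff_char_two.1 h
    rw [hq₀c] at this
    have := Nat.odd_iff.1 hq₀odd
    omega
  have hchar : ringChar F ≠ 2 := by
    intro h
    have := FiniteField.even_card_iff_char_two.1 h
    have := Nat.odd_iff.1 hodd
    omega
  obtain ⟨a₀, ha₀⟩ := FiniteField.exists_nonsquare hchar₀
  have ha₀0 : a₀ ≠ 0 := by
    rintro rfl
    exact ha₀ ⟨0, by simp⟩
  have h1 : a₀ ^ (q₀ / 2) = -1 := by
    rcases FiniteField.pow_dichotomy hchar₀ ha₀0 with h | h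
    · exact absurd ((FiniteField.isSquare_iff hchar₀ ha₀0).2 h) ha₀
    · rw [← hq₀c]; exact h
  have h1' : (a₀ : F) ^ (q₀ / 2) = -1 := by
    have := congrArg Subtype.val h1
    simpa using this
  refine ⟨a₀, a₀.2, ?_⟩
  have ha0' : (a₀ : F) ≠ 0 := fun h => ha₀0 (Subtype.ext h)
  rw [FiniteField.isSquare_iff hchar ha0']
  obtain ⟨t, ht⟩ := hq₀odd
  have hgeo := Cfsg.Agent.Lib.H9.SqC.geom_identity q₀ (by omega) k
  have hpar := Cfsg.Agent.Lib.H9.SqC.geom_parity q₀ ⟨t, ht⟩ k
  set S := ∑ i ∈ Finset.range k, q₀ ^ i with hS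
  have hSodd : Odd S := by
    rw [Nat.odd_iff, hpar]
    exact Nat.odd_iff.1 hk
  have h3 : Fintype.card F / 2 = (q₀ / 2) * S := by
    rw [hq, ← hgeo, ht]
    have e1 : (2 * t + 1 - 1) * S + 1 = 1 + 2 * (t * S) := by
      rw [Nat.add_sub_cancel]; ring
    have e2 : (2 * t + 1) / 2 = t := by omega
    rw [e1, e2, Nat.add_mul_div_left _ _ (by norm_num)]
    simp
  rw [h3, pow_mul, h1', hSodd.neg_one_pow]
  intro h
  have h2 : (2 : F) = 0 := by linear_combination -h
  have := ringChar.dvd (R := F) (x := 2) (by exact_mod_cast h2)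
  rcases (Nat.dvd_prime Nat.prime_two).1 this with h' | h'
  · exact CharP.ringChar_ne_one h'
  · exact hchar h'

/-- products of matrices with entries in a subfield -/
theorem mul_mem_entries (A B : Matrix (Fin n) (Fin n) F) (hA : ∀ i j, A i j ∈ F₀)
    (hB : ∀ i j, B i j ∈ F₀) (i j : Fin n) : (A * B) i j ∈ F₀ := by
  rw [Matrix.mul_apply]
  exact F₀.sum_mem fun l _ => F₀.mul_mem (hA i l) (hB l j)

/-- the main sufficiency statement for elements of order three -/
theorem conj_subfield_order_three [Fintype F] [CharP F 3] (hn : 0 < n) (k q₀ : ℕ)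
    (hF₀ : Nat.card ↥F₀ = q₀) (hq : Fintype.card F = q₀ ^ k) (hnk : Even n → Odd k)
    (x : Matrix.SpecialLinearGroup (Fin n) F) (z : F)
    (hx : (x : Matrix (Fin n) (Fin n) F) ^ 3 = z • (1 : Matrix (Fin n) (Fin n) F)) :
    ∃ P : Matrix.SpecialLinearGroup (Fin n) F, P⁻¹ * x * P ∈
      (Cfsg.Geo.subfieldSubgroup F₀ (1 : GL (Fin n) F)).comap
        (Matrix.SpecialLinearGroup.toGL : Matrix.SpecialLinearGroup (Fin n) F →* GL (Fin n) F) := by
  classical
  have hne : Nonempty (Fin n) := ⟨⟨0, hn⟩⟩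
  have hcube : ∀ a : F, ∃ l : F, l ^ 3 = a := by
    intro a
    obtain ⟨l, hl⟩ := surjective_frobenius F 3 a
    exact ⟨l, by rw [← hl, frobenius_def]⟩
  have hz0 : z ≠ 0 := by
    rintro rfl
    have h1 := congrArg Matrix.det hx
    rw [Matrix.det_pow, x.2, zero_smul, Matrix.det_zero, one_pow] at h1
    exact one_ne_zero h1
  obtain ⟨l, hl⟩ := hcube z
  have hl0 : l ≠ 0 := by
    rintro rfl
    rw [zero_pow (by norm_num)] at hl
    exact hz0 hl.symm
  set u : Matrix (Fin n) (Fin n) F := l⁻¹ • (x : Matrix (Fin n) (Fin n) F) with hu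
  have hu3 : u ^ 3 = 1 := by
    rw [hu, smul_pow, hx, smul_smul, inv_pow, hl, inv_mul_cancel₀ hz0, one_smul]
  have hxu : (x : Matrix (Fin n) (Fin n) F) = l • u := by
    rw [hu, smul_smul, mul_inv_cancel₀ hl0, one_smul]
  have hN3 : (u - 1) ^ 3 = 0 := by rw [sub_one_pow_char 3 u, hu3, sub_self]
  have hN : IsNilpotent (u - 1) := ⟨3, hN3⟩
  obtain ⟨t, d, hd, e, P, Pi, hPPi, hPiP, hJ⟩ := exists_jordan_form (u - 1) hN
  rw [add_sub_cancel] at hJ
  set J : Matrix (Fin n) (Fin n) F := Matrix.reindex e e (Cfsg.jordanTypeMatrix d F) with hJdef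
  have hJ' : Pi * u = J * Pi := by
    calc Pi * u = Pi * (u * P) * Pi := by
          rw [Matrix.mul_assoc, Matrix.mul_assoc, hPPi, Matrix.mul_one]
      _ = J * Pi := by rw [← hJ, ← Matrix.mul_assoc, hPiP, Matrix.one_mul]
  have huJ : u = P * J * Pi := by
    rw [hJ, Matrix.mul_assoc, hPPi, Matrix.mul_one]
  have hJF₀ : ∀ i j, J i j ∈ F₀ := by
    intro i j
    rw [hJdef, Matrix.reindex_apply, Matrix.submatrix_apply, jordanTypeMatrix_apply]
    split_ifs
    · exact F₀.one_mem
    · exact F₀.zero_mem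
  have htype : HasType u (Multiset.map d Finset.univ.val) :=
    ⟨t, d, hd, e, ⟨⟨P, Pi, hPPi, hPiP⟩, hJ⟩, rfl⟩
  have hd3 : ∀ k', d k' ≤ 3 := by
    intro k'
    exact (htype.pow_eq_zero_iff 3).1 hN3 (d k')
      (Multiset.mem_map.2 ⟨k', Finset.mem_univ_val k', rfl⟩)
  -- centraliser elements
  have hdetP : P.det * Pi.det = 1 := by rw [← Matrix.det_mul, hPPi, Matrix.det_one]
  have hcent : ∀ (k₀ : Fin t) (a : F), ∃ C : Matrix (Fin n) (Fin n) F,
      C * (x : Matrix (Fin n) (Fin n) F) = (x : Matrix (Fin n) (Fin n) F) * C ∧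
        C.det = a ^ (d k₀) := by
    intro k₀ a
    obtain ⟨C₀, hC₀, hC₀det⟩ := exists_centralizer_jordan (K := F) d k₀ a
    have hCr : Matrix.reindex e e C₀ * J = J * Matrix.reindex e e C₀ := by
      rw [hJdef, Matrix.reindex_apply, Matrix.reindex_apply, Matrix.submatrix_mul_equiv,
        Matrix.submatrix_mul_equiv, hC₀]
    refine ⟨P * Matrix.reindex e e C₀ * Pi, ?_, ?_⟩
    · rw [hxu, Matrix.mul_smul, Matrix.smul_mul, huJ]
      congr 1
      calc P * Matrix.reindex e e C₀ * Pi * (P * J * Pi)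
          = P * (Matrix.reindex e e C₀ * (Pi * P) * J) * Pi := by simp only [Matrix.mul_assoc]
        _ = P * (J * (Pi * P) * Matrix.reindex e e C₀) * Pi := by
            rw [hPiP, Matrix.mul_one, Matrix.mul_one, hCr]
        _ = _ := by simp only [Matrix.mul_assoc]
    · rw [Matrix.det_mul, Matrix.det_mul, Matrix.det_reindex_self, hC₀det, mul_right_comm, hdetP,
        one_mul]
  -- the determinant to be realised
  have hδ0 : Pi.det ≠ 0 := by
    intro h
    rw [h, mul_zero] at hdetP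
    exact zero_ne_one hdetP
  obtain ⟨a₁, ha₁, ha₁0, C, hC, hCdet⟩ : ∃ a₁ ∈ F₀, a₁ ≠ 0 ∧ ∃ C : Matrix (Fin n) (Fin n) F,
      C * (x : Matrix (Fin n) (Fin n) F) = (x : Matrix (Fin n) (Fin n) F) * C ∧
        C.det = a₁ * Pi.det := by
    by_cases hall : ∀ k', d k' = 2
    · -- all blocks of size two
      have hcard : n = 2 * t := by
        have := Fintype.card_congr e
        rw [Fintype.card_sigma, Fintype.card_fin] at this
        simp only [hall, Fintype.card_fin, Finset.sum_const, Finset.card_univ, smul_eq_mul] at this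
        omega
      have hkodd : Odd k := hnk ⟨t, by omega⟩
      have h3 : (3 : F) = 0 := by exact_mod_cast CharP.cast_eq_zero F 3
      have hoddF : Odd (Fintype.card F) := by
        by_contra h
        have h2 := two_eq_zero_of_not_odd_card h
        have : (1 : F) = 0 := by linear_combination h3 - h2
        exact one_ne_zero this
      let k₁ : Fin t := (e.symm ⟨0, hn⟩).1
      by_cases hsq : IsSquare Pi.det
      · obtain ⟨s, hs⟩ := hsq
        obtain ⟨C, hC, hCdet⟩ := hcent k₁ s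
        exact ⟨1, F₀.one_mem, one_ne_zero, C, hC, by rw [hCdet, hall, one_mul, hs, pow_two]⟩
      · obtain ⟨a₀, ha₀, ha₀ns⟩ := exists_nonsquare_mem_subfield (F₀ := F₀) k q₀ hkodd hF₀ hq hoddF
        have ha₀0 : a₀ ≠ 0 := by
          rintro rfl
          exact ha₀ns ⟨0, by simp⟩
        obtain ⟨s, hs⟩ := (Cfsg.Agent.Lib.H13.isSquare_mul_nonsquare_iff ha₀0 hsq).2 ha₀ns
        obtain ⟨C, hC, hCdet⟩ := hcent k₁ s
        exact ⟨a₀, ha₀, ha₀0, C, hC, by rw [hCdet, hall, hs, pow_two]⟩
    · push Not at hall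
      obtain ⟨k₀, hk₀⟩ := hall
      have h1 := hd k₀
      have h2 := hd3 k₀
      have h13 : d k₀ = 1 ∨ d k₀ = 3 := by omega
      rcases h13 with h | h
      · obtain ⟨C, hC, hCdet⟩ := hcent k₀ Pi.det
        exact ⟨1, F₀.one_mem, one_ne_zero, C, hC, by rw [hCdet, h, pow_one, one_mul]⟩
      · obtain ⟨s, hs⟩ := hcube Pi.det
        obtain ⟨C, hC, hCdet⟩ := hcent k₀ s
        exact ⟨1, F₀.one_mem, one_ne_zero, C, hC, by rw [hCdet, h, hs, one_mul]⟩
  -- the final construction
  let i₀ : Fin n := ⟨0, hn⟩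
  set h : Matrix (Fin n) (Fin n) F := Matrix.diagonal (Function.update (1 : Fin n → F) i₀ a₁)
    with hh
  set hi : Matrix (Fin n) (Fin n) F := Matrix.diagonal (Function.update (1 : Fin n → F) i₀ a₁⁻¹)
    with hhi
  have hhhi : h * hi = 1 := by
    rw [hh, hhi, Matrix.diagonal_mul_diagonal, ← Matrix.diagonal_one]
    congr 1
    funext i
    by_cases hi0 : i = i₀
    · rw [hi0, Function.update_self, Function.update_self, mul_inv_cancel₀ ha₁0]
    · rw [Function.update_of_ne hi0, Function.update_of_ne hi0, _root_.Pi.one_apply, mul_one]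
  have hhih : hi * h = 1 := mul_eq_one_comm.mp hhhi
  have hdeth : h.det = a₁ := by
    rw [hh, Matrix.det_diagonal, Fintype.prod_eq_single i₀]
    · rw [Function.update_self]
    · intro i hi0
      rw [Function.update_of_ne hi0, _root_.Pi.one_apply]
  have hhF₀ : ∀ i j, h i j ∈ F₀ := by
    intro i j
    rw [hh, Matrix.diagonal_apply]
    split_ifs with hij
    · by_cases hi0 : i = i₀
      · rw [hi0, Function.update_self]; exact ha₁
      · rw [Function.update_of_ne hi0, _root_.Pi.one_apply]; exact F₀.one_mem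
    · exact F₀.zero_mem
  have hhiF₀ : ∀ i j, hi i j ∈ F₀ := by
    intro i j
    rw [hhi, Matrix.diagonal_apply]
    split_ifs with hij
    · by_cases hi0 : i = i₀
      · rw [hi0, Function.update_self]; exact F₀.inv_mem ha₁
      · rw [Function.update_of_ne hi0, _root_.Pi.one_apply]; exact F₀.one_mem
    · exact F₀.zero_mem
  apply exists_conj_mem_comap _ x (l • (h * J * hi)) (h * Pi) (P * hi)
  · calc h * Pi * (P * hi) = h * (Pi * P) * hi := by simp only [Matrix.mul_assoc]
      _ = 1 := by rw [hPiP, Matrix.mul_one, hhhi]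
  · rw [hxu, Matrix.mul_smul, Matrix.smul_mul]
    congr 1
    calc h * Pi * u = h * (Pi * u) := by rw [Matrix.mul_assoc]
      _ = h * J * (hi * h) * Pi := by rw [hJ', hhih, Matrix.mul_one, Matrix.mul_assoc]
      _ = _ := by simp only [Matrix.mul_assoc]
  · intro g hg
    apply mem_subfield_of_smul g l hl0 _ _ hg
    intro i j
    exact mul_mem_entries _ _ (mul_mem_entries _ _ hhF₀ hJF₀) hhiF₀ i j
  · exact ⟨C, hC, by rw [hCdet, Matrix.det_mul, hdeth]⟩

end Cfsg.Agent.Lib.H11.Subf
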