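import Cfsg.Agent.Lib.H11.Subf7

/-!
# Subfield subgroups (part 8): the derangement of order three in characteristic three
-/

set_option autoImplicit false
set_option linter.unusedSectionVars false

namespace Cfsg.Agent.Lib.H11.Subf

open Matrix Module Cfsg.Agent.Lib.H11.InvCls Cfsg.Agent.Lib.H11.Jordan

section std

variable {K : Type*} [Field K] {m n : ℕ}

/-- the standard unipotent matrix with all blocks of size two -/
def stdJ (K : Type*) [Field K] {m n : ℕ} (e : Fin n ≃ Fin m ⊕ Fin m) :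
    Matrix (Fin n) (Fin n) K := (1 + stdN K m).submatrix e e

theorem stdJ_sub_one (e : Fin n ≃ Fin m ⊕ Fin m) :
    stdJ K e - 1 = (stdN K m).submatrix e e := by
  unfold stdJ
  rw [submatrix_add', Matrix.submatrix_one_equiv, add_sub_cancel_left]

theorem stdJ_sub_one_sq (e : Fin n ≃ Fin m ⊕ Fin m) :
    (stdJ K e - 1) * (stdJ K e - 1) = 0 := by
  rw [stdJ_sub_one, Matrix.submatrix_mul_equiv, stdN_mul_self]
  rfl

theorem det_stdJ (e : Fin n ≃ Fin m ⊕ Fin m) : (stdJ K e).det = 1 := by
  unfold stdJ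
  rw [Matrix.det_submatrix_equiv_self]
  have : (1 : Matrix (Fin m ⊕ Fin m) (Fin m ⊕ Fin m) K) + stdN K m = Matrix.fromBlocks 1 0 1 1 := by
    unfold stdN
    rw [← Matrix.fromBlocks_one, Matrix.fromBlocks_add]
    simp
  rw [this, Matrix.det_fromBlocks_zero₁₂, Matrix.det_one, one_mul]

theorem hasType_stdJ (e : Fin n ≃ Fin m ⊕ Fin m) :
    HasType (stdJ K e) (Multiset.replicate m 2) := by
  have h1 := (rankType_stdN (K := K) (m := m)).reindex e.symm
  apply RankType.hasType h1
  intro a ha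
  rw [Multiset.eq_of_mem_replicate ha]
  norm_num

theorem stdJ_ne_one (hm : 0 < m) (e : Fin n ≃ Fin m ⊕ Fin m) : stdJ K e - 1 ≠ 0 := by
  rw [stdJ_sub_one]
  intro h
  have h1 := congrFun (congrFun h (e.symm (Sum.inr ⟨0, hm⟩))) (e.symm (Sum.inl ⟨0, hm⟩))
  simp [stdN] at h1

theorem map_stdJ {L : Type*} [Field L] (φ : K →+* L) (e : Fin n ≃ Fin m ⊕ Fin m) :
    (stdJ K e).map φ = stdJ L e := by
  ext i j
  unfold stdJ stdN
  rw [Matrix.map_apply, Matrix.submatrix_apply, Matrix.submatrix_apply]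
  rcases e i with i' | i' <;> rcases e j with j' | j' <;>
    simp [Matrix.one_apply, apply_ite φ]

/-- matrices commuting with the standard unipotent have square determinant -/
theorem det_of_commute_stdJ (e : Fin n ≃ Fin m ⊕ Fin m) (C : Matrix (Fin n) (Fin n) K)
    (hC : C * stdJ K e = stdJ K e * C) : IsSquare C.det := by
  have h1 : C * (stdJ K e - 1) = (stdJ K e - 1) * C := by
    rw [Matrix.mul_sub, Matrix.sub_mul, hC, Matrix.mul_one, Matrix.one_mul]
  rw [stdJ_sub_one] at h1
  have h0 : stdN K m = ((stdN K m).submatrix e e).submatrix e.symm e.symm := by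
    ext i j; simp
  have h2 : C.submatrix e.symm e.symm * stdN K m = stdN K m * C.submatrix e.symm e.symm := by
    calc C.submatrix e.symm e.symm * stdN K m
        = C.submatrix e.symm e.symm * ((stdN K m).submatrix e e).submatrix e.symm e.symm := by
          rw [← h0]
      _ = (C * (stdN K m).submatrix e e).submatrix e.symm e.symm := by
          rw [Matrix.submatrix_mul_equiv]
      _ = ((stdN K m).submatrix e e * C).submatrix e.symm e.symm := by rw [h1]
      _ = ((stdN K m).submatrix e e).submatrix e.symm e.symm * C.submatrix e.symm e.symm := by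
          rw [Matrix.submatrix_mul_equiv]
      _ = stdN K m * C.submatrix e.symm e.symm := by rw [← h0]
  have := det_of_commute_stdN _ h2
  rwa [Matrix.det_submatrix_equiv_self] at this

end std

variable {F : Type*} [Field F] {n : ℕ} {F₀ : Subfield F}

/-- cube roots in a subfield, characteristic three -/
theorem mem_of_cube_mem [Finite F] [CharP F 3] (c : F) (hc : c ^ 3 ∈ F₀) : c ∈ F₀ := by
  have hinjF : ∀ a b : F, a ^ 3 = b ^ 3 → a = b := by
    intro a b hab
    have h1 : (a - b) ^ 3 = 0 := by rw [sub_pow_char, hab, sub_self]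
    have := pow_eq_zero_iff (n := 3) (by norm_num) |>.1 h1
    exact sub_eq_zero.1 this
  let f : ↥F₀ → ↥F₀ := fun a => a ^ 3
  have hinj : Function.Injective f := by
    intro a b hab
    apply Subtype.ext
    apply hinjF
    have := congrArg Subtype.val hab
    simpa [f] using this
  obtain ⟨a, ha⟩ := Finite.injective_iff_surjective.1 hinj ⟨c ^ 3, hc⟩
  have h1 : (a : F) ^ 3 = c ^ 3 := by
    have := congrArg Subtype.val ha
    simpa [f] using this
  rw [← hinjF _ _ h1]
  exact a.2

/-- the derangement: `q = q₀²`, `n` even -/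
theorem exists_derangement_three [Fintype F] [CharP F 3] (m : ℕ) (hm : 0 < m) (hnm : n = m + m)
    (q₀ : ℕ) (hF₀ : Nat.card ↥F₀ = q₀) (hq : Fintype.card F = q₀ ^ 2) :
    ∃ x : Matrix.SpecialLinearGroup (Fin n) F,
      (∃ z : F, ((x ^ 3 : Matrix.SpecialLinearGroup (Fin n) F) : Matrix (Fin n) (Fin n) F) =
        z • (1 : Matrix (Fin n) (Fin n) F)) ∧
      (∀ z : F, (x : Matrix (Fin n) (Fin n) F) ≠ z • (1 : Matrix (Fin n) (Fin n) F)) ∧
      ∀ P : Matrix.SpecialLinearGroup (Fin n) F, P⁻¹ * x * P ∉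
        (Cfsg.Geo.subfieldSubgroup F₀ (1 : GL (Fin n) F)).comap
          (Matrix.SpecialLinearGroup.toGL :
            Matrix.SpecialLinearGroup (Fin n) F →* GL (Fin n) F) := by
  classical
  have hn : 0 < n := by omega
  have h3 : (3 : F) = 0 := by exact_mod_cast CharP.cast_eq_zero F 3
  have h2 : (2 : F) ≠ 0 := by
    intro h2
    have : (1 : F) = 0 := by linear_combination h3 - h2
    exact one_ne_zero this
  have hchar : ringChar F ≠ 2 := by
    intro h
    apply h2
    have := ringChar.spec F 2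
    rw [h] at this
    simpa using this.2 (dvd_refl 2)
  obtain ⟨ν, hν⟩ := FiniteField.exists_nonsquare hchar
  have hν0 : ν ≠ 0 := by
    rintro rfl
    exact hν ⟨0, by simp⟩
  let e : Fin n ≃ Fin m ⊕ Fin m :=
    (finCongr hnm).trans (finSumFinEquiv (m := m) (n := m)).symm
  let i₀ : Fin n := ⟨0, hn⟩
  set D : Matrix (Fin n) (Fin n) F := Matrix.diagonal (Function.update (1 : Fin n → F) i₀ ν)
    with hD
  set Di : Matrix (Fin n) (Fin n) F := Matrix.diagonal (Function.update (1 : Fin n → F) i₀ ν⁻¹)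
    with hDi
  have hDDi : D * Di = 1 := by
    rw [hD, hDi, Matrix.diagonal_mul_diagonal, ← Matrix.diagonal_one]
    congr 1
    funext i
    by_cases hi0 : i = i₀
    · rw [hi0, Function.update_self, Function.update_self, mul_inv_cancel₀ hν0]
    · rw [Function.update_of_ne hi0, Function.update_of_ne hi0, Pi.one_apply, mul_one]
  have hDiD : Di * D = 1 := mul_eq_one_comm.mp hDDi
  have hdetD : D.det = ν := by
    rw [hD, Matrix.det_diagonal, Fintype.prod_eq_single i₀]
    · rw [Function.update_self]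
    · intro i hi0
      rw [Function.update_of_ne hi0, Pi.one_apply]
  have hdetDi : Di.det = ν⁻¹ := by
    rw [hDi, Matrix.det_diagonal, Fintype.prod_eq_single i₀]
    · rw [Function.update_self]
    · intro i hi0
      rw [Function.update_of_ne hi0, Pi.one_apply]
  set J : Matrix (Fin n) (Fin n) F := stdJ F e with hJ
  have hxdet : (D * J * Di).det = 1 := by
    rw [Matrix.det_mul, Matrix.det_mul, hJ, det_stdJ, hdetD, hdetDi, mul_one, mul_inv_cancel₀ hν0]
  obtain ⟨x, hxdef⟩ : ∃ x : Matrix.SpecialLinearGroup (Fin n) F,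
      (x : Matrix (Fin n) (Fin n) F) = D * J * Di := ⟨⟨_, hxdet⟩, rfl⟩
  have hxN : (x : Matrix (Fin n) (Fin n) F) - 1 = D * (J - 1) * Di := by
    rw [hxdef, Matrix.mul_sub, Matrix.sub_mul, Matrix.mul_one, hDDi]
  have hxN2 : ((x : Matrix (Fin n) (Fin n) F) - 1) * ((x : Matrix (Fin n) (Fin n) F) - 1) = 0 := by
    rw [hxN]
    calc D * (J - 1) * Di * (D * (J - 1) * Di)
        = D * ((J - 1) * (Di * D) * (J - 1)) * Di := by simp only [Matrix.mul_assoc]
      _ = 0 := by
          rw [hDiD, Matrix.mul_one, hJ, stdJ_sub_one_sq, Matrix.mul_zero, Matrix.zero_mul]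
  have hx3m : (x : Matrix (Fin n) (Fin n) F) ^ 3 = 1 := by
    have h1 := sub_one_pow_char 3 (x : Matrix (Fin n) (Fin n) F)
    rw [pow_succ, pow_two, hxN2, Matrix.zero_mul] at h1
    exact (sub_eq_zero.1 h1.symm)
  have hx3 : x ^ 3 = 1 := by
    apply Subtype.ext
    rw [Matrix.SpecialLinearGroup.coe_pow, hx3m]
    rfl
  refine ⟨x, ⟨1, ?_⟩, ?_, ?_⟩
  · rw [hx3, one_smul]; rfl
  · intro c hc
    have h1 : ((x : Matrix (Fin n) (Fin n) F) - 1) = (c - 1) • (1 : Matrix (Fin n) (Fin n) F) := by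
      rw [hc, sub_smul, one_smul]
    have h4 : (c - 1) * (c - 1) = 0 := by
      have h5 := hxN2
      rw [h1, Matrix.smul_mul, Matrix.mul_smul, Matrix.one_mul, smul_smul] at h5
      have h6 := congrFun (congrFun h5 i₀) i₀
      simpa using h6
    have h5 : c - 1 = 0 := by
      rcases mul_eq_zero.1 h4 with h | h <;> exact h
    rw [h5, zero_smul, hxN] at h1
    have h6 : J - 1 = Di * (D * (J - 1) * Di) * D := by
      calc J - 1 = (Di * D) * (J - 1) * (Di * D) := by rw [hDiD, Matrix.one_mul, Matrix.mul_one]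
        _ = _ := by simp only [Matrix.mul_assoc]
    rw [h1, Matrix.mul_zero, Matrix.zero_mul] at h6
    exact stdJ_ne_one hm e h6
  · intro P hP
    rw [mem_comap_subfield_iff] at hP
    obtain ⟨c', hc'0, hc'⟩ := hP
    set y : Matrix.SpecialLinearGroup (Fin n) F := P⁻¹ * x * P with hy
    have hy3 : y ^ 3 = 1 := by
      have : y ^ 3 = P⁻¹ * x ^ 3 * P := by rw [pow_three', pow_three', hy]; group
      rw [this, hx3, mul_one, inv_mul_cancel]
    have hy3m : (y : Matrix (Fin n) (Fin n) F) ^ 3 = 1 := by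
      rw [← Matrix.SpecialLinearGroup.coe_pow, hy3]
      rfl
    -- the scalar lies in the subfield
    have hM : ∀ i j, (c' • (y : Matrix (Fin n) (Fin n) F)) i j ∈ F₀ := fun i j => hc' i j
    have hM3 : ((c' • (y : Matrix (Fin n) (Fin n) F)) ^ 3) i₀ i₀ = c' ^ 3 := by
      rw [smul_pow, hy3m, Matrix.smul_apply, Matrix.one_apply_eq, smul_eq_mul, mul_one]
    have hc3 : c' ^ 3 ∈ F₀ := by
      rw [← hM3, pow_succ, pow_two]
      exact mul_mem_entries _ _ (mul_mem_entries _ _ hM hM) hM _ _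
    have hc'F₀ : c' ∈ F₀ := mem_of_cube_mem c' hc3
    have hyF₀ : ∀ i j, (y : Matrix (Fin n) (Fin n) F) i j ∈ F₀ := by
      intro i j
      have : (y : Matrix (Fin n) (Fin n) F) i j = c'⁻¹ * (c' * (y : Matrix (Fin n) (Fin n) F) i j) := by
        rw [← mul_assoc, inv_mul_cancel₀ hc'0, one_mul]
      rw [this]
      exact F₀.mul_mem (F₀.inv_mem hc'F₀) (hc' i j)
    -- the rational form
    let φ : ↥F₀ →+* F := F₀.subtype
    let y₀ : Matrix (Fin n) (Fin n) ↥F₀ := fun i j => ⟨(y : Matrix (Fin n) (Fin n) F) i j, hyF₀ i j⟩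
    have hy₀ : y₀.map φ = (y : Matrix (Fin n) (Fin n) F) := by
      ext i j; rfl
    have hmapinj : Function.Injective (fun M : Matrix (Fin n) (Fin n) ↥F₀ => M.map φ) :=
      Matrix.map_injective (Subtype.val_injective)
    have hnil : IsNilpotent (y₀ - 1) := by
      refine ⟨3, ?_⟩
      apply hmapinj
      show ((y₀ - 1) ^ 3).map φ = (0 : Matrix (Fin n) (Fin n) ↥F₀).map φ
      have h1 : ((y₀ - 1) ^ 3).map φ = (RingHom.mapMatrix φ) ((y₀ - 1) ^ 3) := rfl
      rw [h1, map_pow, map_sub, map_one, RingHom.mapMatrix_apply, hy₀,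
        sub_one_pow_char 3 (y : Matrix (Fin n) (Fin n) F), hy3m, sub_self]
      simp
    -- the types
    have hPm : ((P⁻¹ : Matrix.SpecialLinearGroup (Fin n) F) : Matrix (Fin n) (Fin n) F) *
        (P : Matrix (Fin n) (Fin n) F) = 1 := by
      rw [← Matrix.SpecialLinearGroup.coe_mul, inv_mul_cancel, Matrix.SpecialLinearGroup.coe_one]
    have hPm' : (P : Matrix (Fin n) (Fin n) F) *
        ((P⁻¹ : Matrix.SpecialLinearGroup (Fin n) F) : Matrix (Fin n) (Fin n) F) = 1 := by
      rw [← Matrix.SpecialLinearGroup.coe_mul, mul_inv_cancel, Matrix.SpecialLinearGroup.coe_one]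
    set Pm : Matrix (Fin n) (Fin n) F := (P : Matrix (Fin n) (Fin n) F) with hPmdef
    set Pmi : Matrix (Fin n) (Fin n) F :=
      ((P⁻¹ : Matrix.SpecialLinearGroup (Fin n) F) : Matrix (Fin n) (Fin n) F) with hPmidef
    have hym : (y : Matrix (Fin n) (Fin n) F) = Pmi * (D * J * Di) * Pm := by
      rw [hy, Matrix.SpecialLinearGroup.coe_mul, Matrix.SpecialLinearGroup.coe_mul, hxdef]
    have hconjJy : IsConj J (y : Matrix (Fin n) (Fin n) F) := by
      refine ⟨⟨Pmi * D, Di * Pm, ?_, ?_⟩, ?_⟩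
      · calc Pmi * D * (Di * Pm) = Pmi * (D * Di) * Pm := by simp only [Matrix.mul_assoc]
          _ = 1 := by rw [hDDi, Matrix.mul_one, hPm]
      · calc Di * Pm * (Pmi * D) = Di * (Pm * Pmi) * D := by simp only [Matrix.mul_assoc]
          _ = 1 := by rw [hPm', Matrix.mul_one, hDiD]
      · show Pmi * D * J = (y : Matrix (Fin n) (Fin n) F) * (Pmi * D)
        rw [hym]
        symm
        calc Pmi * (D * J * Di) * Pm * (Pmi * D)
            = Pmi * (D * J) * (Di * ((Pm * Pmi) * D)) := by simp only [Matrix.mul_assoc]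
          _ = Pmi * D * J := by
              rw [hPm', Matrix.one_mul, hDiD, Matrix.mul_one, Matrix.mul_assoc]
    have htyJ : HasType J (Multiset.replicate m 2) := hasType_stdJ e
    have htyy : HasType (y : Matrix (Fin n) (Fin n) F) (Multiset.replicate m 2) :=
      htyJ.of_isConj hconjJy
    obtain ⟨μ₀, hμ₀⟩ := exists_hasType y₀ hnil
    have hμ₀' := HasType.map φ hμ₀
    rw [hy₀] at hμ₀'
    have hμeq : μ₀ = Multiset.replicate m 2 := hμ₀'.unique htyy
    rw [hμeq] at hμ₀
    have htyJ₀ : HasType (stdJ ↥F₀ e) (Multiset.replicate m 2) := hasType_stdJ e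
    obtain ⟨Q₀, hQ₀⟩ := htyJ₀.isConj hμ₀
    have hQ₀' : (Q₀ : Matrix (Fin n) (Fin n) ↥F₀) * stdJ ↥F₀ e = y₀ * Q₀ := hQ₀
    set Q : Matrix (Fin n) (Fin n) F := (Q₀ : Matrix (Fin n) (Fin n) ↥F₀).map φ with hQ
    have hQJ : Q * J = (y : Matrix (Fin n) (Fin n) F) * Q := by
      have h1 := congrArg (fun M : Matrix (Fin n) (Fin n) ↥F₀ => (RingHom.mapMatrix φ) M) hQ₀'
      simp only [map_mul, RingHom.mapMatrix_apply] at h1
      rw [map_stdJ, hy₀] at h1
      exact h1
    have hdetQ : Q.det = φ (Q₀ : Matrix (Fin n) (Fin n) ↥F₀).det := by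
      rw [RingHom.map_det, RingHom.mapMatrix_apply]
    have hdetQ₀ : (Q₀ : Matrix (Fin n) (Fin n) ↥F₀).det ≠ 0 :=
      ((Matrix.isUnit_iff_isUnit_det _).1 Q₀.isUnit).ne_zero
    have hdetQ0 : Q.det ≠ 0 := by
      rw [hdetQ]
      intro h
      exact hdetQ₀ (Subtype.ext h)
    have hdetQsq : IsSquare Q.det := by
      rw [hdetQ]
      exact isSquare_of_mem_subfield h2 q₀ hF₀ hq _ (Q₀ : Matrix (Fin n) (Fin n) ↥F₀).det.2
    -- the centralising element
    have hCJ : (Di * Pm * Q) * J = J * (Di * Pm * Q) := by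
      calc Di * Pm * Q * J = Di * Pm * (Q * J) := by rw [Matrix.mul_assoc]
        _ = Di * (Pm * Pmi) * (D * J * Di) * Pm * Q := by
            rw [hQJ, hym]; simp only [Matrix.mul_assoc]
        _ = (Di * D) * J * Di * Pm * Q := by
            rw [hPm', Matrix.mul_one]; simp only [Matrix.mul_assoc]
        _ = _ := by rw [hDiD, Matrix.one_mul]; simp only [Matrix.mul_assoc]
    have hsq := det_of_commute_stdJ e _ hCJ
    rw [Matrix.det_mul, Matrix.det_mul, hdetDi] at hsq
    have hPdet : Pm.det = 1 := P.2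
    rw [hPdet, mul_one] at hsq
    obtain ⟨r, hr⟩ := hsq
    obtain ⟨s, hs⟩ := hdetQsq
    have hs0 : s ≠ 0 := by
      rintro rfl
      rw [mul_zero] at hs
      exact hdetQ0 hs
    have hr0 : r ≠ 0 := by
      rintro rfl
      rw [mul_zero] at hr
      rcases mul_eq_zero.1 hr with h | h
      · exact inv_ne_zero hν0 h
      · exact hdetQ0 h
    apply hν
    refine ⟨s / r, ?_⟩
    rw [hs] at hr
    field_simp
    have : s * s = ν * (r * r) := by
      rw [← hr]; field_simp
    linear_combination -this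

end Cfsg.Agent.Lib.H11.Subf
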