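import Cfsg.Agent.Lib.H11.Subf8

/-!
# Subfield subgroups, odd `r ≠ p` (part 1): the Frobenius of the subfield and the twisting
condition for conjugacy into the subfield subgroup
-/

set_option autoImplicit false
set_option linter.unusedSectionVars false

namespace Cfsg.Agent.Lib.H11.SubfR

open Matrix Cfsg.Agent.Lib.H11.InvCls Cfsg.Agent.Lib.H11.Subf

variable {F : Type*} [Field F] [Fintype F] {F₀ : Subfield F} {q₀ : ℕ}

/-- the Frobenius `y ↦ y ^ q₀` of a subfield with `q₀` elements, as a ring homomorphism -/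
theorem exists_frob (p : ℕ) [Fact p.Prime] [CharP F p] (hF₀ : Nat.card ↥F₀ = q₀) :
    ∃ σ : F →+* F, ∀ y, σ y = y ^ q₀ := by
  have : Fintype ↥F₀ := Fintype.ofFinite _
  have : CharP ↥F₀ p := RingHom.charP F₀.subtype F₀.subtype.injective p
  obtain ⟨e, -, he⟩ := FiniteField.card ↥F₀ p
  rw [← Nat.card_eq_fintype_card, hF₀] at he
  refine ⟨iterateFrobenius F p e, fun y => ?_⟩
  rw [iterateFrobenius_def, he]

theorem pow_card_of_mem (hF₀ : Nat.card ↥F₀ = q₀) {y : F} (hy : y ∈ F₀) : y ^ q₀ = y := by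
  have : Fintype ↥F₀ := Fintype.ofFinite _
  have h := FiniteField.pow_card (⟨y, hy⟩ : ↥F₀)
  rw [← Nat.card_eq_fintype_card, hF₀] at h
  exact congrArg Subtype.val h

theorem one_lt_card_sub (hF₀ : Nat.card ↥F₀ = q₀) : 1 < q₀ := by
  have : Fintype ↥F₀ := Fintype.ofFinite _
  rw [← hF₀, Nat.card_eq_fintype_card]
  exact Fintype.one_lt_card

/-- the fixed field of the Frobenius -/
theorem mem_of_pow_card (hF₀ : Nat.card ↥F₀ = q₀) {y : F} (hy : y ^ q₀ = y) : y ∈ F₀ := by
  classical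
  have hq₀ : 1 < q₀ := one_lt_card_sub hF₀
  have : Fintype ↥F₀ := Fintype.ofFinite _
  set P : Polynomial F := Polynomial.X ^ q₀ - Polynomial.X with hP
  have hdeg : P.natDegree = q₀ := FiniteField.X_pow_card_sub_X_natDegree_eq F hq₀
  have hP0 : P ≠ 0 := FiniteField.X_pow_card_sub_X_ne_zero F hq₀
  set S : Finset F := (Finset.univ : Finset ↥F₀).image Subtype.val with hS
  have hScard : S.card = q₀ := by
    rw [hS, Finset.card_image_of_injective _ Subtype.val_injective, Finset.card_univ,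
      ← Nat.card_eq_fintype_card, hF₀]
  have hroot : ∀ z : F, z ^ q₀ = z → z ∈ P.roots.toFinset := by
    intro z hz
    rw [Multiset.mem_toFinset, Polynomial.mem_roots hP0, Polynomial.IsRoot.def, hP,
      Polynomial.eval_sub, Polynomial.eval_pow, Polynomial.eval_X, hz, sub_self]
  have hsub : S ⊆ P.roots.toFinset := by
    intro z hz
    rw [hS, Finset.mem_image] at hz
    obtain ⟨w, -, rfl⟩ := hz
    exact hroot _ (pow_card_of_mem hF₀ w.2)
  have hle : P.roots.toFinset.card ≤ S.card := by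
    rw [hScard, ← hdeg]
    exact le_trans (Multiset.toFinset_card_le _) (Polynomial.card_roots' P)
  have heq := Finset.eq_of_subset_of_card_le hsub hle
  have hy' := hroot y hy
  rw [← heq, hS, Finset.mem_image] at hy'
  obtain ⟨w, -, rfl⟩ := hy'
  exact w.2

variable {n : ℕ}

/-- the twisting condition: an element conjugate into the subfield subgroup is conjugate to a
scalar multiple of its Frobenius twist -/
theorem exists_twist (hF₀ : Nat.card ↥F₀ = q₀) (σ : F →+* F) (hσ : ∀ y, σ y = y ^ q₀)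
    (x P : Matrix.SpecialLinearGroup (Fin n) F)
    (h : P⁻¹ * x * P ∈ (Cfsg.Geo.subfieldSubgroup F₀ (1 : GL (Fin n) F)).comap
      (Matrix.SpecialLinearGroup.toGL : Matrix.SpecialLinearGroup (Fin n) F →* GL (Fin n) F)) :
    ∃ η : F, η ≠ 0 ∧ ∃ B Bi : Matrix (Fin n) (Fin n) F, B * Bi = 1 ∧
      (x : Matrix (Fin n) (Fin n) F).map σ * B = B * (η • (x : Matrix (Fin n) (Fin n) F)) := by
  rw [mem_comap_subfield_iff] at h
  obtain ⟨c, hc0, hc⟩ := h
  set Pm : Matrix (Fin n) (Fin n) F := (P : Matrix (Fin n) (Fin n) F) with hPm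
  set Pi : Matrix (Fin n) (Fin n) F :=
    ((P⁻¹ : Matrix.SpecialLinearGroup (Fin n) F) : Matrix (Fin n) (Fin n) F) with hPi
  have hPPi : Pm * Pi = 1 := by
    rw [hPm, hPi, ← Matrix.SpecialLinearGroup.coe_mul, mul_inv_cancel,
      Matrix.SpecialLinearGroup.coe_one]
  have hPiP : Pi * Pm = 1 := mul_eq_one_comm.mp hPPi
  set g : Matrix (Fin n) (Fin n) F := Pi * (x : Matrix (Fin n) (Fin n) F) * Pm with hg
  have hgc : ∀ i j, c * g i j ∈ F₀ := by
    intro i j
    have := hc i j
    rwa [Matrix.SpecialLinearGroup.coe_mul, Matrix.SpecialLinearGroup.coe_mul] at this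
  have hσc0 : σ c ≠ 0 := by
    rw [hσ]; exact pow_ne_zero _ hc0
  -- `g^σ = (c / σ c) g`
  have hgσ : g.map σ = (c / σ c) • g := by
    ext i j
    rw [Matrix.map_apply, Matrix.smul_apply, smul_eq_mul]
    have h1 : σ (c * g i j) = c * g i j := by
      rw [hσ]; exact pow_card_of_mem hF₀ (hgc i j)
    rw [map_mul] at h1
    field_simp
    linear_combination h1
  have hmapmul : ∀ A B : Matrix (Fin n) (Fin n) F, (A * B).map σ = A.map σ * B.map σ :=
    fun A B => Matrix.map_mul
  have hone : (1 : Matrix (Fin n) (Fin n) F).map σ = 1 := by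
    rw [Matrix.map_one σ (map_zero σ) (map_one σ)]
  have h1 : Pm.map σ * Pi.map σ = 1 := by rw [← hmapmul, hPPi, hone]
  have h2 : Pi.map σ * Pm.map σ = 1 := by rw [← hmapmul, hPiP, hone]
  have h3 : g.map σ = Pi.map σ * (x : Matrix (Fin n) (Fin n) F).map σ * Pm.map σ := by
    rw [hg, hmapmul, hmapmul]
  refine ⟨c / σ c, div_ne_zero hc0 hσc0, Pm.map σ * Pi, Pm * Pi.map σ, ?_, ?_⟩
  · calc Pm.map σ * Pi * (Pm * Pi.map σ) = Pm.map σ * (Pi * Pm) * Pi.map σ := by
          simp only [Matrix.mul_assoc]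
      _ = 1 := by rw [hPiP, Matrix.mul_one, h1]
  · have h4 : (x : Matrix (Fin n) (Fin n) F).map σ * Pm.map σ = Pm.map σ * g.map σ := by
      rw [h3, ← Matrix.mul_assoc, ← Matrix.mul_assoc, h1, Matrix.one_mul]
    calc (x : Matrix (Fin n) (Fin n) F).map σ * (Pm.map σ * Pi)
        = (x : Matrix (Fin n) (Fin n) F).map σ * Pm.map σ * Pi := by rw [Matrix.mul_assoc]
      _ = Pm.map σ * ((c / σ c) • g) * Pi := by rw [h4, hgσ]
      _ = Pm.map σ * Pi * ((c / σ c) • (x : Matrix (Fin n) (Fin n) F)) := by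
          rw [hg, Matrix.mul_smul, Matrix.smul_mul, Matrix.mul_smul]
          congr 1
          calc Pm.map σ * (Pi * (x : Matrix (Fin n) (Fin n) F) * Pm) * Pi
              = Pm.map σ * Pi * (x : Matrix (Fin n) (Fin n) F) * (Pm * Pi) := by
                simp only [Matrix.mul_assoc]
            _ = _ := by rw [hPPi, Matrix.mul_one]

end Cfsg.Agent.Lib.H11.SubfR
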