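import Cfsg.Agent.Lib.H11.SubfR10

/-!
# Subfield subgroups, odd `r ≠ p` (part 11): fusion into the subfield subgroup when
`ord_r q = ord_r q₀`
-/

set_option autoImplicit false
set_option linter.unusedSectionVars false

namespace Cfsg.Agent.Lib.H11.SubfR

open Matrix Polynomial Module Cfsg.Agent.Lib.H11.InvCls Cfsg.Agent.Lib.H13
  Cfsg.Agent.Lib.H24.Elus Cfsg.Agent.Lib.H11.Subf

theorem map_pow_eq' {K L : Type*} [Field K] [Field L] {n : ℕ} (ι : K →+* L)
    (x : Matrix (Fin n) (Fin n) K) (k : ℕ) : (x ^ k).map ι = (x.map ι) ^ k := by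
  have h1 : ∀ y : Matrix (Fin n) (Fin n) K, y.map ι = ι.mapMatrix y := fun _ => rfl
  rw [h1, h1, map_pow]

variable {F : Type*} [Field F] [Fintype F] {p q : ℕ} [Fact p.Prime] [CharP F p]
  {F₀ : Subfield F} {q₀ : ℕ}

/-- if `q` and `q₀` have the same order modulo `r`, every element of `SL_n(q)` whose `r`-th power
is the scalar `μ ^ r` is conjugate into the subfield subgroup -/
theorem conj_subfield_of_order_eq (hq : Fintype.card F = q) (hF₀ : Nat.card ↥F₀ = q₀) (r : ℕ)
    [Fact r.Prime] (hrp : r ≠ p) (hord : orderOf (q : ZMod r) = orderOf (q₀ : ZMod r))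
    (n : ℕ) (hn : 0 < n) (x : Matrix.SpecialLinearGroup (Fin n) F) (μ : F) (hμ : μ ≠ 0)
    (hx : (x : Matrix (Fin n) (Fin n) F) ^ r = μ ^ r • 1) :
    ∃ P : Matrix.SpecialLinearGroup (Fin n) F, P⁻¹ * x * P ∈
      (Cfsg.Geo.subfieldSubgroup F₀ (1 : GL (Fin n) F)).comap
        (Matrix.SpecialLinearGroup.toGL :
          Matrix.SpecialLinearGroup (Fin n) F →* GL (Fin n) F) := by
  classical
  have hr : r.Prime := Fact.out
  have : Fintype ↥F₀ := Fintype.ofFinite _
  have : CharP ↥F₀ p := RingHom.charP F₀.subtype F₀.subtype.injective p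
  have hq₀c : Fintype.card ↥F₀ = q₀ := by rw [← Nat.card_eq_fintype_card, hF₀]
  set ι : ↥F₀ →+* F := F₀.subtype with hι
  have hιinj : Function.Injective ι := F₀.subtype.injective
  set u : Matrix (Fin n) (Fin n) F := μ⁻¹ • (x : Matrix (Fin n) (Fin n) F) with hu
  have hxu : (x : Matrix (Fin n) (Fin n) F) = μ • u := by
    rw [hu, smul_smul, mul_inv_cancel₀ hμ, one_smul]
  have hur : u ^ r = 1 := by
    rw [hu, _root_.smul_pow, hx, smul_smul, inv_pow, inv_mul_cancel₀ (pow_ne_zero _ hμ), one_smul]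
  -- the family of factors over the subfield, and its base change
  set f₀ : Option (CycFactor.S r ↥F₀) → (↥F₀)[X] := CycFactor.fJ (F := ↥F₀) r with hf₀
  set f' : Option (CycFactor.S r ↥F₀) → F[X] := fun j => (f₀ j).map ι with hf'
  have hdeg' : ∀ j, (f' j).natDegree = (f₀ j).natDegree := fun j =>
    Polynomial.natDegree_map_eq_of_injective hιinj _
  have hirr₀ := CycFactor.irreducible_fJ (F := ↥F₀) (r := r)
  have hcop₀ := CycFactor.coprime_fJ (F := ↥F₀) hr hrp
  have hprod₀ := CycFactor.prod_fJ (F := ↥F₀) hr hrp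
  have hirr' : ∀ j, Irreducible (f' j) := by
    intro j
    cases j with
    | none =>
      have : f' none = X - C 1 := by
        show (X - 1 : (↥F₀)[X]).map ι = _
        rw [Polynomial.map_sub, Polynomial.map_X, Polynomial.map_one, map_one]
      rw [this]
      exact irreducible_X_sub_C 1
    | some s =>
      apply irreducible_of_dvd_cyclotomic_of_deg hq hr hrp
      · have := Polynomial.map_dvd ι (CycFactor.dvd_S s)
        rwa [map_cyclotomic] at this
      · rw [hdeg' (some s), hord]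
        exact CycFactor.natDegree_fJ_some hq₀c hr hrp s
  have hcop' : ∀ i j, i ≠ j → IsCoprime (f' i) (f' j) := by
    intro i j hij
    exact (hcop₀ i j hij).map (Polynomial.mapRingHom ι)
  have hprod' : ∏ j, f' j = X ^ r - 1 := by
    have h1 : ∏ j, f' j = (∏ j, f₀ j).map ι := (Polynomial.map_prod ι _ _).symm
    rw [h1, hprod₀, Polynomial.map_sub, Polynomial.map_pow, Polynomial.map_X, Polynomial.map_one]
  -- multiplicities
  have hdvd : ∀ j, (f₀ j).natDegree ∣ GLPrime.mu f' u j := fun j => by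
    rw [← hdeg' j]
    exact GLPrime.dvd_mu f' hirr' u j
  choose m hm using hdvd
  have hsum : ∑ j, m j * (f₀ j).natDegree = n := by
    rw [← GLPrime.sum_mu f' hcop' hprod' u hur]
    exact Finset.sum_congr rfl (fun j _ => by rw [hm j, mul_comm])
  obtain ⟨y, hy, hymu⟩ := GLPrime.exists_of_mu (n := n) f₀ hirr₀ hcop₀ hprod₀ hr.pos m hsum
  set yι : Matrix (Fin n) (Fin n) F := (y : Matrix (Fin n) (Fin n) ↥F₀).map ι with hyι
  have hyr : yι ^ r = 1 := by
    rw [hyι, ← map_pow_eq', hy, Matrix.map_one ι (map_zero ι) (map_one ι)]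
  have hmueq : ∀ j, GLPrime.mu f' u j = GLPrime.mu f' yι j := by
    intro j
    have h1 : GLPrime.mu f' yι j = GLPrime.mu f₀ (y : Matrix (Fin n) (Fin n) ↥F₀) j :=
      finrank_ker_map ι (y : Matrix (Fin n) (Fin n) ↥F₀) (f₀ j)
    rw [h1, hymu j, hm j, mul_comm]
  have hur1 : u ^ r = (1 : F) • 1 := by rw [hur, one_smul]
  have hyr1 : yι ^ r = (1 : F) • 1 := by rw [hyr, one_smul]
  have hconj := GLPrime.conj_of_mu_eq f' hirr' hcop' hprod'
    (PGLPrime.glOfPow u 1 one_ne_zero hr.pos hur1) (PGLPrime.glOfPow yι 1 one_ne_zero hr.pos hyr1)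
    hur hyr hmueq
  rw [isConj_iff] at hconj
  obtain ⟨c, hc⟩ := hconj
  have hc1 : (c : Matrix (Fin n) (Fin n) F) * u = yι * (c : Matrix (Fin n) (Fin n) F) := by
    have h1 : c * PGLPrime.glOfPow u 1 one_ne_zero hr.pos hur1 =
        PGLPrime.glOfPow yι 1 one_ne_zero hr.pos hyr1 * c := by
      rw [← hc, inv_mul_cancel_right]
    have h2 := congrArg Units.val h1
    rwa [Units.val_mul, Units.val_mul, PGLPrime.glOfPow_val, PGLPrime.glOfPow_val] at h2
  have hcinv : (c : Matrix (Fin n) (Fin n) F) * ((c⁻¹ : GL (Fin n) F) : Matrix (Fin n) (Fin n) F)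
      = 1 := by
    rw [← Units.val_mul, mul_inv_cancel, Units.val_one]
  refine exists_conj_mem_comap _ x (μ • yι) (c : Matrix (Fin n) (Fin n) F)
    ((c⁻¹ : GL (Fin n) F) : Matrix (Fin n) (Fin n) F) hcinv ?_ ?_ ?_
  · rw [hxu, Matrix.mul_smul, hc1, Matrix.smul_mul]
  · intro g hg
    rw [mem_subfield_one_iff]
    refine ⟨μ⁻¹, inv_ne_zero hμ, fun i j => ?_⟩
    rw [hg, Matrix.smul_apply, smul_eq_mul, ← mul_assoc, inv_mul_cancel₀ hμ, one_mul]
    exact ((y : Matrix (Fin n) (Fin n) ↥F₀) i j).2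
  · obtain ⟨C, hC, hCdet⟩ := exists_commute_det f' hirr' hcop' hn u (by
      rw [hprod']; exact GLPrime.aeval_of_pow u hur) (c : Matrix (Fin n) (Fin n) F).det
    refine ⟨C, ?_, hCdet⟩
    rw [hxu, Matrix.mul_smul, Matrix.smul_mul, hC]

end Cfsg.Agent.Lib.H11.SubfR
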