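import Mathlib

/-!
# Subfield subgroups, odd `r ≠ p` (part 12): combinatorics of multiplicity functions on
`ZMod 3` and `ZMod 5`
-/

set_option autoImplicit false

namespace Cfsg.Agent.Lib.H11.SubfR

theorem zmod3_cases : ∀ t : ZMod 3, t = 0 ∨ t = 1 ∨ t = 2 := by decide

theorem zmod5_cases : ∀ t : ZMod 5, t = 0 ∨ t = 1 ∨ t = 2 ∨ t = 3 ∨ t = 4 := by decide

theorem comb5_aux : ∀ a0 : Fin 6, ∀ a1 : Fin 6, ∀ a2 : Fin 6, ∀ a3 : Fin 6, ∀ a4 : Fin 6,
    a0.val + a1.val + a2.val + a3.val + a4.val = 5 →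
    (a1.val + 2 * a2.val + 3 * a3.val + 4 * a4.val) % 5 = 0 →
    (a1 = a4 ∧ a2 = a3) ∨ (a0 = a2 ∧ a4 = a3) ∨ (a3 = a1 ∧ a4 = a0) ∨ (a4 = a2 ∧ a0 = a1) ∨
      (a0 = a3 ∧ a1 = a2) := by
  decide

theorem comb5 (a0 a1 a2 a3 a4 : ℕ) (h1 : a0 + a1 + a2 + a3 + a4 = 5)
    (h2 : (a1 + 2 * a2 + 3 * a3 + 4 * a4) % 5 = 0) :
    (a1 = a4 ∧ a2 = a3) ∨ (a0 = a2 ∧ a4 = a3) ∨ (a3 = a1 ∧ a4 = a0) ∨ (a4 = a2 ∧ a0 = a1) ∨
      (a0 = a3 ∧ a1 = a2) := by
  have := comb5_aux ⟨a0, by omega⟩ ⟨a1, by omega⟩ ⟨a2, by omega⟩ ⟨a3, by omega⟩ ⟨a4, by omega⟩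
    h1 h2
  simpa [Fin.ext_iff] using this

/-- a multiplicity function on `ZMod 3` of total `3` and weighted sum `0` has a centre of
symmetry -/
theorem exists_center_three (m : ZMod 3 → ℕ) (hsum : ∑ t, m t = 3)
    (hw : ∑ t : ZMod 3, m t • t = 0) : ∃ c : ZMod 3, ∀ t, m (c + t) = m (c - t) := by
  have h1 : m 0 + m 1 + m 2 = 3 := (Fin.sum_univ_three m).symm.trans hsum
  have h2 : (m 0 • (0 : ZMod 3) + m 1 • (1 : ZMod 3) + m 2 • (2 : ZMod 3)) = 0 :=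
    (Fin.sum_univ_three (fun t : ZMod 3 => m t • t)).symm.trans hw
  have h3 : ((m 1 + 2 * m 2 : ℕ) : ZMod 3) = 0 := by
    rw [← h2]
    simp only [nsmul_eq_mul, mul_zero, mul_one, zero_add]
    push_cast
    ring
  rw [ZMod.natCast_eq_zero_iff] at h3
  have h4 : m 1 = m 2 ∨ m 2 = m 0 ∨ m 0 = m 1 := by omega
  rcases h4 with h | h | h
  · refine ⟨0, fun t => ?_⟩
    rcases zmod3_cases t with rfl | rfl | rfl
    · rfl
    · exact h
    · exact h.symm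
  · refine ⟨1, fun t => ?_⟩
    rcases zmod3_cases t with rfl | rfl | rfl
    · rfl
    · exact h
    · exact h.symm
  · refine ⟨2, fun t => ?_⟩
    rcases zmod3_cases t with rfl | rfl | rfl
    · rfl
    · exact h
    · exact h.symm

/-- a multiplicity function on `ZMod 5` of total `5` and weighted sum `0` has a centre of
symmetry -/
theorem exists_center_five (m : ZMod 5 → ℕ) (hsum : ∑ t, m t = 5)
    (hw : ∑ t : ZMod 5, m t • t = 0) : ∃ c : ZMod 5, ∀ t, m (c + t) = m (c - t) := by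
  have h1 : m 0 + m 1 + m 2 + m 3 + m 4 = 5 := (Fin.sum_univ_five m).symm.trans hsum
  have h2 : (m 0 • (0 : ZMod 5) + m 1 • (1 : ZMod 5) + m 2 • (2 : ZMod 5) + m 3 • (3 : ZMod 5) +
      m 4 • (4 : ZMod 5)) = 0 :=
    (Fin.sum_univ_five (fun t : ZMod 5 => m t • t)).symm.trans hw
  have h3 : ((m 1 + 2 * m 2 + 3 * m 3 + 4 * m 4 : ℕ) : ZMod 5) = 0 := by
    rw [← h2]
    simp only [nsmul_eq_mul, mul_zero, mul_one, zero_add]
    push_cast
    ring
  rw [ZMod.natCast_eq_zero_iff] at h3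
  have h4 := comb5 (m 0) (m 1) (m 2) (m 3) (m 4) h1 (Nat.mod_eq_zero_of_dvd h3)
  rcases h4 with ⟨ha, hb⟩ | ⟨ha, hb⟩ | ⟨ha, hb⟩ | ⟨ha, hb⟩ | ⟨ha, hb⟩
  · refine ⟨0, fun t => ?_⟩
    rcases zmod5_cases t with rfl | rfl | rfl | rfl | rfl
    · rfl
    · exact ha
    · exact hb
    · exact hb.symm
    · exact ha.symm
  · refine ⟨1, fun t => ?_⟩
    rcases zmod5_cases t with rfl | rfl | rfl | rfl | rfl
    · rfl
    · exact ha.symm
    · exact hb.symm
    · exact hb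
    · exact ha
  · refine ⟨2, fun t => ?_⟩
    rcases zmod5_cases t with rfl | rfl | rfl | rfl | rfl
    · rfl
    · exact ha
    · exact hb
    · exact hb.symm
    · exact ha.symm
  · refine ⟨3, fun t => ?_⟩
    rcases zmod5_cases t with rfl | rfl | rfl | rfl | rfl
    · rfl
    · exact ha
    · exact hb
    · exact hb.symm
    · exact ha.symm
  · refine ⟨4, fun t => ?_⟩
    rcases zmod5_cases t with rfl | rfl | rfl | rfl | rfl
    · rfl
    · exact ha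
    · exact hb
    · exact hb.symm
    · exact ha.symm

/-- odd functions on `ZMod 3` with prescribed symmetric fibre sizes -/
theorem exists_odd_fibers_three (m : ZMod 3 → ℕ) (hsum : ∑ t, m t = 3)
    (hsym : ∀ t, m (-t) = m t) :
    ∃ b : ZMod 3 → ZMod 3, (∀ t, b (-t) = - b t) ∧
      ∀ t, (Finset.univ.filter (fun j => b j = t)).card = m t := by
  have h1 : m 0 + m 1 + m 2 = 3 := (Fin.sum_univ_three m).symm.trans hsum
  have h12 : m 2 = m 1 := hsym 1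
  have h4 : (m 0 = 3 ∧ m 1 = 0) ∨ (m 0 = 1 ∧ m 1 = 1) := by omega
  rcases h4 with ⟨h0, h1'⟩ | ⟨h0, h1'⟩
  · refine ⟨![0, 0, 0], by decide, fun t => ?_⟩
    rcases zmod3_cases t with rfl | rfl | rfl
    · rw [h0]; decide
    · rw [h1']; decide
    · rw [h12, h1']; decide
  · refine ⟨![0, 1, 2], by decide, fun t => ?_⟩
    rcases zmod3_cases t with rfl | rfl | rfl
    · rw [h0]; decide
    · rw [h1']; decide
    · rw [h12, h1']; decide

/-- odd functions on `ZMod 5` with prescribed symmetric fibre sizes -/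
theorem exists_odd_fibers_five (m : ZMod 5 → ℕ) (hsum : ∑ t, m t = 5)
    (hsym : ∀ t, m (-t) = m t) :
    ∃ b : ZMod 5 → ZMod 5, (∀ t, b (-t) = - b t) ∧
      ∀ t, (Finset.univ.filter (fun j => b j = t)).card = m t := by
  have h1 : m 0 + m 1 + m 2 + m 3 + m 4 = 5 := (Fin.sum_univ_five m).symm.trans hsum
  have h14 : m 4 = m 1 := hsym 1
  have h23 : m 3 = m 2 := hsym 2
  have h4 : (m 0 = 5 ∧ m 1 = 0 ∧ m 2 = 0) ∨ (m 0 = 3 ∧ m 1 = 1 ∧ m 2 = 0) ∨
      (m 0 = 3 ∧ m 1 = 0 ∧ m 2 = 1) ∨ (m 0 = 1 ∧ m 1 = 2 ∧ m 2 = 0) ∨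
      (m 0 = 1 ∧ m 1 = 1 ∧ m 2 = 1) ∨ (m 0 = 1 ∧ m 1 = 0 ∧ m 2 = 2) := by omega
  rcases h4 with ⟨h0, h1', h2'⟩ | ⟨h0, h1', h2'⟩ | ⟨h0, h1', h2'⟩ | ⟨h0, h1', h2'⟩ |
    ⟨h0, h1', h2'⟩ | ⟨h0, h1', h2'⟩
  · refine ⟨![0, 0, 0, 0, 0], by decide, fun t => ?_⟩
    rcases zmod5_cases t with rfl | rfl | rfl | rfl | rfl
    · rw [h0]; decide
    · rw [h1']; decide
    · rw [h2']; decide
    · rw [h23, h2']; decide
    · rw [h14, h1']; decide
  · refine ⟨![0, 1, 0, 0, 4], by decide, fun t => ?_⟩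
    rcases zmod5_cases t with rfl | rfl | rfl | rfl | rfl
    · rw [h0]; decide
    · rw [h1']; decide
    · rw [h2']; decide
    · rw [h23, h2']; decide
    · rw [h14, h1']; decide
  · refine ⟨![0, 2, 0, 0, 3], by decide, fun t => ?_⟩
    rcases zmod5_cases t with rfl | rfl | rfl | rfl | rfl
    · rw [h0]; decide
    · rw [h1']; decide
    · rw [h2']; decide
    · rw [h23, h2']; decide
    · rw [h14, h1']; decide
  · refine ⟨![0, 1, 1, 4, 4], by decide, fun t => ?_⟩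
    rcases zmod5_cases t with rfl | rfl | rfl | rfl | rfl
    · rw [h0]; decide
    · rw [h1']; decide
    · rw [h2']; decide
    · rw [h23, h2']; decide
    · rw [h14, h1']; decide
  · refine ⟨![0, 1, 2, 3, 4], by decide, fun t => ?_⟩
    rcases zmod5_cases t with rfl | rfl | rfl | rfl | rfl
    · rw [h0]; decide
    · rw [h1']; decide
    · rw [h2']; decide
    · rw [h23, h2']; decide
    · rw [h14, h1']; decide
  · refine ⟨![0, 2, 2, 3, 3], by decide, fun t => ?_⟩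
    rcases zmod5_cases t with rfl | rfl | rfl | rfl | rfl
    · rw [h0]; decide
    · rw [h1']; decide
    · rw [h2']; decide
    · rw [h23, h2']; decide
    · rw [h14, h1']; decide

end Cfsg.Agent.Lib.H11.SubfR
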