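import Cfsg.Agent.Lib.H11.SubfR11
import Cfsg.Agent.Lib.H11.SubfR12

/-!
# Subfield subgroups, odd `r ≠ p` (part 13): descent of diagonal matrices with inversion-symmetric
spectrum to the subfield of index two (discrete Fourier transform)
-/

set_option autoImplicit false
set_option linter.unusedSectionVars false

namespace Cfsg.Agent.Lib.H11.SubfR

open Matrix Polynomial Module Cfsg.Agent.Lib.H11.InvCls Cfsg.Agent.Lib.H13

variable {F : Type*} [Field F] {n r : ℕ} [NeZero r]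

/-- orthogonality of characters of `ZMod r` -/
theorem sum_zp_mul (ζ : F) (hζ : IsPrimitiveRoot ζ r) (c : ZMod r) :
    ∑ t : ZMod r, PGLPrime.zp ζ (c * t) = if c = 0 then (r : F) else 0 := by
  by_cases hc : c = 0
  · rw [if_pos hc, hc]
    simp only [zero_mul, PGLPrime.zp_zero, Finset.sum_const, Finset.card_univ, ZMod.card,
      nsmul_eq_mul, mul_one]
  · rw [if_neg hc]
    set S := ∑ t : ZMod r, PGLPrime.zp ζ (c * t) with hS
    have h1 : PGLPrime.zp ζ c * S = S := by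
      rw [hS, Finset.mul_sum]
      rw [← Equiv.sum_comp (Equiv.addLeft (1 : ZMod r)) (fun t => PGLPrime.zp ζ (c * t))]
      apply Finset.sum_congr rfl
      intro t _
      rw [← PGLPrime.zp_add ζ hζ.pow_eq_one, Equiv.coe_addLeft, mul_add, mul_one]
    have h2 : PGLPrime.zp ζ c ≠ 1 := by
      intro h
      rw [← PGLPrime.zp_zero (r := r) ζ] at h
      exact hc (PGLPrime.zp_injective ζ hζ h)
    have h3 : (PGLPrime.zp ζ c - 1) * S = 0 := by rw [sub_mul, h1, one_mul, sub_self]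
    rcases mul_eq_zero.mp h3 with h | h
    · exact absurd (sub_eq_zero.mp h) h2
    · exact h

/-- the Fourier matrix -/
noncomputable def dftV (ζ : F) (e₀ : Fin n ≃ ZMod r) : Matrix (Fin n) (Fin n) F :=
  fun i j => PGLPrime.zp ζ (e₀ i * e₀ j)

/-- the inverse Fourier matrix -/
noncomputable def dftVi (ζ : F) (e₀ : Fin n ≃ ZMod r) : Matrix (Fin n) (Fin n) F :=
  fun i j => (r : F)⁻¹ * PGLPrime.zp ζ (-(e₀ i * e₀ j))

theorem dftV_mul_dftVi (ζ : F) (hζ : IsPrimitiveRoot ζ r) (hr0 : (r : F) ≠ 0)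
    (e₀ : Fin n ≃ ZMod r) : dftV ζ e₀ * dftVi ζ e₀ = 1 := by
  ext i l
  rw [Matrix.mul_apply]
  have h1 : ∀ j, dftV ζ e₀ i j * dftVi ζ e₀ j l =
      (r : F)⁻¹ * PGLPrime.zp ζ ((e₀ i - e₀ l) * e₀ j) := by
    intro j
    rw [dftV, dftVi, mul_left_comm, ← PGLPrime.zp_add ζ hζ.pow_eq_one]
    congr 2
    ring
  rw [Finset.sum_congr rfl (fun j _ => h1 j), ← Finset.mul_sum,
    Equiv.sum_comp e₀ (fun t => PGLPrime.zp ζ ((e₀ i - e₀ l) * t)), sum_zp_mul ζ hζ,
    Matrix.one_apply]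
  by_cases hil : i = l
  · rw [if_pos hil, hil, sub_self, if_pos rfl, inv_mul_cancel₀ hr0]
  · rw [if_neg hil, if_neg, mul_zero]
    intro h
    exact hil (e₀.injective (sub_eq_zero.mp h))

variable [Fintype F] {F₀ : Subfield F} {q₀ : ℕ}

/-- the Fourier conjugate of a diagonal matrix with odd exponent function is defined over the
subfield of index two -/
theorem exists_descent (hF₀ : Nat.card ↥F₀ = q₀) (ζ : F) (hζ : IsPrimitiveRoot ζ r)
    (hr0 : (r : F) ≠ 0) (hζq : ∀ t : ZMod r, PGLPrime.zp ζ t ^ q₀ = PGLPrime.zp ζ (-t))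
    (e₀ : Fin n ≃ ZMod r) (b : ZMod r → ZMod r) (hb : ∀ t, b (-t) = - b t) :
    ∃ y V Vi : Matrix (Fin n) (Fin n) F, V * Vi = 1 ∧ y * V = V * dg ζ (fun j => b (e₀ j)) ∧
      ∀ i l, y i l ∈ F₀ := by
  have hVVi := dftV_mul_dftVi ζ hζ hr0 e₀
  have hViV : dftVi ζ e₀ * dftV ζ e₀ = 1 := mul_eq_one_comm.mp hVVi
  refine ⟨dftV ζ e₀ * dg ζ (fun j => b (e₀ j)) * dftVi ζ e₀, dftV ζ e₀, dftVi ζ e₀, hVVi, ?_, ?_⟩
  · rw [Matrix.mul_assoc, hViV, Matrix.mul_one]
  · intro i l
    apply mem_of_pow_card hF₀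
    rw [Matrix.mul_apply]
    set T : Fin n → F := fun j =>
      (dftV ζ e₀ * dg ζ (fun j => b (e₀ j))) i j * dftVi ζ e₀ j l with hT
    have hTj : ∀ j, T j = PGLPrime.zp ζ (e₀ i * e₀ j) * PGLPrime.zp ζ (b (e₀ j)) *
        ((r : F)⁻¹ * PGLPrime.zp ζ (-(e₀ j * e₀ l))) := by
      intro j
      rw [hT]
      simp only
      rw [dg, Matrix.mul_diagonal]
      rfl
    set ν : Fin n ≃ Fin n := e₀.trans ((Equiv.neg (ZMod r)).trans e₀.symm) with hν
    have hνe : ∀ j, e₀ (ν j) = - e₀ j := by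
      intro j
      rw [hν]
      simp
    have hrq : ((r : F)⁻¹) ^ q₀ = (r : F)⁻¹ := by
      have hmem : (r : F)⁻¹ ∈ F₀ := F₀.inv_mem (natCast_mem F₀ r)
      exact pow_card_of_mem hF₀ hmem
    have hpow : ∀ j, T j ^ q₀ = T (ν j) := by
      intro j
      rw [hTj, hTj, mul_pow, mul_pow, mul_pow, hζq, hζq, hζq, hrq, hνe, hb]
      congr 2
      · congr 1; ring
      · congr 2; ring
    have hfrob : (∑ j, T j) ^ q₀ = ∑ j, T j ^ q₀ := by
      obtain ⟨σ, hσ⟩ : ∃ σ : F →+* F, ∀ y, σ y = y ^ q₀ := by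
        obtain ⟨p, hp⟩ := CharP.exists F
        have hpp : p.Prime := by
          rcases CharP.char_is_prime_or_zero F p with h | h
          · exact h
          · exfalso
            subst h
            have := CharP.charP_to_charZero F
            exact not_finite F
        have : Fact p.Prime := ⟨hpp⟩
        exact exists_frob p hF₀
      rw [← hσ, map_sum]
      exact Finset.sum_congr rfl (fun j _ => hσ _)
    rw [hfrob, Finset.sum_congr rfl (fun j _ => hpow j), Equiv.sum_comp ν T]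

end Cfsg.Agent.Lib.H11.SubfR
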