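import Cfsg.Agent.Lib.H11.SubfR13

/-!
# Subfield subgroups, odd `r ≠ p` (part 14): fusion into the subfield subgroup of index two in
degree `r ∈ {3, 5}`
-/

set_option autoImplicit false
set_option linter.unusedSectionVars false

namespace Cfsg.Agent.Lib.H11.SubfR

open Matrix Polynomial Module Cfsg.Agent.Lib.H11.InvCls Cfsg.Agent.Lib.H13
  Cfsg.Agent.Lib.H11.Subf

variable {F : Type*} [Field F] [Fintype F] {F₀ : Subfield F} {q₀ : ℕ}

theorem conj_subfield_symm_aux (hF₀ : Nat.card ↥F₀ = q₀) (r : ℕ) [Fact r.Prime]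
    (hr0 : (r : F) ≠ 0) (ζ : F) (hζ : IsPrimitiveRoot ζ r) (hs : (q₀ : ZMod r) = -1)
    (hcenter : ∀ m : ZMod r → ℕ, ∑ t, m t = r → ∑ t : ZMod r, m t • t = 0 →
      ∃ c : ZMod r, ∀ t, m (c + t) = m (c - t))
    (hodd : ∀ m : ZMod r → ℕ, ∑ t, m t = r → (∀ t, m (-t) = m t) →
      ∃ b : ZMod r → ZMod r, (∀ t, b (-t) = - b t) ∧
        ∀ t, (Finset.univ.filter (fun j => b j = t)).card = m t)
    (n : ℕ) (hn : n = r) (x : Matrix.SpecialLinearGroup (Fin n) F)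
    (hx : (x : Matrix (Fin n) (Fin n) F) ^ r = 1) :
    ∃ P : Matrix.SpecialLinearGroup (Fin n) F, P⁻¹ * x * P ∈
      (Cfsg.Geo.subfieldSubgroup F₀ (1 : GL (Fin n) F)).comap
        (Matrix.SpecialLinearGroup.toGL :
          Matrix.SpecialLinearGroup (Fin n) F →* GL (Fin n) F) := by
  classical
  subst hn
  have hr : n.Prime := Fact.out
  have hζ1 : ζ ^ n = 1 := hζ.pow_eq_one
  have hζq : ∀ t : ZMod n, PGLPrime.zp ζ t ^ q₀ = PGLPrime.zp ζ (-t) := by
    intro t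
    rw [← zp_natCast_mul ζ hζ1, hs, neg_one_mul]
  set xm : Matrix (Fin n) (Fin n) F := (x : Matrix (Fin n) (Fin n) F) with hxm
  have hx1 : xm ^ n = (1 : F) • 1 := by rw [hx, one_smul]
  -- the weighted sum of the multiplicities vanishes
  have hw : ∑ t : ZMod n, PGLPrime.mult ζ xm t • t = 0 := by
    have hdet : xm.det = 1 := x.2
    have h1 := det_eq_zp ζ hζ (PGLPrime.glOfPow xm 1 one_ne_zero hr.pos hx1) hx
    rw [PGLPrime.glOfPow_val, hdet] at h1
    have h2 : PGLPrime.zp ζ (0 : ZMod n) =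
        PGLPrime.zp ζ (∑ t : ZMod n, PGLPrime.mult ζ xm t • t) := by
      rw [PGLPrime.zp_zero]; exact h1
    exact (PGLPrime.zp_injective ζ hζ h2).symm
  obtain ⟨c₀, hc₀⟩ := hcenter (PGLPrime.mult ζ xm) (PGLPrime.sum_mult ζ hζ xm hx1) hw
  -- the shifted element
  set x' : Matrix (Fin n) (Fin n) F := PGLPrime.zp ζ (-c₀) • xm with hx'
  have hx'r : x' ^ n = 1 := by
    rw [hx', _root_.smul_pow, PGLPrime.zp_pow ζ hζ1, hx, one_smul]
  have hx'1 : x' ^ n = (1 : F) • 1 := by rw [hx'r, one_smul]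
  have hxx' : xm = PGLPrime.zp ζ c₀ • x' := by
    rw [hx', smul_smul, ← PGLPrime.zp_add ζ hζ1, add_neg_cancel, PGLPrime.zp_zero, one_smul]
  have hm' : ∀ t : ZMod n, PGLPrime.mult ζ x' t = PGLPrime.mult ζ xm (t + c₀) := by
    intro t
    rw [hx', PGLPrime.mult_smul ζ hζ1, sub_neg_eq_add]
  have hsym' : ∀ t : ZMod n, PGLPrime.mult ζ x' (-t) = PGLPrime.mult ζ x' t := by
    intro t
    rw [hm', hm', add_comm t c₀, hc₀ t]
    congr 1
    ring
  obtain ⟨b, hbodd, hbfib⟩ := hodd (PGLPrime.mult ζ x') (PGLPrime.sum_mult ζ hζ x' hx'1) hsym'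
  set e₀ : Fin n ≃ ZMod n := (ZMod.finEquiv n).toEquiv with he₀
  obtain ⟨y, V, Vi, hVVi, hyV, hyF₀⟩ := exists_descent hF₀ ζ hζ hr0 hζq e₀ b hbodd
  set D : Matrix (Fin n) (Fin n) F := dg ζ (fun j => b (e₀ j)) with hD
  have hD1 : D ^ n = (1 : F) • 1 := by rw [hD, dg_pow ζ hζ1, one_smul]
  have hDr : D ^ n = 1 := by rw [hD, dg_pow ζ hζ1]
  have hmultD : ∀ t : ZMod n, PGLPrime.mult ζ x' t = PGLPrime.mult ζ D t := by
    intro t
    rw [hD, mult_dg ζ hζ, ← hbfib t]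
    symm
    apply Finset.card_equiv e₀
    intro j
    simp only [Finset.mem_filter, Finset.mem_univ, true_and]
  have hconj := PGLPrime.conj_of_mult_eq ζ hζ (PGLPrime.glOfPow x' 1 one_ne_zero hr.pos hx'1)
    (PGLPrime.glOfPow D 1 one_ne_zero hr.pos hD1) hx'1 hD1 hmultD
  rw [isConj_iff] at hconj
  obtain ⟨c, hc⟩ := hconj
  have hc1 : (c : Matrix (Fin n) (Fin n) F) * x' = D * (c : Matrix (Fin n) (Fin n) F) := by
    have h1 : c * PGLPrime.glOfPow x' 1 one_ne_zero hr.pos hx'1 =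
        PGLPrime.glOfPow D 1 one_ne_zero hr.pos hD1 * c := by
      rw [← hc, inv_mul_cancel_right]
    have h2 := congrArg Units.val h1
    rwa [Units.val_mul, Units.val_mul, PGLPrime.glOfPow_val, PGLPrime.glOfPow_val] at h2
  have hcinv : (c : Matrix (Fin n) (Fin n) F) * ((c⁻¹ : GL (Fin n) F) : Matrix (Fin n) (Fin n) F)
      = 1 := by
    rw [← Units.val_mul, mul_inv_cancel, Units.val_one]
  have hzc : PGLPrime.zp ζ c₀ ≠ 0 := PGLPrime.zp_ne_zero ζ hζ1 c₀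
  refine exists_conj_mem_comap _ x (PGLPrime.zp ζ c₀ • y) (V * (c : Matrix (Fin n) (Fin n) F))
    (((c⁻¹ : GL (Fin n) F) : Matrix (Fin n) (Fin n) F) * Vi) ?_ ?_ ?_ ?_
  · calc V * (c : Matrix (Fin n) (Fin n) F) *
          (((c⁻¹ : GL (Fin n) F) : Matrix (Fin n) (Fin n) F) * Vi)
        = V * ((c : Matrix (Fin n) (Fin n) F) *
          ((c⁻¹ : GL (Fin n) F) : Matrix (Fin n) (Fin n) F)) * Vi := by
          simp only [Matrix.mul_assoc]
      _ = 1 := by rw [hcinv, Matrix.mul_one, hVVi]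
  · show V * (c : Matrix (Fin n) (Fin n) F) * xm = _
    rw [hxx', Matrix.mul_smul, Matrix.smul_mul]
    congr 1
    rw [Matrix.mul_assoc, hc1, ← Matrix.mul_assoc, ← hyV, Matrix.mul_assoc]
  · intro g hg
    rw [mem_subfield_one_iff]
    refine ⟨(PGLPrime.zp ζ c₀)⁻¹, inv_ne_zero hzc, fun i j => ?_⟩
    rw [hg, Matrix.smul_apply, smul_eq_mul, ← mul_assoc, inv_mul_cancel₀ hzc, one_mul]
    exact hyF₀ i j
  · exact exists_commute_det (PGLPrime.fA (r := n) ζ) (PGLPrime.fA_irreducible ζ)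
      (PGLPrime.fA_coprime ζ hζ) hr.pos xm (by
        rw [PGLPrime.prod_fA ζ hζ, ← C_1]
        exact PGLPrime.aeval_pow_sub xm 1 hx1) _

variable {p q : ℕ} [Fact p.Prime] [CharP F p]

/-- in degree `r ∈ {3, 5}` with `q₀ ≡ -1` modulo `r`, every element of order `r` of `SL_r(q₀²)`
is conjugate into the subfield subgroup -/
theorem conj_subfield_symm (hF₀ : Nat.card ↥F₀ = q₀) (r : ℕ) [Fact r.Prime] (hrp : r ≠ p)
    (hr35 : r = 3 ∨ r = 5) (hrq : r ∣ Fintype.card F - 1) (hs : (q₀ : ZMod r) = -1)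
    (n : ℕ) (hn : n = r) (x : Matrix.SpecialLinearGroup (Fin n) F)
    (hx : (x : Matrix (Fin n) (Fin n) F) ^ r = 1) :
    ∃ P : Matrix.SpecialLinearGroup (Fin n) F, P⁻¹ * x * P ∈
      (Cfsg.Geo.subfieldSubgroup F₀ (1 : GL (Fin n) F)).comap
        (Matrix.SpecialLinearGroup.toGL :
          Matrix.SpecialLinearGroup (Fin n) F →* GL (Fin n) F) := by
  have hr : r.Prime := Fact.out
  have hr0 : (r : F) ≠ 0 := by
    intro h
    rw [CharP.cast_eq_zero_iff F p r] at h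
    exact hrp ((Nat.prime_dvd_prime_iff_eq (Fact.out : p.Prime) hr).mp h).symm
  obtain ⟨ζ, hζ⟩ := exists_primitiveRoot (F := F) r hr.pos hrq
  rcases hr35 with rfl | rfl
  · exact conj_subfield_symm_aux hF₀ 3 hr0 ζ hζ hs exists_center_three exists_odd_fibers_three
      n hn x hx
  · exact conj_subfield_symm_aux hF₀ 5 hr0 ζ hζ hs exists_center_five exists_odd_fibers_five
      n hn x hx

end Cfsg.Agent.Lib.H11.SubfR
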