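import Cfsg.Agent.Lib.H11.SubfR1
import Cfsg.Agent.Lib.H13.GLPrime

/-!
# Subfield subgroups, odd `r ≠ p` (part 2): ranks and kernel dimensions under field homomorphisms
-/

set_option autoImplicit false
set_option linter.unusedSectionVars false

namespace Cfsg.Agent.Lib.H11.SubfR

open Matrix Polynomial Module Cfsg.Agent.Lib.H11.InvCls Cfsg.Agent.Lib.H13

variable {K : Type*} [Field K] {L : Type*} [Field L] {n : ℕ}

/-- the rank of a square matrix is invariant under field homomorphisms -/
theorem rank_map (ι : K →+* L) (M : Matrix (Fin n) (Fin n) K) : (M.map ι).rank = M.rank := by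
  classical
  obtain ⟨V, U, e, hV, hU, h⟩ := Matrix.exists_rank_normal_form M
  have hmapmul : ∀ A B : Matrix (Fin n) (Fin n) K, (A * B).map ι = A.map ι * B.map ι :=
    fun A B => Matrix.map_mul
  have hVdet : IsUnit (V.map ι).det := by
    have h1 : (V.map ι).det = ι V.det := by
      rw [RingHom.map_det, RingHom.mapMatrix_apply]
    rw [h1]
    exact ((Matrix.isUnit_iff_isUnit_det _).1 hV).map ι
  have hUdet : IsUnit (U.map ι).det := by
    have h1 : (U.map ι).det = ι U.det := by
      rw [RingHom.map_det, RingHom.mapMatrix_apply]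
    rw [h1]
    exact ((Matrix.isUnit_iff_isUnit_det _).1 hU).map ι
  have h2 : V.map ι * M.map ι * U.map ι =
      ((Matrix.fromBlocks 1 0 0 0 : Matrix (Fin M.rank ⊕ Fin (Fintype.card (Fin n) - M.rank))
        (Fin M.rank ⊕ Fin (Fintype.card (Fin n) - M.rank)) L)).submatrix e e := by
    rw [← hmapmul, ← hmapmul, h]
    ext i j
    rw [Matrix.map_apply, Matrix.submatrix_apply, Matrix.submatrix_apply]
    rcases e i with a | a <;> rcases e j with b | b <;>
      simp [Matrix.fromBlocks, Matrix.one_apply]
  have h3 := congrArg Matrix.rank h2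
  rw [Matrix.rank_mul_eq_left_of_isUnit_det _ _ hUdet,
    Matrix.rank_mul_eq_right_of_isUnit_det _ _ hVdet, Matrix.rank_submatrix,
    Cfsg.Agent.Lib.H11.Jordan.rank_fromBlocks_diag, Matrix.rank_one, Matrix.rank_zero,
    Fintype.card_fin, add_zero] at h3
  exact h3

/-- evaluation of polynomials commutes with entrywise ring homomorphisms -/
theorem aeval_map_map (ι : K →+* L) (M : Matrix (Fin n) (Fin n) K) (p : K[X]) :
    aeval (M.map ι) (p.map ι) = (aeval M p).map ι := by
  have h1 : (aeval M p).map ι = (ι.mapMatrix : Matrix (Fin n) (Fin n) K →+* _) (aeval M p) := rfl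
  rw [h1, aeval_def, aeval_def, Polynomial.hom_eval₂, Polynomial.eval₂_map]
  congr 1
  ext c i j
  simp [Matrix.algebraMap_matrix_apply]
  split_ifs <;> simp

/-- kernel dimensions are invariant under field homomorphisms -/
theorem finrank_ker_map (ι : K →+* L) (M : Matrix (Fin n) (Fin n) K) (p : K[X]) :
    finrank L (LinearMap.ker (aeval (Matrix.toLin' (M.map ι)) (p.map ι))) =
      finrank K (LinearMap.ker (aeval (Matrix.toLin' M) p)) := by
  rw [PGLPrime.aeval_toLin', PGLPrime.aeval_toLin', aeval_map_map]
  have h1 := finrank_ker_toLin' ((aeval M p).map ι)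
  have h2 := finrank_ker_toLin' (aeval M p)
  rw [rank_map] at h1
  omega

end Cfsg.Agent.Lib.H11.SubfR
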