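import Cfsg.Agent.Lib.H11.SubfR2
import Cfsg.Agent.Lib.H24.ElusSS
import Cfsg.Agent.Lib.H24.ElusDet

/-!
# Subfield subgroups, odd `r ≠ p` (part 3): centralizers of semisimple matrices over finite
fields contain elements of every determinant
-/

set_option autoImplicit false
set_option linter.unusedSectionVars false

namespace Cfsg.Agent.Lib.H11.SubfR

open Matrix Polynomial Module Cfsg.Agent.Lib.H11.InvCls Cfsg.Agent.Lib.H13
  Cfsg.Agent.Lib.H24.Elus

variable {F : Type*} [Field F]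

theorem det_lsmul_one (f : F[X]) (hf : f ≠ 0) (e : AdjoinRoot f) :
    LinearMap.det (Algebra.lsmul F F (Fin 1 → AdjoinRoot f) e) = Algebra.norm F e := by
  have h1 : (Algebra.lsmul F F (Fin 1 → AdjoinRoot f) e : End F (Fin 1 → AdjoinRoot f)) =
      LinearMap.pi (fun i =>
      (Algebra.lmul F (AdjoinRoot f) e).comp (LinearMap.proj i)) := by
    apply LinearMap.ext
    intro v
    funext i
    rfl
  have : Module.Finite F (AdjoinRoot f) := (AdjoinRoot.powerBasis hf).finite
  rw [h1, LinearMap.det_pi, Finset.prod_const, Finset.card_univ, Fintype.card_fin, pow_one,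
    ← Algebra.norm_apply]

theorem finrank_ker_mulRoot_self (f : F[X]) (hf : f ≠ 0) (m : ℕ) :
    finrank F (LinearMap.ker (aeval (SSClass.mulRoot f m) f)) = m * f.natDegree := by
  rw [aeval_mulRoot_self, LinearMap.ker_zero, finrank_top, SSClass.finrank_block f hf]

theorem finrank_ker_mulRoot_of_coprime (f g : F[X]) (hf : Irreducible f) (hfg : IsCoprime f g)
    (m : ℕ) : finrank F (LinearMap.ker (aeval (SSClass.mulRoot f m) g)) = 0 := by
  have : Fact (Irreducible f) := ⟨hf⟩
  have h2 : AdjoinRoot.mk f g ≠ 0 := by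
    rw [Ne, AdjoinRoot.mk_eq_zero]
    intro hd
    exact hf.not_isUnit (hfg.isUnit_of_dvd' (dvd_refl _) hd)
  have : LinearMap.ker (aeval (SSClass.mulRoot f m) g) = ⊥ := by
    rw [LinearMap.ker_eq_bot']
    intro v hv
    rw [SSClass.aeval_mulRoot] at hv
    exact (smul_eq_zero.mp hv).resolve_left h2
  rw [this, finrank_bot]

variable [Finite F] {n : ℕ} {J : Type*} [Fintype J] [DecidableEq J]

/-- the centralizer of a semisimple matrix over a finite field contains elements of every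
determinant -/
theorem exists_commute_det (f : J → F[X]) (hirr : ∀ j, Irreducible (f j))
    (hcop : ∀ i j, i ≠ j → IsCoprime (f i) (f j)) (hn : 0 < n)
    (u : Matrix (Fin n) (Fin n) F) (hu : aeval (Matrix.toLin' u) (∏ j, f j) = 0) (d : F) :
    ∃ C : Matrix (Fin n) (Fin n) F, C * u = u * C ∧ C.det = d := by
  set φ : End F (Fin n → F) := Matrix.toLin' u with hφ
  have hdvd : ∀ j, (f j).natDegree ∣ finrank F (LinearMap.ker (aeval φ (f j))) := fun j =>
    SSClass.natDegree_dvd_finrank (f j) (hirr j) _ (SSClass.aeval_restrict_eq_zero φ (f j))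
  choose m hm using hdvd
  have hsum : ∑ j, finrank F (LinearMap.ker (aeval φ (f j))) = n := by
    have h := SSClass.finrank_eq_sum (SSClass.isInternal f hcop φ hu)
    rw [Module.finrank_fintype_fun_eq_card, Fintype.card_fin] at h
    exact h.symm
  have hdeg : ∀ j, 0 < (f j).natDegree := fun j => (hirr j).natDegree_pos
  -- a component which occurs
  obtain ⟨j₀, hj₀⟩ : ∃ j₀, 0 < m j₀ := by
    by_contra hcon
    push Not at hcon
    have : ∑ j, finrank F (LinearMap.ker (aeval φ (f j))) = 0 := by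
      apply Finset.sum_eq_zero
      intro j _
      rw [hm j, Nat.le_zero.mp (hcon j), mul_zero]
    omega
  have : Fact (Irreducible (f j₀)) := ⟨hirr j₀⟩
  have hf0 : f j₀ ≠ 0 := (hirr j₀).ne_zero
  have : Module.Finite F (AdjoinRoot (f j₀)) := (AdjoinRoot.powerBasis hf0).finite
  have : Finite (AdjoinRoot (f j₀)) := Module.finite_of_finite F
  obtain ⟨e, he⟩ := FiniteField.norm_surjective F (AdjoinRoot (f j₀)) d
  set d₀ := (f j₀).natDegree with hd₀
  have hd₀n : d₀ ≤ n := by
    have h1 : finrank F (LinearMap.ker (aeval φ (f j₀))) ≤ n := by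
      have := Finset.single_le_sum (f := fun j => finrank F (LinearMap.ker (aeval φ (f j))))
        (fun _ _ => Nat.zero_le _) (Finset.mem_univ j₀)
      exact this.trans hsum.le
    rw [hm j₀] at h1
    calc d₀ = d₀ * 1 := (mul_one _).symm
      _ ≤ d₀ * m j₀ := Nat.mul_le_mul_left _ hj₀
      _ ≤ n := h1
  set m' : J → ℕ := fun j => if j = j₀ then m j₀ - 1 else m j with hm'
  have hm'sum : ∑ j, m' j * (f j).natDegree = finrank F (Fin (n - d₀) → F) := by
    rw [Module.finrank_fintype_fun_eq_card, Fintype.card_fin]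
    have h1 : ∑ j, m' j * (f j).natDegree + d₀ = n := by
      rw [← hsum, ← Finset.add_sum_erase _ _ (Finset.mem_univ j₀),
        ← Finset.add_sum_erase (a := j₀) _ (fun j => finrank F (LinearMap.ker (aeval φ (f j))))
          (Finset.mem_univ j₀)]
      have h2 : ∀ j ∈ Finset.univ.erase j₀, m' j * (f j).natDegree =
          finrank F (LinearMap.ker (aeval φ (f j))) := by
        intro j hj
        rw [hm', hm j]
        simp only
        rw [if_neg (Finset.ne_of_mem_erase hj), mul_comm]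
      rw [Finset.sum_congr rfl h2, hm j₀]
      have h3 : m' j₀ = m j₀ - 1 := by rw [hm']; simp
      rw [h3, ← hd₀]
      have h4 : (m j₀ - 1) * d₀ + d₀ = d₀ * m j₀ := by
        obtain ⟨t, ht⟩ : ∃ t, m j₀ = t + 1 := ⟨m j₀ - 1, by omega⟩
        rw [ht]; simp; ring
      omega
    omega
  obtain ⟨ψ₂, hψ₂, hψ₂m⟩ := SSClass.exists_end (V := Fin (n - d₀) → F) f hirr hcop m' hm'sum
  set ψ₁ : End F (Fin 1 → AdjoinRoot (f j₀)) := SSClass.mulRoot (f j₀) 1 with hψ₁
  set ψ : End F ((Fin 1 → AdjoinRoot (f j₀)) × (Fin (n - d₀) → F)) := ψ₁.prodMap ψ₂ with hψ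
  have hψ0 : aeval ψ (∏ j, f j) = 0 := by
    rw [hψ, aeval_prodMap, hψ₂]
    have : aeval ψ₁ (∏ j, f j) = 0 := by
      apply LinearMap.ext
      intro v
      rw [hψ₁, SSClass.aeval_mulRoot, LinearMap.zero_apply]
      have : AdjoinRoot.mk (f j₀) (∏ j, f j) = 0 :=
        AdjoinRoot.mk_eq_zero.mpr (Finset.dvd_prod_of_mem f (Finset.mem_univ j₀))
      rw [this, zero_smul]
    rw [this]
    exact LinearMap.prodMap_zero
  have hker : ∀ j, finrank F (LinearMap.ker (aeval φ (f j))) =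
      finrank F (LinearMap.ker (aeval ψ (f j))) := by
    intro j
    rw [hψ, finrank_ker_aeval_prodMap, hψ₂m j, hm j]
    by_cases hj : j = j₀
    · subst hj
      rw [hψ₁, finrank_ker_mulRoot_self _ hf0]
      have h3 : m' j = m j - 1 := by rw [hm']; simp
      rw [h3]
      obtain ⟨t, ht⟩ : ∃ t, m j = t + 1 := ⟨m j - 1, by omega⟩
      rw [ht]; simp; ring
    · rw [hψ₁, finrank_ker_mulRoot_of_coprime _ _ (hirr j₀) (hcop j₀ j (Ne.symm hj))]
      have h3 : m' j = m j := by rw [hm']; simp [hj]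
      rw [h3, zero_add, mul_comm]
  obtain ⟨g, hg⟩ := SSClass.exists_equiv f hirr hcop φ ψ hu hψ0 hker
  set κ₁ : End F (Fin 1 → AdjoinRoot (f j₀)) :=
    Algebra.lsmul F F (Fin 1 → AdjoinRoot (f j₀)) e with hκ₁
  set κ : End F ((Fin 1 → AdjoinRoot (f j₀)) × (Fin (n - d₀) → F)) :=
    κ₁.prodMap LinearMap.id with hκ
  have hκψ : ∀ w, κ (ψ w) = ψ (κ w) := by
    intro w
    rw [hκ, hψ]
    apply Prod.ext
    · show κ₁ (ψ₁ w.1) = ψ₁ (κ₁ w.1)
      rw [hκ₁, hψ₁, SSClass.mulRoot]
      show e • (AdjoinRoot.root (f j₀) • w.1) = AdjoinRoot.root (f j₀) • (e • w.1)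
      rw [smul_smul, smul_smul, mul_comm]
    · rfl
  set ψC : End F (Fin n → F) :=
    (g.symm : _ →ₗ[F] _) ∘ₗ κ ∘ₗ (g : _ →ₗ[F] _) with hψC
  have hgsymm : ∀ w, g.symm (ψ w) = φ (g.symm w) := by
    intro w
    apply g.injective
    rw [hg, g.apply_symm_apply, g.apply_symm_apply]
  have hcomm : ψC ∘ₗ φ = φ ∘ₗ ψC := by
    apply LinearMap.ext
    intro v
    show g.symm (κ (g (φ v))) = φ (g.symm (κ (g v)))
    rw [hg, hκψ, hgsymm]
  refine ⟨LinearMap.toMatrix' ψC, ?_, ?_⟩
  · have h1 : u = LinearMap.toMatrix' φ := by rw [hφ, LinearMap.toMatrix'_toLin']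
    rw [h1, ← LinearMap.toMatrix'_comp, ← LinearMap.toMatrix'_comp, hcomm]
  · have hconj : ψC = (g.symm : _ →ₗ[F] _) ∘ₗ κ ∘ₗ (g.symm.symm : _ →ₗ[F] _) := by
      rw [hψC, LinearEquiv.symm_symm]
    rw [LinearMap.det_toMatrix', hconj, LinearMap.det_conj, hκ, LinearMap.det_prodMap,
      LinearMap.det_id, mul_one, hκ₁, det_lsmul_one _ hf0, he]

end Cfsg.Agent.Lib.H11.SubfR
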