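import Cfsg.Agent.Lib.H11.SubfR3
import Cfsg.Agent.Lib.H24.ElusLn

/-!
# Subfield subgroups, odd `r ≠ p` (part 4): `r`-parts of the orders and the index
-/

set_option autoImplicit false
set_option linter.unusedSectionVars false

namespace Cfsg.Agent.Lib.H11.SubfR

open Matrix Module Cfsg.Agent.Lib.H11.InvCls Cfsg.Agent.Lib.H11.Subf

section card

variable {F : Type*} [Field F] [Fintype F]

/-- the `r`-part of `|GL_n(q)|` for `r ∤ q` -/
theorem vr_card_GL (r : ℕ) [Fact r.Prime] (hrq : ¬ r ∣ Fintype.card F) (n : ℕ) :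
    padicValNat r (Nat.card (GL (Fin n) F)) =
      ∑ k ∈ Finset.range n, padicValNat r (Fintype.card F ^ (k + 1) - 1) := by
  have hq1 : 1 < Fintype.card F := Fintype.one_lt_card
  induction n with
  | zero =>
    simp only [Finset.range_zero, Finset.sum_empty]
    have : Nat.card (GL (Fin 0) F) = 1 := by
      rw [Matrix.card_GL_field]; simp
    rw [this]; simp
  | succ n ih =>
    have hne1 : Fintype.card F ^ (n + 1) - 1 ≠ 0 := by
      have : 1 < Fintype.card F ^ (n + 1) := Nat.one_lt_pow (by omega) hq1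
      omega
    have hne2 : Fintype.card F ^ n ≠ 0 := by positivity
    have hne3 : Nat.card (GL (Fin n) F) ≠ 0 := Nat.card_pos.ne'
    rw [Cfsg.Agent.Lib.H9.SqC.card_GL_succ, padicValNat.mul (mul_ne_zero hne1 hne2) hne3,
      padicValNat.mul hne1 hne2, padicValNat.pow, padicValNat.eq_zero_of_not_dvd hrq, mul_zero,
      add_zero, ih, Finset.sum_range_succ, add_comm]

/-- the `r`-part of `|SL_n(q)|` for `r ∤ q` -/
theorem vr_card_SL (r : ℕ) [Fact r.Prime] (hrq : ¬ r ∣ Fintype.card F) (n : ℕ) (hn : 1 ≤ n) :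
    padicValNat r (Nat.card (Matrix.SpecialLinearGroup (Fin n) F)) =
      ∑ k ∈ Finset.range (n - 1), padicValNat r (Fintype.card F ^ (k + 2) - 1) := by
  have : Nonempty (Fin n) := ⟨⟨0, hn⟩⟩
  have h1 := Cfsg.Agent.Lib.H12.card_GL_eq_card_SL_mul (n := Fin n) (F := F)
  have hq1 : Fintype.card F - 1 ≠ 0 := by
    have := Fintype.one_lt_card (α := F)
    omega
  have h2 := vr_card_GL (F := F) r hrq n
  obtain ⟨m, rfl⟩ : ∃ m, n = m + 1 := ⟨n - 1, by omega⟩
  rw [h1, padicValNat.mul Nat.card_pos.ne' hq1, Finset.sum_range_succ'] at h2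
  simp only [zero_add, pow_one] at h2
  rw [Nat.add_sub_cancel]
  have h3 : ∀ k, Fintype.card F ^ (k + 1 + 1) = Fintype.card F ^ (k + 2) := fun k => rfl
  simp only [h3] at h2
  omega

end card

section lte

/-- lifting the exponent for a prime degree extension -/
theorem vr_pow_sub_one (r : ℕ) [Fact r.Prime] (hr2 : r ≠ 2) (k : ℕ) (hk : k.Prime) (hrk : r ≠ k)
    (a : ℕ) (ha : r ∣ a - 1) (ha1 : 1 < a) :
    padicValNat r (a ^ k - 1) = padicValNat r (a - 1) := by
  have hr : r.Prime := Fact.out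
  have hodd : Odd r := hr.odd_of_ne_two hr2
  have hra : ¬ r ∣ a := by
    intro h
    have h2 : r ∣ 1 := by
      have := Nat.dvd_sub h ha
      rwa [Nat.sub_sub_self ha1.le] at this
    exact hr.one_lt.ne' (Nat.dvd_one.mp h2)
  have h1 := padicValNat.pow_sub_pow (p := r) hodd ha1 ha hra (n := k) hk.ne_zero
  rw [one_pow] at h1
  rw [h1]
  have : padicValNat r k = 0 := by
    apply padicValNat.eq_zero_of_not_dvd
    intro h
    exact hrk ((Nat.prime_dvd_prime_iff_eq hr hk).mp h)
  omega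

end lte

section index

variable {F : Type*} [Field F] [Fintype F] {n : ℕ} {F₀ : Subfield F}

/-- if the `r`-parts of `q ^ j - 1` and `q₀ ^ j - 1` agree for `2 ≤ j ≤ n` then `r` does not
divide the index of the subfield subgroup -/
theorem not_dvd_index (hn : 1 ≤ n) (q₀ : ℕ) (hF₀ : Nat.card ↥F₀ = q₀) (r : ℕ) [Fact r.Prime]
    (hrq : ¬ r ∣ Fintype.card F) (hrq₀ : ¬ r ∣ q₀)
    (h : ∀ j, 2 ≤ j → j ≤ n →
      padicValNat r (Fintype.card F ^ j - 1) = padicValNat r (q₀ ^ j - 1)) :
    ¬ r ∣ ((Cfsg.Geo.subfieldSubgroup F₀ (1 : GL (Fin n) F)).comap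
      (Matrix.SpecialLinearGroup.toGL :
        Matrix.SpecialLinearGroup (Fin n) F →* GL (Fin n) F)).index := by
  have : Fintype ↥F₀ := Fintype.ofFinite _
  have hq₀c : Fintype.card ↥F₀ = q₀ := by rw [← Nat.card_eq_fintype_card, hF₀]
  set R₀ := (Matrix.SpecialLinearGroup.map (n := Fin n) (F₀.subtype : F₀ →+* F)).range with hR₀
  have hcard : Nat.card R₀ = Nat.card (Matrix.SpecialLinearGroup (Fin n) ↥F₀) :=
    (Nat.card_congr (MonoidHom.ofInjective (map_injective (F₀ := F₀) (n := n))).toEquiv).symm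
  have h1 := Subgroup.card_mul_index R₀
  have h2 : padicValNat r (Nat.card (Matrix.SpecialLinearGroup (Fin n) F)) =
      padicValNat r (Nat.card (Matrix.SpecialLinearGroup (Fin n) ↥F₀)) := by
    rw [vr_card_SL r hrq n hn, vr_card_SL r (by rw [hq₀c]; exact hrq₀) n hn, hq₀c]
    apply Finset.sum_congr rfl
    intro k hk
    rw [Finset.mem_range] at hk
    exact h (k + 2) (by omega) (by omega)
  have hidx0 : R₀.index ≠ 0 := Subgroup.index_ne_zero_of_finite
  rw [← h1, padicValNat.mul Nat.card_pos.ne' hidx0, hcard] at h2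
  have h3 : padicValNat r R₀.index = 0 := by omega
  have h4 : ¬ r ∣ R₀.index := by
    intro hd
    have := one_le_padicValNat_of_dvd hidx0 hd
    omega
  have h5 := Subgroup.index_dvd_of_le (map_range_le (F₀ := F₀) (n := n))
  rw [← hR₀] at h5
  exact fun hd => h4 (hd.trans h5)

/-- if `r` divides the index then `r` divides `q ^ j - 1` for some `2 ≤ j ≤ n` -/
theorem exists_dvd_of_dvd_index (hn : 1 ≤ n) (r : ℕ) [Fact r.Prime]
    (hrq : ¬ r ∣ Fintype.card F) (H : Subgroup (Matrix.SpecialLinearGroup (Fin n) F))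
    (h : r ∣ H.index) : ∃ j, 2 ≤ j ∧ j ≤ n ∧ r ∣ Fintype.card F ^ j - 1 := by
  have h1 : r ∣ Nat.card (Matrix.SpecialLinearGroup (Fin n) F) :=
    h.trans (Subgroup.index_dvd_card H)
  have h2 := one_le_padicValNat_of_dvd Nat.card_pos.ne' h1
  rw [vr_card_SL r hrq n hn] at h2
  by_contra hcon
  push Not at hcon
  have : ∑ k ∈ Finset.range (n - 1), padicValNat r (Fintype.card F ^ (k + 2) - 1) = 0 := by
    apply Finset.sum_eq_zero
    intro k hk
    rw [Finset.mem_range] at hk
    exact padicValNat.eq_zero_of_not_dvd (hcon (k + 2) (by omega) (by omega))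
  omega

end index

end Cfsg.Agent.Lib.H11.SubfR
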