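import Cfsg.Agent.Lib.H11.SubfR4

/-!
# Subfield subgroups, odd `r ≠ p` (part 5): consequences of the twisting condition
-/

set_option autoImplicit false
set_option linter.unusedSectionVars false

namespace Cfsg.Agent.Lib.H11.SubfR

open Matrix Polynomial Module Cfsg.Agent.Lib.H11.InvCls Cfsg.Agent.Lib.H13

variable {F : Type*} [Field F] {n : ℕ}

/-- intertwined matrices have the same kernel dimensions -/
theorem finrank_ker_eq_of_mul (B Bi y y' : Matrix (Fin n) (Fin n) F) (hB : B * Bi = 1)
    (h : y' * B = B * y) (p : F[X]) :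
    finrank F (LinearMap.ker (aeval (Matrix.toLin' y') p)) =
      finrank F (LinearMap.ker (aeval (Matrix.toLin' y) p)) := by
  have hBi : Bi * B = 1 := mul_eq_one_comm.mp hB
  set g : (Fin n → F) ≃ₗ[F] (Fin n → F) :=
    LinearEquiv.ofLinearMap (Matrix.toLin' B) (Matrix.toLin' Bi)
      (by rw [← Matrix.toLin'_mul, hB, Matrix.toLin'_one])
      (by rw [← Matrix.toLin'_mul, hBi, Matrix.toLin'_one]) with hg
  symm
  apply SSClass.finrank_ker_eq_of_equiv _ _ g
  intro v
  show Matrix.toLin' B (Matrix.toLin' y v) = Matrix.toLin' y' (Matrix.toLin' B v)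
  rw [← LinearMap.comp_apply, ← LinearMap.comp_apply, ← Matrix.toLin'_mul, ← Matrix.toLin'_mul, h]

theorem map_pow_eq (σ : F →+* F) (x : Matrix (Fin n) (Fin n) F) (k : ℕ) :
    (x ^ k).map σ = (x.map σ) ^ k := by
  have h1 : ∀ y : Matrix (Fin n) (Fin n) F, y.map σ = σ.mapMatrix y := fun _ => rfl
  rw [h1, h1, map_pow]

/-- the scalar in the twisting condition for an element of order `r` is an `r`-th root of unity -/
theorem pow_eq_one_of_twist (hn : 0 < n) (σ : F →+* F) (x B Bi : Matrix (Fin n) (Fin n) F)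
    (hB : B * Bi = 1) (η : F) (h : x.map σ * B = B * (η • x)) (r : ℕ) (hx : x ^ r = 1) :
    η ^ r = 1 := by
  have h1 : ∀ k : ℕ, (x.map σ) ^ k * B = B * (η • x) ^ k := by
    intro k
    induction k with
    | zero => simp
    | succ k ih =>
      rw [pow_succ, Matrix.mul_assoc, h, ← Matrix.mul_assoc, ih, Matrix.mul_assoc, ← pow_succ]
  have h2 := h1 r
  rw [← map_pow_eq, hx, Matrix.map_one σ (map_zero σ) (map_one σ), Matrix.one_mul, _root_.smul_pow, hx,
    Matrix.mul_smul, Matrix.mul_one] at h2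
  have h3 : B * Bi = (η ^ r • B) * Bi := by rw [← h2]
  rw [hB, Matrix.smul_mul, hB] at h3
  have h4 := congrFun (congrFun h3 ⟨0, hn⟩) ⟨0, hn⟩
  rw [Matrix.smul_apply, Matrix.one_apply_eq, smul_eq_mul, mul_one] at h4
  exact h4.symm

/-- the twisting condition in terms of kernel dimensions -/
theorem finrank_ker_of_twist (σ : F →+* F) (x B Bi : Matrix (Fin n) (Fin n) F)
    (hB : B * Bi = 1) (η : F) (h : x.map σ * B = B * (η • x)) (p : F[X]) :
    finrank F (LinearMap.ker (aeval (Matrix.toLin' (η • x)) (p.map σ))) =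
      finrank F (LinearMap.ker (aeval (Matrix.toLin' x) p)) := by
  rw [← finrank_ker_map σ x p]
  exact (finrank_ker_eq_of_mul B Bi (η • x) (x.map σ) hB h (p.map σ)).symm

end Cfsg.Agent.Lib.H11.SubfR
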