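import Cfsg.Agent.Lib.H11.SubfR7

/-!
# Subfield subgroups, odd `r ≠ p` (part 8): derangements from multiplicity functions
(`r ∣ q - 1`)
-/

set_option autoImplicit false
set_option linter.unusedSectionVars false

namespace Cfsg.Agent.Lib.H11.SubfR

open Matrix Polynomial Module Cfsg.Agent.Lib.H11.InvCls Cfsg.Agent.Lib.H13

variable {F : Type*} [Field F] [Fintype F] {n r : ℕ} [NeZero r] {F₀ : Subfield F} {q₀ : ℕ}

/-- the twisting condition for a scalar multiple of an element of order `r` conjugate into the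
subfield subgroup -/
theorem twist_of_conj (p : ℕ) [Fact p.Prime] [CharP F p] (hF₀ : Nat.card ↥F₀ = q₀) (ζ : F)
    (hζ : IsPrimitiveRoot ζ r) (hn : 0 < n)
    (x P : Matrix.SpecialLinearGroup (Fin n) F) (b : F) (hb : b ≠ 0)
    (x' : Matrix (Fin n) (Fin n) F) (hxx' : (x : Matrix (Fin n) (Fin n) F) = b • x')
    (hx' : x' ^ r = 1)
    (hP : P⁻¹ * x * P ∈ (Cfsg.Geo.subfieldSubgroup F₀ (1 : GL (Fin n) F)).comap
      (Matrix.SpecialLinearGroup.toGL : Matrix.SpecialLinearGroup (Fin n) F →* GL (Fin n) F)) :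
    ∃ e : ZMod r, ∀ t, PGLPrime.mult ζ x' t = PGLPrime.mult ζ x' ((q₀ : ZMod r) * t - e) := by
  obtain ⟨σ, hσ⟩ := exists_frob (F := F) (F₀ := F₀) p hF₀
  obtain ⟨η, -, B, Bi, hB, htw⟩ := exists_twist hF₀ σ hσ x P hP
  have hσb : σ b ≠ 0 := by rw [hσ]; exact pow_ne_zero _ hb
  have hmap : (x : Matrix (Fin n) (Fin n) F).map σ = σ b • x'.map σ := by
    rw [hxx']
    ext i j
    rw [Matrix.map_apply, Matrix.smul_apply, Matrix.smul_apply, Matrix.map_apply, smul_eq_mul,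
      smul_eq_mul, map_mul]
  have htw' : x'.map σ * B = B * ((η * b / σ b) • x') := by
    rw [hmap, hxx', Matrix.smul_mul, smul_smul] at htw
    have h1 : x'.map σ * B = (σ b)⁻¹ • (σ b • (x'.map σ * B)) := by
      rw [smul_smul, inv_mul_cancel₀ hσb, one_smul]
    rw [h1, htw, Matrix.mul_smul, Matrix.mul_smul, smul_smul]
    congr 1
    field_simp
  refine mult_of_twist ζ hζ σ (q₀ : ZMod r) (fun t => ?_) hn x' B Bi hB _ htw' hx'
  rw [hσ, zp_natCast_mul ζ hζ.pow_eq_one]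

/-- a derangement from a multiplicity function violating the twisting condition -/
theorem exists_derangement_of_mult (p : ℕ) [Fact p.Prime] [CharP F p]
    (hF₀ : Nat.card ↥F₀ = q₀) (ζ : F) (hζ : IsPrimitiveRoot ζ r) (hn : 0 < n)
    (m : ZMod r → ℕ) (hm : ∑ t, m t = n) (b : F) (hb : b ≠ 0)
    (hdet : b ^ n * PGLPrime.zp ζ (∑ t : ZMod r, m t • t) = 1)
    (k₁ k₂ : ZMod r) (hne : k₁ ≠ k₂) (h1 : m k₁ ≠ 0) (h2 : m k₂ ≠ 0)
    (hno : ¬ ∃ e : ZMod r, ∀ t, m t = m ((q₀ : ZMod r) * t - e)) :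
    ∃ x : Matrix.SpecialLinearGroup (Fin n) F,
      (∃ z : F, ((x ^ r : Matrix.SpecialLinearGroup (Fin n) F) : Matrix (Fin n) (Fin n) F) =
        z • (1 : Matrix (Fin n) (Fin n) F)) ∧
      (∀ z : F, (x : Matrix (Fin n) (Fin n) F) ≠ z • (1 : Matrix (Fin n) (Fin n) F)) ∧
      ∀ P : Matrix.SpecialLinearGroup (Fin n) F,
        P⁻¹ * x * P ∉ (Cfsg.Geo.subfieldSubgroup F₀ (1 : GL (Fin n) F)).comap
          (Matrix.SpecialLinearGroup.toGL :
            Matrix.SpecialLinearGroup (Fin n) F →* GL (Fin n) F) := by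
  obtain ⟨x', hx', hmult⟩ := PGLPrime.exists_of_mult (n := n) ζ hζ m hm
  rw [one_smul] at hx'
  have hdetx : (b • (x' : Matrix (Fin n) (Fin n) F)).det = 1 := by
    rw [Matrix.det_smul, Fintype.card_fin, det_eq_zp ζ hζ x' hx']
    have : (∑ t : ZMod r, PGLPrime.mult ζ (x' : Matrix (Fin n) (Fin n) F) t • t) =
        ∑ t : ZMod r, m t • t := Finset.sum_congr rfl (fun t _ => by rw [hmult])
    rw [this, hdet]
  set xs : Matrix.SpecialLinearGroup (Fin n) F := ⟨b • (x' : Matrix (Fin n) (Fin n) F), hdetx⟩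
    with hxs
  have hxsv : (xs : Matrix (Fin n) (Fin n) F) = b • (x' : Matrix (Fin n) (Fin n) F) := rfl
  refine ⟨xs, ⟨b ^ r, ?_⟩, ?_, ?_⟩
  · rw [Matrix.SpecialLinearGroup.coe_pow, hxsv, _root_.smul_pow, hx']
  · intro z hz
    rw [hxsv] at hz
    have h3 : (x' : Matrix (Fin n) (Fin n) F) = (b⁻¹ * z) • 1 := by
      rw [← smul_smul, ← hz, smul_smul, inv_mul_cancel₀ hb, one_smul]
    exact not_scalar_of_mult ζ hζ _ k₁ k₂ hne (by rw [hmult]; exact h1) (by rw [hmult]; exact h2)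
      _ h3
  · intro P hP
    obtain ⟨e, he⟩ := twist_of_conj p hF₀ ζ hζ hn xs P b hb (x' : Matrix (Fin n) (Fin n) F) hxsv
      hx' hP
    apply hno
    refine ⟨e, fun t => ?_⟩
    rw [← hmult, ← hmult]
    exact he t

end Cfsg.Agent.Lib.H11.SubfR
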