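import Cfsg.Agent.Lib.H11.SubfR8

/-!
# Subfield subgroups, odd `r ≠ p` (part 9): multiplicity functions violating the twisting
condition
-/

set_option autoImplicit false
set_option linter.unusedSectionVars false

namespace Cfsg.Agent.Lib.H11.SubfR

variable {r : ℕ} [Fact r.Prime]

theorem zmod_two_ne_zero (hr2 : r ≠ 2) : (2 : ZMod r) ≠ 0 := by
  have hr : r.Prime := Fact.out
  intro h
  have h1 : ((2 : ℕ) : ZMod r) = 0 := by exact_mod_cast h
  rw [ZMod.natCast_eq_zero_iff] at h1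
  exact hr2 ((Nat.prime_dvd_prime_iff_eq hr Nat.prime_two).mp h1)

theorem zmod_three_ne_zero (hr3 : r ≠ 3) : (3 : ZMod r) ≠ 0 := by
  have hr : r.Prime := Fact.out
  intro h
  have h1 : ((3 : ℕ) : ZMod r) = 0 := by exact_mod_cast h
  rw [ZMod.natCast_eq_zero_iff] at h1
  exact hr3 ((Nat.prime_dvd_prime_iff_eq hr Nat.prime_three).mp h1)

theorem zmod_five_eq_zero_iff : (5 : ZMod r) = 0 ↔ r = 5 := by
  have hr : r.Prime := Fact.out
  constructor
  · intro h
    have h1 : ((5 : ℕ) : ZMod r) = 0 := by exact_mod_cast h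
    rw [ZMod.natCast_eq_zero_iff] at h1
    exact (Nat.prime_dvd_prime_iff_eq hr Nat.prime_five).mp h1
  · intro h
    have h1 : ((5 : ℕ) : ZMod r) = 0 := by
      rw [ZMod.natCast_eq_zero_iff, h]
    exact_mod_cast h1

/-- reindexing sums along the twist -/
theorem sum_twist (m : ZMod r → ℕ) (s e : ZMod r) (hs : s ≠ 0)
    (h : ∀ t, m t = m (s * t - e)) (g : ZMod r → ZMod r) :
    ∑ t, (m t : ZMod r) * g t = ∑ t, (m t : ZMod r) * g (s * t - e) := by
  have h1 : ∑ t, (m t : ZMod r) * g t =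
      ∑ t, (m (s * t - e) : ZMod r) * g (s * t - e) :=
    (Equiv.sum_comp ((Equiv.mulLeft₀ s hs).trans (Equiv.subRight e))
      (fun t => (m t : ZMod r) * g t)).symm
  rw [h1]
  exact Finset.sum_congr rfl (fun t _ => by rw [← h t])

/-- the multiplicity function of `diag(ζ, ζ⁻¹, 1, …, 1)` -/
def mD1 (r n : ℕ) : ZMod r → ℕ := fun t =>
  (if t = 1 then 1 else 0) + (if t = -1 then 1 else 0) + (if t = 0 then n - 2 else 0)

theorem sum_mD1 (n : ℕ) (g : ZMod r → ZMod r) :
    ∑ t : ZMod r, (mD1 r n t : ZMod r) * g t =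
      g 1 + g (-1) + ((n - 2 : ℕ) : ZMod r) * g 0 := by
  unfold mD1
  simp only [Nat.cast_add, Nat.cast_ite, Nat.cast_one, Nat.cast_zero, add_mul, ite_mul, one_mul,
    zero_mul, Finset.sum_add_distrib, Finset.sum_ite_eq', Finset.mem_univ, if_true]

theorem card_mD1 (n : ℕ) (hn : 2 ≤ n) : ∑ t : ZMod r, mD1 r n t = n := by
  unfold mD1
  simp only [Finset.sum_add_distrib, Finset.sum_ite_eq', Finset.mem_univ, if_true]
  omega

theorem wsum_mD1 (n : ℕ) : ∑ t : ZMod r, mD1 r n t • t = 0 := by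
  unfold mD1
  simp only [add_smul, ite_smul, one_smul, zero_smul, Finset.sum_add_distrib, Finset.sum_ite_eq',
    Finset.mem_univ, if_true, smul_zero]
  ring

theorem no_twist_mD1 (hr2 : r ≠ 2) (n : ℕ) (hn : 2 ≤ n) (s : ZMod r) (hs : s ≠ 0)
    (hs2 : s ^ 2 ≠ 1) : ¬ ∃ e : ZMod r, ∀ t, mD1 r n t = mD1 r n (s * t - e) := by
  rintro ⟨e, he⟩
  have h2 := zmod_two_ne_zero (r := r) hr2
  have hcast : ((n - 2 : ℕ) : ZMod r) = (n : ZMod r) - 2 := by
    rw [Nat.cast_sub hn]; norm_num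
  have e1 := sum_twist (mD1 r n) s e hs he (fun t => t)
  rw [sum_mD1, sum_mD1, hcast] at e1
  have hne : (n : ZMod r) * e = 0 := by
    simp only [mul_one, mul_neg, mul_zero] at e1
    linear_combination e1
  have e2 := sum_twist (mD1 r n) s e hs he (fun t => t ^ 2)
  rw [sum_mD1, sum_mD1, hcast] at e2
  simp only [mul_one, mul_neg, mul_zero] at e2
  have h3 : (2 : ZMod r) * (s ^ 2 - 1) = 0 := by
    linear_combination -e2 - e * hne
  rcases mul_eq_zero.mp h3 with h4 | h4
  · exact h2 h4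
  · exact hs2 (sub_eq_zero.mp h4)

/-- the multiplicity function of `diag(ζ, ζ, ζ⁻², 1, …, 1)` -/
def mD2 (r n : ℕ) : ZMod r → ℕ := fun t =>
  (if t = 1 then 2 else 0) + (if t = -2 then 1 else 0) + (if t = 0 then n - 3 else 0)

theorem card_mD2 (n : ℕ) (hn : 3 ≤ n) : ∑ t : ZMod r, mD2 r n t = n := by
  unfold mD2
  simp only [Finset.sum_add_distrib, Finset.sum_ite_eq', Finset.mem_univ, if_true]
  omega

theorem wsum_mD2 (n : ℕ) : ∑ t : ZMod r, mD2 r n t • t = 0 := by
  unfold mD2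
  simp only [add_smul, ite_smul, one_smul, zero_smul, Finset.sum_add_distrib, Finset.sum_ite_eq',
    Finset.mem_univ, if_true, smul_zero]
  rw [two_smul]
  ring

theorem no_twist_mD2 (hr2 : r ≠ 2) (hr3 : r ≠ 3) (n : ℕ) (h55 : ¬ (n = 5 ∧ r = 5)) :
    ¬ ∃ e : ZMod r, ∀ t, mD2 r n t = mD2 r n ((-1) * t - e) := by
  rintro ⟨e, he⟩
  have h2 := zmod_two_ne_zero (r := r) hr2
  have h3 := zmod_three_ne_zero (r := r) hr3
  have h12 : (1 : ZMod r) ≠ -2 := by
    intro h; apply h3; linear_combination h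
  have h10 : (1 : ZMod r) ≠ 0 := one_ne_zero
  have h20 : (-2 : ZMod r) ≠ 0 := by
    intro h; apply h2; linear_combination -h
  have v1 : mD2 r n 1 = 2 := by
    unfold mD2; rw [if_pos rfl, if_neg h12, if_neg h10]
  have v2 : mD2 r n (-2) = 1 := by
    unfold mD2; rw [if_neg (Ne.symm h12), if_pos rfl, if_neg h20]
  -- values of the function
  have hval2 : ∀ t : ZMod r, mD2 r n t = 2 → t = 1 ∨ (t = 0 ∧ n = 5) := by
    intro t ht
    unfold mD2 at ht
    by_cases c1 : t = 1
    · exact Or.inl c1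
    · rw [if_neg c1] at ht
      by_cases c2 : t = -2
      · rw [if_pos c2, if_neg (by rw [c2]; exact h20)] at ht
        omega
      · rw [if_neg c2] at ht
        by_cases c3 : t = 0
        · rw [if_pos c3] at ht
          exact Or.inr ⟨c3, by omega⟩
        · rw [if_neg c3] at ht
          omega
  have hval1 : ∀ t : ZMod r, mD2 r n t = 1 → t = -2 ∨ (t = 0 ∧ n = 4) := by
    intro t ht
    unfold mD2 at ht
    by_cases c1 : t = 1
    · rw [if_pos c1, if_neg (by rw [c1]; exact h12), if_neg (by rw [c1]; exact h10)] at ht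
      omega
    · rw [if_neg c1] at ht
      by_cases c2 : t = -2
      · exact Or.inl c2
      · rw [if_neg c2] at ht
        by_cases c3 : t = 0
        · rw [if_pos c3] at ht
          exact Or.inr ⟨c3, by omega⟩
        · rw [if_neg c3] at ht
          omega
  have a1 := hval2 _ ((he 1).symm.trans v1)
  have a2 := hval1 _ ((he (-2)).symm.trans v2)
  rcases a1 with a1 | ⟨a1, hn5⟩
  · -- `e = -2`
    have he2 : e = -2 := by linear_combination -a1
    rcases a2 with a2 | ⟨a2, -⟩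
    · apply h2
      have h6 : (2 : ZMod r) * 3 = 0 := by
        rw [he2] at a2; linear_combination a2
      rcases mul_eq_zero.mp h6 with h | h
      · exact h
      · exact absurd h h3
    · apply h2
      have h4 : (2 : ZMod r) * 2 = 0 := by
        rw [he2] at a2; linear_combination a2
      rcases mul_eq_zero.mp h4 with h | h <;> exact h
  · -- `e = -1`, `n = 5`
    have he1 : e = -1 := by linear_combination -a1
    rcases a2 with a2 | ⟨a2, hn4⟩
    · apply h55
      refine ⟨hn5, zmod_five_eq_zero_iff.mp ?_⟩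
      rw [he1] at a2; linear_combination a2
    · omega

/-- the multiplicity function of `diag(ζ, ζ, ζ, 1, …, 1)` for `r = 3` -/
def mD2' (n : ℕ) : ZMod 3 → ℕ := fun t =>
  (if t = 1 then 3 else 0) + (if t = 0 then n - 3 else 0)

theorem card_mD2' (n : ℕ) (hn : 3 ≤ n) : ∑ t : ZMod 3, mD2' n t = n := by
  unfold mD2'
  simp only [Finset.sum_add_distrib, Finset.sum_ite_eq', Finset.mem_univ, if_true]
  omega

theorem wsum_mD2' (n : ℕ) : ∑ t : ZMod 3, mD2' n t • t = 0 := by
  unfold mD2'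
  simp only [add_smul, ite_smul, zero_smul, Finset.sum_add_distrib, Finset.sum_ite_eq',
    Finset.mem_univ, if_true, smul_zero]
  decide

theorem no_twist_mD2' (n : ℕ) (hn : 4 ≤ n) (hn6 : n ≠ 6) :
    ¬ ∃ e : ZMod 3, ∀ t, mD2' n t = mD2' n ((-1) * t - e) := by
  rintro ⟨e, he⟩
  have v0 : mD2' n 0 = n - 3 := by unfold mD2'; simp
  have v1 : mD2' n 1 = 3 := by unfold mD2'; simp
  have v2 : mD2' n 2 = 0 := by
    unfold mD2'
    rw [if_neg (by decide), if_neg (by decide)]
  have hcases : ∀ e : ZMod 3, e = 0 ∨ e = 1 ∨ e = 2 := by decide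
  rcases hcases e with rfl | rfl | rfl
  · -- `e = 0`
    have h1 := he 1
    have e3 : ((-1 : ZMod 3) * 1 - 0) = 2 := by decide
    rw [e3, v1, v2] at h1
    omega
  · -- `e = 1`
    have h0 := he 0
    have e3 : ((-1 : ZMod 3) * 0 - 1) = 2 := by decide
    rw [e3, v0, v2] at h0
    omega
  · -- `e = 2`
    have h1 := he 1
    have e3 : ((-1 : ZMod 3) * 1 - 2) = 0 := by decide
    rw [e3, v0, v1] at h1
    omega

/-- the multiplicity function of `diag(1, …, 1, ζ ^ τ)` -/
def mD3 (r n : ℕ) (τ : ZMod r) : ZMod r → ℕ := fun t =>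
  (if t = 0 then n - 1 else 0) + (if t = τ then 1 else 0)

theorem card_mD3 (n : ℕ) (hn : 1 ≤ n) (τ : ZMod r) : ∑ t : ZMod r, mD3 r n τ t = n := by
  unfold mD3
  simp only [Finset.sum_add_distrib, Finset.sum_ite_eq', Finset.mem_univ, if_true]
  omega

theorem wsum_mD3 (n : ℕ) (τ : ZMod r) : ∑ t : ZMod r, mD3 r n τ t • t = τ := by
  unfold mD3
  simp only [add_smul, ite_smul, one_smul, zero_smul, Finset.sum_add_distrib, Finset.sum_ite_eq',
    Finset.mem_univ, if_true, smul_zero, zero_add]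

theorem no_twist_mD3 (hr2 : r ≠ 2) (n : ℕ) (hn : 3 ≤ n) (τ : ZMod r) (hτ : τ ≠ 0) :
    ¬ ∃ e : ZMod r, ∀ t, mD3 r n τ t = mD3 r n τ ((-1) * t - e) := by
  rintro ⟨e, he⟩
  have h2 := zmod_two_ne_zero (r := r) hr2
  have v0 : mD3 r n τ 0 = n - 1 := by
    unfold mD3; rw [if_pos rfl, if_neg (Ne.symm hτ)]; rfl
  have vτ : mD3 r n τ τ = 1 := by
    unfold mD3; rw [if_neg hτ, if_pos rfl]
  have hbig : ∀ t : ZMod r, 2 ≤ mD3 r n τ t → t = 0 := by
    intro t ht
    unfold mD3 at ht
    by_contra c0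
    rw [if_neg c0] at ht
    split_ifs at ht <;> omega
  have hpos : ∀ t : ZMod r, mD3 r n τ t = 1 → t = τ := by
    intro t ht
    unfold mD3 at ht
    by_cases c0 : t = 0
    · rw [if_pos c0, if_neg (by rw [c0]; exact Ne.symm hτ)] at ht
      omega
    · rw [if_neg c0] at ht
      by_contra c1
      rw [if_neg c1] at ht
      omega
  have a0 := hbig _ (by rw [← he 0, v0]; omega)
  have he0 : e = 0 := by linear_combination -a0
  have a1 := hpos _ ((he τ).symm.trans vτ)
  rw [he0] at a1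
  apply hτ
  have : (2 : ZMod r) * τ = 0 := by linear_combination -a1
  rcases mul_eq_zero.mp this with h | h
  · exact absurd h h2
  · exact h

end Cfsg.Agent.Lib.H11.SubfR
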