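import Cfsg.Agent.Lib.H11.SubspMax2

/-!
Maximality of the stabiliser of a nondegenerate subspace in `Sp_{2m}(F)`.
-/

set_option autoImplicit false
set_option linter.unusedSimpArgs false
set_option linter.unusedSectionVars false
set_option linter.unusedVariables false

namespace Cfsg.Agent.Lib.H11.SubspMax

open Matrix Module
open Cfsg.Agent.Lib.H28
open Cfsg.Agent.Lib.H4 (sympForm_self sympForm_add_left sympForm_add_right sympForm_smul_left
  sympForm_smul_right sympForm_swap)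
open Cfsg.Agent.S0768 (B₀ B₀_apply B₀_alt B₀_nondeg)

section nondeg
variable {F : Type*} [Field F] {m : ℕ}

local notation "VV" => (Fin m ⊕ Fin m → F)
local notation "GG" => GL (Fin m ⊕ Fin m) F
local notation "MM" => Matrix (Fin m ⊕ Fin m) (Fin m ⊕ Fin m) F

/-- in a subspace on which the form is nondegenerate two nonzero vectors have a common
non-orthogonal vector -/
theorem exists_common (U : Submodule F (Fin m ⊕ Fin m → F))
    (hU : ∀ w ∈ U, w ≠ 0 → ∃ x ∈ U, Cfsg.sympForm m F w x ≠ 0) {a a' : VV} (ha : a ∈ U)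
    (ha' : a' ∈ U) (ha0 : a ≠ 0) (ha'0 : a' ≠ 0) :
    ∃ z ∈ U, Cfsg.sympForm m F a z ≠ 0 ∧ Cfsg.sympForm m F a' z ≠ 0 := by
  obtain ⟨z₁, hz₁U, hz₁⟩ := hU a ha ha0
  obtain ⟨z₂, hz₂U, hz₂⟩ := hU a' ha' ha'0
  by_cases h1 : Cfsg.sympForm m F a' z₁ ≠ 0
  · exact ⟨z₁, hz₁U, hz₁, h1⟩
  · rw [not_not] at h1
    by_cases h3 : Cfsg.sympForm m F a z₂ ≠ 0
    · exact ⟨z₂, hz₂U, h3, hz₂⟩
    · rw [not_not] at h3
      refine ⟨z₁ + z₂, U.add_mem hz₁U hz₂U, ?_, ?_⟩
      · rw [sympForm_add_right, h3, add_zero]; exact hz₁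
      · rw [sympForm_add_right, h1, zero_add]; exact hz₂

variable {M : Subgroup (GL (Fin m ⊕ Fin m) F)}

/-- moving the `U`-component of a centre -/
theorem move (hMS : M ≤ Cfsg.spGL m F) (U : Submodule F (Fin m ⊕ Fin m → F))
    (hUS : ∀ u ∈ U, u ∈ Scl M)
    (hU : ∀ w ∈ U, w ≠ 0 → ∃ x ∈ U, Cfsg.sympForm m F w x ≠ 0) (b : VV)
    (hb : ∀ u ∈ U, Cfsg.sympForm m F b u = 0) {a a' : VV} (ha : a ∈ U) (ha' : a' ∈ U)
    (ha0 : a ≠ 0) (ha'0 : a' ≠ 0) (h : a + b ∈ Scl M) : a' + b ∈ Scl M := by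
  have step : ∀ {a₁ a₂ : VV}, a₁ ∈ U → a₂ ∈ U → Cfsg.sympForm m F a₁ a₂ ≠ 0 →
      a₁ + b ∈ Scl M → a₂ + b ∈ Scl M := by
    intro a₁ a₂ h1 h2 hne hmem
    have hu : a₂ - a₁ ∈ U := U.sub_mem h2 h1
    have hf : Cfsg.sympForm m F (a₁ + b) (a₂ - a₁) ≠ 0 := by
      rw [sympForm_add_left, hb _ hu, add_zero, sympForm_sub_right, sympForm_self, sub_zero]
      exact hne
    have := Scl_add' hMS (hUS _ hu) hmem hf
    have e : a₁ + b + (a₂ - a₁) = a₂ + b := by abel
    rwa [e] at this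
  by_cases hne : Cfsg.sympForm m F a a' ≠ 0
  · exact step ha ha' hne h
  · obtain ⟨z, hzU, hz1, hz2⟩ := exists_common U hU ha ha' ha0 ha'0
    exact step hzU ha' (sympForm_ne_swap hz2) (step ha hzU hz1 h)

/-- images of a subspace inside a union of two subspaces -/
theorem image_sub_union (g : GG) (U A B : Submodule F (Fin m ⊕ Fin m → F))
    (h : ∀ u ∈ U, (g : MM) *ᵥ u ∈ A ∨ (g : MM) *ᵥ u ∈ B) :
    (∀ u ∈ U, (g : MM) *ᵥ u ∈ A) ∨ (∀ u ∈ U, (g : MM) *ᵥ u ∈ B) := by
  by_contra hcon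
  push Not at hcon
  obtain ⟨⟨u₁, hu₁, h1⟩, ⟨u₂, hu₂, h2⟩⟩ := hcon
  have h1B := (h u₁ hu₁).resolve_left h1
  have h2A := (h u₂ hu₂).resolve_right h2
  rcases h (u₁ + u₂) (U.add_mem hu₁ hu₂) with h3 | h3
  · rw [Matrix.mulVec_add] at h3
    exact h1 ((A.add_mem_iff_left h2A).1 h3)
  · rw [Matrix.mulVec_add] at h3
    exact h2 ((B.add_mem_iff_right h1B).1 h3)

theorem gl_mulVec_injective (g : GG) {x y : VV} (h : (g : MM) *ᵥ x = (g : MM) *ᵥ y) : x = y := by
  have := congrArg (fun z => ((g⁻¹ : GG) : MM) *ᵥ z) h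
  simpa [gl_inv_mulVec] using this

theorem finrank_le_of_image (g : GG) (U A : Submodule F (Fin m ⊕ Fin m → F))
    (h : ∀ u ∈ U, (g : MM) *ᵥ u ∈ A) : Module.finrank F U ≤ Module.finrank F A := by
  let φ : U →ₗ[F] A := LinearMap.codRestrict A ((Matrix.toLin' (g : MM)).domRestrict U)
    (fun u => by
      show Matrix.toLin' (g : MM) u.1 ∈ A
      rw [Matrix.toLin'_apply]; exact h u.1 u.2)
  apply LinearMap.finrank_le_finrank_of_injective (f := φ)
  intro x y hxy
  have h1 : (g : MM) *ᵥ x.1 = (g : MM) *ᵥ y.1 := by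
    have := congrArg Subtype.val hxy
    simpa [φ, Matrix.toLin'_apply] using this
  exact Subtype.ext (gl_mulVec_injective g h1)

theorem sp_nondeg_maximal (W : Submodule F (Fin m ⊕ Fin m → F)) (hW0 : W ≠ ⊥)
    (hW : Cfsg.Geo.IsNondegenerateOn (Cfsg.sympForm m F) W) (hdim : Module.finrank F W < m) :
    Cfsg.Geo.IsMaximalIn (Cfsg.spGL m F) (Cfsg.Geo.subspaceStabilizer W ⊓ Cfsg.spGL m F) := by
  set Wp : Submodule F VV := (B₀ F m).orthogonal W with hWp
  have hmemWp : ∀ v : VV, v ∈ Wp ↔ ∀ w ∈ W, Cfsg.sympForm m F w v = 0 := by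
    intro v
    rw [hWp, LinearMap.BilinForm.mem_orthogonal_iff]
    constructor
    · intro h w hw; rw [← B₀_apply]; exact h w hw
    · intro h w hw; rw [B₀_apply]; exact h w hw
  have hrefl : (B₀ F m).IsRefl := (B₀_alt (F := F) (m := m)).isRefl
  have hres : ((B₀ F m).restrict W).Nondegenerate := by
    constructor
    · intro x hx
      by_contra hx0
      have hx0' : x.1 ≠ 0 := fun h => hx0 (Subtype.ext h)
      obtain ⟨y, hyW, hy⟩ := (hW x.1 x.2 hx0').2
      apply hy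
      have := hx ⟨y, hyW⟩
      rw [LinearMap.BilinForm.restrict_apply] at this
      simpa [B₀_apply] using this
    · intro x hx
      by_contra hx0
      have hx0' : x.1 ≠ 0 := fun h => hx0 (Subtype.ext h)
      obtain ⟨y, hyW, hy⟩ := (hW x.1 x.2 hx0').1
      apply hy
      have := hx ⟨y, hyW⟩
      rw [LinearMap.BilinForm.restrict_apply] at this
      simpa [B₀_apply] using this
  have hcompl : IsCompl W Wp :=
    LinearMap.BilinForm.isCompl_orthogonal_of_restrict_nondegenerate hrefl hres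
  have hdec : ∀ v : VV, ∃ a ∈ W, ∃ b ∈ Wp, v = a + b := by
    intro v
    have : v ∈ W ⊔ Wp := by rw [hcompl.sup_eq_top]; exact Submodule.mem_top
    obtain ⟨a, ha, b, hb, hab⟩ := Submodule.mem_sup.1 this
    exact ⟨a, ha, b, hb, hab.symm⟩
  have hdisj : ∀ v : VV, v ∈ W → v ∈ Wp → v = 0 := by
    intro v h1 h2
    have : v ∈ W ⊓ Wp := ⟨h1, h2⟩
    rw [hcompl.inf_eq_bot] at this
    exact (Submodule.mem_bot F).1 this
  have hfr : Module.finrank F W + Module.finrank F Wp = 2 * m := by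
    rw [Submodule.finrank_add_eq_of_isCompl hcompl, Module.finrank_fintype_fun_eq_card,
      Fintype.card_sum, Fintype.card_fin]; ring
  -- orthogonality both ways
  have hWWp : ∀ w ∈ W, ∀ b ∈ Wp, Cfsg.sympForm m F w b = 0 := fun w hw b hb =>
    (hmemWp b).1 hb w hw
  have hWpW : ∀ b ∈ Wp, ∀ w ∈ W, Cfsg.sympForm m F b w = 0 := fun b hb w hw =>
    sympForm_eq_swap (hWWp w hw b hb)
  -- nondegeneracy of the two pieces
  have hWnd : ∀ w ∈ W, w ≠ 0 → ∃ x ∈ W, Cfsg.sympForm m F w x ≠ 0 := fun w hw hw0 =>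
    (hW w hw hw0).2
  have hWpnd : ∀ b ∈ Wp, b ≠ 0 → ∃ x ∈ Wp, Cfsg.sympForm m F b x ≠ 0 := by
    intro b hb hb0
    obtain ⟨y, hy⟩ := exists_sympForm_ne b hb0
    obtain ⟨y₁, hy₁, y₂, hy₂, rfl⟩ := hdec y
    refine ⟨y₂, hy₂, ?_⟩
    rw [sympForm_add_right, hWpW b hb y₁ hy₁, zero_add] at hy
    exact hy
  obtain ⟨w₀, hw₀W, hw₀⟩ := (Submodule.ne_bot_iff W).1 hW0
  have hWp0 : ∃ b₀ ∈ Wp, b₀ ≠ 0 := by
    have : 0 < Module.finrank F Wp := by omega
    obtain ⟨b, hb⟩ := Module.finrank_pos_iff_exists_ne_zero.1 this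
    exact ⟨b.1, b.2, fun h => hb (Subtype.ext h)⟩
  obtain ⟨b₀, hb₀Wp, hb₀⟩ := hWp0
  refine ⟨lt_of_le_of_ne inf_le_right ?_, ?_⟩
  · -- properness
    intro heq
    obtain ⟨w', hw'W, hw'⟩ := hWnd w₀ hw₀W hw₀
    have hmem : stv (w' + b₀) (1 : F) ∈ Cfsg.Geo.subspaceStabilizer W ⊓ Cfsg.spGL m F := by
      rw [heq]; exact stv_mem_spGL _ _
    have h1 := ((mem_subspaceStabilizer_iff _ W).1 hmem.1 w₀).1 hw₀W
    rw [stv_mulVec, one_mul, sympForm_add_right, hWWp w₀ hw₀W b₀ hb₀Wp, add_zero, smul_add,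
      ← add_assoc] at h1
    have h3 : Cfsg.sympForm m F w₀ w' • b₀ ∈ W :=
      (W.add_mem_iff_right (W.add_mem hw₀W (W.smul_mem _ hw'W))).1 h1
    have h4 := hdisj _ h3 (Wp.smul_mem _ hb₀Wp)
    rcases smul_eq_zero.1 h4 with h5 | h5
    · exact hw' h5
    · exact hb₀ h5
  · intro M hPM hMS
    by_cases hne : M = Cfsg.Geo.subspaceStabilizer W ⊓ Cfsg.spGL m F
    · left; exact hne
    · right
      have hWS : ∀ w ∈ W, w ∈ Scl M := by
        intro w hw c
        refine hPM ⟨?_, stv_mem_spGL w c⟩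
        show stv w c ∈ Cfsg.Geo.subspaceStabilizer W
        rw [mem_subspaceStabilizer_iff]
        intro x
        rw [stv_mulVec]
        constructor
        · intro hx; exact W.add_mem hx (W.smul_mem _ hw)
        · intro hx
          have := W.sub_mem hx (W.smul_mem (c * Cfsg.sympForm m F x w) hw)
          rwa [add_sub_cancel_right] at this
      have hWpS : ∀ b ∈ Wp, b ∈ Scl M := by
        intro b hb c
        refine hPM ⟨?_, stv_mem_spGL b c⟩
        show stv b c ∈ Cfsg.Geo.subspaceStabilizer W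
        apply mem_subspaceStabilizer_of_fix
        intro w hw
        rw [stv_mulVec, hWWp w hw b hb, mul_zero, zero_smul, add_zero]
      -- a mixed centre
      have hmixed : ∃ a ∈ W, ∃ b ∈ Wp, a ≠ 0 ∧ b ≠ 0 ∧ a + b ∈ Scl M := by
        by_contra hcon
        push Not at hcon
        have hS : ∀ v ∈ Scl M, v ∈ W ∨ v ∈ Wp := by
          intro v hv
          obtain ⟨a, ha, b, hb, rfl⟩ := hdec v
          by_cases ha0 : a = 0
          · right; rw [ha0, zero_add]; exact hb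
          · by_cases hb0 : b = 0
            · left; rw [hb0, add_zero]; exact ha
            · exact absurd hv (hcon a ha b hb ha0 hb0)
        have hclaim : ∀ g ∈ M, ∀ w ∈ W, (g : MM) *ᵥ w ∈ W := by
          intro g hg
          have hWp' : ∀ b ∈ Wp, (g : MM) *ᵥ b ∈ Wp := by
            rcases image_sub_union g Wp W Wp
              (fun b hb => hS _ (Scl_inv hMS hg (hWpS b hb))) with h | h
            · have := finrank_le_of_image g Wp W h
              omega
            · exact h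
          rcases image_sub_union g W W Wp (fun w hw => hS _ (Scl_inv hMS hg (hWS w hw))) with h | h
          · exact h
          · exfalso
            obtain ⟨a, ha, b, hb, hab⟩ := hdec (((g⁻¹ : GG) : MM) *ᵥ w₀)
            have h1 : (g : MM) *ᵥ (a + b) = w₀ := by rw [← hab, gl_mulVec_inv]
            rw [Matrix.mulVec_add] at h1
            have : w₀ ∈ Wp := by rw [← h1]; exact Wp.add_mem (h a ha) (hWp' b hb)
            exact hw₀ (hdisj _ hw₀W this)
        apply hne
        apply le_antisymm _ hPM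
        intro g hg
        refine ⟨?_, hMS hg⟩
        show g ∈ Cfsg.Geo.subspaceStabilizer W
        rw [mem_subspaceStabilizer_iff]
        intro v
        constructor
        · intro hv; exact hclaim g hg v hv
        · intro hv
          have := hclaim g⁻¹ (M.inv_mem hg) _ hv
          rwa [gl_inv_mulVec] at this
      obtain ⟨a, ha, b, hb, ha0, hb0, hab⟩ := hmixed
      apply eq_spGL_of_Scl hMS
      intro v
      obtain ⟨a', ha', b', hb', rfl⟩ := hdec v
      by_cases ha'0 : a' = 0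
      · rw [ha'0, zero_add]; exact hWpS b' hb'
      · by_cases hb'0 : b' = 0
        · rw [hb'0, add_zero]; exact hWS a' ha'
        · have h1 : a' + b ∈ Scl M :=
            move hMS W hWS hWnd b (fun u hu => hWpW b hb u hu) ha ha' ha0 ha'0 hab
          rw [add_comm] at h1
          have h3 : b' + a' ∈ Scl M :=
            move hMS Wp hWpS hWpnd a' (fun u hu => hWWp a' ha' u hu) hb hb' hb0 hb'0 h1
          rwa [add_comm] at h3

end nondeg

end Cfsg.Agent.Lib.H11.SubspMax
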