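import Cfsg.Agent.Lib.H11.SubspMax3
import Cfsg.Agent.S0749

/-!
Maximality of the stabiliser of a totally isotropic subspace in `Sp_{2m}(F)`.
-/

set_option autoImplicit false
set_option linter.unusedSimpArgs false
set_option linter.unusedSectionVars false
set_option linter.unusedVariables false

namespace Cfsg.Agent.Lib.H11.SubspMax

open Matrix Module
open Cfsg.Agent.Lib.H28
open Cfsg.Agent.Lib.H4 (sympForm_self sympForm_add_left sympForm_add_right sympForm_smul_left
  sympForm_smul_right sympForm_swap)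
open Cfsg.Agent.S0768 (B₀ B₀_apply B₀_alt B₀_nondeg)

section ts
variable {F : Type*} [Field F] {m : ℕ}

local notation "VV" => (Fin m ⊕ Fin m → F)
local notation "GG" => GL (Fin m ⊕ Fin m) F
local notation "MM" => Matrix (Fin m ⊕ Fin m) (Fin m ⊕ Fin m) F

/-- Witt: the stabiliser of a totally isotropic `W` is transitive on `V / W^⊥ ∖ 0` -/
theorem exists_stab_move (W : Submodule F (Fin m ⊕ Fin m → F))
    (hW : ∀ u ∈ W, ∀ v ∈ W, Cfsg.sympForm m F u v = 0) (x y : VV)
    (hx : ∃ w ∈ W, Cfsg.sympForm m F x w ≠ 0) (hy : ∃ w ∈ W, Cfsg.sympForm m F y w ≠ 0) :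
    ∃ g : GG, g ∈ Cfsg.spGL m F ∧ g ∈ Cfsg.Geo.subspaceStabilizer W ∧
      ∀ w ∈ W, Cfsg.sympForm m F w ((g : MM) *ᵥ x - y) = 0 := by
  -- the vector `d`
  obtain ⟨d, hdW, hd1, hd2⟩ : ∃ d ∈ W, Cfsg.sympForm m F y d = 1 ∧ Cfsg.sympForm m F x d ≠ 0 := by
    obtain ⟨d₀, hd₀W, hd₀⟩ := hy
    obtain ⟨e, heW, he⟩ := hx
    set d₁ := (Cfsg.sympForm m F y d₀)⁻¹ • d₀ with hd₁
    have hd₁W : d₁ ∈ W := W.smul_mem _ hd₀W
    have hd₁1 : Cfsg.sympForm m F y d₁ = 1 := by
      rw [hd₁, sympForm_smul_right, inv_mul_cancel₀ hd₀]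
    by_cases h1 : Cfsg.sympForm m F x d₁ ≠ 0
    · exact ⟨d₁, hd₁W, hd₁1, h1⟩
    · rw [not_not] at h1
      by_cases h3 : Cfsg.sympForm m F y e = 0
      · refine ⟨d₁ + e, W.add_mem hd₁W heW, ?_, ?_⟩
        · rw [sympForm_add_right, hd₁1, h3, add_zero]
        · rw [sympForm_add_right, h1, zero_add]; exact he
      · refine ⟨(Cfsg.sympForm m F y e)⁻¹ • e, W.smul_mem _ heW, ?_, ?_⟩
        · rw [sympForm_smul_right, inv_mul_cancel₀ h3]
        · rw [sympForm_smul_right]
          exact mul_ne_zero (inv_ne_zero h3) he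
  have hd0 : d ≠ 0 := by
    rintro rfl
    rw [sympForm_zero_right] at hd1
    exact zero_ne_one hd1
  -- the map `A`
  let ν : VV →ₗ[F] F := B₀ F m x - B₀ F m y
  have hν : ∀ v, ν v = Cfsg.sympForm m F x v - Cfsg.sympForm m F y v := by
    intro v
    show B₀ F m x v - B₀ F m y v = _
    rw [B₀_apply, B₀_apply]
  let A : VV →ₗ[F] VV := LinearMap.id + ν.smulRight d
  have hA : ∀ v, A v = v + ν v • d := by
    intro v
    show v + ν v • d = _
    rfl
  have hyA : ∀ v, Cfsg.sympForm m F y (A v) = Cfsg.sympForm m F x v := by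
    intro v
    rw [hA, sympForm_add_right, sympForm_smul_right, hd1, hν]; ring
  have hAW : ∀ w ∈ W, A w ∈ W := by
    intro w hw
    rw [hA]; exact W.add_mem hw (W.smul_mem _ hdW)
  have hAinj : Function.Injective A := by
    rw [← LinearMap.ker_eq_bot, LinearMap.ker_eq_bot']
    intro v hv
    rw [hA] at hv
    have hv' : v = (-ν v) • d := by
      rw [neg_smul]; exact eq_neg_of_add_eq_zero_left hv
    have h1 : ν v = (-ν v) * ν d := by
      conv_lhs => rw [hv', map_smul, smul_eq_mul]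
    have hνd : ν d = Cfsg.sympForm m F x d - 1 := by rw [hν, hd1]
    have h3 : ν v * Cfsg.sympForm m F x d = 0 := by
      rw [hνd] at h1; linear_combination h1
    have h4 : ν v = 0 := (mul_eq_zero.1 h3).resolve_right hd2
    rw [hv', h4, neg_zero, zero_smul]
  -- the restriction of `A` to `W`
  let AW : W →ₗ[F] W := A.restrict hAW
  have hAWinj : Function.Injective AW := by
    intro u v huv
    have := congrArg Subtype.val huv
    exact Subtype.ext (hAinj this)
  have hAWsurj : Function.Surjective AW := LinearMap.surjective_of_injective hAWinj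
  have hAWsurj' : ∀ w' ∈ W, ∃ w ∈ W, A w = w' := by
    intro w' hw'
    obtain ⟨w, hw⟩ := hAWsurj ⟨w', hw'⟩
    exact ⟨w.1, w.2, congrArg Subtype.val hw⟩
  -- Witt
  let b := Module.finBasis F W
  have hli : LinearIndependent F (fun i => ((b i : W) : VV)) :=
    b.linearIndependent.map' W.subtype (Submodule.ker_subtype W)
  have hli' : LinearIndependent F (fun i => A ((b i : W) : VV)) :=
    hli.map' A (LinearMap.ker_eq_bot.2 hAinj)
  obtain ⟨g, hgiso, hgb⟩ := Cfsg.Agent.S0749.witt_family (B := B₀ F m) B₀_nondeg B₀_alt _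
    (fun i => ((b i : W) : VV)) (fun i => A ((b i : W) : VV)) hli hli'
    (by
      intro i j
      rw [B₀_apply, B₀_apply, hW _ (hAW _ (b i).2) _ (hAW _ (b j).2), hW _ (b i).2 _ (b j).2])
  have hgW : ∀ w ∈ W, g w = A w := by
    intro w hw
    have h1 : (g : VV →ₗ[F] VV).comp W.subtype = A.comp W.subtype := by
      apply b.ext
      intro i
      exact hgb i
    exact congrArg (fun φ : W →ₗ[F] VV => φ ⟨w, hw⟩) h1
  have hgf : ∀ u v, Cfsg.sympForm m F (g u) (g v) = Cfsg.sympForm m F u v := by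
    intro u v
    rw [← B₀_apply, ← B₀_apply]; exact hgiso u v
  refine ⟨glOfEquiv g, ?_, ?_, ?_⟩
  · rw [mem_spGL_iff]
    intro u v
    rw [glOfEquiv_mulVec, glOfEquiv_mulVec]; exact hgf u v
  · rw [mem_subspaceStabilizer_iff]
    intro v
    rw [glOfEquiv_mulVec]
    constructor
    · intro hv; rw [hgW v hv]; exact hAW v hv
    · intro hv
      obtain ⟨w, hw, hAw⟩ := hAWsurj' _ hv
      rw [← hgW w hw] at hAw
      rw [← g.injective hAw]; exact hw
  · intro w' hw'
    rw [glOfEquiv_mulVec]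
    obtain ⟨w, hw, rfl⟩ := hAWsurj' _ hw'
    rw [sympForm_sub_right]
    have h1 : Cfsg.sympForm m F (A w) (g x) = Cfsg.sympForm m F w x := by
      rw [← hgW w hw]; exact hgf w x
    have h3 : Cfsg.sympForm m F (A w) y = Cfsg.sympForm m F w x := by
      rw [sympForm_swap, hyA, sympForm_swap m x w, neg_neg]
    rw [h1, h3, sub_self]

theorem sp_ts_maximal (W : Submodule F (Fin m ⊕ Fin m → F)) (hW0 : W ≠ ⊥)
    (hW : Cfsg.Geo.IsTotallySingularFor (Cfsg.sympForm m F) W) :
    Cfsg.Geo.IsMaximalIn (Cfsg.spGL m F) (Cfsg.Geo.subspaceStabilizer W ⊓ Cfsg.spGL m F) := by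
  have hW' : ∀ u ∈ W, ∀ v ∈ W, Cfsg.sympForm m F u v = 0 := hW
  set Wp : Submodule F VV := (B₀ F m).orthogonal W with hWp
  have hmemWp : ∀ v : VV, v ∈ Wp ↔ ∀ w ∈ W, Cfsg.sympForm m F w v = 0 := by
    intro v
    rw [hWp, LinearMap.BilinForm.mem_orthogonal_iff]
    constructor
    · intro h w hw; rw [← B₀_apply]; exact h w hw
    · intro h w hw; rw [B₀_apply]; exact h w hw
  have hrefl : (B₀ F m).IsRefl := (B₀_alt (F := F) (m := m)).isRefl
  have hWWp : W ≤ Wp := fun w hw => (hmemWp w).2 (fun w' hw' => hW' w' hw' w hw)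
  have hperp : ∀ v : VV, (∀ b ∈ Wp, Cfsg.sympForm m F b v = 0) → v ∈ W := by
    intro v hv
    have h1 : v ∈ (B₀ F m).orthogonal Wp := by
      rw [LinearMap.BilinForm.mem_orthogonal_iff]
      intro b hb
      rw [B₀_apply]; exact hv b hb
    rw [hWp, LinearMap.BilinForm.orthogonal_orthogonal B₀_nondeg hrefl] at h1
    exact h1
  have hnotWp : ∀ v : VV, v ∉ Wp → ∃ w ∈ W, Cfsg.sympForm m F v w ≠ 0 := by
    intro v hv
    rw [hmemWp] at hv
    push Not at hv
    obtain ⟨w, hw, hne⟩ := hv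
    exact ⟨w, hw, sympForm_ne_swap hne⟩
  obtain ⟨w₀, hw₀W, hw₀⟩ := (Submodule.ne_bot_iff W).1 hW0
  refine ⟨lt_of_le_of_ne inf_le_right ?_, ?_⟩
  · intro heq
    obtain ⟨z, hz⟩ := exists_sympForm_ne w₀ hw₀
    have hmem : stv z (1 : F) ∈ Cfsg.Geo.subspaceStabilizer W ⊓ Cfsg.spGL m F := by
      rw [heq]; exact stv_mem_spGL _ _
    have h1 := ((mem_subspaceStabilizer_iff _ W).1 hmem.1 w₀).1 hw₀W
    rw [stv_mulVec, one_mul] at h1
    have h3 : Cfsg.sympForm m F w₀ z • z ∈ W := (W.add_mem_iff_right hw₀W).1 h1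
    have h4 : z ∈ W := by
      have := W.smul_mem (Cfsg.sympForm m F w₀ z)⁻¹ h3
      rwa [smul_smul, inv_mul_cancel₀ hz, one_smul] at this
    exact hz (hW' w₀ hw₀W z h4)
  · intro M hPM hMS
    by_cases hne : M = Cfsg.Geo.subspaceStabilizer W ⊓ Cfsg.spGL m F
    · left; exact hne
    · right
      have hWpS : ∀ b ∈ Wp, b ∈ Scl M := by
        intro b hb c
        refine hPM ⟨?_, stv_mem_spGL b c⟩
        show stv b c ∈ Cfsg.Geo.subspaceStabilizer W
        apply mem_subspaceStabilizer_of_fix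
        intro w hw
        rw [stv_mulVec, (hmemWp b).1 hb w hw, mul_zero, zero_smul, add_zero]
      -- a centre outside `W^⊥`
      have hout : ∃ x ∈ Scl M, x ∉ Wp := by
        by_contra hcon
        push Not at hcon
        have hclaim : ∀ g ∈ M, ∀ w ∈ W, (g : MM) *ᵥ w ∈ W := by
          intro g hg w hw
          apply hperp
          intro b hb
          have h1 : ((g⁻¹ : GG) : MM) *ᵥ b ∈ Wp :=
            hcon _ (Scl_inv hMS (M.inv_mem hg) (hWpS b hb))
          have h3 := (mem_spGL_iff g).1 (hMS hg) (((g⁻¹ : GG) : MM) *ᵥ b) w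
          rw [gl_mulVec_inv] at h3
          rw [h3]
          exact sympForm_eq_swap ((hmemWp _).1 h1 w hw)
        apply hne
        apply le_antisymm _ hPM
        intro g hg
        refine ⟨?_, hMS hg⟩
        show g ∈ Cfsg.Geo.subspaceStabilizer W
        rw [mem_subspaceStabilizer_iff]
        intro v
        constructor
        · intro hv; exact hclaim g hg v hv
        · intro hv
          have := hclaim g⁻¹ (M.inv_mem hg) _ hv
          rwa [gl_inv_mulVec] at this
      -- cosets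
      have hcoset : ∀ x ∈ Scl M, x ∉ Wp → ∀ u ∈ Wp, x + u ∈ Scl M := by
        intro x hxS hxWp u hu
        by_cases h1 : Cfsg.sympForm m F x u ≠ 0
        · exact Scl_add' hMS (hWpS u hu) hxS h1
        · rw [not_not] at h1
          obtain ⟨w, hw, hxw⟩ := hnotWp x hxWp
          have hxw' : x + w ∈ Scl M := Scl_add' hMS (hWpS w (hWWp hw)) hxS hxw
          have huw : u - w ∈ Wp := Wp.sub_mem hu (hWWp hw)
          have hf : Cfsg.sympForm m F (x + w) (u - w) ≠ 0 := by
            rw [sympForm_add_left, sympForm_sub_right, sympForm_sub_right, h1,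
              (hmemWp u).1 hu w hw, sympForm_self]
            intro h
            apply hxw
            linear_combination -h
          have := Scl_add' hMS (hWpS _ huw) hxw' hf
          have e : x + w + (u - w) = x + u := by abel
          rwa [e] at this
      obtain ⟨x, hxS, hxWp⟩ := hout
      apply eq_spGL_of_Scl hMS
      intro y
      by_cases hy : y ∈ Wp
      · exact hWpS y hy
      · obtain ⟨g, hgSp, hgStab, hgxy⟩ := exists_stab_move W hW' x y (hnotWp x hxWp) (hnotWp y hy)
        have hgM : g ∈ M := hPM ⟨hgStab, hgSp⟩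
        have hgx : (g : MM) *ᵥ x ∈ Scl M := Scl_inv hMS hgM hxS
        have hdiff : (g : MM) *ᵥ x - y ∈ Wp := (hmemWp _).2 hgxy
        have hgxWp : (g : MM) *ᵥ x ∉ Wp := by
          intro h
          apply hy
          have := Wp.sub_mem h hdiff
          rwa [sub_sub_cancel] at this
        have := hcoset _ hgx hgxWp _ (Wp.neg_mem hdiff)
        have e : (g : MM) *ᵥ x + -((g : MM) *ᵥ x - y) = y := by abel
        rwa [e] at this

end ts

end Cfsg.Agent.Lib.H11.SubspMax
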