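/-
Generic Sylow lemma (helper11): if `p` divides `|Γ|` exactly once, then any two elements of order `p` generate conjugate
subgroups: `g x g⁻¹ ∈ ⟨y⟩` for some `g`.
-/
import Mathlib

set_option autoImplicit false

namespace Cfsg.Agent.Lib.H11.SylowCyc

theorem zpowers_eq_sylow {Γ : Type*} [Group Γ] [Finite Γ] (p : ℕ) [Fact p.Prime]
    (hp : (Nat.card Γ).factorization p = 1) (x : Γ) (hx : orderOf x = p) :
    ∃ Q : Sylow p Γ, (Q : Subgroup Γ) = Subgroup.zpowers x := by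
  have hcard : Nat.card (Subgroup.zpowers x) = p := by rw [Nat.card_zpowers, hx]
  have hP : IsPGroup p (Subgroup.zpowers x) := IsPGroup.of_card (n := 1) (by rw [hcard, pow_one])
  obtain ⟨Q, hQ⟩ := hP.exists_le_sylow
  refine ⟨Q, ?_⟩
  have hQc : Nat.card (Q : Subgroup Γ) = p := by
    have := Q.card_eq_multiplicity
    rw [hp, pow_one] at this
    exact this
  exact (Subgroup.eq_of_le_of_card_ge hQ (by rw [hQc, hcard])).symm

theorem exists_conj_mem_zpowers {Γ : Type*} [Group Γ] [Finite Γ] (p : ℕ) [Fact p.Prime]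
    (hp : (Nat.card Γ).factorization p = 1) (x y : Γ) (hx : orderOf x = p) (hy : orderOf y = p) :
    ∃ g : Γ, g * x * g⁻¹ ∈ Subgroup.zpowers y := by
  obtain ⟨Q₁, hQ₁⟩ := zpowers_eq_sylow p hp x hx
  obtain ⟨Q₂, hQ₂⟩ := zpowers_eq_sylow p hp y hy
  obtain ⟨g, hg⟩ := MulAction.exists_smul_eq Γ Q₁ Q₂
  refine ⟨g, ?_⟩
  rw [← hQ₂, ← hg, Sylow.coe_subgroup_smul, Subgroup.mem_pointwise_smul_iff_inv_smul_mem]
  rw [hQ₁]
  have : (MulAut.conj g)⁻¹ • (g * x * g⁻¹) = x := by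
    rw [← map_inv, MulAut.smul_def, MulAut.conj_apply]
    group
  rw [this]
  exact Subgroup.mem_zpowers x

end Cfsg.Agent.Lib.H11.SylowCyc
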