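/-
S3702 (architects helper7 + helper18), piece GRP2: the TI property in the strong form.
-/
import Mathlib
import Cfsg.Agent.Lib.H7.T648Defs
import Cfsg.Agent.Lib.H7.T648Model
import Cfsg.Prelude.Def_TwoFusion
import Cfsg.Agent.Lib.H14.T648MODA
import Cfsg.Agent.Lib.H26.T648MODC

set_option autoImplicit false

namespace Cfsg.Agent.Lib.H11.T648

open Cfsg Cfsg.Agent.Lib.H7.T648

section grp2

variable {G : Type*} [Group G] (H J : Subgroup G) (e : ↥H ≃* M648)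

/-- transfer of an element of the centraliser of `e j` to the centraliser of `e (g j g⁻¹)` -/
theorem cent_transfer (hC : ∀ j ∈ J, j ≠ 1 → Subgroup.centralizer ({j} : Set G) ≤ H)
    (j : G) (hjH : j ∈ H) (g : G) (hj'H : g * j * g⁻¹ ∈ H) (hj'J : g * j * g⁻¹ ∈ J) (hj'1 : g * j * g⁻¹ ≠ 1)
    (x : M648) (hx : x * e ⟨j, hjH⟩ = e ⟨j, hjH⟩ * x) :
    ∃ x' : M648, x' * e ⟨g * j * g⁻¹, hj'H⟩ = e ⟨g * j * g⁻¹, hj'H⟩ * x' ∧ ∀ n : ℕ, x' ^ n = 1 ↔ x ^ n = 1 := by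
  -- the element `X` of `H` with coordinates `x`
  have hXj : ((e.symm x : ↥H) : G) * j = j * ((e.symm x : ↥H) : G) := by
    have h1 : e.symm (x * e ⟨j, hjH⟩) = e.symm (e ⟨j, hjH⟩ * x) := by rw [hx]
    rw [map_mul, map_mul, e.symm_apply_apply] at h1
    exact congrArg Subtype.val h1
  set X : G := ((e.symm x : ↥H) : G) with hXdef
  have hX'c : (g * j * g⁻¹) * (g * X * g⁻¹) = (g * X * g⁻¹) * (g * j * g⁻¹) := by
    have e1 : (g * j * g⁻¹) * (g * X * g⁻¹) = g * (j * X) * g⁻¹ := by group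
    have e2 : (g * X * g⁻¹) * (g * j * g⁻¹) = g * (X * j) * g⁻¹ := by group
    rw [e1, e2, hXj]
  have hX'H : g * X * g⁻¹ ∈ H := by
    apply hC (g * j * g⁻¹) hj'J hj'1
    rw [Subgroup.mem_centralizer_iff]
    intro y hy
    rw [Set.mem_singleton_iff.1 hy]
    exact hX'c
  refine ⟨e ⟨g * X * g⁻¹, hX'H⟩, ?_, ?_⟩
  · rw [← map_mul, ← map_mul]
    congr 1
    apply Subtype.ext
    exact hX'c.symm
  · intro n
    rw [← map_pow, map_eq_one_iff e e.injective]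
    have h1 : (⟨g * X * g⁻¹, hX'H⟩ : ↥H) ^ n = 1 ↔ (g * X * g⁻¹) ^ n = 1 := by
      constructor
      · intro hh; exact congrArg Subtype.val hh
      · intro hh; exact Subtype.ext hh
    rw [h1, conj_pow]
    have h2 : g * X ^ n * g⁻¹ = 1 ↔ X ^ n = 1 := by
      constructor
      · intro hh
        have : X ^ n = g⁻¹ * (g * X ^ n * g⁻¹) * g := by group
        rw [this, hh]; group
      · intro hh; rw [hh]; group
    rw [h2]
    have h3 : X ^ n = ((e.symm (x ^ n) : ↥H) : G) := by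
      rw [map_pow]; rfl
    rw [h3]
    constructor
    · intro hh
      have : e.symm (x ^ n) = 1 := Subtype.ext hh
      exact (map_eq_one_iff e.symm e.symm.injective).1 this
    · intro hh
      rw [hh, map_one]; rfl

/-- the invariants `inv2`, `inv4` are transferred along conjugation in `G` -/
theorem inv_transfer (hC : ∀ j ∈ J, j ≠ 1 → Subgroup.centralizer ({j} : Set G) ≤ H)
    (j : G) (hjH : j ∈ H) (g : G) (hj'H : g * j * g⁻¹ ∈ H) (hj'J : g * j * g⁻¹ ∈ J) (hj'1 : g * j * g⁻¹ ≠ 1) :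
    (inv2 (e ⟨j, hjH⟩) → inv2 (e ⟨g * j * g⁻¹, hj'H⟩)) ∧ (inv4 (e ⟨j, hjH⟩) → inv4 (e ⟨g * j * g⁻¹, hj'H⟩)) := by
  constructor
  · rintro ⟨x, hx, hx1, hx2⟩
    obtain ⟨x', hx', hn⟩ := cent_transfer H J e hC j hjH g hj'H hj'J hj'1 x hx
    refine ⟨x', hx', ?_, (hn 2).2 hx2⟩
    intro h1
    apply hx1
    have := (hn 1).1 (by rw [pow_one]; exact h1)
    rw [pow_one] at this
    exact this
  · rintro ⟨x, hx, hx2, hx4⟩
    obtain ⟨x', hx', hn⟩ := cent_transfer H J e hC j hjH g hj'H hj'J hj'1 x hx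
    exact ⟨x', hx', fun h2 => hx2 ((hn 2).1 h2), (hn 4).2 hx4⟩

/-- the TI property for the elements of `J#` -/
theorem ti_of_hyps_J (he : ∀ (d : G) (hd : d ∈ H), e ⟨d, hd⟩ ∈ J648 ↔ d ∈ J)
    (hC : ∀ j ∈ J, j ≠ 1 → Subgroup.centralizer ({j} : Set G) ≤ H)
    (hsc : Cfsg.IsStronglyClosed J H) (g j : G) (hj : j ∈ J) (hj1 : j ≠ 1) (hgj : g * j * g⁻¹ ∈ H) : g ∈ H := by
  have hjH : j ∈ H := hsc.1 hj
  have hj'J : g * j * g⁻¹ ∈ J := hsc.2 j hj g hgj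
  have hj'1 : g * j * g⁻¹ ≠ 1 := by
    intro h1
    apply hj1
    have : j = g⁻¹ * (g * j * g⁻¹) * g := by group
    rw [this, h1]; group
  -- back and forth
  have hback : g⁻¹ * (g * j * g⁻¹) * g⁻¹⁻¹ = j := by group
  have hjH' : g⁻¹ * (g * j * g⁻¹) * g⁻¹⁻¹ ∈ H := by rw [hback]; exact hjH
  have hjJ' : g⁻¹ * (g * j * g⁻¹) * g⁻¹⁻¹ ∈ J := by rw [hback]; exact hj
  have hj1' : g⁻¹ * (g * j * g⁻¹) * g⁻¹⁻¹ ≠ 1 := by rw [hback]; exact hj1
  have h1 := inv_transfer H J e hC j hjH g hgj hj'J hj'1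
  have h2 := inv_transfer H J e hC (g * j * g⁻¹) hgj g⁻¹ hjH' hjJ' hj1'
  have eqj : (⟨g⁻¹ * (g * j * g⁻¹) * g⁻¹⁻¹, hjH'⟩ : ↥H) = ⟨j, hjH⟩ := Subtype.ext hback
  rw [eqj] at h2
  have ht : e ⟨j, hjH⟩ ∈ J648 := (he j hjH).2 hj
  have ht' : e ⟨g * j * g⁻¹, hgj⟩ ∈ J648 := (he _ hgj).2 hj'J
  have ht1 : e ⟨j, hjH⟩ ≠ 1 := by
    intro h
    apply hj1
    have := (map_eq_one_iff e e.injective).1 h
    exact congrArg Subtype.val this
  have ht1' : e ⟨g * j * g⁻¹, hgj⟩ ≠ 1 := by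
    intro h
    apply hj'1
    have := (map_eq_one_iff e e.injective).1 h
    exact congrArg Subtype.val this
  obtain ⟨m, hm⟩ := Cfsg.Agent.Lib.H26.T648.exists_conj_of_inv _ _ ht ht' ht1 ht1' ⟨h1.1, h2.1⟩ ⟨h1.2, h2.2⟩
  -- `k = e⁻¹ m ∈ H` conjugates `j` to `g j g⁻¹`
  have hk : ((e.symm m : ↥H) : G) * j * ((e.symm m : ↥H) : G)⁻¹ = g * j * g⁻¹ := by
    have h3 : e.symm (m * e ⟨j, hjH⟩ * m⁻¹) = e.symm (e ⟨g * j * g⁻¹, hgj⟩) := by rw [hm]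
    rw [map_mul, map_mul, map_inv, e.symm_apply_apply, e.symm_apply_apply] at h3
    exact congrArg Subtype.val h3
  set k : G := ((e.symm m : ↥H) : G) with hkdef
  have hkH : k ∈ H := (e.symm m).2
  have hcent : k⁻¹ * g ∈ Subgroup.centralizer ({j} : Set G) := by
    rw [Subgroup.mem_centralizer_iff]
    intro y hy
    rw [Set.mem_singleton_iff.1 hy]
    have e1 : j * (k⁻¹ * g) = k⁻¹ * (k * j * k⁻¹) * g := by group
    have e2 : k⁻¹ * g * j = k⁻¹ * (g * j * g⁻¹) * g := by group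
    rw [e1, e2, hk]
  have h4 : k⁻¹ * g ∈ H := hC j hj hj1 hcent
  have : g = k * (k⁻¹ * g) := by group
  rw [this]
  exact mul_mem hkH h4

/-- GRP2.  The TI property in the strong form. -/
theorem ti_of_hyps (he : ∀ (d : G) (hd : d ∈ H), e ⟨d, hd⟩ ∈ J648 ↔ d ∈ J)
    (hC : ∀ j ∈ J, j ≠ 1 → Subgroup.centralizer ({j} : Set G) ≤ H)
    (hsc : Cfsg.IsStronglyClosed J H) :
    ∀ (g d : G) (hd : d ∈ H), A648 (e ⟨d, hd⟩) → g * d * g⁻¹ ∈ H → g ∈ H := by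
  intro g d hd hA hgd
  obtain ⟨k, hkJ, hk1⟩ := Cfsg.Agent.Lib.H14.T648.exists_pow_mem_J648 _ hA
  have hdk : d ^ k ∈ H := pow_mem hd k
  have e1 : e ⟨d ^ k, hdk⟩ = (e ⟨d, hd⟩) ^ k := by
    rw [← map_pow]; rfl
  have hjJ : d ^ k ∈ J := (he _ hdk).1 (by rw [e1]; exact hkJ)
  have hj1 : d ^ k ≠ 1 := by
    intro h
    apply hk1
    rw [← e1]
    have : (⟨d ^ k, hdk⟩ : ↥H) = 1 := Subtype.ext h
    rw [this, map_one]
  have hg : g * d ^ k * g⁻¹ ∈ H := by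
    rw [← conj_pow]
    exact pow_mem hgd k
  exact ti_of_hyps_J H J e he hC hsc g (d ^ k) hjJ hj1 hg

end grp2

end Cfsg.Agent.Lib.H11.T648
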