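/-
S3702 (architects helper7 + helper18), piece LOCK: the hypothesis `hK` of TRI for a conjugate of a good element.
-/
import Mathlib
import Cfsg.Agent.Lib.H7.T648Defs
import Cfsg.Agent.Lib.H7.T648Model
import Cfsg.Agent.Lib.H26.T648MODJ
import Cfsg.Agent.Lib.H6.T648MODG

set_option autoImplicit false

namespace Cfsg.Agent.Lib.H11.T648

open Cfsg Cfsg.Agent.Lib.H7.T648

/-- an element of `N` is `el` of its coordinates -/
theorem exists_el_eq {G : Type*} [Group G] (h : Hyp648 G) (g : G) (hg : g ∈ h.N) : ∃ s : M648, h.el s = g :=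
  ⟨h.e ⟨g, hg⟩, h.el_e ⟨g, hg⟩⟩

theorem A648_of_mem_J648 (t : M648) (ht : t ∈ J648) (h1 : t ≠ 1) : A648 t := ⟨h1, Or.inl ht⟩

/-- the core of LOCK (`a = 1`) -/
theorem hK_of_good_aux {G : Type*} [Group G] (h : Hyp648 G) (t t' : M648) (ht : Good t)
    (ht' : t' ∈ J648) (ht1 : t' ≠ 1) (c α : G) (hα1 : α ≠ 1) (hα3 : α ^ 3 = 1)
    (hαt : α * h.el t * α⁻¹ = h.el t)
    (hyα : (c * h.el t' * c⁻¹) * α * (c * h.el t' * c⁻¹)⁻¹ = α) :
    (c * h.el t' * c⁻¹) * h.el t = h.el t * (c * h.el t' * c⁻¹) := by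
  have hAt : A648 t := A648_of_mem_J648 t ht.1 ht.2.1
  -- `α ∈ N`
  have hαN : α ∈ h.N := h.ti_el α t hAt (by rw [hαt]; exact h.el_mem t)
  obtain ⟨α', rfl⟩ := exists_el_eq h α hαN
  have hα'1 : α' ≠ 1 := by
    intro e; apply hα1; rw [e, h.el_one]
  have hα'3 : α' ^ 3 = 1 := by
    apply h.el_injective
    rw [h.el_pow, hα3, h.el_one]
  have hα't : α' * t = t * α' := by
    apply h.el_injective
    rw [h.el_mul, h.el_mul]
    have : h.el α' * h.el t * (h.el α')⁻¹ * h.el α' = h.el t * h.el α' := by rw [hαt]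
    rw [← this]; group
  have hα'J : α' ∈ J648 := Cfsg.Agent.Lib.H6.T648.mem_J648_of_comm_good t α' ht hα'3 hα't
  have hAα : A648 α' := A648_of_mem_J648 α' hα'J hα'1
  -- `y ∈ N`
  have hyN : c * h.el t' * c⁻¹ ∈ h.N := h.ti_el _ α' hAα (by rw [hyα]; exact h.el_mem α')
  -- `c ∈ N`
  have hAt' : A648 t' := A648_of_mem_J648 t' ht' ht1
  have hcN : c ∈ h.N := h.ti_el c t' hAt' hyN
  obtain ⟨c', rfl⟩ := exists_el_eq h c hcN
  have hJ : c' * t' * c'⁻¹ ∈ J648 := Cfsg.Agent.Lib.H26.T648.J648_normal.conj_mem t' ht' c'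
  have e : h.el c' * h.el t' * (h.el c')⁻¹ = h.el (c' * t' * c'⁻¹) := by
    rw [h.el_mul, h.el_mul, h.el_inv]
  rw [e, ← h.el_mul, ← h.el_mul, Cfsg.Agent.Lib.H26.T648.J648_comm _ _ hJ ht.1]

/-- LOCK.  The hypothesis `hK` of TRI for `x` a conjugate of a good element and `y` a conjugate of an
element of `J648 \ {1}`. -/
theorem hK_of_good {G : Type*} [Group G] (h : Hyp648 G) (t t' : M648) (ht : Good t)
    (ht' : t' ∈ J648) (ht1 : t' ≠ 1) (a b : G) :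
    ∀ α : G, α ≠ 1 → α ^ 3 = 1 → α * (a * h.el t * a⁻¹) = (a * h.el t * a⁻¹) * α →
      (b * h.el t' * b⁻¹) * α = α * (b * h.el t' * b⁻¹) →
      (b * h.el t' * b⁻¹) * (a * h.el t * a⁻¹) = (a * h.el t * a⁻¹) * (b * h.el t' * b⁻¹) := by
  intro α hα1 hα3 hαx hyα
  have h1 : a⁻¹ * α * a ≠ 1 := by
    intro e
    apply hα1
    have : α = a * (a⁻¹ * α * a) * a⁻¹ := by group
    rw [this, e]; group
  have h3 : (a⁻¹ * α * a) ^ 3 = 1 := by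
    have : (a⁻¹ * α * a) ^ 3 = a⁻¹ * α ^ 3 * a := by
      simp only [pow_succ, pow_zero, one_mul]; group
    rw [this, hα3]; group
  have h4 : (a⁻¹ * α * a) * h.el t * (a⁻¹ * α * a)⁻¹ = h.el t := by
    have : (a⁻¹ * α * a) * h.el t * (a⁻¹ * α * a)⁻¹ = a⁻¹ * (α * (a * h.el t * a⁻¹)) * α⁻¹ * a := by group
    rw [this, hαx]; group
  have h5 : ((a⁻¹ * b) * h.el t' * (a⁻¹ * b)⁻¹) * (a⁻¹ * α * a) * ((a⁻¹ * b) * h.el t' * (a⁻¹ * b)⁻¹)⁻¹ =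
      a⁻¹ * α * a := by
    have : ((a⁻¹ * b) * h.el t' * (a⁻¹ * b)⁻¹) * (a⁻¹ * α * a) * ((a⁻¹ * b) * h.el t' * (a⁻¹ * b)⁻¹)⁻¹ =
        a⁻¹ * ((b * h.el t' * b⁻¹) * α) * (b * h.el t' * b⁻¹)⁻¹ * a := by group
    rw [this, hyα]; group
  have h6 := hK_of_good_aux h t t' ht ht' ht1 (a⁻¹ * b) (a⁻¹ * α * a) h1 h3 h4 h5
  have e1 : (b * h.el t' * b⁻¹) * (a * h.el t * a⁻¹) =
      a * (((a⁻¹ * b) * h.el t' * (a⁻¹ * b)⁻¹) * h.el t) * a⁻¹ := by group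
  rw [e1, h6]; group

end Cfsg.Agent.Lib.H11.T648
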