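/-
S3702 (architects helper7 + helper18), piece LOC: localisation of the solutions of `s₁^g s₂^k = s`.
-/
import Mathlib
import Cfsg.Agent.Lib.H7.T648Defs
import Cfsg.Agent.Lib.H7.T648Model
import Cfsg.Agent.Lib.H11.T648LOCK
import Cfsg.Agent.Lib.H14.T648TRI

set_option autoImplicit false

namespace Cfsg.Agent.Lib.H11.T648

open Cfsg Cfsg.Agent.Lib.H7.T648

theorem isConj_inv_inv {G : Type*} [Group G] {x y : G} (h : IsConj x y) : IsConj x⁻¹ y⁻¹ := by
  obtain ⟨c, hc⟩ := isConj_iff.1 h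
  exact isConj_iff.2 ⟨c, by rw [← hc]; group⟩

theorem isConj_conj {G : Type*} [Group G] (g x : G) : IsConj x (g * x * g⁻¹) := isConj_iff.2 ⟨g, rfl⟩

/-- conjugacy in `G` of elements of type `A` of `N` is conjugacy in the model -/
theorem isConj_of_isConj_el {G : Type*} [Group G] (h : Hyp648 G) (s s' : M648) (hs : A648 s)
    (hc : IsConj (h.el s) (h.el s')) : IsConj s s' := by
  obtain ⟨x, hx⟩ := isConj_iff.1 hc
  have hxN : x ∈ h.N := h.ti_el x s hs (by rw [hx]; exact h.el_mem s')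
  obtain ⟨x', rfl⟩ := exists_el_eq h x hxN
  rw [isConj_iff]
  refine ⟨x', ?_⟩
  apply h.el_injective
  rw [h.el_mul, h.el_mul, h.el_inv, hx]

theorem conj_pow_three' {G : Type*} [Group G] (g a : G) (ha : a ^ 3 = 1) : (g * a * g⁻¹) ^ 3 = 1 := by
  rw [conj_pow, ha]; group

/-- an element commuting with an element of type `A` of `N` lies in `N` -/
theorem mem_N_of_comm648 {G : Type*} [Group G] (h : Hyp648 G) (s : M648) (hs : A648 s) (x : G)
    (hx : x * h.el s = h.el s * x) : x ∈ h.N := by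
  apply h.ti_el x s hs
  have : x * h.el s * x⁻¹ = h.el s := by rw [hx]; group
  rw [this]
  exact h.el_mem s

/-- LOC.  Localisation of the solutions of `s₁^g s₂^k = s`. -/
theorem mem_N_of_solution648 {G : Type*} [Group G] [Finite G] (h : Hyp648 G) (s1 s2 s : M648)
    (h1 : s1 ∈ J648) (h2 : s2 ∈ J648) (h3 : s ∈ J648) (h1' : s1 ≠ 1) (h2' : s2 ≠ 1) (h3' : s ≠ 1)
    (hgood : Good s1 ∨ Good s2 ∨ Good s)
    (hnc : ¬ (IsConj s1 s2 ∧ IsConj s s1⁻¹)) (g k : G)
    (hgk : (g * h.el s1 * g⁻¹) * (k * h.el s2 * k⁻¹) = h.el s) : g ∈ h.N ∧ k ∈ h.N := by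
  have hA1 : A648 s1 := A648_of_mem_J648 s1 h1 h1'
  have hA2 : A648 s2 := A648_of_mem_J648 s2 h2 h2'
  have hA3 : A648 s := A648_of_mem_J648 s h3 h3'
  have e1 : (h.el s1) ^ 3 = 1 := by rw [← h.el_pow, Cfsg.Agent.Lib.H26.T648.J648_pow_three s1 h1, h.el_one]
  have e2 : (h.el s2) ^ 3 = 1 := by rw [← h.el_pow, Cfsg.Agent.Lib.H26.T648.J648_pow_three s2 h2, h.el_one]
  have e3 : (h.el s) ^ 3 = 1 := by rw [← h.el_pow, Cfsg.Agent.Lib.H26.T648.J648_pow_three s h3, h.el_one]
  set u := g * h.el s1 * g⁻¹ with hu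
  set v := k * h.el s2 * k⁻¹ with hv
  have hu3 : u ^ 3 = 1 := conj_pow_three' g _ e1
  have hv3 : v ^ 3 = 1 := conj_pow_three' k _ e2
  have huv3 : (u * v) ^ 3 = 1 := by rw [hgk]; exact e3
  have hcu : IsConj (h.el s1) u := isConj_conj g _
  have hcv : IsConj (h.el s2) v := isConj_conj k _
  -- the commuting case
  have hcomm_case : u * v = v * u → g ∈ h.N ∧ k ∈ h.N := by
    intro hcomm
    have hus : u * h.el s = h.el s * u := by
      rw [← hgk]
      calc u * (u * v) = u * (v * u) := by rw [hcomm]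
        _ = u * v * u := (mul_assoc u v u).symm
    have hvs : v * h.el s = h.el s * v := by
      rw [← hgk]
      calc v * (u * v) = v * u * v := (mul_assoc v u v).symm
        _ = u * v * v := by rw [hcomm]
    have huN : u ∈ h.N := mem_N_of_comm648 h s hA3 u hus
    have hvN : v ∈ h.N := mem_N_of_comm648 h s hA3 v hvs
    exact ⟨h.ti_el g s1 hA1 huN, h.ti_el k s2 hA2 hvN⟩
  -- the conjugate case is excluded
  have hconj_case : IsConj (h.el s1) (h.el s2) → IsConj (h.el s) (h.el s1)⁻¹ → False := by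
    intro hc1 hc2
    apply hnc
    refine ⟨isConj_of_isConj_el h s1 s2 hA1 hc1, isConj_of_isConj_el h s s1⁻¹ hA3 ?_⟩
    rw [h.el_inv]
    exact hc2
  rcases hgood with hg1 | hg2 | hg3
  · -- `s1` good: TRI for `(u, v)`
    have hK := hK_of_good h s1 s2 hg1 h2 h2' g k
    rcases Cfsg.Agent.Lib.H14.T648.tri3'' u v hu3 hv3 huv3 hK with hcomm | ⟨hc1, hc2⟩
    · exact hcomm_case hcomm
    · exfalso
      apply hconj_case
      · exact (hcu.trans hc1).trans hcv.symm
      · rw [hgk] at hc2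
        exact hc2.trans (isConj_inv_inv hcu).symm
  · -- `s2` good: TRI for `(v, u)`
    have hK := hK_of_good h s2 s1 hg2 h1 h1' k g
    have hvu3 : (v * u) ^ 3 = 1 := by
      have : v * u = v * (u * v) * v⁻¹ := by group
      rw [this, conj_pow, huv3]; group
    rcases Cfsg.Agent.Lib.H14.T648.tri3'' v u hv3 hu3 hvu3 hK with hcomm | ⟨hc1, hc2⟩
    · exact hcomm_case hcomm.symm
    · exfalso
      have h12 : IsConj (h.el s1) (h.el s2) := (hcu.trans hc1.symm).trans hcv.symm
      apply hconj_case h12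
      -- `el s = u v ~ v u ~ v⁻¹ ~ (el s2)⁻¹ ~ (el s1)⁻¹`
      have e : IsConj (u * v) (v * u) := isConj_iff.2 ⟨v, by group⟩
      rw [← hgk]
      exact ((e.trans hc2).trans (isConj_inv_inv hcv).symm).trans (isConj_inv_inv h12).symm
  · -- `s` good: TRI for `((el s)⁻¹, u)` with product `v⁻¹`
    have hprod : (h.el s)⁻¹ * u = v⁻¹ := by rw [← hgk]; group
    have hs3 : ((h.el s)⁻¹) ^ 3 = 1 := by rw [inv_pow, e3, inv_one]
    have hp3 : ((h.el s)⁻¹ * u) ^ 3 = 1 := by rw [hprod, inv_pow, hv3, inv_one]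
    have hK0 := hK_of_good h s s1 hg3 h1 h1' 1 g
    have hK : ∀ α : G, α ≠ 1 → α ^ 3 = 1 → α * (h.el s)⁻¹ = (h.el s)⁻¹ * α → u * α = α * u →
        u * (h.el s)⁻¹ = (h.el s)⁻¹ * u := by
      intro α hα1 hα3 hαs huα
      have hαs' : α * (1 * h.el s * 1⁻¹) = (1 * h.el s * 1⁻¹) * α := by
        have : α * h.el s = h.el s * α := by
          have : h.el s * (α * (h.el s)⁻¹) * h.el s = h.el s * ((h.el s)⁻¹ * α) * h.el s := by rw [hαs]
          have e4 : h.el s * (α * (h.el s)⁻¹) * h.el s = h.el s * α := by group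
          have e5 : h.el s * ((h.el s)⁻¹ * α) * h.el s = α * h.el s := by group
          rw [e4, e5] at this
          exact this.symm
        rw [one_mul, inv_one, mul_one]
        exact this
      have h6 := hK0 α hα1 hα3 hαs' huα
      rw [one_mul, inv_one, mul_one] at h6
      -- `u * el s = el s * u`
      have h6' : u * h.el s = h.el s * u := h6
      have : u * (h.el s)⁻¹ = (h.el s)⁻¹ * (h.el s * u) * (h.el s)⁻¹ := by group
      rw [this, ← h6']; group
    rcases Cfsg.Agent.Lib.H14.T648.tri3'' (h.el s)⁻¹ u hs3 hu3 hp3 hK with hcomm | ⟨hc1, hc2⟩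
    · -- `u` commutes with `el s`
      have hus : u * h.el s = h.el s * u := by
        have : h.el s * ((h.el s)⁻¹ * u) * h.el s = h.el s * (u * (h.el s)⁻¹) * h.el s := by rw [hcomm]
        have e4 : h.el s * ((h.el s)⁻¹ * u) * h.el s = u * h.el s := by group
        have e5 : h.el s * (u * (h.el s)⁻¹) * h.el s = h.el s * u := by group
        rw [e4, e5] at this
        exact this
      apply hcomm_case
      -- `v = u⁻¹ (el s)` commutes with `u`
      have hv' : v = u⁻¹ * h.el s := by rw [← hgk]; group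
      rw [hv']
      calc u * (u⁻¹ * h.el s) = h.el s := by group
        _ = u⁻¹ * (u * h.el s) := by group
        _ = u⁻¹ * (h.el s * u) := by rw [hus]
        _ = u⁻¹ * h.el s * u := by group
    · exfalso
      -- `(el s)⁻¹ ~ u ~ el s1`, `v⁻¹ ~ el s`
      have h31 : IsConj (h.el s) (h.el s1)⁻¹ := by
        have := isConj_inv_inv (hc1.trans hcu.symm)
        rw [inv_inv] at this
        exact this
      rw [hprod, inv_inv] at hc2
      -- `v⁻¹ ~ el s ~ (el s1)⁻¹`, so `v ~ el s1`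
      have h4 : IsConj v (h.el s1) := by
        have := isConj_inv_inv (hc2.trans h31)
        rw [inv_inv, inv_inv] at this
        exact this
      exact hconj_case (h4.symm.trans hcv.symm) h31

end Cfsg.Agent.Lib.H11.T648
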