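import Mathlib
import Cfsg.Agent.Lib.H14.ThetaDefs

/-!
# S1632 piece SUMM2 (helper11): absolute summability of the Gaussian lattice sum terms `gterm`.
-/

set_option autoImplicit false

namespace Cfsg.Agent.Lib.H11.Theta

open Complex Matrix UpperHalfPlane ModularForm ModularFormClass MatrixGroups EisensteinSeries
open Cfsg.Agent.Lib.H14.Theta

theorem qf_zc_eq {n : ℕ} (A : Matrix (Fin n) (Fin n) ℝ) (x : Fin n → ℤ) :
    qf A (zc x) = ((qfR A (zr x) : ℝ) : ℂ) := by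
  unfold qf qfR zc zr
  push_cast
  rfl

theorem norm_gterm {n : ℕ} (A : Matrix (Fin n) (Fin n) ℝ) (s : ℂ) (u : Fin n → ℂ) (x : Fin n → ℤ) :
    ‖gterm A s u x‖ =
      Real.exp (-Real.pi * s.re * qfR A (zr x) + 2 * Real.pi * ∑ i, (u i).re * (x i : ℝ)) := by
  unfold gterm
  rw [Complex.norm_exp, qf_zc_eq]
  congr 1
  have h1 : (-(Real.pi : ℂ) * s * ((qfR A (zr x) : ℝ) : ℂ)).re = -Real.pi * s.re * qfR A (zr x) := by
    have : -(Real.pi : ℂ) * s * ((qfR A (zr x) : ℝ) : ℂ) =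
        ((-Real.pi * qfR A (zr x) : ℝ) : ℂ) * s := by push_cast; ring
    rw [this, Complex.re_ofReal_mul]
    ring
  have h2 : (2 * (Real.pi : ℂ) * ∑ i, u i * (x i : ℂ)).re =
      2 * Real.pi * ∑ i, (u i).re * (x i : ℝ) := by
    have : (2 * (Real.pi : ℂ) * ∑ i, u i * (x i : ℂ)) =
        ((2 * Real.pi : ℝ) : ℂ) * ∑ i, u i * (x i : ℂ) := by push_cast; ring
    rw [this, Complex.re_ofReal_mul, Complex.re_sum]
    congr 1
    refine Finset.sum_congr rfl fun i _ => ?_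
    have : ((x i : ℤ) : ℂ) = (((x i : ℤ) : ℝ) : ℂ) := by push_cast; rfl
    rw [this, Complex.re_mul_ofReal]
  rw [Complex.add_re, h1, h2]

theorem summable_gterm {n : ℕ}
    (h1 : ∀ (A : Matrix (Fin n) (Fin n) ℝ), IsPD A → ∀ σ : ℝ, 0 < σ → ∀ β : Fin n → ℝ,
      Summable (fun x : Fin n → ℤ =>
        Real.exp (-Real.pi * σ * qfR A (zr x) + 2 * Real.pi * ∑ i, β i * (x i : ℝ))))
    (A : Matrix (Fin n) (Fin n) ℝ) (hA : IsPD A) (s : ℂ) (hs : 0 < s.re) (u : Fin n → ℂ) :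
    Summable (fun x : Fin n → ℤ => ‖gterm A s u x‖) := by
  simp_rw [norm_gterm]
  exact h1 A hA s.re hs (fun i => (u i).re)

end Cfsg.Agent.Lib.H11.Theta
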