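import Mathlib
import Cfsg.Agent.Lib.H14.ThetaDefs

/-!
# S1632 piece SUMM3 (helper11): absolute summability of the dual Gaussian lattice sum terms `dterm`.
-/

set_option autoImplicit false

namespace Cfsg.Agent.Lib.H11.Theta

open Complex Matrix UpperHalfPlane ModularForm ModularFormClass MatrixGroups EisensteinSeries
open Cfsg.Agent.Lib.H14.Theta

/-- Expansion of `Q_C(y + i u)` (no symmetry needed). -/
theorem qf_shift {n : ℕ} (C : Matrix (Fin n) (Fin n) ℝ) (u : Fin n → ℂ) (y : Fin n → ℤ) :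
    qf C (fun i => (y i : ℂ) + Complex.I * u i) =
      ((qfR C (zr y) : ℝ) : ℂ) +
        ∑ i, (Complex.I * ∑ j, ((C i j : ℂ) + (C j i : ℂ)) * u j) * (((y i : ℤ) : ℝ) : ℂ) - qf C u := by
  have e1 : ∑ i, (Complex.I * ∑ j, ((C i j : ℂ) + (C j i : ℂ)) * u j) * (((y i : ℤ) : ℝ) : ℂ) =
      ∑ i, ∑ j, ((C i j : ℂ) * (y i : ℂ) * (Complex.I * u j) + (C i j : ℂ) * (Complex.I * u i) * (y j : ℂ)) := by
    have hsw := Finset.sum_comm (s := (Finset.univ : Finset (Fin n))) (t := (Finset.univ : Finset (Fin n)))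
      (f := fun i j => (C j i : ℂ) * (Complex.I * u j) * (y i : ℂ))
    calc ∑ i, (Complex.I * ∑ j, ((C i j : ℂ) + (C j i : ℂ)) * u j) * (((y i : ℤ) : ℝ) : ℂ)
        = ∑ i, ∑ j, ((C i j : ℂ) * (y i : ℂ) * (Complex.I * u j) + (C j i : ℂ) * (Complex.I * u j) * (y i : ℂ)) := by
          refine Finset.sum_congr rfl fun i _ => ?_
          rw [Finset.mul_sum, Finset.sum_mul]
          refine Finset.sum_congr rfl fun j _ => ?_
          push_cast
          ring
      _ = ∑ i, ∑ j, (C i j : ℂ) * (y i : ℂ) * (Complex.I * u j) +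
            ∑ i, ∑ j, (C j i : ℂ) * (Complex.I * u j) * (y i : ℂ) := by
          simp_rw [Finset.sum_add_distrib]
      _ = ∑ i, ∑ j, (C i j : ℂ) * (y i : ℂ) * (Complex.I * u j) +
            ∑ i, ∑ j, (C i j : ℂ) * (Complex.I * u i) * (y j : ℂ) := by
          rw [hsw]
      _ = _ := by simp_rw [Finset.sum_add_distrib]
  rw [e1]
  unfold qf qfR zr
  push_cast
  rw [← Finset.sum_add_distrib, ← Finset.sum_sub_distrib]
  refine Finset.sum_congr rfl fun i _ => ?_
  rw [← Finset.sum_add_distrib, ← Finset.sum_sub_distrib]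
  refine Finset.sum_congr rfl fun j _ => ?_
  linear_combination ((C i j : ℂ) * u i * u j) * Complex.I_sq

theorem norm_dterm {n : ℕ} (C : Matrix (Fin n) (Fin n) ℝ) (s : ℂ) (u : Fin n → ℂ) (y : Fin n → ℤ) :
    ‖dterm C s u y‖ =
      Real.exp (-((-(Real.pi : ℂ) / s) * qf C u).re) *
        Real.exp (-Real.pi * (s.re / Complex.normSq s) * qfR C (zr y) + 2 * Real.pi *
          ∑ i, (((-(Real.pi : ℂ) / s) * (Complex.I * ∑ j, ((C i j : ℂ) + (C j i : ℂ)) * u j)).re /
            (2 * Real.pi)) * (y i : ℝ)) := by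
  unfold dterm
  rw [Complex.norm_exp, qf_shift, ← Real.exp_add]
  congr 1
  have hpi : (2 * Real.pi) ≠ 0 := by positivity
  have hc : (-(Real.pi : ℂ) / s).re = -Real.pi * (s.re / Complex.normSq s) := by
    rw [Complex.div_re]
    simp only [Complex.neg_re, Complex.ofReal_re, Complex.neg_im, Complex.ofReal_im, neg_zero,
      zero_mul, zero_div, add_zero]
    ring
  rw [mul_sub, mul_add, Complex.sub_re, Complex.add_re, Complex.re_mul_ofReal, hc, Finset.mul_sum,
    Complex.re_sum, Finset.mul_sum]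
  have : ∀ i : Fin n, ((-(Real.pi : ℂ) / s) *
        ((Complex.I * ∑ j, ((C i j : ℂ) + (C j i : ℂ)) * u j) * (((y i : ℤ) : ℝ) : ℂ))).re =
      2 * Real.pi * ((((-(Real.pi : ℂ) / s) * (Complex.I * ∑ j, ((C i j : ℂ) + (C j i : ℂ)) * u j)).re /
            (2 * Real.pi)) * (y i : ℝ)) := by
    intro i
    rw [← mul_assoc, Complex.re_mul_ofReal]
    field_simp
  simp_rw [this]
  ring

theorem summable_dterm {n : ℕ}
    (h1 : ∀ (A : Matrix (Fin n) (Fin n) ℝ), IsPD A → ∀ σ : ℝ, 0 < σ → ∀ β : Fin n → ℝ,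
      Summable (fun x : Fin n → ℤ =>
        Real.exp (-Real.pi * σ * qfR A (zr x) + 2 * Real.pi * ∑ i, β i * (x i : ℝ))))
    (C : Matrix (Fin n) (Fin n) ℝ) (hC : IsPD C) (s : ℂ) (hs : 0 < s.re) (u : Fin n → ℂ) :
    Summable (fun y : Fin n → ℤ => ‖dterm C s u y‖) := by
  simp_rw [norm_dterm]
  have hs0 : s ≠ 0 := by
    intro h
    rw [h] at hs
    simp at hs
  have hσ : 0 < s.re / Complex.normSq s := div_pos hs (Complex.normSq_pos.mpr hs0)
  exact (h1 C hC _ hσ _).mul_left _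

end Cfsg.Agent.Lib.H11.Theta
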