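import Cfsg.Agent.Lib.H25.TpDefs

/-!
# S5637-T5 (helper11): a matrix mapping every `B`-line into a `B`-line is a Kronecker product.
-/

set_option autoImplicit false

namespace Cfsg.Agent.Lib.H11.Tp

open Matrix Kronecker Module
open Cfsg.Geo
open Cfsg.Agent.Lib.H29.Tensor (pt kron_pt)
open Cfsg.Agent.Lib.H28 (tvGL tvGL_mulVec)
open Cfsg.Agent.Lib.H25.Tp

variable {F : Type*} [Field F] {a b : ℕ}

/-- entry form of the hypothesis `M (A ⊗ z) ≤ A ⊗ w` -/
theorem t5_entry (M : Matrix (Fin a × Fin b) (Fin a × Fin b) F) (z w : Fin b → F)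
    (hw : ∀ u : Fin a → F, M *ᵥ pt u z ∈ Lv w) (k : Fin a) :
    ∃ s : Fin a → F, ∀ p q, s p * w q = ∑ j, M (p, q) (k, j) * z j := by
  obtain ⟨s, hs⟩ := mem_Lv.mp (hw (Pi.single k 1))
  refine ⟨s, fun p q => ?_⟩
  have h1 := congrFun hs (p, q)
  simp only [pt, Matrix.mulVec, dotProduct, Fintype.sum_prod_type] at h1
  rw [h1, Finset.sum_eq_single k]
  · refine Finset.sum_congr rfl fun j _ => ?_
    simp
  · intro k' _ hk'
    refine Finset.sum_eq_zero fun j _ => ?_
    simp [hk']
  · intro hk; exact absurd (Finset.mem_univ k) hk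

/-- **T5.**  A matrix mapping every `B`-line into a `B`-line is a Kronecker product. -/
theorem mem_kron_of_blines (ha : 2 ≤ a) (hb : 3 ≤ b) (y : GL (Fin a × Fin b) F)
    (h : ∀ z : Fin b → F, z ≠ 0 → ∃ w : Fin b → F, ∀ u : Fin a → F, y.val *ᵥ pt u z ∈ Lv w) :
    y ∈ kroneckerSubgroup a b F := by
  have : NeZero a := ⟨by omega⟩
  have : NeZero b := ⟨by omega⟩
  set M : Matrix (Fin a × Fin b) (Fin a × Fin b) F := y.val with hM
  set N : Matrix (Fin a × Fin b) (Fin a × Fin b) F := y⁻¹.val with hN
  have hMN : M * N = 1 := by rw [hM, hN, ← Units.val_mul, mul_inv_cancel, Units.val_one]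
  have entry : ∀ z : Fin b → F, z ≠ 0 → ∃ w : Fin b → F, ∀ k : Fin a, ∃ s : Fin a → F,
      ∀ p q, s p * w q = ∑ j, M (p, q) (k, j) * z j := by
    intro z hz
    obtain ⟨w, hw⟩ := h z hz
    exact ⟨w, fun k => t5_entry M z w hw k⟩
  -- columns
  have hsingle : ∀ j : Fin b, (Pi.single j (1 : F) : Fin b → F) ≠ 0 := by
    intro j hj
    have := congrFun hj j
    simp at this
  choose w hw using fun j : Fin b => entry (Pi.single j 1) (hsingle j)
  choose A hA using hw
  have hMe : ∀ p q k j, M (p, q) (k, j) = A j k p * w j q := by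
    intro p q k j
    rw [hA j k p q, Finset.sum_eq_single j]
    · simp
    · intro j' _ hj'; simp [hj']
    · intro hj; exact absurd (Finset.mem_univ j) hj
  -- the matrix `W` of the `w j` is invertible
  set W : Matrix (Fin b) (Fin b) F := Matrix.of fun q j => w j q with hW
  set B : Matrix (Fin b) (Fin b) F :=
    Matrix.of fun j q' => ∑ k, A j k 0 * N (k, j) (0, q') with hB
  have hWB : W * B = 1 := by
    ext q q'
    have h1 := congrFun (congrFun hMN ((0 : Fin a), q)) ((0 : Fin a), q')
    rw [Matrix.mul_apply, Fintype.sum_prod_type, Finset.sum_comm] at h1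
    rw [Matrix.mul_apply]
    have h2 : (1 : Matrix (Fin a × Fin b) (Fin a × Fin b) F) ((0 : Fin a), q) ((0 : Fin a), q') =
        (1 : Matrix (Fin b) (Fin b) F) q q' := by
      simp [Matrix.one_apply]
    rw [← h2, ← h1]
    refine Finset.sum_congr rfl fun j _ => ?_
    simp only [hW, hB, Matrix.of_apply, Finset.mul_sum]
    refine Finset.sum_congr rfl fun k _ => ?_
    rw [hMe]; ring
  have hBW : B * W = 1 := mul_eq_one_comm.mp hWB
  have hBWe : ∀ j' j, ∑ q, B j' q * w j q = if j' = j then 1 else 0 := by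
    intro j' j
    have := congrFun (congrFun hBW j') j
    rw [Matrix.mul_apply] at this
    simpa [hW, Matrix.one_apply] using this
  -- the all-ones vector
  have hone : (fun _ => 1 : Fin b → F) ≠ 0 := by
    intro h0
    have := congrFun h0 0
    simp at this
  obtain ⟨w₁, hw₁⟩ := entry (fun _ => 1) hone
  choose S hS using hw₁
  set β : Fin b → F := fun j => ∑ q, B j q * w₁ q with hβ
  have hAS : ∀ j k p, A j k p = S k p * β j := by
    intro j k p
    have h1 : ∀ q, S k p * w₁ q = ∑ j', A j' k p * w j' q := by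
      intro q
      rw [hS k p q]
      refine Finset.sum_congr rfl fun j' _ => ?_
      rw [hMe]; ring
    calc A j k p = ∑ j', A j' k p * (if j = j' then 1 else 0) := by simp
      _ = ∑ j', A j' k p * ∑ q, B j q * w j' q := by
          refine Finset.sum_congr rfl fun j' _ => ?_
          rw [hBWe]
      _ = ∑ q, B j q * ∑ j', A j' k p * w j' q := by
          simp only [Finset.mul_sum]
          rw [Finset.sum_comm]
          refine Finset.sum_congr rfl fun q _ => Finset.sum_congr rfl fun j' _ => ?_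
          ring
      _ = ∑ q, B j q * (S k p * w₁ q) := by
          refine Finset.sum_congr rfl fun q _ => ?_
          rw [h1]
      _ = S k p * β j := by
          simp only [hβ, Finset.mul_sum]
          refine Finset.sum_congr rfl fun q _ => ?_
          ring
  set A' : Matrix (Fin a) (Fin a) F := Matrix.of fun p k => S k p with hA'
  set G : Matrix (Fin b) (Fin b) F := Matrix.of fun q j => β j * w j q with hG
  have hMK : M = A' ⊗ₖ G := by
    ext ⟨p, q⟩ ⟨k, j⟩
    rw [hMe, hAS, Matrix.kroneckerMap_apply]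
    simp only [hA', hG, Matrix.of_apply]
    ring
  have hdet : IsUnit M.det := by
    rw [← Matrix.isUnit_iff_isUnit_det]
    exact y.isUnit
  rw [hMK, Matrix.det_kronecker, Fintype.card_fin, Fintype.card_fin, isUnit_iff_ne_zero] at hdet
  have hA'u : IsUnit A'.det := by
    rw [isUnit_iff_ne_zero]
    intro h0
    apply hdet
    rw [h0, zero_pow (by omega), zero_mul]
  have hGu : IsUnit G.det := by
    rw [isUnit_iff_ne_zero]
    intro h0
    apply hdet
    rw [h0, zero_pow (by omega), mul_zero]
  exact ⟨Matrix.GeneralLinearGroup.mk'' A' hA'u, Matrix.GeneralLinearGroup.mk'' G hGu, hMK⟩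

end Cfsg.Agent.Lib.H11.Tp
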