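import Cfsg.Agent.Lib.H25.TpDefs
import Cfsg.Agent.Lib.H2.SLGen

/-!
# S5637-T6c (helper11): all (pure, pure) transvections in `X` ⇒ `SL ≤ X`.
-/

set_option autoImplicit false

namespace Cfsg.Agent.Lib.H11.Tp

open Matrix Kronecker Module
open Cfsg.Geo
open Cfsg.Agent.Lib.H29.Tensor (pt kron_pt)
open Cfsg.Agent.Lib.H28 (tvGL tvGL_mulVec)
open Cfsg.Agent.Lib.H25.Tp

variable {F : Type*} [Field F] {a b : ℕ}

/-- **T6c.**  All (pure, pure) transvections in `X` ⇒ `SL ≤ X`. -/
theorem sl_le_of_all_pure (ha : 2 ≤ a) (hb : 3 ≤ b)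
    (X : Subgroup (GL (Fin a × Fin b) F))
    (h : ∀ (u ψ : Fin a → F) (z φ : Fin b → F), (ψ ⬝ᵥ u) * (φ ⬝ᵥ z) = 0 →
      ∃ k : GL (Fin a × Fin b) F, k ∈ X ∧ k.val = 1 + vecMulVec (pt u z) (pt ψ φ)) :
    specialLinear (Fin a × Fin b) F ≤ X := by
  have : NeZero a := ⟨by omega⟩
  have : NeZero b := ⟨by omega⟩
  have : Nontrivial (Fin a × Fin b) := by
    refine ⟨⟨((0 : Fin a), (0 : Fin b)), ((0 : Fin a), (1 : Fin b)), ?_⟩⟩
    intro h
    have h2 := congrArg Prod.snd h
    simp only at h2
    have h3 := congrArg Fin.val h2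
    have h4 : ((1 : Fin b) : ℕ) = 1 := by
      rw [Fin.val_one']; exact Nat.mod_eq_of_lt (by omega)
    rw [Fin.val_zero, h4] at h3
    omega
  intro g hg
  rw [Cfsg.Agent.Lib.H28.mem_specialLinear_iff] at hg
  have key : ∀ A : SpecialLinearGroup (Fin a × Fin b) F, SpecialLinearGroup.toGL A ∈ X := by
    intro A
    refine Cfsg.Agent.Lib.H2.SL_transvection_induction
      (fun A => SpecialLinearGroup.toGL A ∈ X) ?_ ?_ A
    · rintro ⟨i1, j1⟩ ⟨i2, j2⟩ hij c
      obtain ⟨k, hkX, hkv⟩ := h (Pi.single i1 1) (Pi.single i2 c) (Pi.single j1 1) (Pi.single j2 1)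
        (by
          by_cases hi : i1 = i2
          · have hj : j2 ≠ j1 := by
              intro hj; exact hij (by rw [hi, hj])
            rw [mul_eq_zero]
            right
            simp [hj]
          · rw [mul_eq_zero]
            left
            simp [Ne.symm hi])
      have : SpecialLinearGroup.toGL (SpecialLinearGroup.transvection hij c) = k := by
        apply Units.ext
        rw [hkv]
        show (SpecialLinearGroup.transvection hij c).1 = _
        rw [SpecialLinearGroup.transvection_coe]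
        congr 1
        ext ⟨p1, p2⟩ ⟨q1, q2⟩
        simp only [Matrix.single_apply, vecMulVec_apply, pt, Pi.single_apply, Prod.mk.injEq]
        by_cases h1 : i1 = p1 <;> by_cases h2 : j1 = p2 <;> by_cases h3 : i2 = q1 <;>
          by_cases h4 : j2 = q2 <;> simp [h1, h2, h3, h4, eq_comm]
      rw [this]
      exact hkX
    · intro A B hA hB
      show SpecialLinearGroup.toGL (A * B) ∈ X
      rw [map_mul]
      exact X.mul_mem hA hB
  have := key ⟨(g : Matrix _ _ F), hg⟩
  have h2 : SpecialLinearGroup.toGL (⟨(g : Matrix _ _ F), hg⟩ : SpecialLinearGroup (Fin a × Fin b) F) = g := by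
    apply Units.ext
    rfl
  rw [h2] at this
  exact this

end Cfsg.Agent.Lib.H11.Tp
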