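import Mathlib
import Cfsg.Agent.Lib.H26.TwoMinDefs

set_option autoImplicit false
set_option linter.style.haveILetI false
set_option linter.unusedVariables false
open scoped commutatorElement

/-!
# S4409 piece N3 (helper11): a normal `Q₈`-subgroup `Y` of a 2-group `X`, acted on nontrivially by an odd-order `g`
normalizing `X`, has `X = Y C_X(Y)`.

Tools (reusable): `conj_pow_eq'`, `odd_centralizes_of_index_two` (odd-order `g` normalizing a 2-group `Y` and centralizing a
subgroup of index 2 centralizes `Y`), `Q8Type` basics (`q8_conj_z`, `q8_orderOf`, `q8_card_zpowers`), `q8_no_fixed'`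
(the K2Q content), `commutator_lt_of_pgroup`.
-/

namespace Cfsg.Agent.Lib.H11.TwoMin

open Cfsg.Agent.Lib.H26.TwoMin

variable {G : Type*} [Group G]

theorem conj_pow_eq' {g b c : G} (hc : g * b * g⁻¹ = c * b) (hgc : g * c = c * g) :
    ∀ m : ℕ, g ^ m * b * (g ^ m)⁻¹ = c ^ m * b := by
  intro m
  induction m with
  | zero => simp
  | succ m ih =>
    have e1 : g ^ (m + 1) * b * (g ^ (m + 1))⁻¹ = g * (g ^ m * b * (g ^ m)⁻¹) * g⁻¹ := by
      rw [pow_succ']; group
    have hgc' : g * c * g⁻¹ = c := by rw [hgc]; group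
    have e2 : g * (c ^ m * b) * g⁻¹ = (g * c * g⁻¹) ^ m * (g * b * g⁻¹) := by
      rw [conj_pow]; group
    rw [e1, ih, e2, hgc', hc, ← mul_assoc, ← pow_succ]

/-- An odd-order element normalizing a finite 2-group `Y` and centralizing a subgroup `U` of index 2 centralizes `Y`. -/
theorem odd_centralizes_of_index_two [Finite G] {Y U : Subgroup G} {g : G} (h2 : IsPGroup 2 ↥Y) (hUY : U ≤ Y)
    (hcard : Nat.card ↥Y = 2 * Nat.card ↥U) (hgo : Odd (orderOf g))
    (hgY : g ∈ Subgroup.normalizer (Y : Set G)) (hgU : g ∈ Subgroup.centralizer (U : Set G)) :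
    g ∈ Subgroup.centralizer (Y : Set G) := by
  have hidx : (U.subgroupOf Y).index = 2 := by
    have h1 := Subgroup.card_mul_index (U.subgroupOf Y)
    have h3 : Nat.card ↥(U.subgroupOf Y) = Nat.card ↥U :=
      Nat.card_congr (Subgroup.subgroupOfEquivOfLe hUY).toEquiv
    rw [h3, hcard] at h1
    have hpos : 0 < Nat.card ↥U := Nat.card_pos
    have : Nat.card ↥U * (U.subgroupOf Y).index = Nat.card ↥U * 2 := by rw [h1]; ring
    exact Nat.eq_of_mul_eq_mul_left hpos this
  refine Subgroup.mem_centralizer_iff.mpr ?_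
  intro v hv
  by_cases hvU : v ∈ U
  · exact Subgroup.mem_centralizer_iff.mp hgU v hvU
  have hv' : g * v * g⁻¹ ∈ Y := (Subgroup.mem_normalizer_iff.mp hgY v).mp hv
  have hv'U : g * v * g⁻¹ ∉ U := by
    intro h
    have h1 : g * v * g⁻¹ * g = g * (g * v * g⁻¹) := Subgroup.mem_centralizer_iff.mp hgU _ h
    have h2 : g * v = g * (g * v * g⁻¹) := by rw [← h1]; group
    have h3 : v = g * v * g⁻¹ := mul_left_cancel h2
    exact hvU (h3 ▸ h)
  have hcU : g * v * g⁻¹ * v⁻¹ ∈ U := by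
    have h1 := Subgroup.mul_mem_iff_of_index_two hidx
      (a := (⟨g * v * g⁻¹, hv'⟩ : ↥Y)) (b := (⟨v⁻¹, Y.inv_mem hv⟩ : ↥Y))
    simp only [Subgroup.mem_subgroupOf, Subgroup.coe_mul] at h1
    refine h1.mpr ⟨fun h => absurd h hv'U, fun h => absurd ((U.inv_mem_iff).mp h) hvU⟩
  set c := g * v * g⁻¹ * v⁻¹ with hc
  have hgc : g * c = c * g := (Subgroup.mem_centralizer_iff.mp hgU c hcU).symm
  have hconj : g * v * g⁻¹ = c * v := by rw [hc]; group
  have hpow := conj_pow_eq' hconj hgc (orderOf g)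
  rw [pow_orderOf_eq_one] at hpow
  have hcm : c ^ orderOf g = 1 := by
    have : v = c ^ orderOf g * v := by simpa using hpow
    exact (mul_eq_right.mp this.symm)
  have hcY : c ∈ Y := hUY hcU
  obtain ⟨k, hk⟩ := h2 ⟨c, hcY⟩
  have hk' : c ^ 2 ^ k = 1 := by
    have := congrArg Subtype.val hk
    simpa using this
  have hd1 : orderOf c ∣ orderOf g := orderOf_dvd_of_pow_eq_one hcm
  have hd2 : orderOf c ∣ 2 ^ k := orderOf_dvd_of_pow_eq_one hk'
  have hcop : Nat.Coprime (orderOf g) (2 ^ k) := by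
    apply Nat.Coprime.pow_right
    exact (Nat.coprime_two_right.mpr hgo)
  have h1 : orderOf c = 1 := Nat.eq_one_of_dvd_coprimes hcop hd1 hd2
  have hc1 : c = 1 := orderOf_eq_one_iff.mp h1
  have : g * v * g⁻¹ = v := by rw [hconj, hc1, one_mul]
  calc v * g = (g * v * g⁻¹) * g := by rw [this]
    _ = g * v := by group

/-! ### `Q8Type` basics -/

theorem q8_conj_z {Y : Subgroup G} {z n : G} (hQ : Q8Type Y z) (hn : n ∈ Subgroup.normalizer (Y : Set G)) :
    n * z * n⁻¹ = z := by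
  obtain ⟨_, hzY, hz1, hz2, hsq⟩ := hQ
  by_contra hne
  have hmem : n * z * n⁻¹ ∈ Y := (Subgroup.mem_normalizer_iff.mp hn z).mp hzY
  have h1 : n * z * n⁻¹ ≠ 1 := by
    intro h
    apply hz1
    have : z = n⁻¹ * (n * z * n⁻¹) * n := by group
    rw [this, h]; group
  have h2 := hsq _ hmem h1 hne
  have h3 : (n * z * n⁻¹) ^ 2 = 1 := by
    rw [conj_pow, hz2]; group
  rw [h3] at h2
  exact hz1 h2.symm

theorem q8_orderOf {Y : Subgroup G} {z w : G} (hQ : Q8Type Y z) (hw : w ∈ Y) (hw1 : w ≠ 1) (hwz : w ≠ z) :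
    orderOf w = 4 := by
  obtain ⟨_, hzY, hz1, hz2, hsq⟩ := hQ
  have h2 := hsq w hw hw1 hwz
  have : orderOf w = 2 ^ (1 + 1) := by
    apply orderOf_eq_prime_pow
    · rw [pow_one, h2]; exact hz1
    · have : w ^ 2 ^ (1 + 1) = (w ^ 2) ^ 2 := by rw [← pow_mul]; norm_num
      rw [this, h2, hz2]
  simpa using this

theorem q8_card_zpowers {Y : Subgroup G} {z w : G} (hQ : Q8Type Y z) (hw : w ∈ Y) (hw1 : w ≠ 1) (hwz : w ≠ z) :
    Nat.card ↥(Subgroup.zpowers w) = 4 := by
  rw [Nat.card_zpowers, q8_orderOf hQ hw hw1 hwz]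

theorem q8_card_zpowers_z {Y : Subgroup G} {z : G} (hQ : Q8Type Y z) :
    Nat.card ↥(Subgroup.zpowers z) = 2 := by
  obtain ⟨_, hzY, hz1, hz2, hsq⟩ := hQ
  rw [Nat.card_zpowers]
  exact orderOf_eq_prime hz2 hz1

theorem q8_isPGroup {Y : Subgroup G} {z : G} (hQ : Q8Type Y z) : IsPGroup 2 ↥Y := by
  have : Nat.card ↥Y = 2 ^ 3 := by rw [hQ.1]; norm_num
  exact IsPGroup.of_card this

/-- **K2Q content**: an odd-order `g` normalizing but not centralizing a `Q8Type` group fixes no coset of `⟨z⟩` other than `⟨z⟩`. -/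
theorem q8_no_fixed' [Finite G] {Y : Subgroup G} {z g : G} (hQ : Q8Type Y z) (hgo : Odd (orderOf g))
    (hgN : g ∈ Subgroup.normalizer (Y : Set G)) (hgC : g ∉ Subgroup.centralizer (Y : Set G)) :
    ∀ y ∈ Y, (g * y * g⁻¹ = y ∨ g * y * g⁻¹ = y * z) → (y = 1 ∨ y = z) := by
  intro y hy hfix
  by_contra hcon
  rw [not_or] at hcon
  obtain ⟨hy1, hyz⟩ := hcon
  apply hgC
  have hgz := q8_conj_z hQ hgN
  have hzY : z ∈ Y := hQ.2.1
  have hz2 : z ^ 2 = 1 := hQ.2.2.2.1
  -- g² centralizes y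
  have hg2 : g ^ 2 * y * (g ^ 2)⁻¹ = y := by
    have e : g ^ 2 * y * (g ^ 2)⁻¹ = g * (g * y * g⁻¹) * g⁻¹ := by rw [pow_two]; group
    rcases hfix with h | h
    · rw [e, h, h]
    · rw [e, h]
      have : g * (y * z) * g⁻¹ = (g * y * g⁻¹) * (g * z * g⁻¹) := by group
      rw [this, h, hgz, mul_assoc, ← pow_two, hz2, mul_one]
  -- g ∈ zpowers (g^2)
  have hgpow : g ∈ Subgroup.zpowers (g ^ 2) := by
    obtain ⟨k, hk⟩ := hgo
    have h : (g ^ 2) ^ (k + 1) = g := by
      rw [← pow_mul]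
      have : 2 * (k + 1) = orderOf g + 1 := by omega
      rw [this, pow_succ, pow_orderOf_eq_one, one_mul]
    have h' := Subgroup.pow_mem (Subgroup.zpowers (g ^ 2)) (Subgroup.mem_zpowers (g ^ 2)) (k + 1)
    rwa [h] at h'
  have hgy : g ∈ Subgroup.centralizer ({y} : Set G) := by
    have hle : Subgroup.zpowers (g ^ 2) ≤ Subgroup.centralizer ({y} : Set G) := by
      rw [Subgroup.zpowers_le]
      refine Subgroup.mem_centralizer_iff.mpr ?_
      intro v hv
      have hv' : v = y := hv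
      subst hv'
      calc v * g ^ 2 = (g ^ 2 * v * (g ^ 2)⁻¹) * g ^ 2 := by rw [hg2]
        _ = g ^ 2 * v := by group
    exact hle hgpow
  have hgy' : y * g = g * y := Subgroup.mem_centralizer_iff.mp hgy y rfl
  -- g centralizes zpowers y
  have hgU : g ∈ Subgroup.centralizer ((Subgroup.zpowers y : Subgroup G) : Set G) := by
    refine Subgroup.mem_centralizer_iff.mpr ?_
    intro v hv
    obtain ⟨k, rfl⟩ := Subgroup.mem_zpowers_iff.mp hv
    exact ((Commute.zpow_left (show Commute y g from hgy') k)).eq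
  have hUY : Subgroup.zpowers y ≤ Y := by rw [Subgroup.zpowers_le]; exact hy
  refine odd_centralizes_of_index_two (q8_isPGroup hQ) hUY ?_ hgo hgN hgU
  rw [q8_card_zpowers hQ hy hy1 hyz, hQ.1]

/-- `[Y, X] < Y` for a nontrivial subgroup `Y` normalized by a finite `p`-group `X ≥ Y`. -/
theorem commutator_lt_of_pgroup [Finite G] {p : ℕ} [Fact p.Prime] {X Y : Subgroup G} (hX : IsPGroup p ↥X)
    (hYX : Y ≤ X) (hXN : X ≤ Subgroup.normalizer (Y : Set G)) (hY : Y ≠ ⊥) : ⁅Y, X⁆ < Y := by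
  have hle : ⁅Y, X⁆ ≤ Y := by
    rw [Subgroup.commutator_le]
    intro y hy x hx
    have h1 : x * y⁻¹ * x⁻¹ ∈ Y := (Subgroup.mem_normalizer_iff.mp (hXN hx) y⁻¹).mp (Y.inv_mem hy)
    have : ⁅y, x⁆ = y * (x * y⁻¹ * x⁻¹) := by rw [commutatorElement_def]; group
    rw [this]
    exact Y.mul_mem hy h1
  refine lt_of_le_of_ne hle ?_
  intro heq
  apply hY
  have hnil : Group.IsNilpotent ↥X := hX.isNilpotent
  obtain ⟨c, hc⟩ := (Subgroup.isNilpotent_iff_lowerCentralSeries X).mp hnil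
  have key : ∀ i, Y ≤ X.lowerCentralSeries i := by
    intro i
    induction i with
    | zero => exact hYX
    | succ i ih =>
      rw [Subgroup.lowerCentralSeries_succ]
      calc Y = ⁅Y, X⁆ := heq.symm
        _ ≤ ⁅X.lowerCentralSeries i, X⁆ := Subgroup.commutator_mono ih le_rfl
  rw [eq_bot_iff, ← hc]
  exact key c


theorem mem_normalizer_commutator {Y X : Subgroup G} {g : G} (hgY : g ∈ Subgroup.normalizer (Y : Set G))
    (hgX : g ∈ Subgroup.normalizer (X : Set G)) : g ∈ Subgroup.normalizer ((⁅Y, X⁆ : Subgroup G) : Set G) := by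
  have hmapY : Y.map (MulAut.conj g).toMonoidHom = Y := by
    ext v
    constructor
    · rintro ⟨u, hu, rfl⟩
      exact (Subgroup.mem_normalizer_iff.mp hgY u).mp hu
    · intro hv
      refine ⟨g⁻¹ * v * g, ?_, ?_⟩
      · have := (Subgroup.mem_normalizer_iff.mp hgY (g⁻¹ * v * g)).mpr (by
          have : g * (g⁻¹ * v * g) * g⁻¹ = v := by group
          rw [this]; exact hv)
        exact this
      · simp [MulAut.conj_apply]; group
  have hmapX : X.map (MulAut.conj g).toMonoidHom = X := by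
    ext v
    constructor
    · rintro ⟨u, hu, rfl⟩
      exact (Subgroup.mem_normalizer_iff.mp hgX u).mp hu
    · intro hv
      refine ⟨g⁻¹ * v * g, ?_, ?_⟩
      · have := (Subgroup.mem_normalizer_iff.mp hgX (g⁻¹ * v * g)).mpr (by
          have : g * (g⁻¹ * v * g) * g⁻¹ = v := by group
          rw [this]; exact hv)
        exact this
      · simp [MulAut.conj_apply]; group
  have hmap : (⁅Y, X⁆ : Subgroup G).map (MulAut.conj g).toMonoidHom = ⁅Y, X⁆ := by
    rw [Subgroup.map_commutator, hmapY, hmapX]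
  refine Subgroup.mem_normalizer_iff.mpr ?_
  intro v
  constructor
  · intro hv
    rw [← hmap]
    exact ⟨v, hv, by simp [MulAut.conj_apply]⟩
  · intro hv
    rw [← hmap] at hv
    obtain ⟨u, hu, hu'⟩ := hv
    have : u = v := by
      have h1 : g * u * g⁻¹ = g * v * g⁻¹ := by simpa [MulAut.conj_apply] using hu'
      have h2 : u = g⁻¹ * (g * u * g⁻¹) * g := by group
      rw [h2, h1]; group
    exact this ▸ hu

theorem card_lt_of_lt' [Finite G] {A B : Subgroup G} (h : A < B) : Nat.card ↥A < Nat.card ↥B := by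
  by_contra hcon
  rw [not_lt] at hcon
  exact h.ne (Subgroup.eq_of_le_of_card_ge h.le hcon)

/-- under the hypotheses of N3, `X` acts trivially on `Y/⟨z⟩`. -/
theorem q8_commutator_le [Finite G] {X Y : Subgroup G} {z g : G} (h2 : IsPGroup 2 ↥X) (hYX : Y ≤ X) (hQ : Q8Type Y z)
    (hXN : X ≤ Subgroup.normalizer (Y : Set G)) (hgo : Odd (orderOf g))
    (hgX : g ∈ Subgroup.normalizer (X : Set G)) (hgY : g ∈ Subgroup.normalizer (Y : Set G))
    (hgC : g ∉ Subgroup.centralizer (Y : Set G)) :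
    ∀ w ∈ (⁅Y, X⁆ : Subgroup G), w = 1 ∨ w = z := by
  haveI : Fact (Nat.Prime 2) := ⟨Nat.prime_two⟩
  have hzY : z ∈ Y := hQ.2.1
  have hz1 : z ≠ 1 := hQ.2.2.1
  have hYbot : Y ≠ ⊥ := by
    intro h
    rw [h, Subgroup.mem_bot] at hzY
    exact hz1 hzY
  have hlt : ⁅Y, X⁆ < Y := commutator_lt_of_pgroup h2 hYX hXN hYbot
  intro w hw
  by_contra hcon
  rw [not_or] at hcon
  obtain ⟨hw1, hwz⟩ := hcon
  apply hgC
  have hwY : w ∈ Y := hlt.le hw
  have hU4 := q8_card_zpowers hQ hwY hw1 hwz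
  have hUle : Subgroup.zpowers w ≤ ⁅Y, X⁆ := by rw [Subgroup.zpowers_le]; exact hw
  have hcard1 : Nat.card ↥(⁅Y, X⁆ : Subgroup G) < 8 := by rw [← hQ.1]; exact card_lt_of_lt' hlt
  have hd1 : Nat.card ↥(⁅Y, X⁆ : Subgroup G) ∣ 8 := by rw [← hQ.1]; exact Subgroup.card_dvd_of_le hlt.le
  have hd2 : 4 ∣ Nat.card ↥(⁅Y, X⁆ : Subgroup G) := by rw [← hU4]; exact Subgroup.card_dvd_of_le hUle
  have hcard : Nat.card ↥(⁅Y, X⁆ : Subgroup G) = 4 := by
    obtain ⟨m, hm⟩ := hd2
    have : m ∣ 2 := by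
      have : 4 * m ∣ 4 * 2 := by rw [← hm]; exact hd1
      exact Nat.dvd_of_mul_dvd_mul_left (by norm_num) this
    have hm2 : m ≤ 2 := Nat.le_of_dvd (by norm_num) this
    interval_cases m <;> omega
  have hUeq : Subgroup.zpowers w = ⁅Y, X⁆ :=
    Subgroup.eq_of_le_of_card_ge hUle (by rw [hcard, hU4])
  have hgU : g ∈ Subgroup.normalizer ((Subgroup.zpowers w : Subgroup G) : Set G) := by
    rw [hUeq]; exact mem_normalizer_commutator hgY hgX
  have hw2 : w ^ 2 = z := hQ.2.2.2.2 w hwY hw1 hwz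
  have hgz : g * z * g⁻¹ = z := q8_conj_z hQ hgY
  have hgz' : Commute z g := by
    show z * g = g * z
    calc z * g = (g * z * g⁻¹) * g := by rw [hgz]
      _ = g * z := by group
  have hgZ : g ∈ Subgroup.centralizer ((Subgroup.zpowers z : Subgroup G) : Set G) := by
    refine Subgroup.mem_centralizer_iff.mpr ?_
    intro v hv
    obtain ⟨k, rfl⟩ := Subgroup.mem_zpowers_iff.mp hv
    exact (Commute.zpow_left hgz' k).eq
  have hZU : Subgroup.zpowers z ≤ Subgroup.zpowers w := by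
    rw [Subgroup.zpowers_le, ← hw2]
    exact Subgroup.pow_mem _ (Subgroup.mem_zpowers w) 2
  have hUp : IsPGroup 2 ↥(Subgroup.zpowers w) := by
    have : Nat.card ↥(Subgroup.zpowers w) = 2 ^ 2 := by rw [hU4]; norm_num
    exact IsPGroup.of_card this
  have hgCU : g ∈ Subgroup.centralizer ((Subgroup.zpowers w : Subgroup G) : Set G) :=
    odd_centralizes_of_index_two hUp hZU (by rw [hU4, q8_card_zpowers_z hQ]) hgo hgU hgZ
  have hUY : Subgroup.zpowers w ≤ Y := by rw [Subgroup.zpowers_le]; exact hwY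
  exact odd_centralizes_of_index_two (q8_isPGroup hQ) hUY (by rw [hU4, hQ.1]) hgo hgY hgCU


/-- if `X` acts trivially on `Y/⟨z⟩` (`Y` of `Q8Type`, `Y ≤ X`), then `X = Y C_X(Y)`. -/
theorem q8_factor_of_commutator_le [Finite G] {X Y : Subgroup G} {z : G} (hYX : Y ≤ X) (hQ : Q8Type Y z)
    (hcomm : ∀ w ∈ (⁅Y, X⁆ : Subgroup G), w = 1 ∨ w = z) :
    Y ⊔ (X ⊓ Subgroup.centralizer (Y : Set G)) = X := by
  apply le_antisymm (sup_le hYX inf_le_left)
  have hzY : z ∈ Y := hQ.2.1
  have hz1 : z ≠ 1 := hQ.2.2.1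
  have hz2 : z ^ 2 = 1 := hQ.2.2.2.1
  have hsq := hQ.2.2.2.2
  have hzinv : z⁻¹ = z := by
    have : z * z = 1 := by rw [← pow_two]; exact hz2
    exact inv_eq_of_mul_eq_one_left this
  have hzc : ∀ y ∈ Y, y * z = z * y := by
    intro y hy
    have h := q8_conj_z hQ (Subgroup.le_normalizer hy)
    calc y * z = (y * z * y⁻¹) * y := by group
      _ = z * y := by rw [h]
  -- the action of x ∈ X
  have hact : ∀ x ∈ X, ∀ y ∈ Y, x * y * x⁻¹ = y ∨ x * y * x⁻¹ = y * z := by
    intro x hx y hy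
    have hmem : ⁅x, y⁆ ∈ (⁅Y, X⁆ : Subgroup G) := by
      rw [Subgroup.commutator_comm]
      exact Subgroup.commutator_mem_commutator hx hy
    rcases hcomm _ hmem with h | h
    · left
      rw [commutatorElement_def] at h
      calc x * y * x⁻¹ = (x * y * x⁻¹ * y⁻¹) * y := by group
        _ = y := by rw [h, one_mul]
    · right
      rw [commutatorElement_def] at h
      calc x * y * x⁻¹ = (x * y * x⁻¹ * y⁻¹) * y := by group
        _ = z * y := by rw [h]
        _ = y * z := (hzc y hy).symm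
  -- choose i, j
  have hZlt : Subgroup.zpowers z < Y := by
    refine lt_of_le_of_ne (by rw [Subgroup.zpowers_le]; exact hzY) ?_
    intro h
    have := q8_card_zpowers_z hQ
    rw [h, hQ.1] at this
    omega
  obtain ⟨i, hiY, hiZ⟩ := SetLike.exists_of_lt hZlt
  have hi1 : i ≠ 1 := fun h => hiZ (h ▸ Subgroup.one_mem _)
  have hiz : i ≠ z := fun h => hiZ (h ▸ Subgroup.mem_zpowers z)
  have hi2 : i ^ 2 = z := hsq i hiY hi1 hiz
  have hIlt : Subgroup.zpowers i < Y := by
    refine lt_of_le_of_ne (by rw [Subgroup.zpowers_le]; exact hiY) ?_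
    intro h
    have := q8_card_zpowers hQ hiY hi1 hiz
    rw [h, hQ.1] at this
    omega
  obtain ⟨j, hjY, hjI⟩ := SetLike.exists_of_lt hIlt
  have hzI : z ∈ Subgroup.zpowers i := by
    rw [← hi2]; exact Subgroup.pow_mem _ (Subgroup.mem_zpowers i) 2
  have hj1 : j ≠ 1 := fun h => hjI (h ▸ Subgroup.one_mem _)
  have hjz : j ≠ z := fun h => hjI (h ▸ hzI)
  have hj2 : j ^ 2 = z := hsq j hjY hj1 hjz
  have hij1 : i * j ≠ 1 := by
    intro h
    apply hjI
    have : j = i⁻¹ := by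
      have : j = i⁻¹ * (i * j) := by group
      rw [this, h, mul_one]
    rw [this]
    exact Subgroup.inv_mem _ (Subgroup.mem_zpowers i)
  have hijz : i * j ≠ z := by
    intro h
    apply hjI
    have : j = i⁻¹ * z := by
      have : j = i⁻¹ * (i * j) := by group
      rw [this, h]
    rw [this]
    exact Subgroup.mul_mem _ (Subgroup.inv_mem _ (Subgroup.mem_zpowers i)) hzI
  have hij2 : (i * j) ^ 2 = z := hsq (i * j) (Y.mul_mem hiY hjY) hij1 hijz
  -- relations
  have hjij : j * i * j⁻¹ = i * z := by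
    have h1 : i * j * (i * j) = i * i := by rw [← pow_two, hij2, ← pow_two, hi2]
    have h2 : j * i * j = i := by
      have : i * (j * i * j) = i * i := by rw [← h1]; group
      exact mul_left_cancel this
    have h3 : j⁻¹ * j⁻¹ = z := by
      have : j⁻¹ * j⁻¹ = (j ^ 2)⁻¹ := by rw [pow_two]; group
      rw [this, hj2, hzinv]
    calc j * i * j⁻¹ = (j * i * j) * (j⁻¹ * j⁻¹) := by group
      _ = i * z := by rw [h2, h3]
  have hiji : i * j * i⁻¹ = j * z := by
    have h1 : i * j * (i * j) = j * j := by rw [← pow_two, hij2, ← pow_two, hj2]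
    have h2 : i * j * i = j := by
      have : (i * j * i) * j = j * j := by rw [← h1]; group
      exact mul_right_cancel this
    have h3 : i⁻¹ * i⁻¹ = z := by
      have : i⁻¹ * i⁻¹ = (i ^ 2)⁻¹ := by rw [pow_two]; group
      rw [this, hi2, hzinv]
    calc i * j * i⁻¹ = (i * j * i) * (i⁻¹ * i⁻¹) := by group
      _ = j * z := by rw [h2, h3]
  -- key: if `w ∈ Y` acts on `i, j` as `x` does, then `w⁻¹ x` centralizes `Y`
  have hkey : ∀ x ∈ X, ∀ w ∈ Y, w * i * w⁻¹ = x * i * x⁻¹ → w * j * w⁻¹ = x * j * x⁻¹ →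
      x ∈ Y ⊔ (X ⊓ Subgroup.centralizer (Y : Set G)) := by
    intro x hx w hw hwi hwj
    set c := w⁻¹ * x with hc
    have hcX : c ∈ X := X.mul_mem (X.inv_mem (hYX hw)) hx
    have hci : i * c = c * i := by
      have : c * i * c⁻¹ = i := by
        have : c * i * c⁻¹ = w⁻¹ * (x * i * x⁻¹) * w := by rw [hc]; group
        rw [this, ← hwi]; group
      calc i * c = (c * i * c⁻¹) * c := by rw [this]
        _ = c * i := by group
    have hcj : j * c = c * j := by
      have : c * j * c⁻¹ = j := by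
        have : c * j * c⁻¹ = w⁻¹ * (x * j * x⁻¹) * w := by rw [hc]; group
        rw [this, ← hwj]; group
      calc j * c = (c * j * c⁻¹) * c := by rw [this]
        _ = c * j := by group
    -- V = elements of Y commuting with c
    set V : Subgroup G := Y ⊓ Subgroup.centralizer ({c} : Set G) with hV
    have hiV : i ∈ V := ⟨hiY, Subgroup.mem_centralizer_iff.mpr (fun v hv => by
      have hv' : v = c := hv
      rw [hv']; exact hci.symm)⟩
    have hjV : j ∈ V := ⟨hjY, Subgroup.mem_centralizer_iff.mpr (fun v hv => by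
      have hv' : v = c := hv
      rw [hv']; exact hcj.symm)⟩
    have hIV : Subgroup.zpowers i < V := by
      refine lt_of_le_of_ne (by rw [Subgroup.zpowers_le]; exact hiV) ?_
      intro h
      exact hjI (h ▸ hjV)
    have hVY : V ≤ Y := inf_le_left
    have hc1 : 4 < Nat.card ↥V := by
      rw [← q8_card_zpowers hQ hiY hi1 hiz]; exact card_lt_of_lt' hIV
    have hc2 : Nat.card ↥V ∣ 8 := by rw [← hQ.1]; exact Subgroup.card_dvd_of_le hVY
    have hc3 : Nat.card ↥V = 8 := by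
      have hle : Nat.card ↥V ≤ 8 := Nat.le_of_dvd (by norm_num) hc2
      interval_cases (Nat.card ↥V) <;> omega
    have hVeq : V = Y := Subgroup.eq_of_le_of_card_ge hVY (by rw [hc3, hQ.1])
    have hcC : c ∈ Subgroup.centralizer (Y : Set G) := by
      refine Subgroup.mem_centralizer_iff.mpr ?_
      intro y hy
      have hyV : y ∈ V := hVeq ▸ hy
      have := Subgroup.mem_centralizer_iff.mp hyV.2 c rfl
      exact this.symm
    have hx' : x = w * c := by rw [hc]; group
    rw [hx']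
    exact Subgroup.mul_mem_sup hw ⟨hcX, hcC⟩
  intro x hx
  rcases hact x hx i hiY with hxi | hxi <;> rcases hact x hx j hjY with hxj | hxj
  · exact hkey x hx 1 Y.one_mem (by rw [hxi]; group) (by rw [hxj]; group)
  · refine hkey x hx i hiY (by rw [hxi]; group) (by rw [hxj]; exact hiji)
  · refine hkey x hx j hjY (by rw [hxi]; exact hjij) (by rw [hxj]; group)
  · refine hkey x hx (i * j) (Y.mul_mem hiY hjY) ?_ ?_
    · rw [hxi]
      calc i * j * i * (i * j)⁻¹ = i * (j * i * j⁻¹) * i⁻¹ := by group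
        _ = i * (i * z) * i⁻¹ := by rw [hjij]
        _ = i * (z * i) * i⁻¹ := by rw [hzc i hiY]
        _ = i * z := by group
    · rw [hxj]
      calc i * j * j * (i * j)⁻¹ = i * j * i⁻¹ := by group
        _ = j * z := hiji

/-- **N3**. -/
theorem q8_factor [Finite G] {X Y : Subgroup G} {z g : G} (h2 : IsPGroup 2 ↥X) (hYX : Y ≤ X) (hQ : Q8Type Y z)
    (hXN : X ≤ Subgroup.normalizer (Y : Set G)) (hgo : Odd (orderOf g))
    (hgX : g ∈ Subgroup.normalizer (X : Set G)) (hgY : g ∈ Subgroup.normalizer (Y : Set G))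
    (hgC : g ∉ Subgroup.centralizer (Y : Set G)) :
    Y ⊔ (X ⊓ Subgroup.centralizer (Y : Set G)) = X :=
  q8_factor_of_commutator_le hYX hQ (q8_commutator_le h2 hYX hQ hXN hgo hgX hgY hgC)

end Cfsg.Agent.Lib.H11.TwoMin
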