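import Mathlib
import Cfsg.Agent.Lib.H26.TwoMinDefs

set_option autoImplicit false
set_option linter.style.haveILetI false
open scoped commutatorElement

/-!
# S4409 piece T4 (helper11): a 2-group with a normal self-centralizing four-subgroup has order `≤ 8`
and no noncyclic abelian subgroup of order 8.  Also the general tool: conjugation action of `X ≤ N(T)`
on the nonidentity elements of `T`.
-/

namespace Cfsg.Agent.Lib.H11.TwoMin

open Cfsg.Agent.Lib.H26.TwoMin

variable {G : Type*} [Group G]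

/-- nonidentity elements of `T` -/
abbrev NonId (T : Subgroup G) : Type _ := {y : G // y ∈ T ∧ y ≠ 1}

/-- conjugation action of `X ≤ N(T)` on the nonidentity elements of `T`. -/
@[reducible] def conjNonId {X T : Subgroup G} (hXN : X ≤ Subgroup.normalizer (T : Set G)) :
    MulAction ↥X (NonId T) where
  smul x y := ⟨(x : G) * y.1 * (x : G)⁻¹,
    ((Subgroup.mem_normalizer_iff.mp (hXN x.2)) y.1).mp y.2.1,
    fun h => y.2.2 (by
      have : y.1 = (x : G)⁻¹ * ((x : G) * y.1 * (x : G)⁻¹) * (x : G) := by group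
      rw [this, h]; group)⟩
  one_smul y := by
    apply Subtype.ext
    show ((1 : ↥X) : G) * y.1 * ((1 : ↥X) : G)⁻¹ = y.1
    simp
  mul_smul a b y := by
    apply Subtype.ext
    show ((a * b : ↥X) : G) * y.1 * ((a * b : ↥X) : G)⁻¹ = (a : G) * ((b : G) * y.1 * (b : G)⁻¹) * (a : G)⁻¹
    simp only [Subgroup.coe_mul, mul_inv_rev]; group

theorem card_nonId [Finite G] (T : Subgroup G) : Nat.card (NonId T) + 1 = Nat.card ↥T := by
  classical
  have e : NonId T ≃ {y : ↥T // y ≠ 1} :=
    { toFun := fun y => ⟨⟨y.1, y.2.1⟩, fun h => y.2.2 (congrArg Subtype.val h)⟩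
      invFun := fun y => ⟨y.1.1, y.1.2, fun h => y.2 (Subtype.ext h)⟩
      left_inv := fun y => rfl
      right_inv := fun y => rfl }
  rw [Nat.card_congr e]
  haveI : Fintype ↥T := Fintype.ofFinite _
  rw [Nat.card_eq_fintype_card, Nat.card_eq_fintype_card, Fintype.card_subtype_compl, Fintype.card_subtype_eq]
  have : 0 < Fintype.card ↥T := Fintype.card_pos
  omega

/-- the kernel of the action on nonidentity elements is the centralizer -/
theorem ker_conjNonId_le {X T : Subgroup G} (hXN : X ≤ Subgroup.normalizer (T : Set G)) :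
    (letI := conjNonId hXN; (MulAction.toPermHom ↥X (NonId T)).ker) ≤
      (X ⊓ Subgroup.centralizer (T : Set G)).subgroupOf X := by
  letI := conjNonId hXN
  intro x hx
  rw [Subgroup.mem_subgroupOf]
  refine ⟨x.2, Subgroup.mem_centralizer_iff.mpr ?_⟩
  intro y hy
  by_cases hy1 : y = 1
  · subst hy1; simp
  have h1 : (MulAction.toPermHom ↥X (NonId T)) x ⟨y, hy, hy1⟩ = ⟨y, hy, hy1⟩ := by
    rw [MonoidHom.mem_ker.mp hx]; rfl
  have h2 : (x : G) * y * (x : G)⁻¹ = y := congrArg Subtype.val h1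
  calc y * (x : G) = ((x : G) * y * (x : G)⁻¹) * (x : G) := by rw [h2]
    _ = (x : G) * y := by group

/-- **T4 core**: a 2-group `X` normalizing a four-group `T` has `|X| ≤ 2 |C_X(T)|`. -/
theorem card_le_two_mul_of_v4 [Finite G] {X T : Subgroup G} (h2 : IsPGroup 2 ↥X) (hV : V4Type T)
    (hXN : X ≤ Subgroup.normalizer (T : Set G)) :
    Nat.card ↥X ≤ 2 * Nat.card ↥(X ⊓ Subgroup.centralizer (T : Set G) : Subgroup G) := by
  classical
  letI := conjNonId hXN
  set φ := MulAction.toPermHom ↥X (NonId T) with hφ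
  have hcardS : Nat.card (NonId T) = 3 := by
    have := card_nonId T
    rw [hV.1] at this
    omega
  haveI : Finite (NonId T) := Nat.finite_of_card_ne_zero (by rw [hcardS]; norm_num)
  haveI : Fintype (NonId T) := Fintype.ofFinite _
  have hperm : Nat.card (Equiv.Perm (NonId T)) = 6 := by
    rw [Nat.card_eq_fintype_card, Fintype.card_perm, ← Nat.card_eq_fintype_card, hcardS]
    rfl
  have hrange_dvd : Nat.card ↥φ.range ∣ 6 := by
    rw [← hperm]
    exact Subgroup.card_subgroup_dvd_card _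
  have hrange_p : IsPGroup 2 ↥φ.range :=
    h2.of_surjective φ.rangeRestrict φ.rangeRestrict_surjective
  obtain ⟨k, hk⟩ := IsPGroup.iff_card.mp hrange_p
  have hrange_le : Nat.card ↥φ.range ≤ 2 := by
    rw [hk] at hrange_dvd ⊢
    rcases k with _ | _ | k
    · norm_num
    · norm_num
    · exfalso
      have h4 : 4 ∣ 6 := dvd_trans ⟨2 ^ k, by ring⟩ hrange_dvd
      omega
  have hker : Nat.card ↥φ.ker ≤ Nat.card ↥(X ⊓ Subgroup.centralizer (T : Set G) : Subgroup G) := by
    have h1 := Subgroup.card_le_of_le (ker_conjNonId_le hXN)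
    refine h1.trans (le_of_eq ?_)
    exact Nat.card_congr (Subgroup.subgroupOfEquivOfLe inf_le_left).toEquiv
  have hcard : Nat.card ↥X = Nat.card ↥φ.ker * Nat.card ↥φ.range := by
    rw [← Subgroup.index_ker φ, mul_comm, Subgroup.index_mul_card]
  rw [hcard]
  calc Nat.card ↥φ.ker * Nat.card ↥φ.range ≤ Nat.card ↥φ.ker * 2 := Nat.mul_le_mul_left _ hrange_le
    _ ≤ Nat.card ↥(X ⊓ Subgroup.centralizer (T : Set G) : Subgroup G) * 2 := Nat.mul_le_mul_right _ hker
    _ = _ := by ring

/-- **T4**. -/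
theorem v4_core_false [Finite G] {X T A : Subgroup G} (h2 : IsPGroup 2 ↥X) (hTX : T ≤ X) (hV : V4Type T)
    (hXN : X ≤ Subgroup.normalizer (T : Set G)) (hC : X ⊓ Subgroup.centralizer (T : Set G) ≤ T)
    (hAX : A ≤ X) (hAc : ∀ a ∈ A, ∀ b ∈ A, a * b = b * a) (hAn : ¬ IsCyclic ↥A) (hA8 : Nat.card ↥A = 8) : False := by
  have h1 := card_le_two_mul_of_v4 h2 hV hXN
  have h3 : Nat.card ↥(X ⊓ Subgroup.centralizer (T : Set G) : Subgroup G) ≤ 4 := by
    rw [← hV.1]; exact Subgroup.card_le_of_le hC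
  have hX8 : Nat.card ↥X ≤ 8 := by omega
  have hAX' : A = X := Subgroup.eq_of_le_of_card_ge hAX (by rw [hA8]; exact hX8)
  subst hAX'
  have hXT : A ≤ T := by
    refine le_trans ?_ hC
    refine le_inf le_rfl ?_
    intro x hx
    rw [Subgroup.mem_centralizer_iff]
    intro y hy
    exact hAc y (hTX hy) x hx
  have := Subgroup.card_le_of_le hXT
  rw [hA8, hV.1] at this
  omega

end Cfsg.Agent.Lib.H11.TwoMin
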