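import Mathlib
import Cfsg.Agent.Lib.H26.TwoMinDefs
import Cfsg.Agent.Lib.H11.TwoMinN3
import Cfsg.Agent.Lib.H3.Thompson

set_option autoImplicit false
set_option linter.style.haveILetI false
set_option linter.unusedVariables false
open scoped commutatorElement

/-!
# S4409 piece T8 (helper11): a 2-group `X` with a normal `Q₈`-subgroup `T ⊇ C_X(T)` has order `≤ 16` and contains no
noncyclic abelian subgroup of order 8.
-/

namespace Cfsg.Agent.Lib.H11.TwoMin

open Cfsg.Agent.Lib.H26.TwoMin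

variable {G : Type*} [Group G]

theorem q8_z_inv {T : Subgroup G} {z : G} (hQ : Q8Type T z) : z⁻¹ = z := by
  have hz2 : z ^ 2 = 1 := hQ.2.2.2.1
  have : z * z = 1 := by rw [← pow_two]; exact hz2
  exact inv_eq_of_mul_eq_one_left this

theorem q8_z_comm {T : Subgroup G} {z : G} (hQ : Q8Type T z) : ∀ y ∈ T, y * z = z * y := by
  intro y hy
  have h := q8_conj_z hQ (Subgroup.le_normalizer hy)
  calc y * z = (y * z * y⁻¹) * y := by group
    _ = z * y := by rw [h]

theorem q8_z_mem_zpowers {T : Subgroup G} {z i : G} (hQ : Q8Type T z) (hi : i ∈ T) (hi1 : i ≠ 1) (hiz : i ≠ z) :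
    z ∈ Subgroup.zpowers i := by
  rw [← hQ.2.2.2.2 i hi hi1 hiz]
  exact Subgroup.pow_mem _ (Subgroup.mem_zpowers i) 2

/-- the defining relations -/
theorem q8_rel {T : Subgroup G} {z i j : G} (hQ : Q8Type T z) (hi : i ∈ T) (hi1 : i ≠ 1) (hiz : i ≠ z)
    (hj : j ∈ T) (hjI : j ∉ Subgroup.zpowers i) :
    j * i * j⁻¹ = i * z ∧ i * j * i⁻¹ = j * z := by
  have hsq := hQ.2.2.2.2
  have hzinv := q8_z_inv hQ
  have hzI := q8_z_mem_zpowers hQ hi hi1 hiz
  have hi2 : i ^ 2 = z := hsq i hi hi1 hiz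
  have hj1 : j ≠ 1 := fun h => hjI (h ▸ Subgroup.one_mem _)
  have hjz : j ≠ z := fun h => hjI (h ▸ hzI)
  have hj2 : j ^ 2 = z := hsq j hj hj1 hjz
  have hij1 : i * j ≠ 1 := by
    intro h
    apply hjI
    have : j = i⁻¹ := by
      have : j = i⁻¹ * (i * j) := by group
      rw [this, h, mul_one]
    rw [this]
    exact Subgroup.inv_mem _ (Subgroup.mem_zpowers i)
  have hijz : i * j ≠ z := by
    intro h
    apply hjI
    have : j = i⁻¹ * z := by
      have : j = i⁻¹ * (i * j) := by group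
      rw [this, h]
    rw [this]
    exact Subgroup.mul_mem _ (Subgroup.inv_mem _ (Subgroup.mem_zpowers i)) hzI
  have hij2 : (i * j) ^ 2 = z := hsq (i * j) (T.mul_mem hi hj) hij1 hijz
  constructor
  · have h1 : i * j * (i * j) = i * i := by rw [← pow_two, hij2, ← pow_two, hi2]
    have h2 : j * i * j = i := by
      have : i * (j * i * j) = i * i := by rw [← h1]; group
      exact mul_left_cancel this
    have h3 : j⁻¹ * j⁻¹ = z := by
      have : j⁻¹ * j⁻¹ = (j ^ 2)⁻¹ := by rw [pow_two]; group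
      rw [this, hj2, hzinv]
    calc j * i * j⁻¹ = (j * i * j) * (j⁻¹ * j⁻¹) := by group
      _ = i * z := by rw [h2, h3]
  · have h1 : i * j * (i * j) = j * j := by rw [← pow_two, hij2, ← pow_two, hj2]
    have h2 : i * j * i = j := by
      have : (i * j * i) * j = j * j := by rw [← h1]; group
      exact mul_right_cancel this
    have h3 : i⁻¹ * i⁻¹ = z := by
      have : i⁻¹ * i⁻¹ = (i ^ 2)⁻¹ := by rw [pow_two]; group
      rw [this, hi2, hzinv]
    calc i * j * i⁻¹ = (i * j * i) * (i⁻¹ * i⁻¹) := by group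
      _ = j * z := by rw [h2, h3]

/-- elements of `⟨i⟩` -/
theorem q8_mem_zpowers {T : Subgroup G} {z i w : G} (hQ : Q8Type T z) (hi : i ∈ T) (hi1 : i ≠ 1) (hiz : i ≠ z)
    (hw : w ∈ Subgroup.zpowers i) : w = 1 ∨ w = i ∨ w = z ∨ w = i * z := by
  obtain ⟨n, rfl⟩ := Subgroup.mem_zpowers_iff.mp hw
  have ho := q8_orderOf hQ hi hi1 hiz
  have hi2 : i ^ 2 = z := hQ.2.2.2.2 i hi hi1 hiz
  rw [← zpow_mod_orderOf, ho]
  have h0 : 0 ≤ n % 4 := Int.emod_nonneg _ (by norm_num)
  have h4 : n % 4 < 4 := Int.emod_lt_of_pos _ (by norm_num)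
  have hcases : n % 4 = 0 ∨ n % 4 = 1 ∨ n % 4 = 2 ∨ n % 4 = 3 := by omega
  rcases hcases with h | h | h | h <;> rw [Nat.cast_ofNat] <;> rw [h]
  · left; simp
  · right; left; simp
  · right; right; left
    have : i ^ (2 : ℤ) = i ^ 2 := by norm_cast
    rw [this, hi2]
  · right; right; right
    have : i ^ (3 : ℤ) = i * i ^ 2 := by
      have : i ^ (3 : ℤ) = i ^ 3 := by norm_cast
      rw [this, pow_succ', ]
    rw [this, hi2]

/-- elements of `T ∖ ⟨i⟩` -/
theorem q8_not_mem_zpowers [Finite G] {T : Subgroup G} {z i j y : G} (hQ : Q8Type T z) (hi : i ∈ T) (hi1 : i ≠ 1)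
    (hiz : i ≠ z) (hj : j ∈ T) (hjI : j ∉ Subgroup.zpowers i) (hy : y ∈ T) (hyI : y ∉ Subgroup.zpowers i) :
    y = j ∨ y = j * z ∨ y = i * j ∨ y = i * j * z := by
  have hUT : Subgroup.zpowers i ≤ T := by rw [Subgroup.zpowers_le]; exact hi
  have hidx : ((Subgroup.zpowers i).subgroupOf T).index = 2 := by
    have h1 := Subgroup.card_mul_index ((Subgroup.zpowers i).subgroupOf T)
    have h3 : Nat.card ↥((Subgroup.zpowers i).subgroupOf T) = Nat.card ↥(Subgroup.zpowers i) :=
      Nat.card_congr (Subgroup.subgroupOfEquivOfLe hUT).toEquiv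
    rw [h3, q8_card_zpowers hQ hi hi1 hiz, hQ.1] at h1
    omega
  have hmem : j⁻¹ * y ∈ Subgroup.zpowers i := by
    have h1 := Subgroup.mul_mem_iff_of_index_two hidx
      (a := (⟨j⁻¹, T.inv_mem hj⟩ : ↥T)) (b := (⟨y, hy⟩ : ↥T))
    simp only [Subgroup.mem_subgroupOf, Subgroup.coe_mul] at h1
    refine h1.mpr ⟨fun h => absurd ((Subgroup.inv_mem_iff _).mp h) hjI, fun h => absurd h hyI⟩
  obtain ⟨hjij, hiji⟩ := q8_rel hQ hi hi1 hiz hj hjI
  have hzc := q8_z_comm hQ
  have hy' : y = j * (j⁻¹ * y) := by group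
  have hji : j * i = i * j * z := by
    calc j * i = (j * i * j⁻¹) * j := by group
      _ = i * z * j := by rw [hjij]
      _ = i * (z * j) := by group
      _ = i * (j * z) := by rw [hzc j hj]
      _ = i * j * z := by group
  rcases q8_mem_zpowers hQ hi hi1 hiz hmem with h | h | h | h
  · left; rw [hy', h, mul_one]
  · right; right; right; rw [hy', h, hji]
  · right; left; rw [hy', h]
  · right; right; left
    rw [hy', h, ← mul_assoc, hji, mul_assoc, ← pow_two, hQ.2.2.2.1, mul_one]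

/-- an element commuting with two "independent" elements of `T` centralizes `T`. -/
theorem q8_centralizes_of_two [Finite G] {T : Subgroup G} {z i j c : G} (hQ : Q8Type T z) (hi : i ∈ T) (hi1 : i ≠ 1)
    (hiz : i ≠ z) (hj : j ∈ T) (hjI : j ∉ Subgroup.zpowers i) (hci : i * c = c * i) (hcj : j * c = c * j) :
    c ∈ Subgroup.centralizer (T : Set G) := by
  set V : Subgroup G := T ⊓ Subgroup.centralizer ({c} : Set G) with hV
  have hiV : i ∈ V := ⟨hi, Subgroup.mem_centralizer_iff.mpr (fun v hv => by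
    have hv' : v = c := hv
    rw [hv']; exact hci.symm)⟩
  have hjV : j ∈ V := ⟨hj, Subgroup.mem_centralizer_iff.mpr (fun v hv => by
    have hv' : v = c := hv
    rw [hv']; exact hcj.symm)⟩
  have hIV : Subgroup.zpowers i < V := by
    refine lt_of_le_of_ne (by rw [Subgroup.zpowers_le]; exact hiV) ?_
    intro h
    exact hjI (h ▸ hjV)
  have hVT : V ≤ T := inf_le_left
  have hc1 : 4 < Nat.card ↥V := by
    rw [← q8_card_zpowers hQ hi hi1 hiz]; exact card_lt_of_lt' hIV
  have hc2 : Nat.card ↥V ∣ 8 := by rw [← hQ.1]; exact Subgroup.card_dvd_of_le hVT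
  have hc3 : Nat.card ↥V = 8 := by
    have hle : Nat.card ↥V ≤ 8 := Nat.le_of_dvd (by norm_num) hc2
    interval_cases (Nat.card ↥V) <;> omega
  have hVeq : V = T := Subgroup.eq_of_le_of_card_ge hVT (by rw [hc3, hQ.1])
  refine Subgroup.mem_centralizer_iff.mpr ?_
  intro y hy
  have hyV : y ∈ V := hVeq ▸ hy
  have := Subgroup.mem_centralizer_iff.mp hyV.2 c rfl
  exact this.symm

/-- there are `i, j` -/
theorem q8_exists_ij [Finite G] {T : Subgroup G} {z : G} (hQ : Q8Type T z) :
    ∃ i ∈ T, i ≠ 1 ∧ i ≠ z ∧ ∃ j ∈ T, j ∉ Subgroup.zpowers i := by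
  have hzT : z ∈ T := hQ.2.1
  have hZlt : Subgroup.zpowers z < T := by
    refine lt_of_le_of_ne (by rw [Subgroup.zpowers_le]; exact hzT) ?_
    intro h
    have := q8_card_zpowers_z hQ
    rw [h, hQ.1] at this
    omega
  obtain ⟨i, hiT, hiZ⟩ := SetLike.exists_of_lt hZlt
  have hi1 : i ≠ 1 := fun h => hiZ (h ▸ Subgroup.one_mem _)
  have hiz : i ≠ z := fun h => hiZ (h ▸ Subgroup.mem_zpowers z)
  have hIlt : Subgroup.zpowers i < T := by
    refine lt_of_le_of_ne (by rw [Subgroup.zpowers_le]; exact hiT) ?_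
    intro h
    have := q8_card_zpowers hQ hiT hi1 hiz
    rw [h, hQ.1] at this
    omega
  obtain ⟨j, hjT, hjI⟩ := SetLike.exists_of_lt hIlt
  exact ⟨i, hiT, hi1, hiz, j, hjT, hjI⟩

/-- `Z(T) = {1, z}` -/
theorem q8_center [Finite G] {T : Subgroup G} {z h : G} (hQ : Q8Type T z) (hT : h ∈ T)
    (hc : h ∈ Subgroup.centralizer (T : Set G)) : h = 1 ∨ h = z := by
  by_contra hcon
  rw [not_or] at hcon
  obtain ⟨h1, hz⟩ := hcon
  have hIlt : Subgroup.zpowers h < T := by
    refine lt_of_le_of_ne (by rw [Subgroup.zpowers_le]; exact hT) ?_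
    intro h'
    have := q8_card_zpowers hQ hT h1 hz
    rw [h', hQ.1] at this
    omega
  obtain ⟨j, hjT, hjI⟩ := SetLike.exists_of_lt hIlt
  obtain ⟨hjij, -⟩ := q8_rel hQ hT h1 hz hjT hjI
  have hcomm : j * h = h * j := Subgroup.mem_centralizer_iff.mp hc j hjT
  have : j * h * j⁻¹ = h := by rw [hcomm]; group
  rw [this] at hjij
  have : z = 1 := by
    have := mul_left_cancel (a := h) (b := 1) (c := z) (by rw [mul_one]; exact hjij)
    exact this.symm
  exact hQ.2.2.1 this

/-- `T` is not abelian -/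
theorem q8_not_comm [Finite G] {T : Subgroup G} {z : G} (hQ : Q8Type T z) :
    ¬ ∀ a ∈ T, ∀ b ∈ T, a * b = b * a := by
  intro hab
  obtain ⟨i, hiT, hi1, hiz, j, hjT, hjI⟩ := q8_exists_ij hQ
  obtain ⟨hjij, -⟩ := q8_rel hQ hiT hi1 hiz hjT hjI
  have : j * i * j⁻¹ = i := by rw [hab j hjT i hiT]; group
  rw [this] at hjij
  have : z = 1 := by
    have := mul_left_cancel (a := i) (b := 1) (c := z) (by rw [mul_one]; exact hjij)
    exact this.symm
  exact hQ.2.2.1 this

/-- counting along fibers -/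
theorem card_le_of_fibers [Finite G] {β : Type*} [DecidableEq β] (X H : Subgroup G) (f : G → β) (S : Finset β)
    (hS : ∀ x ∈ X, f x ∈ S) (hfib : ∀ x ∈ X, ∀ x' ∈ X, f x = f x' → x⁻¹ * x' ∈ H) :
    Nat.card ↥X ≤ Nat.card ↥H * S.card := by
  classical
  haveI : Fintype ↥X := Fintype.ofFinite _
  haveI : Fintype ↥H := Fintype.ofFinite _
  rw [Nat.card_eq_fintype_card, Nat.card_eq_fintype_card, ← Finset.card_univ (α := ↥X)]
  refine Finset.card_le_mul_card_image_of_maps_to (f := fun x : ↥X => f x.1) (t := S)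
    (fun a _ => hS a.1 a.2) (Fintype.card ↥H) ?_
  intro a ha
  by_cases hne : (Finset.univ.filter (fun x : ↥X => f x.1 = a)).Nonempty
  · obtain ⟨x₀, hx₀⟩ := hne
    rw [Finset.mem_filter] at hx₀
    rw [← Finset.card_univ (α := ↥H)]
    have hmem : ∀ x ∈ Finset.univ.filter (fun x : ↥X => f x.1 = a), x₀.1⁻¹ * x.1 ∈ H := by
      intro x hx
      rw [Finset.mem_filter] at hx
      exact hfib x₀.1 x₀.2 x.1 x.2 (by rw [hx₀.2, hx.2])
    refine Finset.card_le_card_of_injOn
      (fun x => if h : x₀.1⁻¹ * x.1 ∈ H then (⟨x₀.1⁻¹ * x.1, h⟩ : ↥H) else 1) ?_ ?_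
    · intro x _; exact Finset.mem_univ _
    · intro x hx y hy hxy
      have hx' := hmem x hx
      have hy' := hmem y hy
      simp only [dif_pos hx', dif_pos hy'] at hxy
      have := congrArg Subtype.val hxy
      simp only at this
      exact Subtype.ext (mul_left_cancel this)
  · rw [Finset.not_nonempty_iff_eq_empty] at hne
    rw [hne]; simp


/-- a 2-group with a normal `Q₈`-subgroup containing its centralizer has order at most 16. -/
theorem card_le_sixteen_of_q8 [Finite G] {X T : Subgroup G} {z : G} (h2 : IsPGroup 2 ↥X) (hTX : T ≤ X)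
    (hQ : Q8Type T z) (hXN : X ≤ Subgroup.normalizer (T : Set G))
    (hC : X ⊓ Subgroup.centralizer (T : Set G) ≤ T) : Nat.card ↥X ≤ 16 := by
  classical
  haveI : Fact (Nat.Prime 2) := ⟨Nat.prime_two⟩
  by_cases hcomm : ∀ w ∈ (⁅T, X⁆ : Subgroup G), w = 1 ∨ w = z
  · have h := q8_factor_of_commutator_le hTX hQ hcomm
    have hXT : X = T := by
      apply le_antisymm _ hTX
      rw [← h]
      exact sup_le le_rfl hC
    rw [hXT, hQ.1]; norm_num
  · rw [not_forall] at hcomm
    obtain ⟨i, hi⟩ := hcomm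
    rw [Classical.not_imp, not_or] at hi
    obtain ⟨hiC, hi1, hiz⟩ := hi
    have hzT : z ∈ T := hQ.2.1
    have hz1 : z ≠ 1 := hQ.2.2.1
    have hTbot : T ≠ ⊥ := by
      intro h
      rw [h, Subgroup.mem_bot] at hzT
      exact hz1 hzT
    have hlt : ⁅T, X⁆ < T := commutator_lt_of_pgroup h2 hTX hXN hTbot
    have hiT : i ∈ T := hlt.le hiC
    have hU4 := q8_card_zpowers hQ hiT hi1 hiz
    have hUle : Subgroup.zpowers i ≤ ⁅T, X⁆ := by rw [Subgroup.zpowers_le]; exact hiC
    have hcard1 : Nat.card ↥(⁅T, X⁆ : Subgroup G) < 8 := by rw [← hQ.1]; exact card_lt_of_lt' hlt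
    have hd1 : Nat.card ↥(⁅T, X⁆ : Subgroup G) ∣ 8 := by rw [← hQ.1]; exact Subgroup.card_dvd_of_le hlt.le
    have hd2 : 4 ∣ Nat.card ↥(⁅T, X⁆ : Subgroup G) := by rw [← hU4]; exact Subgroup.card_dvd_of_le hUle
    have hcard : Nat.card ↥(⁅T, X⁆ : Subgroup G) = 4 := by
      obtain ⟨m, hm⟩ := hd2
      have : m ∣ 2 := by
        have : 4 * m ∣ 4 * 2 := by rw [← hm]; exact hd1
        exact Nat.dvd_of_mul_dvd_mul_left (by norm_num) this
      have hm2 : m ≤ 2 := Nat.le_of_dvd (by norm_num) this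
      interval_cases m <;> omega
    have hUeq : Subgroup.zpowers i = ⁅T, X⁆ :=
      Subgroup.eq_of_le_of_card_ge hUle (by rw [hcard, hU4])
    have hXU : ∀ x ∈ X, x ∈ Subgroup.normalizer ((Subgroup.zpowers i : Subgroup G) : Set G) := by
      intro x hx
      rw [hUeq]
      exact mem_normalizer_commutator (hXN hx) (Subgroup.le_normalizer hx)
    have hIlt : Subgroup.zpowers i < T := by rw [hUeq]; exact hlt
    obtain ⟨j, hjT, hjI⟩ := SetLike.exists_of_lt hIlt
    -- H
    have hH : Nat.card ↥(X ⊓ Subgroup.centralizer (T : Set G) : Subgroup G) ≤ 2 := by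
      rw [← q8_card_zpowers_z hQ]
      apply Subgroup.card_le_of_le
      intro h hh
      rcases q8_center hQ (hC hh) hh.2 with h' | h'
      · rw [h']; exact Subgroup.one_mem _
      · rw [h']; exact Subgroup.mem_zpowers z
    set S : Finset (G × G) := ({i, i * z} : Finset G) ×ˢ ({j, j * z, i * j, i * j * z} : Finset G) with hSdef
    have hScard : S.card ≤ 8 := by
      rw [hSdef, Finset.card_product]
      have h1 : ({i, i * z} : Finset G).card ≤ 2 := Finset.card_le_two
      have h2 : ({j, j * z, i * j, i * j * z} : Finset G).card ≤ 4 := Finset.card_le_four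
      calc _ ≤ 2 * 4 := Nat.mul_le_mul h1 h2
        _ = 8 := by norm_num
    have hmain := card_le_of_fibers X (X ⊓ Subgroup.centralizer (T : Set G))
      (fun x => (x * i * x⁻¹, x * j * x⁻¹)) S ?_ ?_
    · calc Nat.card ↥X ≤ _ := hmain
        _ ≤ 2 * 8 := Nat.mul_le_mul hH hScard
        _ = 16 := by norm_num
    · intro x hx
      have hxz : x * z * x⁻¹ = z := q8_conj_z hQ (hXN hx)
      have h1 : x * i * x⁻¹ ∈ Subgroup.zpowers i :=
        (Subgroup.mem_normalizer_iff.mp (hXU x hx) i).mp (Subgroup.mem_zpowers i)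
      have h2 : x * j * x⁻¹ ∈ T := (Subgroup.mem_normalizer_iff.mp (hXN hx) j).mp hjT
      have h3 : x * j * x⁻¹ ∉ Subgroup.zpowers i := by
        intro h
        exact hjI ((Subgroup.mem_normalizer_iff.mp (hXU x hx) j).mpr h)
      rw [hSdef, Finset.mem_product]
      constructor
      · rcases q8_mem_zpowers hQ hiT hi1 hiz h1 with h | h | h | h
        · exfalso
          apply hi1
          have : i = x⁻¹ * (x * i * x⁻¹) * x := by group
          rw [this, h]; group
        · simp [h]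
        · exfalso
          apply hiz
          have e : x * i * x⁻¹ = x * z * x⁻¹ := by rw [h, hxz]
          exact mul_left_cancel (mul_right_cancel e)
        · simp [h]
      · rcases q8_not_mem_zpowers hQ hiT hi1 hiz hjT hjI h2 h3 with h | h | h | h <;> simp [h]
    · intro x hx x' hx' hxx'
      simp only [Prod.mk.injEq] at hxx'
      obtain ⟨e1, e2⟩ := hxx'
      refine ⟨X.mul_mem (X.inv_mem hx) hx', ?_⟩
      apply q8_centralizes_of_two hQ hiT hi1 hiz hjT hjI
      · have : (x⁻¹ * x') * i * (x⁻¹ * x')⁻¹ = i := by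
          have : (x⁻¹ * x') * i * (x⁻¹ * x')⁻¹ = x⁻¹ * (x' * i * x'⁻¹) * x := by group
          rw [this, ← e1]; group
        calc i * (x⁻¹ * x') = ((x⁻¹ * x') * i * (x⁻¹ * x')⁻¹) * (x⁻¹ * x') := by rw [this]
          _ = (x⁻¹ * x') * i := by group
      · have : (x⁻¹ * x') * j * (x⁻¹ * x')⁻¹ = j := by
          have : (x⁻¹ * x') * j * (x⁻¹ * x')⁻¹ = x⁻¹ * (x' * j * x'⁻¹) * x := by group
          rw [this, ← e2]; group
        calc j * (x⁻¹ * x') = ((x⁻¹ * x') * j * (x⁻¹ * x')⁻¹) * (x⁻¹ * x') := by rw [this]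
          _ = (x⁻¹ * x') * j := by group


/-- **T8**. -/
theorem q8_core_false [Finite G] {X T A : Subgroup G} {z : G} (h2 : IsPGroup 2 ↥X) (hTX : T ≤ X) (hQ : Q8Type T z)
    (hXN : X ≤ Subgroup.normalizer (T : Set G)) (hC : X ⊓ Subgroup.centralizer (T : Set G) ≤ T)
    (hAX : A ≤ X) (hAc : ∀ a ∈ A, ∀ b ∈ A, a * b = b * a) (hAn : ¬ IsCyclic ↥A) (hA8 : Nat.card ↥A = 8) : False := by
  have hX16 := card_le_sixteen_of_q8 h2 hTX hQ hXN hC
  have hzinv := q8_z_inv hQ
  have hzc := q8_z_comm hQ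
  have hz2 : z ^ 2 = 1 := hQ.2.2.2.1
  have hz1 : z ≠ 1 := hQ.2.2.1
  -- D = A ⊓ T has order 4
  have hprod := Cfsg.Agent.Lib.H3.card_mul_card_le A T
  have hsup : Nat.card ↥(A ⊔ T : Subgroup G) ≤ 16 :=
    (Subgroup.card_le_of_le (sup_le hAX hTX)).trans hX16
  have hDpos : 0 < Nat.card ↥(A ⊓ T : Subgroup G) := Nat.card_pos
  have hD4 : 4 ≤ Nat.card ↥(A ⊓ T : Subgroup G) := by
    rw [hA8, hQ.1] at hprod
    by_contra hlt
    rw [not_le] at hlt
    have : Nat.card ↥(A ⊔ T : Subgroup G) * Nat.card ↥(A ⊓ T : Subgroup G) ≤ 16 * 3 :=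
      Nat.mul_le_mul hsup (by omega)
    omega
  have hDdvd : Nat.card ↥(A ⊓ T : Subgroup G) ∣ 8 := by
    rw [← hQ.1]; exact Subgroup.card_dvd_of_le inf_le_right
  have hDcard : Nat.card ↥(A ⊓ T : Subgroup G) = 4 := by
    have hle : Nat.card ↥(A ⊓ T : Subgroup G) ≤ 8 := Nat.le_of_dvd (by norm_num) hDdvd
    have h8 : Nat.card ↥(A ⊓ T : Subgroup G) ≠ 8 := by
      intro h8
      have hDT : A ⊓ T = T := Subgroup.eq_of_le_of_card_ge inf_le_right (by rw [h8, hQ.1])
      have hTA : T ≤ A := by rw [← hDT]; exact inf_le_left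
      exact q8_not_comm hQ (fun a ha b hb => hAc a (hTA ha) b (hTA hb))
    interval_cases (Nat.card ↥(A ⊓ T : Subgroup G)) <;> omega
  -- i ∈ D of order 4
  have hex : ∃ i ∈ (A ⊓ T : Subgroup G), i ∉ Subgroup.zpowers z := by
    by_contra hcon
    have hle : (A ⊓ T : Subgroup G) ≤ Subgroup.zpowers z := by
      intro v hv
      by_contra hv'
      exact hcon ⟨v, hv, hv'⟩
    have := Subgroup.card_le_of_le hle
    rw [hDcard, q8_card_zpowers_z hQ] at this
    omega
  obtain ⟨i, hiD, hiZ⟩ := hex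
  have hiA : i ∈ A := hiD.1
  have hiT : i ∈ T := hiD.2
  have hi1 : i ≠ 1 := fun h => hiZ (h ▸ Subgroup.one_mem _)
  have hiz : i ≠ z := fun h => hiZ (h ▸ Subgroup.mem_zpowers z)
  have hi2 : i ^ 2 = z := hQ.2.2.2.2 i hiT hi1 hiz
  have hUD : Subgroup.zpowers i = A ⊓ T :=
    Subgroup.eq_of_le_of_card_ge (by rw [Subgroup.zpowers_le]; exact hiD)
      (by rw [hDcard, q8_card_zpowers hQ hiT hi1 hiz])
  -- a₀ ∈ A ∖ T
  have hex2 : ∃ a ∈ A, a ∉ T := by
    by_contra hcon
    have hle : A ≤ T := by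
      intro v hv
      by_contra hv'
      exact hcon ⟨v, hv, hv'⟩
    have hAT : A ⊓ T = A := inf_of_le_left hle
    rw [hAT, hA8] at hDcard
    omega
  obtain ⟨a, haA, haT⟩ := hex2
  have haX : a ∈ X := hAX haA
  have hai : i * a = a * i := hAc i hiA a haA
  have haz : a * z * a⁻¹ = z := q8_conj_z hQ (hXN haX)
  have haic : a * i * a⁻¹ = i := by rw [← hai]; group
  -- j
  have hIlt : Subgroup.zpowers i < T := by
    refine lt_of_le_of_ne (by rw [Subgroup.zpowers_le]; exact hiT) ?_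
    intro h
    have := q8_card_zpowers hQ hiT hi1 hiz
    rw [h, hQ.1] at this
    omega
  obtain ⟨j, hjT, hjI⟩ := SetLike.exists_of_lt hIlt
  obtain ⟨hjij, hiji⟩ := q8_rel hQ hiT hi1 hiz hjT hjI
  have hajT : a * j * a⁻¹ ∈ T := (Subgroup.mem_normalizer_iff.mp (hXN haX) j).mp hjT
  have hajI : a * j * a⁻¹ ∉ Subgroup.zpowers i := by
    intro h
    apply hjI
    -- a centralizes zpowers i
    obtain ⟨k, hk⟩ := Subgroup.mem_zpowers_iff.mp h
    have hcomm : Commute a (i ^ k) := (Commute.zpow_right (show Commute a i from hai.symm) k)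
    have : j = a⁻¹ * (a * j * a⁻¹) * a := by group
    rw [this, ← hk]
    have : a⁻¹ * i ^ k * a = i ^ k := by
      have := hcomm.eq
      calc a⁻¹ * i ^ k * a = a⁻¹ * (i ^ k * a) := by group
        _ = a⁻¹ * (a * i ^ k) := by rw [this]
        _ = i ^ k := by group
    rw [this]
    exact Subgroup.zpow_mem _ (Subgroup.mem_zpowers i) k
  -- helper: an element of X commuting with i and j lies in T, and is 1 or z
  have hcent : ∀ c ∈ X, i * c = c * i → j * c = c * j → c = 1 ∨ c = z := by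
    intro c hcX hci hcj
    have hcC := q8_centralizes_of_two hQ hiT hi1 hiz hjT hjI hci hcj
    exact q8_center hQ (hC ⟨hcX, hcC⟩) hcC
  have hcentT : ∀ c ∈ X, i * c = c * i → j * c = c * j → c ∈ T := by
    intro c hcX hci hcj
    rcases hcent c hcX hci hcj with h | h
    · rw [h]; exact T.one_mem
    · rw [h]; exact hQ.2.1
  have hiX : i ∈ X := hTX hiT
  -- the square of a
  have hsq_case : a ^ 2 * j * (a ^ 2)⁻¹ = z * j → False := by
    intro hb
    set b := a ^ 2 with hbdef
    have hbX : b ∈ X := X.pow_mem haX 2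
    have hbi : i * b = b * i := by
      rw [hbdef]
      exact ((Commute.pow_right (show Commute i a from hai) 2)).eq
    -- c = i * b centralizes i, j
    have hci : i * (i * b) = (i * b) * i := by rw [mul_assoc, hbi]
    have hcj : j * (i * b) = (i * b) * j := by
      have h1 : (i * b) * j * (i * b)⁻¹ = j := by
        calc (i * b) * j * (i * b)⁻¹ = i * (b * j * b⁻¹) * i⁻¹ := by group
          _ = i * (z * j) * i⁻¹ := by rw [hb]
          _ = (i * z * i⁻¹) * (i * j * i⁻¹) := by group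
          _ = z * (j * z) := by rw [hiji, q8_conj_z hQ (Subgroup.le_normalizer hiT)]
          _ = z * (z * j) := by rw [hzc j hjT]
          _ = j := by rw [← mul_assoc, ← pow_two, hz2, one_mul]
      calc j * (i * b) = ((i * b) * j * (i * b)⁻¹) * (i * b) := by rw [h1]
        _ = (i * b) * j := by group
    have hc := hcent (i * b) (X.mul_mem hiX hbX) hci hcj
    -- b ^ 2 = z
    have hb2 : b ^ 2 = z := by
      have hiinv2 : i⁻¹ * i⁻¹ = z := by
        have : i⁻¹ * i⁻¹ = (i ^ 2)⁻¹ := by rw [pow_two]; group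
        rw [this, hi2, hzinv]
      rcases hc with h | h
      · have hbe : b = i⁻¹ := by
          have : b = i⁻¹ * (i * b) := by group
          rw [this, h, mul_one]
        rw [hbe, pow_two, hiinv2]
      · have hbe : b = i⁻¹ * z := by
          have : b = i⁻¹ * (i * b) := by group
          rw [this, h]
        have hzi : z * i⁻¹ = i⁻¹ * z := by
          have := hzc i⁻¹ (T.inv_mem hiT)
          exact this.symm
        rw [hbe, pow_two]
        calc i⁻¹ * z * (i⁻¹ * z) = i⁻¹ * (z * i⁻¹) * z := by group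
          _ = i⁻¹ * (i⁻¹ * z) * z := by rw [hzi]
          _ = (i⁻¹ * i⁻¹) * (z * z) := by group
          _ = z := by rw [hiinv2, ← pow_two z, hz2, mul_one]
    -- orderOf a = 8
    have ho : orderOf a = 2 ^ (2 + 1) := by
      apply orderOf_eq_prime_pow
      · have : a ^ 2 ^ 2 = b ^ 2 := by rw [hbdef, ← pow_mul]; norm_num
        rw [this, hb2]; exact hz1
      · have : a ^ 2 ^ (2 + 1) = (b ^ 2) ^ 2 := by rw [hbdef, ← pow_mul, ← pow_mul]; norm_num
        rw [this, hb2, hz2]
    apply hAn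
    apply isCyclic_of_orderOf_eq_card (⟨a, haA⟩ : ↥A)
    rw [Subgroup.orderOf_mk, ho, hA8]; norm_num
  rcases q8_not_mem_zpowers hQ hiT hi1 hiz hjT hjI hajT hajI with h | h | h | h
  · -- a centralizes T
    apply haT
    apply hcentT a haX hai
    calc j * a = (a * j * a⁻¹) * a := by rw [h]
      _ = a * j := by group
  · -- i * a centralizes T
    have hci : i * (i * a) = (i * a) * i := by rw [mul_assoc, hai]
    have hcj : j * (i * a) = (i * a) * j := by
      have h1 : (i * a) * j * (i * a)⁻¹ = j := by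
        calc (i * a) * j * (i * a)⁻¹ = i * (a * j * a⁻¹) * i⁻¹ := by group
          _ = i * (j * z) * i⁻¹ := by rw [h]
          _ = (i * j * i⁻¹) * (i * z * i⁻¹) := by group
          _ = (j * z) * z := by rw [hiji, q8_conj_z hQ (Subgroup.le_normalizer hiT)]
          _ = j := by rw [mul_assoc, ← pow_two, hz2, mul_one]
      calc j * (i * a) = ((i * a) * j * (i * a)⁻¹) * (i * a) := by rw [h1]
        _ = (i * a) * j := by group
    have := hcentT (i * a) (X.mul_mem hiX haX) hci hcj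
    apply haT
    have h' : a = i⁻¹ * (i * a) := by group
    rw [h']
    exact T.mul_mem (T.inv_mem hiT) this
  · apply hsq_case
    calc a ^ 2 * j * (a ^ 2)⁻¹ = a * (a * j * a⁻¹) * a⁻¹ := by rw [pow_two]; group
      _ = a * (i * j) * a⁻¹ := by rw [h]
      _ = (a * i * a⁻¹) * (a * j * a⁻¹) := by group
      _ = i * (i * j) := by rw [haic, h]
      _ = z * j := by rw [← mul_assoc, ← pow_two, hi2]
  · apply hsq_case
    calc a ^ 2 * j * (a ^ 2)⁻¹ = a * (a * j * a⁻¹) * a⁻¹ := by rw [pow_two]; group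
      _ = a * (i * j * z) * a⁻¹ := by rw [h]
      _ = (a * i * a⁻¹) * (a * j * a⁻¹) * (a * z * a⁻¹) := by group
      _ = i * (i * j * z) * z := by rw [haic, h, haz]
      _ = (i * i) * j * (z * z) := by group
      _ = z * j := by rw [← pow_two, hi2, ← pow_two, hz2, mul_one]

end Cfsg.Agent.Lib.H11.TwoMin
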