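import Cfsg.Agent.Lib.H17.M22M.MonoModel
import Cfsg.Agent.Lib.H16.U62M.Sigs

set_option autoImplicit false
set_option maxRecDepth 100000

/-!
# S2091 pieces M1, M2 (helper11): generic glue for a monomial model of the cover of `U6(2)` on `Fin 672 × ZMod 12`

Two alphabets over the same permutations: `tabs` for `a a⁻¹ b b⁻¹ c c⁻¹` and `tabs2` for `a a⁻¹ t t⁻¹ b b⁻¹`
(`t = tW(a, b)`), so that the substituted stage 1 words `s1L.map subW` (up to 132 letters) are checked as the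
stage 1 words `s1L` (at most 16 letters); the sixth powers `p6L` follow from the central values (all even).
-/

namespace Cfsg.Agent.Lib.H11.U62M

open Cfsg.Agent.Lib.H17.MonoModel Cfsg.Agent.Lib.H16.U62M
open Cfsg.Agent.Lib.H12.J3M (gl3 wv3)

/-- `tW` written in the alphabet `a a⁻¹ t t⁻¹ b b⁻¹`, followed by `t⁻¹` -/
def tLinkW : List ℕ := [4, 0, 0, 5, 1, 1, 1, 4, 0, 5, 0, 5, 5, 5, 3]

theorem wv3_tLinkW {Γ : Type*} [Group Γ] (x t y z : Γ) :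
    wv3 x t y tLinkW = wv3 x y z tW * t⁻¹ := by
  simp [wv3, gl3, tLinkW, tW, mul_assoc]

theorem letters_lt : ∀ w ∈ C2.exactL ++ (s1L ++ (xL ++ (ZL ++ [tLinkW]))), ∀ x ∈ w, x < 6 := by
  decide +kernel

theorem zl_length : ZL.length = 11 := by
  decide +kernel

/-- the kernel checks of a model -/
structure Chk (tabs tabs2 : ℕ → ℕ) (zvals : List ℕ) : Prop where
  hr : Range tabs 672
  hp : PairsOK tabs 672
  hr2 : Range tabs2 672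
  hp2 : PairsOK tabs2 672
  e0 : tabs2 0 = tabs 0
  e4 : tabs2 4 = tabs 2
  exact2 : ∀ w ∈ C2.exactL, checkWordM (w.map tabs) 0 672 = true
  s1 : ∀ w ∈ s1L, checkWordM (w.map tabs2) 0 672 = true
  xl : ∀ w ∈ xL, checkWordM (w.map tabs) 0 672 = true
  tlink : checkWordM (tLinkW.map tabs2) 0 672 = true
  zl : ∀ i < 11, checkWordM ((ZL.getD i []).map tabs) (zvals.getD i 0) 672 = true
  zeven : ∀ i < 11, 2 ∣ zvals.getD i 0

section

variable {tabs tabs2 : ℕ → ℕ} {zvals : List ℕ} (C : Chk tabs tabs2 zvals)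

/-- the permutations of the letters `a a⁻¹ b b⁻¹ c c⁻¹` -/
noncomputable def sg (x : ℕ) : Equiv.Perm (Fin 672 × ZMod 12) := σM C.hr C.hp x

/-- the permutations of the letters `a a⁻¹ t t⁻¹ b b⁻¹` -/
noncomputable def sg2 (x : ℕ) : Equiv.Perm (Fin 672 × ZMod 12) := σM C.hr2 C.hp2 x

theorem gl3_sigma {tb : ℕ → ℕ} (hr : Range tb 672) (hp : PairsOK tb 672) (x : ℕ) (hx : x < 6) :
    gl3 (σM hr hp 0)⁻¹ (σM hr hp 2)⁻¹ (σM hr hp 4)⁻¹ x = (σM hr hp x)⁻¹ := by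
  have h0 : σM hr hp 1 = (σM hr hp 0)⁻¹ := σM_inv hr hp 0 (by norm_num)
  have h2 : σM hr hp 3 = (σM hr hp 2)⁻¹ := σM_inv hr hp 2 (by norm_num)
  have h4 : σM hr hp 5 = (σM hr hp 4)⁻¹ := σM_inv hr hp 4 (by norm_num)
  interval_cases x
  · rfl
  · change (σM hr hp 0)⁻¹⁻¹ = (σM hr hp 1)⁻¹
    rw [h0]
  · rfl
  · change (σM hr hp 2)⁻¹⁻¹ = (σM hr hp 3)⁻¹
    rw [h2]
  · rfl
  · change (σM hr hp 4)⁻¹⁻¹ = (σM hr hp 5)⁻¹
    rw [h4]

theorem wv3_sigma {tb : ℕ → ℕ} (hr : Range tb 672) (hp : PairsOK tb 672) (w : List ℕ)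
    (hw : ∀ x ∈ w, x < 6) (e : ℕ) (h : checkWordM (w.map tb) e 672 = true) :
    wv3 (σM hr hp 0)⁻¹ (σM hr hp 2)⁻¹ (σM hr hp 4)⁻¹ w = (shiftP 672 (e : ZMod 12))⁻¹ := by
  rw [← word_perm_eq hr hp w hw e h]
  unfold wv3
  congr 1
  apply List.map_congr_left
  intro x hx
  exact gl3_sigma hr hp x (hw x hx)

theorem wv3_sg (w : List ℕ) (hw : ∀ x ∈ w, x < 6) (e : ℕ)
    (h : checkWordM (w.map tabs) e 672 = true) :
    wv3 (sg C 0)⁻¹ (sg C 2)⁻¹ (sg C 4)⁻¹ w = (shiftP 672 (e : ZMod 12))⁻¹ :=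
  wv3_sigma C.hr C.hp w hw e h

theorem wv3_sg2 (w : List ℕ) (hw : ∀ x ∈ w, x < 6) (e : ℕ)
    (h : checkWordM (w.map tabs2) e 672 = true) :
    wv3 (sg2 C 0)⁻¹ (sg2 C 2)⁻¹ (sg2 C 4)⁻¹ w = (shiftP 672 (e : ZMod 12))⁻¹ :=
  wv3_sigma C.hr2 C.hp2 w hw e h

theorem sigma_congr {tb tb' : ℕ → ℕ} (hr : Range tb 672) (hp : PairsOK tb 672) (hr' : Range tb' 672)
    (hp' : PairsOK tb' 672) (i j : ℕ) (hi : i < 6) (hj : j < 6) (h : tb' j = tb i) :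
    σM hr' hp' j = σM hr hp i := by
  apply Equiv.ext
  intro q
  rw [σM_apply hr' hp' j hj, σM_apply hr hp i hi]
  apply Prod.ext
  · apply Fin.ext
    change lkM (tb' j) q.1 / 16 = lkM (tb i) q.1 / 16
    rw [h]
  · change q.2 + ((lkM (tb' j) q.1 % 16 : ℕ) : ZMod 12) = q.2 + ((lkM (tb i) q.1 % 16 : ℕ) : ZMod 12)
    rw [h]

theorem sg2_0 : sg2 C 0 = sg C 0 :=
  sigma_congr C.hr C.hp C.hr2 C.hp2 0 0 (by norm_num) (by norm_num) C.e0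

theorem sg2_4 : sg2 C 4 = sg C 2 :=
  sigma_congr C.hr C.hp C.hr2 C.hp2 2 4 (by norm_num) (by norm_num) C.e4

theorem mem_all {w : List ℕ} (h : w ∈ C2.exactL ∨ w ∈ s1L ∨ w ∈ xL ∨ w ∈ ZL ∨ w = tLinkW) :
    ∀ x ∈ w, x < 6 := by
  apply letters_lt w
  simp only [List.mem_append, List.mem_singleton]
  tauto

/-- the value of `t` -/
theorem sg2_2 : (sg2 C 2)⁻¹ = wv3 (sg C 0)⁻¹ (sg C 2)⁻¹ (sg C 4)⁻¹ tW := by
  have h := wv3_sg2 C tLinkW (mem_all (Or.inr (Or.inr (Or.inr (Or.inr rfl))))) 0 C.tlink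
  rw [wv3_tLinkW _ _ _ (sg C 4)⁻¹, sg2_0 C, sg2_4 C] at h
  have hs : (shiftP 672 ((0 : ℕ) : ZMod 12))⁻¹ = 1 := by
    rw [Nat.cast_zero, shiftP_zero, inv_one]
  rw [hs] at h
  have := mul_inv_eq_one.mp h
  exact this.symm

theorem zl_get {w : List ℕ} (hw : w ∈ ZL) : ∃ i < 11, w = ZL.getD i [] := by
  obtain ⟨i, hi, rfl⟩ := List.getElem_of_mem hw
  refine ⟨i, by rw [← zl_length]; exact hi, ?_⟩
  rw [List.getD_eq_getElem _ _ hi]

theorem zl_val (i : ℕ) (hi : i < 11) :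
    wv3 (sg C 0)⁻¹ (sg C 2)⁻¹ (sg C 4)⁻¹ (ZL.getD i []) =
      (shiftP 672 ((zvals.getD i 0 : ℕ) : ZMod 12))⁻¹ := by
  have hmem : ZL.getD i [] ∈ ZL := by
    rw [List.getD_eq_getElem _ _ (by rw [zl_length]; exact hi)]
    exact List.getElem_mem _
  exact wv3_sg C _ (mem_all (Or.inr (Or.inr (Or.inr (Or.inl hmem))))) _ (C.zl i hi)

theorem shiftP_six (e : ℕ) (he : 2 ∣ e) : (shiftP 672 ((e : ℕ) : ZMod 12)) ^ 6 = 1 := by
  obtain ⟨k, rfl⟩ := he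
  rw [shiftP_pow]
  have : ((6 : ℕ) : ZMod 12) * ((2 * k : ℕ) : ZMod 12) = 0 := by
    push_cast
    have h12 : ((12 : ℕ) : ZMod 12) = 0 := ZMod.natCast_self 12
    have : (6 : ZMod 12) * (2 * (k : ZMod 12)) = ((12 : ℕ) : ZMod 12) * (k : ZMod 12) := by
      push_cast; ring
    rw [this, h12, zero_mul]
  rw [this, shiftP_zero]

/-- the exact relators hold in the model -/
theorem pe_ok : ∀ w ∈ PE, wv3 (sg C 0)⁻¹ (sg C 2)⁻¹ (sg C 4)⁻¹ w = 1 := by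
  intro w hw
  have hs : (shiftP 672 ((0 : ℕ) : ZMod 12))⁻¹ = 1 := by
    rw [Nat.cast_zero, shiftP_zero, inv_one]
  unfold PE at hw
  rcases List.mem_append.mp hw with h | h
  · rw [wv3_sg C w (mem_all (Or.inl h)) 0 (C.exact2 w h), hs]
  rcases List.mem_append.mp h with h | h
  · obtain ⟨u, hu, rfl⟩ := List.mem_map.mp h
    rw [wv3_subW, ← sg2_2 C, ← sg2_0 C, ← sg2_4 C]
    rw [wv3_sg2 C u (mem_all (Or.inr (Or.inl hu))) 0 (C.s1 u hu), hs]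
  rcases List.mem_append.mp h with h | h
  · rw [wv3_sg C w (mem_all (Or.inr (Or.inr (Or.inl h)))) 0 (C.xl w h), hs]
  · unfold p6L at h
    obtain ⟨u, hu, rfl⟩ := List.mem_map.mp h
    have hu' : u ∈ ZL := List.mem_append_left _ hu
    obtain ⟨i, hi, rfl⟩ := zl_get hu'
    simp only [wv3_append]
    rw [zl_val C i hi]
    have h6 := shiftP_six (zvals.getD i 0) (C.zeven i hi)
    set s := shiftP 672 ((zvals.getD i 0 : ℕ) : ZMod 12) with hsdef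
    have : s⁻¹ * (s⁻¹ * (s⁻¹ * (s⁻¹ * (s⁻¹ * s⁻¹)))) = (s ^ 6)⁻¹ := by
      rw [← inv_pow]; group
    rw [this, h6, inv_one]

/-- the central relators are central in the model -/
theorem zl_comm : ∀ w ∈ ZL, Commute (wv3 (sg C 0)⁻¹ (sg C 2)⁻¹ (sg C 4)⁻¹ w) (sg C 0)⁻¹ ∧
    Commute (wv3 (sg C 0)⁻¹ (sg C 2)⁻¹ (sg C 4)⁻¹ w) (sg C 2)⁻¹ ∧
    Commute (wv3 (sg C 0)⁻¹ (sg C 2)⁻¹ (sg C 4)⁻¹ w) (sg C 4)⁻¹ := by
  intro w hw
  obtain ⟨i, hi, rfl⟩ := zl_get hw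
  rw [zl_val C i hi]
  have key : ∀ x, x < 6 → Commute (shiftP 672 ((zvals.getD i 0 : ℕ) : ZMod 12))⁻¹ (sg C x)⁻¹ :=
    fun x hx => (shiftP_comm C.hr C.hp x hx _).inv_inv
  exact ⟨key 0 (by norm_num), key 2 (by norm_num), key 4 (by norm_num)⟩

theorem x0_val : wv3 (sg C 0)⁻¹ (sg C 2)⁻¹ (sg C 4)⁻¹ x0W =
    (shiftP 672 ((zvals.getD 0 0 : ℕ) : ZMod 12))⁻¹ := zl_val C 0 (by norm_num)

theorem x8_val : wv3 (sg C 0)⁻¹ (sg C 2)⁻¹ (sg C 4)⁻¹ x8W =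
    (shiftP 672 ((zvals.getD 8 0 : ℕ) : ZMod 12))⁻¹ := zl_val C 8 (by norm_num)

theorem w10_val : wv3 (sg C 0)⁻¹ (sg C 2)⁻¹ (sg C 4)⁻¹ w10W =
    (shiftP 672 ((zvals.getD 10 0 : ℕ) : ZMod 12))⁻¹ := zl_val C 10 (by norm_num)

end

theorem shiftP_mul (a b : ZMod 12) : shiftP 672 a * shiftP 672 b = shiftP 672 (a + b) := by
  apply Equiv.ext
  intro q
  apply Prod.ext
  · rfl
  · change q.2 + b + a = q.2 + (a + b)
    abel

theorem shiftP_eq_one (a : ZMod 12) (h : shiftP 672 a = 1) : a = 0 := by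
  have := congrArg (fun f : Equiv.Perm (Fin 672 × ZMod 12) => (f (⟨0, by norm_num⟩, 0)).2) h
  simp only [shiftP_apply, Equiv.Perm.coe_one, id_eq] at this
  change (0 : ZMod 12) + a = 0 at this
  rwa [zero_add] at this

end Cfsg.Agent.Lib.H11.U62M
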