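import Cfsg.Agent.Lib.H11.U62M1Tabs
import Cfsg.Agent.Lib.H11.U62MGlue

set_option autoImplicit false
set_option maxRecDepth 100000
set_option Elab.async false

/-! # S2091 piece M1 (helper11): word checks, part B (generated) -/

namespace Cfsg.Agent.Lib.H11.U62M.M1

open Cfsg.Agent.Lib.H17.MonoModel Cfsg.Agent.Lib.H16.U62M Cfsg.Agent.Lib.H11.U62M

theorem es0 : ∀ w ∈ (s1L.drop 0).take 16, checkWordM (w.map tabs2) 0 672 = true := by
  decide +kernel

theorem es1 : ∀ w ∈ (s1L.drop 16).take 16, checkWordM (w.map tabs2) 0 672 = true := by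
  decide +kernel

theorem es2 : ∀ w ∈ (s1L.drop 32).take 16, checkWordM (w.map tabs2) 0 672 = true := by
  decide +kernel

theorem es3 : ∀ w ∈ (s1L.drop 48).take 16, checkWordM (w.map tabs2) 0 672 = true := by
  decide +kernel

theorem es4 : ∀ w ∈ (s1L.drop 64).take 16, checkWordM (w.map tabs2) 0 672 = true := by
  decide +kernel

theorem es5 : ∀ w ∈ (s1L.drop 80).take 16, checkWordM (w.map tabs2) 0 672 = true := by
  decide +kernel

theorem es6 : ∀ w ∈ (s1L.drop 96).take 16, checkWordM (w.map tabs2) 0 672 = true := by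
  decide +kernel

end Cfsg.Agent.Lib.H11.U62M.M1
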