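import Cfsg.Agent.Lib.H11.U62M1Tabs
import Cfsg.Agent.Lib.H11.U62MGlue

set_option autoImplicit false
set_option maxRecDepth 100000
set_option Elab.async false

/-! # S2091 piece M1 (helper11): word checks, part C (generated) -/

namespace Cfsg.Agent.Lib.H11.U62M.M1

open Cfsg.Agent.Lib.H17.MonoModel Cfsg.Agent.Lib.H16.U62M Cfsg.Agent.Lib.H11.U62M

theorem es7 : ∀ w ∈ (s1L.drop 112).take 16, checkWordM (w.map tabs2) 0 672 = true := by
  decide +kernel

theorem es8 : ∀ w ∈ (s1L.drop 128).take 16, checkWordM (w.map tabs2) 0 672 = true := by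
  decide +kernel

theorem es9 : ∀ w ∈ (s1L.drop 144).take 16, checkWordM (w.map tabs2) 0 672 = true := by
  decide +kernel

theorem es10 : ∀ w ∈ (s1L.drop 160).take 16, checkWordM (w.map tabs2) 0 672 = true := by
  decide +kernel

theorem es11 : ∀ w ∈ (s1L.drop 176).take 16, checkWordM (w.map tabs2) 0 672 = true := by
  decide +kernel

theorem es12 : ∀ w ∈ (s1L.drop 192).take 16, checkWordM (w.map tabs2) 0 672 = true := by
  decide +kernel

theorem es13 : ∀ w ∈ (s1L.drop 208).take 16, checkWordM (w.map tabs2) 0 672 = true := by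
  decide +kernel

end Cfsg.Agent.Lib.H11.U62M.M1
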