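import Cfsg.Agent.Lib.H11.U62M1ChkA
import Cfsg.Agent.Lib.H11.U62M1ChkB
import Cfsg.Agent.Lib.H11.U62M1ChkC

set_option autoImplicit false
set_option maxRecDepth 100000
set_option Elab.async false

/-! # S2091 piece M1 (helper11): the monomial model 1 (generated assembly) -/

namespace Cfsg.Agent.Lib.H11.U62M.M1

open Cfsg.Agent.Lib.H17.MonoModel Cfsg.Agent.Lib.H16.U62M Cfsg.Agent.Lib.H11.U62M

theorem es_length : s1L.length = 224 := by
  decide +kernel

theorem s1_chk : ∀ w ∈ s1L, checkWordM (w.map tabs2) 0 672 = true := by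
  intro w hw
  have split : ∀ (l : List (List ℕ)) (k : ℕ), w ∈ l → w ∈ l.take k ∨ w ∈ l.drop k := by
    intro l k h
    rw [← List.take_append_drop k l] at h
    exact List.mem_append.mp h
  have h0 : w ∈ (s1L).drop 0 := by simpa using hw
  rcases split _ 16 h0 with h | h1
  · exact es0 w h
  rw [List.drop_drop] at h1
  rcases split _ 16 h1 with h | h2
  · exact es1 w h
  rw [List.drop_drop] at h2
  rcases split _ 16 h2 with h | h3
  · exact es2 w h
  rw [List.drop_drop] at h3
  rcases split _ 16 h3 with h | h4
  · exact es3 w h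
  rw [List.drop_drop] at h4
  rcases split _ 16 h4 with h | h5
  · exact es4 w h
  rw [List.drop_drop] at h5
  rcases split _ 16 h5 with h | h6
  · exact es5 w h
  rw [List.drop_drop] at h6
  rcases split _ 16 h6 with h | h7
  · exact es6 w h
  rw [List.drop_drop] at h7
  rcases split _ 16 h7 with h | h8
  · exact es7 w h
  rw [List.drop_drop] at h8
  rcases split _ 16 h8 with h | h9
  · exact es8 w h
  rw [List.drop_drop] at h9
  rcases split _ 16 h9 with h | h10
  · exact es9 w h
  rw [List.drop_drop] at h10
  rcases split _ 16 h10 with h | h11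
  · exact es10 w h
  rw [List.drop_drop] at h11
  rcases split _ 16 h11 with h | h12
  · exact es11 w h
  rw [List.drop_drop] at h12
  rcases split _ 16 h12 with h | h13
  · exact es12 w h
  rw [List.drop_drop] at h13
  rcases split _ 16 h13 with h | h14
  · exact es13 w h
  rw [List.drop_drop] at h14
  have hnil : ∀ k, 224 ≤ k → (s1L).drop k = [] := fun k hk =>
    List.drop_eq_nil_of_le (by rw [es_length]; exact hk)
  rw [hnil _ (by norm_num)] at h14
  exact absurd h14 List.not_mem_nil

theorem chk : Chk tabs tabs2 zvals where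
  hr := range_ok_tabs
  hp := pairs_ok_tabs
  hr2 := range_ok_tabs2
  hp2 := pairs_ok_tabs2
  e0 := rfl
  e4 := rfl
  exact2 := exact2_chk
  s1 := s1_chk
  xl := xl_chk
  tlink := tlink_chk
  zl := zl_chk
  zeven := zeven

end Cfsg.Agent.Lib.H11.U62M.M1
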