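import Cfsg.Agent.Lib.H11.U62M2Tabs
import Cfsg.Agent.Lib.H11.U62MGlue

set_option autoImplicit false
set_option maxRecDepth 100000
set_option Elab.async false

/-! # S2091 piece M2 (helper11): word checks, part A (generated) -/

namespace Cfsg.Agent.Lib.H11.U62M.M2

open Cfsg.Agent.Lib.H17.MonoModel Cfsg.Agent.Lib.H16.U62M Cfsg.Agent.Lib.H11.U62M

theorem ea0 : ∀ w ∈ ((C2.exactL).drop 0).take 22, checkWordM (w.map tabs) 0 672 = true := by
  decide +kernel

theorem ea1 : ∀ w ∈ ((C2.exactL).drop 22).take 22, checkWordM (w.map tabs) 0 672 = true := by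
  decide +kernel

theorem ea2 : ∀ w ∈ ((C2.exactL).drop 44).take 22, checkWordM (w.map tabs) 0 672 = true := by
  decide +kernel

theorem ea3 : ∀ w ∈ ((C2.exactL).drop 66).take 22, checkWordM (w.map tabs) 0 672 = true := by
  decide +kernel

theorem ea4 : ∀ w ∈ ((C2.exactL).drop 88).take 22, checkWordM (w.map tabs) 0 672 = true := by
  decide +kernel

theorem ea5 : ∀ w ∈ ((C2.exactL).drop 110).take 22, checkWordM (w.map tabs) 0 672 = true := by
  decide +kernel

theorem ea_length : (C2.exactL).length = 132 := by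
  decide +kernel

theorem exact2_chk : ∀ w ∈ C2.exactL, checkWordM (w.map tabs) 0 672 = true := by
  intro w hw
  have split : ∀ (l : List (List ℕ)) (k : ℕ), w ∈ l → w ∈ l.take k ∨ w ∈ l.drop k := by
    intro l k h
    rw [← List.take_append_drop k l] at h
    exact List.mem_append.mp h
  have h0 : w ∈ (C2.exactL).drop 0 := by simpa using hw
  rcases split _ 22 h0 with h | h1
  · exact ea0 w h
  rw [List.drop_drop] at h1
  rcases split _ 22 h1 with h | h2
  · exact ea1 w h
  rw [List.drop_drop] at h2
  rcases split _ 22 h2 with h | h3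
  · exact ea2 w h
  rw [List.drop_drop] at h3
  rcases split _ 22 h3 with h | h4
  · exact ea3 w h
  rw [List.drop_drop] at h4
  rcases split _ 22 h4 with h | h5
  · exact ea4 w h
  rw [List.drop_drop] at h5
  rcases split _ 22 h5 with h | h6
  · exact ea5 w h
  rw [List.drop_drop] at h6
  have hnil : ∀ k, 132 ≤ k → (C2.exactL).drop k = [] := fun k hk =>
    List.drop_eq_nil_of_le (by rw [ea_length]; exact hk)
  rw [hnil _ (by norm_num)] at h6
  exact absurd h6 List.not_mem_nil

theorem xl_chk : ∀ w ∈ xL, checkWordM (w.map tabs) 0 672 = true := by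
  decide +kernel

theorem tlink_chk : checkWordM (tLinkW.map tabs2) 0 672 = true := by
  decide +kernel

/-- the shifts of the central words -/
def zvals : List ℕ := [0, 0, 0, 0, 0, 0, 0, 6, 0, 0, 6]

theorem zl_chk : ∀ i < 11, checkWordM ((ZL.getD i []).map tabs) (zvals.getD i 0) 672 = true := by
  decide +kernel

theorem zeven : ∀ i < 11, 2 ∣ zvals.getD i 0 := by
  decide

end Cfsg.Agent.Lib.H11.U62M.M2
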