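import Cfsg.Agent.Lib.H11.U62M1All
import Cfsg.Agent.Lib.H11.U62M2All

set_option autoImplicit false

/-!
# S2091 pieces (M1), (M2) (helper11): the two monomial models of the cover of `U6(2)`

`M = Equiv.Perm (Fin 672 × ZMod 12)`; in model 1 the symbol words `x0W`, `x8W`, `w10W` act as the shifts by
`-4`, `-6`, `0` (so `X = x0W⁻¹ x8W⁻¹` is the shift by `10`, of order 6), in model 2 as the shifts by `0`, `0`, `-6`.
-/

namespace Cfsg.Agent.Lib.H11.U62

open Cfsg.Agent.Lib.H17.MonoModel Cfsg.Agent.Lib.H16.U62M Cfsg.Agent.Lib.H11.U62M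
open Cfsg.Agent.Lib.H12.J3M (gl3 wv3)

/-- (M1) -/
theorem model1 : Model1 := by
  have C := M1.chk
  refine ⟨Equiv.Perm (Fin 672 × ZMod 12), inferInstance, (sg C 0)⁻¹, (sg C 2)⁻¹, (sg C 4)⁻¹,
    pe_ok C, zl_comm C, ?_, ?_⟩
  · intro i hi h
    rw [x0_val C, x8_val C, inv_inv, inv_inv, shiftP_mul, shiftP_pow] at h
    have h0 := shiftP_eq_one _ h
    change ((i : ℕ) : ZMod 12) * (((4 : ℕ) : ZMod 12) + ((6 : ℕ) : ZMod 12)) = 0 at h0
    interval_cases i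
    · rfl
    all_goals (exfalso; revert h0; decide)
  · rw [w10_val C]
    change (shiftP 672 ((0 : ℕ) : ZMod 12))⁻¹ = 1
    rw [Nat.cast_zero, shiftP_zero, inv_one]

/-- (M2) -/
theorem model2 : Model2 := by
  have C := M2.chk
  refine ⟨Equiv.Perm (Fin 672 × ZMod 12), inferInstance, (sg C 0)⁻¹, (sg C 2)⁻¹, (sg C 4)⁻¹,
    pe_ok C, zl_comm C, ?_, ?_⟩
  · rw [x0_val C, x8_val C, inv_inv, inv_inv, shiftP_mul]
    change shiftP 672 (((0 : ℕ) : ZMod 12) + ((0 : ℕ) : ZMod 12)) = 1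
    rw [Nat.cast_zero, add_zero, shiftP_zero]
  · rw [w10_val C]
    intro h
    have h1 : shiftP 672 ((M2.zvals.getD 10 0 : ℕ) : ZMod 12) = 1 := inv_eq_one.mp h
    have h0 := shiftP_eq_one _ h1
    change ((6 : ℕ) : ZMod 12) = 0 at h0
    revert h0
    decide

end Cfsg.Agent.Lib.H11.U62
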