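/-
UP5-C3 (S5796, SU_5 row; blueprint tools/blueprints/S5796.md by lead), part a: the explicit model over helper4's `F4`.
`s` of order 11 in `SU_5(2)`, the involution `w` (permutation matrix of (1 4)(2 3)), the transvection `t` (transposition (4 5)),
and the set `S` of the 165 vectors `x` whose profile `m ↦ f (x, s^(j m) x)` is, for some `j ∈ {1..10}`, the profile `c` of `e_5`:
`w` maps `S` into `S`, `t` does not.  All checks are kernel computations on 5-tuples over the inductive type `F4`.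
-/
import Mathlib
import Cfsg.Agent.Lib.H4.AschU91a

set_option autoImplicit false

namespace Cfsg.Agent.Lib.H11.UP5

open Cfsg.Agent.Lib.H4.Asch Cfsg.Agent.Lib.H4.Asch.F4

/-- vectors of `F4^5` as 5-tuples -/
structure V5 where
  a : F4
  b : F4
  c : F4
  d : F4
  e : F4
  deriving DecidableEq

/-- 5 × 5 matrices over `F4` as 5-tuples of rows -/
structure M5 where
  r1 : V5
  r2 : V5
  r3 : V5
  r4 : V5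
  r5 : V5
  deriving DecidableEq

/-- the field automorphism `x ↦ x²` of `F4` -/
def cj : F4 → F4
  | o => o
  | i => i
  | w => v
  | v => w

def dot (r x : V5) : F4 := r.a * x.a + r.b * x.b + r.c * x.c + r.d * x.d + r.e * x.e

/-- matrix times vector -/
def mv (M : M5) (x : V5) : V5 := ⟨dot M.r1 x, dot M.r2 x, dot M.r3 x, dot M.r4 x, dot M.r5 x⟩

/-- the standard hermitian form `Σ u_i x_i²` -/
def frm (u x : V5) : F4 := u.a * cj x.a + u.b * cj x.b + u.c * cj x.c + u.d * cj x.d + u.e * cj x.e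

/-- the columns of a matrix -/
def col1 (M : M5) : V5 := ⟨M.r1.a, M.r2.a, M.r3.a, M.r4.a, M.r5.a⟩
def col2 (M : M5) : V5 := ⟨M.r1.b, M.r2.b, M.r3.b, M.r4.b, M.r5.b⟩
def col3 (M : M5) : V5 := ⟨M.r1.c, M.r2.c, M.r3.c, M.r4.c, M.r5.c⟩
def col4 (M : M5) : V5 := ⟨M.r1.d, M.r2.d, M.r3.d, M.r4.d, M.r5.d⟩
def col5 (M : M5) : V5 := ⟨M.r1.e, M.r2.e, M.r3.e, M.r4.e, M.r5.e⟩

def rowMul (r : V5) (B : M5) : V5 := ⟨dot r (col1 B), dot r (col2 B), dot r (col3 B), dot r (col4 B), dot r (col5 B)⟩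

/-- matrix product -/
def mm (A B : M5) : M5 := ⟨rowMul A.r1 B, rowMul A.r2 B, rowMul A.r3 B, rowMul A.r4 B, rowMul A.r5 B⟩

def idT : M5 := ⟨⟨i,o,o,o,o⟩, ⟨o,i,o,o,o⟩, ⟨o,o,i,o,o⟩, ⟨o,o,o,i,o⟩, ⟨o,o,o,o,i⟩⟩

/-- the powers of `s` -/
def spT : ℕ → M5
  | 0 => ⟨⟨i,o,o,o,o⟩, ⟨o,i,o,o,o⟩, ⟨o,o,i,o,o⟩, ⟨o,o,o,i,o⟩, ⟨o,o,o,o,i⟩⟩
  | 1 => ⟨⟨o,i,w,i,o⟩, ⟨o,i,w,o,v⟩, ⟨v,i,w,o,o⟩, ⟨i,v,w,w,i⟩, ⟨v,v,v,i,v⟩⟩
  | 2 => ⟨⟨o,o,v,w,w⟩, ⟨v,i,v,v,i⟩, ⟨i,o,o,v,v⟩, ⟨o,w,o,v,v⟩, ⟨i,w,i,w,i⟩⟩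
  | 3 => ⟨⟨i,v,v,i,v⟩, ⟨w,o,o,v,v⟩, ⟨i,i,i,v,i⟩, ⟨i,w,o,w,o⟩, ⟨w,o,v,v,o⟩⟩
  | 4 => ⟨⟨i,o,w,o,i⟩, ⟨i,w,o,o,i⟩, ⟨v,o,o,i,v⟩, ⟨w,w,w,w,v⟩, ⟨i,v,v,v,v⟩⟩
  | 5 => ⟨⟨w,o,w,o,v⟩, ⟨v,o,w,o,w⟩, ⟨v,w,i,w,v⟩, ⟨i,i,w,w,i⟩, ⟨v,i,i,v,v⟩⟩
  | 6 => ⟨⟨v,w,w,i,w⟩, ⟨o,o,v,i,i⟩, ⟨v,v,i,v,i⟩, ⟨o,o,v,v,w⟩, ⟨w,v,w,i,w⟩⟩
  | 7 => ⟨⟨i,i,w,v,i⟩, ⟨o,v,o,v,w⟩, ⟨v,o,o,v,w⟩, ⟨o,o,i,v,w⟩, ⟨i,i,w,w,w⟩⟩
  | 8 => ⟨⟨i,v,i,i,v⟩, ⟨w,o,i,v,o⟩, ⟨w,o,i,o,w⟩, ⟨i,w,w,v,w⟩, ⟨w,w,i,o,o⟩⟩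
  | 9 => ⟨⟨o,w,i,o,i⟩, ⟨o,i,o,v,v⟩, ⟨w,w,o,o,i⟩, ⟨v,w,w,w,v⟩, ⟨v,i,w,w,i⟩⟩
  | 10 => ⟨⟨o,o,w,i,w⟩, ⟨i,i,i,w,w⟩, ⟨v,v,v,v,w⟩, ⟨i,o,o,v,i⟩, ⟨o,w,o,i,w⟩⟩
  | _ => ⟨⟨i,o,o,o,o⟩, ⟨o,i,o,o,o⟩, ⟨o,o,i,o,o⟩, ⟨o,o,o,i,o⟩, ⟨o,o,o,o,i⟩⟩

/-- the profile of `e_5` -/
def cT : ℕ → F4
  | 0 => i
  | 1 => w
  | 2 => i
  | 3 => o
  | 4 => w
  | 5 => w
  | 6 => v
  | 7 => v
  | 8 => o
  | 9 => i
  | 10 => v
  | _ => o

/-- the permutation matrix of (1 4)(2 3) -/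
def wT : M5 := ⟨⟨o,o,o,i,o⟩, ⟨o,o,i,o,o⟩, ⟨o,i,o,o,o⟩, ⟨i,o,o,o,o⟩, ⟨o,o,o,o,i⟩⟩

/-- the permutation matrix of (4 5), a unitary transvection -/
def tT : M5 := ⟨⟨i,o,o,o,o⟩, ⟨o,i,o,o,o⟩, ⟨o,o,i,o,o⟩, ⟨o,o,o,o,i⟩, ⟨o,o,o,i,o⟩⟩

def f4l : List F4 := [o, i, w, v]

theorem mem_f4l (x : F4) : x ∈ f4l := by cases x <;> simp [f4l]

/-- membership in `S` -/
def inSb (x : V5) : Bool :=
  (List.range 10).any fun j => (List.range 11).all fun m => frm x (mv (spT (((j + 1) * m) % 11)) x) == cT m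

def allV (a : F4) : List V5 :=
  f4l.flatMap fun b => f4l.flatMap fun c => f4l.flatMap fun d => f4l.map fun e => ⟨a,b,c,d,e⟩

theorem mem_allV (x : V5) : x ∈ allV x.a := by
  obtain ⟨a, b, c, d, e⟩ := x
  simp only [allV, List.mem_flatMap, List.mem_map]
  exact ⟨b, mem_f4l b, c, mem_f4l c, d, mem_f4l d, e, mem_f4l e, rfl⟩

theorem w_stab_o : ((allV o).all fun x => !inSb x || inSb (mv wT x)) = true := by decide +kernel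
theorem w_stab_i : ((allV i).all fun x => !inSb x || inSb (mv wT x)) = true := by decide +kernel
theorem w_stab_w : ((allV w).all fun x => !inSb x || inSb (mv wT x)) = true := by decide +kernel
theorem w_stab_v : ((allV v).all fun x => !inSb x || inSb (mv wT x)) = true := by decide +kernel

/-- `w` maps `S` into `S` -/
theorem w_stab (x : V5) (hx : inSb x = true) : inSb (mv wT x) = true := by
  have hmem := mem_allV x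
  have key : ∀ a : F4, ((allV a).all fun x => !inSb x || inSb (mv wT x)) = true := by
    intro a
    cases a
    · exact w_stab_o
    · exact w_stab_i
    · exact w_stab_w
    · exact w_stab_v
  have h := List.all_eq_true.1 (key x.a) x hmem
  rw [hx] at h
  simpa using h

/-- `e_5 ∈ S` -/
theorem e5_mem : inSb ⟨o,o,o,o,i⟩ = true := by decide +kernel

/-- `t e_5 ∉ S` -/
theorem t_e5_not_mem : inSb (mv tT ⟨o,o,o,o,i⟩) = false := by decide +kernel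

/-- the powers of `s` -/
theorem spT_succ : ∀ k < 10, mm (spT 1) (spT k) = spT (k + 1) := by decide +kernel

theorem spT_eleven : mm (spT 1) (spT 10) = idT := by decide +kernel

theorem spT_zero : spT 0 = idT := by decide +kernel

theorem spT_one_ne : spT 1 ≠ idT := by decide +kernel

/-- `w s w` does not commute with `s` -/
theorem w_s_not_comm : mm (mm (mm wT (spT 1)) wT) (spT 1) ≠ mm (spT 1) (mm (mm wT (spT 1)) wT) := by decide +kernel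

theorem wT_sq : mm wT wT = idT := by decide +kernel

theorem tT_sq : mm tT tT = idT := by decide +kernel

/-- conjugate transpose -/
def adjT (M : M5) : M5 :=
  ⟨⟨cj M.r1.a, cj M.r2.a, cj M.r3.a, cj M.r4.a, cj M.r5.a⟩,
   ⟨cj M.r1.b, cj M.r2.b, cj M.r3.b, cj M.r4.b, cj M.r5.b⟩,
   ⟨cj M.r1.c, cj M.r2.c, cj M.r3.c, cj M.r4.c, cj M.r5.c⟩,
   ⟨cj M.r1.d, cj M.r2.d, cj M.r3.d, cj M.r4.d, cj M.r5.d⟩,
   ⟨cj M.r1.e, cj M.r2.e, cj M.r3.e, cj M.r4.e, cj M.r5.e⟩⟩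

theorem s_unitary : mm (adjT (spT 1)) (spT 1) = idT := by decide +kernel
theorem w_unitary : mm (adjT wT) wT = idT := by decide +kernel
theorem t_unitary : mm (adjT tT) tT = idT := by decide +kernel

end Cfsg.Agent.Lib.H11.UP5
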