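/-
UP5-C3 (S5796), part b: the model of part a in terms of Mathlib matrices over `F4`.
-/
import Cfsg.Agent.Lib.H11.UP5C3a
import Cfsg.Prelude.Def_LieClassical

set_option autoImplicit false

namespace Cfsg.Agent.Lib.H11.UP5

open Cfsg.Agent.Lib.H4.Asch Cfsg.Agent.Lib.H4.Asch.F4
open scoped Matrix

def toVec (x : V5) : Fin 5 → F4 := ![x.a, x.b, x.c, x.d, x.e]

def ofVec (v : Fin 5 → F4) : V5 := ⟨v 0, v 1, v 2, v 3, v 4⟩

theorem toVec_ofVec (v : Fin 5 → F4) : toVec (ofVec v) = v := by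
  funext j
  fin_cases j <;> rfl

theorem ofVec_toVec (x : V5) : ofVec (toVec x) = x := rfl

def toMat (M : M5) : Matrix (Fin 5) (Fin 5) F4 :=
  Matrix.of ![toVec M.r1, toVec M.r2, toVec M.r3, toVec M.r4, toVec M.r5]

theorem cj_eq (x : F4) : cj x = x ^ 2 := by
  cases x <;> rfl

theorem toMat_mulVec (M : M5) (x : V5) : toMat M *ᵥ toVec x = toVec (mv M x) := by
  funext j
  fin_cases j <;>
    simp [toMat, toVec, mv, dot, Matrix.mulVec, dotProduct, Fin.sum_univ_five]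

theorem toMat_mul (A B : M5) : toMat A * toMat B = toMat (mm A B) := by
  ext j k
  fin_cases j <;> fin_cases k <;>
    simp [toMat, toVec, mm, rowMul, dot, col1, col2, col3, col4, col5, Matrix.mul_apply, Fin.sum_univ_five]

theorem toMat_id : toMat idT = 1 := by
  ext j k
  fin_cases j <;> fin_cases k <;> rfl

theorem hermForm_toVec (u x : V5) : Cfsg.hermForm 5 F4 2 (toVec u) (toVec x) = frm u x := by
  simp [Cfsg.hermForm, toVec, frm, Fin.sum_univ_five, cj_eq]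

theorem toMat_injective : Function.Injective toMat := by
  intro A B h
  obtain ⟨⟨a1,a2,a3,a4,a5⟩,⟨b1,b2,b3,b4,b5⟩,⟨c1,c2,c3,c4,c5⟩,⟨d1,d2,d3,d4,d5⟩,⟨e1,e2,e3,e4,e5⟩⟩ := A
  obtain ⟨⟨a1',a2',a3',a4',a5'⟩,⟨b1',b2',b3',b4',b5'⟩,⟨c1',c2',c3',c4',c5'⟩,⟨d1',d2',d3',d4',d5'⟩,⟨e1',e2',e3',e4',e5'⟩⟩ := B
  have h' := fun j k => congrFun (congrFun h j) k
  have := h' 0 0; have := h' 0 1; have := h' 0 2; have := h' 0 3; have := h' 0 4
  have := h' 1 0; have := h' 1 1; have := h' 1 2; have := h' 1 3; have := h' 1 4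
  have := h' 2 0; have := h' 2 1; have := h' 2 2; have := h' 2 3; have := h' 2 4
  have := h' 3 0; have := h' 3 1; have := h' 3 2; have := h' 3 3; have := h' 3 4
  have := h' 4 0; have := h' 4 1; have := h' 4 2; have := h' 4 3; have := h' 4 4
  simp_all [toMat, toVec]

end Cfsg.Agent.Lib.H11.UP5
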