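/-
UP5-C3 (S5796), part c: the certificate over an arbitrary field with four elements.
-/
import Cfsg.Agent.Lib.H11.UP5C3b

set_option autoImplicit false

namespace Cfsg.Agent.Lib.H11.UP5

open Cfsg.Agent.Lib.H4.Asch Cfsg.Agent.Lib.H4.Asch.F4
open scoped Matrix

/-- membership in the set `S` attached to a matrix `σ` (of order 11) and a profile `c` -/
def InS {R : Type*} [Field R] (σ : Matrix (Fin 5) (Fin 5) R) (c : ℕ → R) (v : Fin 5 → R) : Prop :=
  ∃ j < 10, ∀ m < 11, Cfsg.hermForm 5 R 2 v ((σ ^ (((j + 1) * m) % 11)) *ᵥ v) = c m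

/-- the form is preserved -/
def IsUni {R : Type*} [Field R] (M : Matrix (Fin 5) (Fin 5) R) : Prop :=
  ∀ u v : Fin 5 → R, Cfsg.hermForm 5 R 2 (M *ᵥ u) (M *ᵥ v) = Cfsg.hermForm 5 R 2 u v

/-- the certificate -/
structure Cert (R : Type*) [Field R] where
  s : Matrix (Fin 5) (Fin 5) R
  w : Matrix (Fin 5) (Fin 5) R
  t : Matrix (Fin 5) (Fin 5) R
  c : ℕ → R
  s_pow : s ^ 11 = 1
  s_ne : s ≠ 1
  w_sq : w * w = 1
  t_sq : t * t = 1
  s_uni : IsUni s
  w_uni : IsUni w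
  t_uni : IsUni t
  not_comm : (w * s * w) * s ≠ s * (w * s * w)
  w_stab : ∀ v, InS s c v → InS s c (w *ᵥ v)
  t_move : ∃ v, InS s c v ∧ ¬ InS s c (t *ᵥ v)

/-! ### the model -/

def s0 : Matrix (Fin 5) (Fin 5) F4 := toMat (spT 1)
def w0 : Matrix (Fin 5) (Fin 5) F4 := toMat wT
def t0 : Matrix (Fin 5) (Fin 5) F4 := toMat tT

theorem s0_pow (k : ℕ) (hk : k ≤ 10) : s0 ^ k = toMat (spT k) := by
  induction k with
  | zero => rw [pow_zero, spT_zero, toMat_id]
  | succ k ih =>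
    rw [pow_succ', ih (by omega), s0, toMat_mul, spT_succ k (by omega)]

theorem s0_pow_eleven : s0 ^ 11 = 1 := by
  rw [pow_succ', s0_pow 10 le_rfl, s0, toMat_mul, spT_eleven, toMat_id]

theorem s0_ne : s0 ≠ 1 := by
  intro h
  rw [s0, ← toMat_id] at h
  exact spT_one_ne (toMat_injective h)

theorem w0_sq : w0 * w0 = 1 := by rw [w0, toMat_mul, wT_sq, toMat_id]

theorem t0_sq : t0 * t0 = 1 := by rw [t0, toMat_mul, tT_sq, toMat_id]

theorem cj_add (x y : F4) : cj (x + y) = cj x + cj y := by cases x <;> cases y <;> rfl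

theorem cj_mul (x y : F4) : cj (x * y) = cj x * cj y := by cases x <;> cases y <;> rfl

theorem cj_cj (x : F4) : cj (cj x) = x := by cases x <;> rfl

theorem frm_adj (M : M5) (u x : V5) : frm (mv M u) x = frm u (mv (adjT M) x) := by
  obtain ⟨⟨a1,a2,a3,a4,a5⟩,⟨b1,b2,b3,b4,b5⟩,⟨c1,c2,c3,c4,c5⟩,⟨d1,d2,d3,d4,d5⟩,⟨e1,e2,e3,e4,e5⟩⟩ := M
  obtain ⟨u1,u2,u3,u4,u5⟩ := u
  obtain ⟨x1,x2,x3,x4,x5⟩ := x
  simp only [frm, mv, dot, adjT, cj_add, cj_mul, cj_cj]
  ring

theorem toVec_surj (v : Fin 5 → F4) : ∃ x, toVec x = v := ⟨ofVec v, toVec_ofVec v⟩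

theorem isUni_of_adj (M : M5) (h : mm (adjT M) M = idT) : IsUni (toMat M) := by
  intro u v
  obtain ⟨x, rfl⟩ := toVec_surj u
  obtain ⟨y, rfl⟩ := toVec_surj v
  rw [toMat_mulVec, toMat_mulVec, hermForm_toVec, hermForm_toVec, frm_adj]
  have h1 : toVec (mv (adjT M) (mv M y)) = toVec y := by
    rw [← toMat_mulVec, ← toMat_mulVec, Matrix.mulVec_mulVec, toMat_mul, h, toMat_id, Matrix.one_mulVec]
  have h2 : mv (adjT M) (mv M y) = y := by
    have := congrArg ofVec h1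
    rwa [ofVec_toVec, ofVec_toVec] at this
  rw [h2]

theorem inS_iff (x : V5) : InS s0 (fun m => cT m) (toVec x) ↔ inSb x = true := by
  unfold InS inSb
  rw [List.any_eq_true]
  constructor
  · rintro ⟨j, hj, h⟩
    refine ⟨j, List.mem_range.2 hj, ?_⟩
    rw [List.all_eq_true]
    intro m hm
    have hm' := List.mem_range.1 hm
    have := h m hm'
    rw [s0_pow _ (by have := Nat.mod_lt ((j + 1) * m) (show 11 > 0 by norm_num); omega), toMat_mulVec,
      hermForm_toVec] at this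
    rw [this]
    exact beq_self_eq_true _
  · rintro ⟨j, hj, h⟩
    refine ⟨j, List.mem_range.1 hj, ?_⟩
    rw [List.all_eq_true] at h
    intro m hm
    have := h m (List.mem_range.2 hm)
    rw [s0_pow _ (by have := Nat.mod_lt ((j + 1) * m) (show 11 > 0 by norm_num); omega), toMat_mulVec,
      hermForm_toVec]
    exact eq_of_beq this

/-- the certificate over the model -/
def cert0 : Cert F4 where
  s := s0
  w := w0
  t := t0
  c := fun m => cT m
  s_pow := s0_pow_eleven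
  s_ne := s0_ne
  w_sq := w0_sq
  t_sq := t0_sq
  s_uni := isUni_of_adj _ s_unitary
  w_uni := isUni_of_adj _ w_unitary
  t_uni := isUni_of_adj _ t_unitary
  not_comm := by
    intro h
    simp only [s0, w0, toMat_mul] at h
    exact w_s_not_comm (toMat_injective h)
  w_stab := by
    intro v hv
    obtain ⟨x, rfl⟩ := toVec_surj v
    rw [w0, toMat_mulVec, inS_iff]
    exact w_stab x ((inS_iff x).1 hv)
  t_move := by
    refine ⟨toVec ⟨o,o,o,o,i⟩, (inS_iff _).2 e5_mem, ?_⟩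
    rw [t0, toMat_mulVec, inS_iff, t_e5_not_mem]
    simp

end Cfsg.Agent.Lib.H11.UP5
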