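/-
UP5-C3 (S5796), part d: transfer of the certificate along a ring isomorphism; the certificate over any field with 4 elements.
-/
import Cfsg.Agent.Lib.H11.UP5C3c

set_option autoImplicit false

namespace Cfsg.Agent.Lib.H11.UP5

open Cfsg.Agent.Lib.H4.Asch
open scoped Matrix

section transfer

variable {R R' : Type*} [Field R] [Field R'] (e : R ≃+* R')

theorem hermForm_map (u v : Fin 5 → R) :
    Cfsg.hermForm 5 R' 2 (e ∘ u) (e ∘ v) = e (Cfsg.hermForm 5 R 2 u v) := by
  simp [Cfsg.hermForm, map_sum, map_mul, map_pow]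

theorem map_mulVec_comp (M : Matrix (Fin 5) (Fin 5) R) (v : Fin 5 → R) :
    (M.map e) *ᵥ (e ∘ v) = e ∘ (M *ᵥ v) := by
  funext j
  exact (RingHom.map_mulVec (e : R →+* R') M v j).symm

theorem surj_vec (v' : Fin 5 → R') : ∃ v : Fin 5 → R, e ∘ v = v' :=
  ⟨e.symm ∘ v', by funext j; simp⟩

theorem map_pow_mat (M : Matrix (Fin 5) (Fin 5) R) (k : ℕ) : (M.map e) ^ k = (M ^ k).map e :=
  (map_pow (e : R →+* R').mapMatrix M k).symm

theorem map_mul_mat (M N : Matrix (Fin 5) (Fin 5) R) : (M.map e) * (N.map e) = (M * N).map e :=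
  (Matrix.map_mul (f := (e : R →+* R'))).symm

theorem map_one_mat : (1 : Matrix (Fin 5) (Fin 5) R).map e = 1 :=
  map_one (e : R →+* R').mapMatrix

theorem map_mat_injective : Function.Injective (fun M : Matrix (Fin 5) (Fin 5) R => M.map e) := by
  intro M N h
  ext j k
  have := congrFun (congrFun h j) k
  exact e.injective this

theorem isUni_map {M : Matrix (Fin 5) (Fin 5) R} (h : IsUni M) : IsUni (M.map e) := by
  intro u' v'
  obtain ⟨u, rfl⟩ := surj_vec e u'
  obtain ⟨v, rfl⟩ := surj_vec e v'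
  rw [map_mulVec_comp, map_mulVec_comp, hermForm_map, hermForm_map, h]

theorem inS_map (σ : Matrix (Fin 5) (Fin 5) R) (c : ℕ → R) (v : Fin 5 → R) :
    InS (σ.map e) (fun m => e (c m)) (e ∘ v) ↔ InS σ c v := by
  unfold InS
  constructor
  · rintro ⟨j, hj, h⟩
    refine ⟨j, hj, fun m hm => ?_⟩
    have := h m hm
    rw [map_pow_mat, map_mulVec_comp, hermForm_map] at this
    exact e.injective this
  · rintro ⟨j, hj, h⟩
    refine ⟨j, hj, fun m hm => ?_⟩
    rw [map_pow_mat, map_mulVec_comp, hermForm_map, h m hm]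

/-- transfer of the certificate -/
def Cert.map (C : Cert R) : Cert R' where
  s := C.s.map e
  w := C.w.map e
  t := C.t.map e
  c := fun m => e (C.c m)
  s_pow := by rw [map_pow_mat, C.s_pow, map_one_mat]
  s_ne := by
    intro h
    rw [← map_one_mat e] at h
    exact C.s_ne (map_mat_injective e h)
  w_sq := by rw [map_mul_mat, C.w_sq, map_one_mat]
  t_sq := by rw [map_mul_mat, C.t_sq, map_one_mat]
  s_uni := isUni_map e C.s_uni
  w_uni := isUni_map e C.w_uni
  t_uni := isUni_map e C.t_uni
  not_comm := by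
    intro h
    simp only [map_mul_mat] at h
    exact C.not_comm (map_mat_injective e h)
  w_stab := by
    intro v' hv'
    obtain ⟨v, rfl⟩ := surj_vec e v'
    rw [map_mulVec_comp, inS_map]
    exact C.w_stab v ((inS_map e _ _ _).1 hv')
  t_move := by
    obtain ⟨v, hv, hv'⟩ := C.t_move
    refine ⟨e ∘ v, (inS_map e _ _ _).2 hv, ?_⟩
    rw [map_mulVec_comp, inS_map]
    exact hv'

end transfer

/-- the certificate over any field with four elements -/
noncomputable def cert {F : Type*} [Field F] [Fintype F] (hF : Fintype.card F = 4) : Cert F :=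
  cert0.map (FiniteField.ringEquivOfCardEq (K := F4) (K' := F) (by rw [F4.card_eq, hF]))

end Cfsg.Agent.Lib.H11.UP5
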