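/-
UP5-C3 (S5796), part e: over a field `F` with four elements, the adjoint for the standard hermitian form on `F^5` is the
conjugate transpose `ct`; an adjoint-closed field subalgebra `K` of degree 5 of `M_5(F)` contains a unitary element of order 11.
-/
import Cfsg.Agent.Lib.H11.UP5C3d
import Cfsg.Agent.Lib.H5.AschO2F2

set_option autoImplicit false

namespace Cfsg.Agent.Lib.H11.UP5

open Cfsg Cfsg.Geo
open scoped Matrix

variable {F : Type*} [Field F]

/-- the conjugate transpose for `x ↦ x²` -/
def ct (M : Matrix (Fin 5) (Fin 5) F) : Matrix (Fin 5) (Fin 5) F := fun a b => (M b a) ^ 2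

section char2

variable [CharP F 2]

theorem ct_eq (M : Matrix (Fin 5) (Fin 5) F) : ct M = (M.map (frobenius F 2))ᵀ := by
  ext a b
  simp [ct, frobenius_def]

theorem ct_mul (A B : Matrix (Fin 5) (Fin 5) F) : ct (A * B) = ct B * ct A := by
  rw [ct_eq, ct_eq, ct_eq, Matrix.map_mul, Matrix.transpose_mul]

theorem ct_add (A B : Matrix (Fin 5) (Fin 5) F) : ct (A + B) = ct A + ct B := by
  rw [ct_eq, ct_eq, ct_eq, Matrix.map_add (frobenius F 2) (map_add _), Matrix.transpose_add]

theorem ct_one : ct (1 : Matrix (Fin 5) (Fin 5) F) = 1 := by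
  rw [ct_eq, Matrix.map_one (frobenius F 2) (map_zero _) (map_one _), Matrix.transpose_one]

theorem ct_zero : ct (0 : Matrix (Fin 5) (Fin 5) F) = 0 := by
  ext a b
  simp [ct]

theorem ct_pow (A : Matrix (Fin 5) (Fin 5) F) (k : ℕ) : ct (A ^ k) = ct A ^ k := by
  induction k with
  | zero => rw [pow_zero, pow_zero, ct_one]
  | succ k ih => rw [pow_succ, pow_succ', ct_mul, ih]

/-- the adjoint of `M` for the standard hermitian form is `ct M` -/
theorem hermForm_mulVec_left (h4 : ∀ x : F, x ^ 4 = x) (M : Matrix (Fin 5) (Fin 5) F) (x y : Fin 5 → F) :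
    hermForm 5 F 2 (M *ᵥ x) y = hermForm 5 F 2 x (ct M *ᵥ y) := by
  have hfrob : ∀ b : Fin 5, (∑ a, (M a b) ^ 2 * y a) ^ 2 = ∑ a, M a b * (y a) ^ 2 := by
    intro b
    have h1 := map_sum (frobenius F 2) (fun a => (M a b) ^ 2 * y a) Finset.univ
    simp only [frobenius_def] at h1
    rw [h1]
    refine Finset.sum_congr rfl fun a _ => ?_
    rw [mul_pow, ← pow_mul, h4]
  simp only [hermForm, Matrix.mulVec, dotProduct, ct]
  simp_rw [hfrob, Finset.sum_mul, Finset.mul_sum]
  rw [Finset.sum_comm]
  refine Finset.sum_congr rfl fun b _ => Finset.sum_congr rfl fun a _ => ?_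
  ring

theorem ct_ct (h4 : ∀ x : F, x ^ 4 = x) (M : Matrix (Fin 5) (Fin 5) F) : ct (ct M) = M := by
  ext a b
  simp only [ct]
  rw [← pow_mul, h4]

theorem isUni_of_ct (h4 : ∀ x : F, x ^ 4 = x) (M : Matrix (Fin 5) (Fin 5) F) (h : ct M * M = 1) : IsUni M := by
  intro u v
  rw [hermForm_mulVec_left h4, Matrix.mulVec_mulVec, h, Matrix.one_mulVec]

/-- uniqueness of the adjoint -/
theorem eq_ct_of_adjoint (h4 : ∀ x : F, x ^ 4 = x) (k k' : Matrix (Fin 5) (Fin 5) F)
    (h : ∀ u v : Fin 5 → F, hermForm 5 F 2 (k *ᵥ u) v = hermForm 5 F 2 u (k' *ᵥ v)) : k' = ct k := by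
  have hsq : ∀ x y : F, x ^ 2 = y ^ 2 → x = y := by
    intro x y hxy
    have := congrArg (fun z => z ^ 2) hxy
    simp only [← pow_mul] at this
    rwa [h4, h4] at this
  have hv : ∀ v : Fin 5 → F, k' *ᵥ v = ct k *ᵥ v := by
    intro v
    funext b
    apply hsq
    have h1 := h (Pi.single b 1) v
    rw [hermForm_mulVec_left h4] at h1
    have h2 : ∀ z : Fin 5 → F, hermForm 5 F 2 (Pi.single b 1) z = (z b) ^ 2 := by
      intro z
      simp only [hermForm]
      rw [Finset.sum_eq_single b]
      · simp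
      · intro a _ hab
        rw [Pi.single_eq_of_ne hab, zero_mul]
      · intro hb
        exact absurd (Finset.mem_univ b) hb
    rw [h2, h2] at h1
    exact h1.symm
  ext a b
  have := congrFun (hv (Pi.single b 1)) a
  rwa [Matrix.mulVec_single_one, Matrix.mulVec_single_one] at this

end char2

section four

variable [Fintype F]

theorem pow_four_eq (hF : Fintype.card F = 4) (x : F) : x ^ 4 = x := by
  rw [← hF]
  exact FiniteField.pow_card x

theorem two_eq_zero_of_card (hF : Fintype.card F = 4) : (2 : F) = 0 := by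
  have h := Nat.cast_card_eq_zero F
  rw [hF] at h
  have h2 : (2 : F) * 2 = 0 := by
    rw [← h]
    norm_num
  exact mul_self_eq_zero.1 h2

theorem charP_two_of_card (hF : Fintype.card F = 4) : CharP F 2 :=
  CharTwo.of_one_ne_zero_of_two_eq_zero one_ne_zero (two_eq_zero_of_card hF)

theorem pow_three_eq_one (hF : Fintype.card F = 4) (x : F) (hx : x ≠ 0) : x ^ 3 = 1 := by
  have := FiniteField.pow_card_sub_one_eq_one x hx
  rwa [hF] at this

/-- there is an element of `F` which is not fixed by squaring -/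
theorem exists_sq_ne (hF : Fintype.card F = 4) : ∃ x : F, x ^ 2 ≠ x := by
  classical
  by_contra hcon
  push Not at hcon
  -- every element is `0` or `1`
  have h01 : ∀ x : F, x = 0 ∨ x = 1 := by
    intro x
    have h := hcon x
    have h1 : x * (x - 1) = 0 := by
      rw [mul_sub, mul_one, ← pow_two, h, sub_self]
    rcases mul_eq_zero.1 h1 with h2 | h2
    · exact Or.inl h2
    · exact Or.inr (sub_eq_zero.1 h2)
  have hsub : (Finset.univ : Finset F) ⊆ {0, 1} := by
    intro x _
    rcases h01 x with h | h <;> simp [h]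
  have := Finset.card_le_card hsub
  rw [Finset.card_univ, hF] at this
  have h2 : ({0, 1} : Finset F).card ≤ 2 := Finset.card_le_two
  omega

end four

end Cfsg.Agent.Lib.H11.UP5
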