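/-
UP5-C3 (S5796), part f: an adjoint-closed field subalgebra `K` of degree 5 of `M_5(F)`, `|F| = 4`, contains a unitary
element of order 11.  (`K` has 1024 elements; the fixed field `K⁺` of the adjoint is a proper subfield, so it has 2, 4 or 32
elements; for `u ∈ K` of order 11 the norm `u u*` lies in `K⁺` and has order dividing 11, so it is 1.)
-/
import Cfsg.Agent.Lib.H11.UP5C3e

set_option autoImplicit false
set_option linter.unusedSectionVars false
set_option linter.style.haveILetI false

namespace Cfsg.Agent.Lib.H11.UP5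

open Cfsg Cfsg.Geo
open scoped Matrix

variable {F : Type*} [Field F] [Fintype F]

/-- an adjoint-closed subalgebra is closed under the conjugate transpose -/
theorem ct_mem_of_adjointClosed (hF : Fintype.card F = 4) (K : Subalgebra F (Matrix (Fin 5) (Fin 5) F))
    (hac : IsAdjointClosedFor (hermForm 5 F 2) K) : ∀ k ∈ K, ct k ∈ K := by
  haveI := charP_two_of_card hF
  intro k hk
  obtain ⟨k', hk', h⟩ := hac k hk
  rw [← eq_ct_of_adjoint (pow_four_eq hF) k k' h]
  exact hk'

/-- arithmetic: a proper subfield of a field with `2^10` elements has `2`, `4` or `32` elements -/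
theorem card_subfield_cases (N d : ℕ) (h : N ^ d = 1024) (h1 : 1 < N) (h2 : N < 1024) :
    N = 2 ∨ N = 4 ∨ N = 32 := by
  have hd : d ≠ 0 := by
    rintro rfl
    simp at h
  have hdvd : N ∣ 2 ^ 10 := by
    have : N ∣ N ^ d := dvd_pow_self N hd
    rw [h] at this
    norm_num
    exact this
  obtain ⟨a, ha, rfl⟩ := (Nat.dvd_prime_pow Nat.prime_two).1 hdvd
  rw [← pow_mul] at h
  have h10 : a * d = 10 := Nat.pow_right_injective (le_refl 2) (by show 2 ^ (a * d) = 2 ^ 10; rw [h])
  have ha10 : a ∣ 10 := ⟨d, h10.symm⟩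
  interval_cases a
  · norm_num at h1
  · left; norm_num
  · right; left; norm_num
  · omega
  · omega
  · right; right; norm_num
  · omega
  · omega
  · omega
  · omega
  · norm_num at h2

theorem exists_unitary_eleven (hF : Fintype.card F = 4) (K : Subalgebra F (Matrix (Fin 5) (Fin 5) F))
    (hK : IsFieldSubalgebra 5 K) (hac : IsAdjointClosedFor (hermForm 5 F 2) K) :
    ∃ u ∈ K, u ^ 11 = 1 ∧ u ≠ 1 ∧ ct u * u = 1 := by
  classical
  haveI := charP_two_of_card hF
  have h4 := pow_four_eq hF
  have hct := ct_mem_of_adjointClosed hF K hac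
  letI fld : Field ↥K := (Cfsg.Agent.Lib.H5.OP2.isField_of_isFieldSubalgebra 5 K hK).toField
  -- the adjoint as a ring homomorphism of `K`
  let st : ↥K →+* ↥K :=
    { toFun := fun k => ⟨ct k.1, hct k.1 k.2⟩
      map_one' := Subtype.ext ct_one
      map_mul' := fun a b => Subtype.ext (by
        show ct (a.1 * b.1) = ct a.1 * ct b.1
        rw [ct_mul]
        exact hK.comm _ (hct _ b.2) _ (hct _ a.2))
      map_zero' := Subtype.ext ct_zero
      map_add' := fun a b => Subtype.ext (ct_add _ _) }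
  have hst_val : ∀ k : ↥K, (st k).1 = ct k.1 := fun k => rfl
  have hst_st : ∀ k : ↥K, st (st k) = k := fun k => Subtype.ext (ct_ct h4 k.1)
  let Kp : Subfield ↥K := RingHom.eqLocusField st (RingHom.id ↥K)
  have hKp : ∀ k : ↥K, k ∈ Kp ↔ st k = k := fun k => Iff.rfl
  -- cardinalities
  haveI : Finite ↥K := Subtype.finite
  have hcardK : Nat.card ↥K = 1024 := by
    have h1 := Module.natCard_eq_pow_finrank (K := F) (V := ↥K)
    rw [hK.finrank_eq] at h1
    rw [h1, Nat.card_eq_fintype_card (α := F), hF]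
    norm_num
  have hcardKp : Nat.card ↥K = Nat.card ↥Kp ^ Module.finrank ↥Kp ↥K :=
    Module.natCard_eq_pow_finrank (K := ↥Kp) (V := ↥K)
  -- `K⁺` is proper
  obtain ⟨ω, hω⟩ := exists_sq_ne hF
  have hz : (algebraMap F ↥K ω) ∉ Kp := by
    rw [hKp]
    intro h
    have h1 := congrArg Subtype.val h
    rw [hst_val] at h1
    have h2 := congrFun (congrFun h1 0) 0
    have h3 : ((algebraMap F ↥K ω : ↥K) : Matrix (Fin 5) (Fin 5) F) = algebraMap F (Matrix (Fin 5) (Fin 5) F) ω := rfl
    rw [h3] at h2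
    simp only [ct, Matrix.algebraMap_matrix_apply, if_true] at h2
    exact hω h2
  letI : Fintype ↥K := Fintype.ofFinite _
  letI : Fintype ↥Kp := Fintype.ofFinite _
  have hlt : Nat.card ↥Kp < Nat.card ↥K := by
    rw [Nat.card_eq_fintype_card, Nat.card_eq_fintype_card]
    exact Fintype.card_lt_of_injective_of_notMem (fun x : ↥Kp => (x : ↥K)) Subtype.coe_injective
      (b := algebraMap F ↥K ω) (by rintro ⟨x, hx⟩; exact hz (hx ▸ x.2))
  have hone : 1 < Nat.card ↥Kp := by
    rw [Nat.card_eq_fintype_card]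
    exact Fintype.one_lt_card
  have hcases := card_subfield_cases (Nat.card ↥Kp) _ (by rw [← hcardKp, hcardK]) hone (by rw [← hcardK]; exact hlt)
  -- an element of order 11
  haveI : Fact (Nat.Prime 11) := ⟨by norm_num⟩
  have hunits : Nat.card (↥K)ˣ = 1023 := by rw [Nat.card_units, hcardK]
  obtain ⟨x, hx⟩ := exists_prime_orderOf_dvd_card' (G := (↥K)ˣ) 11 (by rw [hunits]; norm_num)
  have hx11 : x ^ 11 = 1 := by rw [← hx]; exact pow_orderOf_eq_one x
  have hx1 : x ≠ 1 := by
    intro h
    rw [h, orderOf_one] at hx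
    norm_num at hx
  set u : ↥K := (x : ↥K) with hu
  have hu11 : u ^ 11 = 1 := by
    rw [hu, ← Units.val_pow_eq_pow_val, hx11, Units.val_one]
  have hu1 : u ≠ 1 := by
    intro h
    apply hx1
    exact Units.ext h
  -- the norm
  set nn : ↥K := u * st u with hnn
  have hnnKp : nn ∈ Kp := by
    rw [hKp, hnn, map_mul, hst_st, mul_comm]
  have hnn11 : nn ^ 11 = 1 := by
    rw [hnn, mul_pow, ← map_pow, hu11, map_one, mul_one]
  have hnn0 : nn ≠ 0 := by
    intro h
    have : (0 : ↥K) ^ 11 = 1 := by rw [← h]; exact hnn11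
    simp at this
  have hfermat : nn ^ (Nat.card ↥Kp - 1) = 1 := by
    have h1 : (⟨nn, hnnKp⟩ : ↥Kp) ≠ 0 := fun h => hnn0 (congrArg Subtype.val h)
    have h2 := FiniteField.pow_card_sub_one_eq_one (⟨nn, hnnKp⟩ : ↥Kp) h1
    have h3 := congrArg (fun y : ↥Kp => (y : ↥K)) h2
    simp only [SubmonoidClass.coe_pow, OneMemClass.coe_one] at h3
    rw [Nat.card_eq_fintype_card]
    exact h3
  have hnn1 : nn = 1 := by
    rcases hcases with h | h | h
    · rw [h] at hfermat
      simpa using hfermat
    · rw [h] at hfermat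
      exact (pow_eq_one_iff_of_coprime (by norm_num : Nat.Coprime 11 (4 - 1))).1 ⟨hnn11, hfermat⟩
    · rw [h] at hfermat
      exact (pow_eq_one_iff_of_coprime (by norm_num : Nat.Coprime 11 (32 - 1))).1 ⟨hnn11, hfermat⟩
  refine ⟨u.1, u.2, ?_, ?_, ?_⟩
  · have := congrArg Subtype.val hu11
    simpa using this
  · intro h
    apply hu1
    exact Subtype.ext h
  · have h1 := congrArg Subtype.val hnn1
    rw [hnn] at h1
    have h2 : u.1 * ct u.1 = 1 := h1
    rw [hK.comm _ (hct _ u.2) _ u.2]
    exact h2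

end Cfsg.Agent.Lib.H11.UP5
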