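/-
UP5-C3 (S5796, SU_5 row; blueprint tools/blueprints/S5796.md by lead): for `|F| = 4` the normaliser in `SU_5(2)` of an
adjoint-closed field subalgebra `K` of degree 5 of `M_5(F)` is NOT maximal (`11:5 < L_2(11) < SU_5(2)`).

Route (a simplification of the blueprint: no determination of `N(K) ∩ SU`, no `phi`): `K` contains a unitary element `u` of
order 11 (part f); by Sylow (`|SU_5(2)| = 2^10·3^5·5·11`) some `SU`-conjugate `σ = g s g⁻¹` of the explicit `s` lies in `K`.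
Let `S(σ) = {v | ∃ j ∈ [1,10], ∀ m < 11, f (v, σ^(j m) v) = c m}` (`c` = the profile of `e_5` for `s`).  `N(K) ∩ GU`
preserves `S(σ)` (it permutes the ten non-trivial 11-th roots of unity `σ^j` of the field `K`); `g w g⁻¹` preserves `S(σ)`
(kernel computation in part a) but does not normalise `K` (`w s w` does not commute with `s`); `g t g⁻¹ ∈ SU` does not preserve
`S(σ)`.  Hence `N(K) ∩ SU < Stab_SU(S(σ)) < SU`.
-/
import Cfsg.Agent.Lib.H11.UP5C3f
import Cfsg.Agent.Lib.H11.SylowCyc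
import Cfsg.Agent.Lib.H2.Unitary4
import Cfsg.Agent.Lib.H11.SuDec4
import Cfsg.Agent.Lib.H28.GLBasic

set_option autoImplicit false
set_option linter.unusedSectionVars false
set_option linter.style.haveILetI false

namespace Cfsg.Agent.Lib.H11.UP5

open Cfsg Cfsg.Geo
open scoped Matrix

variable {F : Type*} [Field F] [Fintype F]

theorem ordGU_val : Cfsg.Agent.Lib.H2.Unitary.ordGU 2 5 = 3 * 13685760 := by
  unfold Cfsg.Agent.Lib.H2.Unitary.ordGU
  decide

theorem card_G5 (hF : Fintype.card F = 2 ^ 2) :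
    Nat.card ↥(GU 5 F 2 ⊓ specialLinear (Fin 5) F) = 13685760 := by
  rw [Cfsg.Agent.Lib.H11.SuDec.card_GU_inf_SL]
  have h := Cfsg.Agent.Lib.H2.Unitary.card_SU_mul hF (n := 5) (by norm_num)
  rw [ordGU_val] at h
  omega

theorem factorization_eleven : (13685760 : ℕ).factorization 11 = 1 := by
  have h : (13685760 : ℕ) = 11 * 1244160 := by norm_num
  rw [h, Nat.factorization_mul (by norm_num) (by norm_num)]
  simp only [Finsupp.coe_add, Pi.add_apply]
  rw [Nat.Prime.factorization_self (by norm_num), Nat.factorization_eq_zero_of_not_dvd (by norm_num)]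

theorem det_eq_one_of_pow_eleven (hF : Fintype.card F = 4) (M : Matrix (Fin 5) (Fin 5) F) (h : M ^ 11 = 1) :
    M.det = 1 := by
  have h1 : M.det ^ 11 = 1 := by rw [← Matrix.det_pow, h, Matrix.det_one]
  have h0 : M.det ≠ 0 := by
    intro h0
    rw [h0] at h1
    simp at h1
  have h3 := pow_three_eq_one hF M.det h0
  exact (pow_eq_one_iff_of_coprime (by norm_num : Nat.Coprime 11 3)).1 ⟨h1, h3⟩

theorem det_eq_one_of_sq (hF : Fintype.card F = 4) (M : Matrix (Fin 5) (Fin 5) F) (h : M * M = 1) :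
    M.det = 1 := by
  have h1 : M.det ^ 2 = 1 := by rw [pow_two, ← Matrix.det_mul, h, Matrix.det_one]
  have h0 : M.det ≠ 0 := by
    intro h0
    rw [h0] at h1
    simp at h1
  have h3 := pow_three_eq_one hF M.det h0
  exact (pow_eq_one_iff_of_coprime (by norm_num : Nat.Coprime 2 3)).1 ⟨h1, h3⟩

theorem mem_G5 (g : GL (Fin 5) F) (h1 : IsUni (g : Matrix (Fin 5) (Fin 5) F))
    (h2 : (g : Matrix (Fin 5) (Fin 5) F).det = 1) : g ∈ GU 5 F 2 ⊓ specialLinear (Fin 5) F :=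
  ⟨h1, (Cfsg.Agent.Lib.H28.mem_specialLinear_iff g).2 h2⟩

theorem isUni_of_mem_GU {g : GL (Fin 5) F} (h : g ∈ GU 5 F 2) : IsUni (g : Matrix (Fin 5) (Fin 5) F) := h

/-- conjugating the set `S` -/
theorem inS_conj (g σ : GL (Fin 5) F) (hg : IsUni (g : Matrix (Fin 5) (Fin 5) F)) (c : ℕ → F) (v : Fin 5 → F) :
    InS ((g * σ * g⁻¹ : GL (Fin 5) F) : Matrix (Fin 5) (Fin 5) F) c ((g : Matrix (Fin 5) (Fin 5) F) *ᵥ v) ↔
      InS (σ : Matrix (Fin 5) (Fin 5) F) c v := by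
  have key : ∀ k : ℕ, ((g * σ * g⁻¹ : GL (Fin 5) F) : Matrix (Fin 5) (Fin 5) F) ^ k *ᵥ
      ((g : Matrix (Fin 5) (Fin 5) F) *ᵥ v) =
      (g : Matrix (Fin 5) (Fin 5) F) *ᵥ ((σ : Matrix (Fin 5) (Fin 5) F) ^ k *ᵥ v) := by
    intro k
    rw [← Units.val_pow_eq_pow_val, conj_pow, Matrix.mulVec_mulVec, Matrix.mulVec_mulVec, ← Units.val_pow_eq_pow_val,
      ← Units.val_mul, ← Units.val_mul]
    congr 2
    group
  unfold InS
  constructor
  · rintro ⟨j, hj, h⟩
    refine ⟨j, hj, fun m hm => ?_⟩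
    have := h m hm
    rwa [key, hg] at this
  · rintro ⟨j, hj, h⟩
    refine ⟨j, hj, fun m hm => ?_⟩
    rw [key, hg]
    exact h m hm

/-- the stabiliser of the set `S(σ)` -/
def stabOfS (σ : Matrix (Fin 5) (Fin 5) F) (c : ℕ → F) : Subgroup (GL (Fin 5) F) where
  carrier := {h | ∀ v, InS σ c v ↔ InS σ c ((h : Matrix (Fin 5) (Fin 5) F) *ᵥ v)}
  mul_mem' := by
    intro a b ha hb v
    rw [Units.val_mul, ← Matrix.mulVec_mulVec]
    exact (hb v).trans (ha _)
  one_mem' := by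
    intro v
    simp
  inv_mem' := by
    intro a ha v
    have := ha (((a⁻¹ : GL (Fin 5) F) : Matrix (Fin 5) (Fin 5) F) *ᵥ v)
    rw [Matrix.mulVec_mulVec, ← Units.val_mul, mul_inv_cancel, Units.val_one, Matrix.one_mulVec] at this
    exact this.symm

/-- **UP5-C3**. -/
theorem not_maximal_c3_su5_two (hF : Fintype.card F = 2 ^ 2) (K : Subalgebra F (Matrix (Fin 5) (Fin 5) F))
    (hK : IsFieldSubalgebra 5 K) (hac : IsAdjointClosedFor (hermForm 5 F 2) K) :
    ¬ IsMaximalIn (GU 5 F 2 ⊓ specialLinear (Fin 5) F)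
      (subalgebraNormalizer K ⊓ (GU 5 F 2 ⊓ specialLinear (Fin 5) F)) := by
  classical
  have hF4 : Fintype.card F = 4 := by rw [hF]; norm_num
  haveI := charP_two_of_card hF4
  have h4 := pow_four_eq hF4
  obtain ⟨C⟩ : Nonempty (Cert F) := ⟨cert hF4⟩
  -- the elements of `GL`
  set sG : GL (Fin 5) F := ⟨C.s, C.s ^ 10, by rw [← pow_succ', C.s_pow], by rw [← pow_succ, C.s_pow]⟩ with hsG_def
  set wG : GL (Fin 5) F := ⟨C.w, C.w, C.w_sq, C.w_sq⟩ with hwG_def
  set tG : GL (Fin 5) F := ⟨C.t, C.t, C.t_sq, C.t_sq⟩ with htG_def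
  have hsG : sG ∈ GU 5 F 2 ⊓ specialLinear (Fin 5) F :=
    mem_G5 sG C.s_uni (det_eq_one_of_pow_eleven hF4 _ C.s_pow)
  have hwG : wG ∈ GU 5 F 2 ⊓ specialLinear (Fin 5) F := mem_G5 wG C.w_uni (det_eq_one_of_sq hF4 _ C.w_sq)
  have htG : tG ∈ GU 5 F 2 ⊓ specialLinear (Fin 5) F := mem_G5 tG C.t_uni (det_eq_one_of_sq hF4 _ C.t_sq)
  -- the element of order 11 of `K`
  obtain ⟨u, huK, hu11, hu1, huct⟩ := exists_unitary_eleven hF4 K hK hac
  set uG : GL (Fin 5) F := ⟨u, u ^ 10, by rw [← pow_succ', hu11], by rw [← pow_succ, hu11]⟩ with huG_def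
  have huG : uG ∈ GU 5 F 2 ⊓ specialLinear (Fin 5) F :=
    mem_G5 uG (isUni_of_ct h4 u huct) (det_eq_one_of_pow_eleven hF4 u hu11)
  -- Sylow
  haveI : Fact (Nat.Prime 11) := ⟨by norm_num⟩
  have hcard : (Nat.card ↥(GU 5 F 2 ⊓ specialLinear (Fin 5) F)).factorization 11 = 1 := by
    rw [card_G5 hF, factorization_eleven]
  have hos : orderOf (⟨sG, hsG⟩ : ↥(GU 5 F 2 ⊓ specialLinear (Fin 5) F)) = 11 := by
    apply orderOf_eq_prime
    · apply Subtype.ext
      apply Units.ext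
      show (sG ^ 11 : GL (Fin 5) F).val = 1
      rw [Units.val_pow_eq_pow_val]
      exact C.s_pow
    · intro h
      apply C.s_ne
      have := congrArg (fun x : ↥(GU 5 F 2 ⊓ specialLinear (Fin 5) F) =>
        ((x : GL (Fin 5) F) : Matrix (Fin 5) (Fin 5) F)) h
      exact this
  have hou : orderOf (⟨uG, huG⟩ : ↥(GU 5 F 2 ⊓ specialLinear (Fin 5) F)) = 11 := by
    apply orderOf_eq_prime
    · apply Subtype.ext
      apply Units.ext
      show (uG ^ 11 : GL (Fin 5) F).val = 1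
      rw [Units.val_pow_eq_pow_val]
      exact hu11
    · intro h
      apply hu1
      have := congrArg (fun x : ↥(GU 5 F 2 ⊓ specialLinear (Fin 5) F) =>
        ((x : GL (Fin 5) F) : Matrix (Fin 5) (Fin 5) F)) h
      exact this
  obtain ⟨g, hg⟩ := Cfsg.Agent.Lib.H11.SylowCyc.exists_conj_mem_zpowers 11 hcard ⟨sG, hsG⟩ ⟨uG, huG⟩ hos hou
  rw [← mem_powers_iff_mem_zpowers, Submonoid.mem_powers_iff] at hg
  obtain ⟨n, hn⟩ := hg
  set gG : GL (Fin 5) F := (g : GL (Fin 5) F) with hgG_def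
  have hgG : gG ∈ GU 5 F 2 ⊓ specialLinear (Fin 5) F := g.2
  have hgU : IsUni (gG : Matrix (Fin 5) (Fin 5) F) := isUni_of_mem_GU hgG.1
  set σG : GL (Fin 5) F := gG * sG * gG⁻¹ with hσG_def
  set ωG : GL (Fin 5) F := gG * wG * gG⁻¹ with hωG_def
  set τG : GL (Fin 5) F := gG * tG * gG⁻¹ with hτG_def
  have hσval : (σG : Matrix (Fin 5) (Fin 5) F) = u ^ n := by
    have := congrArg (fun x : ↥(GU 5 F 2 ⊓ specialLinear (Fin 5) F) =>
      ((x : GL (Fin 5) F) : Matrix (Fin 5) (Fin 5) F)) hn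
    simp only [Subgroup.coe_mul, Subgroup.coe_pow, Subgroup.coe_inv, Units.val_pow_eq_pow_val] at this
    exact this.symm
  have hσK : (σG : Matrix (Fin 5) (Fin 5) F) ∈ K := by
    rw [hσval]
    exact K.pow_mem huK n
  have hσ11 : σG ^ 11 = 1 := by
    rw [hσG_def, conj_pow]
    have : sG ^ 11 = 1 := by
      apply Units.ext
      rw [Units.val_pow_eq_pow_val]
      exact C.s_pow
    rw [this]
    group
  have hσ1 : σG ≠ 1 := by
    intro h
    apply C.s_ne
    have h1 : sG = 1 := by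
      have : sG = gG⁻¹ * σG * gG := by rw [hσG_def]; group
      rw [this, h]
      group
    exact congrArg Units.val h1
  have hσord : orderOf σG = 11 := orderOf_eq_prime hσ11 hσ1
  have hωG : ωG ∈ GU 5 F 2 ⊓ specialLinear (Fin 5) F :=
    Subgroup.mul_mem _ (Subgroup.mul_mem _ hgG hwG) (Subgroup.inv_mem _ hgG)
  have hτG : τG ∈ GU 5 F 2 ⊓ specialLinear (Fin 5) F :=
    Subgroup.mul_mem _ (Subgroup.mul_mem _ hgG htG) (Subgroup.inv_mem _ hgG)
  -- the stabiliser of `S(σ)`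
  set stabS : Subgroup (GL (Fin 5) F) := stabOfS (σG : Matrix (Fin 5) (Fin 5) F) C.c with hstabS_def
  have hstab : ∀ h : GL (Fin 5) F, h ∈ stabS ↔ ∀ v, InS (σG : Matrix (Fin 5) (Fin 5) F) C.c v ↔
        InS (σG : Matrix (Fin 5) (Fin 5) F) C.c ((h : Matrix (Fin 5) (Fin 5) F) *ᵥ v) := fun h => Iff.rfl
  -- (E1) the normaliser of `K` preserves `S(σ)`
  have fwd : ∀ h ∈ subalgebraNormalizer K ⊓ (GU 5 F 2 ⊓ specialLinear (Fin 5) F), ∀ v,
      InS (σG : Matrix (Fin 5) (Fin 5) F) C.c v →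
        InS (σG : Matrix (Fin 5) (Fin 5) F) C.c ((h : Matrix (Fin 5) (Fin 5) F) *ᵥ v) := by
    rintro h ⟨hhN, hhG⟩ v ⟨j, hj, hv⟩
    have hhU : IsUni (h : Matrix (Fin 5) (Fin 5) F) := isUni_of_mem_GU hhG.1
    set ρG : GL (Fin 5) F := h * σG ^ (j + 1) * h⁻¹ with hρG_def
    have hρK : (ρG : Matrix (Fin 5) (Fin 5) F) ∈ K := by
      have h1 : ((σG ^ (j + 1) : GL (Fin 5) F) : Matrix (Fin 5) (Fin 5) F) ∈ K := by
        rw [Units.val_pow_eq_pow_val]
        exact K.pow_mem hσK _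
      have := (hhN _).1 h1
      rw [hρG_def, Units.val_mul, Units.val_mul]
      exact this
    have hρ11 : ρG ^ 11 = 1 := by
      rw [hρG_def, conj_pow, ← pow_mul, mul_comm, pow_mul, hσ11, one_pow]
      group
    have hρ1 : ρG ≠ 1 := by
      intro h1
      have h2 : σG ^ (j + 1) = 1 := by
        have : σG ^ (j + 1) = h⁻¹ * ρG * h := by rw [hρG_def]; group
        rw [this, h1]
        group
      have h3 := orderOf_dvd_of_pow_eq_one h2
      rw [hσord] at h3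
      have := Nat.le_of_dvd (by omega) h3
      omega
    -- inside the field `K`
    letI fld : Field ↥K := (Cfsg.Agent.Lib.H5.OP2.isField_of_isFieldSubalgebra 5 K hK).toField
    have hprim : IsPrimitiveRoot (⟨(σG : Matrix (Fin 5) (Fin 5) F), hσK⟩ : ↥K) 11 := by
      have h1 : orderOf (⟨(σG : Matrix (Fin 5) (Fin 5) F), hσK⟩ : ↥K) = 11 := by
        apply orderOf_eq_prime
        · apply Subtype.ext
          show (σG : Matrix (Fin 5) (Fin 5) F) ^ 11 = 1
          rw [← Units.val_pow_eq_pow_val, hσ11, Units.val_one]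
        · intro h1
          apply hσ1
          apply Units.ext
          exact congrArg Subtype.val h1
      rw [← h1]
      exact IsPrimitiveRoot.orderOf _
    have hρK11 : (⟨(ρG : Matrix (Fin 5) (Fin 5) F), hρK⟩ : ↥K) ^ 11 = 1 := by
      apply Subtype.ext
      show (ρG : Matrix (Fin 5) (Fin 5) F) ^ 11 = 1
      rw [← Units.val_pow_eq_pow_val, hρ11, Units.val_one]
    obtain ⟨i, hi, hiρ⟩ := hprim.eq_pow_of_pow_eq_one hρK11
    have hiρ' : (σG : Matrix (Fin 5) (Fin 5) F) ^ i = (ρG : Matrix (Fin 5) (Fin 5) F) := congrArg Subtype.val hiρ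
    have hi0 : i ≠ 0 := by
      rintro rfl
      apply hρ1
      apply Units.ext
      rw [← hiρ', pow_zero, Units.val_one]
    obtain ⟨j', rfl⟩ : ∃ j', i = j' + 1 := ⟨i - 1, by omega⟩
    refine ⟨j', by omega, fun m hm => ?_⟩
    have hσ11' : (σG : Matrix (Fin 5) (Fin 5) F) ^ 11 = 1 := by
      rw [← Units.val_pow_eq_pow_val, hσ11, Units.val_one]
    have e1 : (σG : Matrix (Fin 5) (Fin 5) F) ^ (((j' + 1) * m) % 11) =
        ((h * σG ^ ((j + 1) * m) * h⁻¹ : GL (Fin 5) F) : Matrix (Fin 5) (Fin 5) F) := by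
      rw [← pow_eq_pow_mod _ hσ11', pow_mul, hiρ', ← Units.val_pow_eq_pow_val, hρG_def, conj_pow, ← pow_mul]
    have e2 : ((h * σG ^ ((j + 1) * m) * h⁻¹ : GL (Fin 5) F) : Matrix (Fin 5) (Fin 5) F) *ᵥ
        ((h : Matrix (Fin 5) (Fin 5) F) *ᵥ v) =
        (h : Matrix (Fin 5) (Fin 5) F) *ᵥ ((σG : Matrix (Fin 5) (Fin 5) F) ^ (((j + 1) * m) % 11) *ᵥ v) := by
      rw [← pow_eq_pow_mod _ hσ11', Matrix.mulVec_mulVec, Matrix.mulVec_mulVec, ← Units.val_pow_eq_pow_val,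
        ← Units.val_mul, ← Units.val_mul]
      congr 2
      group
    rw [e1, e2, hhU]
    exact hv m hm
  have hE1 : subalgebraNormalizer K ⊓ (GU 5 F 2 ⊓ specialLinear (Fin 5) F) ≤
      stabS ⊓ (GU 5 F 2 ⊓ specialLinear (Fin 5) F) := by
    intro h hh
    refine ⟨(hstab h).2 ?_, hh.2⟩
    intro v
    constructor
    · exact fwd h hh v
    · intro hv
      have := fwd h⁻¹ (Subgroup.inv_mem _ hh) _ hv
      rwa [Matrix.mulVec_mulVec, ← Units.val_mul, inv_mul_cancel, Units.val_one, Matrix.one_mulVec] at this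
  -- (E2) `τ` does not preserve `S(σ)`
  have hE2 : τG ∉ stabS := by
    intro hτ
    obtain ⟨v₀, hv₀, hv₀'⟩ := C.t_move
    have h1 := (hτ ((gG : Matrix (Fin 5) (Fin 5) F) *ᵥ v₀)).1 ((inS_conj gG sG hgU C.c v₀).2 hv₀)
    have h2 : (τG : Matrix (Fin 5) (Fin 5) F) *ᵥ ((gG : Matrix (Fin 5) (Fin 5) F) *ᵥ v₀) =
        (gG : Matrix (Fin 5) (Fin 5) F) *ᵥ (C.t *ᵥ v₀) := by
      rw [Matrix.mulVec_mulVec, Matrix.mulVec_mulVec, ← Units.val_mul]
      have : τG * gG = gG * tG := by rw [hτG_def]; group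
      rw [this, Units.val_mul]
    rw [h2] at h1
    exact hv₀' ((inS_conj gG sG hgU C.c _).1 h1)
  -- (E3) `ω` preserves `S(σ)` and does not normalise `K`
  have hω_fwd : ∀ v, InS (σG : Matrix (Fin 5) (Fin 5) F) C.c v →
      InS (σG : Matrix (Fin 5) (Fin 5) F) C.c ((ωG : Matrix (Fin 5) (Fin 5) F) *ᵥ v) := by
    intro v hv
    obtain ⟨v₀, rfl⟩ : ∃ v₀, v = (gG : Matrix (Fin 5) (Fin 5) F) *ᵥ v₀ :=
      ⟨((gG⁻¹ : GL (Fin 5) F) : Matrix (Fin 5) (Fin 5) F) *ᵥ v, by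
        rw [Matrix.mulVec_mulVec, ← Units.val_mul, mul_inv_cancel, Units.val_one, Matrix.one_mulVec]⟩
    have h1 := C.w_stab v₀ ((inS_conj gG sG hgU C.c v₀).1 hv)
    have h2 : (ωG : Matrix (Fin 5) (Fin 5) F) *ᵥ ((gG : Matrix (Fin 5) (Fin 5) F) *ᵥ v₀) =
        (gG : Matrix (Fin 5) (Fin 5) F) *ᵥ (C.w *ᵥ v₀) := by
      rw [Matrix.mulVec_mulVec, Matrix.mulVec_mulVec, ← Units.val_mul]
      have : ωG * gG = gG * wG := by rw [hωG_def]; group
      rw [this, Units.val_mul]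
    rw [h2]
    exact (inS_conj gG sG hgU C.c _).2 h1
  have hωsq : ωG * ωG = 1 := by
    have hw : wG * wG = 1 := Units.ext C.w_sq
    have : ωG * ωG = gG * (wG * wG) * gG⁻¹ := by rw [hωG_def]; group
    rw [this, hw]
    group
  have hE3 : ωG ∈ stabS := by
    rw [hstab]
    intro v
    constructor
    · exact hω_fwd v
    · intro hv
      have := hω_fwd _ hv
      rwa [Matrix.mulVec_mulVec, ← Units.val_mul, hωsq, Units.val_one, Matrix.one_mulVec] at this
  have hE3' : ωG ∉ subalgebraNormalizer K := by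
    intro hω
    have h1 : ((ωG : Matrix (Fin 5) (Fin 5) F) * (σG : Matrix (Fin 5) (Fin 5) F) *
        ((ωG⁻¹ : GL (Fin 5) F) : Matrix (Fin 5) (Fin 5) F)) ∈ K := (hω _).1 hσK
    have h2 := hK.comm _ h1 _ hσK
    have h3 : (ωG * σG * ωG⁻¹) * σG = σG * (ωG * σG * ωG⁻¹) := by
      apply Units.ext
      simp only [Units.val_mul]
      exact h2
    have h4 : (wG * sG * wG⁻¹) * sG = sG * (wG * sG * wG⁻¹) := by
      have e1 : (wG * sG * wG⁻¹) * sG = gG⁻¹ * ((ωG * σG * ωG⁻¹) * σG) * gG := by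
        rw [hωG_def, hσG_def]; group
      have e2 : sG * (wG * sG * wG⁻¹) = gG⁻¹ * (σG * (ωG * σG * ωG⁻¹)) * gG := by
        rw [hωG_def, hσG_def]; group
      rw [e1, e2, h3]
    apply C.not_comm
    have := congrArg Units.val h4
    simp only [Units.val_mul] at this
    exact this
  -- conclusion
  rintro ⟨-, hmax⟩
  rcases hmax (stabS ⊓ (GU 5 F 2 ⊓ specialLinear (Fin 5) F)) hE1 inf_le_right with h | h
  · have : ωG ∈ stabS ⊓ (GU 5 F 2 ⊓ specialLinear (Fin 5) F) := ⟨hE3, hωG⟩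
    rw [h] at this
    exact hE3' this.1
  · have : τG ∈ stabS ⊓ (GU 5 F 2 ⊓ specialLinear (Fin 5) F) := by
      rw [h]
      exact hτG
    exact hE2 this.1

end Cfsg.Agent.Lib.H11.UP5
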