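import Cfsg.Agent.Lib.H11.SimMax3
import Cfsg.Agent.S0755

/-!
Maximality of the similarity group of a unitary form in `SL_n(F)`: basic facts about
Hermitian forms given as functions.
-/

set_option autoImplicit false
set_option linter.unusedSimpArgs false
set_option linter.unusedSectionVars false
set_option linter.unusedVariables false

namespace Cfsg.Agent.Lib.H11.UniMax

open Matrix Module
open Cfsg.Agent.Lib.H28 Cfsg.Agent.Lib.H11.SubspMax

variable {ι : Type} [Fintype ι] [DecidableEq ι] {F : Type*} [Field F]
variable {σ : F ≃+* F} {f : (ι → F) → (ι → F) → F}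

section herm
variable (hf : Cfsg.Geo.IsUnitaryForm σ f)
include hf

theorem f_add_right (v x y : ι → F) : f v (x + y) = f v x + f v y := by
  rw [hf.herm, hf.add_left, map_add, ← hf.herm, ← hf.herm]

theorem f_smul_right (c : F) (v x : ι → F) : f v (c • x) = σ c * f v x := by
  rw [hf.herm, hf.smul_left, map_mul, ← hf.herm]

theorem f_zero_left (x : ι → F) : f 0 x = 0 := by
  have := hf.smul_left 0 0 x; simpa using this

theorem f_zero_right (x : ι → F) : f x 0 = 0 := by
  have := f_smul_right hf 0 x 0; simpa using this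

theorem f_neg_left (x y : ι → F) : f (-x) y = - f x y := by
  have := hf.smul_left (-1) x y; simpa using this

theorem f_neg_right (x y : ι → F) : f x (-y) = - f x y := by
  have := f_smul_right hf (-1) x y; simpa using this

theorem f_sub_left (x y z : ι → F) : f (x - y) z = f x z - f y z := by
  rw [sub_eq_add_neg, hf.add_left, f_neg_left hf, ← sub_eq_add_neg]

theorem f_sub_right (x y z : ι → F) : f x (y - z) = f x y - f x z := by
  rw [sub_eq_add_neg, f_add_right hf, f_neg_right hf, ← sub_eq_add_neg]

theorem f_self_fixed (x : ι → F) : σ (f x x) = f x x := (hf.herm x x).symm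

theorem f_symm_zero {x y : ι → F} (h : f x y = 0) : f y x = 0 := by
  rw [hf.herm, h, map_zero]

theorem f_symm_ne {x y : ι → F} (h : f x y ≠ 0) : f y x ≠ 0 := fun h0 => h (f_symm_zero hf h0)

/-! ### field facts -/

theorem exists_not_fixed : ∃ θ : F, σ θ ≠ θ := by
  by_contra hcon
  push Not at hcon
  apply hf.ne_refl
  ext x
  exact hcon x

/-- a nonzero trace-zero element -/
theorem exists_skew : ∃ c : F, c ≠ 0 ∧ σ c = -c := by
  obtain ⟨θ, hθ⟩ := exists_not_fixed hf
  refine ⟨θ - σ θ, ?_, ?_⟩
  · intro h
    exact hθ (sub_eq_zero.1 h).symm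
  · rw [map_sub, hf.involutive]; ring

/-- the trace is onto the fixed field -/
theorem exists_trace (b : F) (hb : σ b = b) : ∃ a : F, a + σ a = b := by
  obtain ⟨θ, hθ⟩ : ∃ θ : F, θ + σ θ ≠ 0 := by
    obtain ⟨θ, hθ⟩ := exists_not_fixed hf
    by_cases h1 : θ + σ θ = 0
    · refine ⟨1, ?_⟩
      rw [map_one]
      intro h2
      apply hθ
      have h3 : σ θ = -θ := by linear_combination h1
      have h4 : (2 : F) = 0 := by linear_combination h2
      rw [h3]
      have : θ * 2 = 0 := by rw [h4, mul_zero]
      linear_combination -this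
    · exact ⟨θ, h1⟩
  have hfix : σ (θ + σ θ) = θ + σ θ := by
    rw [map_add, hf.involutive]; ring
  refine ⟨b / (θ + σ θ) * θ, ?_⟩
  rw [map_mul, map_div₀, hb, hfix]
  field_simp

/-- the norm is onto the fixed field -/
theorem exists_norm [Finite F] (a : F) (ha : a ≠ 0) (hfix : σ a = a) :
    ∃ μ : F, μ * σ μ = a := by
  have hne : (σ : F →+* F) ≠ RingHom.id F := by
    intro h
    apply hf.ne_refl
    ext x
    have := RingHom.congr_fun h x
    simpa using this
  obtain ⟨μ, hμ⟩ := Cfsg.Agent.S0755.exists_sigma_norm_eq (σ : F →+* F) hne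
    (fun a => hf.involutive a) a ha hfix
  exact ⟨μ, by rw [mul_comm]; exact hμ⟩

end herm

end Cfsg.Agent.Lib.H11.UniMax
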