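import Cfsg.Agent.Lib.H11.UniMax1

set_option autoImplicit false
set_option linter.unusedSimpArgs false
set_option linter.unusedSectionVars false
set_option linter.unusedVariables false

namespace Cfsg.Agent.Lib.H11.UniMax

open Matrix Module
open Cfsg.Agent.Lib.H28 Cfsg.Agent.Lib.H11.SubspMax

variable {ι : Type} [Fintype ι] [DecidableEq ι] {F : Type*} [Field F]
variable {σ : F ≃+* F} {f : (ι → F) → (ι → F) → F}

/-- the functional `x ↦ f x v` -/
noncomputable def fr (hf : Cfsg.Geo.IsUnitaryForm σ f) (v : ι → F) : Dual F (ι → F) where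
  toFun x := f x v
  map_add' x y := hf.add_left x y v
  map_smul' c x := by simp [hf.smul_left]

section herm
variable (hf : Cfsg.Geo.IsUnitaryForm σ f)
include hf

theorem fr_apply (v x : ι → F) : fr hf v x = f x v := rfl

theorem fr_add (v w : ι → F) : fr hf (v + w) = fr hf v + fr hf w := by
  apply LinearMap.ext; intro x
  simp [fr_apply, f_add_right hf]

theorem fr_sub (v w : ι → F) : fr hf (v - w) = fr hf v - fr hf w := by
  apply LinearMap.ext; intro x
  simp [fr_apply, f_sub_right hf]

theorem fr_smul (c : F) (v : ι → F) : fr hf (c • v) = σ c • fr hf v := by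
  apply LinearMap.ext; intro x
  simp [fr_apply, f_smul_right hf]

theorem fr_zero : fr hf (0 : ι → F) = 0 := by
  apply LinearMap.ext; intro x
  simp [fr_apply, f_zero_right hf]

theorem fr_injective {v w : ι → F} (h : fr hf v = fr hf w) : v = w := by
  by_contra hne
  have hne' : v - w ≠ 0 := sub_ne_zero.2 hne
  obtain ⟨⟨x, hx⟩, -⟩ := hf.nondegenerate _ hne'
  apply hx
  have := LinearMap.congr_fun h x
  rw [fr_apply, fr_apply] at this
  rw [f_sub_right hf, this, sub_self]

theorem exists_fr [Finite F] (φ : Dual F (ι → F)) : ∃ z, φ = fr hf z := by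
  have e : (ι → F) ≃ₗ[F] Dual F (ι → F) := (Pi.basisFun F ι).toDualEquiv
  have : Finite (Dual F (ι → F)) := Finite.of_equiv _ e.toEquiv
  have hinj : Function.Injective (fr hf) := fun v w h => fr_injective hf h
  have hcard : Nat.card (Dual F (ι → F)) ≤ Nat.card (ι → F) :=
    le_of_eq (Nat.card_congr e.toEquiv.symm)
  obtain ⟨z, hz⟩ := (hinj.bijective_of_nat_card_le hcard).2 φ
  exact ⟨z, hz.symm⟩

/-- duality: a vector outside a subspace is separated from it -/
theorem exists_perp_ne [Finite F] (U : Submodule F (ι → F)) (x : ι → F) (hx : x ∉ U) :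
    ∃ p, (∀ u ∈ U, f u p = 0) ∧ f x p ≠ 0 := by
  obtain ⟨φ, hφx, hφU⟩ := Submodule.exists_le_ker_of_notMem hx
  obtain ⟨p, rfl⟩ := exists_fr hf φ
  refine ⟨p, fun u hu => ?_, hφx⟩
  have := hφU hu
  rwa [LinearMap.mem_ker, fr_apply] at this

theorem exists_perp_ne_single [Finite F] (z u : ι → F) (h : ∀ c : F, u ≠ c • z) :
    ∃ p, f p z = 0 ∧ f u p ≠ 0 := by
  have hu : u ∉ Submodule.span F {z} := by
    rw [Submodule.mem_span_singleton]
    rintro ⟨c, hc⟩
    exact h c hc.symm
  obtain ⟨p, hp1, hp2⟩ := exists_perp_ne hf _ u hu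
  exact ⟨p, f_symm_zero hf (hp1 z (Submodule.mem_span_singleton_self z)), hp2⟩

/-- pick a vector orthogonal to finitely many vectors and outside a small subspace -/
theorem exists_perp_notMem {k : ℕ} (vs : Fin k → ι → F) (U : Submodule F (ι → F))
    (h : finrank F U + k < Fintype.card ι) : ∃ x, (∀ i, f x (vs i) = 0) ∧ x ∉ U := by
  by_contra hcon
  push Not at hcon
  obtain ⟨L, hL⟩ : ∃ L : (ι → F) →ₗ[F] (Fin k → F), L = LinearMap.pi (fun i => fr hf (vs i)) :=
    ⟨_, rfl⟩
  have hle : LinearMap.ker L ≤ U := by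
    intro x hx
    apply hcon
    intro i
    rw [LinearMap.mem_ker, hL] at hx
    have := congrFun hx i
    simpa [fr_apply] using this
  have h1 := LinearMap.finrank_range_add_finrank_ker L
  have h2 : finrank F (LinearMap.range L) ≤ k := by
    have := Submodule.finrank_le (LinearMap.range L)
    rwa [Module.finrank_fintype_fun_eq_card, Fintype.card_fin] at this
  have h3 := Submodule.finrank_mono hle
  rw [Module.finrank_fintype_fun_eq_card] at h1
  omega

/-- the trace trick: moving along an isotropic vector to reach a prescribed norm -/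
theorem exists_norm_add (x p : ι → F) (hx : f x x = 0) (hxp : f x p ≠ 0) (d : F) (hd : σ d = d) :
    ∃ c : F, f (p + c • x) (p + c • x) = d := by
  have hfix : σ (d - f p p) = d - f p p := by rw [map_sub, hd, f_self_fixed hf]
  obtain ⟨a, ha⟩ := exists_trace hf (d - f p p) hfix
  have h1 : a / f x p * f x p = a := div_mul_cancel₀ _ hxp
  have h2 : σ (a / f x p) * f p x = σ a := by
    rw [hf.herm p x, ← map_mul, h1]
  refine ⟨a / f x p, ?_⟩
  rw [hf.add_left, f_add_right hf, f_add_right hf, hf.smul_left, hf.smul_left, f_smul_right hf,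
    f_smul_right hf, hx]
  linear_combination h1 + h2 + ha

/-- an isotropic vector orthogonal to finitely many vectors and outside a small subspace -/
theorem exists_iso_perp_notMem [Finite F] {k : ℕ} (vs : Fin k → ι → F) (U : Submodule F (ι → F))
    (h : finrank F U + k + 3 ≤ Fintype.card ι) :
    ∃ x, f x x = 0 ∧ (∀ i, f x (vs i) = 0) ∧ x ∉ U := by
  obtain ⟨x1, hx1, hx1U⟩ := exists_perp_notMem hf vs U (by omega)
  by_cases h1 : f x1 x1 = 0
  · exact ⟨x1, h1, hx1, hx1U⟩
  have hU' : finrank F ↥(U ⊔ Submodule.span F {x1}) ≤ finrank F U + 1 := by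
    have := Submodule.finrank_add_le_finrank_add_finrank U (Submodule.span F {x1})
    have h2 : finrank F (Submodule.span F {x1}) ≤ 1 := by
      have := finrank_span_le_card (R := F) ({x1} : Set (ι → F))
      simpa using this
    omega
  obtain ⟨x2, hx2, hx2U⟩ := exists_perp_notMem hf (Matrix.vecCons x1 vs)
    (U ⊔ Submodule.span F {x1}) (by omega)
  have hx21 : f x2 x1 = 0 := by simpa using hx2 0
  have hx2vs : ∀ i, f x2 (vs i) = 0 := by
    intro i
    simpa using hx2 i.succ
  have hx2U' : x2 ∉ U := fun hmem => hx2U (Submodule.mem_sup_left hmem)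
  by_cases h2 : f x2 x2 = 0
  · exact ⟨x2, h2, hx2vs, hx2U'⟩
  have hfix : σ (-(f x1 x1) / f x2 x2) = -(f x1 x1) / f x2 x2 := by
    rw [map_div₀, map_neg, f_self_fixed hf, f_self_fixed hf]
  have hne : -(f x1 x1) / f x2 x2 ≠ 0 := div_ne_zero (neg_ne_zero.2 h1) h2
  obtain ⟨μ, hμ⟩ := exists_norm hf _ hne hfix
  have hμ0 : μ ≠ 0 := by
    rintro rfl
    rw [zero_mul] at hμ
    exact hne hμ.symm
  refine ⟨x1 + μ • x2, ?_, ?_, ?_⟩
  · rw [hf.add_left, f_add_right hf, f_add_right hf, hf.smul_left, hf.smul_left,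
      f_smul_right hf, f_smul_right hf, hx21, f_symm_zero hf hx21]
    have : μ * σ μ * f x2 x2 = -(f x1 x1) := by
      rw [hμ]; field_simp
    linear_combination this
  · intro i
    rw [hf.add_left, hf.smul_left, hx1 i, hx2vs i, mul_zero, add_zero]
  · intro hmem
    apply hx2U
    have : x2 = μ⁻¹ • (x1 + μ • x2) - μ⁻¹ • x1 := by
      rw [smul_add, smul_smul, inv_mul_cancel₀ hμ0, one_smul]; abel
    rw [this]
    apply Submodule.sub_mem
    · exact Submodule.smul_mem _ _ (Submodule.mem_sup_left hmem)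
    · exact Submodule.smul_mem _ _
        (Submodule.mem_sup_right (Submodule.mem_span_singleton_self x1))

/-- a hyperbolic pair orthogonal to finitely many vectors -/
theorem exists_hyp [Finite F] {k : ℕ} (vs : Fin k → ι → F) (h : 2 * k + 3 ≤ Fintype.card ι) :
    ∃ x y, f x x = 0 ∧ f y y = 0 ∧ f x y = 1 ∧ (∀ i, f x (vs i) = 0) ∧ (∀ i, f y (vs i) = 0) := by
  have hU : finrank F (Submodule.span F (Set.range vs)) ≤ k := by
    have := finrank_range_le_card (R := F) vs
    simpa [Set.finrank] using this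
  obtain ⟨x, hxx, hxvs, hxU⟩ := exists_iso_perp_notMem hf vs (Submodule.span F (Set.range vs))
    (by omega)
  obtain ⟨p, hpU, hxp⟩ := exists_perp_ne hf _ x hxU
  obtain ⟨c, hc⟩ := exists_norm_add hf x p hxx hxp 0 (map_zero σ)
  have hpvs : ∀ i, f p (vs i) = 0 := fun i =>
    f_symm_zero hf (hpU (vs i) (Submodule.subset_span ⟨i, rfl⟩))
  have he : f x (p + c • x) = f x p := by
    rw [f_add_right hf, f_smul_right hf, hxx, mul_zero, add_zero]
  have hσe : σ (f x p) ≠ 0 := by
    intro h0
    apply hxp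
    have := congrArg σ h0
    rw [hf.involutive, map_zero] at this
    exact this
  refine ⟨x, (σ (f x p))⁻¹ • (p + c • x), hxx, ?_, ?_, hxvs, ?_⟩
  · rw [hf.smul_left, f_smul_right hf, hc, mul_zero, mul_zero]
  · rw [f_smul_right hf, he, map_inv₀, hf.involutive, inv_mul_cancel₀ hxp]
  · intro i
    rw [hf.smul_left, hf.add_left, hf.smul_left, hpvs i, hxvs i, mul_zero, add_zero, mul_zero]

/-- every fixed scalar is the norm of a vector orthogonal to finitely many vectors -/
theorem exists_perp_norm [Finite F] {k : ℕ} (vs : Fin k → ι → F)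
    (h : 2 * k + 3 ≤ Fintype.card ι) (d : F) (hd : σ d = d) :
    ∃ y, f y y = d ∧ ∀ i, f y (vs i) = 0 := by
  obtain ⟨x, y, hxx, hyy, hxy, hxvs, hyvs⟩ := exists_hyp hf vs h
  obtain ⟨a, ha⟩ := exists_trace hf d hd
  have hyx : f y x = 1 := by rw [hf.herm, hxy, map_one]
  refine ⟨x + a • y, ?_, ?_⟩
  · rw [hf.add_left, f_add_right hf, f_add_right hf, hf.smul_left, hf.smul_left,
      f_smul_right hf, f_smul_right hf, hxx, hyy, hxy, hyx]
    linear_combination ha
  · intro i
    rw [hf.add_left, hf.smul_left, hxvs i, hyvs i, mul_zero, add_zero]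

/-- an isotropic vector orthogonal to `z` and not orthogonal to `u` -/
theorem exists_iso_perp_ne [Finite F] (hn : 9 ≤ Fintype.card ι) (z u : ι → F)
    (h : ∀ c : F, u ≠ c • z) : ∃ w, f w w = 0 ∧ f w z = 0 ∧ f u w ≠ 0 := by
  obtain ⟨p, hpz, hup⟩ := exists_perp_ne_single hf z u h
  have hfix : σ (-(f p p)) = -(f p p) := by rw [map_neg, f_self_fixed hf]
  obtain ⟨y, hyy, hyvs⟩ := exists_perp_norm hf ![z, u, p] (by simpa using hn) _ hfix
  have hyz : f y z = 0 := by simpa using hyvs 0
  have hyu : f y u = 0 := by simpa using hyvs 1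
  have hyp : f y p = 0 := by simpa using hyvs 2
  refine ⟨p + y, ?_, ?_, ?_⟩
  · rw [hf.add_left, f_add_right hf, f_add_right hf, hyy, hyp, f_symm_zero hf hyp]
    ring
  · rw [hf.add_left, hpz, hyz, add_zero]
  · rw [f_add_right hf, f_symm_zero hf hyu, add_zero]
    exact hup

end herm

end Cfsg.Agent.Lib.H11.UniMax
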