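import Cfsg.Agent.Lib.H11.UniMax2

set_option autoImplicit false
set_option linter.unusedSimpArgs false
set_option linter.unusedSectionVars false
set_option linter.unusedVariables false

namespace Cfsg.Agent.Lib.H11.UniMax

open Matrix Module
open Cfsg.Agent.Lib.H28 Cfsg.Agent.Lib.H11.SubspMax Cfsg.Agent.Lib.H11.SimMax

variable {ι : Type} [Fintype ι] [DecidableEq ι] {F : Type*} [Field F]
variable {σ : F ≃+* F} {f : (ι → F) → (ι → F) → F}

theorem tvGL_congr {φ φ' : Dual F (ι → F)} {u u' : ι → F} (h : φ u = 0) (h' : φ' u' = 0)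
    (e1 : φ = φ') (e2 : u = u') : tvGL φ u h = tvGL φ' u' h' := by
  subst e1; subst e2; rfl

theorem tvGL_zero_centre (φ : Dual F (ι → F)) (h : φ (0 : ι → F) = 0) : tvGL φ 0 h = 1 := by
  apply gl_ext
  intro x
  rw [tvGL_mulVec, smul_zero, add_zero, Units.val_one, Matrix.one_mulVec]

theorem tvGL_smul_centre (φ : Dual F (ι → F)) (a : F) (u : ι → F) (h : φ (a • u) = 0)
    (h' : (a • φ) u = 0) : tvGL φ (a • u) h = tvGL (a • φ) u h' := by
  apply gl_ext
  intro x
  rw [tvGL_mulVec, tvGL_mulVec, LinearMap.smul_apply, smul_smul, smul_eq_mul, mul_comm]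

theorem tvGL_add_centre (φ : Dual F (ι → F)) (u u' : ι → F) (h : φ u = 0) (h' : φ u' = 0)
    (h'' : φ (u + u') = 0) : tvGL φ (u + u') h'' = tvGL φ u h * tvGL φ u' h' := by
  apply gl_ext
  intro x
  rw [gl_mul_mulVec, tvGL_mulVec, tvGL_mulVec, tvGL_mulVec, map_add, map_smul, h', smul_zero,
    add_zero, smul_add]
  abel

section herm
variable (hf : Cfsg.Geo.IsUnitaryForm σ f)
include hf

theorem τ_aux (v : ι → F) (c : F) (hv : f v v = 0) : (c • fr hf v) v = 0 := by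
  rw [LinearMap.smul_apply, fr_apply, hv, smul_zero]

/-- the unitary transvection `x ↦ x + (c * f x v) • v` for isotropic `v` -/
noncomputable def τ (v : ι → F) (c : F) (hv : f v v = 0) : GL ι F :=
  tvGL (c • fr hf v) v (τ_aux hf v c hv)

theorem τ_mulVec (v : ι → F) (c : F) (hv : f v v = 0) (x : ι → F) :
    ((τ hf v c hv : GL ι F) : Matrix ι ι F) *ᵥ x = x + (c * f x v) • v := by
  unfold τ
  rw [tvGL_mulVec]
  simp [fr_apply]

theorem τ_mem_sl (v : ι → F) (c : F) (hv : f v v = 0) :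
    τ hf v c hv ∈ Cfsg.Geo.specialLinear ι F :=
  tvGL_mem_specialLinear _ _ _

theorem τ_mem_sim (v : ι → F) (c : F) (hv : f v v = 0) (hc : σ c = -c) :
    τ hf v c hv ∈ Cfsg.Geo.similarityGroup f := by
  refine ⟨1, fun x y => ?_⟩
  have h1 : σ (f y v) = f v y := (hf.herm v y).symm
  rw [τ_mulVec, τ_mulVec, Units.val_one, one_mul]
  rw [hf.add_left, f_add_right hf, f_add_right hf, hf.smul_left, hf.smul_left,
    f_smul_right hf, f_smul_right hf, hv, map_mul, hc, h1]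
  ring

theorem τ_mem (v : ι → F) (c : F) (hv : f v v = 0) (hc : σ c = -c) :
    τ hf v c hv ∈ Cfsg.Geo.similarityGroup f ⊓ Cfsg.Geo.specialLinear ι F :=
  ⟨τ_mem_sim hf v c hv hc, τ_mem_sl hf v c hv⟩

theorem τ_fix (v : ι → F) (c : F) (hv : f v v = 0) (x : ι → F) (hx : f x v = 0) :
    ((τ hf v c hv : GL ι F) : Matrix ι ι F) *ᵥ x = x := by
  rw [τ_mulVec, hx, mul_zero, zero_smul, add_zero]

theorem τ_inv (v : ι → F) (c : F) (hv : f v v = 0) : (τ hf v c hv)⁻¹ = τ hf v (-c) hv := by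
  rw [inv_eq_iff_mul_eq_one]
  apply gl_ext
  intro x
  rw [gl_mul_mulVec, τ_mulVec, τ_mulVec, Units.val_one, Matrix.one_mulVec,
    hf.add_left, hf.smul_left, hv]
  rw [add_assoc, ← add_smul]
  have : (-c * f x v + c * (f x v + (-c * f x v) * 0)) = 0 := by ring
  rw [this, zero_smul, add_zero]

/-- the pulled back functional `x ↦ f (h⁻¹ x) v` -/
noncomputable def ψ (h : GL ι F) (v : ι → F) : Dual F (ι → F) :=
  (fr hf v).comp (Matrix.toLin' ((h⁻¹ : GL ι F) : Matrix ι ι F))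

theorem ψ_apply (h : GL ι F) (v x : ι → F) :
    ψ hf h v x = f (((h⁻¹ : GL ι F) : Matrix ι ι F) *ᵥ x) v := by
  unfold ψ
  rw [LinearMap.comp_apply, Matrix.toLin'_apply, fr_apply]

theorem ψ_self (h : GL ι F) (v : ι → F) (hv : f v v = 0) (c : F) :
    (c • ψ hf h v) ((h : Matrix ι ι F) *ᵥ v) = 0 := by
  rw [LinearMap.smul_apply, ψ_apply, gl_inv_mulVec, hv, smul_zero]

/-- conjugating a unitary transvection -/
theorem conj_τ (h : GL ι F) (v : ι → F) (c : F) (hv : f v v = 0) :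
    h * τ hf v c hv * h⁻¹ =
      tvGL (c • ψ hf h v) ((h : Matrix ι ι F) *ᵥ v) (ψ_self hf h v hv c) := by
  apply gl_ext
  intro x
  rw [gl_mul_mulVec, gl_mul_mulVec, τ_mulVec, tvGL_mulVec, Matrix.mulVec_add, Matrix.mulVec_smul,
    gl_mulVec_inv, LinearMap.smul_apply, ψ_apply, smul_eq_mul]

/-- second operation: from `φ ∈ Tset M u` and isotropic `y ⊥ u` get `(c * φ y) • fr y ∈ Tset M u` -/
theorem Tset_op2 (M : Subgroup (GL ι F))
    (hNM : Cfsg.Geo.similarityGroup f ⊓ Cfsg.Geo.specialLinear ι F ≤ M)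
    (u : ι → F) {φ : Dual F (ι → F)} (h : φ ∈ Tset M u) (y : ι → F) (hy : f y y = 0)
    (huy : f u y = 0) (c : F) (hc : σ c = -c) :
    (c * φ y) • fr hf y ∈ Tset M u := by
  have hg : τ hf y c hy ∈ M := hNM (τ_mem hf y c hy hc)
  have hgu : ((τ hf y c hy : GL ι F) : Matrix ι ι F) *ᵥ u = u := τ_fix hf y c hy u huy
  have h2 := Tset_conj M u h (τ hf y c hy) hg hgu
  have h3 := Tset_sub M u h h2
  have : φ - φ.comp (Matrix.toLin' (((τ hf y c hy)⁻¹ : GL ι F) : Matrix ι ι F)) =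
      (c * φ y) • fr hf y := by
    apply LinearMap.ext
    intro x
    rw [LinearMap.sub_apply, LinearMap.comp_apply, Matrix.toLin'_apply, τ_inv, τ_mulVec,
      map_add, map_smul, LinearMap.smul_apply, fr_apply, smul_eq_mul, smul_eq_mul]
    ring
  rw [this] at h3
  exact h3

/-- first operation: from `φ ∈ Tset M u` and isotropic `w` with `φ w = 0` get
`(c * f u w) • φ ∈ Tset M w` -/
theorem Tset_op1 (M : Subgroup (GL ι F))
    (hNM : Cfsg.Geo.similarityGroup f ⊓ Cfsg.Geo.specialLinear ι F ≤ M)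
    (u : ι → F) {φ : Dual F (ι → F)} (h : φ ∈ Tset M u) (w : ι → F) (hw : f w w = 0)
    (hφw : φ w = 0) (c : F) (hc : σ c = -c) :
    (c * f u w) • φ ∈ Tset M w := by
  obtain ⟨h1, h2⟩ := h
  have hg : τ hf w c hw ∈ M := hNM (τ_mem hf w c hw hc)
  have h' : ((c * f u w) • φ) w = 0 := by
    rw [LinearMap.smul_apply, hφw, smul_zero]
  refine ⟨h', ?_⟩
  have key : tvGL ((c * f u w) • φ) w h' =
      τ hf w c hw * tvGL φ u h1 * (τ hf w c hw)⁻¹ * (tvGL φ u h1)⁻¹ := by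
    rw [eq_mul_inv_iff_mul_eq]
    apply gl_ext
    intro x
    rw [gl_mul_mulVec, gl_mul_mulVec, gl_mul_mulVec, τ_inv, tvGL_mulVec, tvGL_mulVec,
      tvGL_mulVec, τ_mulVec, τ_mulVec]
    simp only [map_add, map_smul, hφw, h1, smul_zero, add_zero, LinearMap.smul_apply,
      hf.add_left, hf.smul_left, hw, mul_zero, smul_eq_mul]
    module
  rw [key]
  exact M.mul_mem (M.mul_mem (M.mul_mem hg h2) (M.inv_mem hg)) (M.inv_mem h2)

end herm

end Cfsg.Agent.Lib.H11.UniMax
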