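import Cfsg.Agent.Lib.H11.UniMax3

set_option autoImplicit false
set_option linter.unusedSimpArgs false
set_option linter.unusedSectionVars false
set_option linter.unusedVariables false

namespace Cfsg.Agent.Lib.H11.UniMax

open Matrix Module
open Cfsg.Agent.Lib.H28 Cfsg.Agent.Lib.H11.SubspMax Cfsg.Agent.Lib.H11.SimMax

variable {ι : Type} [Fintype ι] [DecidableEq ι] {F : Type*} [Field F]
variable {σ : F ≃+* F} {f : (ι → F) → (ι → F) → F}

section herm
variable (hf : Cfsg.Geo.IsUnitaryForm σ f)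
include hf

theorem exists_common (x y : ι → F) (hx : x ≠ 0) (hy : y ≠ 0) :
    ∃ z, f x z ≠ 0 ∧ f y z ≠ 0 := by
  obtain ⟨-, a, ha⟩ := hf.nondegenerate x hx
  obtain ⟨-, b, hb⟩ := hf.nondegenerate y hy
  by_cases h1 : f y a = 0
  · by_cases h2 : f x b = 0
    · refine ⟨a + b, ?_, ?_⟩
      · rw [f_add_right hf, h2, add_zero]; exact ha
      · rw [f_add_right hf, h1, zero_add]; exact hb
    · exact ⟨b, h2, hb⟩
  · exact ⟨a, ha, h1⟩

/-- two orthogonal isotropic vectors have a common isotropic non-neighbour -/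
theorem exists_common_iso (x y : ι → F) (hx : x ≠ 0) (hy : y ≠ 0) (hxx : f x x = 0)
    (hyx : f y x = 0) : ∃ z, f z z = 0 ∧ f x z ≠ 0 ∧ f y z ≠ 0 := by
  obtain ⟨z0, h1, h2⟩ := exists_common hf x y hx hy
  obtain ⟨c, hc⟩ := exists_norm_add hf x z0 hxx h1 0 (map_zero σ)
  refine ⟨z0 + c • x, hc, ?_, ?_⟩
  · rw [f_add_right hf, f_smul_right hf, hxx, mul_zero, add_zero]; exact h1
  · rw [f_add_right hf, f_smul_right hf, hyx, mul_zero, add_zero]; exact h2

/-- induction principle: the isotropic vectors of `z^⊥` generate `z^⊥` additively -/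
theorem iso_induction_perp [Finite F] (hn : 5 ≤ Fintype.card ι) (z : ι → F) (P : (ι → F) → Prop)
    (hsub : ∀ a b, P a → P b → P (a - b))
    (hiso : ∀ x, f x x = 0 → f x z = 0 → P x) : ∀ v, f v z = 0 → P v := by
  have hU : finrank F (Submodule.span F {z}) ≤ 1 := by
    have := finrank_span_le_card (R := F) ({z} : Set (ι → F))
    simpa using this
  obtain ⟨x, hxx, hxz, hxU⟩ := exists_iso_perp_notMem hf ![z] (Submodule.span F {z}) (by omega)
  have hxz' : f x z = 0 := by simpa using hxz 0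
  have hxne : ∀ c : F, x ≠ c • z := by
    intro c hc
    apply hxU
    rw [Submodule.mem_span_singleton]
    exact ⟨c, hc.symm⟩
  obtain ⟨p, hpz, hxp⟩ := exists_perp_ne_single hf z x hxne
  have hcase : ∀ v, f v z = 0 → f x v ≠ 0 → P v := by
    intro v hvz hxv
    obtain ⟨c, hc⟩ := exists_norm_add hf x v hxx hxv 0 (map_zero σ)
    have h1 : P (v + c • x) := by
      apply hiso _ hc
      rw [hf.add_left, hf.smul_left, hvz, hxz', mul_zero, add_zero]
    have h2 : P (c • x) := by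
      apply hiso
      · rw [hf.smul_left, f_smul_right hf, hxx, mul_zero, mul_zero]
      · rw [hf.smul_left, hxz', mul_zero]
    have := hsub _ _ h1 h2
    rwa [add_sub_cancel_right] at this
  intro v hvz
  by_cases hxv : f x v = 0
  · have h1 : P (v + p) := by
      apply hcase
      · rw [hf.add_left, hvz, hpz, add_zero]
      · rw [f_add_right hf, hxv, zero_add]; exact hxp
    have h2 : P p := hcase p hpz hxp
    have := hsub _ _ h1 h2
    rwa [add_sub_cancel_right] at this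
  · exact hcase v hvz hxv

theorem iso_induction [Finite F] (hn : 5 ≤ Fintype.card ι) (P : (ι → F) → Prop)
    (hsub : ∀ a b, P a → P b → P (a - b))
    (hiso : ∀ x, f x x = 0 → P x) : ∀ v, P v := by
  intro v
  exact iso_induction_perp hf hn 0 P hsub (fun x hx _ => hiso x hx) v (f_zero_right hf v)

theorem exists_iso_ne_zero [Finite F] (hn : 5 ≤ Fintype.card ι) : ∃ x : ι → F, x ≠ 0 ∧ f x x = 0 := by
  obtain ⟨x, hxx, -, hxU⟩ := exists_iso_perp_notMem hf (k := 0) (fun i => i.elim0)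
    (⊥ : Submodule F (ι → F)) (by rw [finrank_bot]; omega)
  refine ⟨x, ?_, hxx⟩
  rintro rfl
  exact hxU (Submodule.zero_mem _)

/-- if all pulled back functionals at isotropic vectors are fixed multiples of `fr (h v)`, then
`h` is a similarity -/
theorem mem_sim_of_prop [Finite F] (hn : 5 ≤ Fintype.card ι) (h : GL ι F)
    (H : ∀ v : ι → F, v ≠ 0 → f v v = 0 →
      ∃ e : F, σ e = e ∧ ψ hf h v = e • fr hf ((h : Matrix ι ι F) *ᵥ v)) :
    h ∈ Cfsg.Geo.similarityGroup f := by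
  classical
  have H' : ∀ v : ι → F, ∃ e : F, v ≠ 0 → f v v = 0 → (σ e = e ∧ ∀ y, f y v =
      e * f ((h : Matrix ι ι F) *ᵥ y) ((h : Matrix ι ι F) *ᵥ v)) := by
    intro v
    by_cases hv : v ≠ 0 ∧ f v v = 0
    · obtain ⟨e, he, hc⟩ := H v hv.1 hv.2
      refine ⟨e, fun _ _ => ⟨he, fun y => ?_⟩⟩
      have := LinearMap.congr_fun hc ((h : Matrix ι ι F) *ᵥ y)
      rw [ψ_apply, gl_inv_mulVec, LinearMap.smul_apply, fr_apply, smul_eq_mul] at this
      exact this
    · refine ⟨0, fun h1 h2 => absurd ⟨h1, h2⟩ hv⟩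
  choose cf hcf using H'
  have hagree : ∀ v w : ι → F, v ≠ 0 → w ≠ 0 → f v v = 0 → f w w = 0 → f w v ≠ 0 →
      cf v = cf w := by
    intro v w hv hw hvv hww hwv
    obtain ⟨hev, h1⟩ := hcf v hv hvv
    obtain ⟨hew, h2⟩ := hcf w hw hww
    have h1' := h1 w
    have h2' := h2 v
    have h3 : f v w = cf v * f ((h : Matrix ι ι F) *ᵥ v) ((h : Matrix ι ι F) *ᵥ w) := by
      rw [hf.herm v w, h1', map_mul, hev, ← hf.herm]
    have h4 : f ((h : Matrix ι ι F) *ᵥ v) ((h : Matrix ι ι F) *ᵥ w) ≠ 0 := by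
      intro h0
      rw [h0, mul_zero] at h3
      exact hwv (f_symm_zero hf h3)
    have h5 : cf v * f ((h : Matrix ι ι F) *ᵥ v) ((h : Matrix ι ι F) *ᵥ w) =
        cf w * f ((h : Matrix ι ι F) *ᵥ v) ((h : Matrix ι ι F) *ᵥ w) := by
      rw [← h3, ← h2']
    exact mul_right_cancel₀ h4 h5
  have hconst : ∀ v w : ι → F, v ≠ 0 → w ≠ 0 → f v v = 0 → f w w = 0 → cf v = cf w := by
    intro v w hv hw hvv hww
    by_cases hwv : f w v = 0
    · obtain ⟨z, hzz, hz1, hz2⟩ := exists_common_iso hf v w hv hw hvv hwv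
      have hz0 : z ≠ 0 := by
        rintro rfl
        exact hz1 (f_zero_right hf v)
      have e1 : cf z = cf v := hagree z v hz0 hv hzz hvv hz1
      have e2 : cf z = cf w := hagree z w hz0 hw hzz hww hz2
      rw [← e1, e2]
    · exact hagree v w hv hw hvv hww hwv
  obtain ⟨v0, hv0, hv0v0⟩ := exists_iso_ne_zero hf hn
  obtain ⟨hev0, hc0⟩ := hcf v0 hv0 hv0v0
  have he0 : cf v0 ≠ 0 := by
    intro h0
    obtain ⟨⟨x, hx⟩, -⟩ := hf.nondegenerate v0 hv0
    apply hx
    rw [hc0 x, h0, zero_mul]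
  have hall : ∀ v : ι → F, ∀ y, f y v =
      cf v0 * f ((h : Matrix ι ι F) *ᵥ y) ((h : Matrix ι ι F) *ᵥ v) := by
    apply iso_induction hf hn
    · intro a b ha hb y
      rw [f_sub_right hf, Matrix.mulVec_sub, f_sub_right hf, ha y, hb y]
      ring
    · intro x hxx y
      by_cases hx0 : x = 0
      · subst hx0
        rw [Matrix.mulVec_zero, f_zero_right hf, f_zero_right hf, mul_zero]
      · rw [(hcf x hx0 hxx).2 y, hconst x v0 hx0 hv0 hxx hv0v0]
  refine ⟨Units.mk0 (cf v0)⁻¹ (inv_ne_zero he0), fun u v => ?_⟩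
  rw [Units.val_mk0, hall v u, ← mul_assoc, inv_mul_cancel₀ he0, one_mul]

end herm

end Cfsg.Agent.Lib.H11.UniMax
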