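import Cfsg.Agent.Lib.H11.UniMax4

set_option autoImplicit false
set_option linter.unusedSimpArgs false
set_option linter.unusedSectionVars false
set_option linter.unusedVariables false

namespace Cfsg.Agent.Lib.H11.UniMax

open Matrix Module
open Cfsg.Agent.Lib.H28 Cfsg.Agent.Lib.H11.SubspMax Cfsg.Agent.Lib.H11.SimMax

variable {ι : Type} [Fintype ι] [DecidableEq ι] {F : Type*} [Field F]
variable {σ : F ≃+* F} {f : (ι → F) → (ι → F) → F}

section herm
variable (hf : Cfsg.Geo.IsUnitaryForm σ f)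
include hf

/-- from one functional in `Tset M w` we get a full line `F • fr x` -/
theorem Tset_line (M : Subgroup (GL ι F))
    (hNM : Cfsg.Geo.similarityGroup f ⊓ Cfsg.Geo.specialLinear ι F ≤ M)
    (w : ι → F) {φ : Dual F (ι → F)} (hφ : φ ∈ Tset M w) (x y : ι → F)
    (hxx : f x x = 0) (hyy : f y y = 0) (hwx : f w x = 0) (hwy : f w y = 0) (hxy : f x y = 0)
    (hφx : φ x = 0) (hφy : φ y ≠ 0) (a : F) : a • fr hf x ∈ Tset M w := by
  obtain ⟨c0, hc0, hc0s⟩ := exists_skew hf
  obtain ⟨l, hl⟩ : ∃ l : F, l = σ (a / (c0 * φ y)) := ⟨_, rfl⟩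
  have hσl : σ l = a / (c0 * φ y) := by rw [hl, hf.involutive]
  have hyx : f y x = 0 := f_symm_zero hf hxy
  have hy' : f (y + l • x) (y + l • x) = 0 := by
    rw [hf.add_left, f_add_right hf, f_add_right hf, hf.smul_left, hf.smul_left,
      f_smul_right hf, f_smul_right hf, hxx, hyy, hxy, hyx]
    ring
  have hwy' : f w (y + l • x) = 0 := by
    rw [f_add_right hf, f_smul_right hf, hwx, hwy, mul_zero, add_zero]
  have h1 := Tset_op2 hf M hNM w hφ (y + l • x) hy' hwy' c0 hc0s
  have h2 := Tset_op2 hf M hNM w hφ y hyy hwy c0 hc0s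
  have h3 := Tset_sub M w h1 h2
  have : (c0 * φ (y + l • x)) • fr hf (y + l • x) - (c0 * φ y) • fr hf y = a • fr hf x := by
    rw [map_add, map_smul, hφx, smul_zero, add_zero, fr_add, fr_smul, hσl, smul_add,
      add_sub_cancel_left, smul_smul]
    congr 1
    field_simp
  rw [this] at h3
  exact h3

/-- the key step: if `fr z ∈ Tset M w` with `w` isotropic and `z ∉ F w`, then every functional
killing `w` is in `Tset M w` -/
theorem Tset_all [Finite F] (hn : 9 ≤ Fintype.card ι) (M : Subgroup (GL ι F))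
    (hNM : Cfsg.Geo.similarityGroup f ⊓ Cfsg.Geo.specialLinear ι F ≤ M)
    (w z : ι → F) (hww : f w w = 0) (hz : fr hf z ∈ Tset M w)
    (hzw : ∀ c : F, z ≠ c • w) (φ : Dual F (ι → F)) (hφ : φ w = 0) : φ ∈ Tset M w := by
  obtain ⟨c0, hc0, hc0s⟩ := exists_skew hf
  have hwz : f w z = 0 := by
    obtain ⟨h1, -⟩ := hz
    rwa [fr_apply] at h1
  -- (i) an isotropic `y0 ⊥ w` with `f y0 z ≠ 0`
  obtain ⟨y0, hy0y0, hy0w, hzy0⟩ := exists_iso_perp_ne hf hn w z hzw
  have hwy0 : f w y0 = 0 := f_symm_zero hf hy0w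
  have hy0z : (fr hf z) y0 ≠ 0 := by
    rw [fr_apply]; exact f_symm_ne hf hzy0
  -- (iii) an isotropic `x ⊥ w, y0, z` outside `F w`
  have hU : finrank F (Submodule.span F {w}) ≤ 1 := by
    have := finrank_span_le_card (R := F) ({w} : Set (ι → F))
    simpa using this
  obtain ⟨x, hxx, hxvs, hxU⟩ := exists_iso_perp_notMem hf ![w, y0, z] (Submodule.span F {w})
    (by omega)
  have hxw : f x w = 0 := by simpa using hxvs 0
  have hxy0 : f x y0 = 0 := by simpa using hxvs 1
  have hxz : f x z = 0 := by simpa using hxvs 2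
  have hwx : f w x = 0 := f_symm_zero hf hxw
  have hline : ∀ a : F, a • fr hf x ∈ Tset M w := fun a =>
    Tset_line hf M hNM w hz x y0 hxx hy0y0 hwx hwy0 hxy0 (by rw [fr_apply]; exact hxz) hy0z a
  -- (iv) all `fr v` with `v ⊥ w`
  have hxne : ∀ c : F, x ≠ c • w := by
    intro c hc
    apply hxU
    rw [Submodule.mem_span_singleton]
    exact ⟨c, hc.symm⟩
  obtain ⟨p, hpw, hxp⟩ := exists_perp_ne_single hf w x hxne
  have hcase : ∀ v, f v w = 0 → f x v ≠ 0 → fr hf v ∈ Tset M w := by
    intro v hvw hxv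
    obtain ⟨c, hc⟩ := exists_norm_add hf x v hxx hxv 0 (map_zero σ)
    have hvx : f v x ≠ 0 := f_symm_ne hf hxv
    have hwy : f w (v + c • x) = 0 := by
      rw [f_add_right hf, f_smul_right hf, hwx, f_symm_zero hf hvw, mul_zero, add_zero]
    have h1 := Tset_op2 hf M hNM w (hline (1 / (c0 * f v x))) (v + c • x) hc hwy c0 hc0s
    have h2 : (c0 * ((1 / (c0 * f v x)) • fr hf x) (v + c • x)) = 1 := by
      rw [LinearMap.smul_apply, fr_apply, hf.add_left, hf.smul_left, hxx, mul_zero, add_zero,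
        smul_eq_mul]
      field_simp
    rw [h2, one_smul] at h1
    have h3 := Tset_sub M w h1 (hline (σ c))
    rw [fr_add, fr_smul, add_sub_cancel_right] at h3
    exact h3
  have hallv : ∀ v, f v w = 0 → fr hf v ∈ Tset M w := by
    intro v hvw
    by_cases hxv : f x v = 0
    · have h1 : fr hf (v + p) ∈ Tset M w := by
        apply hcase
        · rw [hf.add_left, hvw, hpw, add_zero]
        · rw [f_add_right hf, hxv, zero_add]; exact hxp
      have h2 : fr hf p ∈ Tset M w := hcase p hpw hxp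
      have := Tset_sub M w h1 h2
      rwa [← fr_sub, add_sub_cancel_right] at this
    · exact hcase v hvw hxv
  obtain ⟨v, rfl⟩ := exists_fr hf φ
  rw [fr_apply] at hφ
  exact hallv v (f_symm_zero hf hφ)

end herm

end Cfsg.Agent.Lib.H11.UniMax
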