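import Cfsg.Agent.Lib.H11.UniMax5

set_option autoImplicit false
set_option linter.unusedSimpArgs false
set_option linter.unusedSectionVars false
set_option linter.unusedVariables false

namespace Cfsg.Agent.Lib.H11.UniMax

open Matrix Module
open Cfsg.Agent.Lib.H28 Cfsg.Agent.Lib.H11.SubspMax Cfsg.Agent.Lib.H11.SimMax

variable {ι : Type} [Fintype ι] [DecidableEq ι] {F : Type*} [Field F]
variable {σ : F ≃+* F} {f : (ι → F) → (ι → F) → F}

section herm
variable (hf : Cfsg.Geo.IsUnitaryForm σ f)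
include hf

/-- a hyperbolic partner of an isotropic vector -/
theorem exists_partner (u : ι → F) (hu0 : u ≠ 0) (huu : f u u = 0) :
    ∃ w, f w w = 0 ∧ f w u = 1 := by
  obtain ⟨-, p, hup⟩ := hf.nondegenerate u hu0
  obtain ⟨c, hc⟩ := exists_norm_add hf u p huu hup 0 (map_zero σ)
  have he : f (p + c • u) u = f p u := by
    rw [hf.add_left, hf.smul_left, huu, mul_zero, add_zero]
  have hpu : f p u ≠ 0 := f_symm_ne hf hup
  refine ⟨(f p u)⁻¹ • (p + c • u), ?_, ?_⟩
  · rw [hf.smul_left, f_smul_right hf, hc, mul_zero, mul_zero]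
  · rw [hf.smul_left, he, inv_mul_cancel₀ hpu]

/-- Claim B, independent case -/
theorem full_of_indep [Finite F] (hn : 9 ≤ Fintype.card ι) (M : Subgroup (GL ι F))
    (hNM : Cfsg.Geo.similarityGroup f ⊓ Cfsg.Geo.specialLinear ι F ≤ M)
    (u z : ι → F) (hz0 : z ≠ 0) (hz : fr hf z ∈ Tset M u) (h : ∀ c : F, u ≠ c • z) :
    ∃ w, w ≠ 0 ∧ f w w = 0 ∧ ∀ φ : Dual F (ι → F), φ w = 0 → φ ∈ Tset M w := by
  obtain ⟨c0, hc0, hc0s⟩ := exists_skew hf
  have huz : f u z = 0 := by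
    obtain ⟨h1, -⟩ := hz
    rwa [fr_apply] at h1
  obtain ⟨w, hww, hwz, huw⟩ := exists_iso_perp_ne hf hn z u h
  have hw0 : w ≠ 0 := by
    rintro rfl
    exact huw (f_zero_right hf u)
  have h1 := Tset_op1 hf M hNM u hz w hww (by rw [fr_apply]; exact hwz) c0 hc0s
  have h2 : (c0 * f u w) • fr hf z = fr hf (σ (c0 * f u w) • z) := by
    rw [fr_smul, hf.involutive]
  rw [h2] at h1
  have hcoef : σ (c0 * f u w) ≠ 0 := by
    intro h0
    have := congrArg σ h0
    rw [hf.involutive, map_zero] at this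
    exact (mul_ne_zero hc0 huw) this
  refine ⟨w, hw0, hww, Tset_all hf hn M hNM w _ hww h1 ?_⟩
  intro c hc
  -- then `z` is a multiple of `w`, contradiction with `f u z = 0`, `f u w ≠ 0`
  have hz' : z = ((σ (c0 * f u w))⁻¹ * c) • w := by
    rw [← smul_smul, ← hc, smul_smul, inv_mul_cancel₀ hcoef, one_smul]
  have h3 : f u z = σ ((σ (c0 * f u w))⁻¹ * c) * f u w := by
    rw [hz', f_smul_right hf]
  rw [huz] at h3
  rcases mul_eq_zero.1 h3.symm with h4 | h4
  · have h5 : (σ (c0 * f u w))⁻¹ * c = 0 := by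
      have := congrArg σ h4
      rwa [hf.involutive, map_zero] at this
    apply hz0
    rw [hz', h5, zero_smul]
  · exact huw h4

/-- Claim B -/
theorem exists_full_centre [Finite F] (hn : 9 ≤ Fintype.card ι) (M : Subgroup (GL ι F))
    (hNM : Cfsg.Geo.similarityGroup f ⊓ Cfsg.Geo.specialLinear ι F ≤ M)
    (u z : ι → F) (hu0 : u ≠ 0) (hz0 : z ≠ 0) (hz : fr hf z ∈ Tset M u)
    (hnot : ¬ ∃ a : F, σ a = -a ∧ z = a • u) :
    ∃ w, w ≠ 0 ∧ f w w = 0 ∧ ∀ φ : Dual F (ι → F), φ w = 0 → φ ∈ Tset M w := by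
  by_cases hind : ∀ c : F, u ≠ c • z
  · exact full_of_indep hf hn M hNM u z hz0 hz hind
  push Not at hind
  obtain ⟨b, hb⟩ := hind
  obtain ⟨c0, hc0, hc0s⟩ := exists_skew hf
  have hb0 : b ≠ 0 := by
    rintro rfl
    rw [zero_smul] at hb
    exact hu0 hb
  have hza : z = b⁻¹ • u := by rw [hb, smul_smul, inv_mul_cancel₀ hb0, one_smul]
  have huz : f u z = 0 := by
    obtain ⟨h1, -⟩ := hz
    rwa [fr_apply] at h1
  have huu : f u u = 0 := by
    have : f u z = σ b⁻¹ * f u u := by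
      conv_lhs => rw [hza]
      rw [f_smul_right hf]
    rw [huz] at this
    rcases mul_eq_zero.1 this.symm with h4 | h4
    · exfalso
      have := congrArg σ h4
      rw [hf.involutive, map_zero] at this
      exact (inv_ne_zero hb0) this
    · exact h4
  have ha : σ b⁻¹ ≠ -b⁻¹ := fun h => hnot ⟨b⁻¹, h, hza⟩
  obtain ⟨w', hw'w', hw'u⟩ := exists_partner hf u hu0 huu
  have huw' : f u w' = 1 := by rw [hf.herm, hw'u, map_one]
  obtain ⟨h1, h2⟩ := hz
  -- conjugate the unitary transvection at `w'` by `t'`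
  obtain ⟨t', ht'⟩ : ∃ t' : GL ι F, t' = tvGL (fr hf z) u h1 := ⟨_, rfl⟩
  have ht'M : t' ∈ M := by rw [ht']; exact h2
  have hconj : t' * τ hf w' c0 hw'w' * t'⁻¹ ∈ M :=
    M.mul_mem (M.mul_mem ht'M (hNM (τ_mem hf w' c0 hw'w' hc0s))) (M.inv_mem ht'M)
  have hT : c0 • ψ hf t' w' ∈ Tset M ((t' : Matrix ι ι F) *ᵥ w') := by
    refine ⟨ψ_self hf t' w' hw'w' c0, ?_⟩
    rw [← conj_τ]
    exact hconj
  have hcentre : (t' : Matrix ι ι F) *ᵥ w' = w' + σ b⁻¹ • u := by
    rw [ht', tvGL_mulVec, fr_apply, hza, f_smul_right hf, hw'u, mul_one]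
  have hfun : c0 • ψ hf t' w' = fr hf ((-c0) • (w' - z)) := by
    apply LinearMap.ext
    intro x
    have hinv : ((t'⁻¹ : GL ι F) : Matrix ι ι F) *ᵥ x = x - f x z • u := by
      have h3 : (-(fr hf z)) u = 0 := by rw [LinearMap.neg_apply, h1, neg_zero]
      rw [ht', ← tvGL_neg (fr hf z) u h1 h3, tvGL_mulVec, LinearMap.neg_apply, fr_apply, neg_smul,
        sub_eq_add_neg]
    rw [LinearMap.smul_apply, ψ_apply, hinv, fr_apply, f_smul_right hf, map_neg, hc0s, neg_neg,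
      f_sub_left hf, hf.smul_left, huw', mul_one, f_sub_right hf, smul_eq_mul]
  rw [hcentre, hfun] at hT
  have hz2 : (-c0) • (w' - z) ≠ 0 := by
    intro h0
    have h3 : f ((-c0) • (w' - z)) u = -c0 := by
      rw [hf.smul_left, f_sub_left hf, hw'u, f_symm_zero hf huz, sub_zero, mul_one]
    rw [h0, f_zero_left hf] at h3
    exact hc0 (neg_eq_zero.1 h3.symm)
  apply full_of_indep hf hn M hNM _ _ hz2 hT
  intro c hc
  -- compare `f · u` and `f · w'`
  have e1 : f (w' + σ b⁻¹ • u) u = 1 := by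
    rw [hf.add_left, hf.smul_left, huu, mul_zero, add_zero, hw'u]
  have e2 : f (c • (-c0) • (w' - z)) u = -(c * c0) := by
    rw [hf.smul_left, hf.smul_left, f_sub_left hf, hw'u, f_symm_zero hf huz]
    ring
  have e3 : f (w' + σ b⁻¹ • u) w' = σ b⁻¹ := by
    rw [hf.add_left, hf.smul_left, hw'w', huw', zero_add, mul_one]
  have e4 : f (c • (-c0) • (w' - z)) w' = c * c0 * b⁻¹ := by
    rw [hf.smul_left, hf.smul_left, f_sub_left hf, hw'w', hza, hf.smul_left, huw']
    ring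
  rw [hc] at e1 e3
  rw [e2] at e1
  rw [e4] at e3
  apply ha
  rw [← e3]
  linear_combination (-b⁻¹) * e1

end herm

end Cfsg.Agent.Lib.H11.UniMax
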