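import Cfsg.Agent.Lib.H11.UniMax6

set_option autoImplicit false
set_option linter.unusedSimpArgs false
set_option linter.unusedSectionVars false
set_option linter.unusedVariables false

namespace Cfsg.Agent.Lib.H11.UniMax

open Matrix Module
open Cfsg.Agent.Lib.H28 Cfsg.Agent.Lib.H11.SubspMax Cfsg.Agent.Lib.H11.SimMax

variable {ι : Type} [Fintype ι] [DecidableEq ι] {F : Type*} [Field F]
variable {σ : F ≃+* F} {f : (ι → F) → (ι → F) → F}

section herm
variable (hf : Cfsg.Geo.IsUnitaryForm σ f)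
include hf

/-- a unitary transvection moving the isotropic line `F x` to the isotropic line `F y` -/
theorem iso_move_step (x y : ι → F) (hxx : f x x = 0) (hyy : f y y = 0) (hxy : f x y ≠ 0) :
    ∃ g ∈ Cfsg.Geo.similarityGroup f ⊓ Cfsg.Geo.specialLinear ι F, ∃ l : F, l ≠ 0 ∧
      (g : Matrix ι ι F) *ᵥ x = l • y := by
  obtain ⟨c0, hc0, hc0s⟩ := exists_skew hf
  obtain ⟨v, hv⟩ : ∃ v, v = (c0 / f x y) • x + y := ⟨_, rfl⟩
  have hyx : f y x = σ (f x y) := hf.herm y x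
  have hvv : f v v = 0 := by
    rw [hv, hf.add_left, f_add_right hf, f_add_right hf, hf.smul_left, hf.smul_left,
      f_smul_right hf, f_smul_right hf, hxx, hyy, hyx, map_div₀, hc0s]
    have h1 : σ (f x y) ≠ 0 := by rw [← hyx]; exact f_symm_ne hf hxy
    field_simp
    ring
  have ha : σ (-1 / c0) = -(-1 / c0) := by
    rw [map_div₀, map_neg, map_one, hc0s]
    field_simp
  have hxv : f x v = f x y := by
    rw [hv, f_add_right hf, f_smul_right hf, hxx, mul_zero, zero_add]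
  refine ⟨τ hf v (-1 / c0) hvv, τ_mem hf v _ hvv ha, -(f x y) / c0, ?_, ?_⟩
  · exact div_ne_zero (neg_ne_zero.2 hxy) hc0
  · rw [τ_mulVec, hxv, hv, smul_add, smul_smul]
    have h1 : -1 / c0 * f x y * (c0 / f x y) = -1 := by field_simp
    rw [h1, neg_one_smul, ← add_assoc, add_neg_cancel, zero_add]
    congr 1
    ring

theorem iso_move (x y : ι → F) (hx0 : x ≠ 0) (hy0 : y ≠ 0) (hxx : f x x = 0) (hyy : f y y = 0) :
    ∃ g ∈ Cfsg.Geo.similarityGroup f ⊓ Cfsg.Geo.specialLinear ι F, ∃ l : F, l ≠ 0 ∧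
      (g : Matrix ι ι F) *ᵥ x = l • y := by
  by_cases hxy : f x y = 0
  · obtain ⟨z, hzz, hxz, hyz⟩ := exists_common_iso hf x y hx0 hy0 hxx (f_symm_zero hf hxy)
    obtain ⟨g1, hg1, l1, hl1, h1⟩ := iso_move_step hf x z hxx hzz hxz
    obtain ⟨g2, hg2, l2, hl2, h2⟩ := iso_move_step hf z y hzz hyy (f_symm_ne hf hyz)
    refine ⟨g2 * g1, Subgroup.mul_mem _ hg2 hg1, l1 * l2, mul_ne_zero hl1 hl2, ?_⟩
    rw [gl_mul_mulVec, h1, Matrix.mulVec_smul, h2, smul_smul]
  · exact iso_move_step hf x y hxx hyy hxy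

/-- if one isotropic centre is full, all transvections with isotropic centre are in `M` -/
theorem iso_full (M : Subgroup (GL ι F))
    (hNM : Cfsg.Geo.similarityGroup f ⊓ Cfsg.Geo.specialLinear ι F ≤ M)
    (w : ι → F) (hw0 : w ≠ 0) (hww : f w w = 0)
    (hfull : ∀ φ : Dual F (ι → F), φ w = 0 → φ ∈ Tset M w)
    (y : ι → F) (hyy : f y y = 0) (φ : Dual F (ι → F)) (hφ : φ y = 0) : tvGL φ y hφ ∈ M := by
  by_cases hy0 : y = 0
  · subst hy0
    rw [tvGL_zero_centre]; exact M.one_mem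
  obtain ⟨g, hg, l, hl, hgw⟩ := iso_move hf w y hw0 hy0 hww hyy
  have h1 : (l⁻¹ • φ) (l • y) = 0 := by
    rw [LinearMap.smul_apply, map_smul, hφ, smul_zero, smul_zero]
  have h2 : (l • l⁻¹ • φ) y = 0 := by
    rw [smul_smul, mul_inv_cancel₀ hl, one_smul]; exact hφ
  have e1 : tvGL φ y hφ = tvGL (l • l⁻¹ • φ) y h2 :=
    tvGL_congr hφ h2 (by rw [smul_smul, mul_inv_cancel₀ hl, one_smul]) rfl
  rw [e1, ← tvGL_smul_centre (l⁻¹ • φ) l y h1 h2]
  have h3 : (l⁻¹ • φ) ((g : Matrix ι ι F) *ᵥ w) = 0 := by rw [hgw]; exact h1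
  have e2 : tvGL (l⁻¹ • φ) (l • y) h1 = tvGL (l⁻¹ • φ) ((g : Matrix ι ι F) *ᵥ w) h3 :=
    tvGL_congr h1 h3 rfl hgw.symm
  rw [e2]
  obtain ⟨f', h', he⟩ := conj_tvGL g (l⁻¹ • φ) w h3
  rw [he]
  obtain ⟨h4, h5⟩ := hfull f' h'
  exact M.mul_mem (M.mul_mem (hNM hg) h5) (M.inv_mem (hNM hg))

/-- if one isotropic centre is full, all transvections are in `M` -/
theorem all_full [Finite F] (hn : 5 ≤ Fintype.card ι) (M : Subgroup (GL ι F))
    (hNM : Cfsg.Geo.similarityGroup f ⊓ Cfsg.Geo.specialLinear ι F ≤ M)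
    (w : ι → F) (hw0 : w ≠ 0) (hww : f w w = 0)
    (hfull : ∀ φ : Dual F (ι → F), φ w = 0 → φ ∈ Tset M w)
    (φ : Dual F (ι → F)) (u : ι → F) (hφ : φ u = 0) : tvGL φ u hφ ∈ M := by
  obtain ⟨z, rfl⟩ := exists_fr hf φ
  have key : ∀ v, f v z = 0 → ∃ h : (fr hf z) v = 0, tvGL (fr hf z) v h ∈ M := by
    apply iso_induction_perp hf hn z
    · rintro a b ⟨ha, ha'⟩ ⟨hb, hb'⟩
      have hab : (fr hf z) (a - b) = 0 := by rw [map_sub, ha, hb, sub_zero]
      refine ⟨hab, ?_⟩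
      have hab' : (fr hf z) (a - b + b) = 0 := by rw [sub_add_cancel]; exact ha
      have e1 : tvGL (fr hf z) a ha = tvGL (fr hf z) (a - b + b) hab' :=
        tvGL_congr ha hab' rfl (sub_add_cancel a b).symm
      have e2 := tvGL_add_centre (fr hf z) (a - b) b hab hb hab'
      have e3 : tvGL (fr hf z) (a - b) hab = tvGL (fr hf z) a ha * (tvGL (fr hf z) b hb)⁻¹ := by
        rw [e1, e2, mul_inv_cancel_right]
      rw [e3]
      exact M.mul_mem ha' (M.inv_mem hb')
    · intro x hxx hxz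
      have hx : (fr hf z) x = 0 := by rw [fr_apply]; exact hxz
      exact ⟨hx, iso_full hf M hNM w hw0 hww hfull x hxx (fr hf z) hx⟩
  rw [fr_apply] at hφ
  obtain ⟨h1, h2⟩ := key u hφ
  exact h2

/-- a transvection that is not a similarity -/
theorem tv_not_sim [Finite F] (hn : 5 ≤ Fintype.card ι) (u z : ι → F) (hu0 : u ≠ 0)
    (hzu : ∀ c : F, z ≠ c • u) (h : (fr hf z) u = 0) :
    tvGL (fr hf z) u h ∉ Cfsg.Geo.similarityGroup f := by
  rintro ⟨m, hm⟩
  have hz0 : z ≠ 0 := by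
    rintro rfl
    exact hzu 0 (zero_smul F u).symm
  obtain ⟨x, y, -, -, hxy, hxz, hyz⟩ := exists_hyp hf ![z] (by simpa using (by omega : 5 ≤ Fintype.card ι))
  have hxz' : f x z = 0 := by simpa using hxz 0
  have hyz' : f y z = 0 := by simpa using hyz 0
  have hm1 : (m : F) = 1 := by
    have := hm x y
    rw [tvGL_mulVec, tvGL_mulVec, fr_apply, fr_apply, hxz', hyz', zero_smul, add_zero,
      add_zero, hxy, mul_one] at this
    exact this.symm
  -- every vector orthogonal to `z` is orthogonal to `u`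
  have hperp : ∀ p, f p z = 0 → f p u = 0 := by
    intro p hp
    obtain ⟨⟨y', hy'⟩, -⟩ := hf.nondegenerate z hz0
    have := hm p y'
    rw [hm1, one_mul, tvGL_mulVec, tvGL_mulVec, fr_apply, fr_apply, hp, zero_smul, add_zero,
      f_add_right hf, f_smul_right hf] at this
    have h2 : σ (f y' z) * f p u = 0 := by linear_combination this
    rcases mul_eq_zero.1 h2 with h3 | h3
    · exfalso
      have := congrArg σ h3
      rw [hf.involutive, map_zero] at this
      exact hy' this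
    · exact h3
  -- hence `u ∈ F z`
  by_cases hind : ∀ c : F, u ≠ c • z
  · obtain ⟨p, hpz, hup⟩ := exists_perp_ne_single hf z u hind
    exact hup (f_symm_zero hf (hperp p hpz))
  · push Not at hind
    obtain ⟨b, hb⟩ := hind
    have hb0 : b ≠ 0 := by
      rintro rfl
      rw [zero_smul] at hb
      exact hu0 hb
    apply hzu b⁻¹
    rw [hb, smul_smul, inv_mul_cancel₀ hb0, one_smul]

theorem sim_lt [Finite F] (hn : 5 ≤ Fintype.card ι) :
    Cfsg.Geo.similarityGroup f ⊓ Cfsg.Geo.specialLinear ι F < Cfsg.Geo.specialLinear ι F := by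
  refine lt_of_le_of_ne inf_le_right ?_
  intro heq
  obtain ⟨u, hu0, huu⟩ := exists_iso_ne_zero hf hn
  have hU : finrank F (Submodule.span F {u}) ≤ 1 := by
    have := finrank_span_le_card (R := F) ({u} : Set (ι → F))
    simpa using this
  obtain ⟨z, hzu, hzU⟩ := exists_perp_notMem hf ![u] (Submodule.span F {u}) (by omega)
  have hzu' : f z u = 0 := by simpa using hzu 0
  have h : (fr hf z) u = 0 := by rw [fr_apply]; exact f_symm_zero hf hzu'
  have hne : ∀ c : F, z ≠ c • u := by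
    intro c hc
    apply hzU
    rw [Submodule.mem_span_singleton]
    exact ⟨c, hc.symm⟩
  have hmem : tvGL (fr hf z) u h ∈
      Cfsg.Geo.similarityGroup f ⊓ Cfsg.Geo.specialLinear ι F := by
    rw [heq]; exact tvGL_mem_specialLinear _ _ _
  exact tv_not_sim hf hn u z hu0 hne h hmem.1

theorem uni_sim_maximal [Finite F] (hn : 9 ≤ Fintype.card ι) :
    Cfsg.Geo.IsMaximalIn (Cfsg.Geo.specialLinear ι F)
      (Cfsg.Geo.similarityGroup f ⊓ Cfsg.Geo.specialLinear ι F) := by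
  have : Nontrivial ι := by
    rw [← Fintype.one_lt_card_iff_nontrivial]; omega
  have hn5 : 5 ≤ Fintype.card ι := by omega
  refine ⟨sim_lt hf hn5, ?_⟩
  intro M hNM hMS
  by_cases hMN : M = Cfsg.Geo.similarityGroup f ⊓ Cfsg.Geo.specialLinear ι F
  · left; exact hMN
  right
  apply le_antisymm hMS
  obtain ⟨h, hhM, hhN⟩ : ∃ h ∈ M, h ∉ Cfsg.Geo.similarityGroup f := by
    by_contra hcon
    push Not at hcon
    apply hMN
    apply le_antisymm _ hNM
    intro g hg
    exact ⟨hcon g hg, hMS hg⟩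
  obtain ⟨v, hv0, hvv, hvc⟩ : ∃ v : ι → F, v ≠ 0 ∧ f v v = 0 ∧
      ∀ e : F, σ e = e → ψ hf h v ≠ e • fr hf ((h : Matrix ι ι F) *ᵥ v) := by
    by_contra hcon
    push Not at hcon
    exact hhN (mem_sim_of_prop hf hn5 h hcon)
  obtain ⟨c0, hc0, hc0s⟩ := exists_skew hf
  obtain ⟨u, hu⟩ : ∃ u, u = (h : Matrix ι ι F) *ᵥ v := ⟨_, rfl⟩
  have hu0 : u ≠ 0 := by
    intro h0
    apply hv0
    have := gl_inv_mulVec h v
    rw [← hu, h0, Matrix.mulVec_zero] at this
    exact this.symm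
  obtain ⟨zv, hzv⟩ := exists_fr hf (ψ hf h v)
  have hzv0 : zv ≠ 0 := by
    rintro rfl
    apply hvc 0 (map_zero σ)
    rw [hzv, fr_zero, zero_smul]
  have hT : c0 • ψ hf h v ∈ Tset M u := by
    rw [hu]
    refine ⟨ψ_self hf h v hvv c0, ?_⟩
    rw [← conj_τ hf h v c0 hvv]
    exact M.mul_mem (M.mul_mem hhM (hNM (τ_mem hf v c0 hvv hc0s))) (M.inv_mem hhM)
  have hfun : c0 • ψ hf h v = fr hf ((-c0) • zv) := by
    rw [fr_smul, map_neg, hc0s, neg_neg, hzv]
  rw [hfun] at hT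
  have hz0 : (-c0) • zv ≠ 0 := smul_ne_zero (neg_ne_zero.2 hc0) hzv0
  have hnot : ¬ ∃ a : F, σ a = -a ∧ (-c0) • zv = a • u := by
    rintro ⟨a, ha, hza⟩
    have hzv' : zv = (-a / c0) • u := by
      have : zv = (-c0)⁻¹ • ((-c0) • zv) := by
        rw [smul_smul, inv_mul_cancel₀ (neg_ne_zero.2 hc0), one_smul]
      rw [this, hza, smul_smul]
      congr 1
      field_simp
    have he : σ (-a / c0) = -a / c0 := by
      rw [map_div₀, map_neg, ha, hc0s]
      field_simp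
    apply hvc (-a / c0) he
    rw [hzv, hzv', fr_smul, he, hu]
  obtain ⟨w, hw0, hww, hfull⟩ := exists_full_centre hf hn M hNM u _ hu0 hz0 hT hnot
  apply sl_le_of_tvGL
  intro φ u' hφ
  exact all_full hf hn5 M hNM w hw0 hww hfull φ u' hφ

end herm

end Cfsg.Agent.Lib.H11.UniMax
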