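import Cfsg.Agent.Lib.H11.SubfR14
import Cfsg.Agent.Lib.H11.HermNorm6
import Cfsg.Agent.Lib.H11.UniMax1

/-!
# Unitary-type subgroups of `SL_n(q₀²)` (part 1): the Gram matrix of a unitary form given as a
function, membership in the similarity group
-/

set_option autoImplicit false
set_option linter.unusedSectionVars false

namespace Cfsg.Agent.Lib.H11.UniR

open Matrix Cfsg.Agent.Lib.H13.AutPSU

variable {F : Type*} [Field F] {n q₀ : ℕ} (D : UF F q₀) {f : (Fin n → F) → (Fin n → F) → F}

theorem isUnitaryForm (hf : Cfsg.Geo.IsUnitaryFormPow q₀ f) : Cfsg.Geo.IsUnitaryForm D.τ f where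
  ne_refl := by
    obtain ⟨a, ha⟩ := D.hne
    intro h
    apply ha
    rw [h]
    rfl
  involutive := D.hτ2
  add_left := hf.add_left
  smul_left := hf.smul_left
  herm := fun v w => by rw [D.hτ]; exact hf.herm v w
  nondegenerate := hf.nondegenerate

/-- the (transposed) Gram matrix: `X i j = f (e_j, e_i)` -/
def gramT (f : (Fin n → F) → (Fin n → F) → F) : Matrix (Fin n) (Fin n) F :=
  fun i j => f (Pi.single j 1) (Pi.single i 1)

theorem f_sum_left (hf : Cfsg.Geo.IsUnitaryFormPow q₀ f) {κ : Type*} (s : Finset κ) (c : κ → F)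
    (w : κ → Fin n → F) (v : Fin n → F) :
    f (∑ k ∈ s, c k • w k) v = ∑ k ∈ s, c k * f (w k) v := by
  classical
  induction s using Finset.induction_on with
  | empty =>
    rw [Finset.sum_empty, Finset.sum_empty]
    have := hf.smul_left 0 0 v
    simpa using this
  | insert k s hk ih =>
    rw [Finset.sum_insert hk, Finset.sum_insert hk, hf.add_left, hf.smul_left, ih]

theorem f_sum_right (hf : Cfsg.Geo.IsUnitaryFormPow q₀ f) {κ : Type*} (s : Finset κ) (c : κ → F)
    (w : κ → Fin n → F) (v : Fin n → F) :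
    f v (∑ k ∈ s, c k • w k) = ∑ k ∈ s, D.τ (c k) * f v (w k) := by
  classical
  induction s using Finset.induction_on with
  | empty =>
    rw [Finset.sum_empty, Finset.sum_empty]
    exact UniMax.f_zero_right (isUnitaryForm D hf) v
  | insert k s hk ih =>
    rw [Finset.sum_insert hk, Finset.sum_insert hk, UniMax.f_add_right (isUnitaryForm D hf),
      UniMax.f_smul_right (isUnitaryForm D hf), ih]

theorem vec_eq_sum (u : Fin n → F) : u = ∑ j, u j • (Pi.single j 1 : Fin n → F) := by
  ext i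
  rw [Finset.sum_apply]
  simp [Pi.single_apply]

theorem mulVec_eq_sum (g : Matrix (Fin n) (Fin n) F) (u : Fin n → F) :
    g *ᵥ u = ∑ j, u j • (g *ᵥ (Pi.single j 1 : Fin n → F)) := by
  conv_lhs => rw [vec_eq_sum u]
  rw [Matrix.mulVec_sum]
  exact Finset.sum_congr rfl (fun j _ => Matrix.mulVec_smul _ _ _)

/-- the form on the images under a matrix in terms of the Gram matrix -/
theorem form_mulVec (hf : Cfsg.Geo.IsUnitaryFormPow q₀ f) (g : Matrix (Fin n) (Fin n) F)
    (u v : Fin n → F) :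
    f (g *ᵥ u) (g *ᵥ v) = ∑ j, ∑ i, u j * D.τ (v i) * (ct D g * gramT f * g) i j := by
  rw [mulVec_eq_sum g u, f_sum_left hf]
  apply Finset.sum_congr rfl
  intro j _
  rw [mulVec_eq_sum g v, f_sum_right D hf, Finset.mul_sum]
  apply Finset.sum_congr rfl
  intro i _
  have h1 : g *ᵥ (Pi.single j 1 : Fin n → F) = ∑ l, g l j • (Pi.single l 1 : Fin n → F) := by
    rw [Matrix.mulVec_single_one]
    exact vec_eq_sum _
  have h2 : g *ᵥ (Pi.single i 1 : Fin n → F) = ∑ k, g k i • (Pi.single k 1 : Fin n → F) := by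
    rw [Matrix.mulVec_single_one]
    exact vec_eq_sum _
  have h3 : f (g *ᵥ (Pi.single j 1 : Fin n → F)) (g *ᵥ (Pi.single i 1 : Fin n → F)) =
      (ct D g * gramT f * g) i j := by
    rw [h1, h2, f_sum_left hf, Matrix.mul_apply]
    apply Finset.sum_congr rfl
    intro l _
    rw [f_sum_right D hf, Matrix.mul_apply, mul_comm]
    congr 1
  rw [h3]
  ring

theorem form_eq (hf : Cfsg.Geo.IsUnitaryFormPow q₀ f) (u v : Fin n → F) :
    f u v = ∑ j, ∑ i, u j * D.τ (v i) * gramT f i j := by
  have := form_mulVec D hf 1 u v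
  rwa [Matrix.one_mulVec, Matrix.one_mulVec, ct_one, Matrix.one_mul, Matrix.mul_one] at this

theorem ct_gramT (hf : Cfsg.Geo.IsUnitaryFormPow q₀ f) : ct D (gramT f) = gramT f := by
  ext i j
  rw [ct_apply, gramT, gramT, D.hτ, ← hf.herm]

include D in
theorem det_gramT_ne_zero (hf : Cfsg.Geo.IsUnitaryFormPow q₀ f) : (gramT f).det ≠ 0 := by
  intro h
  obtain ⟨w, hw0, hw⟩ := Matrix.exists_mulVec_eq_zero_iff.mpr h
  obtain ⟨x, hx⟩ := (hf.nondegenerate w hw0).2
  apply hx
  rw [form_eq D hf]
  have h1 : ∀ i, ∑ j, w j * gramT f i j = 0 := by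
    intro i
    have h' : ∑ j, gramT f i j * w j = 0 := congrFun hw i
    rw [← h']
    exact Finset.sum_congr rfl (fun j _ => mul_comm _ _)
  rw [Finset.sum_comm]
  apply Finset.sum_eq_zero
  intro i _
  have h2 : ∑ j, w j * D.τ (x i) * gramT f i j = D.τ (x i) * ∑ j, w j * gramT f i j := by
    rw [Finset.mul_sum]
    exact Finset.sum_congr rfl (fun j _ => by ring)
  rw [h2, h1, mul_zero]

/-- membership in the similarity group of a unitary form -/
theorem mem_sim_iff (hf : Cfsg.Geo.IsUnitaryFormPow q₀ f) (g : GL (Fin n) F) :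
    g ∈ Cfsg.Geo.similarityGroup f ↔ ∃ c : F, c ≠ 0 ∧
      ct D (g : Matrix (Fin n) (Fin n) F) * gramT f * (g : Matrix (Fin n) (Fin n) F) =
        c • gramT f := by
  constructor
  · rintro ⟨c, hc⟩
    refine ⟨c, c.ne_zero, ?_⟩
    ext i j
    have h1 := hc (Pi.single j 1) (Pi.single i 1)
    rw [form_mulVec D hf, form_eq D hf] at h1
    simp only [Pi.single_apply, ite_mul, one_mul, zero_mul, map_one, map_zero, apply_ite D.τ,
      mul_ite, mul_one, mul_zero, Finset.sum_ite_eq', Finset.mem_univ, if_true]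
      at h1
    rw [Matrix.smul_apply, smul_eq_mul]
    simpa using h1
  · rintro ⟨c, hc0, hc⟩
    refine ⟨Units.mk0 c hc0, fun u v => ?_⟩
    rw [form_mulVec D hf, form_eq D hf, hc, Units.val_mk0, Finset.mul_sum]
    apply Finset.sum_congr rfl
    intro j _
    rw [Finset.mul_sum]
    apply Finset.sum_congr rfl
    intro i _
    rw [Matrix.smul_apply, smul_eq_mul]
    ring

end Cfsg.Agent.Lib.H11.UniR
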