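import Cfsg.Agent.Lib.H11.UniR9

/-!
# Unitary-type subgroups of `SL_n(q₀²)` (part 10): the derangement with non-square scalar square
-/

set_option autoImplicit false
set_option linter.unusedSectionVars false

namespace Cfsg.Agent.Lib.H11.UniR

open Matrix Polynomial Module Cfsg.Agent.Lib.H13.AutPSU Cfsg.Agent.Lib.H13
  Cfsg.Agent.Lib.H11.InvCls Cfsg.Agent.Lib.H11.SubfR Cfsg.Agent.Lib.H11.HermNorm
  Cfsg.Agent.Lib.H24.Elus

variable {F : Type*} [Field F] [Fintype F] {p q : ℕ} [Fact p.Prime] [CharP F p]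
  {n q₀ : ℕ} (D : UF F q₀) {f : (Fin n → F) → (Fin n → F) → F}

omit [Fintype F] [Fact p.Prime] [CharP F p] in
theorem smul_cancel_of_inv (hn : 0 < n) (X Xi : Matrix (Fin n) (Fin n) F) (hX : X * Xi = 1)
    (a b : F) (h : a • X = b • X) : a = b := by
  have h1 : (a • X) * Xi = (b • X) * Xi := by rw [h]
  rw [Matrix.smul_mul, Matrix.smul_mul, hX] at h1
  have h2 := congrFun (congrFun h1 ⟨0, hn⟩) ⟨0, hn⟩
  rw [Matrix.smul_apply, Matrix.smul_apply, Matrix.one_apply_eq, smul_eq_mul, smul_eq_mul,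
    mul_one, mul_one] at h2
  exact h2

include D in
/-- a similarity with scalar square `z` forces `z` to be a square (odd `q₀`) -/
theorem isSquare_of_sim (hF : Fintype.card F = q₀ ^ 2) (hf : Cfsg.Geo.IsUnitaryFormPow q₀ f)
    (hn : 0 < n) (h2 : (2 : F) ≠ 0) (hq₀ : Odd q₀) (y : GL (Fin n) F)
    (hy : y ∈ Cfsg.Geo.similarityGroup f) (z : F)
    (hyz : (y : Matrix (Fin n) (Fin n) F) * (y : Matrix (Fin n) (Fin n) F) =
      z • (1 : Matrix (Fin n) (Fin n) F)) : IsSquare z := by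
  obtain ⟨c, hc0, hc⟩ := (mem_sim_iff D hf y).mp hy
  set Y : Matrix (Fin n) (Fin n) F := (y : Matrix (Fin n) (Fin n) F) with hY
  set Xf := gramT f with hXf
  have hdet := det_gramT_ne_zero D hf
  have hdetu : IsUnit Xf.det := isUnit_iff_ne_zero.mpr hdet
  have hXi : Xf * Xf⁻¹ = 1 := Matrix.mul_nonsing_inv _ hdetu
  have hXct : ct D Xf = Xf := ct_gramT D hf
  -- the multiplier is fixed by `τ`
  have hτc : D.τ c = c := by
    apply smul_cancel_of_inv hn Xf Xf⁻¹ hXi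
    have h1 := congrArg (ct D) hc
    rw [ct_smul, hXct, ct_mul D (ct D Y * Xf) Y, ct_mul D (ct D Y) Xf, ct_ct, hXct,
      ← Matrix.mul_assoc, hc] at h1
    exact h1.symm
  -- the norm of `z`
  have hz2 : D.τ z * z = c * c := by
    apply smul_cancel_of_inv hn Xf Xf⁻¹ hXi
    have h1 : ct D (Y * Y) * Xf * (Y * Y) = ct D Y * (ct D Y * Xf * Y) * Y := by
      rw [ct_mul]
      simp only [Matrix.mul_assoc]
    rw [hc, hyz, ct_smul, ct_one, Matrix.smul_mul, Matrix.one_mul, Matrix.mul_smul,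
      Matrix.mul_one, smul_smul, Matrix.mul_smul, Matrix.smul_mul, hc, smul_smul] at h1
    rw [mul_comm]
    exact h1
  have hz0 : z ≠ 0 := by
    rintro rfl
    rw [map_zero, zero_mul] at hz2
    exact mul_ne_zero hc0 hc0 hz2.symm
  obtain ⟨k, hk⟩ := hq₀
  have hcard : Fintype.card F / 2 = (q₀ + 1) * k := by
    rw [hF, hk]
    have : (2 * k + 1) ^ 2 = 2 * ((2 * k + 1 + 1) * k) + 1 := by ring
    omega
  have hcq : c ^ (2 * k) = 1 := by
    have h1 : c ^ q₀ = c := by rw [← D.hτ, hτc]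
    rw [hk, pow_succ] at h1
    have h3 : c ^ (2 * k) * c = 1 * c := by rw [h1, one_mul]
    exact mul_right_cancel₀ hc0 h3
  have hchar : ringChar F ≠ 2 := by
    intro h
    apply h2
    have := CharP.cast_eq_zero F (ringChar F)
    rw [h] at this
    exact_mod_cast this
  rw [FiniteField.isSquare_iff hchar hz0, hcard, pow_mul, pow_succ, ← D.hτ, hz2, ← pow_two,
    ← pow_mul, hcq]

include D in
/-- the derangement with non-square scalar square when `(n)₂ > (q - 1)₂` -/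
theorem der_nonsquare (hq : Fintype.card F = q) (hF : Fintype.card F = q₀ ^ 2)
    (hf : Cfsg.Geo.IsUnitaryFormPow q₀ f) (hn : 0 < n) (h2 : (2 : F) ≠ 0) (hq₀ : Odd q₀)
    (hv : ¬ padicValNat 2 n ≤ padicValNat 2 (q - 1)) :
    ∃ x ∈ Cfsg.Geo.specialLinear (Fin n) F,
      (∃ z : F, ((x ^ 2 : GL (Fin n) F) : Matrix (Fin n) (Fin n) F) =
        z • (1 : Matrix (Fin n) (Fin n) F)) ∧
      (∀ z : F, (x : Matrix (Fin n) (Fin n) F) ≠ z • (1 : Matrix (Fin n) (Fin n) F)) ∧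
      ∀ g ∈ Cfsg.Geo.specialLinear (Fin n) F,
        g⁻¹ * x * g ∉ Cfsg.Geo.similarityGroup f := by
  have : Fact (Nat.Prime 2) := ⟨Nat.prime_two⟩
  have hqodd : Odd q := by
    rw [← hq, hF]
    exact hq₀.pow
  have h2q : 2 ∣ q - 1 := by
    obtain ⟨k, hk⟩ := hqodd
    exact ⟨k, by omega⟩
  obtain ⟨x, z, hxz, hnsq⟩ := exists_sl_irred (F := F) hq 2 h2q n hn (fun h => hv h.1)
  set xg : GL (Fin n) F := Matrix.SpecialLinearGroup.toGL x with hxg
  have hxgv : (xg : Matrix (Fin n) (Fin n) F) = (x : Matrix (Fin n) (Fin n) F) := rfl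
  refine ⟨xg, ?_, ⟨z, ?_⟩, ?_, ?_⟩
  · rw [Cfsg.Agent.Lib.H28.mem_specialLinear_iff, hxgv]
    exact x.2
  · rw [Units.val_pow_eq_pow_val, hxgv, hxz]
  · intro c hc
    rw [hxgv] at hc
    rw [hc] at hxz
    exact hnsq c (PGLPrime.pow_eq_of_smul_one hn (by norm_num) c z hxz)
  · intro g _ hg
    have hsq : IsSquare z := by
      apply isSquare_of_sim D hF hf hn h2 hq₀ _ hg z
      have h1 : (g⁻¹ * xg * g) * (g⁻¹ * xg * g) = g⁻¹ * (xg * xg) * g := by group
      rw [← Units.val_mul, h1, Units.val_mul, Units.val_mul, Units.val_mul, hxgv, ← pow_two, hxz,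
        Matrix.mul_smul, Matrix.smul_mul, Matrix.mul_one, ← Units.val_mul, inv_mul_cancel,
        Units.val_one]
    obtain ⟨d, hd⟩ := hsq
    exact hnsq d (by rw [pow_two, hd])

end Cfsg.Agent.Lib.H11.UniR
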