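import Cfsg.Agent.Lib.H11.UniR1

/-!
# Unitary-type subgroups of `SL_n(q₀²)` (part 2): the necessary condition for membership in the
similarity group in terms of eigenvalue multiplicities over an extension field
-/

set_option autoImplicit false
set_option linter.unusedSectionVars false

namespace Cfsg.Agent.Lib.H11.UniR

open Matrix Polynomial Module Cfsg.Agent.Lib.H13.AutPSU Cfsg.Agent.Lib.H13
  Cfsg.Agent.Lib.H11.InvCls Cfsg.Agent.Lib.H11.SubfR

section general

variable {K : Type*} [Field K] {n : ℕ}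

theorem aeval_transpose (A : Matrix (Fin n) (Fin n) K) (P : K[X]) :
    aeval Aᵀ P = (aeval A P)ᵀ := by
  induction P using Polynomial.induction_on with
  | C a =>
    rw [aeval_C, aeval_C, Algebra.algebraMap_eq_smul_one,
      Matrix.transpose_smul, Matrix.transpose_one]
  | add p q hp hq => rw [map_add, map_add, hp, hq, Matrix.transpose_add]
  | monomial k a _ =>
    rw [map_mul, map_mul, aeval_C, aeval_C, map_pow, map_pow, aeval_X, aeval_X,
      Algebra.algebraMap_eq_smul_one, Matrix.smul_mul,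
      Matrix.smul_mul, Matrix.one_mul, Matrix.one_mul, Matrix.transpose_smul,
      Matrix.transpose_pow]

/-- kernel dimensions are invariant under transposition -/
theorem finrank_ker_transpose (A : Matrix (Fin n) (Fin n) K) (P : K[X]) :
    finrank K (LinearMap.ker (aeval (Matrix.toLin' Aᵀ) P)) =
      finrank K (LinearMap.ker (aeval (Matrix.toLin' A) P)) := by
  rw [PGLPrime.aeval_toLin', PGLPrime.aeval_toLin', aeval_transpose]
  have h1 := finrank_ker_toLin' (aeval A P)ᵀ
  have h2 := finrank_ker_toLin' (aeval A P)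
  rw [Matrix.rank_transpose] at h1
  omega

variable {r : ℕ} [NeZero r]

/-- eigenvalue multiplicities of the inverse -/
theorem mult_inv (θ : K) (hθ : θ ^ r = 1) (y yi : Matrix (Fin n) (Fin n) K) (h : y * yi = 1)
    (k : ZMod r) : PGLPrime.mult θ yi k = PGLPrime.mult θ y (-k) := by
  have h' : yi * y = 1 := mul_eq_one_comm.mp h
  unfold PGLPrime.mult
  have hz : PGLPrime.zp θ k * PGLPrime.zp θ (-k) = 1 := by
    rw [← PGLPrime.zp_add θ hθ, add_neg_cancel, PGLPrime.zp_zero]
  suffices hker : LinearMap.ker (aeval (Matrix.toLin' yi) (PGLPrime.fA θ k)) =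
      LinearMap.ker (aeval (Matrix.toLin' y) (PGLPrime.fA θ (-k))) by rw [hker]
  ext v
  rw [LinearMap.mem_ker, LinearMap.mem_ker, PGLPrime.aeval_fA, PGLPrime.aeval_fA,
    LinearMap.sub_apply, LinearMap.sub_apply, LinearMap.smul_apply, LinearMap.smul_apply,
    LinearMap.id_apply, sub_eq_zero, sub_eq_zero, Matrix.toLin'_apply, Matrix.toLin'_apply]
  constructor
  · intro hv
    have h1 : y *ᵥ (yi *ᵥ v) = v := by rw [Matrix.mulVec_mulVec, h, Matrix.one_mulVec]
    rw [hv, Matrix.mulVec_smul] at h1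
    calc y *ᵥ v = (PGLPrime.zp θ (-k) * PGLPrime.zp θ k) • (y *ᵥ v) := by
          rw [mul_comm, hz, one_smul]
      _ = PGLPrime.zp θ (-k) • v := by rw [← smul_smul, h1]
  · intro hv
    have h1 : yi *ᵥ (y *ᵥ v) = v := by rw [Matrix.mulVec_mulVec, h', Matrix.one_mulVec]
    rw [hv, Matrix.mulVec_smul] at h1
    calc yi *ᵥ v = (PGLPrime.zp θ k * PGLPrime.zp θ (-k)) • (yi *ᵥ v) := by
          rw [hz, one_smul]
      _ = PGLPrime.zp θ k • v := by rw [← smul_smul, h1]

end general

variable {F : Type*} [Field F] {n q₀ : ℕ} (D : UF F q₀)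

theorem ct_pow (x : Matrix (Fin n) (Fin n) F) (k : ℕ) : ct D (x ^ k) = ct D x ^ k := by
  induction k with
  | zero => rw [pow_zero, pow_zero, ct_one]
  | succ k ih => rw [pow_succ, ct_mul, ih, pow_succ']

/-- the multiplier of a similarity of order `r` is an `r`-th root of unity -/
theorem mult_pow_eq_one (hn : 0 < n) (x X Xi : Matrix (Fin n) (Fin n) F) (hX : X * Xi = 1)
    (c : F) (h : ct D x * X * x = c • X) (r : ℕ) (hx : x ^ r = 1) : c ^ r = 1 := by
  have h1 : ∀ k : ℕ, ct D x ^ k * X * x ^ k = c ^ k • X := by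
    intro k
    induction k with
    | zero => simp
    | succ k ih =>
      calc ct D x ^ (k + 1) * X * x ^ (k + 1)
          = ct D x * (ct D x ^ k * X * x ^ k) * x := by
            rw [pow_succ', pow_succ]; simp only [Matrix.mul_assoc]
        _ = c ^ k • (ct D x * X * x) := by
            rw [ih, Matrix.mul_smul, Matrix.smul_mul]
        _ = c ^ (k + 1) • X := by rw [h, smul_smul, pow_succ]
  have h2 := h1 r
  rw [← ct_pow, hx, ct_one, Matrix.one_mul, Matrix.mul_one] at h2
  have h3 : X * Xi = (c ^ r • X) * Xi := by rw [← h2]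
  rw [hX, Matrix.smul_mul, hX] at h3
  have h4 := congrFun (congrFun h3 ⟨0, hn⟩) ⟨0, hn⟩
  rw [Matrix.smul_apply, Matrix.one_apply_eq, smul_eq_mul, mul_one] at h4
  exact h4.symm

variable {E : Type*} [Field E] {r : ℕ} [NeZero r]

/-- the necessary condition: the eigenvalue multiplicities (over an extension field) of a
similarity of order `r` of a unitary form are invariant under `t ↦ e - q₀ t` -/
theorem mult_of_sim (ι : F →+* E) (φ : E →+* E) (hφ : ∀ a, φ (ι a) = ι (D.τ a)) (θ : E)
    (hθ : IsPrimitiveRoot θ r) (hφθ : φ θ = θ ^ q₀) (hn : 0 < n)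
    (x xi X Xi : Matrix (Fin n) (Fin n) F) (hxi : x * xi = 1) (hX : X * Xi = 1) (c : F)
    (h : ct D x * X * x = c • X) (hx : x ^ r = 1) :
    ∃ e : ZMod r, ι c = PGLPrime.zp θ e ∧
      ∀ t, PGLPrime.mult θ (x.map ι) t = PGLPrime.mult θ (x.map ι) (e - (q₀ : ZMod r) * t) := by
  have hθ1 : θ ^ r = 1 := hθ.pow_eq_one
  have hc := mult_pow_eq_one D hn x X Xi hX c h r hx
  have hc' : (ι c) ^ r = 1 := by rw [← map_pow, hc, map_one]
  obtain ⟨e, he⟩ := PGLPrime.exists_zp θ hθ (ι c) hc'
  refine ⟨e, he.symm, fun t => ?_⟩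
  have hmapmul : ∀ A B : Matrix (Fin n) (Fin n) F, (A * B).map ι = A.map ι * B.map ι :=
    fun A B => Matrix.map_mul
  have hone : (1 : Matrix (Fin n) (Fin n) F).map ι = 1 := by
    rw [Matrix.map_one ι (map_zero ι) (map_one ι)]
  set y := x.map ι with hy
  set yi := xi.map ι with hyi
  have hyyi : y * yi = 1 := by rw [hy, hyi, ← hmapmul, hxi, hone]
  have hX' : X.map ι * Xi.map ι = 1 := by rw [← hmapmul, hX, hone]
  -- the Frobenius twist of `y`
  set z : Matrix (Fin n) (Fin n) E := (x.map D.τ).map ι with hz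
  have hrel : zᵀ * X.map ι * y = ι c • X.map ι := by
    have h1 : (ct D x * X * x).map ι = (c • X).map ι := by rw [h]
    rw [hmapmul, hmapmul] at h1
    have h2 : (ct D x).map ι = zᵀ := by
      ext i j
      rfl
    have h3 : (c • X).map ι = ι c • X.map ι := by
      ext i j
      simp [Matrix.map_apply]
    rw [h2, h3] at h1
    exact h1
  have hrel' : zᵀ * X.map ι = X.map ι * (ι c • yi) := by
    have h1 : zᵀ * X.map ι = zᵀ * X.map ι * y * yi := by
      rw [Matrix.mul_assoc _ y yi, hyyi, Matrix.mul_one]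
    rw [h1, hrel, Matrix.smul_mul, Matrix.mul_smul]
  -- the kernel dimensions
  have e1 := finrank_ker_eq_of_mul (X.map ι) (Xi.map ι) (ι c • yi) zᵀ hX' hrel'
    (PGLPrime.fA θ ((q₀ : ZMod r) * t))
  have e2 := finrank_ker_transpose z (PGLPrime.fA θ ((q₀ : ZMod r) * t))
  -- `z` is the image of `x` under `ι ∘ τ`
  have e3 : finrank E (LinearMap.ker (aeval (Matrix.toLin' z)
      (PGLPrime.fA θ ((q₀ : ZMod r) * t)))) = PGLPrime.mult θ y t := by
    have hzy : z = y.map φ := by
      ext i j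
      rw [hz, hy, Matrix.map_apply, Matrix.map_apply, Matrix.map_apply, Matrix.map_apply, hφ]
    have hfA : (PGLPrime.fA θ t).map φ = PGLPrime.fA θ ((q₀ : ZMod r) * t) := by
      rw [PGLPrime.fA, PGLPrime.fA, Polynomial.map_sub, Polynomial.map_X, Polynomial.map_C,
        zp_natCast_mul θ hθ1]
      unfold PGLPrime.zp
      rw [map_pow, hφθ, ← pow_mul, ← pow_mul, mul_comm]
    rw [hzy, ← hfA, finrank_ker_map φ y (PGLPrime.fA θ t)]
    rfl
  have e4 : PGLPrime.mult θ (ι c • yi) ((q₀ : ZMod r) * t) =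
      PGLPrime.mult θ y (e - (q₀ : ZMod r) * t) := by
    rw [← he, PGLPrime.mult_smul θ hθ1, mult_inv θ hθ1 y yi hyyi, neg_sub]
  unfold PGLPrime.mult at e4 e3 ⊢
  rw [← e3, ← e2, e1, e4]

end Cfsg.Agent.Lib.H11.UniR
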