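import Cfsg.Agent.Lib.H11.UniR4

/-!
# Unitary-type subgroups of `SL_n(q₀²)` (part 5): the twisting condition for conjugates in the
similarity group, derangements from multiplicity functions
-/

set_option autoImplicit false
set_option linter.unusedSectionVars false

namespace Cfsg.Agent.Lib.H11.UniR

open Matrix Polynomial Module Cfsg.Agent.Lib.H13.AutPSU Cfsg.Agent.Lib.H13
  Cfsg.Agent.Lib.H11.InvCls Cfsg.Agent.Lib.H11.SubfR Cfsg.Agent.Lib.H11.HermNorm

variable {F : Type*} [Field F] {n q₀ : ℕ} (D : UF F q₀)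
  {f : (Fin n → F) → (Fin n → F) → F}

variable {E : Type*} [Field E] {r : ℕ} [NeZero r]

/-- the twisting condition for a scalar multiple of an element of order `r` conjugate into the
similarity group -/
theorem twist_of_conj_sim (hf : Cfsg.Geo.IsUnitaryFormPow q₀ f) (ι : F →+* E) (φ : E →+* E)
    (hφ : ∀ a, φ (ι a) = ι (D.τ a)) (θ : E) (hθ : IsPrimitiveRoot θ r) (hφθ : φ θ = θ ^ q₀)
    (hn : 0 < n) (x g : GL (Fin n) F) (b : F) (hb : b ≠ 0) (x' : Matrix (Fin n) (Fin n) F)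
    (hxx' : (x : Matrix (Fin n) (Fin n) F) = b • x') (hx' : x' ^ r = 1)
    (hg : g⁻¹ * x * g ∈ Cfsg.Geo.similarityGroup f) :
    ∃ c : F, c ^ r = 1 ∧ ∃ e : ZMod r, ι c = PGLPrime.zp θ e ∧
      ∀ t, PGLPrime.mult θ (x'.map ι) t =
        PGLPrime.mult θ (x'.map ι) (e - (q₀ : ZMod r) * t) := by
  obtain ⟨c₀, hc₀, hc⟩ := (mem_sim_iff D hf _).mp hg
  set gm : Matrix (Fin n) (Fin n) F := (g : Matrix (Fin n) (Fin n) F) with hgm
  set gi : Matrix (Fin n) (Fin n) F := ((g⁻¹ : GL (Fin n) F) : Matrix (Fin n) (Fin n) F) with hgi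
  have h1 : gm * gi = 1 := by rw [hgm, hgi, ← Units.val_mul, mul_inv_cancel, Units.val_one]
  have h2 : gi * gm = 1 := by rw [hgm, hgi, ← Units.val_mul, inv_mul_cancel, Units.val_one]
  have hc1 : ct D gi * ct D gm = 1 := by rw [← ct_mul, h1, ct_one]
  have hc2 : ct D gm * ct D gi = 1 := by rw [← ct_mul, h2, ct_one]
  have hdet := det_gramT_ne_zero D hf
  have hdetu : IsUnit (gramT f).det := isUnit_iff_ne_zero.mpr hdet
  have hval : ((g⁻¹ * x * g : GL (Fin n) F) : Matrix (Fin n) (Fin n) F) = b • (gi * x' * gm) := by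
    rw [Units.val_mul, Units.val_mul, hxx', Matrix.mul_smul, Matrix.smul_mul]
  rw [hval, ct_smul, Matrix.smul_mul, Matrix.smul_mul, Matrix.mul_smul, smul_smul] at hc
  have hτb : D.τ b ≠ 0 := (map_ne_zero D.τ).mpr hb
  have hbb : D.τ b * b ≠ 0 := mul_ne_zero hτb hb
  set c' : F := (D.τ b * b)⁻¹ * c₀ with hc'
  have hy : ct D (gi * x' * gm) * gramT f * (gi * x' * gm) = c' • gramT f := by
    have := congrArg (fun M => (D.τ b * b)⁻¹ • M) hc
    simp only [smul_smul] at this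
    rw [inv_mul_cancel₀ hbb, one_smul] at this
    exact this
  set X' : Matrix (Fin n) (Fin n) F := ct D gi * gramT f * gi with hX'
  have hX'1 : X' * (gm * (gramT f)⁻¹ * ct D gm) = 1 := by
    calc X' * (gm * (gramT f)⁻¹ * ct D gm)
        = ct D gi * (gramT f * ((gi * gm) * (gramT f)⁻¹)) * ct D gm := by
          rw [hX']; simp only [Matrix.mul_assoc]
      _ = 1 := by
          rw [h2, Matrix.one_mul, Matrix.mul_nonsing_inv _ hdetu, Matrix.mul_one, hc1]
  have hrel : ct D x' * X' * x' = c' • X' := by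
    have hct : ct D (gi * x' * gm) = ct D gm * (ct D x' * ct D gi) := by
      rw [ct_mul D (gi * x') gm, ct_mul D gi x']
    rw [hct] at hy
    have := congrArg (fun M => ct D gi * M * gi) hy
    beta_reduce at this
    calc ct D x' * X' * x'
        = (ct D gi * ct D gm) * (ct D x' * ct D gi * gramT f * gi * x') * (gm * gi) := by
          rw [hc1, h1, Matrix.one_mul, Matrix.mul_one, hX']
          simp only [Matrix.mul_assoc]
      _ = ct D gi * (ct D gm * (ct D x' * ct D gi) * gramT f * (gi * x' * gm)) * gi := by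
          simp only [Matrix.mul_assoc]
      _ = c' • X' := by
          rw [this, hX', Matrix.mul_smul, Matrix.smul_mul]
  have hr0 : 0 < r := Nat.pos_of_ne_zero (NeZero.ne r)
  have hxi : x' * x' ^ (r - 1) = 1 := by
    rw [← pow_succ', Nat.sub_add_cancel hr0, hx']
  have hcr := mult_pow_eq_one D hn x' X' _ hX'1 c' hrel r hx'
  obtain ⟨e, he1, he2⟩ := mult_of_sim D ι φ hφ θ hθ hφθ hn x' (x' ^ (r - 1)) X' _ hxi hX'1 c' hrel
    hx'
  exact ⟨c', hcr, e, he1, he2⟩

include D in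
/-- a derangement from a multiplicity function violating the twisting condition (`r ∣ q - 1`) -/
theorem exists_derangement_of_mult (hf : Cfsg.Geo.IsUnitaryFormPow q₀ f) (ζ : F)
    (hζ : IsPrimitiveRoot ζ r) (hn : 0 < n)
    (m : ZMod r → ℕ) (hm : ∑ t, m t = n) (b : F) (hb : b ≠ 0)
    (hdet : b ^ n * PGLPrime.zp ζ (∑ t : ZMod r, m t • t) = 1)
    (k₁ k₂ : ZMod r) (hne : k₁ ≠ k₂) (h1 : m k₁ ≠ 0) (h2 : m k₂ ≠ 0)
    (hno : ¬ ∃ e : ZMod r, ∀ t, m t = m (e - (q₀ : ZMod r) * t)) :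
    ∃ x ∈ Cfsg.Geo.specialLinear (Fin n) F,
      (∃ z : F, ((x ^ r : GL (Fin n) F) : Matrix (Fin n) (Fin n) F) =
        z • (1 : Matrix (Fin n) (Fin n) F)) ∧
      (∀ z : F, (x : Matrix (Fin n) (Fin n) F) ≠ z • (1 : Matrix (Fin n) (Fin n) F)) ∧
      ∀ g ∈ Cfsg.Geo.specialLinear (Fin n) F,
        g⁻¹ * x * g ∉ Cfsg.Geo.similarityGroup f := by
  obtain ⟨x', hx', hmult⟩ := PGLPrime.exists_of_mult (n := n) ζ hζ m hm
  rw [one_smul] at hx'
  have hdetx : (b • (x' : Matrix (Fin n) (Fin n) F)).det = 1 := by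
    rw [Matrix.det_smul, Fintype.card_fin, det_eq_zp ζ hζ x' hx']
    have : (∑ t : ZMod r, PGLPrime.mult ζ (x' : Matrix (Fin n) (Fin n) F) t • t) =
        ∑ t : ZMod r, m t • t := Finset.sum_congr rfl (fun t _ => by rw [hmult])
    rw [this, hdet]
  set xs : GL (Fin n) F := Matrix.GeneralLinearGroup.mkOfDetNeZero
    (b • (x' : Matrix (Fin n) (Fin n) F)) (by rw [hdetx]; exact one_ne_zero) with hxs
  have hxsv : (xs : Matrix (Fin n) (Fin n) F) = b • (x' : Matrix (Fin n) (Fin n) F) := rfl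
  refine ⟨xs, ?_, ⟨b ^ r, ?_⟩, ?_, ?_⟩
  · rw [Cfsg.Agent.Lib.H28.mem_specialLinear_iff, hxsv, hdetx]
  · rw [Units.val_pow_eq_pow_val, hxsv, _root_.smul_pow, hx']
  · intro z hz
    rw [hxsv] at hz
    have h3 : (x' : Matrix (Fin n) (Fin n) F) = (b⁻¹ * z) • 1 := by
      rw [← smul_smul, ← hz, smul_smul, inv_mul_cancel₀ hb, one_smul]
    exact not_scalar_of_mult ζ hζ _ k₁ k₂ hne (by rw [hmult]; exact h1) (by rw [hmult]; exact h2)
      _ h3
  · intro g _ hg
    have hζq : D.τ ζ = ζ ^ q₀ := D.hτ ζ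
    obtain ⟨c, -, e, -, he⟩ := twist_of_conj_sim D hf (RingHom.id F) (D.τ : F →+* F)
      (fun a => rfl) ζ hζ hζq hn xs g b hb (x' : Matrix (Fin n) (Fin n) F) hxsv hx' hg
    apply hno
    refine ⟨e, fun t => ?_⟩
    have hid : (x' : Matrix (Fin n) (Fin n) F).map (RingHom.id F) =
        (x' : Matrix (Fin n) (Fin n) F) := by
      ext i j
      rfl
    rw [hid] at he
    rw [← hmult, ← hmult]
    exact he t

end Cfsg.Agent.Lib.H11.UniR
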