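import Cfsg.Agent.Lib.H11.UniR5

/-!
# Unitary-type subgroups of `SL_n(q₀²)` (part 6): the derangements for `r ∣ q₀ - 1`
-/

set_option autoImplicit false
set_option linter.unusedSectionVars false

namespace Cfsg.Agent.Lib.H11.UniR

open Matrix Polynomial Module Cfsg.Agent.Lib.H13.AutPSU Cfsg.Agent.Lib.H13
  Cfsg.Agent.Lib.H11.InvCls Cfsg.Agent.Lib.H11.SubfR Cfsg.Agent.Lib.H11.HermNorm

variable {F : Type*} [Field F] [Fintype F] {n q₀ : ℕ} (D : UF F q₀)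
  {f : (Fin n → F) → (Fin n → F) → F}

theorem no_twist_of_neg {r : ℕ} (m : ZMod r → ℕ) (hs : (q₀ : ZMod r) = 1)
    (h : ¬ ∃ e : ZMod r, ∀ t, m t = m ((-1) * t - e)) :
    ¬ ∃ e : ZMod r, ∀ t, m t = m (e - (q₀ : ZMod r) * t) := by
  rintro ⟨e, he⟩
  apply h
  refine ⟨-e, fun t => ?_⟩
  rw [he t, hs]
  congr 1
  ring

include D in
/-- the derangement `diag(ζ, ζ, ζ⁻², 1, …, 1)` when `q₀ ≡ 1` modulo `r ≥ 5` -/
theorem der_D2 (hf : Cfsg.Geo.IsUnitaryFormPow q₀ f) (r : ℕ) [Fact r.Prime] (hr2 : r ≠ 2)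
    (hr3 : r ≠ 3) (hrq : r ∣ Fintype.card F - 1) (hn : 3 ≤ n) (hs : (q₀ : ZMod r) = 1)
    (h55 : ¬ (n = 5 ∧ r = 5)) :
    ∃ x ∈ Cfsg.Geo.specialLinear (Fin n) F,
      (∃ z : F, ((x ^ r : GL (Fin n) F) : Matrix (Fin n) (Fin n) F) =
        z • (1 : Matrix (Fin n) (Fin n) F)) ∧
      (∀ z : F, (x : Matrix (Fin n) (Fin n) F) ≠ z • (1 : Matrix (Fin n) (Fin n) F)) ∧
      ∀ g ∈ Cfsg.Geo.specialLinear (Fin n) F,
        g⁻¹ * x * g ∉ Cfsg.Geo.similarityGroup f := by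
  have hr : r.Prime := Fact.out
  obtain ⟨ζ, hζ⟩ := exists_primitiveRoot (F := F) r hr.pos hrq
  have h3 := zmod_three_ne_zero (r := r) hr3
  have h12 : (1 : ZMod r) ≠ -2 := by
    intro h; apply h3; linear_combination h
  refine exists_derangement_of_mult D hf ζ hζ (by omega) (mD2 r n) (card_mD2 n hn) 1 one_ne_zero
    (by rw [one_pow, one_mul, wsum_mD2, PGLPrime.zp_zero]) 1 (-2) h12 ?_ ?_
    (no_twist_of_neg _ hs (no_twist_mD2 hr2 hr3 n h55))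
  · unfold mD2; rw [if_pos rfl]; omega
  · unfold mD2; rw [if_pos rfl]; omega

include D in
/-- the derangement `diag(ζ, ζ, ζ, 1, …, 1)` when `q₀ ≡ 1` modulo `3` -/
theorem der_D2' (hf : Cfsg.Geo.IsUnitaryFormPow q₀ f) (r : ℕ) [Fact r.Prime] (hr3 : r = 3)
    (hrq : r ∣ Fintype.card F - 1) (hn : 4 ≤ n) (hn6 : n ≠ 6) (hs : (q₀ : ZMod r) = 1) :
    ∃ x ∈ Cfsg.Geo.specialLinear (Fin n) F,
      (∃ z : F, ((x ^ r : GL (Fin n) F) : Matrix (Fin n) (Fin n) F) =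
        z • (1 : Matrix (Fin n) (Fin n) F)) ∧
      (∀ z : F, (x : Matrix (Fin n) (Fin n) F) ≠ z • (1 : Matrix (Fin n) (Fin n) F)) ∧
      ∀ g ∈ Cfsg.Geo.specialLinear (Fin n) F,
        g⁻¹ * x * g ∉ Cfsg.Geo.similarityGroup f := by
  subst hr3
  obtain ⟨ζ, hζ⟩ := exists_primitiveRoot (F := F) 3 (by norm_num) hrq
  refine exists_derangement_of_mult D hf ζ hζ (by omega) (mD2' n) (card_mD2' n (by omega)) 1
    one_ne_zero (by rw [one_pow, one_mul, wsum_mD2', PGLPrime.zp_zero]) 1 0 one_ne_zero ?_ ?_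
    (no_twist_of_neg _ hs (no_twist_mD2' n hn hn6))
  · unfold mD2'; rw [if_pos rfl]; omega
  · unfold mD2'; rw [if_pos rfl, if_neg zero_ne_one]; omega

include D in
/-- the derangement `b · diag(1, …, 1, b ^ (-r))`, `b` of order `r ^ 2`, in degree `r` when
`q₀ ≡ 1` modulo `r` -/
theorem der_D3 (hf : Cfsg.Geo.IsUnitaryFormPow q₀ f) (r : ℕ) [Fact r.Prime] (hr2 : r ≠ 2)
    (hrq : r ^ 2 ∣ Fintype.card F - 1) (hn : n = r) (hs : (q₀ : ZMod r) = 1) :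
    ∃ x ∈ Cfsg.Geo.specialLinear (Fin n) F,
      (∃ z : F, ((x ^ r : GL (Fin n) F) : Matrix (Fin n) (Fin n) F) =
        z • (1 : Matrix (Fin n) (Fin n) F)) ∧
      (∀ z : F, (x : Matrix (Fin n) (Fin n) F) ≠ z • (1 : Matrix (Fin n) (Fin n) F)) ∧
      ∀ g ∈ Cfsg.Geo.specialLinear (Fin n) F,
        g⁻¹ * x * g ∉ Cfsg.Geo.similarityGroup f := by
  have hr : r.Prime := Fact.out
  have hr3 : 3 ≤ r := by
    have := hr.two_le
    omega
  obtain ⟨ζ, hζ⟩ := exists_primitiveRoot (F := F) r hr.pos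
    ((dvd_pow_self r two_ne_zero).trans hrq)
  obtain ⟨b, hb⟩ := exists_primitiveRoot (F := F) (r ^ 2) (by positivity) hrq
  have hb0 : b ≠ 0 := hb.ne_zero (by positivity)
  have hbr : b ^ r ≠ 1 := by
    apply hb.pow_ne_one_of_pos_of_lt hr.ne_zero
    calc r = r ^ 1 := (pow_one r).symm
      _ < r ^ 2 := Nat.pow_lt_pow_right hr.one_lt (by norm_num)
  have hbrr : ((b ^ r)⁻¹) ^ r = 1 := by
    rw [inv_pow, ← pow_mul, ← pow_two, hb.pow_eq_one, inv_one]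
  obtain ⟨τ, hτ⟩ := PGLPrime.exists_zp ζ hζ _ hbrr
  have hτ0 : τ ≠ 0 := by
    rintro rfl
    rw [PGLPrime.zp_zero] at hτ
    apply hbr
    rw [← inv_inv (b ^ r), ← hτ, inv_one]
  refine exists_derangement_of_mult D hf ζ hζ (by omega) (mD3 r n τ) (card_mD3 n (by omega) τ) b
    hb0 (by rw [wsum_mD3, hτ, hn, mul_inv_cancel₀ (pow_ne_zero _ hb0)]) 0 τ (Ne.symm hτ0) ?_ ?_
    (no_twist_of_neg _ hs (no_twist_mD3 hr2 n (by omega) τ hτ0))
  · unfold mD3; rw [if_pos rfl, if_neg (Ne.symm hτ0)]; omega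
  · unfold mD3; rw [if_neg hτ0, if_pos rfl]; omega

end Cfsg.Agent.Lib.H11.UniR
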