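import Cfsg.Agent.Lib.H11.UniR7

/-!
# Unitary-type subgroups of `SL_n(q₀²)` (part 8): semisimple elements with symmetric eigenvalue
multiplicities are conjugate into the similarity group (`r ∣ q₀ - 1`)
-/

set_option autoImplicit false
set_option linter.unusedSectionVars false

namespace Cfsg.Agent.Lib.H11.UniR

open Matrix Polynomial Module Cfsg.Agent.Lib.H13.AutPSU Cfsg.Agent.Lib.H13
  Cfsg.Agent.Lib.H11.InvCls Cfsg.Agent.Lib.H11.SubfR Cfsg.Agent.Lib.H11.HermNorm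
  Cfsg.Agent.Lib.H24.Elus

variable {F : Type*} [Field F] {n q₀ : ℕ} (D : UF F q₀)
  {f : (Fin n → F) → (Fin n → F) → F} {r : ℕ} [NeZero r]

/-- eigenvalue multiplicities of the conjugate transpose -/
theorem mult_ct (ζ : F) (hζ : ζ ^ r = 1) (x : Matrix (Fin n) (Fin n) F) (t : ZMod r) :
    PGLPrime.mult ζ (ct D x) ((q₀ : ZMod r) * t) = PGLPrime.mult ζ x t := by
  unfold PGLPrime.mult
  have h1 : ct D x = (x.map (D.τ : F →+* F))ᵀ := rfl
  rw [h1, finrank_ker_transpose]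
  have h2 : (PGLPrime.fA ζ t).map (D.τ : F →+* F) = PGLPrime.fA ζ ((q₀ : ZMod r) * t) := by
    rw [PGLPrime.fA, PGLPrime.fA, Polynomial.map_sub, Polynomial.map_X, Polynomial.map_C,
      zp_natCast_mul ζ hζ]
    congr 2
    exact D.hτ _
  rw [← h2]
  exact finrank_ker_map (D.τ : F →+* F) x (PGLPrime.fA ζ t)

/-- a semisimple matrix with symmetric eigenvalue multiplicities preserves a nondegenerate
sesquilinear form -/
theorem exists_form_of_symm (ζ : F) (hζ : IsPrimitiveRoot ζ r) (hs : (q₀ : ZMod r) = 1)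
    (x' : Matrix (Fin n) (Fin n) F) (hx' : x' ^ r = 1)
    (hsym : ∀ t : ZMod r, PGLPrime.mult ζ x' (-t) = PGLPrime.mult ζ x' t) :
    ∃ X Xi : Matrix (Fin n) (Fin n) F, X * Xi = 1 ∧ ct D x' * X * x' = X := by
  have hr0 : 0 < r := Nat.pos_of_ne_zero (NeZero.ne r)
  have hζ1 : ζ ^ r = 1 := hζ.pow_eq_one
  have hxi : x' * x' ^ (r - 1) = 1 := by
    rw [← pow_succ', Nat.sub_add_cancel hr0, hx']
  have hxi' : x' ^ (r - 1) * x' = 1 := mul_eq_one_comm.mp hxi
  -- the two elements of `GL`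
  have ha1 : ct D x' ^ r = (1 : F) • 1 := by rw [← ct_pow, hx', ct_one, one_smul]
  have hb1 : (x' ^ (r - 1)) ^ r = (1 : F) • 1 := by
    rw [← pow_mul, mul_comm, pow_mul, hx', one_pow, one_smul]
  have hmult : ∀ k : ZMod r, PGLPrime.mult ζ (ct D x') k = PGLPrime.mult ζ (x' ^ (r - 1)) k := by
    intro k
    have h1 := mult_ct D ζ hζ1 x' k
    rw [hs, one_mul] at h1
    rw [h1, mult_inv ζ hζ1 x' (x' ^ (r - 1)) hxi k, hsym]
  have hconj := PGLPrime.conj_of_mult_eq ζ hζ (PGLPrime.glOfPow (ct D x') 1 one_ne_zero hr0 ha1)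
    (PGLPrime.glOfPow (x' ^ (r - 1)) 1 one_ne_zero hr0 hb1) ha1 hb1 hmult
  rw [isConj_iff] at hconj
  obtain ⟨c, hc⟩ := hconj
  have hc1 : (c : Matrix (Fin n) (Fin n) F) * ct D x' =
      x' ^ (r - 1) * (c : Matrix (Fin n) (Fin n) F) := by
    have h1 : c * PGLPrime.glOfPow (ct D x') 1 one_ne_zero hr0 ha1 =
        PGLPrime.glOfPow (x' ^ (r - 1)) 1 one_ne_zero hr0 hb1 * c := by
      rw [← hc, inv_mul_cancel_right]
    have h2 := congrArg Units.val h1
    rwa [Units.val_mul, Units.val_mul, PGLPrime.glOfPow_val, PGLPrime.glOfPow_val] at h2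
  set cm : Matrix (Fin n) (Fin n) F := (c : Matrix (Fin n) (Fin n) F) with hcm
  set ci : Matrix (Fin n) (Fin n) F := ((c⁻¹ : GL (Fin n) F) : Matrix (Fin n) (Fin n) F)
    with hci
  have hcc : cm * ci = 1 := by rw [hcm, hci, ← Units.val_mul, mul_inv_cancel, Units.val_one]
  have hcc' : ci * cm = 1 := by rw [hcm, hci, ← Units.val_mul, inv_mul_cancel, Units.val_one]
  refine ⟨ci, cm, hcc', ?_⟩
  -- `ct x' * ci = ci * x' ^ (r - 1)`
  have h3 : ct D x' * ci = ci * x' ^ (r - 1) := by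
    calc ct D x' * ci = (ci * cm) * ct D x' * ci := by rw [hcc', Matrix.one_mul]
      _ = ci * (cm * ct D x') * ci := by simp only [Matrix.mul_assoc]
      _ = ci * x' ^ (r - 1) * (cm * ci) := by rw [hc1]; simp only [Matrix.mul_assoc]
      _ = ci * x' ^ (r - 1) := by rw [hcc, Matrix.mul_one]
  rw [h3, Matrix.mul_assoc, hxi', Matrix.mul_one]

variable [Fintype F]

include D in
/-- a scalar multiple of a semisimple matrix with symmetric eigenvalue multiplicities is conjugate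
into the similarity group -/
theorem conj_sim_of_symm (hf : Cfsg.Geo.IsUnitaryFormPow q₀ f) (ζ : F)
    (hζ : IsPrimitiveRoot ζ r) (hs : (q₀ : ZMod r) = 1) (hn : 0 < n) (x : GL (Fin n) F)
    (hx : x ∈ Cfsg.Geo.specialLinear (Fin n) F) (b : F) (hb : b ≠ 0)
    (x' : Matrix (Fin n) (Fin n) F) (hxx' : (x : Matrix (Fin n) (Fin n) F) = b • x')
    (hx' : x' ^ r = 1) (hsym : ∀ t : ZMod r, PGLPrime.mult ζ x' (-t) = PGLPrime.mult ζ x' t) :
    ∃ g ∈ Cfsg.Geo.specialLinear (Fin n) F, g⁻¹ * x * g ∈ Cfsg.Geo.similarityGroup f := by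
  have hr0 : 0 < r := Nat.pos_of_ne_zero (NeZero.ne r)
  obtain ⟨X, Xi, hX, hinv⟩ := exists_form_of_symm D ζ hζ hs x' hx' hsym
  have hxi : x' * x' ^ (r - 1) = 1 := by
    rw [← pow_succ', Nat.sub_add_cancel hr0, hx']
  refine exists_sl_conj_sim D hf x hx b hb x' (x' ^ (r - 1)) X Xi hxx' hxi hX hinv (fun d => ?_)
  obtain ⟨C, hC, hCd⟩ := exists_commute_det (PGLPrime.fA (r := r) ζ) (PGLPrime.fA_irreducible ζ)
    (PGLPrime.fA_coprime ζ hζ) hn x' (by
      rw [PGLPrime.prod_fA ζ hζ, ← C_1]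
      exact PGLPrime.aeval_pow_sub x' 1 (by rw [hx', one_smul])) d
  refine ⟨C, ?_, hCd⟩
  rw [hxx', Matrix.mul_smul, Matrix.smul_mul, hC]

end Cfsg.Agent.Lib.H11.UniR
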