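import Cfsg.Agent.Lib.H11.UniR8
import Cfsg.Agent.Lib.H11.Jordan5

/-!
# Unitary-type subgroups of `SL_n(q₀²)` (part 9): the degree `r ∈ {3, 5}` case and involutions
-/

set_option autoImplicit false
set_option linter.unusedSectionVars false

namespace Cfsg.Agent.Lib.H11.UniR

open Matrix Polynomial Module Cfsg.Agent.Lib.H13.AutPSU Cfsg.Agent.Lib.H13
  Cfsg.Agent.Lib.H11.InvCls Cfsg.Agent.Lib.H11.SubfR Cfsg.Agent.Lib.H11.HermNorm
  Cfsg.Agent.Lib.H24.Elus Cfsg.Agent.Lib.H11.Jordan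

variable {F : Type*} [Field F] [Fintype F] {n q₀ : ℕ} (D : UF F q₀)
  {f : (Fin n → F) → (Fin n → F) → F}

include D in
/-- in degree `r` with `q₀ ≡ 1` modulo `r`, if every multiplicity function of weight zero has a
centre of symmetry, every element of order `r` is conjugate into the similarity group -/
theorem conj_sim_special_aux (hf : Cfsg.Geo.IsUnitaryFormPow q₀ f) (r : ℕ) [Fact r.Prime]
    (ζ : F) (hζ : IsPrimitiveRoot ζ r) (hs : (q₀ : ZMod r) = 1)
    (hcenter : ∀ m : ZMod r → ℕ, ∑ t, m t = r → ∑ t : ZMod r, m t • t = 0 →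
      ∃ c : ZMod r, ∀ t, m (c + t) = m (c - t))
    (hn : n = r) (x : GL (Fin n) F) (hx : x ∈ Cfsg.Geo.specialLinear (Fin n) F)
    (hxr : (x : Matrix (Fin n) (Fin n) F) ^ r = 1) :
    ∃ g ∈ Cfsg.Geo.specialLinear (Fin n) F, g⁻¹ * x * g ∈ Cfsg.Geo.similarityGroup f := by
  classical
  subst hn
  have hr : n.Prime := Fact.out
  have hζ1 : ζ ^ n = 1 := hζ.pow_eq_one
  set xm : Matrix (Fin n) (Fin n) F := (x : Matrix (Fin n) (Fin n) F) with hxm
  have hx1 : xm ^ n = (1 : F) • 1 := by rw [hxr, one_smul]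
  have hdet : xm.det = 1 := (Cfsg.Agent.Lib.H28.mem_specialLinear_iff x).mp hx
  -- the weighted sum of the multiplicities vanishes
  have hw : ∑ t : ZMod n, PGLPrime.mult ζ xm t • t = 0 := by
    have h1 := det_eq_zp ζ hζ x hxr
    rw [← hxm, hdet] at h1
    have h2 : PGLPrime.zp ζ (0 : ZMod n) =
        PGLPrime.zp ζ (∑ t : ZMod n, PGLPrime.mult ζ xm t • t) := by
      rw [PGLPrime.zp_zero]; exact h1
    exact (PGLPrime.zp_injective ζ hζ h2).symm
  obtain ⟨c₀, hc₀⟩ := hcenter (PGLPrime.mult ζ xm) (PGLPrime.sum_mult ζ hζ xm hx1) hw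
  -- the shifted element
  set x' : Matrix (Fin n) (Fin n) F := PGLPrime.zp ζ (-c₀) • xm with hx'
  have hx'r : x' ^ n = 1 := by
    rw [hx', _root_.smul_pow, PGLPrime.zp_pow ζ hζ1, hxr, one_smul]
  have hxx' : xm = PGLPrime.zp ζ c₀ • x' := by
    rw [hx', smul_smul, ← PGLPrime.zp_add ζ hζ1, add_neg_cancel, PGLPrime.zp_zero, one_smul]
  have hm' : ∀ t : ZMod n, PGLPrime.mult ζ x' t = PGLPrime.mult ζ xm (t + c₀) := by
    intro t
    rw [hx', PGLPrime.mult_smul ζ hζ1, sub_neg_eq_add]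
  have hsym' : ∀ t : ZMod n, PGLPrime.mult ζ x' (-t) = PGLPrime.mult ζ x' t := by
    intro t
    rw [hm', hm', add_comm t c₀, hc₀ t]
    congr 1
    ring
  exact conj_sim_of_symm D hf ζ hζ hs hr.pos x hx (PGLPrime.zp ζ c₀)
    (PGLPrime.zp_ne_zero ζ hζ1 c₀) x' hxx' hx'r hsym'

include D in
/-- in degree `r ∈ {3, 5}` with `q₀ ≡ 1` modulo `r`, every element of order `r` of `SL_r(q₀²)`
is conjugate into the unitary-type subgroup -/
theorem conj_sim_special (hf : Cfsg.Geo.IsUnitaryFormPow q₀ f) (r : ℕ) [Fact r.Prime]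
    (hr35 : r = 3 ∨ r = 5) (hrq : r ∣ Fintype.card F - 1) (hs : (q₀ : ZMod r) = 1)
    (hn : n = r) (x : GL (Fin n) F) (hx : x ∈ Cfsg.Geo.specialLinear (Fin n) F)
    (hxr : (x : Matrix (Fin n) (Fin n) F) ^ r = 1) :
    ∃ g ∈ Cfsg.Geo.specialLinear (Fin n) F, g⁻¹ * x * g ∈ Cfsg.Geo.similarityGroup f := by
  have hr : r.Prime := Fact.out
  obtain ⟨ζ, hζ⟩ := exists_primitiveRoot (F := F) r hr.pos hrq
  rcases hr35 with rfl | rfl
  · exact conj_sim_special_aux D hf 3 ζ hζ hs exists_center_three hn x hx hxr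
  · exact conj_sim_special_aux D hf 5 ζ hζ hs exists_center_five hn x hx hxr

/-- a unipotent matrix preserves a nondegenerate sesquilinear form -/
theorem exists_form_of_unipotent (u ui : Matrix (Fin n) (Fin n) F) (h1 : u * ui = 1)
    (hN : IsNilpotent (u - 1)) :
    ∃ X Xi : Matrix (Fin n) (Fin n) F, X * Xi = 1 ∧ ct D u * X * u = X := by
  have h2 : ui * u = 1 := mul_eq_one_comm.mp h1
  obtain ⟨μ, h⟩ := exists_hasType u hN
  have hw := h.ct_inv D h1
  obtain ⟨X, hX⟩ := h.isConj hw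
  have hX' : (X : Matrix (Fin n) (Fin n) F) * u = ct D ui * X := hX
  refine ⟨X, ((X⁻¹ : (Matrix (Fin n) (Fin n) F)ˣ) : Matrix (Fin n) (Fin n) F), X.mul_inv, ?_⟩
  rw [Matrix.mul_assoc, hX', ← Matrix.mul_assoc, ← ct_mul, h2, ct_one, Matrix.one_mul]

include D in
/-- characteristic two: every element with scalar square is conjugate into the unitary-type
subgroup -/
theorem conj_sim_char_two (hf : Cfsg.Geo.IsUnitaryFormPow q₀ f) (hn : 0 < n) (h2 : (2 : F) = 0)
    (x : GL (Fin n) F) (hx : x ∈ Cfsg.Geo.specialLinear (Fin n) F) (z : F)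
    (hxz : (x : Matrix (Fin n) (Fin n) F) * (x : Matrix (Fin n) (Fin n) F) =
      z • (1 : Matrix (Fin n) (Fin n) F)) :
    ∃ g ∈ Cfsg.Geo.specialLinear (Fin n) F, g⁻¹ * x * g ∈ Cfsg.Geo.similarityGroup f := by
  have hdet : (x : Matrix (Fin n) (Fin n) F).det = 1 :=
    (Cfsg.Agent.Lib.H28.mem_specialLinear_iff x).mp hx
  have hz0 : z ≠ 0 := by
    rintro rfl
    have h1 := congrArg Matrix.det hxz
    have : Nonempty (Fin n) := ⟨⟨0, hn⟩⟩
    rw [Matrix.det_mul, hdet, zero_smul, Matrix.det_zero] at h1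
    simp at h1
  obtain ⟨l, hl⟩ := FiniteField.isSquare_of_char_two (two_eq_zero_iff_ringChar h2) z
  have hl0 : l ≠ 0 := by
    rintro rfl
    rw [mul_zero] at hl
    exact hz0 hl
  set u : Matrix (Fin n) (Fin n) F := l⁻¹ • (x : Matrix (Fin n) (Fin n) F) with hu
  have huu : u * u = 1 := by
    rw [hu, Matrix.smul_mul, Matrix.mul_smul, hxz, smul_smul, smul_smul, hl]
    have : l⁻¹ * l⁻¹ * (l * l) = 1 := by field_simp
    rw [this, one_smul]
  have hxu : (x : Matrix (Fin n) (Fin n) F) = l • u := by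
    rw [hu, smul_smul, mul_inv_cancel₀ hl0, one_smul]
  have hNN : (u - 1) * (u - 1) = 0 := by
    have : (u - 1) * (u - 1) = u * u - (2 : F) • u + 1 := by
      rw [two_smul]
      noncomm_ring
    rw [this, huu, h2, zero_smul, sub_zero]
    have : (1 : Matrix (Fin n) (Fin n) F) + 1 = (2 : F) • 1 := by rw [two_smul]
    rw [this, h2, zero_smul]
  have hN : IsNilpotent (u - 1) := ⟨2, by rw [pow_two, hNN]⟩
  obtain ⟨X, Xi, hX, hinv⟩ := exists_form_of_unipotent D u u huu hN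
  exact exists_sl_conj_sim D hf x hx l hl0 u u X Xi hxu huu hX hinv
    (fun d => exists_centralizer_det hn _ z hz0 hxz d)

include D in
/-- odd characteristic: every element with square scalar square is conjugate into the
unitary-type subgroup -/
theorem conj_sim_square (hf : Cfsg.Geo.IsUnitaryFormPow q₀ f) (hn : 0 < n) (h2 : (2 : F) ≠ 0)
    (hq₀ : Odd q₀)
    (x : GL (Fin n) F) (hx : x ∈ Cfsg.Geo.specialLinear (Fin n) F) (z : F) (hz : IsSquare z)
    (hxz : (x : Matrix (Fin n) (Fin n) F) * (x : Matrix (Fin n) (Fin n) F) =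
      z • (1 : Matrix (Fin n) (Fin n) F)) :
    ∃ g ∈ Cfsg.Geo.specialLinear (Fin n) F, g⁻¹ * x * g ∈ Cfsg.Geo.similarityGroup f := by
  have hdet : (x : Matrix (Fin n) (Fin n) F).det = 1 :=
    (Cfsg.Agent.Lib.H28.mem_specialLinear_iff x).mp hx
  have hz0 : z ≠ 0 := by
    rintro rfl
    have h1 := congrArg Matrix.det hxz
    have : Nonempty (Fin n) := ⟨⟨0, hn⟩⟩
    rw [Matrix.det_mul, hdet, zero_smul, Matrix.det_zero] at h1
    simp at h1
  obtain ⟨l, hl⟩ := hz
  have hl0 : l ≠ 0 := by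
    rintro rfl
    rw [mul_zero] at hl
    exact hz0 hl
  set u : Matrix (Fin n) (Fin n) F := l⁻¹ • (x : Matrix (Fin n) (Fin n) F) with hu
  have huu : u * u = 1 := by
    rw [hu, Matrix.smul_mul, Matrix.mul_smul, hxz, smul_smul, smul_smul, hl]
    have : l⁻¹ * l⁻¹ * (l * l) = 1 := by field_simp
    rw [this, one_smul]
  have hxu : (x : Matrix (Fin n) (Fin n) F) = l • u := by
    rw [hu, smul_smul, mul_inv_cancel₀ hl0, one_smul]
  have hζ : IsPrimitiveRoot (-1 : F) 2 := by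
    refine IsPrimitiveRoot.mk_of_lt (-1) (by norm_num) (by norm_num) ?_
    intro k hk0 hk2
    have hk1 : k = 1 := by omega
    rw [hk1, pow_one]
    intro h
    apply h2
    have : (2 : F) = 1 - (-1) := by ring
    rw [this, h, sub_self]
  have hs : ((q₀ : ℕ) : ZMod 2) = 1 := ZMod.natCast_eq_one_iff_odd.mpr hq₀
  exact conj_sim_of_symm D hf (-1) hζ hs hn x hx l hl0 u hxu (by rw [pow_two, huu])
    (fun t => by rw [ZMod.neg_eq_self_mod_two])

end Cfsg.Agent.Lib.H11.UniR
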