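import Cfsg.Agent.Lib.H11.UnitaryFrames
import Cfsg.Agent.S0837
import Cfsg.Agent.Lib.H4.Herm
set_option autoImplicit false

namespace Cfsg.Agent.Lib.H11.UFrames

/-- number of totally isotropic `k`-subspaces of the standard unitary space, times `|GL_k(q^2)|` -/
theorem card_ti_mul {F : Type*} [Field F] [Fintype F] {q : ℕ} (hF : Fintype.card F = q ^ 2) (n k : ℕ) :
    Nat.card {W : Submodule F (Fin n → F) // Module.finrank F W = k ∧
        ∀ u ∈ W, ∀ v ∈ W, Cfsg.hermForm n F q u v = 0} *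
      ∏ i : Fin k, ((q ^ 2) ^ k - (q ^ 2) ^ (i : ℕ)) =
    ∏ j : Fin k, ((q ^ 2) ^ (j : ℕ) * isoNZ q (n - 2 * j)) := by
  obtain ⟨φ, hφ, hφ2⟩ := Cfsg.Agent.Lib.H4.exists_frob hF
  have hφne := Cfsg.Agent.S0837.phi_ne_id φ hF hφ
  have hS := Cfsg.Agent.S0837.Bs_symm φ hφ2 n
  have hB := Cfsg.Agent.S0837.Bs_nondeg φ n
  have h1 := card_uFrame hF hφ hφne hφ2 (Cfsg.Agent.S0837.Bs φ n) hS hB k
  have h2 := card_uFrame_eq_mul (Cfsg.Agent.S0837.Bs φ n) k
  rw [h1, hF, Module.finrank_fintype_fun_eq_card, Fintype.card_fin] at h2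
  rw [h2]
  congr 2
  apply congrArg
  ext W
  constructor
  · rintro ⟨h, hW⟩
    refine ⟨h, fun u hu v hv => ?_⟩
    rw [Cfsg.Agent.S0837.Bs_apply]
    have := hW v hv u hu
    unfold Cfsg.hermForm at this
    simpa [hφ] using this
  · rintro ⟨h, hW⟩
    refine ⟨h, fun u hu v hv => ?_⟩
    have := hW v hv u hu
    rw [Cfsg.Agent.S0837.Bs_apply] at this
    unfold Cfsg.hermForm
    simpa [hφ] using this


end Cfsg.Agent.Lib.H11.UFrames
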