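import Mathlib
import Cfsg.Agent.S0781

set_option autoImplicit false
set_option linter.unusedSimpArgs false
set_option linter.unusedSectionVars false
set_option linter.unusedVariables false

namespace Cfsg.Agent.Lib.H11.UGen

open Matrix
open Cfsg.Agent.S0837 (Bs Bs_apply Bs_symm Bs_nondeg)
open Cfsg.Agent.S0782 (Tm Tm_mulVec Tm_det Bs_eq_herm exists_trace rot rot_mulVec rot_det
  rot_preserves exists_hyp_partner hilbert90 gu_preserves)

section basic
variable {F : Type*} [Field F] {n : ℕ} {q : ℕ}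

/-- action on vectors -/
def act (g : ↥(Cfsg.GU n F q)) (x : Fin n → F) : Fin n → F := g.1.1 *ᵥ x

theorem act_mul (g h : ↥(Cfsg.GU n F q)) (x : Fin n → F) : act (g * h) x = act g (act h x) := by
  simp only [act, Subgroup.coe_mul, Units.val_mul, Matrix.mulVec_mulVec]

theorem act_one (x : Fin n → F) : act (1 : ↥(Cfsg.GU n F q)) x = x := by
  simp [act]

theorem act_add (g : ↥(Cfsg.GU n F q)) (x y : Fin n → F) : act g (x + y) = act g x + act g y :=
  Matrix.mulVec_add _ _ _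

theorem act_sub (g : ↥(Cfsg.GU n F q)) (x y : Fin n → F) : act g (x - y) = act g x - act g y :=
  Matrix.mulVec_sub _ _ _

theorem act_neg (g : ↥(Cfsg.GU n F q)) (x : Fin n → F) : act g (-x) = -act g x :=
  Matrix.mulVec_neg _ _

theorem act_smul (g : ↥(Cfsg.GU n F q)) (c : F) (x : Fin n → F) : act g (c • x) = c • act g x :=
  Matrix.mulVec_smul _ _ _

theorem act_zero (g : ↥(Cfsg.GU n F q)) : act g (0 : Fin n → F) = 0 := Matrix.mulVec_zero _

theorem act_inv_act (g : ↥(Cfsg.GU n F q)) (x : Fin n → F) : act g⁻¹ (act g x) = x := by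
  rw [← act_mul, inv_mul_cancel, act_one]

theorem act_act_inv (g : ↥(Cfsg.GU n F q)) (x : Fin n → F) : act g (act g⁻¹ x) = x := by
  rw [← act_mul, mul_inv_cancel, act_one]

theorem ext_act {g h : ↥(Cfsg.GU n F q)} (H : ∀ x, act g x = act h x) : g = h := by
  apply Subtype.ext
  apply Units.ext
  exact Matrix.ext_iff_mulVec.2 H

theorem eq_one_of_act (g : ↥(Cfsg.GU n F q)) (h : ∀ x, act g x = x) : g = 1 :=
  ext_act fun x => by rw [h, act_one]

theorem val_eq_of_act {g : ↥(Cfsg.GU n F q)} {M : Matrix (Fin n) (Fin n) F}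
    (H : ∀ x, act g x = M *ᵥ x) : g.1.1 = M := Matrix.ext_iff_mulVec.2 H

variable (φ : F →+* F)

theorem B_act (hφ : ∀ x, φ x = x ^ q) (g : ↥(Cfsg.GU n F q)) (u v : Fin n → F) :
    Bs φ n (act g u) (act g v) = Bs φ n u v := gu_preserves φ hφ g u v

theorem B_act_inv (hφ : ∀ x, φ x = x ^ q) (g : ↥(Cfsg.GU n F q)) (u v : Fin n → F) :
    Bs φ n u (act g⁻¹ v) = Bs φ n (act g u) v := by
  rw [← B_act φ hφ g u (act g⁻¹ v), act_act_inv]

/-- the generalized unitary transvection `x ↦ x + c B(w,x) w` as a matrix -/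
def Um (w : Fin n → F) (c : F) : Matrix (Fin n) (Fin n) F := Tm φ c w w

theorem Um_eq (hφ : ∀ x, φ x = x ^ q) (w : Fin n → F) (c : F) :
    Um φ w c = Cfsg.unitaryTransvection n q w c := by
  rw [Um, Cfsg.unitaryTransvection, Tm]
  congr 3
  funext j
  rw [hφ]

theorem Um_mulVec (w : Fin n → F) (c : F) (x : Fin n → F) :
    Um φ w c *ᵥ x = x + (c * Bs φ n w x) • w := by
  rw [Um, Tm_mulVec, smul_smul]

theorem Um_mul (w : Fin n → F) (c d : F) :
    Um φ w c * Um φ w d = Um φ w (c + d + c * d * Bs φ n w w) := by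
  rw [Matrix.ext_iff_mulVec]
  intro x
  rw [← Matrix.mulVec_mulVec, Um_mulVec, Um_mulVec, Um_mulVec]
  simp only [map_add, map_smul, smul_eq_mul]
  module

theorem Um_zero (w : Fin n → F) : Um φ w 0 = 1 := by
  rw [Matrix.ext_iff_mulVec]
  intro x
  rw [Um_mulVec, zero_mul, zero_smul, add_zero, Matrix.one_mulVec]

theorem Um_det (w : Fin n → F) (c : F) : (Um φ w c).det = 1 + c * Bs φ n w w := Tm_det φ c w w

theorem Um_preserves (hφ2 : ∀ x, φ (φ x) = x) (w : Fin n → F) (c : F)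
    (hc : c + φ c + c * φ c * Bs φ n w w = 0) (x y : Fin n → F) :
    Bs φ n (Um φ w c *ᵥ x) (Um φ w c *ᵥ y) = Bs φ n x y := by
  rw [Um_mulVec, Um_mulVec]
  have h1 : φ (Bs φ n w x) = Bs φ n x w := (Bs_symm φ hφ2 n).eq w x
  simp only [map_add, map_smulₛₗ, map_smul, LinearMap.add_apply, LinearMap.smul_apply, smul_eq_mul,
    map_mul, h1]
  linear_combination (Bs φ n x w * Bs φ n w y) * hc

/-- the generalized unitary transvection as an element of `GU` -/
def uEl (hφ : ∀ x, φ x = x ^ q) (hφ2 : ∀ x, φ (φ x) = x) (w : Fin n → F) (c : F)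
    (hc : c + φ c + c * φ c * Bs φ n w w = 0) : ↥(Cfsg.GU n F q) :=
  ⟨⟨Um φ w c, Um φ w (φ c), by rw [Um_mul, hc, Um_zero], by
      rw [Um_mul]
      have : φ c + c + φ c * c * Bs φ n w w = 0 := by linear_combination hc
      rw [this, Um_zero]⟩, by
    intro u v
    show Cfsg.hermForm n F q (Um φ w c *ᵥ u) (Um φ w c *ᵥ v) = _
    rw [← Bs_eq_herm φ hφ, ← Bs_eq_herm φ hφ]
    exact Um_preserves φ hφ2 w c hc v u⟩

theorem uEl_val (hφ : ∀ x, φ x = x ^ q) (hφ2 : ∀ x, φ (φ x) = x) (w : Fin n → F) (c : F)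
    (hc : c + φ c + c * φ c * Bs φ n w w = 0) : (uEl φ hφ hφ2 w c hc).1.1 = Um φ w c := rfl

theorem uEl_act (hφ : ∀ x, φ x = x ^ q) (hφ2 : ∀ x, φ (φ x) = x) (w : Fin n → F) (c : F)
    (hc : c + φ c + c * φ c * Bs φ n w w = 0) (x : Fin n → F) :
    act (uEl φ hφ hφ2 w c hc) x = x + (c * Bs φ n w x) • w := by
  rw [act, uEl_val, Um_mulVec]

theorem uEl_act_of_orth (hφ : ∀ x, φ x = x ^ q) (hφ2 : ∀ x, φ (φ x) = x) (w : Fin n → F) (c : F)
    (hc : c + φ c + c * φ c * Bs φ n w w = 0) (x : Fin n → F) (hx : Bs φ n w x = 0) :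
    act (uEl φ hφ hφ2 w c hc) x = x := by
  rw [uEl_act, hx, mul_zero, zero_smul, add_zero]

theorem uEl_det (hφ : ∀ x, φ x = x ^ q) (hφ2 : ∀ x, φ (φ x) = x) (w : Fin n → F) (c : F)
    (hc : c + φ c + c * φ c * Bs φ n w w = 0) :
    (uEl φ hφ hφ2 w c hc).1.1.det = 1 + c * Bs φ n w w := Um_det φ w c

/-- conjugation of a generalized transvection matrix -/
theorem act_Um (hφ : ∀ x, φ x = x ^ q) (g : ↥(Cfsg.GU n F q)) (w : Fin n → F) (c : F)
    (x : Fin n → F) :
    act g (Um φ w c *ᵥ (act g⁻¹ x)) = Um φ (act g w) c *ᵥ x := by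
  rw [Um_mulVec, Um_mulVec, act_add, act_smul, act_act_inv, B_act_inv φ hφ]

/-- the generators of `T`: unitary transvections along isotropic vectors -/
def tvSet : Set ↥(Cfsg.GU n F q) :=
  {t | ∃ (v : Fin n → F) (c : F), Bs φ n v v = 0 ∧ t.1.1 = Um φ v c}

/-- the subgroup generated by the unitary transvections -/
def T : Subgroup ↥(Cfsg.GU n F q) := Subgroup.closure (tvSet φ)

theorem conj_mem_tvSet (hφ : ∀ x, φ x = x ^ q) (g t : ↥(Cfsg.GU n F q)) (ht : t ∈ tvSet φ) :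
    g * t * g⁻¹ ∈ tvSet φ := by
  obtain ⟨v, c, hv, htv⟩ := ht
  refine ⟨act g v, c, by rw [B_act φ hφ]; exact hv, ?_⟩
  apply val_eq_of_act
  intro x
  rw [act_mul, act_mul, ← act_Um φ hφ, ← htv]
  rfl

theorem T_normal (hφ : ∀ x, φ x = x ^ q) : (T (n := n) (q := q) φ).Normal := by
  constructor
  intro h hh g
  unfold T at hh ⊢
  induction hh using Subgroup.closure_induction with
  | mem s hs => exact Subgroup.subset_closure (conj_mem_tvSet φ hφ g s hs)
  | one => simp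
  | mul x y _ _ hx hy =>
    have : g * (x * y) * g⁻¹ = (g * x * g⁻¹) * (g * y * g⁻¹) := by group
    rw [this]
    exact mul_mem hx hy
  | inv x _ hx =>
    have : g * x⁻¹ * g⁻¹ = (g * x * g⁻¹)⁻¹ := by group
    rw [this]
    exact inv_mem hx

theorem uEl_mem_T (hφ : ∀ x, φ x = x ^ q) (hφ2 : ∀ x, φ (φ x) = x) (w : Fin n → F) (c : F)
    (hw : Bs φ n w w = 0) (hc : c + φ c + c * φ c * Bs φ n w w = 0) :
    uEl φ hφ hφ2 w c hc ∈ T φ :=
  Subgroup.subset_closure ⟨w, c, hw, rfl⟩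

theorem det_eq_one_of_mem_T (t : ↥(Cfsg.GU n F q)) (ht : t ∈ T φ) : t.1.1.det = 1 := by
  unfold T at ht
  induction ht using Subgroup.closure_induction with
  | mem s hs =>
    obtain ⟨v, c, hv, hs⟩ := hs
    rw [hs, Um_det, hv, mul_zero, add_zero]
  | one => simp
  | mul x y _ _ hx hy =>
    rw [Subgroup.coe_mul, Units.val_mul, Matrix.det_mul, hx, hy, mul_one]
  | inv x _ hx =>
    have h1 : x.1.1 * (x⁻¹).1.1 = 1 := by
      rw [← Units.val_mul, ← Subgroup.coe_mul, mul_inv_cancel]; rfl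
    have := congrArg Matrix.det h1
    rw [Matrix.det_mul, hx, one_mul, Matrix.det_one] at this
    exact this

end basic

end Cfsg.Agent.Lib.H11.UGen
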