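import Cfsg.Agent.Lib.H11.UnitaryGen

set_option autoImplicit false
set_option linter.unusedSimpArgs false
set_option linter.unusedSectionVars false
set_option linter.unusedVariables false

namespace Cfsg.Agent.Lib.H11.UGen

open Matrix
open Cfsg.Agent.S0837 (Bs Bs_apply Bs_symm Bs_nondeg)
open Cfsg.Agent.S0782 (Tm Tm_mulVec Tm_det Bs_eq_herm exists_trace rot rot_mulVec rot_det
  rot_preserves exists_hyp_partner hilbert90 gu_preserves)

section plane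
variable {F : Type*} [Field F] {n : ℕ} {q : ℕ} (φ : F →+* F)

/-- a hyperbolic pair -/
structure Hyp (e f : Fin n → F) : Prop where
  ee : Bs φ n e e = 0
  ff : Bs φ n f f = 0
  ef : Bs φ n e f = 1
  fe : Bs φ n f e = 1

/-- `g` fixes every vector orthogonal to `e` and `f` -/
def FixP (e f : Fin n → F) (g : ↥(Cfsg.GU n F q)) : Prop :=
  ∀ x, Bs φ n e x = 0 → Bs φ n f x = 0 → act g x = x

theorem FixP.mul {e f : Fin n → F} {g h : ↥(Cfsg.GU n F q)} (hg : FixP φ e f g)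
    (hh : FixP φ e f h) : FixP φ e f (g * h) := by
  intro x h1 h2
  rw [act_mul, hh x h1 h2, hg x h1 h2]

theorem sym (hφ2 : ∀ x, φ (φ x) = x) (u v : Fin n → F) : φ (Bs φ n u v) = Bs φ n v u :=
  (Bs_symm φ hφ2 n).eq u v

/-- the component orthogonal to the hyperbolic pair -/
theorem decomp_orth {e f : Fin n → F} (h : Hyp φ e f) (x : Fin n → F) :
    Bs φ n e (x - Bs φ n f x • e - Bs φ n e x • f) = 0 ∧
      Bs φ n f (x - Bs φ n f x • e - Bs φ n e x • f) = 0 := by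
  constructor
  · simp only [map_sub, map_smul, smul_eq_mul, h.ee, h.ef]; ring
  · simp only [map_sub, map_smul, smul_eq_mul, h.fe, h.ff]; ring

theorem span_of_orth (hφ2 : ∀ x, φ (φ x) = x) {e f : Fin n → F} (h : Hyp φ e f) (v : Fin n → F)
    (hv : ∀ z, Bs φ n e z = 0 → Bs φ n f z = 0 → Bs φ n v z = 0) :
    v = Bs φ n f v • e + Bs φ n e v • f := by
  have key : v - Bs φ n f v • e - Bs φ n e v • f = 0 := by
    apply (Bs_nondeg φ n).1
    intro z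
    obtain ⟨h1, h2⟩ := decomp_orth φ h z
    have h3 := hv _ h1 h2
    have e1 : φ (Bs φ n f v) = Bs φ n v f := sym φ hφ2 f v
    have e2 : φ (Bs φ n e v) = Bs φ n v e := sym φ hφ2 e v
    simp only [map_sub, map_smulₛₗ, map_smul, LinearMap.sub_apply, LinearMap.smul_apply,
      smul_eq_mul, e1, e2] at h3 ⊢
    linear_combination h3
  have : v = (v - Bs φ n f v • e - Bs φ n e v • f) + Bs φ n f v • e + Bs φ n e v • f := by abel
  rw [key, zero_add] at this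
  exact this

theorem act_mem_span (hφ : ∀ x, φ x = x ^ q) (hφ2 : ∀ x, φ (φ x) = x) {e f : Fin n → F}
    (h : Hyp φ e f) (g : ↥(Cfsg.GU n F q)) (hg : FixP φ e f g) (v : Fin n → F)
    (hv : ∀ z, Bs φ n e z = 0 → Bs φ n f z = 0 → Bs φ n v z = 0) :
    act g v = Bs φ n f (act g v) • e + Bs φ n e (act g v) • f := by
  apply span_of_orth φ hφ2 h
  intro z h1 h2
  rw [← hg z h1 h2, B_act φ hφ]
  exact hv z h1 h2

theorem act_e (hφ : ∀ x, φ x = x ^ q) (hφ2 : ∀ x, φ (φ x) = x) {e f : Fin n → F}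
    (h : Hyp φ e f) (g : ↥(Cfsg.GU n F q)) (hg : FixP φ e f g) :
    act g e = Bs φ n f (act g e) • e + Bs φ n e (act g e) • f :=
  act_mem_span φ hφ hφ2 h g hg e fun z h1 _ => h1

theorem act_f (hφ : ∀ x, φ x = x ^ q) (hφ2 : ∀ x, φ (φ x) = x) {e f : Fin n → F}
    (h : Hyp φ e f) (g : ↥(Cfsg.GU n F q)) (hg : FixP φ e f g) :
    act g f = Bs φ n f (act g f) • e + Bs φ n e (act g f) • f :=
  act_mem_span φ hφ hφ2 h g hg f fun z _ h2 => h2

/-- a genuine transvection -/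
def tv (hφ : ∀ x, φ x = x ^ q) (hφ2 : ∀ x, φ (φ x) = x) (v : Fin n → F) (hv : Bs φ n v v = 0)
    (s : F) (hs : s + φ s = 0) : ↥(Cfsg.GU n F q) :=
  uEl φ hφ hφ2 v s (by rw [hv]; linear_combination hs)

theorem tv_mem_T (hφ : ∀ x, φ x = x ^ q) (hφ2 : ∀ x, φ (φ x) = x) (v : Fin n → F)
    (hv : Bs φ n v v = 0) (s : F) (hs : s + φ s = 0) : tv φ hφ hφ2 v hv s hs ∈ T φ :=
  uEl_mem_T φ hφ hφ2 v s hv _

theorem tv_act (hφ : ∀ x, φ x = x ^ q) (hφ2 : ∀ x, φ (φ x) = x) (v : Fin n → F)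
    (hv : Bs φ n v v = 0) (s : F) (hs : s + φ s = 0) (x : Fin n → F) :
    act (tv φ hφ hφ2 v hv s hs) x = x + (s * Bs φ n v x) • v := uEl_act φ hφ hφ2 v s _ x

theorem tv_fixP_left (hφ : ∀ x, φ x = x ^ q) (hφ2 : ∀ x, φ (φ x) = x) (e f : Fin n → F)
    (hv : Bs φ n e e = 0) (s : F) (hs : s + φ s = 0) : FixP φ e f (tv φ hφ hφ2 e hv s hs) := by
  intro x h1 _
  rw [tv_act, h1, mul_zero, zero_smul, add_zero]

theorem tv_fixP_right (hφ : ∀ x, φ x = x ^ q) (hφ2 : ∀ x, φ (φ x) = x) (e f : Fin n → F)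
    (hv : Bs φ n f f = 0) (s : F) (hs : s + φ s = 0) : FixP φ e f (tv φ hφ hφ2 f hv s hs) := by
  intro x _ h2
  rw [tv_act, h2, mul_zero, zero_smul, add_zero]

theorem exists_skew_ne_zero (hφne : φ ≠ RingHom.id F) (hφ2 : ∀ x, φ (φ x) = x) :
    ∃ s : F, s ≠ 0 ∧ s + φ s = 0 := by
  obtain ⟨a, ha⟩ : ∃ a, φ a ≠ a := by
    by_contra hcon
    push Not at hcon
    exact hφne (RingHom.ext hcon)
  refine ⟨a - φ a, sub_ne_zero.2 (Ne.symm ha), ?_⟩
  rw [map_sub, hφ2]; ring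

/-- R1a -/
theorem red1a (hφ : ∀ x, φ x = x ^ q) (hφ2 : ∀ x, φ (φ x) = x) {e f : Fin n → F}
    (h : Hyp φ e f) (g : ↥(Cfsg.GU n F q)) (hg : FixP φ e f g)
    (ha : Bs φ n f (act g e) ≠ 0) :
    ∃ t ∈ T φ, FixP φ e f t ∧ ∃ a : F, a ≠ 0 ∧ act (t * g) e = a • e := by
  obtain ⟨a, haa⟩ : ∃ a, a = Bs φ n f (act g e) := ⟨_, rfl⟩
  obtain ⟨c, hcc⟩ : ∃ c, c = Bs φ n e (act g e) := ⟨_, rfl⟩
  have hge : act g e = a • e + c • f := by rw [haa, hcc]; exact act_e φ hφ hφ2 h g hg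
  have ha0 : a ≠ 0 := by rw [haa]; exact ha
  have hφa0 : φ a ≠ 0 := (map_ne_zero φ).2 ha0
  have hiso : φ a * c + φ c * a = 0 := by
    have := B_act φ hφ g e e
    rw [hge, h.ee] at this
    simp only [map_add, map_smulₛₗ, map_smul, LinearMap.add_apply, LinearMap.smul_apply,
      smul_eq_mul, h.ee, h.ff, h.ef, h.fe] at this
    linear_combination this
  have hs : (-c / a) + φ (-c / a) = 0 := by
    rw [map_div₀, map_neg]
    field_simp
    linear_combination -hiso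
  refine ⟨tv φ hφ hφ2 f h.ff (-c / a) hs, tv_mem_T φ hφ hφ2 f h.ff _ hs,
    tv_fixP_right φ hφ hφ2 e f h.ff _ hs, a, ha0, ?_⟩
  rw [act_mul, hge, tv_act]
  simp only [map_add, map_smul, smul_eq_mul, h.fe, h.ff]
  rw [mul_zero, add_zero, mul_one]
  have : -c / a * a = -c := by field_simp
  rw [this]
  module

/-- R1 -/
theorem red1 (hφ : ∀ x, φ x = x ^ q) (hφ2 : ∀ x, φ (φ x) = x) (hφne : φ ≠ RingHom.id F)
    {e f : Fin n → F}
    (h : Hyp φ e f) (g : ↥(Cfsg.GU n F q)) (hg : FixP φ e f g) :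
    ∃ t ∈ T φ, FixP φ e f t ∧ ∃ a : F, a ≠ 0 ∧ act (t * g) e = a • e := by
  by_cases ha : Bs φ n f (act g e) = 0
  · obtain ⟨s₀, hs₀, hs₀'⟩ := exists_skew_ne_zero φ hφne hφ2
    have hge := act_e φ hφ hφ2 h g hg
    rw [ha, zero_smul, zero_add] at hge
    have hc0 : Bs φ n e (act g e) ≠ 0 := by
      intro h0
      rw [h0, zero_smul] at hge
      have := B_act φ hφ g e f
      rw [hge, map_zero, LinearMap.zero_apply, h.ef] at this
      exact zero_ne_one this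
    set t₁ := tv φ hφ hφ2 e h.ee s₀ hs₀' with ht₁
    have hfix₁ : FixP φ e f (t₁ * g) := (tv_fixP_left φ hφ hφ2 e f h.ee _ hs₀').mul φ hg
    have hne : Bs φ n f (act (t₁ * g) e) ≠ 0 := by
      rw [act_mul, hge, ht₁, tv_act]
      simp only [map_add, map_smul, smul_eq_mul, h.fe, h.ff, h.ef, h.ee]
      rw [mul_zero, zero_add, mul_one, mul_one]
      exact mul_ne_zero hs₀ hc0
    obtain ⟨t₂, ht₂, hfix₂, a, ha0, hact⟩ := red1a φ hφ hφ2 h (t₁ * g) hfix₁ hne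
    refine ⟨t₂ * t₁, mul_mem ht₂ (tv_mem_T φ hφ hφ2 e h.ee _ hs₀'),
      hfix₂.mul φ (tv_fixP_left φ hφ hφ2 e f h.ee _ hs₀'), a, ha0, ?_⟩
    rw [mul_assoc]
    exact hact
  · exact red1a φ hφ hφ2 h g hg ha

/-- R2 -/
theorem red2 (hφ : ∀ x, φ x = x ^ q) (hφ2 : ∀ x, φ (φ x) = x) {e f : Fin n → F}
    (h : Hyp φ e f) (g : ↥(Cfsg.GU n F q)) (hg : FixP φ e f g) (a : F) (ha0 : a ≠ 0)
    (hge : act g e = a • e) :
    ∃ t ∈ T φ, FixP φ e f t ∧ act (t * g) e = a • e ∧ act (t * g) f = (φ a)⁻¹ • f := by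
  obtain ⟨b, hbb⟩ : ∃ b, b = Bs φ n f (act g f) := ⟨_, rfl⟩
  obtain ⟨d, hdd⟩ : ∃ d, d = Bs φ n e (act g f) := ⟨_, rfl⟩
  have hgf : act g f = b • e + d • f := by rw [hbb, hdd]; exact act_f φ hφ hφ2 h g hg
  have hφa0 : φ a ≠ 0 := (map_ne_zero φ).2 ha0
  have hd : d = (φ a)⁻¹ := by
    have := B_act φ hφ g e f
    rw [hge, hgf, h.ef] at this
    simp only [map_add, map_smulₛₗ, map_smul, LinearMap.add_apply, LinearMap.smul_apply,
      smul_eq_mul, h.ee, h.ff, h.ef, h.fe] at this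
    apply eq_inv_of_mul_eq_one_right
    linear_combination this
  have hd0 : d ≠ 0 := by rw [hd]; exact inv_ne_zero hφa0
  have hφd0 : φ d ≠ 0 := (map_ne_zero φ).2 hd0
  have hiso : φ b * d + φ d * b = 0 := by
    have := B_act φ hφ g f f
    rw [hgf, h.ff] at this
    simp only [map_add, map_smulₛₗ, map_smul, LinearMap.add_apply, LinearMap.smul_apply,
      smul_eq_mul, h.ee, h.ff, h.ef, h.fe] at this
    linear_combination this
  have hs : (-b / d) + φ (-b / d) = 0 := by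
    rw [map_div₀, map_neg]
    field_simp
    linear_combination -hiso
  refine ⟨tv φ hφ hφ2 e h.ee (-b / d) hs, tv_mem_T φ hφ hφ2 e h.ee _ hs,
    tv_fixP_left φ hφ hφ2 e f h.ee _ hs, ?_, ?_⟩
  · rw [act_mul, hge, tv_act]
    simp only [map_smul, smul_eq_mul, h.ee]
    rw [mul_zero, mul_zero, zero_smul, add_zero]
  · rw [act_mul, hgf, tv_act]
    simp only [map_add, map_smul, smul_eq_mul, h.ee, h.ef]
    rw [mul_zero, zero_add, mul_one, ← hd]
    have : -b / d * d = -b := by field_simp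
    rw [this]
    module

/-- R4' -/
theorem eq_one_of_fix (hφ2 : ∀ x, φ (φ x) = x) {e f : Fin n → F}
    (h : Hyp φ e f) (g : ↥(Cfsg.GU n F q)) (hg : FixP φ e f g)
    (hge : act g e = e) (hgf : act g f = f) : g = 1 := by
  apply eq_one_of_act
  intro x
  obtain ⟨h1, h2⟩ := decomp_orth φ h x
  have hx : x = (x - Bs φ n f x • e - Bs φ n e x • f) + Bs φ n f x • e + Bs φ n e x • f := by abel
  rw [hx, act_add, act_add, act_smul, act_smul, hge, hgf, hg _ h1 h2]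

/-- R3 -/
theorem val_eq_rot (hφ2 : ∀ x, φ (φ x) = x) {e f : Fin n → F}
    (h : Hyp φ e f) (g : ↥(Cfsg.GU n F q)) (hg : FixP φ e f g) (a : F)
    (hge : act g e = a • e) (hgf : act g f = (φ a)⁻¹ • f) : g.1.1 = rot φ a e f := by
  apply val_eq_of_act
  intro x
  obtain ⟨h1, h2⟩ := decomp_orth φ h x
  have hx : x = (x - Bs φ n f x • e - Bs φ n e x • f) + Bs φ n f x • e + Bs φ n e x • f := by abel
  rw [rot_mulVec φ a e f h.ff]
  conv_lhs => rw [hx, act_add, act_add, act_smul, act_smul, hge, hgf, hg _ h1 h2]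
  module

/-- R4 -/
theorem red4 (hφ : ∀ x, φ x = x ^ q) (hφ2 : ∀ x, φ (φ x) = x) (hφne : φ ≠ RingHom.id F)
    {e f : Fin n → F} (h : Hyp φ e f) (g : ↥(Cfsg.GU n F q)) (hg : FixP φ e f g) (a : F)
    (ha0 : a ≠ 0) (haa : φ a = a) (hge : act g e = a • e) (hgf : act g f = a⁻¹ • f) :
    g ∈ T φ := by
  obtain ⟨s', hs'0, hs'⟩ := exists_skew_ne_zero φ hφne hφ2
  have hφs' : φ s' = -s' := by linear_combination hs'
  obtain ⟨s, hs_def⟩ : ∃ s, s = (1 - a) / (a * s') := ⟨_, rfl⟩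
  obtain ⟨r, hr_def⟩ : ∃ r, r = -(a * s') := ⟨_, rfl⟩
  have hs : s + φ s = 0 := by
    rw [hs_def, map_div₀, map_sub, map_one, map_mul, haa, hφs']
    field_simp
    ring
  have hr : r + φ r = 0 := by
    rw [hr_def, map_neg, map_mul, haa, hφs']; ring
  have hss : a * s' * s = 1 - a := by
    rw [hs_def]; field_simp
  obtain ⟨t₁, ht₁_def⟩ : ∃ t₁, t₁ = tv φ hφ hφ2 f h.ff s' hs' := ⟨_, rfl⟩
  obtain ⟨t₂, ht₂_def⟩ : ∃ t₂, t₂ = tv φ hφ hφ2 e h.ee s hs := ⟨_, rfl⟩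
  obtain ⟨t₃, ht₃_def⟩ : ∃ t₃, t₃ = tv φ hφ hφ2 f h.ff r hr := ⟨_, rfl⟩
  have ht₁ : t₁ ∈ T φ := by rw [ht₁_def]; exact tv_mem_T φ hφ hφ2 _ _ _ _
  have ht₂ : t₂ ∈ T φ := by rw [ht₂_def]; exact tv_mem_T φ hφ hφ2 _ _ _ _
  have ht₃ : t₃ ∈ T φ := by rw [ht₃_def]; exact tv_mem_T φ hφ hφ2 _ _ _ _
  have hf₁ : FixP φ e f t₁ := by rw [ht₁_def]; exact tv_fixP_right φ hφ hφ2 e f h.ff _ _
  have hf₂ : FixP φ e f t₂ := by rw [ht₂_def]; exact tv_fixP_left φ hφ hφ2 e f h.ee _ _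
  have hf₃ : FixP φ e f t₃ := by rw [ht₃_def]; exact tv_fixP_right φ hφ hφ2 e f h.ff _ _
  have hfix : FixP φ e f (t₃ * (t₂ * (t₁ * g))) := hf₃.mul φ (hf₂.mul φ (hf₁.mul φ hg))
  have key : act (t₃ * (t₂ * (t₁ * g))) e =
      (a * (1 + s' * s)) • e + (a * ((1 + s' * s) * r + s')) • f := by
    simp only [act_mul, hge, act_smul, ht₁_def, ht₂_def, ht₃_def, tv_act, act_add, map_add,
      map_smul, smul_eq_mul, h.ee, h.ff, h.ef, h.fe]
    module
  have hg''e : act (t₃ * (t₂ * (t₁ * g))) e = e := by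
    rw [key]
    have c1 : a * (1 + s' * s) = 1 := by linear_combination hss
    have c2 : a * ((1 + s' * s) * r + s') = 0 := by
      rw [hr_def]; linear_combination (-(a * s')) * hss
    rw [c1, c2, one_smul, zero_smul, add_zero]
  obtain ⟨t₄, ht₄, hf₄, he4, hf4⟩ := red2 φ hφ hφ2 h _ hfix 1 one_ne_zero
    (by rw [one_smul]; exact hg''e)
  have hone : t₄ * (t₃ * (t₂ * (t₁ * g))) = 1 :=
    eq_one_of_fix φ hφ2 h _ (hf₄.mul φ hfix) (by rw [he4, one_smul])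
      (by rw [hf4, map_one, inv_one, one_smul])
  have hg_eq : g = (t₄ * t₃ * t₂ * t₁)⁻¹ := by
    apply eq_inv_of_mul_eq_one_right
    rw [← hone]; group
  rw [hg_eq]
  exact inv_mem (mul_mem (mul_mem (mul_mem ht₄ ht₃) ht₂) ht₁)

/-- the plane lemma: an element of determinant one acting trivially on the orthogonal complement
of a hyperbolic pair is a product of transvections -/
theorem plane (hφ : ∀ x, φ x = x ^ q) (hφ2 : ∀ x, φ (φ x) = x) (hφne : φ ≠ RingHom.id F)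
    {e f : Fin n → F} (h : Hyp φ e f) (g : ↥(Cfsg.GU n F q)) (hg : FixP φ e f g)
    (hdet : g.1.1.det = 1) : g ∈ T φ := by
  obtain ⟨t₁, ht₁, hf₁, a, ha0, h1⟩ := red1 φ hφ hφ2 hφne h g hg
  obtain ⟨t₂, ht₂, hf₂, h2e, h2f⟩ := red2 φ hφ hφ2 h (t₁ * g) (hf₁.mul φ hg) a ha0 h1
  have hval := val_eq_rot φ hφ2 h (t₂ * (t₁ * g)) (hf₂.mul φ (hf₁.mul φ hg)) a h2e h2f
  have hdet' : (t₂ * (t₁ * g)).1.1.det = 1 := by
    rw [Subgroup.coe_mul, Units.val_mul, Matrix.det_mul, Subgroup.coe_mul, Units.val_mul,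
      Matrix.det_mul, det_eq_one_of_mem_T φ _ ht₂, det_eq_one_of_mem_T φ _ ht₁, hdet]
    ring
  rw [hval, rot_det φ a ha0 e f h.ef h.fe] at hdet'
  have hφa0 : φ a ≠ 0 := (map_ne_zero φ).2 ha0
  have haa : φ a = a := by
    field_simp at hdet'
    exact hdet'.symm
  have hmem := red4 φ hφ hφ2 hφne h (t₂ * (t₁ * g)) (hf₂.mul φ (hf₁.mul φ hg)) a ha0 haa h2e
    (by rw [h2f, haa])
  have hg_eq : g = t₁⁻¹ * (t₂⁻¹ * (t₂ * (t₁ * g))) := by group
  rw [hg_eq]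
  exact mul_mem (inv_mem ht₁) (mul_mem (inv_mem ht₂) hmem)

end plane

end Cfsg.Agent.Lib.H11.UGen
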