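import Cfsg.Agent.Lib.H11.UnitaryGen2

set_option autoImplicit false
set_option linter.unusedSimpArgs false
set_option linter.unusedSectionVars false
set_option linter.unusedVariables false

namespace Cfsg.Agent.Lib.H11.UGen

open Matrix
open Cfsg.Agent.S0837 (Bs Bs_apply Bs_symm Bs_nondeg)
open Cfsg.Agent.S0782 (Tm Tm_mulVec Tm_det Bs_eq_herm exists_trace rot rot_mulVec rot_det
  rot_preserves exists_hyp_partner hilbert90 gu_preserves)

section quasi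
variable {F : Type*} [Field F] {n : ℕ} {q : ℕ} (φ : F →+* F)

theorem det_mul' (g h : ↥(Cfsg.GU n F q)) : (g * h).1.1.det = g.1.1.det * h.1.1.det := by
  rw [Subgroup.coe_mul, Units.val_mul, Matrix.det_mul]

theorem det_inv' (g : ↥(Cfsg.GU n F q)) : (g⁻¹).1.1.det = (g.1.1.det)⁻¹ := by
  have h1 : g.1.1 * (g⁻¹).1.1 = 1 := by
    rw [← Units.val_mul, ← Subgroup.coe_mul, mul_inv_cancel]; rfl
  have := congrArg Matrix.det h1
  rw [Matrix.det_mul, Matrix.det_one] at this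
  exact eq_inv_of_mul_eq_one_right this

theorem qc (hφ2 : ∀ x, φ (φ x) = x) (u : Fin n → F) (hu : Bs φ n u u ≠ 0) (α : F)
    (hα : α * φ α = 1) :
    (α - 1) / Bs φ n u u + φ ((α - 1) / Bs φ n u u) +
      (α - 1) / Bs φ n u u * φ ((α - 1) / Bs φ n u u) * Bs φ n u u = 0 := by
  have ha : φ (Bs φ n u u) = Bs φ n u u := sym φ hφ2 u u
  rw [map_div₀, map_sub, map_one, ha]
  field_simp
  linear_combination hα

/-- the quasi-reflection along the nonisotropic vector `u` with multiplier `α` -/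
def qEl (hφ : ∀ x, φ x = x ^ q) (hφ2 : ∀ x, φ (φ x) = x) (u : Fin n → F)
    (hu : Bs φ n u u ≠ 0) (α : F) (hα : α * φ α = 1) : ↥(Cfsg.GU n F q) :=
  uEl φ hφ hφ2 u ((α - 1) / Bs φ n u u) (qc φ hφ2 u hu α hα)

theorem qEl_act (hφ : ∀ x, φ x = x ^ q) (hφ2 : ∀ x, φ (φ x) = x) (u : Fin n → F)
    (hu : Bs φ n u u ≠ 0) (α : F) (hα : α * φ α = 1) (x : Fin n → F) :
    act (qEl φ hφ hφ2 u hu α hα) x = x + ((α - 1) / Bs φ n u u * Bs φ n u x) • u :=
  uEl_act φ hφ hφ2 u _ _ x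

theorem qEl_act_of_orth (hφ : ∀ x, φ x = x ^ q) (hφ2 : ∀ x, φ (φ x) = x) (u : Fin n → F)
    (hu : Bs φ n u u ≠ 0) (α : F) (hα : α * φ α = 1) (x : Fin n → F) (hx : Bs φ n u x = 0) :
    act (qEl φ hφ hφ2 u hu α hα) x = x :=
  uEl_act_of_orth φ hφ hφ2 u _ _ x hx

theorem qEl_inv_act_of_orth (hφ : ∀ x, φ x = x ^ q) (hφ2 : ∀ x, φ (φ x) = x) (u : Fin n → F)
    (hu : Bs φ n u u ≠ 0) (α : F) (hα : α * φ α = 1) (x : Fin n → F) (hx : Bs φ n u x = 0) :
    act (qEl φ hφ hφ2 u hu α hα)⁻¹ x = x := by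
  conv_lhs => rw [← qEl_act_of_orth φ hφ hφ2 u hu α hα x hx]
  rw [act_inv_act]

theorem qEl_act_self (hφ : ∀ x, φ x = x ^ q) (hφ2 : ∀ x, φ (φ x) = x) (u : Fin n → F)
    (hu : Bs φ n u u ≠ 0) (α : F) (hα : α * φ α = 1) :
    act (qEl φ hφ hφ2 u hu α hα) u = α • u := by
  rw [qEl_act, div_mul_cancel₀ _ hu]
  module

theorem qEl_det (hφ : ∀ x, φ x = x ^ q) (hφ2 : ∀ x, φ (φ x) = x) (u : Fin n → F)
    (hu : Bs φ n u u ≠ 0) (α : F) (hα : α * φ α = 1) :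
    (qEl φ hφ hφ2 u hu α hα).1.1.det = α := by
  rw [qEl, uEl_det, div_mul_cancel₀ _ hu]
  ring

theorem qEl_mul (hφ : ∀ x, φ x = x ^ q) (hφ2 : ∀ x, φ (φ x) = x) (u : Fin n → F)
    (hu : Bs φ n u u ≠ 0) (α β : F) (hα : α * φ α = 1) (hβ : β * φ β = 1)
    (hαβ : (α * β) * φ (α * β) = 1) :
    qEl φ hφ hφ2 u hu α hα * qEl φ hφ hφ2 u hu β hβ = qEl φ hφ hφ2 u hu (α * β) hαβ := by
  apply ext_act
  intro x
  rw [act_mul, qEl_act, qEl_act, qEl_act]
  simp only [map_add, map_smul, smul_eq_mul]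
  rw [add_assoc, ← add_smul]
  congr 2
  field_simp
  ring

theorem qEl_one (hφ : ∀ x, φ x = x ^ q) (hφ2 : ∀ x, φ (φ x) = x) (u : Fin n → F)
    (hu : Bs φ n u u ≠ 0) (h1 : (1 : F) * φ 1 = 1) :
    qEl φ hφ hφ2 u hu 1 h1 = 1 := by
  apply eq_one_of_act
  intro x
  rw [qEl_act, sub_self, zero_div, zero_mul, zero_smul, add_zero]

theorem qEl_smul (hφ : ∀ x, φ x = x ^ q) (hφ2 : ∀ x, φ (φ x) = x) (u : Fin n → F)
    (hu : Bs φ n u u ≠ 0) (μ : F) (hμ : μ ≠ 0) (hu' : Bs φ n (μ • u) (μ • u) ≠ 0) (α : F)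
    (hα : α * φ α = 1) :
    qEl φ hφ hφ2 (μ • u) hu' α hα = qEl φ hφ hφ2 u hu α hα := by
  apply ext_act
  intro x
  have hφμ : φ μ ≠ 0 := (map_ne_zero φ).2 hμ
  rw [qEl_act, qEl_act]
  simp only [map_smulₛₗ, map_smul, LinearMap.smul_apply, smul_eq_mul, RingHom.id_apply]
  rw [smul_smul]
  congr 2
  field_simp

end quasi

section gram
variable {F : Type*} [Field F] [Fintype F] {n : ℕ} {q : ℕ} (φ : F →+* F)

theorem exists_norm (hF : Fintype.card F = q ^ 2) (hφ : ∀ x, φ x = x ^ q) (c : F) (hc0 : c ≠ 0)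
    (hc : φ c = c) : ∃ x : F, x * φ x = c := by
  have h1 := Cfsg.Agent.Lib.H2.Herm.card_N_fiber hF c hc0 (by rw [← hφ]; exact hc)
  have hpos : 0 < Nat.card {x : F // Cfsg.Agent.Lib.H2.Herm.N q x = c} := by rw [h1]; omega
  obtain ⟨x⟩ := (Nat.card_pos_iff.1 hpos).1
  refine ⟨x.1, ?_⟩
  rw [hφ]
  exact x.2

/-- a nondegenerate plane spanned by `u, w` contains a hyperbolic pair spanning it -/
theorem exists_hyp_of_gram (hF : Fintype.card F = q ^ 2) (hφ : ∀ x, φ x = x ^ q)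
    (hφ2 : ∀ x, φ (φ x) = x) (hφne : φ ≠ RingHom.id F) (u w : Fin n → F)
    (hu : Bs φ n u u ≠ 0)
    (hG : Bs φ n u u * Bs φ n w w - Bs φ n u w * Bs φ n w u ≠ 0) :
    ∃ e f : Fin n → F, Hyp φ e f ∧
      ∀ x, Bs φ n e x = 0 → Bs φ n f x = 0 → Bs φ n u x = 0 ∧ Bs φ n w x = 0 := by
  obtain ⟨a, ha_def⟩ : ∃ a, a = Bs φ n u u := ⟨_, rfl⟩
  have ha0 : a ≠ 0 := by rw [ha_def]; exact hu
  have hφa : φ a = a := by rw [ha_def]; exact sym φ hφ2 u u
  obtain ⟨β, hβ_def⟩ : ∃ β, β = Bs φ n u w / a := ⟨_, rfl⟩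
  have hφβ : φ β = Bs φ n w u / a := by rw [hβ_def, map_div₀, hφa, sym φ hφ2]
  obtain ⟨w', hw'_def⟩ : ∃ w', w' = w - β • u := ⟨_, rfl⟩
  have huw' : Bs φ n u w' = 0 := by
    rw [hw'_def, map_sub, map_smul, smul_eq_mul, hβ_def, ← ha_def]
    field_simp
    ring
  have hw'u : Bs φ n w' u = 0 := by rw [← sym φ hφ2 u w', huw', map_zero]
  obtain ⟨b, hb_def⟩ : ∃ b, b = Bs φ n w' w' := ⟨_, rfl⟩
  have hφb : φ b = b := by rw [hb_def]; exact sym φ hφ2 w' w'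
  have hb : b = (Bs φ n u u * Bs φ n w w - Bs φ n u w * Bs φ n w u) / a := by
    rw [hb_def, hw'_def]
    simp only [map_sub, map_smulₛₗ, map_smul, LinearMap.sub_apply, LinearMap.smul_apply,
      smul_eq_mul, hφβ, ← ha_def]
    rw [hβ_def]
    field_simp
    ring
  have hb0 : b ≠ 0 := by rw [hb]; exact div_ne_zero hG ha0
  obtain ⟨lam, hlam⟩ := exists_norm φ hF hφ (-a / b) (div_ne_zero (neg_ne_zero.2 ha0) hb0)
    (by rw [map_div₀, map_neg, hφa, hφb])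
  have hlam0 : lam ≠ 0 := by
    intro h0
    rw [h0, zero_mul] at hlam
    exact (div_ne_zero (neg_ne_zero.2 ha0) hb0) hlam.symm
  have hφlam0 : φ lam ≠ 0 := (map_ne_zero φ).2 hlam0
  obtain ⟨e, he_def⟩ : ∃ e, e = u + lam • w' := ⟨_, rfl⟩
  have hee : Bs φ n e e = 0 := by
    rw [he_def]
    simp only [map_add, map_smulₛₗ, map_smul, LinearMap.add_apply, LinearMap.smul_apply,
      smul_eq_mul, huw', hw'u, ← ha_def, ← hb_def, RingHom.id_apply]
    have : φ lam * (lam * b) = -a := by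
      have h1 : lam * φ lam * b = -a := by rw [hlam]; field_simp
      linear_combination h1
    linear_combination this
  obtain ⟨f₁, hf₁_def⟩ : ∃ f₁, f₁ = a⁻¹ • u := ⟨_, rfl⟩
  have hef₁ : Bs φ n e f₁ = 1 := by
    rw [he_def, hf₁_def]
    simp only [map_add, map_smulₛₗ, map_smul, LinearMap.add_apply, LinearMap.smul_apply,
      smul_eq_mul, hw'u, ← ha_def, RingHom.id_apply]
    field_simp
    ring
  have hf₁e : Bs φ n f₁ e = 1 := by rw [← sym φ hφ2 e f₁, hef₁, map_one]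
  have hf₁f₁ : Bs φ n f₁ f₁ = a⁻¹ := by
    rw [hf₁_def]
    simp only [map_smulₛₗ, map_smul, LinearMap.smul_apply, smul_eq_mul, ← ha_def, map_inv₀, hφa,
      RingHom.id_apply]
    field_simp
  obtain ⟨t, ht⟩ := exists_trace hφne hφ2 (a⁻¹) (by rw [map_inv₀, hφa])
  obtain ⟨f, hf_def⟩ : ∃ f, f = f₁ + t • e := ⟨_, rfl⟩
  have hff : Bs φ n f f = 0 := by
    rw [hf_def]
    simp only [map_add, map_smulₛₗ, map_smul, LinearMap.add_apply, LinearMap.smul_apply,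
      smul_eq_mul, hee, hef₁, hf₁e, hf₁f₁]
    linear_combination ht
  have hef : Bs φ n e f = 1 := by
    rw [hf_def, map_add, map_smul, hee, hef₁, smul_zero, add_zero]
  have hfe : Bs φ n f e = 1 := by rw [← sym φ hφ2 e f, hef, map_one]
  refine ⟨e, f, ⟨hee, hff, hef, hfe⟩, ?_⟩
  intro x h1 h2
  have hux : Bs φ n u x = 0 := by
    rw [hf_def, hf₁_def] at h2
    simp only [map_add, map_smulₛₗ, LinearMap.add_apply, LinearMap.smul_apply, smul_eq_mul, h1,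
      map_inv₀, hφa] at h2
    rw [mul_zero, add_zero] at h2
    rcases mul_eq_zero.1 h2 with h | h
    · exact absurd h (inv_ne_zero ha0)
    · exact h
  have hw'x : Bs φ n w' x = 0 := by
    rw [he_def] at h1
    simp only [map_add, map_smulₛₗ, LinearMap.add_apply, LinearMap.smul_apply, smul_eq_mul,
      hux] at h1
    rw [zero_add] at h1
    rcases mul_eq_zero.1 h1 with h | h
    · exact absurd h hφlam0
    · exact h
  refine ⟨hux, ?_⟩
  have : w = w' + β • u := by rw [hw'_def]; abel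
  rw [this, map_add, map_smulₛₗ, LinearMap.add_apply, LinearMap.smul_apply, hux, hw'x, smul_zero,
    add_zero]

/-- quasi-reflections with the same multiplier along two vectors spanning a nondegenerate plane
are congruent modulo `T` -/
theorem gram_rel (hF : Fintype.card F = q ^ 2) (hφ : ∀ x, φ x = x ^ q)
    (hφ2 : ∀ x, φ (φ x) = x) (hφne : φ ≠ RingHom.id F) (u w : Fin n → F)
    (hu : Bs φ n u u ≠ 0) (hw : Bs φ n w w ≠ 0)
    (hG : Bs φ n u u * Bs φ n w w - Bs φ n u w * Bs φ n w u ≠ 0) (α : F) (hα : α * φ α = 1) :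
    qEl φ hφ hφ2 u hu α hα * (qEl φ hφ hφ2 w hw α hα)⁻¹ ∈ T φ := by
  obtain ⟨e, f, hyp, hsp⟩ := exists_hyp_of_gram φ hF hφ hφ2 hφne u w hu hG
  apply plane φ hφ hφ2 hφne hyp
  · intro x h1 h2
    obtain ⟨hux, hwx⟩ := hsp x h1 h2
    rw [act_mul, qEl_inv_act_of_orth φ hφ hφ2 w hw α hα x hwx,
      qEl_act_of_orth φ hφ hφ2 u hu α hα x hux]
  · have hα0 : α ≠ 0 := by
      intro h0; rw [h0, zero_mul] at hα; exact zero_ne_one hα
    rw [det_mul', det_inv', qEl_det, qEl_det, mul_inv_cancel₀ hα0]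

end gram

end Cfsg.Agent.Lib.H11.UGen
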