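import Cfsg.Agent.Lib.H11.UnitaryGen3

set_option autoImplicit false
set_option linter.unusedSimpArgs false
set_option linter.unusedSectionVars false
set_option linter.unusedVariables false

namespace Cfsg.Agent.Lib.H11.UGen

open Matrix
open Cfsg.Agent.S0837 (Bs Bs_apply Bs_symm Bs_nondeg)
open Cfsg.Agent.S0782 (Tm Tm_mulVec Tm_det Bs_eq_herm exists_trace rot rot_mulVec rot_det
  rot_preserves exists_hyp_partner hilbert90 gu_preserves)

section rel
variable {F : Type*} [Field F] [Fintype F] {n : ℕ} {q : ℕ} (φ : F →+* F)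

/-- quasi-reflections along `u` and `w` are congruent modulo `T` -/
def Rel (hφ : ∀ x, φ x = x ^ q) (hφ2 : ∀ x, φ (φ x) = x) (u w : Fin n → F) : Prop :=
  ∃ (hu : Bs φ n u u ≠ 0) (hw : Bs φ n w w ≠ 0), ∀ (α : F) (hα : α * φ α = 1),
    qEl φ hφ hφ2 u hu α hα * (qEl φ hφ hφ2 w hw α hα)⁻¹ ∈ T (q := q) φ

theorem rel_of_gram (hF : Fintype.card F = q ^ 2) (hφ : ∀ x, φ x = x ^ q)
    (hφ2 : ∀ x, φ (φ x) = x) (hφne : φ ≠ RingHom.id F) (u w : Fin n → F)
    (hu : Bs φ n u u ≠ 0) (hw : Bs φ n w w ≠ 0)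
    (hG : Bs φ n u u * Bs φ n w w - Bs φ n u w * Bs φ n w u ≠ 0) : Rel φ hφ hφ2 u w :=
  ⟨hu, hw, fun α hα => gram_rel φ hF hφ hφ2 hφne u w hu hw hG α hα⟩

theorem rel_trans (hφ : ∀ x, φ x = x ^ q) (hφ2 : ∀ x, φ (φ x) = x) {u v w : Fin n → F}
    (h1 : Rel φ hφ hφ2 u v) (h2 : Rel φ hφ hφ2 v w) : Rel φ hφ hφ2 u w := by
  obtain ⟨hu, hv, h1⟩ := h1
  obtain ⟨_, hw, h2⟩ := h2
  refine ⟨hu, hw, fun α hα => ?_⟩
  have := mul_mem (h1 α hα) (h2 α hα)
  have e : qEl φ hφ hφ2 u hu α hα * (qEl φ hφ hφ2 v hv α hα)⁻¹ *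
      (qEl φ hφ hφ2 v hv α hα * (qEl φ hφ hφ2 w hw α hα)⁻¹) =
      qEl φ hφ hφ2 u hu α hα * (qEl φ hφ hφ2 w hw α hα)⁻¹ := by group
  rw [e] at this
  exact this

theorem rel_smul (hφ : ∀ x, φ x = x ^ q) (hφ2 : ∀ x, φ (φ x) = x) (u : Fin n → F)
    (hu : Bs φ n u u ≠ 0) (μ : F) (hμ : μ ≠ 0) : Rel φ hφ hφ2 u (μ • u) := by
  have hu' : Bs φ n (μ • u) (μ • u) ≠ 0 := by
    simp only [map_smulₛₗ, map_smul, LinearMap.smul_apply, smul_eq_mul, RingHom.id_apply]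
    exact mul_ne_zero hμ (mul_ne_zero ((map_ne_zero φ).2 hμ) hu)
  refine ⟨hu, hu', fun α hα => ?_⟩
  rw [qEl_smul φ hφ hφ2 u hu μ hμ hu' α hα, mul_inv_cancel]
  exact one_mem _

/-- an isotropic partner of `z` orthogonal to `u` -/
theorem exists_partner_orth (hφ2 : ∀ x, φ (φ x) = x) (hφne : φ ≠ RingHom.id F)
    (u z : Fin n → F) (hu : Bs φ n u u ≠ 0) (hz0 : z ≠ 0) (hzz : Bs φ n z z = 0)
    (huz : Bs φ n u z = 0) :
    ∃ f, Hyp φ z f ∧ Bs φ n u f = 0 := by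
  have hzu : Bs φ n z u = 0 := by rw [← sym φ hφ2 u z, huz, map_zero]
  obtain ⟨f₀, hf₀f₀, hzf₀, hf₀z⟩ := exists_hyp_partner hφne hφ2 (Bs φ n) (Bs_symm φ hφ2 n)
    (Bs_nondeg φ n) z hz0 hzz
  obtain ⟨f₁, hf₁_def⟩ : ∃ f₁, f₁ = f₀ - (Bs φ n u f₀ / Bs φ n u u) • u := ⟨_, rfl⟩
  have huf₁ : Bs φ n u f₁ = 0 := by
    rw [hf₁_def, map_sub, map_smul, smul_eq_mul, div_mul_cancel₀ _ hu, sub_self]
  have hzf₁ : Bs φ n z f₁ = 1 := by
    rw [hf₁_def, map_sub, map_smul, hzu, smul_zero, sub_zero, hzf₀]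
  have hf₁z : Bs φ n f₁ z = 1 := by rw [← sym φ hφ2 z f₁, hzf₁, map_one]
  obtain ⟨t, ht⟩ := exists_trace hφne hφ2 (Bs φ n f₁ f₁) (sym φ hφ2 f₁ f₁)
  refine ⟨f₁ + t • z, ⟨hzz, ?_, ?_, ?_⟩, ?_⟩
  · simp only [map_add, map_smulₛₗ, map_smul, LinearMap.add_apply, LinearMap.smul_apply,
      smul_eq_mul, hzz, hzf₁, hf₁z, RingHom.id_apply]
    linear_combination ht
  · rw [map_add, map_smul, hzz, hzf₁, smul_zero, add_zero]
  · rw [map_add, LinearMap.add_apply, map_smulₛₗ, LinearMap.smul_apply, hzz, hf₁z, smul_zero,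
      add_zero]
  · rw [map_add, map_smul, huf₁, huz, smul_zero, add_zero]

/-- a fixed element different from `0` and from a given one, when `q ≥ 3` -/
theorem exists_fixed_ne (hF : Fintype.card F = q ^ 2) (hφ : ∀ x, φ x = x ^ q)
    (hφ2 : ∀ x, φ (φ x) = x) (hq : 3 ≤ q) (b : F) :
    ∃ τ : F, φ τ = τ ∧ τ ≠ 0 ∧ τ * b ≠ 1 := by
  by_cases hb : b = 1
  · -- need a fixed element different from 0 and 1
    have hex : ∃ y : Fˣ, y ^ (q + 1) ≠ 1 := by
      by_contra hcon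
      push Not at hcon
      have := (FiniteField.forall_pow_eq_one_iff F (q + 1)).1 hcon
      rw [hF] at this
      have h1 := Nat.le_of_dvd (by omega) this
      have h3 : 3 * q ≤ q ^ 2 := by nlinarith
      omega
    obtain ⟨y, hy⟩ := hex
    refine ⟨(y : F) * φ y, ?_, ?_, ?_⟩
    · rw [map_mul, hφ2, mul_comm]
    · exact mul_ne_zero y.ne_zero ((map_ne_zero φ).2 y.ne_zero)
    · rw [hb, mul_one, hφ, ← pow_succ']
      intro h
      apply hy
      apply Units.ext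
      rw [Units.val_pow_eq_pow_val, h, Units.val_one]
  · refine ⟨1, map_one φ, one_ne_zero, ?_⟩
    rw [one_mul]; exact hb

/-- the chain vector for `q ≥ 3` -/
theorem rel_chain_q (hF : Fintype.card F = q ^ 2) (hφ : ∀ x, φ x = x ^ q)
    (hφ2 : ∀ x, φ (φ x) = x) (hφne : φ ≠ RingHom.id F) (hq : 3 ≤ q)
    (u z : Fin n → F) (β : F) (hu : Bs φ n u u ≠ 0) (hz0 : z ≠ 0) (hzz : Bs φ n z z = 0)
    (huz : Bs φ n u z = 0) (hw : Bs φ n (z + β • u) (z + β • u) ≠ 0) :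
    Rel φ hφ hφ2 u (z + β • u) := by
  have hzu : Bs φ n z u = 0 := by rw [← sym φ hφ2 u z, huz, map_zero]
  obtain ⟨f, hyp, huf⟩ := exists_partner_orth φ hφ2 hφne u z hu hz0 hzz huz
  have hfu : Bs φ n f u = 0 := by rw [← sym φ hφ2 u f, huf, map_zero]
  obtain ⟨τ, hτ, hτ0, hτb⟩ := exists_fixed_ne φ hF hφ hφ2 hq (Bs φ n (z + β • u) (z + β • u))
  obtain ⟨ξ', hξ'⟩ := exists_trace hφne hφ2 (-τ) (by rw [map_neg, hτ])
  obtain ⟨x, hx_def⟩ : ∃ x, x = ξ' • z + f := ⟨_, rfl⟩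
  have hxx : Bs φ n x x = τ := by
    rw [hx_def]
    simp only [map_add, map_smulₛₗ, map_smul, LinearMap.add_apply, LinearMap.smul_apply,
      smul_eq_mul, hyp.ee, hyp.ff, hyp.ef, hyp.fe, RingHom.id_apply]
    linear_combination hξ'
  have hux : Bs φ n u x = 0 := by
    rw [hx_def, map_add, map_smul, huz, huf, smul_zero, add_zero]
  have hxu : Bs φ n x u = 0 := by rw [← sym φ hφ2 u x, hux, map_zero]
  have hwx : Bs φ n (z + β • u) x = 1 := by
    rw [hx_def]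
    simp only [map_add, map_smulₛₗ, map_smul, LinearMap.add_apply, LinearMap.smul_apply,
      smul_eq_mul, hyp.ee, hyp.ef, huz, huf, RingHom.id_apply]
    ring
  have hxw : Bs φ n x (z + β • u) = 1 := by rw [← sym φ hφ2 (z + β • u) x, hwx, map_one]
  have hx : Bs φ n x x ≠ 0 := by rw [hxx]; exact hτ0
  have h1 : Rel φ hφ hφ2 u x := by
    apply rel_of_gram φ hF hφ hφ2 hφne u x hu hx
    rw [hux, hxu, mul_zero, sub_zero]
    exact mul_ne_zero hu hx
  have h2 : Rel φ hφ hφ2 x (z + β • u) := by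
    apply rel_of_gram φ hF hφ hφ2 hφne x _ hx hw
    rw [hxw, hwx, hxx, mul_one]
    exact sub_ne_zero.2 hτb
  exact rel_trans φ hφ hφ2 h1 h2

/-- a nonisotropic vector orthogonal to `u, z, f` when `n ≥ 4` -/
theorem exists_orth_three (hφ2 : ∀ x, φ (φ x) = x) (hφne : φ ≠ RingHom.id F) (hn : 4 ≤ n)
    (u z f : Fin n → F) (hu : Bs φ n u u ≠ 0) (hyp : Hyp φ z f) (huz : Bs φ n u z = 0)
    (huf : Bs φ n u f = 0) :
    ∃ x, Bs φ n x x ≠ 0 ∧ Bs φ n u x = 0 ∧ Bs φ n z x = 0 ∧ Bs φ n f x = 0 := by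
  have hzu : Bs φ n z u = 0 := by rw [← sym φ hφ2 u z, huz, map_zero]
  have hfu : Bs φ n f u = 0 := by rw [← sym φ hφ2 u f, huf, map_zero]
  let L : (Fin n → F) →ₗ[F] (Fin 3 → F) :=
    LinearMap.pi ![Bs φ n u, Bs φ n z, Bs φ n f]
  have hker : LinearMap.ker L ≠ ⊥ := by
    apply LinearMap.ker_ne_bot_of_finrank_lt
    rw [Module.finrank_fin_fun, Module.finrank_fin_fun]
    omega
  obtain ⟨x₀, hx₀mem, hx₀⟩ := (Submodule.ne_bot_iff _).1 hker
  have hL : ∀ x, L x = 0 → Bs φ n u x = 0 ∧ Bs φ n z x = 0 ∧ Bs φ n f x = 0 := by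
    intro x hx
    have h0 := congrFun hx 0
    have h1 := congrFun hx 1
    have h2 := congrFun hx 2
    simp only [L, LinearMap.pi_apply, Pi.zero_apply] at h0 h1 h2
    exact ⟨h0, h1, h2⟩
  obtain ⟨h1, h2, h3⟩ := hL x₀ hx₀mem
  by_cases hx₀x₀ : Bs φ n x₀ x₀ = 0
  · -- find a partner inside the orthogonal complement
    obtain ⟨y, hy⟩ : ∃ y, Bs φ n x₀ y ≠ 0 := by
      by_contra hcon
      push Not at hcon
      exact hx₀ ((Bs_nondeg φ n).1 x₀ hcon)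
    have hx₀u : Bs φ n x₀ u = 0 := by rw [← sym φ hφ2 u x₀, h1, map_zero]
    have hx₀z : Bs φ n x₀ z = 0 := by rw [← sym φ hφ2 z x₀, h2, map_zero]
    have hx₀f : Bs φ n x₀ f = 0 := by rw [← sym φ hφ2 f x₀, h3, map_zero]
    obtain ⟨y', hy'_def⟩ : ∃ y', y' = y - (Bs φ n u y / Bs φ n u u) • u - Bs φ n f y • z -
        Bs φ n z y • f := ⟨_, rfl⟩
    have huy' : Bs φ n u y' = 0 := by
      rw [hy'_def]
      simp only [map_sub, map_smul, smul_eq_mul, huz, huf]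
      field_simp
      ring
    have hzy' : Bs φ n z y' = 0 := by
      rw [hy'_def]
      simp only [map_sub, map_smul, smul_eq_mul, hzu, hyp.ee, hyp.ef]
      ring
    have hfy' : Bs φ n f y' = 0 := by
      rw [hy'_def]
      simp only [map_sub, map_smul, smul_eq_mul, hfu, hyp.ff, hyp.fe]
      ring
    have hx₀y' : Bs φ n x₀ y' ≠ 0 := by
      rw [hy'_def]
      simp only [map_sub, map_smul, smul_eq_mul, hx₀u, hx₀z, hx₀f]
      rw [mul_zero, mul_zero, mul_zero, sub_zero, sub_zero, sub_zero]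
      exact hy
    by_cases hy'y' : Bs φ n y' y' = 0
    · obtain ⟨c, hc_def⟩ : ∃ c, c = Bs φ n x₀ y' := ⟨_, rfl⟩
      have hc0 : c ≠ 0 := by rw [hc_def]; exact hx₀y'
      have hφc : φ c = Bs φ n y' x₀ := by rw [hc_def]; exact sym φ hφ2 x₀ y'
      obtain ⟨μ, hμ⟩ := exists_trace hφne hφ2 (-1) (by rw [map_neg, map_one])
      refine ⟨x₀ + (μ / c) • y', ?_, ?_, ?_, ?_⟩
      · simp only [map_add, map_smulₛₗ, map_smul, LinearMap.add_apply, LinearMap.smul_apply,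
          smul_eq_mul, hx₀x₀, hy'y', ← hc_def, ← hφc, RingHom.id_apply, map_div₀]
        have hφc0 : φ c ≠ 0 := (map_ne_zero φ).2 hc0
        have : μ / c * c + φ μ / φ c * φ c = 1 := by
          field_simp
          linear_combination hμ
        intro h
        apply one_ne_zero (α := F)
        rw [← this]
        linear_combination h
      · rw [map_add, map_smul, h1, huy', smul_zero, add_zero]
      · rw [map_add, map_smul, h2, hzy', smul_zero, add_zero]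
      · rw [map_add, map_smul, h3, hfy', smul_zero, add_zero]
    · exact ⟨y', hy'y', huy', hzy', hfy'⟩
  · exact ⟨x₀, hx₀x₀, h1, h2, h3⟩

/-- the chain vector for `n ≥ 4` -/
theorem rel_chain_n (hF : Fintype.card F = q ^ 2) (hφ : ∀ x, φ x = x ^ q)
    (hφ2 : ∀ x, φ (φ x) = x) (hφne : φ ≠ RingHom.id F) (hn : 4 ≤ n)
    (u z : Fin n → F) (β : F) (hu : Bs φ n u u ≠ 0) (hz0 : z ≠ 0) (hzz : Bs φ n z z = 0)
    (huz : Bs φ n u z = 0) (hw : Bs φ n (z + β • u) (z + β • u) ≠ 0) :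
    Rel φ hφ hφ2 u (z + β • u) := by
  obtain ⟨f, hyp, huf⟩ := exists_partner_orth φ hφ2 hφne u z hu hz0 hzz huz
  obtain ⟨x, hx, hux, hzx, hfx⟩ := exists_orth_three φ hφ2 hφne hn u z f hu hyp huz huf
  have hxu : Bs φ n x u = 0 := by rw [← sym φ hφ2 u x, hux, map_zero]
  have hwx : Bs φ n (z + β • u) x = 0 := by
    rw [map_add, map_smulₛₗ, LinearMap.add_apply, LinearMap.smul_apply, hzx, hux, smul_zero,
      add_zero]
  have hxw : Bs φ n x (z + β • u) = 0 := by rw [← sym φ hφ2 (z + β • u) x, hwx, map_zero]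
  have h1 : Rel φ hφ hφ2 u x := by
    apply rel_of_gram φ hF hφ hφ2 hφne u x hu hx
    rw [hux, hxu, mul_zero, sub_zero]
    exact mul_ne_zero hu hx
  have h2 : Rel φ hφ hφ2 x (z + β • u) := by
    apply rel_of_gram φ hF hφ hφ2 hφne x _ hx hw
    rw [hxw, hwx, mul_zero, sub_zero]
    exact mul_ne_zero hx hw
  exact rel_trans φ hφ hφ2 h1 h2

/-- all quasi-reflections with the same multiplier are congruent modulo `T` -/
theorem rel_all (hF : Fintype.card F = q ^ 2) (hφ : ∀ x, φ x = x ^ q)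
    (hφ2 : ∀ x, φ (φ x) = x) (hφne : φ ≠ RingHom.id F) (hn : 3 ≤ n) (h32 : ¬ (n = 3 ∧ q = 2))
    (u w : Fin n → F) (hu : Bs φ n u u ≠ 0) (hw : Bs φ n w w ≠ 0) : Rel φ hφ hφ2 u w := by
  by_cases hG : Bs φ n u u * Bs φ n w w - Bs φ n u w * Bs φ n w u = 0
  · obtain ⟨β, hβ_def⟩ : ∃ β, β = Bs φ n u w / Bs φ n u u := ⟨_, rfl⟩
    have hφβ : φ β = Bs φ n w u / Bs φ n u u := by
      rw [hβ_def, map_div₀, sym φ hφ2, sym φ hφ2]
    obtain ⟨z, hz_def⟩ : ∃ z, z = w - β • u := ⟨_, rfl⟩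
    have hwz : w = z + β • u := by rw [hz_def]; abel
    have huz : Bs φ n u z = 0 := by
      rw [hz_def, map_sub, map_smul, smul_eq_mul, hβ_def, div_mul_cancel₀ _ hu, sub_self]
    have hzz : Bs φ n z z = 0 := by
      rw [hz_def]
      simp only [map_sub, map_smulₛₗ, map_smul, LinearMap.sub_apply, LinearMap.smul_apply,
        smul_eq_mul, hφβ, RingHom.id_apply]
      rw [hβ_def]
      field_simp
      linear_combination hG
    by_cases hz0 : z = 0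
    · rw [hwz, hz0, zero_add]
      have hβ0 : β ≠ 0 := by
        intro h0
        rw [hwz, hz0, h0, zero_smul, add_zero, map_zero] at hw
        exact hw rfl
      exact rel_smul φ hφ hφ2 u hu β hβ0
    · rw [hwz] at hw ⊢
      by_cases hn4 : 4 ≤ n
      · exact rel_chain_n φ hF hφ hφ2 hφne hn4 u z β hu hz0 hzz huz hw
      · have hq : 3 ≤ q := by
          have h2 := Cfsg.Agent.Lib.H2.Herm.two_le_q hF
          have hn3 : n = 3 := by omega
          by_contra hlt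
          exact h32 ⟨hn3, by omega⟩
        exact rel_chain_q φ hF hφ hφ2 hφne hq u z β hu hz0 hzz huz hw
  · exact rel_of_gram φ hF hφ hφ2 hφne u w hu hw hG

end rel

end Cfsg.Agent.Lib.H11.UGen
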