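import Cfsg.Agent.Lib.H11.UnitaryGen5
import Cfsg.Agent.Lib.H2.Unitary5

set_option autoImplicit false
set_option linter.unusedSimpArgs false
set_option linter.unusedSectionVars false
set_option linter.unusedVariables false

namespace Cfsg.Agent.Lib.H11.UGen

open Matrix
open Cfsg.Agent.S0837 (Bs Bs_apply Bs_symm Bs_nondeg)
open Cfsg.Agent.S0782 (Tm Tm_mulVec Tm_det Bs_eq_herm exists_trace rot rot_mulVec rot_det
  rot_preserves exists_hyp_partner hilbert90 gu_preserves)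

section main
variable {F : Type*} [Field F] [Fintype F] {n : ℕ} {q : ℕ} (φ : F →+* F)

theorem qEl_congr (hφ : ∀ x, φ x = x ^ q) (hφ2 : ∀ x, φ (φ x) = x) (u : Fin n → F)
    (hu : Bs φ n u u ≠ 0) (α β : F) (hα : α * φ α = 1) (hβ : β * φ β = 1) (h : α = β) :
    qEl φ hφ hφ2 u hu α hα = qEl φ hφ hφ2 u hu β hβ := by
  subst h; rfl

theorem qEl_inv (hφ : ∀ x, φ x = x ^ q) (hφ2 : ∀ x, φ (φ x) = x) (u : Fin n → F)
    (hu : Bs φ n u u ≠ 0) (α : F) (hα : α * φ α = 1) (hα' : φ α * φ (φ α) = 1) :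
    (qEl φ hφ hφ2 u hu α hα)⁻¹ = qEl φ hφ hφ2 u hu (φ α) hα' := by
  apply inv_eq_of_mul_eq_one_right
  have h1 : (α * φ α) * φ (α * φ α) = 1 := by rw [hα, map_one, mul_one]
  rw [qEl_mul φ hφ hφ2 u hu α (φ α) hα hα' h1,
    qEl_congr φ hφ hφ2 u hu (α * φ α) 1 h1 (by rw [map_one, mul_one]) hα, qEl_one]

/-- every element of `GU` is congruent modulo `T` to a quasi-reflection along `e₀` -/
theorem exists_T_mul (hF : Fintype.card F = q ^ 2) (hφ : ∀ x, φ x = x ^ q)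
    (hφ2 : ∀ x, φ (φ x) = x) (hφne : φ ≠ RingHom.id F) (hn : 3 ≤ n) (h32 : ¬ (n = 3 ∧ q = 2))
    (e₀ : Fin n → F) (he₀ : Bs φ n e₀ e₀ ≠ 0) (g : ↥(Cfsg.GU n F q)) :
    ∃ (α : F) (hα : α * φ α = 1), g * (qEl φ hφ hφ2 e₀ he₀ α hα)⁻¹ ∈ T φ := by
  have hg : g ∈ R φ := by rw [R_eq_top φ hF hφ hφ2]; trivial
  have h11 : (1 : F) * φ 1 = 1 := by rw [map_one, mul_one]
  have hN := T_normal (n := n) (q := q) φ hφ
  unfold R at hg
  induction hg using Subgroup.closure_induction with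
  | mem s hs =>
    obtain ⟨w, c, hs⟩ := hs
    by_cases hww : Bs φ n w w = 0
    · refine ⟨1, h11, ?_⟩
      rw [qEl_one, inv_one, mul_one]
      exact Subgroup.subset_closure ⟨w, c, hww, hs⟩
    · obtain ⟨α, hα_def⟩ : ∃ α, α = 1 + c * Bs φ n w w := ⟨_, rfl⟩
      have hsw : act s w = α • w := by
        rw [act, hs, Um_mulVec, hα_def]
        module
      have hα : α * φ α = 1 := by
        have := B_act φ hφ s w w
        rw [hsw] at this
        simp only [map_smulₛₗ, map_smul, LinearMap.smul_apply, smul_eq_mul, RingHom.id_apply] at this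
        have h2 : (α * φ α - 1) * Bs φ n w w = 0 := by linear_combination this
        rcases mul_eq_zero.1 h2 with h | h
        · linear_combination h
        · exact absurd h hww
      have hsq : s = qEl φ hφ hφ2 w hww α hα := by
        apply ext_act
        intro x
        rw [qEl_act, act, hs, Um_mulVec, hα_def]
        congr 2
        field_simp
        ring
      obtain ⟨_, _, hrel⟩ := rel_all φ hF hφ hφ2 hφne hn h32 w e₀ hww he₀
      refine ⟨α, hα, ?_⟩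
      rw [hsq]
      exact hrel α hα
  | one =>
    refine ⟨1, h11, ?_⟩
    rw [qEl_one, inv_one, mul_one]
    exact one_mem _
  | mul x y _ _ hx hy =>
    obtain ⟨α₁, hα₁, h1⟩ := hx
    obtain ⟨α₂, hα₂, h2⟩ := hy
    have hα : (α₁ * α₂) * φ (α₁ * α₂) = 1 := by
      rw [map_mul]; linear_combination (α₂ * φ α₂) * hα₁ + hα₂
    refine ⟨α₁ * α₂, hα, ?_⟩
    rw [← qEl_mul φ hφ hφ2 e₀ he₀ α₁ α₂ hα₁ hα₂ hα]
    have e : x * y * (qEl φ hφ hφ2 e₀ he₀ α₁ hα₁ * qEl φ hφ hφ2 e₀ he₀ α₂ hα₂)⁻¹ =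
        (x * (qEl φ hφ hφ2 e₀ he₀ α₁ hα₁)⁻¹) *
          (qEl φ hφ hφ2 e₀ he₀ α₁ hα₁ * (y * (qEl φ hφ hφ2 e₀ he₀ α₂ hα₂)⁻¹) *
            (qEl φ hφ hφ2 e₀ he₀ α₁ hα₁)⁻¹) := by group
    rw [e]
    exact mul_mem h1 (hN.conj_mem _ h2 _)
  | inv x _ hx =>
    obtain ⟨α, hα, h1⟩ := hx
    have hα' : φ α * φ (φ α) = 1 := by rw [hφ2]; linear_combination hα
    refine ⟨φ α, hα', ?_⟩
    rw [← qEl_inv φ hφ hφ2 e₀ he₀ α hα hα', inv_inv]
    have e : x⁻¹ * qEl φ hφ hφ2 e₀ he₀ α hα =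
        (qEl φ hφ hφ2 e₀ he₀ α hα)⁻¹ * (x * (qEl φ hφ hφ2 e₀ he₀ α hα)⁻¹)⁻¹ *
          ((qEl φ hφ hφ2 e₀ he₀ α hα)⁻¹)⁻¹ := by group
    rw [e]
    exact hN.conj_mem _ (inv_mem h1) _

/-- every element of `GU` of determinant one is a product of unitary transvections -/
theorem mem_T_of_det (hF : Fintype.card F = q ^ 2) (hφ : ∀ x, φ x = x ^ q)
    (hφ2 : ∀ x, φ (φ x) = x) (hφne : φ ≠ RingHom.id F) (hn : 3 ≤ n) (h32 : ¬ (n = 3 ∧ q = 2))
    (g : ↥(Cfsg.GU n F q)) (hdet : g.1.1.det = 1) : g ∈ T φ := by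
  obtain ⟨e₀, he₀_def⟩ : ∃ e₀ : Fin n → F, e₀ = Pi.single ⟨0, by omega⟩ 1 := ⟨_, rfl⟩
  have he₀ : Bs φ n e₀ e₀ ≠ 0 := by
    rw [he₀_def, B_single_single, if_pos rfl]; exact one_ne_zero
  obtain ⟨α, hα, hmem⟩ := exists_T_mul φ hF hφ hφ2 hφne hn h32 e₀ he₀ g
  have hd := det_eq_one_of_mem_T φ _ hmem
  rw [det_mul', det_inv', qEl_det, hdet, one_mul] at hd
  have hα1 : α = 1 := by
    have := inv_eq_one.1 hd
    exact this
  have h11 : (1 : F) * φ 1 = 1 := by rw [map_one, mul_one]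
  rw [qEl_congr φ hφ hφ2 e₀ he₀ α 1 hα h11 hα1, qEl_one, inv_one, mul_one] at hmem
  exact hmem

end main

/-- `SU_n(q)` is generated by the unitary transvections, `n ≥ 3`, `(n, q) ≠ (3, 2)` -/
theorem su_closure_eq_top {F : Type*} [Field F] [Fintype F] {q : ℕ}
    (hF : Fintype.card F = q ^ 2) (n : ℕ) (hn : 3 ≤ n) (h32 : ¬ (n = 3 ∧ q = 2)) :
    Subgroup.closure {A : ↥(Cfsg.SU n F q) | ∃ (v : Fin n → F) (c : F),
      Cfsg.hermForm n F q v v = 0 ∧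
        ((A : Matrix.SpecialLinearGroup (Fin n) F) : Matrix (Fin n) (Fin n) F) =
          Cfsg.unitaryTransvection n q v c} = ⊤ := by
  obtain ⟨φ, hφ, hφ2⟩ := Cfsg.Agent.Lib.H4.exists_frob hF
  have hφne := Cfsg.Agent.S0837.phi_ne_id φ hF hφ
  rw [eq_top_iff]
  intro A _
  have key : ∀ t : ↥(Cfsg.GU n F q), t ∈ T φ →
      ∃ A' ∈ Subgroup.closure {A : ↥(Cfsg.SU n F q) | ∃ (v : Fin n → F) (c : F),
        Cfsg.hermForm n F q v v = 0 ∧
          ((A : Matrix.SpecialLinearGroup (Fin n) F) : Matrix (Fin n) (Fin n) F) =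
            Cfsg.unitaryTransvection n q v c},
        ((A' : Matrix.SpecialLinearGroup (Fin n) F) : Matrix (Fin n) (Fin n) F) = t.1.1 := by
    intro t ht
    unfold T at ht
    induction ht using Subgroup.closure_induction with
    | mem s hs =>
      obtain ⟨v, c, hv, hs⟩ := hs
      have hdet : s.1.1.det = 1 := by rw [hs, Um_det, hv, mul_zero, add_zero]
      have hpres : ∀ u v : Fin n → F, Cfsg.hermForm n F q (s.1.1 *ᵥ u) (s.1.1 *ᵥ v) =
          Cfsg.hermForm n F q u v := s.2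
      refine ⟨Cfsg.Agent.Lib.H2.Unitary.mkSU s.1.1 hdet hpres,
        Subgroup.subset_closure ⟨v, c, ?_, ?_⟩, rfl⟩
      · rw [← Bs_eq_herm φ hφ]; exact hv
      · rw [Cfsg.Agent.Lib.H2.Unitary.mkSU_val, hs, Um_eq φ hφ]
    | one => exact ⟨1, one_mem _, rfl⟩
    | mul x y _ _ hx hy =>
      obtain ⟨A₁, h1, e1⟩ := hx
      obtain ⟨A₂, h2, e2⟩ := hy
      refine ⟨A₁ * A₂, mul_mem h1 h2, ?_⟩
      rw [Cfsg.Agent.Lib.H2.Unitary.mul_val_SU, e1, e2]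
      rfl
    | inv x _ hx =>
      obtain ⟨A₁, h1, e1⟩ := hx
      refine ⟨A₁⁻¹, inv_mem h1, ?_⟩
      have ha : ((A₁ : Matrix.SpecialLinearGroup (Fin n) F) : Matrix (Fin n) (Fin n) F) *
          ((A₁⁻¹ : ↥(Cfsg.SU n F q)) : Matrix.SpecialLinearGroup (Fin n) F).1 = 1 := by
        rw [← Cfsg.Agent.Lib.H2.Unitary.mul_val_SU, mul_inv_cancel]; rfl
      have hb : x.1.1 * (x⁻¹).1.1 = 1 := by
        rw [← Units.val_mul, ← Subgroup.coe_mul, mul_inv_cancel]; rfl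
      rw [e1] at ha
      rw [← Matrix.inv_eq_right_inv ha, ← Matrix.inv_eq_right_inv hb]
  have hdet : (Matrix.SpecialLinearGroup.toGL A.1 : GL (Fin n) F).1.det = 1 := A.1.2
  have hg := mem_T_of_det φ hF hφ hφ2 hφne hn h32
    (⟨Matrix.SpecialLinearGroup.toGL A.1, A.2⟩ : ↥(Cfsg.GU n F q)) hdet
  obtain ⟨A', hA', e⟩ := key _ hg
  have : A' = A := Subtype.ext (Subtype.ext e)
  rw [← this]
  exact hA'

end Cfsg.Agent.Lib.H11.UGen
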