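import Mathlib

/-!
Maximal orthonormal families for a (possibly degenerate) Hermitian form.
-/

set_option autoImplicit false
set_option linter.unusedSimpArgs false
set_option linter.unusedSectionVars false
set_option linter.unusedVariables false

namespace Cfsg.Agent.Lib.H11.UInv

open Module

section greedy
variable {F V : Type*} [Field F] [AddCommGroup V] [Module F V] {φ : F →+* F}
  (β : V →ₛₗ[φ] V →ₗ[F] F)

/-- orthonormal family -/
def ON {k : ℕ} (x : Fin k → V) : Prop := ∀ i j, β (x i) (x j) = if i = j then 1 else 0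

/-- maximal: a vector orthogonal to the family is in the radical -/
def IsMax {k : ℕ} (x : Fin k → V) : Prop := ∀ v, (∀ i, β (x i) v = 0) → ∀ u, β u v = 0

theorem on_li {k : ℕ} (x : Fin k → V) (hx : ON β x) : LinearIndependent F x := by
  rw [Fintype.linearIndependent_iff]
  intro g hg j
  have h1 : β (x j) (∑ i, g i • x i) = 0 := by rw [hg, map_zero]
  rw [map_sum] at h1
  rw [Finset.sum_eq_single j] at h1
  · rw [map_smul, hx j j, if_pos rfl, smul_eq_mul, mul_one] at h1
    exact h1
  · intro i _ hij
    rw [map_smul, hx j i, if_neg (Ne.symm hij), smul_zero]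
  · intro h; exact absurd (Finset.mem_univ j) h

theorem on_card_le [FiniteDimensional F V] {k : ℕ} (x : Fin k → V) (hx : ON β x) :
    k ≤ finrank F V := by
  have := (on_li β x hx).fintype_card_le_finrank
  rwa [Fintype.card_fin] at this

/-- a Hermitian form which does not vanish on a pair has a non-isotropic vector among the
combinations -/
theorem exists_nonisotropic (hS : β.IsSymm) (hφne : φ ≠ RingHom.id F) (u v : V)
    (huv : β u v ≠ 0) : ∃ c d : F, β (c • u + d • v) (c • u + d • v) ≠ 0 := by
  by_contra hcon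
  push Not at hcon
  have huu : β u u = 0 := by
    have := hcon 1 0
    simpa using this
  have hvv : β v v = 0 := by
    have := hcon 0 1
    simpa using this
  have hvu : β v u = φ (β u v) := (hS.eq u v).symm
  have key : ∀ d : F, d * β u v + φ (d * β u v) = 0 := by
    intro d
    have := hcon 1 d
    simp only [one_smul, map_add, map_smulₛₗ, map_smul, LinearMap.add_apply,
      LinearMap.smul_apply, smul_eq_mul, huu, hvv, hvu, mul_zero, zero_add, add_zero] at this
    rw [map_mul]
    linear_combination this
  have key2 : ∀ z : F, z + φ z = 0 := by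
    intro z
    have := key (z / β u v)
    rwa [div_mul_cancel₀ _ huv] at this
  have h1 : (1 : F) + 1 = 0 := by
    have := key2 1
    rwa [map_one] at this
  apply hφne
  ext z
  have h2 := key2 z
  have h3 : z + z = 0 := by
    have : z + z = z * (1 + 1) := by ring
    rw [this, h1, mul_zero]
  rw [RingHom.id_apply]
  have : φ z - z = 0 := by linear_combination h2 - h3
  exact sub_eq_zero.1 this

/-- one step of the greedy construction -/
theorem step (hS : β.IsSymm) (hφne : φ ≠ RingHom.id F)
    (hnorm : ∀ c : F, c ≠ 0 → φ c = c → ∃ a : F, a * φ a = c) {k : ℕ} (x : Fin k → V)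
    (hx : ON β x) : IsMax β x ∨ ∃ y : V, ON β (Fin.snoc x y : Fin (k + 1) → V) := by
  by_cases hY : ∀ u v : V, (∀ i, β (x i) u = 0) → (∀ i, β (x i) v = 0) → β u v = 0
  · left
    intro v hv u
    obtain ⟨u', hu'⟩ : ∃ u' : V, u' = u - ∑ i, β (x i) u • x i := ⟨_, rfl⟩
    have hu'Y : ∀ j, β (x j) u' = 0 := by
      intro j
      rw [hu', map_sub, map_sum, Finset.sum_eq_single j]
      · rw [map_smul, hx j j, if_pos rfl, smul_eq_mul, mul_one, sub_self]
      · intro i _ hij
        rw [map_smul, hx j i, if_neg (Ne.symm hij), smul_zero]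
      · intro h; exact absurd (Finset.mem_univ j) h
    have h0 := hY u' v hu'Y hv
    have hu : u = u' + ∑ i, β (x i) u • x i := by rw [hu']; abel
    rw [hu, map_add, LinearMap.add_apply, h0, zero_add, map_sum, LinearMap.sum_apply]
    apply Finset.sum_eq_zero
    intro i _
    rw [map_smulₛₗ, LinearMap.smul_apply, hv i, smul_zero]
  · right
    push Not at hY
    obtain ⟨u, v, hu, hv, huv⟩ := hY
    obtain ⟨c, d, hcd⟩ := exists_nonisotropic β hS hφne u v huv
    obtain ⟨y, hy⟩ : ∃ y : V, y = c • u + d • v := ⟨_, rfl⟩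
    rw [← hy] at hcd
    have hyY : ∀ i, β (x i) y = 0 := by
      intro i
      rw [hy, map_add, map_smul, map_smul, hu i, hv i, smul_zero, smul_zero, add_zero]
    have hγ : φ (β y y) = β y y := hS.eq y y
    obtain ⟨a, ha⟩ := hnorm (β y y)⁻¹ (inv_ne_zero hcd) (by rw [map_inv₀, hγ])
    have hyy : β (a • y) (a • y) = 1 := by
      simp only [map_smulₛₗ, map_smul, LinearMap.smul_apply, smul_eq_mul, RingHom.id_apply]
      have : a * φ a * β y y = 1 := by rw [ha, inv_mul_cancel₀ hcd]
      linear_combination this
    have hxy : ∀ i, β (x i) (a • y) = 0 := by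
      intro i
      rw [map_smul, hyY i, smul_zero]
    have hyx : ∀ i, β (a • y) (x i) = 0 := by
      intro i
      rw [← hS.eq (x i) (a • y), hxy i, map_zero]
    refine ⟨a • y, ?_⟩
    intro i j
    refine Fin.lastCases ?_ (fun i' => ?_) i <;> refine Fin.lastCases ?_ (fun j' => ?_) j
    · simp only [Fin.snoc_last, if_true]
      exact hyy
    · simp only [Fin.snoc_last, Fin.snoc_castSucc]
      rw [hyx j', if_neg]
      exact (Fin.castSucc_lt_last j').ne'
    · simp only [Fin.snoc_last, Fin.snoc_castSucc]
      rw [hxy i', if_neg]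
      exact (Fin.castSucc_lt_last i').ne
    · simp only [Fin.snoc_castSucc]
      rw [hx i' j']
      simp only [Fin.castSucc_inj]

theorem exists_max_aux [FiniteDimensional F V] (hS : β.IsSymm) (hφne : φ ≠ RingHom.id F)
    (hnorm : ∀ c : F, c ≠ 0 → φ c = c → ∃ a : F, a * φ a = c) :
    ∀ (m k : ℕ) (x : Fin k → V), ON β x → finrank F V ≤ k + m →
      ∃ (k' : ℕ) (x' : Fin k' → V), ON β x' ∧ IsMax β x' := by
  intro m
  induction m with
  | zero =>
    intro k x hx hk
    rcases step β hS hφne hnorm x hx with h | ⟨y, hy⟩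
    · exact ⟨k, x, hx, h⟩
    · exfalso
      have := on_card_le β _ hy
      omega
  | succ m ih =>
    intro k x hx hk
    rcases step β hS hφne hnorm x hx with h | ⟨y, hy⟩
    · exact ⟨k, x, hx, h⟩
    · exact ih (k + 1) _ hy (by omega)

/-- a maximal orthonormal family exists -/
theorem exists_max [FiniteDimensional F V] (hS : β.IsSymm) (hφne : φ ≠ RingHom.id F)
    (hnorm : ∀ c : F, c ≠ 0 → φ c = c → ∃ a : F, a * φ a = c) :
    ∃ (k : ℕ) (x : Fin k → V), ON β x ∧ IsMax β x :=
  exists_max_aux β hS hφne hnorm (finrank F V) 0 (fun i => i.elim0) (fun i => i.elim0)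
    (by omega)

end greedy

end Cfsg.Agent.Lib.H11.UInv
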