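import Cfsg.Agent.Lib.H11.UnitarySimple4

set_option autoImplicit false
set_option linter.unusedSimpArgs false
set_option linter.unusedSectionVars false
set_option linter.unusedVariables false

namespace Cfsg.Agent.Lib.H11.USimple

open Matrix
open scoped MatrixGroups LinearAlgebra.Projectivization Pointwise commutatorElement
open Cfsg.Agent.S0837 (Bs Bs_apply Bs_symm Bs_nondeg)
open Cfsg.Agent.S0782 (Tm Tm_mulVec Tm_det Bs_eq_herm exists_trace rot rot_mulVec rot_det
  rot_preserves exists_hyp_partner hilbert90 gu_preserves guOfEquiv guOfEquiv_mulVec)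
open Cfsg.Agent.Lib.H11.UGen

section iwasawa
variable {F : Type*} [Field F] [Fintype F] {n : ℕ} {q : ℕ} (φ : F →+* F)

/-- `SU_n` as a subgroup of `SL_n` is isomorphic to `SU_n` as a subgroup of `GU_n` -/
def suIso : ↥(Cfsg.SU n F q) ≃* ↥(SUg (n := n) (q := q) (F := F)) where
  toFun A := ⟨⟨Matrix.SpecialLinearGroup.toGL A.1, A.2⟩, A.1.2⟩
  invFun g := ⟨⟨g.1.1.1, g.2⟩, g.1.2⟩
  left_inv A := by
    apply Subtype.ext
    apply Subtype.ext
    rfl
  right_inv g := by
    apply Subtype.ext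
    apply Subtype.ext
    apply Units.ext
    rfl
  map_mul' A B := by
    apply Subtype.ext
    apply Subtype.ext
    apply Units.ext
    rfl

theorem suIso_val (A : ↥(Cfsg.SU n F q)) :
    (suIso A).1.1.1 = ((A : Matrix.SpecialLinearGroup (Fin n) F) : Matrix (Fin n) (Fin n) F) := rfl

theorem mem_T_of_mem_SUg (hF : Fintype.card F = q ^ 2) (hφ : ∀ x, φ x = x ^ q)
    (hφ2 : ∀ x, φ (φ x) = x) (hφne : φ ≠ RingHom.id F) (hn : 3 ≤ n) (h32 : ¬ (n = 3 ∧ q = 2))
    (g : ↥(SUg (n := n) (q := q) (F := F))) : g.1 ∈ T φ :=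
  mem_T_of_det φ hF hφ hφ2 hφne hn h32 g.1 g.2

theorem rootT_gen (hF : Fintype.card F = q ^ 2) (hφ : ∀ x, φ x = x ^ q)
    (hφ2 : ∀ x, φ (φ x) = x) (hφne : φ ≠ RingHom.id F) (hn : 3 ≤ n) (h32 : ¬ (n = 3 ∧ q = 2)) :
    iSup (rootT (n := n) φ hφ) = ⊤ := by
  rw [eq_top_iff]
  rintro ⟨ω, hω⟩ -
  have hT := mem_T_of_det φ hF hφ hφ2 hφne hn h32 ω hω
  have key : ∀ g (hg : g ∈ T (n := n) (q := q) φ), ∃ h : g ∈ SUg,
      (⟨g, h⟩ : ↥(SUg (n := n) (q := q) (F := F))) ∈ iSup (rootT (n := n) φ hφ) := by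
    intro g hg
    unfold T at hg
    induction hg using Subgroup.closure_induction with
    | mem s hs =>
      obtain ⟨v, c, hv, hs⟩ := hs
      have hsS : s ∈ SUg := by
        show s.1.1.det = 1
        rw [hs, Um_det, hv, mul_zero, add_zero]
      refine ⟨hsS, ?_⟩
      by_cases hv0 : v = 0
      · have : (⟨s, hsS⟩ : ↥(SUg (n := n) (q := q) (F := F))) = 1 := by
          apply Subtype.ext
          apply eq_one_of_act
          intro x
          rw [act, hs, Um_mulVec, hv0, smul_zero, add_zero]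
        rw [this]
        exact one_mem _
      · apply (le_iSup (rootT (n := n) φ hφ) (mkI φ hφ v hv0 hv))
        rw [rootT, Subgroup.mem_subgroupOf]
        show s ∈ rootP φ (Projectivization.mk F v hv0)
        rw [rootP_mk]
        exact Subgroup.subset_closure ⟨c, hs⟩
    | one => exact ⟨one_mem _, one_mem _⟩
    | mul x y _ _ hx hy =>
      obtain ⟨hx1, hx2⟩ := hx
      obtain ⟨hy1, hy2⟩ := hy
      exact ⟨mul_mem hx1 hy1, mul_mem hx2 hy2⟩
    | inv x _ hx =>
      obtain ⟨hx1, hx2⟩ := hx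
      exact ⟨inv_mem hx1, inv_mem hx2⟩
  obtain ⟨_, h⟩ := key ω hT
  exact h

/-- the Iwasawa structure of `SU` acting on isotropic points -/
noncomputable def iwasawa (hF : Fintype.card F = q ^ 2) (hφ : ∀ x, φ x = x ^ q)
    (hφ2 : ∀ x, φ (φ x) = x) (hφne : φ ≠ RingHom.id F) (hn : 3 ≤ n) (h32 : ¬ (n = 3 ∧ q = 2)) :
    MulAction.IwasawaStructure ↥(SUg (n := n) (q := q) (F := F)) ↥(isoPts φ n hφ) where
  T := rootT φ hφ
  is_comm := rootT_comm φ hφ
  is_conj := rootT_conj φ hφ
  is_generator := rootT_gen φ hF hφ hφ2 hφne hn h32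

/-- `SU` is perfect -/
theorem perfect (hF : Fintype.card F = q ^ 2) (hφ : ∀ x, φ x = x ^ q)
    (hφ2 : ∀ x, φ (φ x) = x) (hφne : φ ≠ RingHom.id F) (hn : 3 ≤ n) (h32 : ¬ (n = 3 ∧ q = 2)) :
    commutator ↥(SUg (n := n) (q := q) (F := F)) = ⊤ := by
  have hn' : 4 ≤ n ∨ (n = 3 ∧ 3 ≤ q) := by
    have h2 := Cfsg.Agent.Lib.H2.Herm.two_le_q hF
    by_cases h4 : 4 ≤ n
    · exact Or.inl h4
    · right
      have hn3 : n = 3 := by omega
      refine ⟨hn3, ?_⟩
      by_contra hlt
      exact h32 ⟨hn3, by omega⟩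
  rw [eq_top_iff]
  rintro ⟨ω, hω⟩ -
  have hT := mem_T_of_det φ hF hφ hφ2 hφne hn h32 ω hω
  have key : ∀ g (hg : g ∈ T (n := n) (q := q) φ), ∃ h : g ∈ SUg,
      (⟨g, h⟩ : ↥(SUg (n := n) (q := q) (F := F))) ∈
        commutator ↥(SUg (n := n) (q := q) (F := F)) := by
    intro g hg
    unfold T at hg
    induction hg using Subgroup.closure_induction with
    | mem s hs =>
      obtain ⟨v, c, hv, hs⟩ := hs
      have hsS : s ∈ SUg := by
        show s.1.1.det = 1
        rw [hs, Um_det, hv, mul_zero, add_zero]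
      refine ⟨hsS, ?_⟩
      have hA := Cfsg.Agent.S0781.result hF n hn' (suIso.symm ⟨s, hsS⟩) v c
        (by rw [← Bs_eq_herm φ hφ]; exact hv)
        (by
          show s.1.1 = _
          rw [hs, Um_eq φ hφ])
      obtain ⟨B, C, hBC⟩ := hA
      have : (⟨s, hsS⟩ : ↥(SUg (n := n) (q := q) (F := F))) = ⁅suIso B, suIso C⁆ := by
        rw [← map_commutatorElement, hBC, MulEquiv.apply_symm_apply]
      rw [this, commutator_def]
      exact Subgroup.commutator_mem_commutator (Subgroup.mem_top _) (Subgroup.mem_top _)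
    | one => exact ⟨one_mem _, one_mem _⟩
    | mul x y _ _ hx hy =>
      obtain ⟨hx1, hx2⟩ := hx
      obtain ⟨hy1, hy2⟩ := hy
      exact ⟨mul_mem hx1 hy1, mul_mem hx2 hy2⟩
    | inv x _ hx =>
      obtain ⟨hx1, hx2⟩ := hx
      exact ⟨inv_mem hx1, inv_mem hx2⟩
  obtain ⟨_, h⟩ := key ω hT
  exact h

/-- an element fixing all isotropic points is central -/
theorem central_of_fix (hF : Fintype.card F = q ^ 2) (hφ : ∀ x, φ x = x ^ q)
    (hφ2 : ∀ x, φ (φ x) = x) (hφne : φ ≠ RingHom.id F) (hn : 3 ≤ n) (h32 : ¬ (n = 3 ∧ q = 2))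
    (g : ↥(SUg (n := n) (q := q) (F := F)))
    (hfix : ∀ p : ↥(isoPts φ n hφ), g • p = p) :
    g ∈ Subgroup.center ↥(SUg (n := n) (q := q) (F := F)) := by
  -- eigenvalues on isotropic vectors
  have heig : ∀ x : Fin n → F, x ≠ 0 → Bs φ n x x = 0 → ∃ a : F, act g.1 x = a • x := by
    intro x hx hxx
    have := hfix (mkI φ hφ x hx hxx)
    rw [smul_mkI', mkI_eq_iff] at this
    obtain ⟨a, ha⟩ := this
    exact ⟨a, ha.symm⟩
  -- g commutes with all transvections
  have hcomm : ∀ t ∈ tvSet (n := n) (q := q) φ, g.1 * t = t * g.1 := by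
    intro t ht
    obtain ⟨v, c, hv, ht⟩ := ht
    by_cases hv0 : v = 0
    · have : t = 1 := by
        apply eq_one_of_act
        intro x
        rw [act, ht, Um_mulVec, hv0, smul_zero, add_zero]
      rw [this, mul_one, one_mul]
    · obtain ⟨f, hff, hvf, hfv⟩ := exists_hyp_partner hφne hφ2 (Bs φ n) (Bs_symm φ hφ2 n)
        (Bs_nondeg φ n) v hv0 hv
      have hf0 : f ≠ 0 := by
        rintro rfl
        rw [map_zero] at hvf
        exact zero_ne_one hvf
      obtain ⟨lam, hlam⟩ := heig v hv0 hv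
      obtain ⟨mu, hmu⟩ := heig f hf0 hff
      obtain ⟨s₀, hs₀, hs₀'⟩ := exists_skew_ne_zero φ hφne hφ2
      have hww : Bs φ n (v + s₀ • f) (v + s₀ • f) = 0 := by
        simp only [map_add, map_smulₛₗ, map_smul, LinearMap.add_apply, LinearMap.smul_apply,
          smul_eq_mul, hv, hff, hvf, hfv, RingHom.id_apply]
        linear_combination hs₀'
      have hw0 : v + s₀ • f ≠ 0 := by
        intro h0
        have := congrArg (Bs φ n f) h0
        rw [map_add, map_smul, hfv, hff, smul_zero, add_zero, map_zero] at this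
        exact one_ne_zero this
      obtain ⟨nu, hnu⟩ := heig _ hw0 hww
      rw [act_add, act_smul, hlam, hmu] at hnu
      have h1 : nu = lam := by
        have := congrArg (Bs φ n f) hnu
        simp only [map_add, map_smul, smul_eq_mul, hfv, hff] at this
        linear_combination -this
      have h2 : mu = lam := by
        have := congrArg (Bs φ n v) hnu
        simp only [map_add, map_smul, smul_eq_mul, hv, hvf] at this
        rw [h1] at this
        have h3 : s₀ * (mu - lam) = 0 := by linear_combination this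
        rcases mul_eq_zero.1 h3 with h | h
        · exact absurd h hs₀
        · exact sub_eq_zero.1 h
      have hN : lam * φ lam = 1 := by
        have := B_act φ hφ g.1 v f
        rw [hlam, hmu, h2, hvf] at this
        simp only [map_smulₛₗ, map_smul, LinearMap.smul_apply, smul_eq_mul, hvf,
          RingHom.id_apply] at this
        linear_combination this
      have hconj : g.1 * t * g.1⁻¹ = t := by
        apply ext_act
        intro x
        rw [act_mul, act_mul, act, act, ht, ← act]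
        show act g.1 (Um φ v c *ᵥ act g.1⁻¹ x) = _
        rw [act_Um φ hφ, hlam, Um_smul, hN, one_mul, act, ht]
      calc g.1 * t = g.1 * t * g.1⁻¹ * g.1 := by group
        _ = t * g.1 := by rw [hconj]
  have hcommT : ∀ t ∈ T (n := n) (q := q) φ, g.1 * t = t * g.1 := by
    intro t ht
    unfold T at ht
    induction ht using Subgroup.closure_induction with
    | mem s hs => exact hcomm s hs
    | one => simp
    | mul x y _ _ hx hy => rw [← mul_assoc, hx, mul_assoc, hy, mul_assoc]
    | inv x _ hx =>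
      calc g.1 * x⁻¹ = x⁻¹ * (x * g.1) * x⁻¹ := by group
        _ = x⁻¹ * (g.1 * x) * x⁻¹ := by rw [hx]
        _ = x⁻¹ * g.1 := by group
  rw [Subgroup.mem_center_iff]
  intro h
  apply Subtype.ext
  show h.1 * g.1 = g.1 * h.1
  exact (hcommT h.1 (mem_T_of_det φ hF hφ hφ2 hφne hn h32 h.1 h.2)).symm

end iwasawa

end Cfsg.Agent.Lib.H11.USimple
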