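import Cfsg.Agent.Lib.H11.UnitaryInvol1
import Cfsg.Agent.Lib.H11.UnitarySimple5

/-!
Structure of involutions of `GU_n(q)`, `q` even: `t = 1 + Σ w_i ⊗ B(w_i, ·)` for a linearly
independent totally isotropic family `w`.
-/

set_option autoImplicit false
set_option linter.unusedSimpArgs false
set_option linter.unusedSectionVars false
set_option linter.unusedVariables false

namespace Cfsg.Agent.Lib.H11.UInv

open Matrix Module
open Cfsg.Agent.S0837 (Bs Bs_apply Bs_symm Bs_nondeg)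
open Cfsg.Agent.S0782 (exists_trace hilbert90 gu_preserves guOfEquiv guOfEquiv_mulVec)
open Cfsg.Agent.Lib.H11.UGen Cfsg.Agent.Lib.H11.USimple

section invol
variable {F : Type*} [Field F] [Fintype F] {n : ℕ} {q : ℕ} (φ : F →+* F)

/-- `t - 1` as a linear map -/
def Nlin (t : ↥(Cfsg.GU n F q)) : (Fin n → F) →ₗ[F] (Fin n → F) := (t.1.1 - 1).mulVecLin

theorem Nlin_apply (t : ↥(Cfsg.GU n F q)) (v : Fin n → F) : Nlin t v = act t v - v := by
  rw [Nlin, Matrix.mulVecLin_apply, Matrix.sub_mulVec, Matrix.one_mulVec]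
  rfl

theorem act_eq_add_Nlin (t : ↥(Cfsg.GU n F q)) (v : Fin n → F) : act t v = v + Nlin t v := by
  rw [Nlin_apply]; abel

theorem act_act_self (t : ↥(Cfsg.GU n F q)) (ht : t * t = 1) (v : Fin n → F) :
    act t (act t v) = v := by
  rw [← act_mul, ht, act_one]

theorem Nlin_adj (hφ : ∀ x, φ x = x ^ q) (t : ↥(Cfsg.GU n F q)) (ht : t * t = 1)
    (u v : Fin n → F) : Bs φ n (Nlin t u) v = Bs φ n u (Nlin t v) := by
  rw [Nlin_apply, Nlin_apply, map_sub, map_sub, LinearMap.sub_apply]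
  have h1 : Bs φ n (act t u) v = Bs φ n u (act t v) := by
    rw [← B_act φ hφ t (act t u) v, act_act_self t ht]
  rw [h1]

theorem Nlin_Nlin (h2 : (2 : F) = 0) (t : ↥(Cfsg.GU n F q)) (ht : t * t = 1) (v : Fin n → F) :
    Nlin t (Nlin t v) = 0 := by
  rw [Nlin_apply, Nlin_apply, act_sub, act_act_self t ht]
  have : v - act t v - (act t v - v) = (2 : F) • (v - act t v) := by
    rw [two_smul]; abel
  rw [this, h2, zero_smul]

/-- the Hermitian form `B((t-1)x, y)` -/
def bet (t : ↥(Cfsg.GU n F q)) : (Fin n → F) →ₛₗ[φ] (Fin n → F) →ₗ[F] F :=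
  (Bs φ n).comp (Nlin t)

theorem bet_apply (t : ↥(Cfsg.GU n F q)) (u v : Fin n → F) :
    bet φ t u v = Bs φ n (Nlin t u) v := rfl

theorem bet_symm (hφ : ∀ x, φ x = x ^ q) (hφ2 : ∀ x, φ (φ x) = x) (t : ↥(Cfsg.GU n F q))
    (ht : t * t = 1) : (bet φ t).IsSymm := by
  refine ⟨fun u v => ?_⟩
  rw [bet_apply, bet_apply, sym φ hφ2, Nlin_adj φ hφ t ht]

/-- the structure of an involution -/
theorem invol_structure (hF : Fintype.card F = q ^ 2) (hφ : ∀ x, φ x = x ^ q)
    (hφ2 : ∀ x, φ (φ x) = x) (hφne : φ ≠ RingHom.id F) (h2 : (2 : F) = 0)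
    (t : ↥(Cfsg.GU n F q)) (ht : t * t = 1) :
    ∃ (k : ℕ) (w x : Fin k → Fin n → F),
      (∀ i j, Bs φ n (w i) (x j) = if i = j then 1 else 0) ∧
      (∀ i j, Bs φ n (w i) (w j) = 0) ∧
      (∀ v, act t v = v + ∑ i, Bs φ n (w i) v • w i) ∧
      (∀ i, act t (x i) = x i + w i) := by
  obtain ⟨k, x, hON, hMax⟩ := exists_max (bet φ t) (bet_symm φ hφ hφ2 t ht) hφne
    (fun c hc0 hc => exists_norm φ hF hφ c hc0 hc)
  refine ⟨k, fun i => Nlin t (x i), x, ?_, ?_, ?_, ?_⟩
  · intro i j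
    exact hON i j
  · intro i j
    rw [Nlin_adj φ hφ t ht, Nlin_Nlin h2 t ht, map_zero]
  · intro v
    rw [act_eq_add_Nlin]
    congr 1
    obtain ⟨v', hv'⟩ : ∃ v' : Fin n → F, v' = v - ∑ i, Bs φ n (Nlin t (x i)) v • x i := ⟨_, rfl⟩
    have h1 : ∀ j, bet φ t (x j) v' = 0 := by
      intro j
      rw [hv', map_sub, map_sum, Finset.sum_eq_single j]
      · rw [map_smul, hON j j, if_pos rfl, smul_eq_mul, mul_one, bet_apply, sub_self]
      · intro i _ hij
        rw [map_smul, hON j i, if_neg (Ne.symm hij), smul_zero]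
      · intro h; exact absurd (Finset.mem_univ j) h
    have h3 : Nlin t v' = 0 := by
      apply (Bs_nondeg φ n).2
      intro u
      rw [← Nlin_adj φ hφ t ht]
      exact hMax v' h1 u
    have hv : v = v' + ∑ i, Bs φ n (Nlin t (x i)) v • x i := by rw [hv']; abel
    conv_lhs => rw [hv]
    rw [map_add, h3, zero_add, map_sum]
    apply Finset.sum_congr rfl
    intro i _
    rw [map_smul]
  · intro i
    rw [act_eq_add_Nlin]

theorem w_li (hφ2 : ∀ x, φ (φ x) = x) {k : ℕ} (w x : Fin k → Fin n → F)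
    (hwx : ∀ i j, Bs φ n (w i) (x j) = if i = j then 1 else 0) : LinearIndependent F w := by
  rw [Fintype.linearIndependent_iff]
  intro g hg j
  have h1 : Bs φ n (x j) (∑ i, g i • w i) = 0 := by rw [hg, map_zero]
  rw [map_sum, Finset.sum_eq_single j] at h1
  · rw [map_smul, ← sym φ hφ2 (w j) (x j), hwx j j, if_pos rfl, map_one, smul_eq_mul,
      mul_one] at h1
    exact h1
  · intro i _ hij
    rw [map_smul, ← sym φ hφ2 (w i) (x j), hwx i j, if_neg hij, map_zero, smul_zero]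
  · intro h; exact absurd (Finset.mem_univ j) h

/-- the rank of `t - 1` -/
theorem rank_eq (hφ2 : ∀ x, φ (φ x) = x) (t : ↥(Cfsg.GU n F q)) {k : ℕ}
    (w x : Fin k → Fin n → F)
    (hwx : ∀ i j, Bs φ n (w i) (x j) = if i = j then 1 else 0)
    (hform : ∀ v, act t v = v + ∑ i, Bs φ n (w i) v • w i)
    (hx : ∀ i, act t (x i) = x i + w i) : (t.1.1 - 1).rank = k := by
  have hrange : LinearMap.range (Nlin t) = Submodule.span F (Set.range w) := by
    apply le_antisymm
    · rintro _ ⟨v, rfl⟩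
      have : Nlin t v = ∑ i, Bs φ n (w i) v • w i := by
        rw [Nlin_apply, hform v]; abel
      rw [this]
      exact Submodule.sum_mem _ (fun i _ => Submodule.smul_mem _ _
        (Submodule.subset_span ⟨i, rfl⟩))
    · rw [Submodule.span_le]
      rintro _ ⟨i, rfl⟩
      refine ⟨x i, ?_⟩
      rw [Nlin_apply, hx i]; abel
  have h1 : (t.1.1 - 1).rank = finrank F (LinearMap.range (Nlin t)) := rfl
  rw [h1, hrange, finrank_span_eq_card (w_li φ hφ2 w x hwx), Fintype.card_fin]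

end invol

end Cfsg.Agent.Lib.H11.UInv
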