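import Cfsg.Agent.Lib.H11.UnitaryInvol2
import Cfsg.Agent.S0751

/-!
Conjugacy of involutions of `GU_n(q)` and `SU_n(q)`, `q` even, with the same rank.
-/

set_option autoImplicit false
set_option linter.unusedSimpArgs false
set_option linter.unusedSectionVars false
set_option linter.unusedVariables false

namespace Cfsg.Agent.Lib.H11.UInv

open Matrix Module
open Cfsg.Agent.S0837 (Bs Bs_apply Bs_symm Bs_nondeg)
open Cfsg.Agent.S0782 (exists_trace hilbert90 gu_preserves guOfEquiv guOfEquiv_mulVec)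
open Cfsg.Agent.Lib.H11.UGen Cfsg.Agent.Lib.H11.USimple

section conj
variable {F : Type*} [Field F] [Fintype F] {n : ℕ} {q : ℕ} (φ : F →+* F)

/-- conjugacy in `GU` -/
theorem conj_GU (hφ : ∀ x, φ x = x ^ q)
    (hφ2 : ∀ x, φ (φ x) = x) (hφne : φ ≠ RingHom.id F)
    (t t' : ↥(Cfsg.GU n F q)) {k : ℕ} (w x w' x' : Fin k → Fin n → F)
    (hwx : ∀ i j, Bs φ n (w i) (x j) = if i = j then 1 else 0)
    (hww : ∀ i j, Bs φ n (w i) (w j) = 0)
    (hform : ∀ v, act t v = v + ∑ i, Bs φ n (w i) v • w i)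
    (hwx' : ∀ i j, Bs φ n (w' i) (x' j) = if i = j then 1 else 0)
    (hww' : ∀ i j, Bs φ n (w' i) (w' j) = 0)
    (hform' : ∀ v, act t' v = v + ∑ i, Bs φ n (w' i) v • w' i) :
    ∃ G : ↥(Cfsg.GU n F q), G * t = t' * G := by
  obtain ⟨g, hgiso, hgw⟩ := Cfsg.Agent.S0751.witt_family (Bs φ n) hφne hφ2 (Bs_symm φ hφ2 n)
    (Bs_nondeg φ n) k w w' (w_li φ hφ2 w x hwx) (w_li φ hφ2 w' x' hwx')
    (fun i j => by rw [hww, hww'])
  refine ⟨guOfEquiv φ hφ g hgiso, ?_⟩
  apply ext_act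
  intro v
  rw [act_mul, act_mul, guOfEquiv_act, guOfEquiv_act, hform, hform', map_add, map_sum]
  congr 1
  apply Finset.sum_congr rfl
  intro i _
  rw [map_smul, hgw i, ← hgw i, hgiso, hgw i]

theorem even_q (hF : Fintype.card F = q ^ 2) (h2 : (2 : F) = 0) : Even q := by
  have h1 : ringChar F = 2 := by
    have hdvd : ringChar F ∣ 2 := (ringChar.spec F 2).1 (by exact_mod_cast h2)
    have hp : (ringChar F).Prime := CharP.char_is_prime F _
    exact (Nat.prime_dvd_prime_iff_eq hp Nat.prime_two).1 hdvd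
  have h3 := FiniteField.even_card_of_char_two h1
  rw [hF] at h3
  have : Even (q ^ 2) := by
    rw [Nat.even_iff]; exact h3
  exact (Nat.even_pow.1 this).1

/-- square roots in the norm-one group -/
theorem exists_sqrt_norm_one (hF : Fintype.card F = q ^ 2) (hφ : ∀ x, φ x = x ^ q)
    (h2 : (2 : F) = 0) (δ : F) (hδ : δ * φ δ = 1) : ∃ a : F, a * φ a = 1 ∧ a * a = δ := by
  obtain ⟨m, hm⟩ := even_q hF h2
  have hδ' : δ ^ (q + 1) = 1 := by
    rw [hφ] at hδ
    rw [pow_succ, mul_comm]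
    exact hδ
  refine ⟨δ ^ (m + 1), ?_, ?_⟩
  · rw [hφ, ← pow_succ', ← pow_mul, mul_comm, pow_mul, hδ', one_pow]
  · rw [← pow_add]
    have : m + 1 + (m + 1) = (q + 1) + 1 := by omega
    rw [this, pow_succ, hδ', one_mul]

/-- the centralizer of an involution contains elements of every norm-one determinant -/
theorem exists_centralizing (hF : Fintype.card F = q ^ 2) (hφ : ∀ x, φ x = x ^ q)
    (hφ2 : ∀ x, φ (φ x) = x) (hφne : φ ≠ RingHom.id F) (h2 : (2 : F) = 0)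
    (t : ↥(Cfsg.GU n F q)) (ht : t * t = 1) (e f : Fin n → F) (hef : Hyp φ e f)
    (hte : act t e = e) (htf : act t f = f + e) (δ : F) (hδ : δ * φ δ = 1) :
    ∃ R : ↥(Cfsg.GU n F q), R * t = t * R ∧ R.1.1.det = δ := by
  obtain ⟨a, ha1, ha2⟩ := exists_sqrt_norm_one φ hF hφ h2 δ hδ
  have ha0 : a ≠ 0 := by
    intro h
    rw [h, zero_mul] at ha1
    exact zero_ne_one ha1
  have hφa : (φ a)⁻¹ = a := by
    have hφa0 : φ a ≠ 0 := (map_ne_zero φ).2 ha0
    field_simp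
    linear_combination -ha1
  refine ⟨rotEl φ hφ hφ2 a ha0 e f hef, ?_, ?_⟩
  · apply ext_act
    intro x
    rw [act_mul, act_mul, rotEl_act, rotEl_act, hφa]
    have h1 : Bs φ n f (act t x) = Bs φ n f x + Bs φ n e x := by
      rw [← B_act φ hφ t f (act t x), act_act_self t ht, htf, map_add, LinearMap.add_apply]
    have h3 : Bs φ n e (act t x) = Bs φ n e x := by
      rw [← B_act φ hφ t e (act t x), act_act_self t ht, hte]
    rw [h1, h3]
    simp only [act_add, act_smul, hte, htf]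
    module
  · rw [rotEl_det, hφa, ha2]

/-- involutions with the same invariants are conjugate by an element of determinant one -/
theorem conj_SUg (hF : Fintype.card F = q ^ 2) (hφ : ∀ x, φ x = x ^ q)
    (hφ2 : ∀ x, φ (φ x) = x) (hφne : φ ≠ RingHom.id F) (h2 : (2 : F) = 0)
    (t t' : ↥(Cfsg.GU n F q)) (ht : t * t = 1) (ht' : t' * t' = 1) (hne : t' ≠ 1)
    (hrank : (t.1.1 - 1).rank = (t'.1.1 - 1).rank) :
    ∃ G : ↥(Cfsg.GU n F q), G.1.1.det = 1 ∧ G * t * G⁻¹ = t' := by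
  obtain ⟨k, w, x, hwx, hww, hform, hx⟩ := invol_structure φ hF hφ hφ2 hφne h2 t ht
  obtain ⟨k', w', x', hwx', hww', hform', hx'⟩ := invol_structure φ hF hφ hφ2 hφne h2 t' ht'
  have hk : k = k' := by
    rw [← rank_eq φ hφ2 t w x hwx hform hx, ← rank_eq φ hφ2 t' w' x' hwx' hform' hx', hrank]
  subst hk
  obtain ⟨G, hG⟩ := conj_GU φ hφ hφ2 hφne t t' w x w' x' hwx hww hform hwx' hww' hform'
  -- `k ≥ 1`
  have hk0 : 0 < k := by
    rcases Nat.eq_zero_or_pos k with h0 | h0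
    · exfalso
      subst h0
      apply hne
      apply eq_one_of_act
      intro v
      rw [hform' v]
      simp
    · exact h0
  obtain ⟨i0, hi0⟩ : ∃ i0 : Fin k, i0 = ⟨0, hk0⟩ := ⟨_, rfl⟩
  -- hyperbolic pair
  have hκ : φ (Bs φ n (x' i0) (x' i0)) = Bs φ n (x' i0) (x' i0) := sym φ hφ2 _ _
  obtain ⟨c, hc⟩ := exists_trace hφne hφ2 (Bs φ n (x' i0) (x' i0)) hκ
  obtain ⟨e, he⟩ : ∃ e : Fin n → F, e = w' i0 := ⟨_, rfl⟩
  obtain ⟨f, hf⟩ : ∃ f : Fin n → F, f = x' i0 + c • w' i0 := ⟨_, rfl⟩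
  have h11 : Bs φ n (w' i0) (x' i0) = 1 := by rw [hwx' i0 i0, if_pos rfl]
  have h11' : Bs φ n (x' i0) (w' i0) = 1 := by rw [← sym φ hφ2, h11, map_one]
  have hef : Hyp φ e f := by
    refine ⟨?_, ?_, ?_, ?_⟩
    · rw [he]; exact hww' i0 i0
    · rw [hf]
      simp only [map_add, map_smulₛₗ, map_smul, LinearMap.add_apply, LinearMap.smul_apply,
        smul_eq_mul, h11, h11', hww' i0 i0]
      linear_combination hc
    · rw [he, hf, map_add, map_smul, h11, hww' i0 i0, smul_zero, add_zero]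
    · rw [he, hf, map_add, map_smulₛₗ, LinearMap.add_apply, LinearMap.smul_apply, h11',
        hww' i0 i0, smul_zero, add_zero]
  have hte : act t' e = e := by
    rw [he, hform']
    simp [hww']
  have htf : act t' f = f + e := by
    rw [hf, he, act_add, act_smul, hx' i0, hform' (w' i0)]
    simp only [hww', zero_smul, Finset.sum_const_zero, add_zero]
    abel
  -- determinant adjustment
  obtain ⟨δ, hδ_def⟩ : ∃ δ, δ = G.1.1.det := ⟨_, rfl⟩
  have hN : δ * φ δ = 1 := by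
    rw [hδ_def, hφ]
    exact Cfsg.Agent.Lib.H2.Unitary.det_norm hF G.1 G.2
  have hδ0 : δ ≠ 0 := by
    intro h0; rw [h0, zero_mul] at hN; exact zero_ne_one hN
  have hN' : δ⁻¹ * φ δ⁻¹ = 1 := by
    rw [map_inv₀, ← mul_inv, hN, inv_one]
  obtain ⟨R, hR, hRdet⟩ := exists_centralizing φ hF hφ hφ2 hφne h2 t' ht' e f hef hte htf δ⁻¹ hN'
  refine ⟨R * G, ?_, ?_⟩
  · rw [det_mul', hRdet, ← hδ_def, inv_mul_cancel₀ hδ0]
  · rw [_root_.mul_inv_rev, mul_assoc R G t, hG, ← mul_assoc R t' G, hR]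
    group

end conj

end Cfsg.Agent.Lib.H11.UInv
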