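import Cfsg.Agent.Lib.H11.UnitarySimple1

set_option autoImplicit false
set_option linter.unusedSimpArgs false
set_option linter.unusedSectionVars false
set_option linter.unusedVariables false

namespace Cfsg.Agent.Lib.H11.USimple

open Matrix
open scoped MatrixGroups LinearAlgebra.Projectivization Pointwise
open Cfsg.Agent.S0837 (Bs Bs_apply Bs_symm Bs_nondeg)
open Cfsg.Agent.S0782 (Tm Tm_mulVec Tm_det Bs_eq_herm exists_trace rot rot_mulVec rot_det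
  rot_preserves exists_hyp_partner hilbert90 gu_preserves guOfEquiv guOfEquiv_mulVec)
open Cfsg.Agent.Lib.H11.UGen

section points
variable {F : Type*} [Field F] {n : ℕ} {q : ℕ} (φ : F →+* F)

/-- the special unitary group inside `GU` -/
def SUg : Subgroup ↥(Cfsg.GU n F q) where
  carrier := {g | g.1.1.det = 1}
  mul_mem' := by
    intro a b ha hb
    show (a * b).1.1.det = 1
    rw [det_mul', ha, hb, mul_one]
  one_mem' := by
    show (1 : ↥(Cfsg.GU n F q)).1.1.det = 1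
    simp
  inv_mem' := by
    intro a ha
    show (a⁻¹).1.1.det = 1
    rw [det_inv', ha, inv_one]

theorem mem_SUg (g : ↥(Cfsg.GU n F q)) : g ∈ SUg (n := n) (q := q) ↔ g.1.1.det = 1 := Iff.rfl

theorem act_ne_zero (g : ↥(Cfsg.GU n F q)) (v : Fin n → F) (hv : v ≠ 0) : act g v ≠ 0 := by
  intro h
  apply hv
  have := congrArg (act g⁻¹) h
  rwa [act_inv_act, act_zero] at this

theorem smul_mk (g : ↥(Cfsg.GU n F q)) (v : Fin n → F) (hv : v ≠ 0) :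
    g • Projectivization.mk F v hv = Projectivization.mk F (act g v) (act_ne_zero g v hv) := by
  show (g : GL (Fin n) F) • Projectivization.mk F v hv = _
  rw [Projectivization.smul_mk]
  rfl

/-- a projective point is isotropic -/
def IsIso (p : ℙ F (Fin n → F)) : Prop := Bs φ n p.rep p.rep = 0

theorem isIso_mk (v : Fin n → F) (hv : v ≠ 0) :
    IsIso φ (Projectivization.mk F v hv) ↔ Bs φ n v v = 0 := by
  obtain ⟨a, ha⟩ := Projectivization.exists_smul_eq_mk_rep F v hv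
  rw [IsIso, ← ha, Units.smul_def]
  simp only [map_smulₛₗ, map_smul, LinearMap.smul_apply, smul_eq_mul, RingHom.id_apply]
  constructor
  · intro h
    rcases mul_eq_zero.1 h with h | h
    · exact absurd h a.ne_zero
    · rcases mul_eq_zero.1 h with h | h
      · exact absurd h ((map_ne_zero φ).2 a.ne_zero)
      · exact h
  · intro h
    rw [h, mul_zero, mul_zero]

/-- the isotropic points, with the action of `GU` -/
def isoPts (m : ℕ) (hφ : ∀ x, φ x = x ^ q) :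
    SubMulAction ↥(Cfsg.GU m F q) (ℙ F (Fin m → F)) where
  carrier := {p | IsIso φ p}
  smul_mem' := by
    intro g p hp
    induction p using Projectivization.ind with
    | h v hv =>
      rw [Set.mem_ofPred_eq, isIso_mk] at hp
      rw [Set.mem_ofPred_eq, smul_mk, isIso_mk, B_act φ hφ, hp]

/-- the isotropic point spanned by an isotropic vector -/
def mkI (hφ : ∀ x, φ x = x ^ q) (v : Fin n → F) (hv : v ≠ 0) (hvv : Bs φ n v v = 0) :
    ↥(isoPts φ n hφ) :=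
  ⟨Projectivization.mk F v hv, (isIso_mk φ v hv).2 hvv⟩

theorem smul_mkI (hφ : ∀ x, φ x = x ^ q) (g : ↥(Cfsg.GU n F q)) (v : Fin n → F) (hv : v ≠ 0)
    (hvv : Bs φ n v v = 0) :
    g • mkI φ hφ v hv hvv =
      mkI φ hφ (act g v) (act_ne_zero g v hv) (by rw [B_act φ hφ, hvv]) := by
  apply Subtype.ext
  show g • Projectivization.mk F v hv = _
  rw [smul_mk]
  rfl

/-- the action of `SU` on the isotropic points -/
instance instMulActionSUg (hφ : ∀ x, φ x = x ^ q) :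
    MulAction ↥(SUg (n := n) (q := q) (F := F)) ↥(isoPts φ n hφ) :=
  Subgroup.instMulAction

instance instSMulSUg (hφ : ∀ x, φ x = x ^ q) :
    SMul ↥(SUg (n := n) (q := q) (F := F)) ↥(isoPts φ n hφ) :=
  (instMulActionSUg φ hφ).toSMul

theorem smul_mkI' (hφ : ∀ x, φ x = x ^ q) (g : ↥(SUg (n := n) (q := q) (F := F)))
    (v : Fin n → F) (hv : v ≠ 0) (hvv : Bs φ n v v = 0) :
    g • mkI φ hφ v hv hvv =
      mkI φ hφ (act g.1 v) (act_ne_zero g.1 v hv) (by rw [B_act φ hφ, hvv]) :=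
  smul_mkI φ hφ g.1 v hv hvv

theorem exists_mkI (hφ : ∀ x, φ x = x ^ q) (p : ↥(isoPts φ n hφ)) :
    ∃ v hv hvv, p = mkI φ hφ v hv hvv := by
  obtain ⟨p, hp⟩ := p
  induction p using Projectivization.ind with
  | h v hv =>
    exact ⟨v, hv, (isIso_mk φ v hv).1 hp, rfl⟩

theorem mkI_eq_iff (hφ : ∀ x, φ x = x ^ q) (v w : Fin n → F) (hv : v ≠ 0) (hw : w ≠ 0)
    (hvv : Bs φ n v v = 0) (hww : Bs φ n w w = 0) :
    mkI φ hφ v hv hvv = mkI φ hφ w hw hww ↔ ∃ a : F, a • w = v := by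
  rw [Subtype.ext_iff]
  exact Projectivization.mk_eq_mk_iff' F v w hv hw

theorem mkI_congr (hφ : ∀ x, φ x = x ^ q) (x y : Fin n → F) (hx : x ≠ 0)
    (hxx : Bs φ n x x = 0) (hy : y ≠ 0) (hyy : Bs φ n y y = 0) (h : x = y) :
    mkI φ hφ x hx hxx = mkI φ hφ y hy hyy := by
  subst h; rfl

theorem mkI_eq_of_smul (hφ : ∀ x, φ x = x ^ q) (x y : Fin n → F) (hx : x ≠ 0)
    (hxx : Bs φ n x x = 0) (hy : y ≠ 0) (hyy : Bs φ n y y = 0) (c : F) (h : y = c • x) :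
    mkI φ hφ y hy hyy = mkI φ hφ x hx hxx := by
  rw [mkI_eq_iff]
  exact ⟨c, h.symm⟩

end points

section blocks
variable {F : Type*} [Field F] [Fintype F] {n : ℕ} {q : ℕ} (φ : F →+* F)

theorem claimA (hF : Fintype.card F = q ^ 2) (hφ : ∀ x, φ x = x ^ q)
    (hφ2 : ∀ x, φ (φ x) = x) (hφne : φ ≠ RingHom.id F) {Δ : Set ↥(isoPts φ n hφ)}
    (hΔ : MulAction.IsBlock ↥(SUg (n := n) (q := q) (F := F)) Δ) (x y y' : Fin n → F)
    (hx : x ≠ 0) (hy : y ≠ 0) (hy' : y' ≠ 0) (hxx : Bs φ n x x = 0) (hyy : Bs φ n y y = 0)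
    (hyy' : Bs φ n y' y' = 0) (hxΔ : mkI φ hφ x hx hxx ∈ Δ) (hyΔ : mkI φ hφ y hy hyy ∈ Δ)
    (hxy : Bs φ n x y ≠ 0) (hxy' : Bs φ n x y' ≠ 0) : mkI φ hφ y' hy' hyy' ∈ Δ := by
  obtain ⟨c, hc⟩ : ∃ c, c = Bs φ n x y / Bs φ n x y' := ⟨_, rfl⟩
  have hc0 : c ≠ 0 := by rw [hc]; exact div_ne_zero hxy hxy'
  have hcy' : Bs φ n (c • y') (c • y') = 0 := by
    simp only [map_smulₛₗ, map_smul, LinearMap.smul_apply, smul_eq_mul, hyy', mul_zero]
  have hB : Bs φ n x (c • y') = Bs φ n x y := by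
    rw [map_smul, smul_eq_mul, hc, div_mul_cancel₀ _ hxy']
  obtain ⟨g, hdet, ⟨a, ha0, hgx⟩, ⟨b, hb0, hgy⟩⟩ :=
    su_trans_hyp φ hF hφ hφ2 hφne x y x (c • y') hxx hyy hxx hcy' hxy hB
  have h1 : (⟨g, hdet⟩ : ↥(SUg (n := n) (q := q) (F := F))) • mkI φ hφ x hx hxx =
      mkI φ hφ x hx hxx := by
    rw [smul_mkI']
    exact mkI_eq_of_smul φ hφ _ _ _ _ _ _ a hgx
  have h2' : (⟨g, hdet⟩ : ↥(SUg (n := n) (q := q) (F := F))) • Δ = Δ :=
    hΔ.smul_eq_of_mem hxΔ (by rw [h1]; exact hxΔ)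
  rw [← h2']
  refine ⟨mkI φ hφ y hy hyy, hyΔ, ?_⟩
  show (⟨g, hdet⟩ : ↥(SUg (n := n) (q := q) (F := F))) • mkI φ hφ y hy hyy = _
  rw [smul_mkI']
  exact mkI_eq_of_smul φ hφ _ _ _ _ _ _ (b * c) (by rw [hgy, smul_smul])

theorem claimB (hF : Fintype.card F = q ^ 2) (hφ : ∀ x, φ x = x ^ q)
    (hφ2 : ∀ x, φ (φ x) = x) (hφne : φ ≠ RingHom.id F) {Δ : Set ↥(isoPts φ n hφ)}
    (hΔ : MulAction.IsBlock ↥(SUg (n := n) (q := q) (F := F)) Δ) (x y y' : Fin n → F)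
    (hx : x ≠ 0) (hy : y ≠ 0) (hy' : y' ≠ 0) (hxx : Bs φ n x x = 0) (hyy : Bs φ n y y = 0)
    (hyy' : Bs φ n y' y' = 0) (hxΔ : mkI φ hφ x hx hxx ∈ Δ) (hyΔ : mkI φ hφ y hy hyy ∈ Δ)
    (hne : mkI φ hφ x hx hxx ≠ mkI φ hφ y hy hyy)
    (hne' : mkI φ hφ x hx hxx ≠ mkI φ hφ y' hy' hyy')
    (hxy : Bs φ n x y = 0) (hxy' : Bs φ n x y' = 0) : mkI φ hφ y' hy' hyy' ∈ Δ := by
  have hn1 : ¬ ∃ a : F, a • x = y := by
    rintro ⟨a, ha⟩
    apply hne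
    rw [eq_comm, mkI_eq_iff]
    exact ⟨a, ha⟩
  have hn2 : ¬ ∃ a : F, a • x = y' := by
    rintro ⟨a, ha⟩
    apply hne'
    rw [eq_comm, mkI_eq_iff]
    exact ⟨a, ha⟩
  obtain ⟨g, hdet, ⟨a, ha0, hgx⟩, hgy⟩ :=
    su_trans_ts φ hF hφ hφ2 hφne x y x y' hxx hyy hxx hyy' hxy hxy' hx hx hn1 hn2
  have h1 : (⟨g, hdet⟩ : ↥(SUg (n := n) (q := q) (F := F))) • mkI φ hφ x hx hxx =
      mkI φ hφ x hx hxx := by
    rw [smul_mkI']
    exact mkI_eq_of_smul φ hφ _ _ _ _ _ _ a hgx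
  have h2' : (⟨g, hdet⟩ : ↥(SUg (n := n) (q := q) (F := F))) • Δ = Δ :=
    hΔ.smul_eq_of_mem hxΔ (by rw [h1]; exact hxΔ)
  rw [← h2']
  refine ⟨mkI φ hφ y hy hyy, hyΔ, ?_⟩
  show (⟨g, hdet⟩ : ↥(SUg (n := n) (q := q) (F := F))) • mkI φ hφ y hy hyy = _
  rw [smul_mkI']
  exact mkI_congr φ hφ _ _ _ _ _ _ hgy

theorem isPretransitive (hF : Fintype.card F = q ^ 2) (hφ : ∀ x, φ x = x ^ q)
    (hφ2 : ∀ x, φ (φ x) = x) (hφne : φ ≠ RingHom.id F) :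
    MulAction.IsPretransitive ↥(SUg (n := n) (q := q) (F := F)) ↥(isoPts φ n hφ) := by
  refine ⟨fun p r => ?_⟩
  obtain ⟨x, hx, hxx, rfl⟩ := exists_mkI φ hφ p
  obtain ⟨y, hy, hyy, rfl⟩ := exists_mkI φ hφ r
  obtain ⟨g, hdet, a, ha0, h⟩ := su_trans_sing φ hF hφ hφ2 hφne x y hxx hyy hx hy
  refine ⟨⟨g, hdet⟩, ?_⟩
  rw [smul_mkI']
  exact mkI_eq_of_smul φ hφ _ _ _ _ _ _ a h

end blocks

end Cfsg.Agent.Lib.H11.USimple
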