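import Cfsg.Agent.Lib.H11.UnitarySimple2

set_option autoImplicit false
set_option linter.unusedSimpArgs false
set_option linter.unusedSectionVars false
set_option linter.unusedVariables false

namespace Cfsg.Agent.Lib.H11.USimple

open Matrix
open scoped MatrixGroups LinearAlgebra.Projectivization Pointwise
open Cfsg.Agent.S0837 (Bs Bs_apply Bs_symm Bs_nondeg)
open Cfsg.Agent.S0782 (Tm Tm_mulVec Tm_det Bs_eq_herm exists_trace rot rot_mulVec rot_det
  rot_preserves exists_hyp_partner hilbert90 gu_preserves guOfEquiv guOfEquiv_mulVec)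
open Cfsg.Agent.Lib.H11.UGen

section prim
variable {F : Type*} [Field F] [Fintype F] {n : ℕ} {q : ℕ} (φ : F →+* F)

theorem exists_nonorth (x : Fin n → F) (hx : x ≠ 0) : ∃ u, Bs φ n x u ≠ 0 := by
  by_contra hcon
  push Not at hcon
  exact hx ((Bs_nondeg φ n).1 x hcon)

theorem exists_nonorth₂ (x w : Fin n → F) (hx : x ≠ 0) (hw : w ≠ 0) :
    ∃ u, Bs φ n x u ≠ 0 ∧ Bs φ n w u ≠ 0 := by
  obtain ⟨u₁, hu₁⟩ := exists_nonorth φ x hx
  obtain ⟨u₂, hu₂⟩ := exists_nonorth φ w hw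
  by_cases h1 : Bs φ n w u₁ ≠ 0
  · exact ⟨u₁, hu₁, h1⟩
  rw [not_not] at h1
  by_cases h2 : Bs φ n x u₂ ≠ 0
  · exact ⟨u₂, h2, hu₂⟩
  rw [not_not] at h2
  refine ⟨u₁ + u₂, ?_, ?_⟩
  · rw [map_add, h2, add_zero]; exact hu₁
  · rw [map_add, h1, zero_add]; exact hu₂

/-- (E1) an isotropic vector not orthogonal to two given vectors `x ⊥ w`, `x` isotropic -/
theorem exists_iso_nonorth (hφ2 : ∀ x, φ (φ x) = x) (hφne : φ ≠ RingHom.id F)
    (x w : Fin n → F) (hx : x ≠ 0) (hw : w ≠ 0) (hxx : Bs φ n x x = 0)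
    (hxw : Bs φ n x w = 0) :
    ∃ u, u ≠ 0 ∧ Bs φ n u u = 0 ∧ Bs φ n x u ≠ 0 ∧ Bs φ n w u ≠ 0 := by
  obtain ⟨u₀, h1, h2⟩ := exists_nonorth₂ φ x w hx hw
  have hwx : Bs φ n w x = 0 := by rw [← sym φ hφ2 x w, hxw, map_zero]
  obtain ⟨γ, hγ_def⟩ : ∃ γ, γ = Bs φ n u₀ x := ⟨_, rfl⟩
  have hφγ : φ γ = Bs φ n x u₀ := by rw [hγ_def]; exact sym φ hφ2 u₀ x
  have hγ0 : γ ≠ 0 := by
    intro h0
    rw [h0, map_zero] at hφγ
    exact h1 hφγ.symm
  have hφγ0 : φ γ ≠ 0 := (map_ne_zero φ).2 hγ0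
  obtain ⟨s, hs⟩ := exists_trace hφne hφ2 (Bs φ n u₀ u₀) (sym φ hφ2 u₀ u₀)
  have h1' : Bs φ n x (u₀ + (s / γ) • x) ≠ 0 := by
    rw [map_add, map_smul, hxx, smul_zero, add_zero]; exact h1
  refine ⟨u₀ + (s / γ) • x, ?_, ?_, h1', ?_⟩
  · rintro h
    rw [h, map_zero] at h1'
    exact h1' rfl
  · simp only [map_add, map_smulₛₗ, map_smul, LinearMap.add_apply, LinearMap.smul_apply,
      smul_eq_mul, hxx, RingHom.id_apply, map_div₀, ← hγ_def, ← hφγ]
    have e1 : s / γ * γ = s := by field_simp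
    have e2 : φ s / φ γ * φ γ = φ s := by field_simp
    rw [mul_zero, add_zero, e1, e2]
    linear_combination hs
  · rw [map_add, map_smul, hwx, smul_zero, add_zero]; exact h2

/-- a nonisotropic vector orthogonal to a hyperbolic pair when `n ≥ 3` -/
theorem exists_orth_pair (hφ2 : ∀ x, φ (φ x) = x) (hφne : φ ≠ RingHom.id F) (hn : 3 ≤ n)
    (z f : Fin n → F) (hyp : Hyp φ z f) :
    ∃ x, Bs φ n x x ≠ 0 ∧ Bs φ n z x = 0 ∧ Bs φ n f x = 0 := by
  let L : (Fin n → F) →ₗ[F] (Fin 2 → F) := LinearMap.pi ![Bs φ n z, Bs φ n f]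
  have hker : LinearMap.ker L ≠ ⊥ := by
    apply LinearMap.ker_ne_bot_of_finrank_lt
    rw [Module.finrank_fin_fun, Module.finrank_fin_fun]
    omega
  obtain ⟨x₀, hx₀mem, hx₀⟩ := (Submodule.ne_bot_iff _).1 hker
  have hL : ∀ x, L x = 0 → Bs φ n z x = 0 ∧ Bs φ n f x = 0 := by
    intro x hx
    have h0 := congrFun hx 0
    have h1 := congrFun hx 1
    simp only [L, LinearMap.pi_apply, Pi.zero_apply] at h0 h1
    exact ⟨h0, h1⟩
  obtain ⟨h2, h3⟩ := hL x₀ hx₀mem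
  by_cases hx₀x₀ : Bs φ n x₀ x₀ = 0
  · obtain ⟨y, hy⟩ : ∃ y, Bs φ n x₀ y ≠ 0 := exists_nonorth φ x₀ hx₀
    have hx₀z : Bs φ n x₀ z = 0 := by rw [← sym φ hφ2 z x₀, h2, map_zero]
    have hx₀f : Bs φ n x₀ f = 0 := by rw [← sym φ hφ2 f x₀, h3, map_zero]
    obtain ⟨y', hy'_def⟩ : ∃ y', y' = y - Bs φ n f y • z - Bs φ n z y • f := ⟨_, rfl⟩
    have hzy' : Bs φ n z y' = 0 := by
      rw [hy'_def]
      simp only [map_sub, map_smul, smul_eq_mul, hyp.ee, hyp.ef]
      ring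
    have hfy' : Bs φ n f y' = 0 := by
      rw [hy'_def]
      simp only [map_sub, map_smul, smul_eq_mul, hyp.ff, hyp.fe]
      ring
    have hx₀y' : Bs φ n x₀ y' ≠ 0 := by
      rw [hy'_def]
      simp only [map_sub, map_smul, smul_eq_mul, hx₀z, hx₀f]
      rw [mul_zero, mul_zero, sub_zero, sub_zero]
      exact hy
    by_cases hy'y' : Bs φ n y' y' = 0
    · obtain ⟨c, hc_def⟩ : ∃ c, c = Bs φ n x₀ y' := ⟨_, rfl⟩
      have hc0 : c ≠ 0 := by rw [hc_def]; exact hx₀y'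
      have hφc : φ c = Bs φ n y' x₀ := by rw [hc_def]; exact sym φ hφ2 x₀ y'
      obtain ⟨μ, hμ⟩ := exists_trace hφne hφ2 (-1) (by rw [map_neg, map_one])
      refine ⟨x₀ + (μ / c) • y', ?_, ?_, ?_⟩
      · simp only [map_add, map_smulₛₗ, map_smul, LinearMap.add_apply, LinearMap.smul_apply,
          smul_eq_mul, hx₀x₀, hy'y', ← hc_def, ← hφc, RingHom.id_apply, map_div₀]
        have hφc0 : φ c ≠ 0 := (map_ne_zero φ).2 hc0
        have : μ / c * c + φ μ / φ c * φ c = 1 := by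
          field_simp
          linear_combination hμ
        intro h
        apply one_ne_zero (α := F)
        rw [← this]
        linear_combination h
      · rw [map_add, map_smul, h2, hzy', smul_zero, add_zero]
      · rw [map_add, map_smul, h3, hfy', smul_zero, add_zero]
    · exact ⟨y', hy'y', hzy', hfy'⟩
  · exact ⟨x₀, hx₀x₀, h2, h3⟩

/-- (E2) an isotropic vector orthogonal to a hyperbolic pair when `n ≥ 4` -/
theorem exists_iso_orth (hF : Fintype.card F = q ^ 2) (hφ : ∀ x, φ x = x ^ q)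
    (hφ2 : ∀ x, φ (φ x) = x) (hφne : φ ≠ RingHom.id F) (hn : 4 ≤ n) (x w : Fin n → F)
    (hxx : Bs φ n x x = 0) (hww : Bs φ n w w = 0) (hxw : Bs φ n x w ≠ 0) :
    ∃ z, z ≠ 0 ∧ Bs φ n z z = 0 ∧ Bs φ n x z = 0 ∧ Bs φ n w z = 0 := by
  obtain ⟨c, hc_def⟩ : ∃ c, c = Bs φ n x w := ⟨_, rfl⟩
  have hc0 : c ≠ 0 := by rw [hc_def]; exact hxw
  have hwx : Bs φ n w x = φ c := by rw [hc_def]; exact (sym φ hφ2 x w).symm
  obtain ⟨f, hf_def⟩ : ∃ f, f = c⁻¹ • w := ⟨_, rfl⟩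
  have hyp : Hyp φ x f := by
    rw [hf_def]
    refine ⟨hxx, ?_, ?_, ?_⟩
    · simp only [map_smulₛₗ, map_smul, LinearMap.smul_apply, smul_eq_mul, hww, mul_zero]
    · rw [map_smul, ← hc_def, smul_eq_mul, inv_mul_cancel₀ hc0]
    · rw [map_smulₛₗ, LinearMap.smul_apply, hwx, map_inv₀, smul_eq_mul,
        inv_mul_cancel₀ ((map_ne_zero φ).2 hc0)]
  obtain ⟨u, huu, hxu, hfu⟩ := exists_orth_pair φ hφ2 hφne (by omega) x f hyp
  have hux : Bs φ n u x = 0 := by rw [← sym φ hφ2 x u, hxu, map_zero]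
  have huf : Bs φ n u f = 0 := by rw [← sym φ hφ2 f u, hfu, map_zero]
  obtain ⟨v, hvv, huv, hxv, hfv⟩ := exists_orth_three φ hφ2 hφne hn u x f huu hyp hux huf
  have hvu : Bs φ n v u = 0 := by rw [← sym φ hφ2 u v, huv, map_zero]
  obtain ⟨lam, hlam⟩ := exists_norm φ hF hφ (-Bs φ n u u / Bs φ n v v)
    (div_ne_zero (neg_ne_zero.2 huu) hvv)
    (by rw [map_div₀, map_neg, sym φ hφ2, sym φ hφ2])
  have hwz : ∀ z, Bs φ n f z = 0 → Bs φ n w z = 0 := by
    intro z hz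
    rw [hf_def, map_smulₛₗ, LinearMap.smul_apply, smul_eq_mul] at hz
    rcases mul_eq_zero.1 hz with h | h
    · exact absurd h ((map_ne_zero φ).2 (inv_ne_zero hc0))
    · exact h
  have huz : Bs φ n u (u + lam • v) ≠ 0 := by
    rw [map_add, map_smul, huv, smul_zero, add_zero]; exact huu
  refine ⟨u + lam • v, ?_, ?_, ?_, ?_⟩
  · rintro h
    rw [h, map_zero] at huz
    exact huz rfl
  · simp only [map_add, map_smulₛₗ, map_smul, LinearMap.add_apply, LinearMap.smul_apply,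
      smul_eq_mul, huv, hvu, RingHom.id_apply]
    have : lam * φ lam * Bs φ n v v = -Bs φ n u u := by rw [hlam]; field_simp
    linear_combination this
  · rw [map_add, map_smul, hxu, hxv, smul_zero, add_zero]
  · apply hwz
    rw [map_add, map_smul, hfu, hfv, smul_zero, add_zero]

/-- in dimension three there are no totally isotropic planes -/
theorem no_ts_three (hφ2 : ∀ x, φ (φ x) = x) (hφne : φ ≠ RingHom.id F) (hn3 : n = 3)
    (x y : Fin n → F) (hx : x ≠ 0) (hy : y ≠ 0) (hxx : Bs φ n x x = 0) (hyy : Bs φ n y y = 0)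
    (hxy : Bs φ n x y = 0) (hne : ¬ ∃ a : F, a • y = x) : False := by
  subst hn3
  obtain ⟨f, hyp, hfy⟩ := exists_partner_perp φ hφ2 hφne x y hy hxx hxy hne
  obtain ⟨u, huu, hxu, hfu⟩ := exists_orth_pair φ hφ2 hφne (le_refl 3) x f hyp
  have hux : Bs φ 3 u x = 0 := by rw [← sym φ hφ2 x u, hxu, map_zero]
  have huf : Bs φ 3 u f = 0 := by rw [← sym φ hφ2 f u, hfu, map_zero]
  let L : (Fin 3 → F) →ₗ[F] (Fin 3 → F) := LinearMap.pi ![Bs φ 3 x, Bs φ 3 f, Bs φ 3 u]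
  have hLapp : ∀ v, L v = ![Bs φ 3 x v, Bs φ 3 f v, Bs φ 3 u v] := by
    intro v
    funext i
    fin_cases i <;> rfl
  have hsurj : Function.Surjective L := by
    intro b
    refine ⟨b 0 • f + b 1 • x + (b 2 / Bs φ 3 u u) • u, ?_⟩
    rw [hLapp]
    funext i
    fin_cases i
    · simp [hxx, hyp.ef, hxu]
    · simp [hyp.fe, hyp.ff, hfu]
    · simp [hux, huf, huu]
  have hinj : Function.Injective L :=
    (LinearMap.injective_iff_surjective_of_finrank_eq_finrank rfl).2 hsurj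
  have hy1 : y - (Bs φ 3 u y / Bs φ 3 u u) • u = 0 := by
    apply hinj
    rw [map_zero, hLapp]
    funext i
    fin_cases i
    · simp [hxy, hxu]
    · simp [hfy, hfu]
    · simp [huu]
  have hy2 : y = (Bs φ 3 u y / Bs φ 3 u u) • u := sub_eq_zero.1 hy1
  have h0 : Bs φ 3 u y = 0 := by
    rw [hy2] at hyy
    simp only [map_smulₛₗ, map_smul, LinearMap.smul_apply, smul_eq_mul, RingHom.id_apply,
      map_div₀] at hyy
    by_contra hne0
    have hφne0 : φ (Bs φ 3 u y) ≠ 0 := (map_ne_zero φ).2 hne0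
    have hφuu : φ (Bs φ 3 u u) ≠ 0 := (map_ne_zero φ).2 huu
    have : Bs φ 3 u y / Bs φ 3 u u * (φ (Bs φ 3 u y) / φ (Bs φ 3 u u) * Bs φ 3 u u) ≠ 0 :=
      mul_ne_zero (div_ne_zero hne0 huu) (mul_ne_zero (div_ne_zero hφne0 hφuu) huu)
    exact this hyy
  rw [h0, zero_div, zero_smul] at hy2
  exact hy hy2

/-- `SU` acts primitively on the isotropic points -/
theorem isPreprimitive (hF : Fintype.card F = q ^ 2) (hφ : ∀ x, φ x = x ^ q)
    (hφ2 : ∀ x, φ (φ x) = x) (hφne : φ ≠ RingHom.id F) (hn : 3 ≤ n) :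
    MulAction.IsPreprimitive ↥(SUg (n := n) (q := q) (F := F)) ↥(isoPts φ n hφ) := by
  have htrans := isPretransitive (n := n) φ hF hφ hφ2 hφne
  refine { htrans with isTrivialBlock_of_isBlock := ?_ }
  intro Δ hΔ
  by_cases hs : Δ.Subsingleton
  · exact Or.inl hs
  right
  rw [Set.not_subsingleton_iff] at hs
  obtain ⟨p, hp, p', hp', hne⟩ := hs
  obtain ⟨x, hx, hxx, rfl⟩ := exists_mkI φ hφ p
  obtain ⟨y, hy, hyy, rfl⟩ := exists_mkI φ hφ p'
  rw [Set.eq_univ_iff_forall]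
  intro r
  obtain ⟨w, hw, hww, rfl⟩ := exists_mkI φ hφ r
  by_cases hxy : Bs φ n x y ≠ 0
  · by_cases hxw : Bs φ n x w ≠ 0
    · exact claimA φ hF hφ hφ2 hφne hΔ x y w hx hy hw hxx hyy hww hp hp' hxy hxw
    · rw [not_not] at hxw
      obtain ⟨u, hu, huu, hxu, hwu⟩ := exists_iso_nonorth φ hφ2 hφne x w hx hw hxx hxw
      have huΔ : mkI φ hφ u hu huu ∈ Δ :=
        claimA φ hF hφ hφ2 hφne hΔ x y u hx hy hu hxx hyy huu hp hp' hxy hxu
      have hux : Bs φ n u x ≠ 0 := by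
        rw [← sym φ hφ2 x u]; exact (map_ne_zero φ).2 hxu
      have huw : Bs φ n u w ≠ 0 := by
        rw [← sym φ hφ2 w u]; exact (map_ne_zero φ).2 hwu
      exact claimA φ hF hφ hφ2 hφne hΔ u x w hu hx hw huu hxx hww huΔ hp hux huw
  · rw [not_not] at hxy
    by_cases hxw : Bs φ n x w = 0
    · by_cases hxw' : mkI φ hφ x hx hxx = mkI φ hφ w hw hww
      · rw [← hxw']; exact hp
      · exact claimB φ hF hφ hφ2 hφne hΔ x y w hx hy hw hxx hyy hww hp hp' hne hxw' hxy hxw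
    · by_cases hn4 : 4 ≤ n
      · obtain ⟨z, hz, hzz, hxz, hwz⟩ := exists_iso_orth φ hF hφ hφ2 hφne hn4 x w hxx hww hxw
        have hzx : Bs φ n z x = 0 := by rw [← sym φ hφ2 x z, hxz, map_zero]
        have hzw : Bs φ n z w = 0 := by rw [← sym φ hφ2 w z, hwz, map_zero]
        have hnez : mkI φ hφ x hx hxx ≠ mkI φ hφ z hz hzz := by
          intro h
          rw [mkI_eq_iff] at h
          obtain ⟨a, ha⟩ := h
          apply hxw
          rw [← ha, map_smulₛₗ, LinearMap.smul_apply, hzw, smul_zero]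
        have hzΔ : mkI φ hφ z hz hzz ∈ Δ :=
          claimB φ hF hφ hφ2 hφne hΔ x y z hx hy hz hxx hyy hzz hp hp' hne hnez hxy hxz
        have hnezw : mkI φ hφ z hz hzz ≠ mkI φ hφ w hw hww := by
          intro h
          rw [mkI_eq_iff] at h
          obtain ⟨a, ha⟩ := h
          apply hxw
          have : Bs φ n x z = a * Bs φ n x w := by
            rw [← ha, map_smul, smul_eq_mul]
          rw [hxz] at this
          have ha0 : a ≠ 0 := by
            rintro rfl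
            rw [zero_smul] at ha
            exact hz ha.symm
          exact (mul_eq_zero.1 this.symm).resolve_left ha0
        exact claimB φ hF hφ hφ2 hφne hΔ z x w hz hx hw hzz hxx hww hzΔ hp hnez.symm hnezw
          hzx hzw
      · exfalso
        have hn3 : n = 3 := by omega
        apply no_ts_three φ hφ2 hφne hn3 x y hx hy hxx hyy hxy
        rintro ⟨a, ha⟩
        apply hne
        rw [mkI_eq_iff]
        exact ⟨a, ha⟩

end prim

end Cfsg.Agent.Lib.H11.USimple
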