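import Cfsg.Agent.Lib.H11.UnitarySimple3
import Cfsg.Agent.Lib.H11.OmegaSimple

set_option autoImplicit false
set_option linter.unusedSimpArgs false
set_option linter.unusedSectionVars false
set_option linter.unusedVariables false

namespace Cfsg.Agent.Lib.H11.USimple

open Matrix
open scoped MatrixGroups LinearAlgebra.Projectivization Pointwise commutatorElement
open Cfsg.Agent.S0837 (Bs Bs_apply Bs_symm Bs_nondeg)
open Cfsg.Agent.S0782 (Tm Tm_mulVec Tm_det Bs_eq_herm exists_trace rot rot_mulVec rot_det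
  rot_preserves exists_hyp_partner hilbert90 gu_preserves guOfEquiv guOfEquiv_mulVec)
open Cfsg.Agent.Lib.H11.UGen

section root
variable {F : Type*} [Field F] {n : ℕ} {q : ℕ} (φ : F →+* F)

theorem Um_smul (x : Fin n → F) (a s : F) : Um φ (a • x) s = Um φ x (a * φ a * s) := by
  rw [Matrix.ext_iff_mulVec]
  intro y
  rw [Um_mulVec, Um_mulVec, map_smulₛₗ, LinearMap.smul_apply, smul_eq_mul, smul_smul]
  congr 2
  ring

/-- generators of the root subgroup at `x` -/
def rootGens (x : Fin n → F) : Set ↥(Cfsg.GU n F q) := {g | ∃ s : F, g.1.1 = Um φ x s}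

/-- the root subgroup at `x` -/
def rootG (x : Fin n → F) : Subgroup ↥(Cfsg.GU n F q) := Subgroup.closure (rootGens φ x)

theorem rootGens_comm (x : Fin n → F) (hxx : Bs φ n x x = 0) (g g' : ↥(Cfsg.GU n F q))
    (hg : g ∈ rootGens φ x) (hg' : g' ∈ rootGens φ x) : g * g' = g' * g := by
  obtain ⟨s, hs⟩ := hg
  obtain ⟨s', hs'⟩ := hg'
  apply Subtype.ext
  apply Units.ext
  show g.1.1 * g'.1.1 = g'.1.1 * g.1.1
  rw [hs, hs', Um_mul, Um_mul, hxx, mul_zero, mul_zero, add_zero, add_zero, add_comm]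

theorem rootG_comm (x : Fin n → F) (hxx : Bs φ n x x = 0) :
    IsMulCommutative ↥(rootG (q := q) φ x) := by
  refine ⟨⟨?_⟩⟩
  rintro ⟨a, ha⟩ ⟨b, hb⟩
  apply Subtype.ext
  show a * b = b * a
  have hcent : rootG (q := q) φ x ≤
      Subgroup.centralizer (rootG (q := q) φ x : Set ↥(Cfsg.GU n F q)) := by
    unfold rootG
    rw [Subgroup.closure_le]
    intro g hg
    rw [SetLike.mem_coe, Subgroup.mem_centralizer_iff]
    intro h hh
    rw [SetLike.mem_coe] at hh
    induction hh using Subgroup.closure_induction with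
    | mem y hy => exact rootGens_comm φ x hxx y g hy hg
    | one => simp
    | mul y z _ _ hy hz => rw [mul_assoc, hz, ← mul_assoc, hy, mul_assoc]
    | inv y _ hy =>
      calc y⁻¹ * g = y⁻¹ * (g * y) * y⁻¹ := by group
        _ = y⁻¹ * (y * g) * y⁻¹ := by rw [hy]
        _ = g * y⁻¹ := by group
  have := hcent ha
  rw [Subgroup.mem_centralizer_iff] at this
  exact (this b hb).symm

theorem rootGens_smul_subset (x : Fin n → F) (a : F) :
    rootGens (q := q) φ (a • x) ⊆ rootGens φ x := by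
  rintro g ⟨s, hg⟩
  exact ⟨a * φ a * s, by rw [hg, Um_smul]⟩

theorem rootG_smul (x : Fin n → F) (a : F) (ha : a ≠ 0) :
    rootG (q := q) φ (a • x) = rootG φ x := by
  apply le_antisymm
  · exact Subgroup.closure_mono (rootGens_smul_subset φ x a)
  · have := rootGens_smul_subset (q := q) φ (a • x) a⁻¹
    rw [smul_smul, inv_mul_cancel₀ ha, one_smul] at this
    exact Subgroup.closure_mono this

theorem conj_mem_rootGens (hφ : ∀ x, φ x = x ^ q) (g s : ↥(Cfsg.GU n F q)) (x : Fin n → F)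
    (hs : s ∈ rootGens φ x) : g * s * g⁻¹ ∈ rootGens φ (act g x) := by
  obtain ⟨c, hs⟩ := hs
  refine ⟨c, ?_⟩
  apply val_eq_of_act
  intro y
  rw [act_mul, act_mul, ← act_Um φ hφ, ← hs]
  rfl

theorem conj_mem_rootG (hφ : ∀ x, φ x = x ^ q) (g s : ↥(Cfsg.GU n F q)) (x : Fin n → F)
    (hs : s ∈ rootG φ x) : g * s * g⁻¹ ∈ rootG φ (act g x) := by
  unfold rootG at hs ⊢
  induction hs using Subgroup.closure_induction with
  | mem s hs => exact Subgroup.subset_closure (conj_mem_rootGens φ hφ g s x hs)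
  | one => simp
  | mul y z _ _ hy hz =>
    have : g * (y * z) * g⁻¹ = (g * y * g⁻¹) * (g * z * g⁻¹) := by group
    rw [this]
    exact mul_mem hy hz
  | inv y _ hy =>
    have : g * y⁻¹ * g⁻¹ = (g * y * g⁻¹)⁻¹ := by group
    rw [this]
    exact inv_mem hy

/-- the root subgroup of a point -/
noncomputable def rootP (p : ℙ F (Fin n → F)) : Subgroup ↥(Cfsg.GU n F q) := rootG φ p.rep

theorem rootP_mk (v : Fin n → F) (hv : v ≠ 0) :
    rootP (q := q) φ (Projectivization.mk F v hv) = rootG φ v := by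
  obtain ⟨a, ha⟩ := Projectivization.exists_smul_eq_mk_rep F v hv
  rw [rootP, ← ha, Units.smul_def, rootG_smul φ v _ a.ne_zero]

theorem conj_mem_rootP (hφ : ∀ x, φ x = x ^ q) (g s : ↥(Cfsg.GU n F q))
    (p : ℙ F (Fin n → F)) (hs : s ∈ rootP φ p) : g * s * g⁻¹ ∈ rootP φ (g • p) := by
  induction p using Projectivization.ind with
  | h v hv =>
    rw [rootP_mk] at hs
    rw [smul_mk, rootP_mk]
    exact conj_mem_rootG φ hφ g s v hs

/-- the root subgroups inside `SU` -/
noncomputable def rootT (hφ : ∀ x, φ x = x ^ q) (p : ↥(isoPts φ n hφ)) :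
    Subgroup ↥(SUg (n := n) (q := q) (F := F)) :=
  (rootP φ p.1).subgroupOf SUg

theorem rootT_comm (hφ : ∀ x, φ x = x ^ q) (p : ↥(isoPts φ n hφ)) :
    IsMulCommutative ↥(rootT φ hφ p) := by
  have hu : Bs φ n p.1.rep p.1.rep = 0 := p.2
  have := rootG_comm (q := q) φ p.1.rep hu
  refine ⟨⟨?_⟩⟩
  rintro ⟨a, ha⟩ ⟨b, hb⟩
  apply Subtype.ext
  apply Subtype.ext
  show a.1 * b.1 = b.1 * a.1
  have h := this.is_comm.comm ⟨a.1, ha⟩ ⟨b.1, hb⟩
  exact congrArg Subtype.val h

theorem rootT_conj_le (hφ : ∀ x, φ x = x ^ q) (g : ↥(SUg (n := n) (q := q) (F := F)))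
    (p : ↥(isoPts φ n hφ)) :
    MulAut.conj g • rootT φ hφ p ≤ rootT φ hφ (g • p) := by
  rintro _ ⟨t, ht, rfl⟩
  show g * t * g⁻¹ ∈ rootT φ hφ (g • p)
  rw [rootT, Subgroup.mem_subgroupOf]
  exact conj_mem_rootP φ hφ g.1 t.1 p.1 ht

theorem rootT_conj (hφ : ∀ x, φ x = x ^ q) (g : ↥(SUg (n := n) (q := q) (F := F)))
    (p : ↥(isoPts φ n hφ)) :
    rootT φ hφ (g • p) = MulAut.conj g • rootT φ hφ p := by
  apply le_antisymm
  · have h1 := rootT_conj_le φ hφ g⁻¹ (g • p)
    rw [inv_smul_smul] at h1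
    intro x hx
    rw [Subgroup.mem_pointwise_smul_iff_inv_smul_mem]
    apply h1
    rw [← map_inv]
    exact Subgroup.smul_mem_pointwise_smul _ _ _ hx
  · exact rootT_conj_le φ hφ g p

end root

end Cfsg.Agent.Lib.H11.USimple
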